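import Mathlib

/-!
# Associated primes and open immersions of affine schemes (helper9)

* `Helper9QFAss.localRingHom_bijective`: for `Spec B → Spec B'` an open immersion the local ring maps
  `B'_{q ∩ B'} → B_q` are bijective.
* `Helper9QFAss.mem_ass_iff_of_common_localization`: abstract form.
* `Helper9QFAss.mem_associatedPrimes_baseChange_iff`: for `Spec B → Spec B'` an open immersion of Noetherian
  affine schemes and a `B'`-module `M`, `q ∈ Ass_B (B ⊗ M) ↔ q ∩ B' ∈ Ass_{B'} M`.
-/

set_option autoImplicit false
set_option linter.style.haveILetI false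
universe u
open TensorProduct AlgebraicGeometry CategoryTheory

namespace Helper9QFAss

/-- open immersion of spectra: local ring maps are bijective -/
theorem localRingHom_bijective {B' B : Type u} [CommRing B'] [CommRing B] [Algebra B' B]
    (hopen : IsOpenImmersion (Spec.map (CommRingCat.ofHom (algebraMap B' B))))
    (q : Ideal B) [hq : q.IsPrime] :
    Function.Bijective (Localization.localRingHom (q.comap (algebraMap B' B)) q
      (algebraMap B' B) rfl) := by
  haveI := hopen
  let p : PrimeSpectrum B := ⟨q, hq⟩
  have h1 : IsIso ((Spec.map (CommRingCat.ofHom (algebraMap B' B))).stalkMap p) :=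
    (IsOpenImmersion.iff_isIso_stalkMap.mp hopen).2 p
  have h2 := (MorphismProperty.isomorphisms CommRingCat).arrow_mk_iso_iff
    (Scheme.arrowStalkMapSpecIso (CommRingCat.ofHom (algebraMap B' B)) p)
  have h3 : IsIso (CommRingCat.ofHom (Localization.localRingHom
      (p.comap (CommRingCat.ofHom (algebraMap B' B)).hom).asIdeal p.asIdeal
      (CommRingCat.ofHom (algebraMap B' B)).hom rfl)) := h2.mp h1
  exact (ConcreteCategory.isIso_iff_bijective _).mp h3

/-- abstract form: if `T` is simultaneously the localization of `S` at `q` and of `R` at `q ∩ R`, then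
for a base change `M → N` from `R` to `S`, `q ∈ Ass_S N ↔ q ∩ R ∈ Ass_R M`. -/
theorem mem_ass_iff_of_common_localization
    {R S T : Type*} [CommRing R] [CommRing S] [CommRing T]
    [Algebra R S] [Algebra S T] [Algebra R T] [IsScalarTower R S T]
    [IsNoetherianRing R] [IsNoetherianRing S]
    (q : Ideal S) [hq : q.IsPrime]
    [IsLocalization.AtPrime T q] [IsLocalization.AtPrime T (q.comap (algebraMap R S))]
    {M N N' : Type*} [AddCommGroup M] [Module R M] [AddCommGroup N] [Module R N] [Module S N]
    [IsScalarTower R S N] [AddCommGroup N'] [Module R N'] [Module S N'] [Module T N']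
    [IsScalarTower R S N'] [IsScalarTower S T N'] [IsScalarTower R T N']
    (f : M →ₗ[R] N) (hf : IsBaseChange S f)
    (g : N →ₗ[S] N') [hg : IsLocalizedModule q.primeCompl g] :
    q ∈ associatedPrimes S N ↔ q.comap (algebraMap R S) ∈ associatedPrimes R M := by
  haveI : IsLocalRing T := IsLocalization.AtPrime.isLocalRing T q
  have h1 := Module.associatedPrimes.preimage_comap_associatedPrimes_eq_associatedPrimes_of_isLocalizedModule
    q.primeCompl T g
  have hgT : IsBaseChange T g := IsLocalizedModule.isBaseChange q.primeCompl T g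
  have hfg : IsBaseChange T (g.restrictScalars R ∘ₗ f) := hf.comp hgT
  haveI : IsLocalizedModule (q.comap (algebraMap R S)).primeCompl (g.restrictScalars R ∘ₗ f) :=
    (isLocalizedModule_iff_isBaseChange (q.comap (algebraMap R S)).primeCompl T _).mpr hfg
  have h2 := Module.associatedPrimes.preimage_comap_associatedPrimes_eq_associatedPrimes_of_isLocalizedModule
    (q.comap (algebraMap R S)).primeCompl T (g.restrictScalars R ∘ₗ f)
  have e1 : (IsLocalRing.maximalIdeal T).comap (algebraMap S T) = q :=
    IsLocalization.AtPrime.under_maximalIdeal T q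
  have e2 : (IsLocalRing.maximalIdeal T).comap (algebraMap R T) = q.comap (algebraMap R S) :=
    IsLocalization.AtPrime.under_maximalIdeal T (q.comap (algebraMap R S))
  have m1 : IsLocalRing.maximalIdeal T ∈ associatedPrimes T N' ↔ q ∈ associatedPrimes S N := by
    rw [← h1, Set.mem_preimage, e1]
  have m2 : IsLocalRing.maximalIdeal T ∈ associatedPrimes T N' ↔
      q.comap (algebraMap R S) ∈ associatedPrimes R M := by
    rw [← h2, Set.mem_preimage, e2]
  rw [← m1, m2]

/-- For `Spec B → Spec B'` an open immersion of Noetherian affine schemes and a `B'`-module `M`,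
`q ∈ Ass_B (B ⊗ M) ↔ q ∩ B' ∈ Ass_{B'} M`. -/
theorem mem_associatedPrimes_baseChange_iff {B' B : Type u} [CommRing B'] [CommRing B] [Algebra B' B]
    [IsNoetherianRing B'] [IsNoetherianRing B]
    (hopen : IsOpenImmersion (Spec.map (CommRingCat.ofHom (algebraMap B' B))))
    (M : Type*) [AddCommGroup M] [Module B' M]
    (q : Ideal B) [hq : q.IsPrime] :
    q ∈ associatedPrimes B (B ⊗[B'] M) ↔ q.comap (algebraMap B' B) ∈ associatedPrimes B' M := by
  let φ := Localization.localRingHom (q.comap (algebraMap B' B)) q (algebraMap B' B) rfl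
  have hφ : Function.Bijective φ := localRingHom_bijective hopen q
  let e : Localization.AtPrime (q.comap (algebraMap B' B)) ≃ₐ[B'] Localization.AtPrime q :=
    AlgEquiv.ofBijective ⟨φ, fun x => Localization.localRingHom_to_map _ _ _ _ x⟩ hφ
  haveI : IsLocalization.AtPrime (Localization.AtPrime q) (q.comap (algebraMap B' B)) :=
    IsLocalization.isLocalization_of_algEquiv (q.comap (algebraMap B' B)).primeCompl e
  exact mem_ass_iff_of_common_localization (T := Localization.AtPrime q)
    (N' := LocalizedModule q.primeCompl (B ⊗[B'] M)) q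
    (TensorProduct.mk B' B M 1)
    (TensorProduct.isBaseChange B' M B) (LocalizedModule.mkLinearMap q.primeCompl (B ⊗[B'] M))

end Helper9QFAss
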