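import Groth.Statements.S9869
import Mathlib
import Groth.Agent.Lib.H5bFppfLocal
import Groth.Agent.Lib.Helper12QuotSh
import Groth.Agent.S9884

set_option autoImplicit false
universe u
open CategoryTheory CategoryTheory.Limits AlgebraicGeometry
open AlgSp

namespace Groth.Agent.S9869

open Groth.Agent.Lib.Helper9 Groth.Agent.Lib.Helper12.QuotShLib Groth.Agent.Lib.H5bFppfLocal

variable {S : Scheme.{u}}

/-- Mathlib's structure of equivalence relation from the pointwise definition. -/
noncomputable def equivalenceRelation {R U : Over S} {s t : R ⟶ U} (h : AlgSp.IsEqvRel s t) :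
    EquivalenceRelation s t := by
  have hr := (h.equivalence U).refl (𝟙 U)
  have hs := (h.equivalence R).symm (x := 𝟙 R ≫ t) (y := 𝟙 R ≫ s) ⟨𝟙 R, rfl, rfl⟩
  have ht := (h.equivalence (pullback t s)).trans (x := pullback.snd t s ≫ t)
    (y := pullback.fst t s ≫ t) (z := pullback.fst t s ≫ s)
    ⟨pullback.snd t s, rfl, pullback.condition.symm⟩ ⟨pullback.fst t s, rfl, rfl⟩
  exact
    { right_cancellation := fun Y f g h₁ h₂ => h.injective Y f g h₂ h₁
      r := hr.choose
      reflexivity₁ := hr.choose_spec.2
      reflexivity₂ := hr.choose_spec.1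
      s := hs.choose
      symmetry₁ := by rw [hs.choose_spec.2, Category.id_comp]
      symmetry₂ := by rw [hs.choose_spec.1, Category.id_comp]
      c := pullback.cone t s
      isLimit := pullback.isLimit t s
      t := ht.choose
      transitivity₁ := ht.choose_spec.2
      transitivity₂ := ht.choose_spec.1 }

/-- naturality of the identification of `h_V` with the sheafified representable presheaf. -/
lemma repMap_comp_repIso {V W : Over S} (g : V ⟶ W) :
    QuotSh.repMap Scheme.fppfPrecoverage g ≫ (QuotSh.repIsoUliftYoneda Scheme.fppfPrecoverage W).hom =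
      (QuotSh.repIsoUliftYoneda Scheme.fppfPrecoverage V).hom ≫ (AlgSp.yon S).map g := by
  have key : (sheafificationIso ((AlgSp.yon S).obj V)).hom ≫ QuotSh.repMap Scheme.fppfPrecoverage g =
      (AlgSp.yon S).map g ≫ (sheafificationIso ((AlgSp.yon S).obj W)).hom := by
    apply Sheaf.hom_ext
    exact (toSheafify_naturality (AlgSp.J S)
      (Functor.whiskerRight (yoneda.map g) uliftFunctor.{u + 1, u})).symm
  show QuotSh.repMap Scheme.fppfPrecoverage g ≫ (sheafificationIso ((AlgSp.yon S).obj W)).inv =
    (sheafificationIso ((AlgSp.yon S).obj V)).inv ≫ (AlgSp.yon S).map g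
  exact (Iso.comp_inv_eq _).2 (((Iso.eq_inv_comp _).2 key).trans (Category.assoc _ _ _).symm)

/-- Let `s, t : R ⟶ U` be an etale equivalence relation on a scheme `U` over `S` and suppose that the
fppf quotient sheaf `U/R` is an algebraic space over `S`. Then the quotient map `h_U ⟶ U/R` is
representable etale and representable surjective, and `(U, R, h_U ⟶ U/R)` is a presentation of `U/R`
(in particular `h_R`, with `h_t` and `h_s`, is the fibre product `h_U ×_{U/R} h_U`). The quotient
map is written on `h_U` through the canonical identification of `h_U` with the sheafified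
representable presheaf. -/
theorem result (S : Scheme.{u}) {R U : Over S} (s t : R ⟶ U)
    (h : AlgSp.IsEtaleEqvRel s t) (hq : AlgSp.IsAlgSpace (QuotSh.quot Scheme.fppfPrecoverage s t)) :
    AlgSp.IsPresentation s t
      ((QuotSh.repIsoUliftYoneda Scheme.fppfPrecoverage U).inv ≫ QuotSh.quotπ Scheme.fppfPrecoverage s t) := by
  have e := equivalenceRelation h.toIsEqvRel
  haveI : JointlyMono₂ s t := e.toReflexiveRelation.toJointlyMono₂
  haveI : JointlyMono₂ ((repFunctor Scheme.fppfPrecoverage S).map s)
      ((repFunctor Scheme.fppfPrecoverage S).map t) :=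
    jointlyMono₂_map (repFunctor Scheme.fppfPrecoverage S) s t
  have e' : EquivalenceRelation (QuotSh.repMap Scheme.fppfPrecoverage s)
      (QuotSh.repMap Scheme.fppfPrecoverage t) :=
    equivalenceRelationMap (repFunctor Scheme.fppfPrecoverage S) s t e
  have hk : IsKernelPair (QuotSh.quotπ Scheme.fppfPrecoverage s t)
      (QuotSh.repMap Scheme.fppfPrecoverage s) (QuotSh.repMap Scheme.fppfPrecoverage t) :=
    sheaf_isKernelPair_of_isColimit (QuotSh.J Scheme.fppfPrecoverage S) e'
      (QuotSh.quotπ Scheme.fppfPrecoverage s t) (QuotSh.quot_condition Scheme.fppfPrecoverage s t)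
      (coequalizerIsCoequalizer _ _)
  have sq : IsPullback ((AlgSp.yon S).map s) ((AlgSp.yon S).map t)
      ((QuotSh.repIsoUliftYoneda Scheme.fppfPrecoverage U).inv ≫
        QuotSh.quotπ Scheme.fppfPrecoverage s t)
      ((QuotSh.repIsoUliftYoneda Scheme.fppfPrecoverage U).inv ≫
        QuotSh.quotπ Scheme.fppfPrecoverage s t) :=
    IsPullback.of_iso hk (QuotSh.repIsoUliftYoneda Scheme.fppfPrecoverage R)
      (QuotSh.repIsoUliftYoneda Scheme.fppfPrecoverage U)
      (QuotSh.repIsoUliftYoneda Scheme.fppfPrecoverage U) (Iso.refl _)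
      (repMap_comp_repIso s) (repMap_comp_repIso t) (by simp) (by simp)
  haveI : Epi ((QuotSh.repIsoUliftYoneda Scheme.fppfPrecoverage U).inv ≫
      QuotSh.quotπ Scheme.fppfPrecoverage s t) := by
    haveI : Epi (QuotSh.quotπ Scheme.fppfPrecoverage s t) :=
      inferInstanceAs (Epi (coequalizer.π _ _))
    exact epi_comp _ _
  haveI : Sheaf.IsLocallySurjective ((QuotSh.repIsoUliftYoneda Scheme.fppfPrecoverage U).inv ≫
      QuotSh.quotπ Scheme.fppfPrecoverage s t) :=
    (Sheaf.isLocallySurjective_iff_epi _).2 inferInstance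
  have hrep := hq.representable_from_yon ((QuotSh.repIsoUliftYoneda Scheme.fppfPrecoverage U).inv ≫
      QuotSh.quotπ Scheme.fppfPrecoverage s t)
  haveI := h.etale_left
  haveI := h.etale_right
  have hsurj : Surjective t.left := by
    obtain ⟨r, hr1, -⟩ := (h.equivalence U).refl (𝟙 U)
    constructor
    intro x
    refine ⟨r.left x, ?_⟩
    rw [← Scheme.Hom.comp_apply, ← Over.comp_left, hr1]
    rfl
  refine ⟨h, ?_, ?_, sq.flip⟩
  · exact Groth.Agent.S9884.repWith_of_locallySurjective _ hrep _ _ _ sq @Etale
      ((AlgSp.repWith_yon_map_iff @Etale t).2 h.etale_right)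
  · exact Groth.Agent.S9884.repWith_of_locallySurjective _ hrep _ _ _ sq @Surjective
      ((AlgSp.repWith_yon_map_iff @Surjective t).2 hsurj)

end Groth.Agent.S9869
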