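import Groth.Statements.S10557
import Mathlib
import Groth.Agent.Lib.H5bFppfSrc
import Groth.Agent.Lib.Helper6LfpComp
import Groth.Agent.S13210
import Groth.Agent.S9874

set_option autoImplicit false
universe u
open CategoryTheory CategoryTheory.Limits AlgebraicGeometry
open AlgSp

namespace Groth.Agent.S10557

open TensorProduct Opposite


/-- `A → B → C → D` with `A → C` flat and `B → D` faithfully flat: then `A → B` is flat. -/
theorem flat_of_comp_of_faithfullyFlat {A B C D : Type u} [CommRing A] [CommRing B] [CommRing C]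
    [CommRing D] [Algebra A B] [Algebra A C] [Algebra A D] [Algebra B D]
    [IsScalarTower A B D] (bc : B →ₐ[A] C) (cd : C →ₐ[A] D)
    (hbd : ∀ b, cd (bc b) = algebraMap B D b)
    [Module.Flat A C] [Module.FaithfullyFlat B D] : Module.Flat A B := by
  rw [Module.Flat.iff_lTensor_preserves_injective_linearMap]
  intro N N' _ _ _ _ f hf
  -- injectivity of `B ⊗ N → D ⊗ N`
  have hinj : Function.Injective ((cd.comp bc).toLinearMap.rTensor N) := by
    have h1 := Module.FaithfullyFlat.tensorProduct_mk_injective (A := B) (B := D) (B ⊗[A] N)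
    have h2 : ((cd.comp bc).toLinearMap.rTensor N : B ⊗[A] N → D ⊗[A] N) =
        (AlgebraTensorModule.cancelBaseChange A B D D N) ∘ (TensorProduct.mk B D (B ⊗[A] N) 1) := by
      ext x
      induction x using TensorProduct.induction_on with
      | zero => simp
      | tmul b n =>
        simp only [LinearMap.rTensor_tmul, AlgHom.toLinearMap_apply, AlgHom.coe_comp,
          Function.comp_apply, mk_apply, AlgebraTensorModule.cancelBaseChange_tmul, hbd]
        rw [Algebra.smul_def, mul_one]
      | add x y hx hy =>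
        simp only [map_add, Function.comp_apply] at hx hy ⊢
        rw [hx, hy]
    rw [h2]
    exact (AlgebraTensorModule.cancelBaseChange A B D D N).injective.comp h1
  have hC : Function.Injective (f.lTensor C) := Module.Flat.lTensor_preserves_injective_linearMap f hf
  rw [injective_iff_map_eq_zero]
  intro x hx
  apply hinj
  rw [map_zero]
  have h3 : (cd.comp bc).toLinearMap.rTensor N x = cd.toLinearMap.rTensor N (bc.toLinearMap.rTensor N x) := by
    rw [← LinearMap.comp_apply, ← LinearMap.rTensor_comp]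
    rfl
  rw [h3]
  have h4 : bc.toLinearMap.rTensor N x = 0 := by
    apply hC
    rw [map_zero, ← LinearMap.comp_apply, LinearMap.lTensor_comp_rTensor,
      ← LinearMap.rTensor_comp_lTensor, LinearMap.comp_apply, hx, map_zero]
  rw [h4, map_zero]



theorem ringHom_flat_of_comp {A B C D : Type u} [CommRing A] [CommRing B] [CommRing C]
    [CommRing D] [IsLocalRing B] [IsLocalRing D] (α : A →+* B) (β : B →+* C) (γ : C →+* D)
    (h1 : (β.comp α).Flat) (h2 : (γ.comp β).Flat) [IsLocalHom (γ.comp β)] : α.Flat := by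
  letI : Algebra A B := α.toAlgebra
  letI : Algebra A C := (β.comp α).toAlgebra
  letI : Algebra A D := (γ.comp (β.comp α)).toAlgebra
  letI : Algebra B D := (γ.comp β).toAlgebra
  haveI : IsScalarTower A B D := IsScalarTower.of_algebraMap_eq' rfl
  haveI : Module.Flat A C := h1
  haveI : Module.Flat B D := h2
  haveI : IsLocalHom (algebraMap B D) := ‹IsLocalHom (γ.comp β)›
  haveI : Module.FaithfullyFlat B D := Module.FaithfullyFlat.of_flat_of_isLocalHom
  let bc : B →ₐ[A] C := { β with commutes' := fun _ => rfl }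
  let cd : C →ₐ[A] D := { γ with commutes' := fun _ => rfl }
  exact flat_of_comp_of_faithfullyFlat bc cd (fun _ => rfl)



variable {T V W : Scheme.{u}} (t : T ⟶ V) (k : V ⟶ W)

/-- local fppf sections of `t` through every point of `V`. -/
def HasLocalSections : Prop :=
  ∀ v : V, ∃ (T' : Scheme.{u}) (r : T' ⟶ T) (x' : T'), t (r x') = v ∧ Flat (r ≫ t) ∧
    LocallyOfFinitePresentation (r ≫ t)

theorem flat_of_hasLocalSections (H : HasLocalSections t) (h : Flat (t ≫ k)) : Flat k := by
  rw [Flat.iff_flat_stalkMap]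
  intro v
  obtain ⟨T', r, x', rfl, hfl, -⟩ := H v
  have e1 : ((t ≫ k).stalkMap (r x')).hom =
      (t.stalkMap (r x')).hom.comp (k.stalkMap (t (r x'))).hom := by
    rw [Scheme.Hom.stalkMap_comp]; rfl
  have e2 : ((r ≫ t).stalkMap x').hom =
      (r.stalkMap x').hom.comp (t.stalkMap (r x')).hom := by
    rw [Scheme.Hom.stalkMap_comp]; rfl
  have h1 : ((t.stalkMap (r x')).hom.comp (k.stalkMap (t (r x'))).hom).Flat :=
    e1 ▸ Flat.stalkMap (t ≫ k) (r x')
  have h2 : ((r.stalkMap x').hom.comp (t.stalkMap (r x')).hom).Flat :=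
    e2 ▸ Flat.stalkMap (r ≫ t) x'
  haveI : IsLocalHom ((r.stalkMap x').hom.comp (t.stalkMap (r x')).hom) :=
    e2 ▸ (inferInstance : IsLocalHom ((r ≫ t).stalkMap x').hom)
  exact ringHom_flat_of_comp (k.stalkMap (t (r x'))).hom (t.stalkMap (r x')).hom
    (r.stalkMap x').hom h1 h2

/-- a morphism `r` with `r ≫ t` flat lfp is locally of finite type. -/
theorem lft_of_comp {T' : Scheme.{u}} (r : T' ⟶ T) [LocallyOfFinitePresentation (r ≫ t)] :
    LocallyOfFiniteType r := by
  have hl : pullback.lift r (𝟙 T') (by simp) ≫ pullback.snd t (r ≫ t) = 𝟙 T' := pullback.lift_snd _ _ _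
  haveI : IsImmersion (pullback.lift r (𝟙 T') (by simp) ≫ pullback.snd t (r ≫ t)) := by
    rw [hl]; infer_instance
  haveI : IsImmersion (pullback.lift r (𝟙 T') (by simp : r ≫ t = 𝟙 T' ≫ (r ≫ t))) :=
    IsImmersion.of_comp _ (pullback.snd t (r ≫ t))
  have : r = pullback.lift r (𝟙 T') (by simp : r ≫ t = 𝟙 T' ≫ (r ≫ t)) ≫ pullback.fst t (r ≫ t) :=
    (pullback.lift_fst _ _ _).symm
  rw [this]
  infer_instance



open Groth.Agent.Lib.H5bFppfSrc

variable {T V W : Scheme.{u}} (t : T ⟶ V) (k : V ⟶ W)

theorem of_pointwise_fppf {P : MorphismProperty Scheme.{u}}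
    {Q : ∀ {R S : Type u} [CommRing R] [CommRing S], (R →+* S) → Prop}
    [HasRingHomProperty P Q]
    (hQ : RingHom.StableUnderCompositionWithLocalizationAwaySource Q)
    (hdesc : ∀ {R A B : Type u} [CommRing R] [CommRing A] [CommRing B] (φ : R →+* A)
      (ψ : A →+* B), ψ.Flat → ψ.FinitePresentation →
        Function.Surjective (PrimeSpectrum.comap ψ) → Q (ψ.comp φ) → Q φ)
    (H : ∀ v : V, ∃ (T' : Scheme.{u}) (p : T' ⟶ V) (x' : T'), p x' = v ∧ Flat p ∧
      LocallyOfFinitePresentation p ∧ P (p ≫ k)) : P k := by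
  rw [HasRingHomProperty.iff_exists_appLE (P := P) hQ]
  intro v
  obtain ⟨T', p, x', rfl, hp1, hp2, hp3⟩ := H v
  exact exists_appLE_of_fppf_source (P := P) hdesc p k hp3 x'

theorem lft_of_hasLocalSections (H : HasLocalSections t) (h : LocallyOfFiniteType (t ≫ k)) :
    LocallyOfFiniteType k := by
  refine of_pointwise_fppf (P := @LocallyOfFiniteType) (Q := @RingHom.FiniteType) k ?_ ?_ ?_
  · intro R S T _ _ _ _ r _ φ hφ
    exact hφ.comp (RingHom.finiteType_holdsForLocalizationAway S r)
  · intro R A B _ _ _ φ ψ hψ1 hψ2 hs hc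
    algebraize [φ, ψ, ψ.comp φ]
    have : Module.Flat A B := hψ1
    have : Algebra.FinitePresentation A B := hψ2
    have : Algebra.FiniteType R B := hc
    have : Module.FaithfullyFlat A B := Module.FaithfullyFlat.of_comap_surjective hs
    exact Groth.Agent.S0113.result (R := R) (A := A) (B := B)
  · intro v
    obtain ⟨T', r, x', hx, hfl, hfp⟩ := H v
    refine ⟨T', r ≫ t, x', hx, hfl, hfp, ?_⟩
    haveI := lft_of_comp t r
    rw [Category.assoc]
    infer_instance

theorem lfp_of_hasLocalSections (H : HasLocalSections t)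
    (h : LocallyOfFinitePresentation (t ≫ k)) : LocallyOfFinitePresentation k := by
  have hk : LocallyOfFiniteType k := lft_of_hasLocalSections t k H inferInstance
  have ht : LocallyOfFinitePresentation t :=
    Groth.Agent.Lib.Helper6.locallyOfFinitePresentation_of_comp hk h
  refine of_pointwise_fppf (P := @LocallyOfFinitePresentation)
    (Q := @RingHom.FinitePresentation) k ?_ ?_ ?_
  · intro R S T _ _ _ _ r _ φ hφ
    exact hφ.comp (RingHom.finitePresentation_holdsForLocalizationAway S r)
  · intro R A B _ _ _ φ ψ hψ1 hψ2 hs hc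
    algebraize [φ, ψ, ψ.comp φ]
    have : Module.Flat A B := hψ1
    have : Algebra.FinitePresentation A B := hψ2
    have : Algebra.FinitePresentation R B := hc
    have : Module.FaithfullyFlat A B := Module.FaithfullyFlat.of_comap_surjective hs
    exact Groth.Agent.S0112.result (R := R) (A := A) (B := B)
  · intro v
    obtain ⟨T', r, x', hx, hfl, hfp⟩ := H v
    refine ⟨T', r ≫ t, x', hx, hfl, hfp, ?_⟩
    have hr : LocallyOfFinitePresentation r := by
      have hl : pullback.lift r (𝟙 T') (by simp) ≫ pullback.snd t (r ≫ t) = 𝟙 T' :=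
        pullback.lift_snd _ _ _
      have h1 : LocallyOfFinitePresentation
          (pullback.lift r (𝟙 T') (by simp : r ≫ t = 𝟙 T' ≫ (r ≫ t)) ≫ pullback.snd t (r ≫ t)) := by
        rw [hl]; infer_instance
      have h2 : LocallyOfFinitePresentation
          (pullback.lift r (𝟙 T') (by simp : r ≫ t = 𝟙 T' ≫ (r ≫ t))) :=
        Groth.Agent.Lib.Helper6.locallyOfFinitePresentation_of_comp
          (g := pullback.snd t (r ≫ t)) inferInstance h1
      have : r = pullback.lift r (𝟙 T') (by simp : r ≫ t = 𝟙 T' ≫ (r ≫ t)) ≫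
          pullback.fst t (r ≫ t) := (pullback.lift_fst _ _ _).symm
      rw [this]
      infer_instance
    rw [Category.assoc]
    infer_instance



open Groth.Agent.S13210

theorem key {S : Scheme.{u}} {X Y : AlgSp.Space S} (g : X ⟶ Y)
    (hg : Sheaf.IsLocallySurjective g.hom)
    {V : Over S} (b : (AlgSp.yon S).obj V ⟶ Y.obj) (hb : AlgSp.RepWith @Etale b) :
    ∃ (T : Over S) (a : (AlgSp.yon S).obj T ⟶ X.obj) (t : T ⟶ V), AlgSp.RepWith @Etale a ∧
      a ≫ g.hom = (AlgSp.yon S).map t ≫ b ∧ HasLocalSections t.left := by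
  have sq := IsPullback.of_hasPullback g.hom b
  set Pb := pullback g.hom b with hPbdef
  set fst := pullback.fst g.hom b with hfst
  set snd := pullback.snd g.hom b with hsnd
  have hPb : AlgSp.IsAlgSpace Pb :=
    Groth.Agent.S9874.isAlgSpace_of_isPullback Y.property.diag X.property
      (AlgSp.IsAlgSpace.yon_obj V) sq
  obtain ⟨T, p₀, hp₀e, hp₀s⟩ := hPb.atlas
  have hfstE : AlgSp.RepWith @Etale fst :=
    (AlgSp.repWith_isStableUnderBaseChange (S := S) @Etale).of_isPullback sq.flip hb
  let t : T ⟶ V := (AlgSp.yon S).preimage (p₀ ≫ snd)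
  have ht : (AlgSp.yon S).map t = p₀ ≫ snd := (AlgSp.yon S).map_preimage _
  refine ⟨T, p₀ ≫ fst, t, (AlgSp.repWith_isMultiplicative (S := S) @Etale).comp_mem _ _ hp₀e hfstE, ?_, ?_⟩
  · rw [Category.assoc, sq.w, ← Category.assoc, ← ht]
  · intro v
    set s := yEquiv V Y.obj b with hs
    have hmem := Presheaf.imageSieve_mem (AlgSp.J S) g.hom.hom s
    rw [GrothendieckTopology.mem_over_iff,
      Precoverage.mem_toGrothendieck_iff_of_isStableUnderComposition] at hmem
    obtain ⟨R, hR, hle⟩ := hmem
    obtain ⟨V', q, hq, x₀, hx₀⟩ := (Presieve.mem_comap_jointlySurjectivePrecoverage_iff Scheme.forget).1 hR.1 v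
    have hqP : (@Flat ⊓ @LocallyOfFinitePresentation : MorphismProperty Scheme.{u}) q := hR.2 hq
    have h4 := hle _ _ hq
    rw [Sieve.overEquiv_iff] at h4
    obtain ⟨x', hx'⟩ := h4
    let V'' : Over S := Over.mk (q ≫ V.hom)
    let q' : V'' ⟶ V := Over.homMk q rfl
    let ξ : (AlgSp.yon S).obj V'' ⟶ X.obj := (yEquiv V'' X.obj).symm x'
    have hξ : ξ ≫ g.hom = (AlgSp.yon S).map q' ≫ b := by
      apply (yEquiv V'' Y.obj).injective
      rw [yEquiv_comp, Equiv.apply_symm_apply]
      refine hx'.trans ?_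
      exact (AlgSp.J S).uliftYonedaEquiv_naturality b q'
    let lift : (AlgSp.yon S).obj V'' ⟶ Pb := sq.lift ξ ((AlgSp.yon S).map q') hξ
    have hlift2 : lift ≫ snd = (AlgSp.yon S).map q' := sq.lift_snd _ _ _
    have sqT := hp₀e.rep.isPullback' lift
    set r := hp₀e.rep.fst' lift with hr
    set e := hp₀e.rep.snd lift with he
    haveI hee : Etale e.left := hp₀e.property_snd lift
    haveI hes : Surjective e.left := hp₀s.property_snd lift
    have hcomm : r ≫ t = e ≫ q' := by
      apply (AlgSp.yon S).map_injective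
      rw [Functor.map_comp, Functor.map_comp, ht, ← Category.assoc, sqT.w, Category.assoc, hlift2]
    have hcomm' : r.left ≫ t.left = e.left ≫ q := by
      have := congrArg CommaMorphism.left hcomm
      simp only [Over.comp_left] at this
      exact this
    obtain ⟨y, hy⟩ := hes.surj x₀
    refine ⟨_, r.left, y, ?_, ?_, ?_⟩
    · have h5 : (r.left ≫ t.left) y = (e.left ≫ q) y := by rw [hcomm']
      simp only [Scheme.Hom.comp_apply] at h5
      rw [h5, hy]
      exact hx₀
    · rw [hcomm']
      haveI : Flat q := hqP.1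
      infer_instance
    · rw [hcomm']
      haveI : LocallyOfFinitePresentation q := hqP.2
      infer_instance

/-- Let g : X ⟶ Y and h : Y ⟶ Z be morphisms of algebraic spaces over S with g a surjection of fppf
sheaves (locally surjective for the fppf topology). For P one of flat, locally of finite type,
locally of finite presentation (checked on etale charts): if the composite X ⟶ Z has P then h has P. -/
theorem result {S : Scheme.{u}} {X Y Z : AlgSp.Space S} (g : X ⟶ Y) (h : Y ⟶ Z)
    (hg : Sheaf.IsLocallySurjective g.hom) :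
    (AlgSp.LocP @Flat (g ≫ h).hom → AlgSp.LocP @Flat h.hom) ∧
    (AlgSp.LocP @LocallyOfFiniteType (g ≫ h).hom → AlgSp.LocP @LocallyOfFiniteType h.hom) ∧
    (AlgSp.LocP @LocallyOfFinitePresentation (g ≫ h).hom →
      AlgSp.LocP @LocallyOfFinitePresentation h.hom) := by
  have main : ∀ (P : MorphismProperty Scheme.{u}),
      (∀ {T V W : Scheme.{u}} (t : T ⟶ V) (k : V ⟶ W), HasLocalSections t → P (t ≫ k) → P k) →
      AlgSp.LocP P (g ≫ h).hom → AlgSp.LocP P h.hom := by
    intro P hP hgh V W b c k hb hc comm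
    obtain ⟨T, a, t, ha, hat, hloc⟩ := key g hg b hb
    have h1 : P (t ≫ k).left := hgh a c (t ≫ k) ha hc (by
      show a ≫ g.hom ≫ h.hom = _
      rw [← Category.assoc, hat, Category.assoc, comm, Functor.map_comp, Category.assoc])
    exact hP t.left k.left hloc h1
  exact ⟨main _ (fun t k H h => flat_of_hasLocalSections t k H h),
    main _ (fun t k H h => lft_of_hasLocalSections t k H h),
    main _ (fun t k H h => lfp_of_hasLocalSections t k H h)⟩

end Groth.Agent.S10557
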