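import Groth.Statements.S10260
import Mathlib
import Groth.Agent.Lib.H5bLqfMain
import Groth.Agent.Lib.Helper12LocPCases
import Groth.Agent.Lib.Helper12Proper
import Groth.Agent.S9874

set_option autoImplicit false
universe u
open CategoryTheory CategoryTheory.Limits AlgebraicGeometry
open AlgSp

namespace Groth.Agent.S10260

/-- A locally quasi-finite separated morphism of algebraic spaces is representable by schemes. -/
theorem result {S : Scheme.{u}} {X Y : AlgSp.Space S} (f : X ⟶ Y)
    (hqf : AlgSp.LocP (@LocallyQuasiFinite ⊓ @LocallyOfFiniteType) f.hom) (hsep : AlgSp.IsSeparatedMor f.hom) :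
    AlgSp.Representable f.hom := by
  intro T g
  have sq := IsPullback.of_hasPullback f.hom g
  have hP : AlgSp.IsAlgSpace (pullback f.hom g) :=
    Groth.Agent.S9874.isAlgSpace_of_isPullback Y.property.diag X.property
      (AlgSp.IsAlgSpace.yon_obj T) sq
  have hqf' : AlgSp.LocP (@LocallyQuasiFinite ⊓ @LocallyOfFiniteType) (pullback.snd f.hom g) :=
    Groth.Agent.Lib.Helper12.LocPCases.good_lqf.locP_baseChange X.property Y.property
      (AlgSp.IsAlgSpace.yon_obj T) sq hqf
  have hsep' : AlgSp.IsSeparatedMor (pullback.snd f.hom g) :=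
    Groth.Agent.Lib.Helper12.Proper.isSeparatedMor_baseChange sq hsep
  have hrep := Groth.Agent.Lib.H5bLqf.isRepresentable_of_lqf_separated T
    ⟨pullback f.hom g, hP⟩ (pullback.snd f.hom g) hqf' hsep'
  obtain ⟨V, ⟨r⟩⟩ := hrep.has_representation
  let e : (AlgSp.yon S).obj V ≅ pullback f.hom g := AlgSp.isoOfRepresentableBy r
  obtain ⟨w, hw⟩ := (AlgSp.yon S).map_surjective (e.hom ≫ pullback.snd f.hom g)
  refine ⟨V, w, e.hom ≫ pullback.fst f.hom g, ?_⟩
  rw [hw]
  exact IsPullback.of_iso sq e.symm (Iso.refl _) (Iso.refl _) (Iso.refl _) (by simp) (by simp)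
    (by simp) (by simp)

end Groth.Agent.S10260
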