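import Groth.Statements.S10640
import Mathlib
import Groth.Agent.Lib.H5bUnrLocus
import Groth.Agent.Lib.Helper12LocPNbhd
import Groth.Agent.Lib.Helper12OpenSub2
import Groth.Agent.S10194
import Groth.Agent.S10195
import Groth.Agent.S10175
import Groth.Agent.S9874
import Groth.Agent.S9938
import Groth.Agent.S10262

set_option autoImplicit false
universe u
open CategoryTheory CategoryTheory.Limits AlgebraicGeometry
open AlgSp

namespace Groth.Agent.S10640

variable {S : Scheme.{u}}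

/-- for `j : X' ⟶ X`, the map `X' ×_Y X' ⟶ X ×_Y X` is a composite of two base changes of `j`. -/
lemma exists_pullback_map_factor {X' X Y XX : AlgSp.Sp S} (j : X' ⟶ X) (f : X ⟶ Y)
    (pr0 pr1 : XX ⟶ X) (hXX : IsPullback pr0 pr1 f f) :
    ∃ (Q : AlgSp.Sp S) (m1 : pullback (j ≫ f) (j ≫ f) ⟶ Q) (m2 : Q ⟶ XX) (q0 : Q ⟶ X')
      (q1 : Q ⟶ X),
      IsPullback m1 (pullback.snd (j ≫ f) (j ≫ f)) q1 j ∧ IsPullback m2 q0 pr0 j ∧
      m1 ≫ m2 ≫ pr0 = pullback.fst (j ≫ f) (j ≫ f) ≫ j ∧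
      m1 ≫ m2 ≫ pr1 = pullback.snd (j ≫ f) (j ≫ f) ≫ j := by
  have sqQ := IsPullback.of_hasPullback (j ≫ f) f
  have sqP := IsPullback.of_hasPullback (j ≫ f) (j ≫ f)
  have c2 : (pullback.fst (j ≫ f) f ≫ j) ≫ f = pullback.snd (j ≫ f) f ≫ f := by
    rw [Category.assoc, pullback.condition]
  have c1 : pullback.fst (j ≫ f) (j ≫ f) ≫ j ≫ f = (pullback.snd (j ≫ f) (j ≫ f) ≫ j) ≫ f := by
    rw [pullback.condition, Category.assoc]
  have h20 : hXX.lift _ _ c2 ≫ pr0 = pullback.fst (j ≫ f) f ≫ j := hXX.lift_fst _ _ _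
  have h21 : hXX.lift _ _ c2 ≫ pr1 = pullback.snd (j ≫ f) f := hXX.lift_snd _ _ _
  have h10 : sqQ.lift _ _ c1 ≫ pullback.fst (j ≫ f) f = pullback.fst (j ≫ f) (j ≫ f) :=
    sqQ.lift_fst _ _ _
  have h11 : sqQ.lift _ _ c1 ≫ pullback.snd (j ≫ f) f = pullback.snd (j ≫ f) (j ≫ f) ≫ j :=
    sqQ.lift_snd _ _ _
  refine ⟨pullback (j ≫ f) f, sqQ.lift _ _ c1, hXX.lift _ _ c2, pullback.fst _ _, pullback.snd _ _,
    ?_, ?_, ?_, ?_⟩
  · refine IsPullback.of_right ?_ h11 sqQ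
    rw [h10]
    exact sqP
  · refine IsPullback.of_right ?_ h20 hXX.flip
    rw [h21]
    exact sqQ.flip
  · rw [h20, ← Category.assoc, h10]
  · rw [h21, h11]

/-- the comparison squares between the fibre squares of `f` and of a base change `f'`. -/
lemma diag_squares {X Y X' Y' XX : AlgSp.Sp S} (f : X ⟶ Y) (gY : Y' ⟶ Y) (gX : X' ⟶ X)
    (f' : X' ⟶ Y') (sqX : IsPullback gX f' f gY) (pr0 pr1 : XX ⟶ X)
    (hXX : IsPullback pr0 pr1 f f) (Δ : X ⟶ XX) (hΔ0 : Δ ≫ pr0 = 𝟙 _) (hΔ1 : Δ ≫ pr1 = 𝟙 _) :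
    ∃ mXX : pullback f' f' ⟶ XX, mXX ≫ pr1 = pullback.snd f' f' ≫ gX ∧
      IsPullback mXX (pullback.snd f' f') pr1 gX ∧
      IsPullback (pullback.diagonal f') gX mXX Δ := by
  have sqXX' := IsPullback.of_hasPullback f' f'
  have hm : (pullback.fst f' f' ≫ gX) ≫ f = (pullback.snd f' f' ≫ gX) ≫ f := by
    rw [Category.assoc, Category.assoc, sqX.w, ← Category.assoc, ← Category.assoc,
      pullback.condition]
  have hm0 : hXX.lift _ _ hm ≫ pr0 = pullback.fst f' f' ≫ gX := hXX.lift_fst _ _ _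
  have hm1 : hXX.lift _ _ hm ≫ pr1 = pullback.snd f' f' ≫ gX := hXX.lift_snd _ _ _
  have sq1 : IsPullback (hXX.lift _ _ hm) (pullback.snd f' f') pr1 gX := by
    refine IsPullback.of_right ?_ hm1 hXX
    rw [hm0, sqX.w]
    exact sqXX'.paste_horiz sqX
  refine ⟨hXX.lift _ _ hm, hm1, sq1, ?_⟩
  have hcomm : pullback.diagonal f' ≫ hXX.lift _ _ hm = gX ≫ Δ := by
    apply hXX.hom_ext
    · rw [Category.assoc, hm0, ← Category.assoc, pullback.diagonal_fst, Category.id_comp,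
        Category.assoc, hΔ0, Category.comp_id]
    · rw [Category.assoc, hm1, ← Category.assoc, pullback.diagonal_snd, Category.id_comp,
        Category.assoc, hΔ1, Category.comp_id]
  refine IsPullback.of_right ?_ hcomm sq1.flip
  rw [pullback.diagonal_snd, hΔ1]
  exact IsPullback.of_horiz_isIso ⟨by simp⟩

/-- For morphisms f : X ⟶ Y, p : X ⟶ Z and q : Y ⟶ Z of algebraic spaces over S with f ≫ q = p, write XX
= X ×_Y X with projections pr0, pr1, and assume that p is closed and locally of finite type and that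
the composite XX ⟶ X ⟶ Z (through pr1 and p) is closed as well. Then there is an open subspace W of
Z with the following property: a morphism of algebraic spaces g : Z' ⟶ Z factors through W exactly
when the base change X' ⟶ Y' of f along g is unramified and universally injective. Here the base
change of f along g is any f' : X' ⟶ Y' obtained from pullback squares Y' = Y ×_Z Z' and X' = X ×_Y
Y' of algebraic spaces over S, and W ⊂ Z is given as a representable open immersion w : W ⟶ Z. -/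
theorem result {S : Scheme.{u}} {X Y Z : AlgSp.Space S}
    (f : X ⟶ Y) (p : X ⟶ Z) (q : Y ⟶ Z) (hc : f ≫ q = p)
    (XX : AlgSp.Space S) (pr0 pr1 : XX ⟶ X) (hXX : IsPullback pr0.hom pr1.hom f.hom f.hom)
    (hp1 : AlgSp.LocP @LocallyOfFiniteType p.hom) (hp2 : AlgSp.IsClosedMor p.hom)
    (hp3 : AlgSp.IsClosedMor (pr1 ≫ p).hom) :
    ∃ (W : AlgSp.Space S) (w : W ⟶ Z), AlgSp.RepWith @IsOpenImmersion w.hom ∧
      ∀ (Z' : AlgSp.Space S) (g : Z' ⟶ Z),
        (∃ k : Z' ⟶ W, k ≫ w = g) ↔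
          ∀ (Y' : AlgSp.Space S) (gY : Y' ⟶ Y) (q' : Y' ⟶ Z'),
            IsPullback gY.hom q'.hom q.hom g.hom →
            ∀ (X' : AlgSp.Space S) (gX : X' ⟶ X) (f' : X' ⟶ Y'),
              IsPullback gX.hom f'.hom f.hom gY.hom →
                (AlgSp.LocP (@LocallyOfFiniteType ⊓ @FormallyUnramified) f'.hom ∧ AlgSp.IsUnivInjectiveMor f'.hom) := by
  have hcH : f.hom ≫ q.hom = p.hom := congrArg (fun φ => φ.hom) hc
  have hbcO := AlgSp.repWith_isStableUnderBaseChange (S := S) @IsOpenImmersion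
  have hmulO := AlgSp.repWith_isMultiplicative (S := S) @IsOpenImmersion
  have hf : AlgSp.LocP @LocallyOfFiniteType f.hom :=
    Groth.Agent.Lib.H5bUnrLocus.locP_lft_of_comp f q (by rw [hc]; exact hp1)
  obtain ⟨Δ, hΔ⟩ : ∃ Δ : X.obj ⟶ XX.obj, Δ = hXX.lift (𝟙 _) (𝟙 _) rfl := ⟨_, rfl⟩
  have hΔ0 : Δ ≫ pr0.hom = 𝟙 _ := by rw [hΔ, hXX.lift_fst]
  have hΔ1 : Δ ≫ pr1.hom = 𝟙 _ := by rw [hΔ, hXX.lift_snd]
  obtain ⟨Uu, hUu⟩ : ∃ Uu : Set (AlgSp.Points X.obj), Uu = {x : AlgSp.Points X.obj |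
      AlgSp.HasAtMor Groth.Agent.Lib.H5bUnrLocus.Qunr f.hom x} := ⟨_, rfl⟩
  have hopen : IsOpen Uu := by
    rw [hUu]
    exact Groth.Agent.Lib.H5bUnrLocus.isOpen_unrLocus f.hom
  have conv : ∀ x, AlgSp.HasAtMor Groth.Agent.Lib.H5bUnrLocus.Qunr f.hom x ↔
      AlgSp.HasAtMor (fun U _ h u => ∃ W : U.Opens, u ∈ W ∧
        (@LocallyOfFiniteType ⊓ @FormallyUnramified : MorphismProperty Scheme.{u}) (W.ι ≫ h))
        f.hom x := fun x => Iff.rfl
  -- (A) the diagonal image of the unramified locus is open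
  have hopenΔ : IsOpen (AlgSp.Points.map Δ '' Uu) := by
    rw [isOpen_iff_forall_mem_open]
    rintro _ ⟨x, hx, rfl⟩
    rw [hUu] at hx
    obtain ⟨X₁, j, hj, hxj, hjP⟩ :=
      (Groth.Agent.Lib.Helper12.LocPNbhd.hasAtMor_iff_exists_open
        Groth.Agent.Lib.Helper12.LocPCases.good_unram f x).1 ((conv x).1 hx)
    obtain ⟨Q, m1, m2, q0, q1, sq1, sq2, e0, e1⟩ :=
      exists_pullback_map_factor j.hom f.hom pr0.hom pr1.hom hXX
    have hm2 : AlgSp.RepWith @IsOpenImmersion m2 := hbcO.of_isPullback sq2.flip hj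
    have hm1 : AlgSp.RepWith @IsOpenImmersion m1 := hbcO.of_isPullback sq1.flip hj
    have hd : AlgSp.RepWith @IsOpenImmersion (pullback.diagonal (j.hom ≫ f.hom)) :=
      (Groth.Agent.S10262.result (j ≫ f)).1 hjP
    have hall : AlgSp.RepWith @IsOpenImmersion (pullback.diagonal (j.hom ≫ f.hom) ≫ m1 ≫ m2) :=
      hmulO.comp_mem _ _ hd (hmulO.comp_mem _ _ hm1 hm2)
    have heq : pullback.diagonal (j.hom ≫ f.hom) ≫ m1 ≫ m2 = j.hom ≫ Δ := by
      apply hXX.hom_ext
      · rw [Category.assoc, Category.assoc, e0, ← Category.assoc, pullback.diagonal_fst,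
          Category.id_comp, Category.assoc, hΔ0, Category.comp_id]
      · rw [Category.assoc, Category.assoc, e1, ← Category.assoc, pullback.diagonal_snd,
          Category.id_comp, Category.assoc, hΔ1, Category.comp_id]
    rw [heq] at hall
    refine ⟨Set.range (AlgSp.Points.map (j.hom ≫ Δ)), ?_,
      Groth.Agent.Lib.Helper12.OpenSub.isOpen_range_of_open _ hall, ?_⟩
    · rintro _ ⟨t, rfl⟩
      rw [AlgSp.Points.map_comp]
      refine ⟨AlgSp.Points.map j.hom t, ?_, rfl⟩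
      rw [hUu]
      exact (conv _).2 ((Groth.Agent.Lib.Helper12.LocPNbhd.hasAtMor_iff_exists_open
        Groth.Agent.Lib.Helper12.LocPCases.good_unram f _).2 ⟨X₁, j, hj, ⟨t, rfl⟩, hjP⟩)
    · obtain ⟨t, rfl⟩ := hxj
      exact ⟨t, by rw [AlgSp.Points.map_comp]⟩
  have hpT : IsClosed (AlgSp.Points.map p.hom '' Uuᶜ) := hp2 _ hopen.isClosed_compl
  have hpD : IsClosed (AlgSp.Points.map (pr1 ≫ p).hom '' (AlgSp.Points.map Δ '' Uu)ᶜ) :=
    hp3 _ hopenΔ.isClosed_compl
  obtain ⟨W, w, hw, hwr⟩ := Groth.Agent.S10195.result Z _ (hpT.union hpD).isOpen_compl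
  refine ⟨W, w, hw, ?_⟩
  intro Z' g
  rw [Groth.Agent.S10194.result w hw g, hwr]
  have hpr1p : (pr1 ≫ p).hom = pr1.hom ≫ f.hom ≫ q.hom := by
    show pr1.hom ≫ p.hom = _
    rw [hcH]
  constructor
  · intro hsub Y' gY q' sqY X' gX f' sqX
    have hcomm : ∀ x' : AlgSp.Points X'.obj,
        AlgSp.Points.map p.hom (AlgSp.Points.map gX.hom x') =
          AlgSp.Points.map g.hom (AlgSp.Points.map q'.hom (AlgSp.Points.map f'.hom x')) := by
      intro x'
      rw [← AlgSp.Points.map_comp, ← AlgSp.Points.map_comp, ← AlgSp.Points.map_comp, ← hcH,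
        ← Category.assoc, sqX.w, Category.assoc, sqY.w]
    have hpt : ∀ x' : AlgSp.Points X'.obj,
        AlgSp.HasAtMor Groth.Agent.Lib.H5bUnrLocus.Qunr f'.hom x' := by
      intro x'
      rw [Groth.Agent.Lib.H5bUnrLocus.unrLocus_baseChange f hf gY gX f' sqX x']
      by_contra hnot
      refine hsub ⟨_, (hcomm x').symm⟩ (Or.inl ⟨_, ?_, rfl⟩)
      rw [hUu]
      exact hnot
    have hunr : AlgSp.LocP (@LocallyOfFiniteType ⊓ @FormallyUnramified) f'.hom := by
      intro U V a b h ha hb c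
      have hQ : ∀ u : ↥U.left, Groth.Agent.Lib.H5bUnrLocus.Qunr U.left V.left h.left u := fun u =>
        (Groth.Agent.Lib.H5bHasAtMor.hasAtMor_iff_of_chart Groth.Agent.Lib.H5bUnrLocus.etLocalQ_unr
          f'.hom _ a b h ha hb c u rfl).1 (hpt _)
      choose Wf hWf1 hWf2 hWf3 using hQ
      have hcov : iSup Wf = ⊤ := by
        rw [eq_top_iff]
        intro u _
        exact TopologicalSpace.Opens.mem_iSup.2 ⟨u, hWf1 u⟩
      exact ⟨IsZariskiLocalAtSource.of_iSup_eq_top Wf hcov hWf2,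
        IsZariskiLocalAtSource.of_iSup_eq_top Wf hcov hWf3⟩
    refine ⟨hunr, ?_⟩
    rw [(Groth.Agent.S9938.result f').2]
    intro ξ'
    obtain ⟨mXX, hm1, sq1, sqΔ⟩ := diag_squares f.hom gY.hom gX.hom f'.hom sqX pr0.hom pr1.hom hXX
      Δ hΔ0 hΔ1
    have hin : AlgSp.Points.map mXX ξ' ∈ AlgSp.Points.map Δ '' Uu := by
      by_contra hnot
      refine hsub ⟨AlgSp.Points.map q'.hom (AlgSp.Points.map f'.hom
        (AlgSp.Points.map (pullback.snd f'.hom f'.hom) ξ')), ?_⟩ (Or.inr ⟨_, hnot, rfl⟩)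
      rw [hpr1p, ← AlgSp.Points.map_comp, ← AlgSp.Points.map_comp, ← AlgSp.Points.map_comp,
        ← AlgSp.Points.map_comp]
      congr 1
      rw [← Category.assoc mXX, hm1, Category.assoc, ← Category.assoc gX.hom, sqX.w,
        Category.assoc, sqY.w]
    obtain ⟨x, -, hx⟩ := hin
    obtain ⟨x', hx'1, -⟩ := Groth.Agent.S10175.exists_point_of_isPullback sqΔ ξ' x hx.symm
    exact ⟨x', hx'1⟩
  · intro H z hz
    obtain ⟨z', rfl⟩ := hz
    have sqY0 := IsPullback.of_hasPullback q.hom g.hom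
    have hY' : AlgSp.IsAlgSpace (pullback q.hom g.hom) :=
      Groth.Agent.S9874.isAlgSpace_of_isPullback Z.property.diag Y.property Z'.property sqY0
    let Y' : AlgSp.Space S := ⟨pullback q.hom g.hom, hY'⟩
    let gY : Y' ⟶ Y := ObjectProperty.homMk (pullback.fst q.hom g.hom)
    let q' : Y' ⟶ Z' := ObjectProperty.homMk (pullback.snd q.hom g.hom)
    have sqY : IsPullback gY.hom q'.hom q.hom g.hom := sqY0
    have sqX0 := IsPullback.of_hasPullback f.hom gY.hom
    have hX' : AlgSp.IsAlgSpace (pullback f.hom gY.hom) :=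
      Groth.Agent.S9874.isAlgSpace_of_isPullback Y.property.diag X.property hY' sqX0
    let X' : AlgSp.Space S := ⟨pullback f.hom gY.hom, hX'⟩
    let gX : X' ⟶ X := ObjectProperty.homMk (pullback.fst f.hom gY.hom)
    let f' : X' ⟶ Y' := ObjectProperty.homMk (pullback.snd f.hom gY.hom)
    have sqX : IsPullback gX.hom f'.hom f.hom gY.hom := sqX0
    obtain ⟨hfl', hinj'⟩ := H Y' gY q' sqY X' gX f' sqX
    have big : IsPullback gX.hom (f'.hom ≫ q'.hom) (f.hom ≫ q.hom) g.hom := sqX.paste_vert sqY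
    have hunrAt : ∀ x' : AlgSp.Points X'.obj,
        AlgSp.HasAtMor Groth.Agent.Lib.H5bUnrLocus.Qunr f.hom (AlgSp.Points.map gX.hom x') := by
      intro x'
      have hx'G : AlgSp.HasAtMor Groth.Agent.Lib.H5bUnrLocus.Qunr f'.hom x' := by
        obtain ⟨U, V, a, b, h, u, ha, hb, c, hu⟩ :=
          Groth.Agent.Lib.H5bHasAtMor.exists_chart hX' hY' f'.hom x'
        obtain ⟨hl, hfu⟩ := hfl' a b h ha hb c
        haveI : LocallyOfFiniteType h.left := hl
        refine ⟨U, V, a, b, h, u, ha, hb, c, hu, ⊤, trivial, inferInstance, ?_⟩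
        exact MorphismProperty.comp_mem _ _ _
          (inferInstance : FormallyUnramified (⊤ : U.left.Opens).ι) hfu
      rwa [Groth.Agent.Lib.H5bUnrLocus.unrLocus_baseChange f hf gY gX f' sqX x'] at hx'G
    rintro (⟨x, hxT, hxz⟩ | ⟨ξ, hξD, hξz⟩)
    · obtain ⟨x', hx'1, hx'2⟩ := Groth.Agent.S10175.exists_point_of_isPullback big.flip z' x
        (by rw [hcH, hxz])
      apply hxT
      rw [hUu, ← hx'2]
      exact hunrAt x'
    · obtain ⟨mXX, hm1, sq1, sqΔ⟩ := diag_squares f.hom gY.hom gX.hom f'.hom sqX pr0.hom pr1.hom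
        hXX Δ hΔ0 hΔ1
      have tall := sq1.paste_vert big
      obtain ⟨ξ', -, hξ'2⟩ := Groth.Agent.S10175.exists_point_of_isPullback tall.flip z' ξ
        (by rw [← hpr1p, hξz])
      have hsurj : AlgSp.IsSurjectiveMor (pullback.diagonal f'.hom) :=
        (Groth.Agent.S9938.result f').2.1 hinj'
      obtain ⟨x', hx'⟩ := hsurj ξ'
      apply hξD
      refine ⟨AlgSp.Points.map gX.hom x', ?_, ?_⟩
      · rw [hUu]
        exact hunrAt x'
      · rw [← hξ'2, ← hx', ← AlgSp.Points.map_comp, ← AlgSp.Points.map_comp, sqΔ.w]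

end Groth.Agent.S10640
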