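import Groth.Statements.S10107
import Mathlib
import Groth.Agent.Lib.H5bEqvRelSp
import Groth.Agent.Lib.H5bSpDescF0
import Groth.Agent.Lib.Helper12LocPCases
import Groth.Agent.Lib.Helper12FppfRefine
import Groth.Agent.S10176
import Groth.Agent.S9947
import Groth.Agent.S9906
import Groth.Agent.S9874

set_option autoImplicit false
set_option linter.style.haveILetI false
universe u
open CategoryTheory CategoryTheory.Limits AlgebraicGeometry
open AlgSp

namespace Groth.Agent.S10107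

open Groth.Agent.Lib.Helper12.LocPCases in
lemma locP_piece {S : Scheme.{u}} (P : MorphismProperty Scheme.{u}) (hP : Good P)
    (hlocal : AlgSp.IsLocalOnBase (AlgSp.IsFpqcCover (S := S)) (AlgSp.LocP P))
    {R U : AlgSp.Sp S} (hR : AlgSp.IsAlgSpace R) (hU : AlgSp.IsAlgSpace U) (s t : R ⟶ U)
    (hk : IsPullback s t (AlgSp.quotSpπ s t) (AlgSp.quotSpπ s t)) (ht : AlgSp.LocP P t)
    (hF : AlgSp.IsAlgSpace (AlgSp.quotSp s t)) {W' : Over S}
    (g₀ : (AlgSp.yon S).obj W' ⟶ AlgSp.quotSp s t) (d : (AlgSp.yon S).obj W' ⟶ U)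
    (hd : d ≫ AlgSp.quotSpπ s t = g₀)
    (hcov : AlgSp.IsFpqcCover (fun _ : PUnit.{u + 1} => (AlgSp.yon S).obj W') (fun _ => g₀)) :
    AlgSp.LocP P (AlgSp.quotSpπ s t) := by
  have sqQ := IsPullback.of_hasPullback t d
  have sqP := sqQ.paste_horiz hk
  rw [hd] at sqP
  have hQ : AlgSp.IsAlgSpace (pullback t d) :=
    Groth.Agent.S9874.isAlgSpace_of_isPullback hU.diag hR (AlgSp.IsAlgSpace.yon_obj W') sqQ
  have hsnd : AlgSp.LocP P (pullback.snd t d) :=
    hP.locP_baseChange hR hU (AlgSp.IsAlgSpace.yon_obj W') sqQ ht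
  exact (hlocal (fun _ : PUnit.{u + 1} => (AlgSp.yon S).obj W') (fun _ => g₀) hF
    (fun _ => AlgSp.IsAlgSpace.yon_obj W') hcov (AlgSp.quotSpπ s t) hU (fun _ => pullback t d)
    (fun _ => pullback.snd t d) (fun _ => pullback.fst t d ≫ s) (fun _ => hQ)
    (fun _ => sqP)).2 (fun _ => hsnd)

/-- Let `F = U/R` be an algebraic space which is the fppf quotient of a groupoid in algebraic spaces
`(U, R, s, t, c)` over `S` with `s, t` flat and locally of finite presentation and `j = (t, s)` an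
equivalence relation (equivalently, the composition being determined by it, of an equivalence
relation `s, t : R ⟶ U` of algebraic spaces with these properties). Then `U ⟶ F` is surjective, flat
and locally of finite presentation. -/
theorem result (S : Scheme.{u}) (R U : AlgSp.Sp S)
    (hR : AlgSp.IsAlgSpace R) (hU : AlgSp.IsAlgSpace U) (s t : R ⟶ U) (hj : AlgSp.IsEqvRelSp s t)
    (hs : AlgSp.LocP @Flat s ∧ AlgSp.LocP @LocallyOfFinitePresentation s)
    (ht : AlgSp.LocP @Flat t ∧ AlgSp.LocP @LocallyOfFinitePresentation t)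
    (hF : AlgSp.IsAlgSpace (AlgSp.quotSp s t)) :
    AlgSp.IsSurjectiveMor (AlgSp.quotSpπ s t) ∧ AlgSp.LocP @Flat (AlgSp.quotSpπ s t) ∧
      AlgSp.LocP @LocallyOfFinitePresentation (AlgSp.quotSpπ s t) := by
  have hk : IsPullback s t (AlgSp.quotSpπ s t) (AlgSp.quotSpπ s t) :=
    Groth.Agent.Lib.H5bEqvRelSp.isKernelPair_quotSpπ hj
  haveI : Epi (AlgSp.quotSpπ s t) := inferInstanceAs (Epi (coequalizer.π s t))
  haveI : Sheaf.IsLocallySurjective (AlgSp.quotSpπ s t) :=
    (Sheaf.isLocallySurjective_iff_epi _).2 inferInstance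
  -- surjectivity on points
  have hsurjπ : AlgSp.IsSurjectiveMor (AlgSp.quotSpπ s t) := by
    intro x
    induction x using AlgSp.Points.ind with
    | h p =>
      obtain ⟨T', pT, d', hs', -, -, hd'⟩ :=
        Groth.Agent.Lib.H5bSpDesc.exists_single_cover_lift (AlgSp.quotSpπ s t) p.toHom
      haveI := hs'
      obtain ⟨τ, -⟩ := pT.left.surjective (IsLocalRing.closedPoint p.K)
      refine ⟨AlgSp.Points.ofPt d' τ, ?_⟩
      rw [AlgSp.Points.map_ofPt, hd', Groth.Agent.S10176.ofPt_map_comp, AlgSp.Points.ofPt_toHom]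
  -- an fppf covering of the quotient over which the quotient map has a section
  obtain ⟨W, pW, hpWe, hpWs⟩ := hF.atlas
  obtain ⟨W', c, d, hcs, hcf, hcp, hd⟩ :=
    Groth.Agent.Lib.H5bSpDesc.exists_single_cover_lift (AlgSp.quotSpπ s t) pW
  haveI := hcs
  obtain ⟨g₀, hg₀def⟩ : ∃ g₀ : (AlgSp.yon S).obj W' ⟶ AlgSp.quotSp s t,
      g₀ = (AlgSp.yon S).map c ≫ pW := ⟨_, rfl⟩
  rw [← hg₀def] at hd
  have hg₀ : ∀ (P : MorphismProperty Scheme.{u}), Groth.Agent.Lib.Helper12.LocPCases.Good P →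
      P c.left → AlgSp.LocP P g₀ := fun P hP hPc => by
    haveI := hP.comp
    rw [hg₀def]
    exact hP.locP_comp (AlgSp.IsAlgSpace.yon_obj W) hF _ _
      (Groth.Agent.Lib.Helper12.LocPGen.locP_yon_map_of P hP.hEt hP.hcancel c hPc)
      (Groth.Agent.S9947.locP_of_repWith_etale P hP.hEt pW hpWe)
  have hfl := hg₀ @Flat Groth.Agent.Lib.Helper12.LocPCases.good_flat hcf
  have hfp := hg₀ @LocallyOfFinitePresentation Groth.Agent.Lib.Helper12.LocPCases.good_lfp hcp
  have hsurj : ∀ x : AlgSp.Points (AlgSp.quotSp s t), x ∈ Set.range (AlgSp.Points.map g₀) := by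
    intro x
    let f' : (⟨(AlgSp.yon S).obj W, AlgSp.IsAlgSpace.yon_obj W⟩ : AlgSp.Space S) ⟶
        (⟨AlgSp.quotSp s t, hF⟩ : AlgSp.Space S) := ObjectProperty.homMk pW
    have h1 : Function.Surjective (AlgSp.Points.map pW) :=
      (Groth.Agent.S9906.result f' hpWe.1).1 hpWs
    obtain ⟨y, rfl⟩ := h1 x
    obtain ⟨w, rfl⟩ := (AlgSp.Points.schemeEquiv W).surjective y
    obtain ⟨w', rfl⟩ := c.left.surjective w
    refine ⟨AlgSp.Points.ofScheme W' w', ?_⟩
    rw [hg₀def, AlgSp.Points.map_comp]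
    congr 1
    change AlgSp.Points.map ((AlgSp.yon S).map c) (AlgSp.Points.ofPt (𝟙 _) w') =
      AlgSp.Points.ofPt (𝟙 _) (c.left w')
    rw [AlgSp.Points.map_ofPt, Category.id_comp, ← Groth.Agent.S10176.ofPt_map_comp,
      Category.comp_id]
  have hfppf : AlgSp.IsFppfCover (fun _ : PUnit.{u + 1} => (AlgSp.yon S).obj W')
      (fun _ => g₀) := ⟨fun _ => ⟨hfl, hfp⟩, fun x => ⟨PUnit.unit, hsurj x⟩⟩
  have hfpqc : AlgSp.IsFpqcCover (fun _ : PUnit.{u + 1} => (AlgSp.yon S).obj W')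
      (fun _ => g₀) := ⟨fun _ => hfl, fun Z hZ h =>
    Groth.Agent.Lib.Helper12.FppfRefine.refines_of_fppfCover hF _
      (fun _ => AlgSp.IsAlgSpace.yon_obj W') _ hfppf Z hZ h⟩
  exact ⟨hsurjπ,
    locP_piece @Flat Groth.Agent.Lib.Helper12.LocPCases.good_flat
      (Groth.Agent.S10530.result S) hR hU s t hk ht.1 hF g₀ d hd hfpqc,
    locP_piece @LocallyOfFinitePresentation Groth.Agent.Lib.Helper12.LocPCases.good_lfp
      (Groth.Agent.S10527.result S) hR hU s t hk ht.2 hF g₀ d hd hfpqc⟩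

end Groth.Agent.S10107
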