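import Groth.Statements.S9868
import Mathlib
import Groth.Agent.Lib.H5bSpDescF0
import Groth.Agent.S9869

set_option autoImplicit false
set_option linter.style.haveILetI false
universe u
open CategoryTheory CategoryTheory.Limits AlgebraicGeometry
open AlgSp

namespace Groth.Agent.S9868

open Groth.Agent.Lib.Helper9 Groth.Agent.Lib.Helper12.QuotShLib Groth.Agent.Lib.H5bFppfLocal in
lemma aux {S : Scheme.{u}} {R U : Over S} (s t : R ⟶ U) (h : AlgSp.IsEtaleEqvRel s t) :
    AlgSp.IsAlgSpace (QuotSh.quot Scheme.fppfPrecoverage s t) := by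
  have e := Groth.Agent.S9869.equivalenceRelation h.toIsEqvRel
  haveI : JointlyMono₂ s t := e.toReflexiveRelation.toJointlyMono₂
  haveI : JointlyMono₂ ((repFunctor Scheme.fppfPrecoverage S).map s)
      ((repFunctor Scheme.fppfPrecoverage S).map t) :=
    jointlyMono₂_map (repFunctor Scheme.fppfPrecoverage S) s t
  have e' : EquivalenceRelation (QuotSh.repMap Scheme.fppfPrecoverage s)
      (QuotSh.repMap Scheme.fppfPrecoverage t) :=
    equivalenceRelationMap (repFunctor Scheme.fppfPrecoverage S) s t e
  have hk : IsKernelPair (QuotSh.quotπ Scheme.fppfPrecoverage s t)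
      (QuotSh.repMap Scheme.fppfPrecoverage s) (QuotSh.repMap Scheme.fppfPrecoverage t) :=
    sheaf_isKernelPair_of_isColimit (QuotSh.J Scheme.fppfPrecoverage S) e'
      (QuotSh.quotπ Scheme.fppfPrecoverage s t) (QuotSh.quot_condition Scheme.fppfPrecoverage s t)
      (coequalizerIsCoequalizer _ _)
  have sq : IsPullback ((AlgSp.yon S).map s) ((AlgSp.yon S).map t)
      ((QuotSh.repIsoUliftYoneda Scheme.fppfPrecoverage U).inv ≫
        QuotSh.quotπ Scheme.fppfPrecoverage s t)
      ((QuotSh.repIsoUliftYoneda Scheme.fppfPrecoverage U).inv ≫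
        QuotSh.quotπ Scheme.fppfPrecoverage s t) :=
    IsPullback.of_iso hk (QuotSh.repIsoUliftYoneda Scheme.fppfPrecoverage R)
      (QuotSh.repIsoUliftYoneda Scheme.fppfPrecoverage U)
      (QuotSh.repIsoUliftYoneda Scheme.fppfPrecoverage U) (Iso.refl _)
      (Groth.Agent.S9869.repMap_comp_repIso s) (Groth.Agent.S9869.repMap_comp_repIso t)
      (by simp) (by simp)
  haveI : Epi ((QuotSh.repIsoUliftYoneda Scheme.fppfPrecoverage U).inv ≫
      QuotSh.quotπ Scheme.fppfPrecoverage s t) := by
    haveI : Epi (QuotSh.quotπ Scheme.fppfPrecoverage s t) :=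
      inferInstanceAs (Epi (coequalizer.π _ _))
    exact epi_comp _ _
  haveI : Sheaf.IsLocallySurjective ((QuotSh.repIsoUliftYoneda Scheme.fppfPrecoverage U).inv ≫
      QuotSh.quotπ Scheme.fppfPrecoverage s t) :=
    (Sheaf.isLocallySurjective_iff_epi _).2 inferInstance
  haveI := h.etale_left
  haveI := h.etale_right
  have hdiag : AlgSp.Representable
      (Limits.diag (QuotSh.quot Scheme.fppfPrecoverage s t)) :=
    Groth.Agent.Lib.H5bSpDesc.representable_diag_of_kernelPair _ s t sq
  have hrep : AlgSp.Representable ((QuotSh.repIsoUliftYoneda Scheme.fppfPrecoverage U).inv ≫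
      QuotSh.quotπ Scheme.fppfPrecoverage s t) :=
    Functor.relativelyRepresentable.of_diag hdiag _
  have hsurj : Surjective t.left := by
    obtain ⟨r, hr1, -⟩ := (h.equivalence U).refl (𝟙 U)
    constructor
    intro x
    refine ⟨r.left x, ?_⟩
    rw [← Scheme.Hom.comp_apply, ← Over.comp_left, hr1]
    rfl
  refine ⟨hdiag, U, (QuotSh.repIsoUliftYoneda Scheme.fppfPrecoverage U).inv ≫
      QuotSh.quotπ Scheme.fppfPrecoverage s t, ?_, ?_⟩
  · exact Groth.Agent.S9884.repWith_of_locallySurjective _ hrep _ _ _ sq @Etale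
      ((AlgSp.repWith_yon_map_iff @Etale t).2 h.etale_right)
  · exact Groth.Agent.S9884.repWith_of_locallySurjective _ hrep _ _ _ sq @Surjective
      ((AlgSp.repWith_yon_map_iff @Surjective t).2 hsurj)

/-- Let `s, t : R ⟶ U` be an etale equivalence relation on a scheme `U` over `S` (for every scheme `T`
over `S` the map from `T`-points of `R` to pairs of `T`-points of `U` is injective with image an
equivalence relation, and `s`, `t` are etale). Then the quotient sheaf `U/R` (the coequalizer of
`h_s, h_t` in fppf sheaves of sets over `S`) is an algebraic space over `S`. -/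
theorem result (S : Scheme.{u}) {R U : Over S} (s t : R ⟶ U)
    (h : AlgSp.IsEtaleEqvRel s t) :
    AlgSp.IsAlgSpace (QuotSh.quot Scheme.fppfPrecoverage s t) := by
  exact aux s t h

end Groth.Agent.S9868
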