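import Groth.Statements.S9877
import Mathlib
import Groth.Agent.Lib.H5bCoprodSp2
import Groth.Agent.S9884
import Groth.Agent.S14276

set_option autoImplicit false
universe u
open CategoryTheory CategoryTheory.Limits AlgebraicGeometry
open AlgSp

namespace Groth.Agent.S9877

open Groth.Agent.Lib.H5bCoprodSp Groth.Agent.S13210 Groth.Agent.S9878 Groth.Agent.S9900
  Groth.Agent.S9874 Groth.Agent.Lib.Helper12.ZarGlue

variable {S : Scheme.{u}} {F : AlgSp.Sp S} {ι : Type u} {Fi : ι → AlgSp.Sp S} (c : Cofan Fi)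
  (hc : IsColimit c) (d : c.pt ⟶ F)

include hc in
/-- the open subspaces cover every scheme mapping to `F`. -/
lemma exists_mem_range (hopen : ∀ i, AlgSp.RepWith @IsOpenImmersion (c.inj i ≫ d))
    (hsurj : Sheaf.IsLocallySurjective d) {T : Over S} (x : (AlgSp.yon S).obj T ⟶ F)
    (t : T.left) : ∃ i, t ∈ Set.range ((hopen i).rep.snd x).left := by
  haveI := hsurj
  obtain ⟨R, hR, hlift⟩ := Groth.Agent.S9884.exists_fppf_lift d x
  obtain ⟨hRs, -⟩ := (Groth.Agent.S14276.mem_precoverage_iff').1 hR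
  obtain ⟨U, g, hg, u, hu⟩ := hRs t
  obtain ⟨y, hy⟩ := hlift g hg
  obtain ⟨W, -, hcov, hW⟩ := exists_clopen_decomposition c hc y
  have hu' : u ∈ ⨆ j, W j := by rw [hcov]; trivial
  obtain ⟨i, hi⟩ := TopologicalSpace.Opens.mem_iSup.1 hu'
  obtain ⟨a, sq⟩ := hW i
  let T₁ : Over S := Over.mk (g ≫ T.hom)
  let g₁ : T₁ ⟶ T := Over.homMk g
  let W₁ : Over S := Over.mk ((W i).ι ≫ T₁.hom)
  let j₁ : W₁ ⟶ T₁ := Over.homMk (W i).ι
  have e1 : a ≫ c.inj i ≫ d = (AlgSp.yon S).map (j₁ ≫ g₁) ≫ x := by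
    rw [← Category.assoc, sq.w, Category.assoc, hy, Functor.map_comp, Category.assoc]
  have sq' := (hopen i).rep.isPullback x
  obtain ⟨m, hm⟩ := (AlgSp.yon S).map_surjective (sq'.lift a _ e1)
  have hm2 : m ≫ (hopen i).rep.snd x = j₁ ≫ g₁ := by
    apply (AlgSp.yon S).map_injective
    rw [Functor.map_comp, hm, sq'.lift_snd]
  refine ⟨i, m.left ⟨u, hi⟩, ?_⟩
  have h3 : m.left ≫ ((hopen i).rep.snd x).left = (W i).ι ≫ g := by
    rw [← Over.comp_left, hm2]
    rfl
  have h4 := congrArg (fun q => q ⟨u, hi⟩) h3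
  exact h4.trans hu

include hc in
/-- the coproduct of an open covering maps onto `F` by a representable étale surjection. -/
lemma repWith_desc (hopen : ∀ i, AlgSp.RepWith @IsOpenImmersion (c.inj i ≫ d))
    (hsurj : Sheaf.IsLocallySurjective d) :
    AlgSp.RepWith @Etale d ∧ AlgSp.RepWith @Surjective d := by
  have key : ∀ {T : Over S} (x : (AlgSp.yon S).obj T ⟶ F),
      ∃ (W₀ : Over S) (w₀ : W₀ ⟶ T) (a₀ : (AlgSp.yon S).obj W₀ ⟶ c.pt),
        IsPullback a₀ ((AlgSp.yon S).map w₀) d x ∧ Etale w₀.left ∧ Surjective w₀.left := by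
    intro T x
    obtain ⟨W₀, w₀, a₀, sq₀, k, hko, hks, hkw⟩ :=
      exists_rep_desc c hc d (fun i => (hopen i).rep) x
    refine ⟨W₀, w₀, a₀, sq₀, ?_, ?_⟩
    · let 𝒰 : W₀.left.OpenCover := {
        I₀ := ι, X i := ((hopen i).rep.pullback x).left, f i := (k i).left,
        mem₀ := by
          rw [Scheme.presieve₀_mem_precoverage_iff]
          exact ⟨fun w ↦ hks w, hko⟩ }
      refine (IsZariskiLocalAtSource.iff_of_openCover (P := @Etale) 𝒰).2 fun i => ?_
      have h1 : (k i).left ≫ w₀.left = ((hopen i).rep.snd x).left := by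
        rw [← Over.comp_left, hkw i]
      show Etale ((k i).left ≫ w₀.left)
      rw [h1]
      haveI : IsOpenImmersion ((hopen i).rep.snd x).left := (hopen i).property_snd x
      infer_instance
    · constructor
      intro t
      obtain ⟨i, q, hq⟩ := exists_mem_range c hc d hopen hsurj x t
      refine ⟨(k i).left q, ?_⟩
      have h1 : (k i).left ≫ w₀.left = ((hopen i).rep.snd x).left := by
        rw [← Over.comp_left, hkw i]
      have h2 := congrArg (fun m => m q) h1
      exact h2.trans hq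
  constructor
  · refine MorphismProperty.relative.of_exists (fun T x => ?_)
    obtain ⟨W₀, w₀, a₀, sq₀, h1, -⟩ := key x
    exact ⟨W₀, a₀, w₀, sq₀, h1⟩
  · refine MorphismProperty.relative.of_exists (fun T x => ?_)
    obtain ⟨W₀, w₀, a₀, sq₀, -, h2⟩ := key x
    exact ⟨W₀, a₀, w₀, sq₀, h2⟩

include hc in
/-- the diagonal of a sheaf covered by open subsheaves with representable diagonals is
representable. -/
lemma representable_diag_of_openCover (hdiag : ∀ i, AlgSp.Representable (Limits.diag (Fi i)))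
    (hopen : ∀ i, AlgSp.RepWith @IsOpenImmersion (c.inj i ≫ d))
    (hsurj : Sheaf.IsLocallySurjective d) : AlgSp.Representable (Limits.diag F) := by
  intro T g
  -- the open cover of `T` on which the second point factors through a member of the cover
  let Ti : ι → Over S := fun i => (hopen i).rep.pullback (g ≫ prod.snd)
  let j : ∀ i, Ti i ⟶ T := fun i => (hopen i).rep.snd (g ≫ prod.snd)
  haveI : ∀ i, IsOpenImmersion (j i).left := fun i => (hopen i).property_snd _
  have hj : ∀ t : T.left, ∃ i, t ∈ Set.range (j i).left :=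
    fun t => exists_mem_range c hc d hopen hsurj (g ≫ prod.snd) t
  have hloc : ∀ i, ∃ (E : Over S) (e : E ⟶ Ti i),
      IsEqLocus (((AlgSp.yon S).map (j i) ≫ g) ≫ prod.fst)
        (((AlgSp.yon S).map (j i) ≫ g) ≫ prod.snd) e := by
    intro i
    rw [Category.assoc, Category.assoc]
    let β : (AlgSp.yon S).obj (Ti i) ⟶ Fi i := (hopen i).rep.fst (g ≫ prod.snd)
    have hβ : β ≫ c.inj i ≫ d = (AlgSp.yon S).map (j i) ≫ g ≫ prod.snd :=
      ((hopen i).rep.isPullback (g ≫ prod.snd)).w
    let a' : (AlgSp.yon S).obj (Ti i) ⟶ F := (AlgSp.yon S).map (j i) ≫ g ≫ prod.fst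
    let V : Over S := (hopen i).rep.pullback a'
    let v : V ⟶ Ti i := (hopen i).rep.snd a'
    let α : (AlgSp.yon S).obj V ⟶ Fi i := (hopen i).rep.fst a'
    have sqV := (hopen i).rep.isPullback a'
    have hα : α ≫ c.inj i ≫ d = (AlgSp.yon S).map v ≫ a' := sqV.w
    haveI : IsOpenImmersion v.left := (hopen i).property_snd _
    haveI : Mono v := by
      haveI : Mono v.left := inferInstance
      exact Over.mono_of_mono_left v
    obtain ⟨E, e, he⟩ := exists_isEqLocus (hdiag i) α ((AlgSp.yon S).map v ≫ β)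
    haveI : Mono e := he.1
    refine ⟨E, e ≫ v, mono_comp _ _, fun T' t => ⟨fun hab => ?_, ?_⟩⟩
    · have e1 : ((AlgSp.yon S).map t ≫ β) ≫ c.inj i ≫ d = (AlgSp.yon S).map t ≫ a' := by
        rw [Category.assoc, hβ, ← hab]
      obtain ⟨t₁, ht₁⟩ := (AlgSp.yon S).map_surjective (sqV.lift _ _ e1)
      have ht₁a : (AlgSp.yon S).map t₁ ≫ α = (AlgSp.yon S).map t ≫ β := by
        rw [ht₁, sqV.lift_fst]
      have ht₁b : t₁ ≫ v = t := by
        apply (AlgSp.yon S).map_injective
        rw [Functor.map_comp, ht₁, sqV.lift_snd]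
      obtain ⟨t', ht'⟩ := (he.2 T' t₁).1 (by
        rw [ht₁a, ← Category.assoc, ← Functor.map_comp, ht₁b])
      exact ⟨t', by rw [← Category.assoc, ht', ht₁b]⟩
    · rintro ⟨t', rfl⟩
      have h1 := he.eq
      have h2 : (AlgSp.yon S).map (t' ≫ e ≫ v) ≫ (AlgSp.yon S).map (j i) ≫ g ≫ prod.fst =
          (AlgSp.yon S).map t' ≫ ((AlgSp.yon S).map e ≫ α) ≫ c.inj i ≫ d := by
        rw [Category.assoc, hα, Functor.map_comp, Functor.map_comp]
        simp only [Category.assoc]
        rfl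
      have h3 : (AlgSp.yon S).map (t' ≫ e ≫ v) ≫ (AlgSp.yon S).map (j i) ≫ g ≫ prod.snd =
          (AlgSp.yon S).map t' ≫ ((AlgSp.yon S).map e ≫ (AlgSp.yon S).map v ≫ β) ≫
            c.inj i ≫ d := by
        rw [Functor.map_comp, Functor.map_comp]
        simp only [Category.assoc]
        rw [hβ]
      rw [h2, h3, h1]
  choose E e he using hloc
  obtain ⟨W₀, w₀, a₀, sq₀, -⟩ := exists_rep_of_openCover (Limits.diag F) g Ti j E e _
    (fun i => IsEqLocus.isPullback_diag _ (he i)) hj
  exact ⟨W₀, w₀, a₀, sq₀⟩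

/-- Let `F` be an fppf sheaf of sets over `S` and `F_i ⟶ F` a family of maps of sheaves such that each
`F_i` is an algebraic space over `S`, each `F_i ⟶ F` is representable by open immersions, the
induced map from the coproduct `∐ F_i` (in sheaves) to `F` is a surjective map of sheaves, and `∐
F_i` is an algebraic space. Then `F` is an algebraic space over `S`. -/
theorem result (S : Scheme.{u}) (F : AlgSp.Sp S) {ι : Type u} (Fi : ι → AlgSp.Sp S)
    (f : ∀ i, Fi i ⟶ F) (halg : ∀ i, AlgSp.IsAlgSpace (Fi i))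
    (hopen : ∀ i, AlgSp.RepWith @IsOpenImmersion (f i)) (c : Cofan Fi) (hc : IsColimit c)
    (hsurj : Sheaf.IsLocallySurjective (Cofan.IsColimit.desc hc f)) (hcop : AlgSp.IsAlgSpace c.pt) :
    AlgSp.IsAlgSpace F := by
  have hd : ∀ i, c.inj i ≫ Cofan.IsColimit.desc hc f = f i := fun i => Cofan.IsColimit.fac hc f i
  have hopen' : ∀ i, AlgSp.RepWith @IsOpenImmersion (c.inj i ≫ Cofan.IsColimit.desc hc f) :=
    fun i => by rw [hd i]; exact hopen i
  constructor
  · exact representable_diag_of_openCover c hc _ (fun i => (halg i).diag) hopen' hsurj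
  · obtain ⟨U, p, hpe, hps⟩ := hcop.atlas
    obtain ⟨h1, h2⟩ := repWith_desc c hc _ hopen' hsurj
    exact ⟨U, p ≫ Cofan.IsColimit.desc hc f, MorphismProperty.comp_mem _ _ _ hpe h1,
      MorphismProperty.comp_mem _ _ _ hps h2⟩

end Groth.Agent.S9877
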