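import Groth.Statements.S9881
import Mathlib
import Groth.Agent.Lib.H5bCoprodSp

set_option autoImplicit false
universe u
open CategoryTheory CategoryTheory.Limits AlgebraicGeometry
open AlgSp

namespace Groth.Agent.S9881

open Groth.Agent.Lib.H5bCoprodSp

/-- Let `F_i` be a family of algebraic spaces over `S` indexed by a type in the universe of `S`, so that
the coproduct of any chosen atlases exists as a scheme (this realizes the size condition of the
published statement). Then the coproduct `∐ F_i` in fppf sheaves of sets over `S` (any colimit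
cofan) is an algebraic space over `S`. -/
theorem result (S : Scheme.{u}) {ι : Type u} (F : ι → AlgSp.Sp S)
    (h : ∀ i, AlgSp.IsAlgSpace (F i)) (c : Cofan F) (hc : IsColimit c) : AlgSp.IsAlgSpace c.pt := by
  constructor
  · exact representable_diag c hc (fun i => (h i).diag)
  · choose U p hpe hps using fun i => (h i).atlas
    let c' : Cofan (fun i => (AlgSp.yon S).obj (U i)) :=
      Cofan.mk (∐ fun i => (AlgSp.yon S).obj (U i)) (Sigma.ι _)
    have hc' : IsColimit c' := coproductIsCoproduct _
    obtain ⟨W, e, k, hk, -⟩ := exists_yon_iso U c' hc'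
    let Φ : c'.pt ⟶ c.pt := Cofan.IsColimit.desc hc' (fun i => p i ≫ c.inj i)
    have hΦ : ∀ i, c'.inj i ≫ Φ = p i ≫ c.inj i := fun i => Cofan.IsColimit.fac hc' _ i
    refine ⟨W, e.hom ≫ Φ, ?_, ?_⟩
    · exact (MorphismProperty.cancel_left_of_respectsIso (AlgSp.RepWith @Etale) e.hom Φ).2
        (repWith_map_of_zariskiLocal c hc @Etale c' hc' p Φ hΦ hpe)
    · exact (MorphismProperty.cancel_left_of_respectsIso (AlgSp.RepWith @Surjective) e.hom Φ).2
        (repWith_map_of_zariskiLocal c hc @Surjective c' hc' p Φ hΦ hps)

end Groth.Agent.S9881
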