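import Groth.Statements.S10139
import Mathlib
import Groth.Agent.Lib.H5bSlRel
import Groth.Agent.Lib.H5bSlGlob
import Groth.Agent.Lib.H5bSlQuot

set_option autoImplicit false
universe u
open CategoryTheory CategoryTheory.Limits AlgebraicGeometry
open AlgSp

namespace Groth.Agent.S10139

open Groth.Agent.Lib.H5bSl Groth.Agent.Lib.H5bEL

/-- Take an equivalence relation `j : R ⟶ U ×_S U` of schemes over `S`, with `s, t` flat and locally of
finite presentation. Then there exist an equivalence relation `j' : R' ⟶ U' ×_S U'` on schemes over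
`S` with `s', t'` flat, locally of finite presentation and locally quasi-finite, and a morphism `U'
⟶ U` mapping `R'` into `R` which induces an isomorphism of fppf quotient sheaves `U'/R' ⟶ U/R`. -/
theorem result (S : Scheme.{u}) {R U : Over S} (s t : R ⟶ U)
    (h : AlgSp.IsEqvRel s t) [Flat s.left] [LocallyOfFinitePresentation s.left]
    [Flat t.left] [LocallyOfFinitePresentation t.left] :
    ∃ (R' U' : Over S) (s' t' : R' ⟶ U') (g : U' ⟶ U) (r : R' ⟶ R)
      (ψ : QuotSh.quot Scheme.fppfPrecoverage s' t' ⟶ QuotSh.quot Scheme.fppfPrecoverage s t),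
      AlgSp.IsEqvRel s' t' ∧ r ≫ s = s' ≫ g ∧ r ≫ t = t' ≫ g ∧
      Flat s'.left ∧ LocallyOfFinitePresentation s'.left ∧ LocallyQuasiFinite s'.left ∧
      Flat t'.left ∧ LocallyOfFinitePresentation t'.left ∧ LocallyQuasiFinite t'.left ∧
      QuotSh.quotπ Scheme.fppfPrecoverage s' t' ≫ ψ = QuotSh.repMap Scheme.fppfPrecoverage g ≫ QuotSh.quotπ Scheme.fppfPrecoverage s t ∧ IsIso ψ := by
  have : Flat (grpdOfEqv h).s := ‹Flat s.left›
  have : LocallyOfFinitePresentation (grpdOfEqv h).s := ‹LocallyOfFinitePresentation s.left›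
  have : Flat (grpdOfEqv h).t := ‹Flat t.left›
  have : LocallyOfFinitePresentation (grpdOfEqv h).t := ‹LocallyOfFinitePresentation t.left›
  obtain ⟨U₀, g₀, hlfp, hflat, hlqf, hsurj⟩ : ∃ (U₀ : Scheme.{u}) (g₀ : U₀ ⟶ U.left),
      LocallyOfFinitePresentation g₀ ∧ Flat (hh (grpdOfEqv h) g₀) ∧
        LocallyQuasiFinite (hh (grpdOfEqv h) g₀) ∧ Surjective (hh (grpdOfEqv h) g₀) :=
    exists_global_slice (grpdOfEqv h)
  have := hlfp
  have := hflat
  have := hlqf
  have hlfp' : LocallyOfFinitePresentation (hh (grpdOfEqv h) g₀) :=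
    @lfp_hh S (grpdOfEqv h) U₀ g₀ ‹_› hlfp
  -- the fppf covering `U₀ ×_{g₀,U,t} R ⟶ R ⟶ U`
  let Z : Over S := Over.mk (pullback.snd g₀ t.left ≫ R.hom)
  let ρ : Z ⟶ R := Over.homMk (pullback.snd g₀ t.left) rfl
  let a : Z ⟶ resU h g₀ := Over.homMk (pullback.fst g₀ t.left) (by
    show pullback.fst g₀ t.left ≫ g₀ ≫ U.hom = pullback.snd g₀ t.left ≫ R.hom
    rw [← Category.assoc, pullback.condition, Category.assoc, Over.w t])
  have hρ : ρ ≫ t = a ≫ resG h g₀ := by
    apply Over.OverMorphism.ext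
    exact pullback.condition.symm
  have : Flat (ρ ≫ s).left := hflat
  have : LocallyOfFinitePresentation (ρ ≫ s).left := hlfp'
  have : Surjective (ρ ≫ s).left := hsurj
  obtain ⟨ψ, hψ, hiso⟩ := exists_iso_quot h (resG h g₀) (resr h g₀) (isEqvRel_res h g₀)
    (resr_s h g₀) (resr_t h g₀)
    (fun T a b ρ₀ ht hs => ⟨resMk h g₀ ρ₀ a b ht hs, resMk_t h g₀ ρ₀ a b ht hs,
      resMk_s h g₀ ρ₀ a b ht hs⟩) ρ a hρ
  exact ⟨resR h g₀, resU h g₀, resS h g₀, resT h g₀, resG h g₀, resr h g₀, ψ,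
    isEqvRel_res h g₀, resr_s h g₀, resr_t h g₀,
    flat_resS (grpdOfEqv h) g₀, lfp_resS (grpdOfEqv h) g₀, lqf_resS (grpdOfEqv h) g₀,
    flat_resT (grpdOfEqv h) g₀, lfp_resT (grpdOfEqv h) g₀, lqf_resT (grpdOfEqv h) g₀, hψ, hiso⟩

end Groth.Agent.S10139
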