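import Groth.Statements.S10104
import Mathlib
import Groth.Agent.S10103
import Groth.Agent.Lib.H5bBootQ
import Groth.Agent.Lib.H5bSlCov

set_option autoImplicit false
universe u
open CategoryTheory CategoryTheory.Limits AlgebraicGeometry
open AlgSp

namespace Groth.Agent.S10104

/-- Let `F` be an fppf sheaf of sets over `S` admitting a map `U ⟶ F` from an algebraic space `U`, where
the map is representable by algebraic spaces and is flat, surjective and locally of finite
presentation. It follows that `F` is an algebraic space over `S`. (The published statement lists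
further sufficient conditions, namely `U` a scheme, or the diagonal of `F` representable by
algebraic spaces with `U ⟶ F` surjective, flat and locally of finite presentation, each of which
implies the hypotheses of this row.) -/
theorem result (S : Scheme.{u}) (F : AlgSp.Sp S) (U : AlgSp.Space S)
    (p : U.obj ⟶ F) (hp : AlgSp.RepBySpWith (AlgSp.IsSurjectiveMor ⊓ AlgSp.LocP @Flat ⊓ AlgSp.LocP @LocallyOfFinitePresentation) p.hom) :
    AlgSp.IsAlgSpace F := by
  obtain ⟨R, V, s, t, q, hq, hk, hfs, hps, hft, hpt⟩ :=
    Groth.Agent.Lib.H5bBoot.exists_presentation_of_fppf_cover F U p hp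
  have hE := Groth.Agent.Lib.H5bBoot.isEqvRel_of_isKernelPair s t q hk
  have hA := Groth.Agent.S10103.result S s t hE
  obtain ⟨ψ, hψ⟩ := Groth.Agent.Lib.H5bSl.exists_iso_of_kernelPair s t q hk.flip
  exact hA.of_iso (asIso ψ)

end Groth.Agent.S10104
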