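import Groth.Statements.S19569
import Mathlib

set_option autoImplicit false
universe u
open CAlg

namespace Groth.Agent.S19569

namespace Aux

theorem exists_lift {ι : Type u} [Preorder ι] [IsDirected ι (· ≤ ·)] [Nonempty ι]
    (G : ι → Type u) [∀ i, CommRing (G i)] (f : ∀ i j, i ≤ j → (G i →+* G j))
    (A : Type u) [CommRing A] (g : ∀ i, G i →+* A)
    (hg : ∀ i j (h : i ≤ j), (g j).comp (f i j h) = g i)
    (hsurj : ∀ a : A, ∃ i, ∃ x : G i, g i x = a)
    (hker : ∀ i (x : G i), g i x = 0 → ∃ j, ∃ h : i ≤ j, f i j h x = 0)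
    (A₀ : Type u) [CommRing A₀] [Algebra.FinitePresentation ℤ A₀] (θ : A₀ →+* A) :
    ∃ (j : ι) (χ : A₀ →+* G j), (g j).comp χ = θ := by
  classical
  obtain ⟨m, φ, hφ, S, hS⟩ := Algebra.FinitePresentation.out (R := ℤ) (A := A₀)
  -- Step 1
  choose ik yk hyk using fun k : Fin m => hsurj (θ (φ (MvPolynomial.X k)))
  obtain ⟨i, hi⟩ := Finite.exists_le ik
  let y : Fin m → G i := fun k => f (ik k) i (hi k) (yk k)
  have hy : ∀ k, g i (y k) = θ (φ (MvPolynomial.X k)) := by
    intro k
    rw [← hyk k, ← hg (ik k) i (hi k)]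
    rfl
  let ψ₀ : MvPolynomial (Fin m) ℤ →+* G i := (MvPolynomial.aeval y).toRingHom
  have hψ₀ : (g i).comp ψ₀ = θ.comp φ.toRingHom := by
    apply MvPolynomial.ringHom_ext
    · intro n
      have := RingHom.ext_int (((g i).comp ψ₀).comp MvPolynomial.C)
        ((θ.comp φ.toRingHom).comp MvPolynomial.C)
      exact congrArg (fun h => h n) this
    · intro k
      simp [ψ₀, hy]
  -- Step 3
  have key : ∀ T : Finset (MvPolynomial (Fin m) ℤ), (∀ s ∈ T, φ s = 0) →
      ∃ (j : ι) (ψ : MvPolynomial (Fin m) ℤ →+* G j),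
        (g j).comp ψ = θ.comp φ.toRingHom ∧ ∀ s ∈ T, ψ s = 0 := by
    intro T
    induction T using Finset.induction_on with
    | empty => intro _; exact ⟨i, ψ₀, hψ₀, by simp⟩
    | insert s T hs ih =>
      intro hT
      obtain ⟨j, ψ, hψ, hψT⟩ := ih fun t ht => hT t (Finset.mem_insert_of_mem ht)
      have h0 : g j (ψ s) = 0 := by
        have := congrArg (fun h => h s) hψ
        simp only [RingHom.comp_apply] at this
        rw [this]
        show θ (φ s) = 0
        rw [hT s (Finset.mem_insert_self s T), map_zero]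
      obtain ⟨j', hjj', hj'⟩ := hker j (ψ s) h0
      refine ⟨j', (f j j' hjj').comp ψ, ?_, ?_⟩
      · rw [← RingHom.comp_assoc, hg, hψ]
      · intro t ht
        rcases Finset.mem_insert.mp ht with rfl | ht
        · exact hj'
        · simp [hψT t ht]
  obtain ⟨j, ψ, hψ, hψS⟩ := key S (by
    intro s hs
    have : s ∈ RingHom.ker φ.toRingHom := by rw [← hS]; exact Ideal.subset_span hs
    exact this)
  have hle : RingHom.ker φ.toRingHom ≤ RingHom.ker ψ := by
    rw [← hS, Ideal.span_le]
    intro s hs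
    exact hψS s hs
  refine ⟨j, φ.toRingHom.liftOfSurjective hφ ⟨ψ, hle⟩, ?_⟩
  ext a
  obtain ⟨q, rfl⟩ := hφ a
  have h1 := RingHom.liftOfSurjective_comp_apply φ.toRingHom hφ ⟨ψ, hle⟩ q
  have h2 := congrArg (fun h => h q) hψ
  simp only [RingHom.comp_apply] at h2
  show g j ((φ.toRingHom.liftOfSurjective hφ ⟨ψ, hle⟩) (φ.toRingHom q)) = θ (φ.toRingHom q)
  rw [h1, h2]

end Aux

open TensorProduct in
/-- Let A be the colimit of a directed system of rings (A_i), given by compatible ring maps A_i → A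
which are jointly surjective and such that an element of some A_i mapping to zero in A already maps
to zero in some later A_j, and let B be an étale A-algebra. Then for some index i there is an étale
A_i-algebra B_i such that B is isomorphic, as an A-algebra, to the base change A ⊗_{A_i} B_i
(existence of an isomorphism). (Stated for a system indexed by a directed preordered set.) -/
theorem result {ι : Type u} [Preorder ι] [IsDirected ι (· ≤ ·)] [Nonempty ι]
    (G : ι → Type u) [∀ i, CommRing (G i)] (f : ∀ i j, i ≤ j → (G i →+* G j))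
    (A : Type u) [CommRing A] (g : ∀ i, G i →+* A) (hg : ∀ i j (h : i ≤ j), (g j).comp (f i j h) = g i)
    (hsurj : ∀ a : A, ∃ i, ∃ x : G i, g i x = a)
    (hker : ∀ i (x : G i), g i x = 0 → ∃ j, ∃ h : i ≤ j, f i j h x = 0)
    (B : Type u) [CommRing B] [Algebra A B] [Algebra.Etale A B] :
    ∃ (i : ι) (Bi : Type u) (_ : CommRing Bi) (_ : Algebra (G i) Bi), Algebra.Etale (G i) Bi ∧
      letI : Algebra (G i) A := (g i).toAlgebra
      Nonempty (B ≃ₐ[A] A ⊗[G i] Bi) := by
  obtain ⟨A₀, B₀, _, _, hfg, hEt, ⟨e⟩⟩ := Algebra.Etale.exists_subalgebra_fg ℤ A B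
  haveI : Algebra.FiniteType ℤ A₀ := (Subalgebra.fg_iff_finiteType A₀).mp hfg
  haveI : Algebra.FinitePresentation ℤ A₀ := Algebra.FinitePresentation.of_finiteType.mp inferInstance
  obtain ⟨j, χ, hχ⟩ := Aux.exists_lift G f A g hg hsurj hker A₀ (algebraMap A₀ A)
  letI : Algebra A₀ (G j) := χ.toAlgebra
  letI : Algebra (G j) A := (g j).toAlgebra
  haveI : IsScalarTower A₀ (G j) A := IsScalarTower.of_algebraMap_eq' hχ.symm
  refine ⟨j, G j ⊗[A₀] B₀, inferInstance, inferInstance, inferInstance, ?_⟩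
  exact ⟨e.trans (Algebra.TensorProduct.cancelBaseChange A₀ (G j) A A B₀).symm⟩

end Groth.Agent.S19569
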