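import Groth.Statements.S9973
import Mathlib
import Groth.Agent.Lib.H5bFibCrit
import Groth.Agent.Lib.Helper15ImmQc
import Groth.Agent.Lib.Helper8DiagEq
import Groth.Agent.Lib.Helper12SchDense

set_option autoImplicit false
universe u
open CategoryTheory CategoryTheory.Limits AlgebraicGeometry
open AlgSp

namespace Groth.Agent.S9973

/-- The inverse image of a quasi-compact scheme theoretically dense open under a flat morphism of
algebraic spaces is scheme theoretically dense. -/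
theorem result {S : Scheme.{u}} {X Y V V' : AlgSp.Space S} (f : X ⟶ Y)
    (hf : AlgSp.LocP @Flat f.hom) (j : V ⟶ Y) (hj : AlgSp.IsSchDense j.hom) (hjq : AlgSp.IsQuasiCompactMor j.hom)
    (fst : V' ⟶ V) (jX : V' ⟶ X) (sq : IsPullback fst.hom jX.hom j.hom f.hom) : AlgSp.IsSchDense jX.hom := by
  obtain ⟨hop, V₀, φ, W, fstV, hφe, hφs, sqV, hW⟩ := hj
  obtain ⟨UX, p, hpe, hps⟩ := X.property.atlas
  obtain ⟨W₁, sndW, fst', sq₁⟩ := hφe.1 (p ≫ f.hom)
  obtain ⟨h, rfl⟩ := (AlgSp.yon S).map_surjective fst'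
  have hsndE : Etale sndW.left := hφe.2 _ _ sndW sq₁
  have hsndS : Surjective sndW.left := hφs.2 _ _ sndW sq₁
  let φ' : (AlgSp.yon S).obj W₁ ⟶ X.obj := (AlgSp.yon S).map sndW ≫ p
  have hφ'e : AlgSp.RepWith @Etale φ' :=
    (AlgSp.repWith_isMultiplicative (S := S) @Etale).comp_mem _ _
      ((AlgSp.repWith_yon_map_iff _ _).2 hsndE) hpe
  have hφ's : AlgSp.RepWith @Surjective φ' :=
    (AlgSp.repWith_isMultiplicative (S := S) @Surjective).comp_mem _ _
      ((AlgSp.repWith_yon_map_iff _ _).2 hsndS) hps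
  have hcomm : φ' ≫ f.hom = (AlgSp.yon S).map h ≫ φ := by
    rw [Category.assoc]; exact sq₁.w.symm
  haveI hflat : Flat h.left := hf φ' φ h hφ'e hφe hcomm
  let OW : Over S := Over.mk (W.ι ≫ V₀.hom)
  let ιW : OW ⟶ V₀ := Over.homMk W.ι rfl
  have hq1 : AlgSp.IsQuasiCompactMor ((AlgSp.yon S).map ιW) :=
    Groth.Agent.Lib.Helper15ImmQc.isQuasiCompactMor_of_isPullback sqV hjq
  haveI hqcW : QuasiCompact W.ι :=
    Groth.Agent.Lib.Helper8DiagEq.quasiCompact_of_isQuasiCompactMor_yon_map ιW hq1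
  have hW' : CInt.IsSchematicallyDense (h.left ⁻¹ᵁ W) :=
    Groth.Agent.Lib.Helper12.SchDense.isSchematicallyDense_preimage_of_flat h.left W hW
  refine ⟨(AlgSp.repWith_isStableUnderBaseChange (S := S) @IsOpenImmersion).of_isPullback sq hop,
    W₁, φ', h.left ⁻¹ᵁ W, ?_⟩
  have sqSch : IsPullback (h.left ⁻¹ᵁ W).ι (h.left ∣_ W) h.left W.ι :=
    (isPullback_morphismRestrict h.left W).flip
  let OW' : Over S := Over.mk ((h.left ⁻¹ᵁ W).ι ≫ W₁.hom)
  let ιW' : OW' ⟶ W₁ := Over.homMk (h.left ⁻¹ᵁ W).ι rfl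
  let k : OW' ⟶ OW := Over.homMk (h.left ∣_ W) (by
    change (h.left ∣_ W) ≫ W.ι ≫ V₀.hom = (h.left ⁻¹ᵁ W).ι ≫ W₁.hom
    rw [← Category.assoc, ← sqSch.w, Category.assoc, Over.w h])
  have hw : ιW' ≫ h = k ≫ ιW := by
    ext
    exact sqSch.w
  have sqY : IsPullback ((AlgSp.yon S).map ιW') ((AlgSp.yon S).map k) ((AlgSp.yon S).map h)
      ((AlgSp.yon S).map ιW) :=
    Groth.Agent.Lib.H5bFibCrit.isPullback_yon_of_left ιW' k h ιW hw sqSch
  have big : IsPullback ((AlgSp.yon S).map k ≫ fstV) ((AlgSp.yon S).map ιW') j.hom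
      ((AlgSp.yon S).map h ≫ φ) :=
    sqY.flip.paste_horiz sqV
  have hlift : ((AlgSp.yon S).map k ≫ fstV) ≫ j.hom =
      ((AlgSp.yon S).map ιW' ≫ φ') ≫ f.hom := by
    rw [big.w, Category.assoc, hcomm]
  let fst'' : (AlgSp.yon S).obj OW' ⟶ V'.obj := sq.lift _ _ hlift
  have h1 : fst'' ≫ fst.hom = (AlgSp.yon S).map k ≫ fstV := sq.lift_fst _ _ _
  have h2 : fst'' ≫ jX.hom = (AlgSp.yon S).map ιW' ≫ φ' := sq.lift_snd _ _ _
  have big' : IsPullback (fst'' ≫ fst.hom) ((AlgSp.yon S).map ιW') j.hom (φ' ≫ f.hom) := by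
    rw [h1, hcomm]; exact big
  exact ⟨fst'', hφ'e, hφ's, IsPullback.of_right big' h2 sq, hW'⟩

end Groth.Agent.S9973
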