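import Groth.Statements.S10129
import Mathlib
import Groth.Agent.Lib.H5bAtlasDesc
import Groth.Agent.Lib.Helper12SchDenseExt
import Groth.Agent.S9874
import Groth.Agent.S9876
import Groth.Agent.S9907
import Groth.Agent.S9973
import Groth.Agent.S9984
import Groth.Agent.S9985
import Groth.Agent.S10096

set_option autoImplicit false
universe u
open CategoryTheory CategoryTheory.Limits AlgebraicGeometry
open AlgSp

namespace Groth.Agent.S10129

variable {S : Scheme.{u}}

/-- the source of a representable morphism to an algebraic space is an algebraic space. -/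
lemma isAlgSpace_of_representable {V X : AlgSp.Sp S} (hX : AlgSp.IsAlgSpace X) (v : V ⟶ X)
    (hv : AlgSp.Representable v) : AlgSp.IsAlgSpace V := by
  rw [← AlgSp.isAlgSpaceP_obj_iff]
  refine Groth.Agent.S9876.result S ⟨X, hX⟩ V.obj v.hom ?_
  intro U ξ
  obtain ⟨b, snd, fst, sq⟩ := hv (ObjectProperty.homMk ξ : (AlgSp.yon S).obj U ⟶ X)
  exact ⟨b, snd, fst.hom, sq.map (sheafToPresheaf _ _)⟩

/-- a closed immersion through which a scheme theoretically dense open factors admits,
after an étale surjective chart, a section: maps equalized by it are equal. -/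
lemma eq_of_closed_of_schDense {R E VR Y : AlgSp.Sp S} (e : E ⟶ R)
    (he : AlgSp.RepWith @IsClosedImmersion e) (j : VR ⟶ R) (hj : AlgSp.IsSchDense j)
    (l : VR ⟶ E) (hl : l ≫ e = j) (a b : R ⟶ Y) (hab : e ≫ a = e ≫ b) : a = b := by
  obtain ⟨-, T, ψ, W, fstW, hψe, hψs, sqW, hW⟩ := hj
  obtain ⟨TE, c, fstE, sqE⟩ := he.1 ψ
  haveI hc : IsClosedImmersion c.left := he.2 ψ fstE c sqE
  have hcomm : (fstW ≫ l) ≫ e =
      (AlgSp.yon S).map (Over.homMk W.ι rfl : Over.mk (W.ι ≫ T.hom) ⟶ T) ≫ ψ := by
    rw [Category.assoc, hl, sqW.w]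
  obtain ⟨k, hk⟩ := (AlgSp.yon S).map_surjective (sqE.lift _ _ hcomm)
  have hkc : k ≫ c = (Over.homMk W.ι rfl : Over.mk (W.ι ≫ T.hom) ⟶ T) := by
    apply (AlgSp.yon S).map_injective
    rw [CategoryTheory.Functor.map_comp, hk, sqE.lift_snd]
  have hkc' : k.left ≫ c.left = W.ι := by
    have := congrArg CommaMorphism.left hkc
    exact this
  haveI : IsIso c.left :=
    Groth.Agent.Lib.Helper12.SchDense.isIso_of_isSchematicallyDense_factors c.left W hW k.left hkc'
  haveI : IsIso c := by
    haveI : IsIso ((Over.forget S).map c) := ‹IsIso c.left›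
    exact isIso_of_reflects_iso c (Over.forget S)
  haveI : Epi ψ := Groth.Agent.Lib.H5bAtlasDesc.epi_of_atlas ψ hψe hψs
  rw [← cancel_epi ψ]
  have hψ : ψ = inv ((AlgSp.yon S).map c) ≫ fstE ≫ e := by
    rw [sqE.w, IsIso.inv_hom_id_assoc]
  rw [hψ, Category.assoc, Category.assoc, hab, Category.assoc, Category.assoc]

/-- Consider morphisms `g : X ⟶ Z` and `f : X ⟶ Y` of algebraic spaces over `B`, with `Y ⟶ B` separated
and `g` surjective, flat and locally of finite presentation, and let `V ⊂ Z` be a scheme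
theoretically dense open subspace with `V ⟶ Z` quasi-compact such that `f` restricted to `g⁻¹(V)`
factors through `g⁻¹(V) ⟶ V`. Then `f` factors through `g`. (The published statement does not ask
the open immersion `V ⟶ Z` to be quasi-compact; the published proof pulls the scheme theoretic
density of `V` back along a flat morphism by a lemma that requires it, so this row assumes it.) -/
theorem result (S : Scheme.{u}) (B : AlgSp.Sp S) (hB : AlgSp.IsAlgSpace B)
    (X Y Z : AlgSp.Space S) (pX : X.obj ⟶ B) (pY : Y.obj ⟶ B) (pZ : Z.obj ⟶ B)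
    (f : X.obj ⟶ Y.obj) (g : X.obj ⟶ Z.obj) (hf : f ≫ pY = pX) (hg : g ≫ pZ = pX)
    (hY : AlgSp.IsSeparatedMor pY)
    (hgs : AlgSp.IsSurjectiveMor g) (hgf : AlgSp.LocP @Flat g) (hgp : AlgSp.LocP @LocallyOfFinitePresentation g)
    (V : AlgSp.Sp S) (v : V ⟶ Z.obj) (hv : AlgSp.IsSchDense v) (hvq : AlgSp.IsQuasiCompactMor v)
    (hfac : ∃ φ : V ⟶ Y.obj, pullback.fst g v ≫ f = pullback.snd g v ≫ φ) :
    ∃ h : Z.obj ⟶ Y.obj, g ≫ h = f := by
  classical
  -- Step 1: `g` is an epimorphism of fppf sheaves
  have hgrep : AlgSp.RepBySpWith (AlgSp.IsSurjectiveMor ⊓ AlgSp.LocP @Flat ⊓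
      AlgSp.LocP @LocallyOfFinitePresentation) g.hom := by
    rw [AlgSp.repBySpWith_hom_iff]
    intro U ξ F' fst snd sq
    have hF' : AlgSp.IsAlgSpace F' :=
      Groth.Agent.S9874.isAlgSpace_of_isPullback Z.property.diag X.property
        (AlgSp.IsAlgSpace.yon_obj U) sq
    refine ⟨hF', ⟨?_, ?_⟩, ?_⟩
    · exact Groth.Agent.S9907.result (X := X) (Y := Z) (Y' := ⟨_, AlgSp.IsAlgSpace.yon_obj U⟩)
        (ObjectProperty.homMk g) (ObjectProperty.homMk ξ) fst snd sq hgs
    · exact Groth.Agent.S9984.result @Flat (Or.inr (Or.inr (Or.inl rfl)))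
        (X := X) (Y := Z) (Y' := ⟨_, AlgSp.IsAlgSpace.yon_obj U⟩) (X' := ⟨F', hF'⟩)
        (ObjectProperty.homMk g) (ObjectProperty.homMk ξ) (ObjectProperty.homMk fst)
        (ObjectProperty.homMk snd) sq hgf
    · exact Groth.Agent.S9984.result @LocallyOfFinitePresentation (Or.inr (Or.inl rfl))
        (X := X) (Y := Z) (Y' := ⟨_, AlgSp.IsAlgSpace.yon_obj U⟩) (X' := ⟨F', hF'⟩)
        (ObjectProperty.homMk g) (ObjectProperty.homMk ξ) (ObjectProperty.homMk fst)
        (ObjectProperty.homMk snd) sq hgp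
  haveI hepi : Epi g := Groth.Agent.S10096.result S X.obj Z.obj g hgrep
  haveI := IsRegularEpiCategory.regularEpiOfEpi g
  haveI : EffectiveEpi g := inferInstance
  -- Step 2: it suffices that `f` coequalizes the kernel pair of `g`
  suffices hker : pullback.fst g g ≫ f = pullback.snd g g ≫ f by
    have h : ∀ {Q : AlgSp.Sp S} (g₁ g₂ : Q ⟶ X.obj), g₁ ≫ g = g₂ ≫ g → g₁ ≫ f = g₂ ≫ f := by
      intro Q g₁ g₂ hg12
      rw [← pullback.lift_fst g₁ g₂ hg12, Category.assoc, hker, ← Category.assoc,
        pullback.lift_snd]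
    exact ⟨EffectiveEpi.desc g f h, EffectiveEpi.fac g f h⟩
  -- notation
  have hcond : pullback.fst g g ≫ g = pullback.snd g g ≫ g := pullback.condition
  have hR : AlgSp.IsAlgSpace (pullback g g) :=
    Groth.Agent.S9874.isAlgSpace_of_isPullback Z.property.diag X.property X.property
      (IsPullback.of_hasPullback g g)
  have hV : AlgSp.IsAlgSpace V := isAlgSpace_of_representable Z.property v hv.1.1
  -- flatness of `q := p₂ ≫ g`
  have hp₂f : AlgSp.LocP @Flat (pullback.snd g g) :=
    Groth.Agent.S9984.result @Flat (Or.inr (Or.inr (Or.inl rfl)))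
      (X := X) (Y := Z) (Y' := X) (X' := ⟨pullback g g, hR⟩)
      (ObjectProperty.homMk g) (ObjectProperty.homMk g) (ObjectProperty.homMk (pullback.fst g g))
      (ObjectProperty.homMk (pullback.snd g g)) (IsPullback.of_hasPullback g g) hgf
  have hqf : AlgSp.LocP @Flat (pullback.snd g g ≫ g) :=
    Groth.Agent.S9985.result @Flat (Or.inr (Or.inr (Or.inl rfl)))
      (X := ⟨pullback g g, hR⟩) (Y := X) (Z := Z)
      (ObjectProperty.homMk (pullback.snd g g)) (ObjectProperty.homMk g) hp₂f hgf
  -- the preimage of `V` in `R`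
  have sqV : IsPullback (pullback.fst v (pullback.snd g g ≫ g))
      (pullback.snd v (pullback.snd g g ≫ g)) v (pullback.snd g g ≫ g) :=
    IsPullback.of_hasPullback _ _
  have hVR : AlgSp.IsAlgSpace (pullback v (pullback.snd g g ≫ g)) :=
    Groth.Agent.S9874.isAlgSpace_of_isPullback Z.property.diag hV hR sqV
  have hdense : AlgSp.IsSchDense (pullback.snd v (pullback.snd g g ≫ g)) :=
    Groth.Agent.S9973.result (X := ⟨pullback g g, hR⟩) (Y := Z) (V := ⟨V, hV⟩)
      (V' := ⟨pullback v (pullback.snd g g ≫ g), hVR⟩)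
      (ObjectProperty.homMk (pullback.snd g g ≫ g)) hqf (ObjectProperty.homMk v) hv hvq
      (ObjectProperty.homMk (pullback.fst v (pullback.snd g g ≫ g)))
      (ObjectProperty.homMk (pullback.snd v (pullback.snd g g ≫ g))) sqV
  -- the equalizer of the two maps to `Y`
  have hB : (pullback.fst g g ≫ f) ≫ pY = (pullback.snd g g ≫ f) ≫ pY := by
    rw [Category.assoc, Category.assoc, hf, ← hg, ← Category.assoc, ← Category.assoc, hcond]
  have he : AlgSp.RepWith @IsClosedImmersion (pullback.snd (pullback.diagonal pY)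
      (pullback.lift (pullback.fst g g ≫ f) (pullback.snd g g ≫ f) hB)) :=
    MorphismProperty.of_isPullback (P := AlgSp.RepWith @IsClosedImmersion)
      (IsPullback.of_hasPullback (pullback.diagonal pY)
        (pullback.lift (pullback.fst g g ≫ f) (pullback.snd g g ≫ f) hB)) hY
  have hed : pullback.snd (pullback.diagonal pY)
        (pullback.lift (pullback.fst g g ≫ f) (pullback.snd g g ≫ f) hB) ≫ pullback.fst g g ≫ f =
      pullback.snd (pullback.diagonal pY)
        (pullback.lift (pullback.fst g g ≫ f) (pullback.snd g g ≫ f) hB) ≫ pullback.snd g g ≫ f := by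
    have hc : pullback.fst (pullback.diagonal pY)
          (pullback.lift (pullback.fst g g ≫ f) (pullback.snd g g ≫ f) hB) ≫ pullback.diagonal pY =
        pullback.snd (pullback.diagonal pY)
          (pullback.lift (pullback.fst g g ≫ f) (pullback.snd g g ≫ f) hB) ≫
          pullback.lift (pullback.fst g g ≫ f) (pullback.snd g g ≫ f) hB := pullback.condition
    have h1 := congrArg (· ≫ pullback.fst pY pY) hc
    have h2 := congrArg (· ≫ pullback.snd pY pY) hc
    simp only [Category.assoc, pullback.diagonal_fst, pullback.diagonal_snd, Category.comp_id,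
      pullback.lift_fst, pullback.lift_snd] at h1 h2
    rw [← h1, ← h2]
  -- the dense open factors through the equalizer
  have hjj : pullback.snd v (pullback.snd g g ≫ g) ≫ pullback.fst g g ≫ f =
      pullback.snd v (pullback.snd g g ≫ g) ≫ pullback.snd g g ≫ f := by
    obtain ⟨φ, hφ⟩ := hfac
    have hw : pullback.fst v (pullback.snd g g ≫ g) ≫ v =
        pullback.snd v (pullback.snd g g ≫ g) ≫ pullback.snd g g ≫ g := pullback.condition
    have h1 : (pullback.snd v (pullback.snd g g ≫ g) ≫ pullback.fst g g) ≫ g =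
        pullback.fst v (pullback.snd g g ≫ g) ≫ v := by rw [Category.assoc, hcond, hw]
    have h2 : (pullback.snd v (pullback.snd g g ≫ g) ≫ pullback.snd g g) ≫ g =
        pullback.fst v (pullback.snd g g ≫ g) ≫ v := by rw [Category.assoc, hw]
    have e1 : pullback.snd v (pullback.snd g g ≫ g) ≫ pullback.fst g g ≫ f =
        pullback.fst v (pullback.snd g g ≫ g) ≫ φ := by
      rw [← Category.assoc, ← pullback.lift_fst _ _ h1, Category.assoc, hφ, ← Category.assoc,
        pullback.lift_snd]
    have e2 : pullback.snd v (pullback.snd g g ≫ g) ≫ pullback.snd g g ≫ f =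
        pullback.fst v (pullback.snd g g ≫ g) ≫ φ := by
      rw [← Category.assoc, ← pullback.lift_fst _ _ h2, Category.assoc, hφ, ← Category.assoc,
        pullback.lift_snd]
    rw [e1, e2]
  have hlw : (pullback.snd v (pullback.snd g g ≫ g) ≫ pullback.fst g g ≫ f) ≫ pullback.diagonal pY =
      pullback.snd v (pullback.snd g g ≫ g) ≫
        pullback.lift (pullback.fst g g ≫ f) (pullback.snd g g ≫ f) hB := by
    apply pullback.hom_ext
    · rw [Category.assoc, pullback.diagonal_fst, Category.comp_id, Category.assoc, pullback.lift_fst]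
    · rw [Category.assoc, pullback.diagonal_snd, Category.comp_id, Category.assoc, pullback.lift_snd,
        hjj]
  exact eq_of_closed_of_schDense _ he _ hdense
    (pullback.lift _ _ hlw) (pullback.lift_snd _ _ hlw) _ _ hed

end Groth.Agent.S10129
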