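import Groth.Statements.S10308
import Mathlib
import Groth.Agent.Lib.H5bHasAtMor
import Groth.Agent.S0402

set_option autoImplicit false
universe u
open CategoryTheory CategoryTheory.Limits AlgebraicGeometry
open AlgSp

namespace Groth.Agent.S10308

/-- For f locally of finite type, the locus of points where the relative dimension of f is at most n is
open. -/
theorem result {S : Scheme.{u}} {X Y : AlgSp.Space S} (f : X ⟶ Y)
    (hf : AlgSp.LocP @LocallyOfFiniteType f.hom) (n : ℕ) :
    IsOpen {x : AlgSp.Points X.obj |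
      AlgSp.HasAtMor (fun _ _ h u => FlatMor.fibreDimAt h u ≤ (n : WithBot ℕ∞)) f.hom x} := by
  open Groth.Agent.Lib.H5bHasAtMor in
  obtain ⟨U, V, a, b, h, ha, has, hb, hbs, c⟩ := exists_atlas_chart X.property Y.property f.hom
  have hlft : LocallyOfFiniteType h.left := hf a b h ha hb c
  rw [← (Groth.Agent.S10177.isQuotientMap_ofPt a ha has).isOpen_preimage]
  have heq : AlgSp.Points.ofPt a ⁻¹' {x : AlgSp.Points X.obj |
      AlgSp.HasAtMor (fun _ _ h u => FlatMor.fibreDimAt h u ≤ (n : WithBot ℕ∞)) f.hom x} =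
      {u : ↥U.left | FlatMor.fibreDimAt h.left u ≤ n} := by
    ext u
    exact Groth.Agent.Lib.H5bHasAtMor.hasAtMor_iff_of_chart
      (Groth.Agent.Lib.H5bHasAtMor.etLocalQ_fibreDimAt (fun d => d ≤ (n : WithBot ℕ∞))) f.hom _ a b h
      ha hb c u rfl
  rw [heq]
  exact Groth.Agent.S0402.result h.left n

end Groth.Agent.S10308
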