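import Groth.Statements.S10313
import Mathlib
import Groth.Agent.S10308
import Groth.Agent.Lib.H5bChartBC
import Groth.Agent.Lib.H5bHasAtMor
import Groth.Agent.Lib.Helper3LocDimBC
import Groth.Agent.Lib.Helper3GrpHomQF
import Groth.Agent.Lib.Helper3GrpFibDim
import Groth.Agent.Lib.Helper12OpenSub
import Groth.Agent.Lib.Helper4DimFormulaU

set_option autoImplicit false
universe u
open CategoryTheory CategoryTheory.Limits AlgebraicGeometry
open AlgSp

namespace Groth.Agent.S10313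

open Groth.Agent.Lib.H5bHasAtMor in
lemma le_zero_iff_chart {S : Scheme.{u}} {X Y : AlgSp.Space S} (f : X ⟶ Y) {U V : Over S}
    (a : (AlgSp.yon S).obj U ⟶ X.obj) (b : (AlgSp.yon S).obj V ⟶ Y.obj) (h : U ⟶ V)
    (ha : AlgSp.RepWith @Etale a) (hb : AlgSp.RepWith @Etale b)
    (c : a ≫ f.hom = (AlgSp.yon S).map h ≫ b) (u : ↥U.left) :
    AlgSp.HasAtMor (fun _ _ h u => FlatMor.fibreDimAt h u ≤ ((0 : ℕ) : WithBot ℕ∞)) f.hom
      (AlgSp.Points.ofPt a u) ↔ FlatMor.fibreDimAt h.left u ≤ 0 :=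
  hasAtMor_iff_of_chart (etLocalQ_fibreDimAt (fun d => d ≤ ((0 : ℕ) : WithBot ℕ∞))) f.hom _ a b h
    ha hb c u rfl

/-- quasi-finite near a point iff local fibre dimension `≤ 0`. -/
lemma exists_open_lqf_iff {U V : Scheme.{u}} (h : U ⟶ V) [LocallyOfFiniteType h] (u : U) :
    (∃ W : U.Opens, u ∈ W ∧ LocallyQuasiFinite (W.ι ≫ h) ∧ LocallyOfFiniteType (W.ι ≫ h)) ↔
      FlatMor.fibreDimAt h u ≤ 0 := by
  constructor
  · rintro ⟨W, huW, hq, hl⟩
    have h1 := (Groth.Agent.Lib.Helper3.GrpHomQF.locallyQuasiFinite_iff_forall_fibreDimAt_le_zero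
      (W.ι ≫ h)).1 hq ⟨u, huW⟩
    rwa [Groth.Agent.Lib.Helper4.DimFormula.fibreDimAt_opens_ι_comp h W ⟨u, huW⟩] at h1
  · intro hle
    have hq : h.QuasiFiniteAt u :=
      (Groth.Agent.Lib.Helper3.GrpHomQF.quasiFiniteAt_iff_fibreDimAt_le_zero h u).2 hle
    exact ⟨h.quasiFiniteLocus, hq, inferInstance, inferInstance⟩

/-- For f locally of finite type there is an open subspace of X on which f is locally quasi-finite,
outside of which the relative dimension is at least 1, and whose formation commutes with base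
change. -/
theorem result {S : Scheme.{u}} {X Y : AlgSp.Space S} (f : X ⟶ Y)
    (hf : AlgSp.LocP @LocallyOfFiniteType f.hom) :
    ∃ (X' : AlgSp.Space S) (j : X' ⟶ X), AlgSp.RepWith @IsOpenImmersion j.hom ∧
      AlgSp.LocP (@LocallyQuasiFinite ⊓ @LocallyOfFiniteType) (j ≫ f).hom ∧
      (∀ x : AlgSp.Points X.obj, x ∉ Set.range (AlgSp.Points.map j.hom) →
        AlgSp.HasAtMor (fun _ _ h u => 1 ≤ FlatMor.fibreDimAt h u) f.hom x) ∧
      ∀ (Y'' X'' : AlgSp.Space S) (g : Y'' ⟶ Y) (b : X'' ⟶ X) (f'' : X'' ⟶ Y''),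
        IsPullback b.hom f''.hom f.hom g.hom → ∀ x'' : AlgSp.Points X''.obj,
          AlgSp.Points.map b.hom x'' ∈ Set.range (AlgSp.Points.map j.hom) ↔ AlgSp.HasAtMor (fun U _ h u => ∃ W : U.Opens, u ∈ W ∧ LocallyQuasiFinite (W.ι ≫ h) ∧ LocallyOfFiniteType (W.ι ≫ h)) f''.hom x'' := by
  classical
  let E : Set (AlgSp.Points X.obj) := {x | AlgSp.HasAtMor
    (fun _ _ h u => FlatMor.fibreDimAt h u ≤ ((0 : ℕ) : WithBot ℕ∞)) f.hom x}
  have hE : IsOpen E := Groth.Agent.S10308.result f hf 0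
  have hjo : AlgSp.RepWith @IsOpenImmersion (Groth.Agent.Lib.Helper12.OpenSub.incl X.obj E) :=
    Groth.Agent.Lib.Helper12.OpenSub.repWith_incl hE
  have hje : AlgSp.RepWith @Etale (Groth.Agent.Lib.Helper12.OpenSub.incl X.obj E) :=
    Groth.Agent.S10210.repWith_etale_of_isOpenImmersion hjo
  have hrange : Set.range (AlgSp.Points.map (Groth.Agent.Lib.Helper12.OpenSub.incl X.obj E)) = E :=
    Groth.Agent.Lib.Helper12.OpenSub.range_map_incl E
  refine ⟨⟨Groth.Agent.Lib.Helper12.OpenSub.obj X.obj E,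
    Groth.Agent.Lib.Helper12.OpenSub.isAlgSpace_obj X.property hE⟩,
    ObjectProperty.homMk (Groth.Agent.Lib.Helper12.OpenSub.incl X.obj E), hjo, ?_, ?_, ?_⟩
  · -- locally quasi-finite on the open subspace
    intro U V a b h ha hb c
    have ha' : AlgSp.RepWith @Etale (a ≫ Groth.Agent.Lib.Helper12.OpenSub.incl X.obj E) :=
      (AlgSp.RepWith @Etale).comp_mem _ _ ha hje
    have c' : (a ≫ Groth.Agent.Lib.Helper12.OpenSub.incl X.obj E) ≫ f.hom =
        (AlgSp.yon S).map h ≫ b := by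
      rw [Category.assoc]; exact c
    have hlft : LocallyOfFiniteType h.left := hf _ b h ha' hb c'
    refine ⟨?_, hlft⟩
    rw [Groth.Agent.Lib.Helper3.GrpHomQF.locallyQuasiFinite_iff_forall_fibreDimAt_le_zero h.left]
    intro u
    rw [← le_zero_iff_chart f _ b h ha' hb c' u]
    have : AlgSp.Points.ofPt (a ≫ Groth.Agent.Lib.Helper12.OpenSub.incl X.obj E) u ∈ E :=
      hrange.le ⟨AlgSp.Points.ofPt a u, rfl⟩
    exact this
  · -- outside: relative dimension at least one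
    intro x hx
    have hxE : x ∉ E := fun hxE => hx (hrange.ge hxE)
    obtain ⟨U, V, a, b, h, u, ha, hb, c, hu⟩ :=
      Groth.Agent.Lib.H5bHasAtMor.exists_chart X.property Y.property f.hom x
    have hlft : LocallyOfFiniteType h.left := hf a b h ha hb c
    refine ⟨U, V, a, b, h, u, ha, hb, c, hu, ?_⟩
    have hnot : ¬ FlatMor.fibreDimAt h.left u ≤ 0 := by
      rw [← le_zero_iff_chart f a b h ha hb c u, hu]
      exact hxE
    obtain ⟨n, hn⟩ := Groth.Agent.Lib.Helper3.GrpFibDim.exists_nat_fibreDimAt_eq h.left u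
    show 1 ≤ FlatMor.fibreDimAt h.left u
    rw [hn] at hnot ⊢
    have : ¬ n ≤ 0 := fun h0 => hnot (by exact_mod_cast h0)
    have : 1 ≤ n := by omega
    exact_mod_cast this
  · -- base change
    intro Y'' X'' g b f'' sq x''
    obtain ⟨U, V, U', V', a, b₁, a', b', h, h', pU, pV, ha, hb, ha', ha's, hb', c1, c2, c3, c4,
      hpb⟩ := Groth.Agent.Lib.H5bChartBC.exists_cartesian_charts X.property Y.property
        Y''.property sq
    obtain ⟨u', hu'⟩ := Groth.Agent.S10177.surjective_ofPt a' ha's x''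
    have hlft : LocallyOfFiniteType h.left := hf a b₁ h ha hb c1
    have hlft' : LocallyOfFiniteType h'.left :=
      MorphismProperty.of_isPullback (P := @LocallyOfFiniteType) hpb hlft
    have hu : AlgSp.Points.ofPt a (pU.left u') = AlgSp.Points.map b.hom x'' := by
      rw [← Groth.Agent.S10176.ofPt_map_comp, ← c3, ← hu']; rfl
    have hbc := Groth.Agent.Lib.Helper3.LocDimBC.fibreDimAt_eq_of_isPullback h.left pV.left pU.left
      h'.left hpb u'
    have i1 : AlgSp.Points.map b.hom x'' ∈ Set.range (AlgSp.Points.map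
        (ObjectProperty.homMk (Groth.Agent.Lib.Helper12.OpenSub.incl X.obj E) :
          (⟨Groth.Agent.Lib.Helper12.OpenSub.obj X.obj E,
            Groth.Agent.Lib.Helper12.OpenSub.isAlgSpace_obj X.property hE⟩ : AlgSp.Space S) ⟶ X).hom) ↔
        FlatMor.fibreDimAt h'.left u' ≤ 0 := by
      have i0 : AlgSp.Points.map b.hom x'' ∈
          Set.range (AlgSp.Points.map (Groth.Agent.Lib.Helper12.OpenSub.incl X.obj E)) ↔
          AlgSp.Points.map b.hom x'' ∈ E := ⟨fun hh => hrange.le hh, fun hh => hrange.ge hh⟩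
      refine i0.trans ?_
      rw [← hu, hbc]
      exact le_zero_iff_chart f a b₁ h ha hb c1 (pU.left u')
    rw [i1, ← exists_open_lqf_iff h'.left u']
    constructor
    · intro hW
      exact ⟨U', V', a', b', h', u', ha', hb', c2, hu', hW⟩
    · rintro ⟨U₁, V₁, a₁, b₁', h₁, u₁, ha₁, hb₁, c₁, hu₁, W₁, hW₁, hq₁, hl₁⟩
      -- transport to our chart via the local fibre dimension
      have h1 := (Groth.Agent.Lib.Helper3.GrpHomQF.locallyQuasiFinite_iff_forall_fibreDimAt_le_zero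
        (W₁.ι ≫ h₁.left)).1 hq₁ ⟨u₁, hW₁⟩
      rw [Groth.Agent.Lib.Helper4.DimFormula.fibreDimAt_opens_ι_comp h₁.left W₁ ⟨u₁, hW₁⟩] at h1
      have h2 : AlgSp.HasAtMor (fun _ _ h u => FlatMor.fibreDimAt h u ≤ ((0 : ℕ) : WithBot ℕ∞))
          f''.hom x'' := ⟨U₁, V₁, a₁, b₁', h₁, u₁, ha₁, hb₁, c₁, hu₁, h1⟩
      rw [← hu'] at h2
      have h3 := (le_zero_iff_chart f'' a' b' h' ha' hb' c2 u').1 h2
      exact (exists_open_lqf_iff h'.left u').2 h3

end Groth.Agent.S10313
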