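import Groth.Statements.S10399
import Mathlib
import Groth.Agent.Lib.Helper4DimFormulaAH
import Groth.Agent.Lib.Helper4DimFormulaAD
import Groth.Agent.Lib.Helper4FibDimL
import Groth.Agent.Lib.Helper7TopDim
import Groth.Agent.Lib.H5bEtLocal
import Groth.Agent.Lib.H5bHasAtMor
import Groth.Agent.Lib.Helper3GrpHomQF
import Groth.Agent.S10176
import Groth.Agent.S10313

set_option autoImplicit false
universe u
open CategoryTheory CategoryTheory.Limits AlgebraicGeometry Topology TopologicalSpace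
open AlgSp

namespace Groth.Agent.S10399

open Groth.Agent.Lib.Helper4.DimFormula

/-- codimension zero iff no proper generization. -/
lemma stalk_dim_zero_iff {U : Scheme.{u}} (u : U) :
    ringKrullDim (U.presheaf.stalk u) = 0 ↔ ∀ u' : U, u' ⤳ u → u' = u := by
  rw [ringKrullDim_stalk_eq_coheight]
  constructor
  · intro h u' hsp
    have h0 : Order.coheight u = 0 := by exact_mod_cast h
    have hmax : IsMax u := Order.coheight_eq_zero.mp h0
    have h1 : u ≤ u' := hsp
    have h2 : u' ≤ u := hmax h1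
    exact (Specializes.antisymm h1 h2).eq
  · intro h
    have : Order.coheight u = 0 := by
      rw [Order.coheight_eq_zero]
      intro w hw
      have hw' : w ⤳ u := hw
      rw [h w hw']
    rw [this]
    rfl

/-- Lemma B. -/
lemma stalk_dim_zero_of_fibreDimAt_le_zero {U V : Scheme.{u}} (h : U ⟶ V) [LocallyOfFiniteType h]
    (u : U) (hv : ringKrullDim (V.presheaf.stalk (h.base u)) = 0)
    (hd : FlatMor.fibreDimAt h u ≤ 0) : ringKrullDim (U.presheaf.stalk u) = 0 := by
  rw [fibreDimAt_eq_stalk_add_ptTrdeg h u] at hd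
  have h1 : ringKrullDim ((h.fiber (h.base u)).presheaf.stalk (h.asFiber u)) ≤ 0 :=
    (le_add_of_nonneg_right (by exact_mod_cast Nat.zero_le _)).trans hd
  have h2 : ringKrullDim ((h.fiber (h.base u)).presheaf.stalk (h.asFiber u)) = 0 :=
    le_antisymm h1 ringKrullDim_nonneg_of_nontrivial
  have hmax := maximal_in_fibre_of_stalk_dim_zero h u h2
  rw [stalk_dim_zero_iff]
  intro u' hsp
  refine hmax u' ?_ hsp
  exact (stalk_dim_zero_iff (h.base u)).1 hv _ (hsp.map h.continuous)

/-- Lemma C. -/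
lemma eq_of_specializes_of_quasiFiniteAt {U V : Scheme.{u}} (h : U ⟶ V) [LocallyOfFiniteType h]
    (u'' u : U) (hsp : u'' ⤳ u) (hb : h.base u = h.base u'') (hq : h.QuasiFiniteAt u'') :
    u'' = u := by
  have hcl : IsClosed ({h.asFiber u''} : Set ↥(h.fiber (h.base u''))) :=
    hq.isClopen_singleton_asFiber.1
  have hu : u ∈ Set.range (h.fiberι (h.base u'')) := by rw [h.range_fiberι]; exact hb
  obtain ⟨z, rfl⟩ := hu
  have h1 : h.asFiber u'' ⤳ z := by
    rw [← (h.fiberι (h.base u'')).isEmbedding.isInducing.specializes_iff, h.fiberι_asFiber]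
    exact hsp
  have h2 : z ∈ ({h.asFiber u''} : Set ↥(h.fiber (h.base u''))) := h1.mem_closed hcl rfl
  rw [Set.mem_singleton_iff] at h2
  rw [h2, h.fiberι_asFiber]

/-- Lemma D. -/
lemma fibreDimAt_le_zero_of_forall_maximal {U V : Scheme.{u}} (h : U ⟶ V)
    (u : U) (hmax : ∀ u' : U, h.base u' = h.base u → ∀ u'' : U, u'' ⤳ u' → u'' = u') :
    FlatMor.fibreDimAt h u ≤ 0 := by
  unfold FlatMor.fibreDimAt
  refine (Groth.Agent.Lib.Helper7.TopDim.localDim_le_dim _).trans ?_
  rw [Groth.Agent.Lib.Helper4.FibDim.topologicalKrullDim_eq_iSup_ringKrullDim_stalk]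
  refine iSup_le fun z => ?_
  refine le_of_eq ((stalk_dim_zero_iff z).2 fun z' hz' => ?_)
  have h1 : h.fiberι (h.base u) z' ⤳ h.fiberι (h.base u) z := hz'.map (h.fiberι _).continuous
  have h2 : h.base (h.fiberι (h.base u) z) = h.base u := by
    have : h.fiberι (h.base u) z ∈ Set.range (h.fiberι (h.base u)) := ⟨z, rfl⟩
    rwa [h.range_fiberι] at this
  exact (h.fiberι (h.base u)).isEmbedding.injective (hmax _ h2 _ h1)

/-- existence of a maximal generization. -/
lemma exists_maximal_generization {U : Scheme.{u}} (u : U) :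
    ∃ u'' : U, u'' ⤳ u ∧ ∀ w : U, w ⤳ u'' → w = u'' := by
  obtain ⟨𝔭, h𝔭, -⟩ := Ideal.exists_minimalPrimes_le
    (bot_le : (⊥ : Ideal (U.presheaf.stalk u)) ≤ IsLocalRing.maximalIdeal _)
  haveI : 𝔭.IsPrime := h𝔭.1.1
  exact ⟨_, fromSpecStalk_specializes u ⟨𝔭, inferInstance⟩,
    (mem_minimalPrimes_iff_fromSpecStalk_maximal u 𝔭).1 h𝔭⟩

/-- Let f : X ⟶ Y be a morphism locally of finite type of algebraic spaces over a scheme S and y a
codimension 0 point of Y. The following are equivalent: (1) every point of |X| over y has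
codimension 0 on X; (2) f is quasi-finite at all points over y; (3) f is quasi-finite at all
codimension 0 points of X over y. Stated as (1) ⇔ (2) together with (3) ⇒ (1). -/
theorem result {S : Scheme.{u}} {X Y : AlgSp.Space S} (f : X ⟶ Y)
    (hf : AlgSp.LocP @LocallyOfFiniteType f.hom) (y : AlgSp.Points Y.obj) (hy : AlgSp.HasAt (fun U u => ringKrullDim ↥(U.presheaf.stalk u) = 0) Y.obj y) :
    ((∀ x : AlgSp.Points X.obj, AlgSp.Points.map f.hom x = y → AlgSp.HasAt (fun U u => ringKrullDim ↥(U.presheaf.stalk u) = 0) X.obj x) ↔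
        (∀ x : AlgSp.Points X.obj, AlgSp.Points.map f.hom x = y → AlgSp.HasAtMor (fun U _ h u => ∃ W : U.Opens, u ∈ W ∧ LocallyQuasiFinite (W.ι ≫ h) ∧ LocallyOfFiniteType (W.ι ≫ h)) f.hom x)) ∧
      ((∀ x : AlgSp.Points X.obj, AlgSp.Points.map f.hom x = y → AlgSp.HasAt (fun U u => ringKrullDim ↥(U.presheaf.stalk u) = 0) X.obj x → AlgSp.HasAtMor (fun U _ h u => ∃ W : U.Opens, u ∈ W ∧ LocallyQuasiFinite (W.ι ≫ h) ∧ LocallyOfFiniteType (W.ι ≫ h)) f.hom x) →
        ∀ x : AlgSp.Points X.obj, AlgSp.Points.map f.hom x = y → AlgSp.HasAt (fun U u => ringKrullDim ↥(U.presheaf.stalk u) = 0) X.obj x) := by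
  classical
  -- étale invariance of codimension zero
  have hQ0 : ∀ {W U : Scheme.{u}} (g : W ⟶ U) [Etale g] (w : W),
      (fun (U : Scheme.{u}) (u : ↥U) => ringKrullDim ↥(U.presheaf.stalk u) = 0) W w ↔
      (fun (U : Scheme.{u}) (u : ↥U) => ringKrullDim ↥(U.presheaf.stalk u) = 0) U (g w) := by
    intro W U g _ w
    show ringKrullDim _ = 0 ↔ ringKrullDim _ = 0
    rw [Groth.Agent.Lib.H5bEtLocal.ringKrullDim_stalk_eq_of_etale g w]
  -- T1
  have T1 : ∀ {U V : Over S} (a : (AlgSp.yon S).obj U ⟶ X.obj) (b : (AlgSp.yon S).obj V ⟶ Y.obj)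
      (h : U ⟶ V), AlgSp.RepWith @Etale a → AlgSp.RepWith @Etale b →
      a ≫ f.hom = (AlgSp.yon S).map h ≫ b → ∀ u : ↥U.left,
      AlgSp.Points.map f.hom (AlgSp.Points.ofPt a u) = y →
      ringKrullDim ↥(V.left.presheaf.stalk (h.left.base u)) = 0 := by
    intro U V a b h ha hb comm u hu
    refine (Groth.Agent.Lib.H5bEtLocal.hasAt_iff_forall _ hQ0 Y.property y).1 hy V b
      (h.left.base u) hb ?_
    rw [← hu, AlgSp.Points.map_ofPt, comm, Groth.Agent.S10176.ofPt_map_comp]
  -- T2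
  have T2 : ∀ {U : Over S} (a : (AlgSp.yon S).obj U ⟶ X.obj), AlgSp.RepWith @Etale a →
      ∀ u : ↥U.left, (AlgSp.HasAt (fun U u => ringKrullDim ↥(U.presheaf.stalk u) = 0) X.obj
        (AlgSp.Points.ofPt a u) ↔ ringKrullDim ↥(U.left.presheaf.stalk u) = 0) := by
    intro U a ha u
    constructor
    · intro hh
      exact (Groth.Agent.Lib.H5bEtLocal.hasAt_iff_forall _ hQ0 X.property _).1 hh U a u ha rfl
    · intro hh
      exact ⟨U, a, u, ha, rfl, hh⟩
  -- T3
  have T3 : ∀ {U V : Over S} (a : (AlgSp.yon S).obj U ⟶ X.obj) (b : (AlgSp.yon S).obj V ⟶ Y.obj)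
      (h : U ⟶ V), AlgSp.RepWith @Etale a → AlgSp.RepWith @Etale b →
      a ≫ f.hom = (AlgSp.yon S).map h ≫ b → ∀ u : ↥U.left,
      (AlgSp.HasAtMor (fun U _ h u => ∃ W : U.Opens, u ∈ W ∧ LocallyQuasiFinite (W.ι ≫ h) ∧
        LocallyOfFiniteType (W.ι ≫ h)) f.hom (AlgSp.Points.ofPt a u) ↔
        FlatMor.fibreDimAt h.left u ≤ 0) := by
    intro U V a b h ha hb comm u
    haveI : LocallyOfFiniteType h.left := hf a b h ha hb comm
    constructor
    · rintro ⟨U', V', a', b', h', u', ha', hb', c', hu', hq⟩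
      haveI : LocallyOfFiniteType h'.left := hf a' b' h' ha' hb' c'
      have h1 : AlgSp.HasAtMor (fun _ _ h u => FlatMor.fibreDimAt h u ≤ 0) f.hom
          (AlgSp.Points.ofPt a u) :=
        ⟨U', V', a', b', h', u', ha', hb', c', hu',
          (Groth.Agent.S10313.exists_open_lqf_iff h'.left u').1 hq⟩
      exact (Groth.Agent.Lib.H5bHasAtMor.hasAtMor_iff_of_chart
        (Groth.Agent.Lib.H5bHasAtMor.etLocalQ_fibreDimAt (fun e => e ≤ 0)) f.hom
        (AlgSp.Points.ofPt a u) a b h ha hb comm u rfl).1 h1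
    · intro hh
      exact ⟨U, V, a, b, h, u, ha, hb, comm, rfl,
        (Groth.Agent.S10313.exists_open_lqf_iff h.left u).2 hh⟩
  -- points in the same fibre of a chart lie over y
  have hover : ∀ {U V : Over S} (a : (AlgSp.yon S).obj U ⟶ X.obj) (b : (AlgSp.yon S).obj V ⟶ Y.obj)
      (h : U ⟶ V), a ≫ f.hom = (AlgSp.yon S).map h ≫ b → ∀ u u' : ↥U.left,
      AlgSp.Points.map f.hom (AlgSp.Points.ofPt a u) = y → h.left.base u' = h.left.base u →
      AlgSp.Points.map f.hom (AlgSp.Points.ofPt a u') = y := by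
    intro U V a b h comm u u' hu he
    rw [← hu, AlgSp.Points.map_ofPt, AlgSp.Points.map_ofPt, comm,
      Groth.Agent.S10176.ofPt_map_comp, Groth.Agent.S10176.ofPt_map_comp, he]
  refine ⟨⟨?_, ?_⟩, ?_⟩
  · intro H1 x hx
    obtain ⟨U, V, a, b, h, u, ha, hb, comm, rfl⟩ :=
      Groth.Agent.Lib.H5bHasAtMor.exists_chart X.property Y.property f.hom x
    rw [T3 a b h ha hb comm u]
    refine fibreDimAt_le_zero_of_forall_maximal h.left u fun u' hu' => ?_
    have h1 := H1 _ (hover a b h comm u u' hx hu')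
    rw [T2 a ha u'] at h1
    exact (stalk_dim_zero_iff u').1 h1
  · intro H2 x hx
    obtain ⟨U, V, a, b, h, u, ha, hb, comm, rfl⟩ :=
      Groth.Agent.Lib.H5bHasAtMor.exists_chart X.property Y.property f.hom x
    haveI : LocallyOfFiniteType h.left := hf a b h ha hb comm
    rw [T2 a ha u]
    exact stalk_dim_zero_of_fibreDimAt_le_zero h.left u (T1 a b h ha hb comm u hx)
      ((T3 a b h ha hb comm u).1 (H2 _ hx))
  · intro H3 x hx
    obtain ⟨U, V, a, b, h, u, ha, hb, comm, rfl⟩ :=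
      Groth.Agent.Lib.H5bHasAtMor.exists_chart X.property Y.property f.hom x
    haveI : LocallyOfFiniteType h.left := hf a b h ha hb comm
    rw [T2 a ha u, stalk_dim_zero_iff]
    intro u' hu'
    obtain ⟨u'', hsp, hmax⟩ := exists_maximal_generization u'
    have hv := T1 a b h ha hb comm u hx
    have hb'' : h.left.base u'' = h.left.base u :=
      (stalk_dim_zero_iff (h.left.base u)).1 hv _ ((hsp.trans hu').map h.left.continuous)
    have hx'' := hover a b h comm u u'' hx hb''
    have h1 := H3 _ hx'' ((T2 a ha u'').2 ((stalk_dim_zero_iff u'').2 hmax))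
    rw [T3 a b h ha hb comm u''] at h1
    have hq : h.left.QuasiFiniteAt u'' :=
      (Groth.Agent.Lib.Helper3.GrpHomQF.quasiFiniteAt_iff_fibreDimAt_le_zero h.left u'').2 h1
    have he : u'' = u := eq_of_specializes_of_quasiFiniteAt h.left u'' u (hsp.trans hu') hb''.symm hq
    subst he
    exact (Specializes.antisymm hu' hsp).eq

end Groth.Agent.S10399
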