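import Groth.Statements.S10485
import Mathlib
import Groth.Agent.Lib.H5bHasAtMor
import Groth.Agent.Lib.Helper3GrpHomQF
import Groth.Agent.S10176
import Groth.Agent.S10313
import Groth.Agent.S10338
import Groth.Agent.S10340
import Groth.Agent.S10343
import Groth.Agent.S10399

set_option autoImplicit false
universe u
open CategoryTheory CategoryTheory.Limits AlgebraicGeometry Topology TopologicalSpace
open AlgSp

namespace Groth.Agent.S10485

/-- quasi-finiteness at a point read on a chart. -/
lemma hasAtMor_qf_iff_chart {S : Scheme.{u}} {X Y : AlgSp.Space S} (f : X ⟶ Y)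
    (hf : AlgSp.LocP @LocallyOfFiniteType f.hom) {U V : Over S}
    (a : (AlgSp.yon S).obj U ⟶ X.obj) (b : (AlgSp.yon S).obj V ⟶ Y.obj)
    (h : U ⟶ V) (ha : AlgSp.RepWith @Etale a) (hb : AlgSp.RepWith @Etale b)
    (comm : a ≫ f.hom = (AlgSp.yon S).map h ≫ b) (u : ↥U.left) :
    (AlgSp.HasAtMor (fun U _ h u => ∃ W : U.Opens, u ∈ W ∧ LocallyQuasiFinite (W.ι ≫ h) ∧
        LocallyOfFiniteType (W.ι ≫ h)) f.hom (AlgSp.Points.ofPt a u) ↔
        FlatMor.fibreDimAt h.left u ≤ 0) := by
  haveI : LocallyOfFiniteType h.left := hf a b h ha hb comm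
  constructor
  · rintro ⟨U', V', a', b', h', u', ha', hb', c', hu', hq⟩
    haveI : LocallyOfFiniteType h'.left := hf a' b' h' ha' hb' c'
    have h1 : AlgSp.HasAtMor (fun _ _ h u => FlatMor.fibreDimAt h u ≤ 0) f.hom
        (AlgSp.Points.ofPt a u) :=
      ⟨U', V', a', b', h', u', ha', hb', c', hu',
        (Groth.Agent.S10313.exists_open_lqf_iff h'.left u').1 hq⟩
    exact (Groth.Agent.Lib.H5bHasAtMor.hasAtMor_iff_of_chart
      (Groth.Agent.Lib.H5bHasAtMor.etLocalQ_fibreDimAt (fun e => e ≤ 0)) f.hom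
      (AlgSp.Points.ofPt a u) a b h ha hb comm u rfl).1 h1
  · intro hh
    exact ⟨U, V, a, b, h, u, ha, hb, comm, rfl,
      (Groth.Agent.S10313.exists_open_lqf_iff h.left u).2 hh⟩

/-- the image of the generic point under a dominant map is the generic point. -/
lemma map_generic_eq {S : Scheme.{u}} {X Y : AlgSp.Space S} (f : X ⟶ Y)
    [T0Space (AlgSp.Points Y.obj)] (hd : AlgSp.IsDominantMor f.hom)
    (x : AlgSp.Points X.obj) (hx : IsGenericPoint x (Set.univ : Set (AlgSp.Points X.obj)))
    (y : AlgSp.Points Y.obj) (hy : IsGenericPoint y (Set.univ : Set (AlgSp.Points Y.obj))) :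
    AlgSp.Points.map f.hom x = y := by
  have h1 := hx.image (AlgSp.Points.continuous_map f.hom)
  rw [Set.image_univ, DenseRange.closure_range hd] at h1
  exact h1.eq hy

/-- chart points over the generic point of a decent space have no proper generization. -/
lemma chart_point_maximal {S : Scheme.{u}} (X : AlgSp.Space S) (hXd : AlgSp.IsDecent X.obj)
    (x : AlgSp.Points X.obj) (hx : IsGenericPoint x (Set.univ : Set (AlgSp.Points X.obj)))
    {U : Over S} (a : (AlgSp.yon S).obj U ⟶ X.obj) (ha : AlgSp.RepWith @Etale a) (u : ↥U.left)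
    (hu : AlgSp.Points.ofPt a u = x) (u' : ↥U.left) (hsp : u' ⤳ u) : u' = u := by
  haveI : T0Space (AlgSp.Points X.obj) := Groth.Agent.S10338.result X hXd
  have h1 : AlgSp.Points.ofPt a u' ⤳ x := hu ▸ hsp.map (AlgSp.Points.continuous_ofPt a)
  have h2 : x ⤳ AlgSp.Points.ofPt a u' := hx.specializes (Set.mem_univ _)
  have h3 : AlgSp.Points.ofPt a u' = x := (h1.antisymm h2).eq
  exact (Groth.Agent.S10340.result X hXd a ha u u' (hu.trans h3.symm) hsp).symm

/-- (4) ⇔ (5): let f : X ⟶ Y be a dominant morphism locally of finite type between integral algebraic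
spaces over a scheme S, with generic points x and y. Then f is quasi-finite at x if and only if x is
the only point of X mapping to y. -/
theorem result {S : Scheme.{u}} {X Y : AlgSp.Space S} (hXi : AlgSp.IsIntegralSp X.obj) (hYi : AlgSp.IsIntegralSp Y.obj)
    (f : X ⟶ Y) (hft : AlgSp.LocP @LocallyOfFiniteType f.hom) (hd : AlgSp.IsDominantMor f.hom)
    (x : AlgSp.Points X.obj) (hx : IsGenericPoint x (Set.univ : Set (AlgSp.Points X.obj)))
    (y : AlgSp.Points Y.obj) (hy : IsGenericPoint y (Set.univ : Set (AlgSp.Points Y.obj))) :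
    AlgSp.HasAtMor (fun U _ h u => ∃ W : U.Opens, u ∈ W ∧ LocallyQuasiFinite (W.ι ≫ h) ∧ LocallyOfFiniteType (W.ι ≫ h)) f.hom x ↔ (∀ x' : AlgSp.Points X.obj, AlgSp.Points.map f.hom x' = y → x' = x) := by
  obtain ⟨-, hXd, hXirr⟩ := hXi
  obtain ⟨-, hYd, hYirr⟩ := hYi
  haveI : T0Space (AlgSp.Points X.obj) := Groth.Agent.S10338.result X hXd
  haveI : T0Space (AlgSp.Points Y.obj) := Groth.Agent.S10338.result Y hYd
  have hfx := map_generic_eq f hd x hx y hy
  constructor
  · intro hq x' hx'
    obtain ⟨U, V, a, b, h, u', ha, hb, comm, hu'⟩ :=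
      Groth.Agent.Lib.H5bHasAtMor.exists_chart X.property Y.property f.hom x'
    haveI : LocallyOfFiniteType h.left := hft a b h ha hb comm
    have hsp : x ⤳ x' := hx.specializes (Set.mem_univ _)
    obtain ⟨u, hux, hu⟩ := Groth.Agent.S10343.result X x' x hsp (hXd x) a ha u' hu'
    subst hu
    have hqu := (hasAtMor_qf_iff_chart f hft a b h ha hb comm u).1 hq
    have hq' : h.left.QuasiFiniteAt u :=
      (Groth.Agent.Lib.Helper3.GrpHomQF.quasiFiniteAt_iff_fibreDimAt_le_zero h.left u).2 hqu
    have e1 : AlgSp.Points.ofPt b (h.left.base u) = y := by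
      rw [← Groth.Agent.S10176.ofPt_map_comp, ← comm, ← AlgSp.Points.map_ofPt, hfx]
    have e2 : AlgSp.Points.ofPt b (h.left.base u') = y := by
      rw [← Groth.Agent.S10176.ofPt_map_comp, ← comm, ← AlgSp.Points.map_ofPt, hu', hx']
    have hbb : h.left.base u' = h.left.base u :=
      Groth.Agent.S10340.result Y hYd b hb (h.left.base u') (h.left.base u) (e2.trans e1.symm)
        (hux.map h.left.continuous)
    have := Groth.Agent.S10399.eq_of_specializes_of_quasiFiniteAt h.left u u' hux hbb hq'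
    rw [← hu', ← this]
  · intro huniq
    obtain ⟨U, V, a, b, h, u, ha, hb, comm, hu⟩ :=
      Groth.Agent.Lib.H5bHasAtMor.exists_chart X.property Y.property f.hom x
    subst hu
    rw [hasAtMor_qf_iff_chart f hft a b h ha hb comm u]
    refine Groth.Agent.S10399.fibreDimAt_le_zero_of_forall_maximal h.left u fun u' hu' => ?_
    have h1 : AlgSp.Points.map f.hom (AlgSp.Points.ofPt a u') = y := by
      rw [AlgSp.Points.map_ofPt, comm, Groth.Agent.S10176.ofPt_map_comp, hu',
        ← Groth.Agent.S10176.ofPt_map_comp, ← comm, ← AlgSp.Points.map_ofPt, hfx]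
    exact chart_point_maximal X hXd _ hx a ha u' (huniq _ h1)

end Groth.Agent.S10485
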