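import Groth.Statements.S10199
import Mathlib
import Groth.Agent.Lib.H5bSoberSp
import Groth.Agent.S10177
import Groth.Agent.S9920
import Groth.Agent.S9928

set_option autoImplicit false
set_option linter.style.haveILetI false
universe u
open CategoryTheory CategoryTheory.Limits AlgebraicGeometry Topology TopologicalSpace
open AlgSp

namespace Groth.Agent.S10199

open Groth.Agent.Lib.H5bSoberSp

variable {S : Scheme.{u}}

/-- a pullback square stays a pullback square after composing the cospan with a monomorphism. -/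
theorem isPullback_comp_mono {C : Type*} [Category C] {P X Y W Z : C} {fst : P ⟶ X} {snd : P ⟶ Y}
    {f : X ⟶ W} {g : Y ⟶ W} (i : W ⟶ Z) [Mono i] (h : IsPullback fst snd f g) :
    IsPullback fst snd (f ≫ i) (g ≫ i) := by
  have w : fst ≫ f ≫ i = snd ≫ g ≫ i := by rw [← Category.assoc, h.w, Category.assoc]
  have hs : ∀ s : PullbackCone (f ≫ i) (g ≫ i), s.fst ≫ f = s.snd ≫ g := fun s => by
    rw [← cancel_mono i, Category.assoc, Category.assoc]; exact s.condition
  exact ⟨⟨w⟩, ⟨PullbackCone.IsLimit.mk _ (fun s => h.lift s.fst s.snd (hs s))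
    (fun s => h.lift_fst _ _ _) (fun s => h.lift_snd _ _ _)
    (fun s m h1 h2 => h.hom_ext (by rw [h1, h.lift_fst]) (by rw [h2, h.lift_snd]))⟩⟩

/-- an affine étale chart through a point of a quasi-separated algebraic space whose
self-fibre-product is a quasi-compact scheme. -/
theorem exists_good_chart {P : AlgSp.Sp S} (hP : AlgSp.IsAlgSpace P)
    (hqs : AlgSp.IsQuasiSeparatedSp P) (x : AlgSp.Points P) :
    ∃ (W : Over S) (q : (AlgSp.yon S).obj W ⟶ P) (w : ↥W.left) (R : Over S) (s t : R ⟶ W),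
      IsAffine W.left ∧ AlgSp.RepWith @Etale q ∧ AlgSp.Points.ofPt q w = x ∧
      IsPullback ((AlgSp.yon S).map s) ((AlgSp.yon S).map t) q q ∧ CompactSpace ↥R.left := by
  obtain ⟨U, p, hpe, hps⟩ := hP.atlas
  obtain ⟨u₀, hu₀⟩ := Groth.Agent.S10177.surjective_ofPt p hps x
  obtain ⟨_, ⟨S₀, hS₀, rfl⟩, hsS₀, -⟩ :=
    (S.isBasis_affineOpens).exists_subset_of_mem_open (Set.mem_univ (U.hom u₀)) isOpen_univ
  obtain ⟨_, ⟨U₀, hU₀, rfl⟩, hu₀U, hU₀sub⟩ :=
    (U.left.isBasis_affineOpens).exists_subset_of_mem_open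
      (show u₀ ∈ ((U.hom ⁻¹ᵁ S₀ : U.left.Opens) : Set ↥U.left) from hsS₀) (U.hom ⁻¹ᵁ S₀).isOpen
  let U' : U.left.Opens := U₀
  let S₀' : S.Opens := S₀
  let W : Over S := Over.mk (U'.ι ≫ U.hom)
  let jO : W ⟶ U := Over.homMk U'.ι rfl
  have hq : AlgSp.RepWith @Etale ((AlgSp.yon S).map jO ≫ p) :=
    (AlgSp.RepWith @Etale).comp_mem _ _
      ((AlgSp.repWith_yon_map_iff @Etale jO).2 (inferInstanceAs (Etale U'.ι))) hpe
  obtain ⟨E, eV, eU', sqE⟩ := Functor.relativelyRepresentable.of_diag hP.diag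
    ((AlgSp.yon S).map jO ≫ p) ((AlgSp.yon S).map jO ≫ p)
  obtain ⟨eU, rfl⟩ := (AlgSp.yon S).map_surjective eU'
  have hqc : QuasiCompact (prod.lift eU eV).left :=
    Groth.Agent.S9920.property_of_repWith_diag hqs sqE
  haveI : IsAffine W.left := hU₀
  -- the structure map of `W` factors through the affine open `S₀`
  have hrange : Set.range W.hom ⊆ Set.range S₀'.ι := by
    rintro _ ⟨y, rfl⟩
    rw [Scheme.Opens.range_ι]
    exact hU₀sub y.2
  let g : W.left ⟶ (S₀' : Scheme.{u}) := IsOpenImmersion.lift S₀'.ι W.hom hrange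
  have hg : g ≫ S₀'.ι = W.hom := IsOpenImmersion.lift_fac _ _ _
  haveI : IsAffine (S₀' : Scheme.{u}) := hS₀
  have sqg : IsPullback (pullback.fst g g) (pullback.snd g g) (g ≫ S₀'.ι) (g ≫ S₀'.ι) :=
    isPullback_comp_mono S₀'.ι (IsPullback.of_hasPullback g g)
  rw [hg] at sqg
  haveI : IsAffine (pullback W.hom W.hom) := .of_isIso sqg.isoPullback.inv
  haveI : CompactSpace ↥(W ⨯ W).left :=
    QuasiCompact.compactSpace_of_compactSpace (Over.prodLeftIsoPullback W W).hom
  haveI : CompactSpace ↥E.left :=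
    QuasiCompact.compactSpace_of_compactSpace (prod.lift eU eV).left
  refine ⟨W, (AlgSp.yon S).map jO ≫ p, (⟨u₀, hu₀U⟩ : U'), E, eU, eV, hU₀, hq, ?_, sqE, inferInstance⟩
  rw [Groth.Agent.S10176.ofPt_map_comp jO p]
  exact hu₀

/-- the open neighbourhood of a point given by a good chart. -/
theorem exists_open_nhd_sober {X : AlgSp.Sp S}
    (hX : ∃ (ι : Type u) (Xi : ι → AlgSp.Sp S) (j : ∀ i, Xi i ⟶ X),
        AlgSp.IsZarCover Xi j ∧ ∀ i, AlgSp.IsAlgSpace (Xi i) ∧ AlgSp.IsQuasiSeparatedSp (Xi i))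
    (x : AlgSp.Points X) :
    ∃ V : Set (AlgSp.Points X), x ∈ V ∧ IsOpen V ∧ QuasiSober V ∧ T0Space V := by
  obtain ⟨ι, Xi, j, ⟨hjo, hjs⟩, hXi⟩ := hX
  obtain ⟨i, xi, rfl⟩ := hjs x
  obtain ⟨W, q, w, R, s, t, hW, hq, hw, sq, hR⟩ := exists_good_chart (hXi i).1 (hXi i).2 xi
  haveI := hW
  haveI := hR
  haveI : Mono (j i) := Groth.Agent.S9928.mono_of_repWith @IsOpenImmersion
    (fun X Y g hg => by haveI : IsOpenImmersion g := hg; infer_instance) (j i) (hjo i)
  have hje : AlgSp.RepWith @Etale (j i) :=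
    ⟨(hjo i).1, fun _ _ g fst snd BC => by
      haveI : IsOpenImmersion snd.left := (hjo i).2 g fst snd BC
      exact (inferInstance : Etale snd.left)⟩
  have ha : AlgSp.RepWith @Etale (q ≫ j i) := (AlgSp.RepWith @Etale).comp_mem _ _ hq hje
  have sq' : IsPullback ((AlgSp.yon S).map s) ((AlgSp.yon S).map t) (q ≫ j i) (q ≫ j i) :=
    isPullback_comp_mono (j i) sq
  refine ⟨Set.range (AlgSp.Points.ofPt (q ≫ j i)), ⟨w, ?_⟩,
    (Groth.Agent.S10176.isOpenMap_ofPt _ ha).isOpen_range,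
    quasiSober_range _ ha s t sq', t0Space_range _ ha s t sq'⟩
  rw [AlgSp.Points.ofPt_eq_map_ofScheme, AlgSp.Points.map_comp,
    ← AlgSp.Points.ofPt_eq_map_ofScheme, hw]

/-- Let X be an algebraic space over a scheme S that is Zariski locally quasi-separated over S (X has a
Zariski covering by open subspaces whose diagonals over S are quasi-compact; for instance X
quasi-separated over S). Then |X| is a sober topological space. (Being Zariski locally
quasi-separated over S is the same as the absolute notion, so no hypothesis on S is needed.) -/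
theorem result {S : Scheme.{u}} (X : AlgSp.Space S)
    (hX : ∃ (ι : Type u) (Xi : ι → AlgSp.Space S) (j : ∀ i, Xi i ⟶ X),
        AlgSp.IsZarCover (fun i => (Xi i).obj) (fun i => (j i).hom) ∧ ∀ i, AlgSp.IsQuasiSeparatedSp (Xi i).obj) :
    QuasiSober (AlgSp.Points X.obj) ∧ T0Space (AlgSp.Points X.obj) := by
  have key : ∀ x : AlgSp.Points X.obj,
      ∃ V : Set (AlgSp.Points X.obj), x ∈ V ∧ IsOpen V ∧ QuasiSober V ∧ T0Space V := by
    obtain ⟨ι, Xi, j, hcov, hqs⟩ := hX
    exact exists_open_nhd_sober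
      ⟨ι, fun i => (Xi i).obj, fun i => (j i).hom, hcov, fun i => ⟨(Xi i).property, hqs i⟩⟩
  constructor
  · let 𝒮 : Set (Set (AlgSp.Points X.obj)) := {V | IsOpen V ∧ QuasiSober V}
    haveI : ∀ s : 𝒮, QuasiSober s := fun s => s.2.2
    refine quasiSober_of_open_cover 𝒮 (fun s => s.2.1) ?_
    rw [Set.top_eq_univ, Set.eq_univ_iff_forall]
    intro x
    obtain ⟨V, hxV, hVo, hVs, -⟩ := key x
    exact ⟨V, ⟨hVo, hVs⟩, hxV⟩
  · refine T0Space.of_open_cover fun x => ?_
    obtain ⟨V, hxV, hVo, -, hVt⟩ := key x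
    exact ⟨V, hxV, hVo, hVt⟩

end Groth.Agent.S10199
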