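import Groth.Statements.S9866
import Mathlib
import Groth.Agent.Lib.H5bDDGlueE

set_option autoImplicit false
set_option linter.style.haveILetI false
open CategoryTheory CategoryTheory.Limits AlgebraicGeometry Opposite
universe u
open Desc

namespace Groth.Agent.S9866

open Groth.Agent.Lib.H5bDDGlue in
lemma good_of_iso {X S : Scheme.{u}} {p : X ⟶ S} {D D' : Desc.SchDD p} (j : D' ⟶ D)
    [IsOpenImmersion j.hom.left] (U' : Over S) (e : (Desc.toDD p).obj U' ≅ D') :
    ∃ W : D.obj.left.Opens, Good D W ∧ Set.range j.hom.left ⊆ (W : Set D.obj.left) := by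
  have h1 : e.hom.hom.left ≫ e.inv.hom.left = 𝟙 _ :=
    congrArg (fun m => m.hom.left) e.hom_inv_id
  have h2 : e.inv.hom.left ≫ e.hom.hom.left = 𝟙 _ :=
    congrArg (fun m => m.hom.left) e.inv_hom_id
  have hiso : IsIso e.hom.hom.left := ⟨e.inv.hom.left, h1, h2⟩
  have hoi : IsOpenImmersion (e.hom ≫ j).hom.left := by
    change IsOpenImmersion (e.hom.hom.left ≫ j.hom.left)
    infer_instance
  refine ⟨(e.hom ≫ j).hom.left.opensRange, ⟨U', e.hom ≫ j, hoi, rfl⟩, ?_⟩
  rintro _ ⟨a, rfl⟩
  refine ⟨e.inv.hom.left a, ?_⟩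
  change (e.hom.hom.left ≫ j.hom.left) (e.inv.hom.left a) = _
  rw [← Scheme.Hom.comp_apply, ← Category.assoc, h2, Category.id_comp]

/-- Let p : X ⟶ S be a surjective, flat, quasi-compact morphism of schemes and D = (V, φ) a descent
datum for schemes relative to p. Suppose every point v of V lies in the image of some morphism of
descent data D' ⟶ D whose underlying morphism of schemes over X is an open immersion and whose
source D' is effective (isomorphic to the canonical descent datum of a scheme over S). Then D is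
effective. (A φ-stable open W ⊆ V with its restricted descent datum, as in the published statement,
is the same thing as such a morphism D' ⟶ D up to isomorphism.) -/
theorem result {X S : Scheme.{u}} (p : X ⟶ S) [Surjective p] [Flat p] [QuasiCompact p]
    (D : Desc.SchDD p)
    (h : ∀ v : D.obj.left, ∃ (D' : Desc.SchDD p) (j : D' ⟶ D), IsOpenImmersion j.hom.left ∧
      v ∈ Set.range j.hom.left.base ∧ ∃ U' : Over S, Nonempty ((Desc.toDD p).obj U' ≅ D')) :
    ∃ U : Over S, Nonempty ((Desc.toDD p).obj U ≅ D) := by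
  apply Groth.Agent.Lib.H5bDDGlue.effective_of_good_cover D
  intro v
  obtain ⟨D', j, hj, hv, U', ⟨e⟩⟩ := h v
  obtain ⟨W, hW, hsub⟩ := good_of_iso j U' e
  exact ⟨W, hW, hsub hv⟩

end Groth.Agent.S9866
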