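import Groth.Statements.S10587
import Mathlib
import Groth.Agent.Lib.Helper12OpenSub2
import Groth.Agent.S9928
import Groth.Agent.S9874
import Groth.Agent.S10174

set_option autoImplicit false
universe u
open CategoryTheory CategoryTheory.Limits AlgebraicGeometry
open AlgSp

namespace Groth.Agent.S10587

variable {S : Scheme.{u}}

lemma isPullback_comp_mono {C : Type*} [Category C] {P X Y W Z : C} {fst : P ⟶ X} {snd : P ⟶ Y}
    {f : X ⟶ W} {g : Y ⟶ W} (h : IsPullback fst snd f g) (i : W ⟶ Z) [Mono i] :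
    IsPullback fst snd (f ≫ i) (g ≫ i) :=
  ⟨⟨by rw [← Category.assoc, h.w, Category.assoc]⟩,
    ⟨PullbackCone.isLimitOfCompMono f g i h.cone h.isLimit⟩⟩

/-- thickenings are monomorphisms. -/
lemma mono_of_thick {A A' : AlgSp.Sp S} (k : A ⟶ A') (hk : AlgSp.IsThickMor k) : Mono k :=
  Groth.Agent.S9928.mono_of_repWith AlgSp.thick
    (fun _ _ g hg => by
      haveI : IsClosedImmersion g := hg.1
      infer_instance) k hk

/-- a thickening is bijective, open and closed on points. -/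
lemma thick_top {A A' : AlgSp.Sp S} (k : A ⟶ A') (hk : AlgSp.IsThickMor k) :
    Function.Bijective (AlgSp.Points.map k) ∧ IsOpenMap (AlgSp.Points.map k) ∧
      IsClosedMap (AlgSp.Points.map k) := by
  obtain ⟨hb, ho⟩ := Groth.Agent.Lib.Helper12.OpenSub.thick_points k hk
  refine ⟨hb, ho, fun A hA => ?_⟩
  have e : AlgSp.Points.map k '' A = (AlgSp.Points.map k '' Aᶜ)ᶜ := by
    rw [Set.image_compl_eq hb, compl_compl]
  rw [e, isClosed_compl_iff]
  exact ho _ hA.isOpen_compl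

/-- topological transfer along a commutative square whose horizontal maps are homeomorphisms. -/
lemma top_transfer {α β α' β' : Type*} [TopologicalSpace α] [TopologicalSpace β]
    [TopologicalSpace α'] [TopologicalSpace β'] (k : α → α') (z : β → β') (s : α → β)
    (s' : α' → β') (hcomm : ∀ a, s' (k a) = z (s a))
    (hk : Function.Bijective k) (hkc : Continuous k) (hko : IsOpenMap k) (hkcl : IsClosedMap k)
    (hz : Function.Bijective z) (hzc : Continuous z) (hzo : IsOpenMap z) (hzcl : IsClosedMap z) :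
    (IsClosedMap s ↔ IsClosedMap s') ∧ (IsOpenMap s ↔ IsOpenMap s') ∧
      (Function.Injective s ↔ Function.Injective s') := by
  have himg : ∀ A' : Set α', s' '' A' = z '' (s '' (k ⁻¹' A')) := by
    intro A'
    ext b'
    constructor
    · rintro ⟨a', ha', rfl⟩
      obtain ⟨a, rfl⟩ := hk.2 a'
      exact ⟨s a, ⟨a, ha', rfl⟩, (hcomm a).symm⟩
    · rintro ⟨_, ⟨a, ha, rfl⟩, rfl⟩
      exact ⟨k a, ha, hcomm a⟩
  have himg2 : ∀ A : Set α, s '' A = z ⁻¹' (s' '' (k '' A)) := by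
    intro A
    ext b
    constructor
    · rintro ⟨a, ha, rfl⟩
      exact ⟨k a, ⟨a, ha, rfl⟩, hcomm a⟩
    · rintro ⟨_, ⟨a, ha, rfl⟩, h⟩
      rw [hcomm a] at h
      exact ⟨a, ha, hz.1 h⟩
  refine ⟨⟨fun h A' hA' => ?_, fun h A hA => ?_⟩, ⟨fun h A' hA' => ?_, fun h A hA => ?_⟩,
    ⟨fun h a1' a2' e => ?_, fun h a1 a2 e => ?_⟩⟩
  · rw [himg]
    exact hzcl _ (h _ (hA'.preimage hkc))
  · rw [himg2]
    exact (h _ (hkcl _ hA)).preimage hzc
  · rw [himg]
    exact hzo _ (h _ (hA'.preimage hkc))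
  · rw [himg2]
    exact (h _ (hko _ hA)).preimage hzc
  · obtain ⟨a1, rfl⟩ := hk.2 a1'
    obtain ⟨a2, rfl⟩ := hk.2 a2'
    rw [hcomm, hcomm] at e
    rw [h (hz.1 e)]
  · apply hk.1
    apply h
    rw [hcomm, hcomm, e]

/-- comparison of a base change of `f` with the base change of `f'` along the composite to `Y'`. -/
lemma compare_down {X X' Y Y' : AlgSp.Space S} (i : X ⟶ X') (j : Y ⟶ Y') (f : X ⟶ Y)
    (f' : X' ⟶ Y') (hi : AlgSp.IsThickMor i.hom) (hj : AlgSp.IsThickMor j.hom)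
    (w : i ≫ f' = f ≫ j) {Z Z' : AlgSp.Sp S} (hZ : AlgSp.IsAlgSpace Z) (g : Z ⟶ Y.obj)
    (fst : Z' ⟶ X.obj) (snd : Z' ⟶ Z) (sq : IsPullback fst snd f.hom g) :
    ∃ (P' : AlgSp.Sp S) (fst' : P' ⟶ X'.obj) (snd' : P' ⟶ Z) (k : Z' ⟶ P'),
      IsPullback fst' snd' f'.hom (g ≫ j.hom) ∧ AlgSp.IsThickMor k ∧ k ≫ snd' = snd ∧
      AlgSp.IsAlgSpace P' ∧ AlgSp.IsAlgSpace Z' := by
  have wh : i.hom ≫ f'.hom = f.hom ≫ j.hom := congrArg (fun φ => φ.hom) w
  haveI := mono_of_thick j.hom hj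
  have sqP := IsPullback.of_hasPullback f'.hom (g ≫ j.hom)
  have hcond : (fst ≫ i.hom) ≫ f'.hom = snd ≫ g ≫ j.hom := by
    rw [Category.assoc, wh, ← Category.assoc, sq.w, Category.assoc]
  have hk1 : sqP.lift (fst ≫ i.hom) snd hcond ≫ pullback.fst f'.hom (g ≫ j.hom) = fst ≫ i.hom :=
    sqP.lift_fst _ _ _
  have hk2 : sqP.lift (fst ≫ i.hom) snd hcond ≫ pullback.snd f'.hom (g ≫ j.hom) = snd :=
    sqP.lift_snd _ _ _
  have outer : IsPullback snd fst (g ≫ j.hom) (i.hom ≫ f'.hom) := by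
    rw [wh]
    exact (isPullback_comp_mono sq j.hom).flip
  have left : IsPullback (sqP.lift (fst ≫ i.hom) snd hcond) fst
      (pullback.fst f'.hom (g ≫ j.hom)) i.hom := by
    refine IsPullback.of_right ?_ hk1 sqP.flip
    rw [hk2]
    exact outer
  refine ⟨_, pullback.fst _ _, pullback.snd _ _, sqP.lift (fst ≫ i.hom) snd hcond, sqP, ?_, hk2,
    Groth.Agent.S9874.isAlgSpace_of_isPullback Y'.property.diag X'.property hZ sqP,
    Groth.Agent.S9874.isAlgSpace_of_isPullback Y.property.diag X.property hZ sq⟩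
  exact (AlgSp.repWith_isStableUnderBaseChange (S := S) AlgSp.thick).of_isPullback left.flip hi

/-- comparison of a base change of `f'` with a base change of `f`. -/
lemma compare_up {X X' Y Y' : AlgSp.Space S} (i : X ⟶ X') (j : Y ⟶ Y') (f : X ⟶ Y)
    (f' : X' ⟶ Y') (hi : AlgSp.IsThickMor i.hom) (hj : AlgSp.IsThickMor j.hom)
    (w : i ≫ f' = f ≫ j) {Z P' : AlgSp.Sp S} (hZ : AlgSp.IsAlgSpace Z) (g' : Z ⟶ Y'.obj)
    (fst' : P' ⟶ X'.obj) (snd' : P' ⟶ Z) (sq' : IsPullback fst' snd' f'.hom g') :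
    ∃ (Z₀ Z₀' : AlgSp.Sp S) (z : Z₀ ⟶ Z) (g : Z₀ ⟶ Y.obj) (fst₀ : Z₀' ⟶ X.obj)
      (snd₀ : Z₀' ⟶ Z₀) (k : Z₀' ⟶ P'),
      AlgSp.IsAlgSpace Z₀ ∧ AlgSp.IsThickMor z ∧ IsPullback fst₀ snd₀ f.hom g ∧
      AlgSp.IsThickMor k ∧ k ≫ snd' = snd₀ ≫ z ∧ AlgSp.IsAlgSpace Z₀' ∧ AlgSp.IsAlgSpace P' := by
  have wh : i.hom ≫ f'.hom = f.hom ≫ j.hom := congrArg (fun φ => φ.hom) w
  have hbc := AlgSp.repWith_isStableUnderBaseChange (S := S) AlgSp.thick
  have sqZ := IsPullback.of_hasPullback j.hom g'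
  have hZ₀ : AlgSp.IsAlgSpace (pullback j.hom g') :=
    Groth.Agent.S9874.isAlgSpace_of_isPullback Y'.property.diag Y.property hZ sqZ
  have hz : AlgSp.IsThickMor (pullback.snd j.hom g') := hbc.of_isPullback sqZ hj
  have sq₀ := IsPullback.of_hasPullback f.hom (pullback.fst j.hom g')
  have hcond : (pullback.fst f.hom (pullback.fst j.hom g') ≫ i.hom) ≫ f'.hom =
      (pullback.snd f.hom (pullback.fst j.hom g') ≫ pullback.snd j.hom g') ≫ g' := by
    rw [Category.assoc, wh, ← Category.assoc, sq₀.w, Category.assoc, sqZ.w, Category.assoc]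
  have hk1 := sq'.lift_fst _ _ hcond
  have hk2 := sq'.lift_snd _ _ hcond
  have outer : IsPullback (pullback.snd f.hom (pullback.fst j.hom g') ≫ pullback.snd j.hom g')
      (pullback.fst f.hom (pullback.fst j.hom g')) g' (i.hom ≫ f'.hom) := by
    rw [wh]
    exact sq₀.flip.paste_horiz sqZ.flip
  have left : IsPullback (sq'.lift _ _ hcond) (pullback.fst f.hom (pullback.fst j.hom g'))
      fst' i.hom := by
    refine IsPullback.of_right ?_ hk1 sq'.flip
    rw [hk2]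
    exact outer
  exact ⟨_, _, pullback.snd j.hom g', pullback.fst j.hom g', pullback.fst _ _, pullback.snd _ _,
    sq'.lift _ _ hcond, hZ₀, hz, sq₀, hbc.of_isPullback left.flip hi, hk2,
    Groth.Agent.S9874.isAlgSpace_of_isPullback Y.property.diag X.property hZ₀ sq₀,
    Groth.Agent.S9874.isAlgSpace_of_isPullback Y'.property.diag X'.property hZ sq'⟩

/-- the general transfer for universal topological properties. -/
lemma univ_iff {X X' Y Y' : AlgSp.Space S} (i : X ⟶ X') (j : Y ⟶ Y') (f : X ⟶ Y)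
    (f' : X' ⟶ Y') (hi : AlgSp.IsThickMor i.hom) (hj : AlgSp.IsThickMor j.hom)
    (w : i ≫ f' = f ≫ j) (Q : MorphismProperty (AlgSp.Sp S))
    (hQ : ∀ {A A' B B' : AlgSp.Sp S} (k : A ⟶ A') (z : B ⟶ B') (s : A ⟶ B) (s' : A' ⟶ B'),
      AlgSp.IsThickMor k → AlgSp.IsThickMor z → k ≫ s' = s ≫ z → (Q s ↔ Q s')) :
    AlgSp.UnivSp Q f.hom ↔ AlgSp.UnivSp Q f'.hom := by
  constructor
  · intro h Z P' hZ g' fst' snd' sq'
    obtain ⟨Z₀, Z₀', z, g, fst₀, snd₀, k, hZ₀, hz, sq₀, hk, hkc, -, -⟩ :=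
      compare_up i j f f' hi hj w hZ g' fst' snd' sq'
    exact (hQ k z snd₀ snd' hk hz hkc).1 (h hZ₀ g fst₀ snd₀ sq₀)
  · intro h Z Z' hZ g fst snd sq
    obtain ⟨P', fst', snd', k, sqP, hk, hkc, -, -⟩ := compare_down i j f f' hi hj w hZ g fst snd sq
    haveI : (AlgSp.thick.{u}).IsMultiplicative := by
      unfold AlgSp.thick
      infer_instance
    have hid : AlgSp.IsThickMor (𝟙 Z) :=
      (AlgSp.repWith_isMultiplicative (S := S) AlgSp.thick).id_mem Z
    exact (hQ k (𝟙 Z) snd snd' hk hid (by rw [hkc, Category.comp_id])).2 (h hZ _ fst' snd' sqP)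

lemma top_data {A A' B B' : AlgSp.Sp S} (k : A ⟶ A') (z : B ⟶ B') (s : A ⟶ B) (s' : A' ⟶ B')
    (hk : AlgSp.IsThickMor k) (hz : AlgSp.IsThickMor z) (hc : k ≫ s' = s ≫ z) :
    (IsClosedMap (AlgSp.Points.map s) ↔ IsClosedMap (AlgSp.Points.map s')) ∧
    (IsOpenMap (AlgSp.Points.map s) ↔ IsOpenMap (AlgSp.Points.map s')) ∧
    (Function.Injective (AlgSp.Points.map s) ↔ Function.Injective (AlgSp.Points.map s')) := by
  obtain ⟨hkb, hko, hkcl⟩ := thick_top k hk
  obtain ⟨hzb, hzo, hzcl⟩ := thick_top z hz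
  refine top_transfer (AlgSp.Points.map k) (AlgSp.Points.map z) (AlgSp.Points.map s)
    (AlgSp.Points.map s') ?_ hkb (AlgSp.Points.continuous_map k) hko hkcl hzb
    (AlgSp.Points.continuous_map z) hzo hzcl
  intro a
  rw [← AlgSp.Points.map_comp, ← AlgSp.Points.map_comp, hc]

lemma compact_iff_of_thick {A A' : AlgSp.Sp S} (k : A ⟶ A') (hk : AlgSp.IsThickMor k) :
    CompactSpace (AlgSp.Points A) ↔ CompactSpace (AlgSp.Points A') := by
  obtain ⟨hkb, hko, hkcl⟩ := thick_top k hk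
  constructor
  · intro h
    exact hkb.2.compactSpace (AlgSp.Points.continuous_map k)
  · intro h
    exact (Topology.IsClosedEmbedding.of_continuous_injective_isClosedMap
      (AlgSp.Points.continuous_map k) hkb.1 hkcl).compactSpace

/-- Consider a morphism (f, f') from the thickening X ⊂ X' to the thickening Y ⊂ Y' of algebraic spaces
over S, meaning: i : X ⟶ X' and j : Y ⟶ Y' are thickenings (representable, every base change to a
scheme a surjective closed immersion) and i ≫ f' = f ≫ j. Then f is surjective, resp. quasi-compact,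
universally closed, universally injective, universally open, if and only if f' is. -/
theorem result {S : Scheme.{u}} {X X' Y Y' : AlgSp.Space S} (i : X ⟶ X') (j : Y ⟶ Y')
    (f : X ⟶ Y) (f' : X' ⟶ Y')
    (hi : AlgSp.IsThickMor i.hom)
    (hj : AlgSp.IsThickMor j.hom) (w : i ≫ f' = f ≫ j) :
    (AlgSp.IsSurjectiveMor f.hom ↔ AlgSp.IsSurjectiveMor f'.hom) ∧
    (AlgSp.IsQuasiCompactMor f.hom ↔ AlgSp.IsQuasiCompactMor f'.hom) ∧
    (AlgSp.IsUnivClosedMor f.hom ↔ AlgSp.IsUnivClosedMor f'.hom) ∧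
    (AlgSp.IsUnivInjectiveMor f.hom ↔ AlgSp.IsUnivInjectiveMor f'.hom) ∧
    (AlgSp.IsUnivOpenMor f.hom ↔ AlgSp.IsUnivOpenMor f'.hom) := by
  have wh : i.hom ≫ f'.hom = f.hom ≫ j.hom := congrArg (fun φ => φ.hom) w
  obtain ⟨hib, -, -⟩ := thick_top i.hom hi
  obtain ⟨hjb, -, -⟩ := thick_top j.hom hj
  have hpt : ∀ x, AlgSp.Points.map f'.hom (AlgSp.Points.map i.hom x) =
      AlgSp.Points.map j.hom (AlgSp.Points.map f.hom x) := by
    intro x
    rw [← AlgSp.Points.map_comp, ← AlgSp.Points.map_comp, wh]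
  refine ⟨?_, ?_, ?_, ?_, ?_⟩
  · constructor
    · intro h y'
      obtain ⟨y, rfl⟩ := hjb.2 y'
      obtain ⟨x, rfl⟩ := h y
      exact ⟨_, hpt x⟩
    · intro h y
      obtain ⟨x', hx'⟩ := h (AlgSp.Points.map j.hom y)
      obtain ⟨x, rfl⟩ := hib.2 x'
      rw [hpt] at hx'
      exact ⟨x, hjb.1 hx'⟩
  · constructor
    · intro h Z P' hZ hZq g' fst' snd' sq'
      obtain ⟨Z₀, Z₀', z, g, fst₀, snd₀, k, hZ₀, hz, sq₀, hk, hkc, hZ₀', hP'⟩ :=
        compare_up i j f f' hi hj w hZ g' fst' snd' sq'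
      have h1 : AlgSp.IsQuasiCompactSp Z₀ := by
        rw [Groth.Agent.S10174.isQuasiCompactSp_iff hZ₀, compact_iff_of_thick z hz,
          ← Groth.Agent.S10174.isQuasiCompactSp_iff hZ]
        exact hZq
      have h2 := h hZ₀ h1 g fst₀ snd₀ sq₀
      rw [Groth.Agent.S10174.isQuasiCompactSp_iff hZ₀', compact_iff_of_thick k hk,
        ← Groth.Agent.S10174.isQuasiCompactSp_iff hP'] at h2
      exact h2
    · intro h Z Z' hZ hZq g fst snd sq
      obtain ⟨P', fst', snd', k, sqP, hk, hkc, hP', hZ'⟩ :=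
        compare_down i j f f' hi hj w hZ g fst snd sq
      have h2 := h hZ hZq _ fst' snd' sqP
      rw [Groth.Agent.S10174.isQuasiCompactSp_iff hP', ← compact_iff_of_thick k hk,
        ← Groth.Agent.S10174.isQuasiCompactSp_iff hZ'] at h2
      exact h2
  · exact univ_iff i j f f' hi hj w AlgSp.IsClosedMor
      (fun k z s s' hk hz hc => (top_data k z s s' hk hz hc).1)
  · exact univ_iff i j f f' hi hj w (fun _ _ f => Function.Injective (AlgSp.Points.map f))
      (fun k z s s' hk hz hc => (top_data k z s s' hk hz hc).2.2)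
  · exact univ_iff i j f f' hi hj w AlgSp.IsOpenMor
      (fun k z s s' hk hz hc => (top_data k z s s' hk hz hc).2.1)

end Groth.Agent.S10587
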