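import Groth.Statements.S10589
import Mathlib
import Groth.Agent.S10587
import Groth.Agent.S9900
import Groth.Agent.S1313
import Groth.Agent.S1303

set_option autoImplicit false
universe u
open CategoryTheory CategoryTheory.Limits AlgebraicGeometry
open AlgSp

namespace Groth.Agent.S10589

variable {S : Scheme.{u}}

/-- for a thickening `i : X ⟶ X'`, the map of fibre squares `X ×_{Y'} X ⟶ X' ×_{Y'} X'` is a
thickening. -/
lemma thick_fibre_square {X X' Y' P P' : AlgSp.Sp S} (i : X ⟶ X') (f' : X' ⟶ Y')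
    (p0 p1 : P ⟶ X) (hP : IsPullback p0 p1 (i ≫ f') (i ≫ f'))
    (p0' p1' : P' ⟶ X') (hP' : IsPullback p0' p1' f' f') (hi : AlgSp.IsThickMor i) :
    ∃ m : P ⟶ P', m ≫ p0' = p0 ≫ i ∧ m ≫ p1' = p1 ≫ i ∧ AlgSp.IsThickMor m := by
  have hbc := AlgSp.repWith_isStableUnderBaseChange (S := S) AlgSp.thick
  haveI : (AlgSp.thick.{u}).IsMultiplicative := by
    unfold AlgSp.thick
    infer_instance
  have hmul := AlgSp.repWith_isMultiplicative (S := S) AlgSp.thick
  have sqQ := IsPullback.of_hasPullback (i ≫ f') f'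
  have c2 : (pullback.fst (i ≫ f') f' ≫ i) ≫ f' = pullback.snd (i ≫ f') f' ≫ f' := by
    rw [Category.assoc, pullback.condition]
  have c1 : p0 ≫ i ≫ f' = (p1 ≫ i) ≫ f' := by
    rw [hP.w, Category.assoc]
  have h20 : hP'.lift _ _ c2 ≫ p0' = pullback.fst (i ≫ f') f' ≫ i := hP'.lift_fst _ _ _
  have h21 : hP'.lift _ _ c2 ≫ p1' = pullback.snd (i ≫ f') f' := hP'.lift_snd _ _ _
  have h10 : sqQ.lift _ _ c1 ≫ pullback.fst (i ≫ f') f' = p0 := sqQ.lift_fst _ _ _
  have h11 : sqQ.lift _ _ c1 ≫ pullback.snd (i ≫ f') f' = p1 ≫ i := sqQ.lift_snd _ _ _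
  have s1 : IsPullback (sqQ.lift _ _ c1) p1 (pullback.snd (i ≫ f') f') i := by
    refine IsPullback.of_right ?_ h11 sqQ
    rw [h10]
    exact hP
  have s2 : IsPullback (hP'.lift _ _ c2) (pullback.fst (i ≫ f') f') p0' i := by
    refine IsPullback.of_right ?_ h20 hP'.flip
    rw [h21]
    exact sqQ.flip
  refine ⟨sqQ.lift _ _ c1 ≫ hP'.lift _ _ c2, ?_, ?_, ?_⟩
  · rw [Category.assoc, h20, ← Category.assoc, h10]
  · rw [Category.assoc, h21, h11]
  · exact hmul.comp_mem _ _ (hbc.of_isPullback s1.flip hi) (hbc.of_isPullback s2.flip hi)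

/-- the square of diagonals over a monomorphism is cartesian. -/
lemma diag_cartesian {X X' P P' Y : AlgSp.Sp S} (i : X ⟶ X') [Mono i]
    {a b : X ⟶ Y} (p0 p1 : P ⟶ X) (hP : IsPullback p0 p1 a b)
    (p0' p1' : P' ⟶ X') (m : P ⟶ P') (h0 : m ≫ p0' = p0 ≫ i) (h1 : m ≫ p1' = p1 ≫ i)
    (Δ : X ⟶ P) (hΔ0 : Δ ≫ p0 = 𝟙 _) (hΔ1 : Δ ≫ p1 = 𝟙 _)
    (Δ' : X' ⟶ P') (hΔ0' : Δ' ≫ p0' = 𝟙 _) (hΔ1' : Δ' ≫ p1' = 𝟙 _)
    (hjm : ∀ {T : AlgSp.Sp S} (u v : T ⟶ P'), u ≫ p0' = v ≫ p0' → u ≫ p1' = v ≫ p1' → u = v) :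
    IsPullback i Δ Δ' m := by
  have hw : i ≫ Δ' = Δ ≫ m := by
    apply hjm
    · rw [Category.assoc, hΔ0', Category.comp_id, Category.assoc, h0, ← Category.assoc, hΔ0,
        Category.id_comp]
    · rw [Category.assoc, hΔ1', Category.comp_id, Category.assoc, h1, ← Category.assoc, hΔ1,
        Category.id_comp]
  refine ⟨⟨hw⟩, ⟨PullbackCone.IsLimit.mk _ (fun s => s.snd ≫ p0) ?_ ?_ ?_⟩⟩
  · intro s
    have hc := s.condition
    calc (s.snd ≫ p0) ≫ i = s.snd ≫ m ≫ p0' := by rw [Category.assoc, h0]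
      _ = s.fst ≫ Δ' ≫ p0' := by rw [← Category.assoc, ← hc, Category.assoc]
      _ = s.fst := by rw [hΔ0', Category.comp_id]
  · intro s
    have hc := s.condition
    have e0 : (s.snd ≫ p0) ≫ i = s.fst := by
      calc (s.snd ≫ p0) ≫ i = s.snd ≫ m ≫ p0' := by rw [Category.assoc, h0]
        _ = s.fst ≫ Δ' ≫ p0' := by rw [← Category.assoc, ← hc, Category.assoc]
        _ = s.fst := by rw [hΔ0', Category.comp_id]
    have e1 : (s.snd ≫ p1) ≫ i = s.fst := by
      calc (s.snd ≫ p1) ≫ i = s.snd ≫ m ≫ p1' := by rw [Category.assoc, h1]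
        _ = s.fst ≫ Δ' ≫ p1' := by rw [← Category.assoc, ← hc, Category.assoc]
        _ = s.fst := by rw [hΔ1', Category.comp_id]
    have e : s.snd ≫ p0 = s.snd ≫ p1 := by
      rw [← cancel_mono i, e0, e1]
    apply hP.hom_ext
    · rw [Category.assoc, hΔ0, Category.comp_id]
    · rw [Category.assoc, hΔ1, Category.comp_id, e]
  · intro s l _ h2
    rw [← h2, Category.assoc, hΔ0, Category.comp_id]

/-- the cube of represented pullbacks attached to a cartesian square over a thickening. -/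
lemma exists_cube_of_cartesian {X X' P P' : AlgSp.Sp S} (Δ : X ⟶ P) (Δ' : X' ⟶ P') (i : X ⟶ X')
    (m : P ⟶ P') (sq : IsPullback i Δ Δ' m) (hm : AlgSp.IsThickMor m)
    (hΔrep : AlgSp.Representable Δ) {T' E' : Over S} (g' : (AlgSp.yon S).obj T' ⟶ P')
    (fst' : (AlgSp.yon S).obj E' ⟶ X') (e' : E' ⟶ T')
    (sq' : IsPullback fst' ((AlgSp.yon S).map e') Δ' g') :
    ∃ (T E : Over S) (tT : T ⟶ T') (eE : E ⟶ T) (k : E ⟶ E') (gT : (AlgSp.yon S).obj T ⟶ P)
      (fstE : (AlgSp.yon S).obj E ⟶ X), AlgSp.thick tT.left ∧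
      IsPullback fstE ((AlgSp.yon S).map eE) Δ gT ∧ k ≫ e' = eE ≫ tT ∧
      IsPullback k.left eE.left e'.left tT.left := by
  have sqT := hm.rep.isPullback g'
  have htT : AlgSp.thick (hm.rep.snd g').left := hm.property_snd g'
  have sqE := hΔrep.isPullback (hm.rep.fst g')
  have outer : IsPullback (hΔrep.fst (hm.rep.fst g') ≫ i) ((AlgSp.yon S).map (hΔrep.snd (hm.rep.fst g')))
      Δ' (hm.rep.fst g' ≫ m) := sqE.paste_horiz sq
  have hcond : (hΔrep.fst (hm.rep.fst g') ≫ i) ≫ Δ' =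
      ((AlgSp.yon S).map (hΔrep.snd (hm.rep.fst g')) ≫ (AlgSp.yon S).map (hm.rep.snd g')) ≫ g' := by
    rw [outer.w, Category.assoc, sqT.w]
  obtain ⟨k, hk⟩ := (AlgSp.yon S).map_surjective (sq'.lift _ _ hcond)
  have hk1 : (AlgSp.yon S).map k ≫ fst' = hΔrep.fst (hm.rep.fst g') ≫ i := by
    rw [hk, sq'.lift_fst]
  have hk2 : (AlgSp.yon S).map k ≫ (AlgSp.yon S).map e' =
      (AlgSp.yon S).map (hΔrep.snd (hm.rep.fst g')) ≫ (AlgSp.yon S).map (hm.rep.snd g') := by
    rw [hk, sq'.lift_snd]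
  have hkO : k ≫ e' = hΔrep.snd (hm.rep.fst g') ≫ hm.rep.snd g' := by
    apply (AlgSp.yon S).map_injective
    rw [Functor.map_comp, Functor.map_comp]
    exact hk2
  have left : IsPullback ((AlgSp.yon S).map k) ((AlgSp.yon S).map (hΔrep.snd (hm.rep.fst g')))
      ((AlgSp.yon S).map e') ((AlgSp.yon S).map (hm.rep.snd g')) := by
    refine IsPullback.of_right ?_ hk2 sq'
    rw [hk1, ← sqT.w]
    exact outer
  have h2 := (IsPullback.of_map (AlgSp.yon S) hkO left).map (Over.forget S)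
  exact ⟨_, _, hm.rep.snd g', hΔrep.snd (hm.rep.fst g'), k, hm.rep.fst g', hΔrep.fst (hm.rep.fst g'),
    htT, sqE, hkO, h2⟩

/-- Consider a morphism (f, f') from the thickening X ⊂ X' to the thickening Y ⊂ Y' of algebraic spaces
over S, meaning: i : X ⟶ X' and j : Y ⟶ Y' are thickenings (representable, every base change to a
scheme a surjective closed immersion) and i ≫ f' = f ≫ j. Then f is separated if and only if f' is
separated, and f is quasi-separated if and only if f' is quasi-separated. -/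
theorem result {S : Scheme.{u}} {X X' Y Y' : AlgSp.Space S} (i : X ⟶ X') (j : Y ⟶ Y')
    (f : X ⟶ Y) (f' : X' ⟶ Y')
    (hi : AlgSp.IsThickMor i.hom)
    (hj : AlgSp.IsThickMor j.hom) (w : i ≫ f' = f ≫ j) :
    (AlgSp.IsSeparatedMor f.hom ↔ AlgSp.IsSeparatedMor f'.hom) ∧
    (AlgSp.IsQuasiSeparatedMor f.hom ↔ AlgSp.IsQuasiSeparatedMor f'.hom) := by
  have wh : i.hom ≫ f'.hom = f.hom ≫ j.hom := congrArg (fun φ => φ.hom) w
  haveI := Groth.Agent.S10587.mono_of_thick j.hom hj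
  haveI := Groth.Agent.S10587.mono_of_thick i.hom hi
  have hP : IsPullback (pullback.fst f.hom f.hom) (pullback.snd f.hom f.hom) (i.hom ≫ f'.hom)
      (i.hom ≫ f'.hom) := by
    rw [wh]
    exact Groth.Agent.S10587.isPullback_comp_mono (IsPullback.of_hasPullback f.hom f.hom) j.hom
  have hP' := IsPullback.of_hasPullback f'.hom f'.hom
  obtain ⟨m, hm0, hm1, hm⟩ := thick_fibre_square i.hom f'.hom _ _ hP _ _ hP' hi
  have sq : IsPullback i.hom (pullback.diagonal f.hom) (pullback.diagonal f'.hom) m :=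
    diag_cartesian i.hom _ _ hP _ _ m hm0 hm1 _ (pullback.diagonal_fst _) (pullback.diagonal_snd _)
      _ (pullback.diagonal_fst _) (pullback.diagonal_snd _)
      (fun u v h0 h1 => pullback.hom_ext h0 h1)
  obtain ⟨hrep, hlft, -, -, -⟩ := Groth.Agent.S9900.result f
  obtain ⟨hrep', hlft', -, -, -⟩ := Groth.Agent.S9900.result f'
  constructor
  · constructor
    · intro h
      refine ⟨hrep', ?_⟩
      intro T' E' g' fst' e' sq'
      obtain ⟨T, E, tT, eE, k, gT, fstE, htT, sqE, hkO, cube⟩ :=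
        exists_cube_of_cartesian _ _ i.hom m sq hm hrep g' fst' e' sq'
      haveI : LocallyOfFiniteType eE.left := hlft.2 gT fstE eE sqE
      haveI : LocallyOfFiniteType e'.left := hlft'.2 g' fst' e' sq'
      exact (Groth.Agent.S1313.result k.left tT.left eE.left e'.left htT cube).1 (h.2 gT fstE eE sqE)
    · intro h
      exact (AlgSp.repWith_isStableUnderBaseChange (S := S) @IsClosedImmersion).of_isPullback sq h
  · constructor
    · intro h
      refine ⟨hrep', ?_⟩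
      intro T' E' g' fst' e' sq'
      obtain ⟨T, E, tT, eE, k, gT, fstE, htT, sqE, hkO, cube⟩ :=
        exists_cube_of_cartesian _ _ i.hom m sq hm hrep g' fst' e' sq'
      have hk : MoreMor.IsThickening k.left :=
        ⟨MorphismProperty.of_isPullback (P := @IsClosedImmersion) cube.flip htT.1,
          MorphismProperty.of_isPullback (P := @Surjective) cube.flip htT.2⟩
      exact (Groth.Agent.S1303.result k.left tT.left eE.left e'.left hk htT cube.w).1
        (h.2 gT fstE eE sqE)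
    · intro h
      exact (AlgSp.repWith_isStableUnderBaseChange (S := S) @QuasiCompact).of_isPullback sq h

end Groth.Agent.S10589
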