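import Groth.Statements.S9897
import Mathlib
import Groth.Agent.S13210
import Groth.Agent.Lib.Helper12ZarGlue

set_option autoImplicit false
universe u
open CategoryTheory CategoryTheory.Limits AlgebraicGeometry
open AlgSp

namespace Groth.Agent.S9897

open Opposite MorphismProperty Groth.Agent.S13210 Groth.Agent.Lib.Helper12.OpenSub
  Groth.Agent.Lib.Helper12.ZarGlue

variable {S S' : Scheme.{u}} (g : S ⟶ S')

/-- the restriction functor. -/
noncomputable abbrev Φ : AlgSp.Sp S' ⥤ AlgSp.Sp S :=
  Scheme.fppfTopology.overMapPullback (Type (u + 1)) g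

/-- `Hom(h_T, j⁻¹G) ≃ Hom(h_{T/S'}, G)`. -/
noncomputable def theta (T : Over S) (G : AlgSp.Sp S') :
    ((AlgSp.yon S).obj T ⟶ (Φ g).obj G) ≃ ((AlgSp.yon S').obj ((Over.map g).obj T) ⟶ G) :=
  (yEquiv T ((Φ g).obj G)).trans (yEquiv ((Over.map g).obj T) G).symm

lemma theta_comp {T : Over S} {F G : AlgSp.Sp S'} (b : (AlgSp.yon S).obj T ⟶ (Φ g).obj F)
    (m : F ⟶ G) : theta g T G (b ≫ (Φ g).map m) = theta g T F b ≫ m := by
  show (yEquiv _ G).symm (yEquiv T ((Φ g).obj G) (b ≫ (Φ g).map m)) =
    (yEquiv _ F).symm (yEquiv T ((Φ g).obj F) b) ≫ m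
  rw [yEquiv_comp, yEquiv_symm_comp]
  rfl

lemma theta_map_comp {T T' : Over S} {G : AlgSp.Sp S'} (t : T' ⟶ T)
    (b : (AlgSp.yon S).obj T ⟶ (Φ g).obj G) :
    theta g T' G ((AlgSp.yon S).map t ≫ b) =
      (AlgSp.yon S').map ((Over.map g).map t) ≫ theta g T G b := by
  show (yEquiv _ G).symm (yEquiv T' ((Φ g).obj G) ((AlgSp.yon S).map t ≫ b)) =
    (AlgSp.yon S').map ((Over.map g).map t) ≫ (yEquiv _ G).symm (yEquiv T ((Φ g).obj G) b)
  rw [← map_yEquiv, ← yEquiv_symm_map]
  rfl

/-- restriction preserves relative representability with a property. -/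
theorem repWith_map (P : MorphismProperty Scheme.{u}) [P.RespectsIso] {F G : AlgSp.Sp S'}
    (f : F ⟶ G) (hf : AlgSp.RepWith P f) : AlgSp.RepWith P ((Φ g).map f) := by
  have : (P.inverseImage (Over.forget S)).RespectsIso := RespectsIso.inverseImage P _
  apply MorphismProperty.relative.of_exists
  intro T ξ
  -- the corresponding map over `S'`
  let ξ' := theta g T G ξ
  let V' : Over S' := hf.rep.pullback ξ'
  let fst' : (AlgSp.yon S').obj V' ⟶ F := hf.rep.fst ξ'
  let snd' : V' ⟶ (Over.map g).obj T := hf.rep.snd ξ'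
  have sq' : IsPullback fst' ((AlgSp.yon S').map snd') f ξ' := hf.rep.isPullback ξ'
  have hP : P snd'.left := hf.property_snd ξ'
  let V : Over S := Over.mk (snd'.left ≫ T.hom)
  have hV' : V'.hom = snd'.left ≫ T.hom ≫ g := by
    have := Over.w snd'
    simpa using this.symm
  let e : (Over.map g).obj V ≅ V' := Over.isoMk (Iso.refl _) (by
    show 𝟙 _ ≫ V'.hom = (snd'.left ≫ T.hom) ≫ g
    rw [Category.id_comp, hV', Category.assoc])
  let snd : V ⟶ T := Over.homMk snd'.left rfl
  have he : e.hom ≫ snd' = (Over.map g).map snd := by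
    apply Over.OverMorphism.ext
    show 𝟙 _ ≫ snd'.left = snd'.left
    exact Category.id_comp _
  let fst : (AlgSp.yon S).obj V ⟶ (Φ g).obj F :=
    (theta g V F).symm ((AlgSp.yon S').map e.hom ≫ fst')
  have hfst : theta g V F fst = (AlgSp.yon S').map e.hom ≫ fst' := Equiv.apply_symm_apply _ _
  refine ⟨V, fst, snd, ?_, hP⟩
  have w : fst ≫ (Φ g).map f = (AlgSp.yon S).map snd ≫ ξ := by
    apply (theta g V G).injective
    rw [theta_comp, theta_map_comp, hfst, Category.assoc, sq'.w, ← Category.assoc,
      ← CategoryTheory.Functor.map_comp, he]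
  apply isPullback_of_yon w
  intro W b c hbc
  obtain ⟨t, rfl⟩ := (AlgSp.yon S).map_surjective c
  -- transport to `S'`
  have hbc' : theta g W F b ≫ f = (AlgSp.yon S').map ((Over.map g).map t) ≫ ξ' := by
    rw [← theta_comp, hbc, theta_map_comp]
  obtain ⟨a', ha'1, ha'2⟩ := sq'.exists_lift _ _ hbc'
  obtain ⟨v, rfl⟩ := (AlgSp.yon S').map_surjective a'
  have hv : v ≫ snd' = (Over.map g).map t := by
    apply (AlgSp.yon S').map_injective
    rw [CategoryTheory.Functor.map_comp]
    exact ha'2
  have hvl : v.left ≫ snd'.left = t.left := by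
    have := congrArg (fun m => m.left) hv
    simpa using this
  let a : W ⟶ V := Over.homMk v.left (by
    show v.left ≫ snd'.left ≫ T.hom = W.hom
    rw [← Category.assoc, hvl]
    exact Over.w t)
  have hae : (Over.map g).map a ≫ e.hom = v := by
    apply Over.OverMorphism.ext
    show v.left ≫ 𝟙 _ = v.left
    exact Category.comp_id _
  refine ⟨(AlgSp.yon S).map a, ⟨?_, ?_⟩, ?_⟩
  · apply (theta g W F).injective
    rw [theta_map_comp, hfst, ← Category.assoc, ← CategoryTheory.Functor.map_comp, hae]
    exact ha'1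
  · rw [← CategoryTheory.Functor.map_comp]
    congr 1
    apply Over.OverMorphism.ext
    exact hvl
  · intro a₂ ⟨h1, h2⟩
    obtain ⟨w₂, rfl⟩ := (AlgSp.yon S).map_surjective a₂
    have h2' : w₂ ≫ snd = t := (AlgSp.yon S).map_injective (by
      rw [CategoryTheory.Functor.map_comp]; exact h2)
    have key : (AlgSp.yon S').map ((Over.map g).map w₂ ≫ e.hom) = (AlgSp.yon S').map v := by
      apply sq'.hom_ext
      · rw [CategoryTheory.Functor.map_comp, Category.assoc, ← hfst, ← theta_map_comp, h1]
        exact ha'1.symm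
      · rw [← CategoryTheory.Functor.map_comp, ← CategoryTheory.Functor.map_comp, Category.assoc,
          he, ← CategoryTheory.Functor.map_comp, h2', hv]
    have key' := (AlgSp.yon S').map_injective key
    congr 1
    apply Over.OverMorphism.ext
    have h3 : ((Over.map g).map w₂ ≫ e.hom).left = v.left := congrArg (fun m => m.left) key'
    have h4 : w₂.left ≫ 𝟙 _ = v.left := h3
    rw [Category.comp_id] at h4
    exact h4

/-- `j⁻¹ h_{X'}` is represented by `X' ×_{S'} S`. -/
noncomputable def repBy (X' : Over S') :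
    ((Φ g).obj ((AlgSp.yon S').obj X')).obj.RepresentableBy ((Over.pullback g).obj X') where
  homEquiv {T} := ((Over.mapPullbackAdj g).homEquiv T X').symm.trans Equiv.ulift.symm
  homEquiv_comp {T T'} f x := by
    show ULift.up (((Over.mapPullbackAdj g).homEquiv T X').symm (f ≫ x)) =
      ULift.up ((Over.map g).map f ≫ ((Over.mapPullbackAdj g).homEquiv T' X').symm x)
    rw [Adjunction.homEquiv_naturality_left_symm]

/-- the resulting isomorphism of sheaves. -/
noncomputable def repIso (X' : Over S') :
    (AlgSp.yon S).obj ((Over.pullback g).obj X') ≅ (Φ g).obj ((AlgSp.yon S').obj X') :=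
  (fullyFaithfulSheafToPresheaf _ _).preimageIso
    (Functor.RepresentableBy.equivUliftYonedaIso.{u + 1} _ _ (repBy g X'))

instance : PreservesLimitsOfSize.{0, 0} (Φ g) :=
  (Adjunction.ofIsRightAdjoint (Φ g)).rightAdjoint_preservesLimits

lemma diag_map (F : AlgSp.Sp S') :
    Limits.diag ((Φ g).obj F) = (Φ g).map (Limits.diag F) ≫ prodComparison (Φ g) F F := by
  apply Limits.prod.hom_ext
  · rw [Category.assoc, prodComparison_fst, ← CategoryTheory.Functor.map_comp,
      Limits.prod.lift_fst, Limits.prod.lift_fst]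
    exact ((Φ g).map_id F).symm
  · rw [Category.assoc, prodComparison_snd, ← CategoryTheory.Functor.map_comp,
      Limits.prod.lift_snd, Limits.prod.lift_snd]
    exact ((Φ g).map_id F).symm

theorem isAlgSpace_map {F : AlgSp.Sp S'} (hF : AlgSp.IsAlgSpace F) :
    AlgSp.IsAlgSpace ((Φ g).obj F) where
  diag := by
    rw [diag_map]
    apply MorphismProperty.RespectsIso.postcomp
    exact (repWith_map g ⊤ _ ⟨hF.diag, fun _ _ _ _ _ _ => trivial⟩).rep
  atlas := by
    obtain ⟨U', p', h1, h2⟩ := hF.atlas
    refine ⟨(Over.pullback g).obj U', (repIso g U').hom ≫ (Φ g).map p', ?_, ?_⟩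
    · exact MorphismProperty.RespectsIso.precomp _ _ _ (repWith_map g _ _ h1)
    · exact MorphismProperty.RespectsIso.precomp _ _ _ (repWith_map g _ _ h2)

/-- Let `g : S ⟶ S'` be a morphism of schemes and `j⁻¹` the restriction functor from fppf sheaves of
sets on schemes over `S'` to fppf sheaves of sets on schemes over `S` (along `Over.map g`). Then for
a scheme `X'` over `S'`, `j⁻¹ h_{X'}` is representable by `X' ×_{S'} S` viewed over `S` through the
second projection (stated as existence of a representation by that scheme), and for an algebraic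
space `F'` over `S'`, `j⁻¹ F'` is an algebraic space over `S`. (The clause about presentations is
not included.) -/
theorem result {S S' : Scheme.{u}} (g : S ⟶ S') :
    (∀ X' : Over S', Nonempty (((Scheme.fppfTopology.overMapPullback (Type (u + 1)) g).obj ((AlgSp.yon S').obj X')).obj.RepresentableBy
      (Over.mk (pullback.snd X'.hom g)))) ∧
      (∀ F' : AlgSp.Space S', AlgSp.IsAlgSpace ((Scheme.fppfTopology.overMapPullback (Type (u + 1)) g).obj F'.obj)) := by
  exact ⟨fun X' => ⟨repBy g X'⟩, fun F' => isAlgSpace_map g F'.property⟩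

end Groth.Agent.S9897
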