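import Groth.Statements.S9893
import Mathlib
import Groth.Agent.S9897
import Groth.Agent.S9874

set_option autoImplicit false
universe u
open CategoryTheory CategoryTheory.Limits AlgebraicGeometry
open AlgSp

namespace Groth.Agent.S9893

open Opposite MorphismProperty Groth.Agent.S13210 Groth.Agent.Lib.Helper12.OpenSub
  Groth.Agent.Lib.Helper12.ZarGlue Groth.Agent.S9897

variable {S S' : Scheme.{u}} (g : S ⟶ S')

/-- the structure map of `T/S'` to `S/S'`. -/
noncomputable def tau (T : Over S) : (Over.map g).obj T ⟶ Over.mk g := Over.homMk T.hom rfl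

/-- the map `h_{U/S'} ⟶ h_S × F'` attached to `h_U ⟶ j⁻¹F'`. -/
noncomputable def lam {F' : AlgSp.Sp S'} {U : Over S} (p : (AlgSp.yon S).obj U ⟶ (Φ g).obj F') :
    (AlgSp.yon S').obj ((Over.map g).obj U) ⟶ (AlgSp.yon S').obj (Over.mk g) ⨯ F' :=
  prod.lift ((AlgSp.yon S').map (tau g U)) (theta g U F' p)

/-- the reverse transfer of relative representability. -/
theorem repWith_lam (P : MorphismProperty Scheme.{u}) [P.RespectsIso] {F' : AlgSp.Sp S'}
    {U : Over S} (p : (AlgSp.yon S).obj U ⟶ (Φ g).obj F') (hp : AlgSp.RepWith P p) :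
    AlgSp.RepWith P (lam g p) := by
  have : (P.inverseImage (Over.forget S')).RespectsIso := RespectsIso.inverseImage P _
  apply MorphismProperty.relative.of_exists
  intro T' ξ'
  obtain ⟨t', ht'⟩ := (AlgSp.yon S').map_surjective (ξ' ≫ prod.fst)
  let T : Over S := Over.mk t'.left
  let ι : (Over.map g).obj T ≅ T' := Over.isoMk (Iso.refl _) (by
    show 𝟙 _ ≫ T'.hom = t'.left ≫ g
    rw [Category.id_comp]
    exact (Over.w t').symm)
  let ξ : (AlgSp.yon S).obj T ⟶ (Φ g).obj F' :=
    (theta g T F').symm ((AlgSp.yon S').map ι.hom ≫ ξ' ≫ prod.snd)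
  have hξ : theta g T F' ξ = (AlgSp.yon S').map ι.hom ≫ ξ' ≫ prod.snd :=
    Equiv.apply_symm_apply _ _
  have hιt : ι.hom ≫ t' = tau g T := by
    apply Over.OverMorphism.ext
    show 𝟙 _ ≫ t'.left = t'.left
    exact Category.id_comp _
  let V : Over S := hp.rep.pullback ξ
  obtain ⟨u, hu⟩ := (AlgSp.yon S).map_surjective (hp.rep.fst ξ)
  let snd₀ : V ⟶ T := hp.rep.snd ξ
  have sq : IsPullback ((AlgSp.yon S).map u) ((AlgSp.yon S).map snd₀) p ξ := by
    rw [hu]; exact hp.rep.isPullback ξ
  have hP : P snd₀.left := hp.property_snd ξ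
  refine ⟨(Over.map g).obj V, (AlgSp.yon S').map ((Over.map g).map u),
    (Over.map g).map snd₀ ≫ ι.hom, ?_, ?_⟩
  swap
  · show P (snd₀.left ≫ 𝟙 _)
    rw [Category.comp_id]; exact hP
  have w : (AlgSp.yon S').map ((Over.map g).map u) ≫ lam g p =
      (AlgSp.yon S').map ((Over.map g).map snd₀ ≫ ι.hom) ≫ ξ' := by
    apply Limits.prod.hom_ext
    · rw [Category.assoc, Category.assoc, lam, prod.lift_fst, ← ht',
        ← CategoryTheory.Functor.map_comp, ← CategoryTheory.Functor.map_comp]
      congr 1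
      rw [Category.assoc, hιt]
      apply Over.OverMorphism.ext
      show u.left ≫ U.hom = snd₀.left ≫ t'.left
      rw [Over.w u]
      exact (Over.w snd₀).symm
    · rw [Category.assoc, Category.assoc, lam, prod.lift_snd, ← theta_map_comp, sq.w,
        theta_map_comp, hξ, CategoryTheory.Functor.map_comp, Category.assoc]
  apply isPullback_of_yon w
  intro W' b c hbc
  obtain ⟨β, rfl⟩ := (AlgSp.yon S').map_surjective b
  obtain ⟨γ, rfl⟩ := (AlgSp.yon S').map_surjective c
  have h1 : β ≫ tau g U = γ ≫ t' := by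
    apply (AlgSp.yon S').map_injective
    have := congrArg (fun m => m ≫ prod.fst) hbc
    simp only [Category.assoc, lam, prod.lift_fst] at this
    rw [CategoryTheory.Functor.map_comp, CategoryTheory.Functor.map_comp, ht']
    exact this
  have h2 : (AlgSp.yon S').map β ≫ theta g U F' p = (AlgSp.yon S').map γ ≫ ξ' ≫ prod.snd := by
    have := congrArg (fun m => m ≫ prod.snd) hbc
    simpa only [Category.assoc, lam, prod.lift_snd] using this
  have h1l : β.left ≫ U.hom = γ.left ≫ t'.left := congrArg (fun m => m.left) h1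
  let W : Over S := Over.mk (β.left ≫ U.hom)
  let κ : (Over.map g).obj W ≅ W' := Over.isoMk (Iso.refl _) (by
    show 𝟙 _ ≫ W'.hom = (β.left ≫ U.hom) ≫ g
    rw [Category.id_comp, Category.assoc]
    exact (Over.w β).symm)
  let β₀ : W ⟶ U := Over.homMk β.left rfl
  let γ₀ : W ⟶ T := Over.homMk γ.left h1l.symm
  have hβ : (Over.map g).map β₀ = κ.hom ≫ β := by
    apply Over.OverMorphism.ext
    show β.left = 𝟙 _ ≫ β.left
    exact (Category.id_comp _).symm
  have hγ : (Over.map g).map γ₀ ≫ ι.hom = κ.hom ≫ γ := by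
    apply Over.OverMorphism.ext
    show γ.left ≫ 𝟙 _ = 𝟙 _ ≫ γ.left
    rw [Category.comp_id, Category.id_comp]
  have h3 : (AlgSp.yon S).map β₀ ≫ p = (AlgSp.yon S).map γ₀ ≫ ξ := by
    apply (theta g W F').injective
    rw [theta_map_comp, theta_map_comp, hξ, hβ, CategoryTheory.Functor.map_comp, Category.assoc,
      h2, ← Category.assoc ((AlgSp.yon S').map ((Over.map g).map γ₀)),
      ← CategoryTheory.Functor.map_comp, hγ, CategoryTheory.Functor.map_comp, Category.assoc]
  obtain ⟨a', ha'1, ha'2⟩ := sq.exists_lift _ _ h3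
  obtain ⟨a₀, rfl⟩ := (AlgSp.yon S).map_surjective a'
  have ha1 : a₀ ≫ u = β₀ := (AlgSp.yon S).map_injective (by
    rw [CategoryTheory.Functor.map_comp]; exact ha'1)
  have ha2 : a₀ ≫ snd₀ = γ₀ := (AlgSp.yon S).map_injective (by
    rw [CategoryTheory.Functor.map_comp]; exact ha'2)
  refine ⟨(AlgSp.yon S').map (κ.inv ≫ (Over.map g).map a₀), ⟨?_, ?_⟩, ?_⟩
  · rw [← CategoryTheory.Functor.map_comp, Category.assoc, ← CategoryTheory.Functor.map_comp, ha1,
      hβ, Iso.inv_hom_id_assoc]
  · rw [← CategoryTheory.Functor.map_comp, Category.assoc, ← Category.assoc ((Over.map g).map a₀),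
      ← CategoryTheory.Functor.map_comp, ha2, hγ, Iso.inv_hom_id_assoc]
  · intro a₂ ⟨e1, e2⟩
    obtain ⟨α, rfl⟩ := (AlgSp.yon S').map_surjective a₂
    have e1' : α ≫ (Over.map g).map u = β := (AlgSp.yon S').map_injective (by
      rw [CategoryTheory.Functor.map_comp]; exact e1)
    have e2' : α ≫ (Over.map g).map snd₀ ≫ ι.hom = γ := (AlgSp.yon S').map_injective (by
      rw [CategoryTheory.Functor.map_comp]; exact e2)
    have e1l : α.left ≫ u.left = β.left := congrArg (fun m => m.left) e1'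
    have e2l : α.left ≫ snd₀.left ≫ 𝟙 _ = γ.left := congrArg (fun m => m.left) e2'
    rw [Category.comp_id] at e2l
    let α₀ : W ⟶ V := Over.homMk α.left (by
      show α.left ≫ V.hom = β.left ≫ U.hom
      rw [← e1l, Category.assoc, Over.w u])
    have k1 : α₀ ≫ u = β₀ := by
      apply Over.OverMorphism.ext; exact e1l
    have k2 : α₀ ≫ snd₀ = γ₀ := by
      apply Over.OverMorphism.ext; exact e2l
    have key : (AlgSp.yon S).map α₀ = (AlgSp.yon S).map a₀ := by
      apply sq.hom_ext
      · rw [← CategoryTheory.Functor.map_comp, ← CategoryTheory.Functor.map_comp, k1, ha1]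
      · rw [← CategoryTheory.Functor.map_comp, ← CategoryTheory.Functor.map_comp, k2, ha2]
    have key' := (AlgSp.yon S).map_injective key
    congr 1
    apply Over.OverMorphism.ext
    show α.left = 𝟙 _ ≫ a₀.left
    rw [Category.id_comp]
    exact congrArg (fun m => m.left) key'

/-- every map from a representable to `h_S × F'` is, up to an isomorphism, of the form `lam`. -/
lemma exists_eq_lam {F' : AlgSp.Sp S'} {T' : Over S'}
    (ξ' : (AlgSp.yon S').obj T' ⟶ (AlgSp.yon S').obj (Over.mk g) ⨯ F') :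
    ∃ (T : Over S) (ι : T' ≅ (Over.map g).obj T) (ξ : (AlgSp.yon S).obj T ⟶ (Φ g).obj F'),
      ξ' = (AlgSp.yon S').map ι.hom ≫ lam g ξ := by
  obtain ⟨t', ht'⟩ := (AlgSp.yon S').map_surjective (ξ' ≫ prod.fst)
  let T : Over S := Over.mk t'.left
  let ι : (Over.map g).obj T ≅ T' := Over.isoMk (Iso.refl _) (by
    show 𝟙 _ ≫ T'.hom = t'.left ≫ g
    rw [Category.id_comp]
    exact (Over.w t').symm)
  refine ⟨T, ι.symm, (theta g T F').symm ((AlgSp.yon S').map ι.hom ≫ ξ' ≫ prod.snd), ?_⟩
  apply Limits.prod.hom_ext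
  · rw [Category.assoc, lam, prod.lift_fst, ← ht', ← CategoryTheory.Functor.map_comp]
    congr 1
  · rw [Category.assoc, lam, prod.lift_snd, Equiv.apply_symm_apply, ← Category.assoc,
      ← CategoryTheory.Functor.map_comp, Iso.symm_hom, Iso.inv_hom_id,
      CategoryTheory.Functor.map_id, Category.id_comp]

theorem isAlgSpace_prod_of {F' : AlgSp.Sp S'} (h : AlgSp.IsAlgSpace ((Φ g).obj F')) :
    AlgSp.IsAlgSpace ((AlgSp.yon S').obj (Over.mk g) ⨯ F') where
  diag := by
    apply Functor.relativelyRepresentable.diag_of_map_from_obj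
    intro T' ξ'
    obtain ⟨T, ι, ξ, rfl⟩ := exists_eq_lam g ξ'
    exact MorphismProperty.RespectsIso.precomp _ _ _
      (repWith_lam g ⊤ ξ ⟨h.representable_from_yon ξ, fun _ _ _ _ _ _ => trivial⟩).rep
  atlas := by
    obtain ⟨U, p, h1, h2⟩ := h.atlas
    exact ⟨(Over.map g).obj U, lam g p, repWith_lam g _ p h1, repWith_lam g _ p h2⟩

/-- the canonical section of `j⁻¹ h_S`. -/
noncomputable def delta :
    (AlgSp.yon S).obj (Over.mk (𝟙 S)) ⟶ (Φ g).obj ((AlgSp.yon S').obj (Over.mk g)) :=
  (theta g _ _).symm ((AlgSp.yon S').map (tau g (Over.mk (𝟙 S))))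

theorem isAlgSpace_of_prod {F' : AlgSp.Sp S'}
    (h : AlgSp.IsAlgSpace ((AlgSp.yon S').obj (Over.mk g) ⨯ F')) :
    AlgSp.IsAlgSpace ((Φ g).obj F') := by
  have hX : IsTerminal ((AlgSp.yon S).obj (Over.mk (𝟙 S))) :=
    IsTerminal.isTerminalObj (AlgSp.yon S) _ Over.mkIdTerminal
  let pc := prodComparison (Φ g) ((AlgSp.yon S').obj (Over.mk g)) F'
  let a : (Φ g).obj F' ⟶ (Φ g).obj ((AlgSp.yon S').obj (Over.mk g) ⨯ F') :=
    prod.lift (hX.from _ ≫ delta g) (𝟙 _) ≫ inv pc
  have hpc1 : inv pc ≫ (Φ g).map prod.fst = prod.fst := by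
    rw [IsIso.inv_comp_eq]; exact (prodComparison_fst _ _ _).symm
  have hpc2 : inv pc ≫ (Φ g).map prod.snd = prod.snd := by
    rw [IsIso.inv_comp_eq]; exact (prodComparison_snd _ _ _).symm
  have ha1 : a ≫ (Φ g).map prod.fst = hX.from _ ≫ delta g := by
    rw [Category.assoc, hpc1, prod.lift_fst]
  have ha2 : a ≫ (Φ g).map prod.snd = 𝟙 _ := by
    rw [Category.assoc, hpc2, prod.lift_snd]
  have hapc : a ≫ pc = prod.lift (hX.from _ ≫ delta g) (𝟙 _) := by
    show (prod.lift (hX.from _ ≫ delta g) (𝟙 _) ≫ inv pc) ≫ pc = _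
    rw [Category.assoc, IsIso.inv_hom_id, Category.comp_id]
  have sq : IsPullback a (hX.from _) ((Φ g).map prod.fst) (delta g) := by
    refine IsPullback.of_isLimit (PullbackCone.IsLimit.mk ha1
      (fun s => s.fst ≫ (Φ g).map prod.snd) ?_ ?_ ?_)
    · intro s
      rw [← cancel_mono pc, Category.assoc, hapc]
      apply Limits.prod.hom_ext
      · have e1 : (s.fst ≫ pc) ≫ prod.fst = s.snd ≫ delta g := by
          rw [Category.assoc]
          exact (congrArg (fun m => s.fst ≫ m) (prodComparison_fst _ _ _)).trans s.condition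
        rw [Category.assoc, prod.lift_fst, e1, ← Category.assoc]
        congr 1
        exact hX.hom_ext _ _
      · have e2 : (s.fst ≫ pc) ≫ prod.snd = s.fst ≫ (Φ g).map prod.snd := by
          rw [Category.assoc]
          exact congrArg (fun m => s.fst ≫ m) (prodComparison_snd _ _ _)
        rw [Category.assoc, prod.lift_snd, e2, Category.comp_id]
    · intro s
      exact hX.hom_ext _ _
    · intro s m hm1 _
      rw [← hm1, Category.assoc, ha2, Category.comp_id]
  exact Groth.Agent.S9874.isAlgSpace_of_isPullback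
    (isAlgSpace_map g (AlgSp.IsAlgSpace.yon_obj _)).diag (isAlgSpace_map g h)
    (AlgSp.IsAlgSpace.yon_obj _) sq

/-- Let `g : S ⟶ S'` be a morphism of schemes and `F'` an fppf sheaf of sets on schemes over `S'`. Then
the restriction of `F'` to schemes over `S` (a scheme over `S` being viewed over `S'` through `g`)
is an algebraic space over `S` if and only if `h_S × F'` is an algebraic space over `S'`, where
`h_S` is the sheaf represented by `S` as a scheme over `S'`. -/
theorem result {S S' : Scheme.{u}} (g : S ⟶ S') (F' : AlgSp.Sp S') :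
    AlgSp.IsAlgSpace ((Scheme.fppfTopology.overMapPullback (Type (u + 1)) g).obj F') ↔
      AlgSp.IsAlgSpace ((AlgSp.yon S').obj (Over.mk g) ⨯ F') := by
  exact ⟨isAlgSpace_prod_of g, isAlgSpace_of_prod g⟩

end Groth.Agent.S9893
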