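import Groth.Statements.S9964
import Mathlib
import Groth.Agent.S10129
import Groth.Agent.S9928
import Groth.Agent.Lib.H5bShriek

set_option autoImplicit false
universe u
open CategoryTheory CategoryTheory.Limits AlgebraicGeometry
open AlgSp

namespace Groth.Agent.S9964

open Opposite Groth.Agent.S13210 Groth.Agent.Lib.H5bShriek

variable {S : Scheme.{u}}

lemma app_injective_of_mono {A B : AlgSp.Sp S} (i : A ⟶ B) [Mono i] (T : Over S) :
    Function.Injective (i.hom.app (op T)) := by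
  intro z₁ z₂ h
  have h1 : (yEquiv T A).symm z₁ ≫ i = (yEquiv T A).symm z₂ ≫ i := by
    rw [yEquiv_symm_comp, yEquiv_symm_comp, h]
  exact (yEquiv T A).symm.injective ((cancel_mono i).1 h1)

/-- closed subspaces through which `f` factors. -/
structure Cl {F G : AlgSp.Sp S} (f : F ⟶ G) where
  /-- the subspace -/
  Z : AlgSp.Sp S
  /-- the inclusion -/
  i : Z ⟶ G
  hZ : AlgSp.IsAlgSpace Z
  hi : AlgSp.RepWith @IsClosedImmersion i
  fac : ∃ f' : F ⟶ Z, f' ≫ i = f

section

variable {F G : AlgSp.Sp S} (f : F ⟶ G)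

lemma Cl.mono (c : Cl f) : Mono c.i := by
  refine Groth.Agent.S9928.mono_of_repWith @IsClosedImmersion ?_ c.i c.hi
  intro X Y g hg
  haveI : IsClosedImmersion g := hg
  infer_instance

/-- the intersection of all closed subspaces through which `f` factors. -/
def imSub : Subfunctor G.obj where
  obj T := {y | ∀ c : Cl f, y ∈ Set.range (c.i.hom.app T)}
  map := by
    intro T T₂ φ y hy c
    obtain ⟨z, rfl⟩ := hy c
    exact ⟨c.Z.obj.map φ z, NatTrans.naturality_apply c.i.hom φ z⟩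

lemma imSub_isSheaf : Presheaf.IsSheaf (AlgSp.J S) (imSub f).toFunctor := by
  have hsh : Presieve.IsSheaf (AlgSp.J S) G.obj := (isSheaf_iff_isSheaf_of_type _ _).1 G.property
  rw [isSheaf_iff_isSheaf_of_type, Subfunctor.isSheaf_iff _ hsh]
  rintro ⟨T⟩ s hmem c
  have hZsh : Presieve.IsSheaf (AlgSp.J S) c.Z.obj :=
    (isSheaf_iff_isSheaf_of_type _ _).1 c.Z.property
  haveI : Mono c.i := c.mono
  have hex : ∀ ⦃V : Over S⦄ (φ : V ⟶ T), (imSub f).sieveOfSection s φ →
      ∃ z : c.Z.obj.obj (op V), c.i.hom.app (op V) z = G.obj.map φ.op s := fun V φ hφ => hφ c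
  choose z hz using hex
  let x : Presieve.FamilyOfElements c.Z.obj ((imSub f).sieveOfSection s).arrows :=
    fun V φ hφ => z φ hφ
  have hx : x.Compatible := by
    intro Y₁ Y₂ W g₁ g₂ f₁ f₂ h₁ h₂ e
    apply app_injective_of_mono c.i
    show c.i.hom.app _ (c.Z.obj.map g₁.op (z f₁ h₁)) = c.i.hom.app _ (c.Z.obj.map g₂.op (z f₂ h₂))
    rw [NatTrans.naturality_apply, NatTrans.naturality_apply, hz, hz, mc, mc, e]
  obtain ⟨w, hw, -⟩ := hZsh _ hmem x hx
  refine ⟨w, ?_⟩
  refine (hsh.isSeparated _ hmem).ext ?_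
  intro V φ hφ
  rw [← NatTrans.naturality_apply, hw φ hφ]
  exact hz φ hφ

/-- the scheme theoretic image as a sheaf. -/
noncomputable def Zsh : AlgSp.Sp S := ⟨(imSub f).toFunctor, imSub_isSheaf f⟩

/-- the inclusion. -/
noncomputable def incl : Zsh f ⟶ G := ObjectProperty.homMk (imSub f).ι

instance : Mono (incl f) := by
  haveI : Mono (incl f).hom := inferInstanceAs (Mono (imSub f).ι)
  exact Sheaf.Hom.mono_of_presheaf_mono _ _ _

lemma mem_imSub_iff {T : Over S} (ξ : (AlgSp.yon S).obj T ⟶ G) :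
    yEquiv T G ξ ∈ (imSub f).obj (op T) ↔
      ∀ c : Cl f, ∃ ζ : (AlgSp.yon S).obj T ⟶ c.Z, ζ ≫ c.i = ξ := by
  constructor
  · intro h c
    obtain ⟨z, hz⟩ := h c
    refine ⟨(yEquiv T c.Z).symm z, ?_⟩
    rw [yEquiv_symm_comp, hz, Equiv.symm_apply_apply]
  · intro h c
    obtain ⟨ζ, hζ⟩ := h c
    exact ⟨yEquiv T c.Z ζ, by rw [← yEquiv_comp, hζ]⟩

lemma factor_iff {T : Over S} (ξ : (AlgSp.yon S).obj T ⟶ G) :
    (∃ a : (AlgSp.yon S).obj T ⟶ Zsh f, a ≫ incl f = ξ) ↔
      yEquiv T G ξ ∈ (imSub f).obj (op T) := by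
  constructor
  · rintro ⟨a, rfl⟩
    rw [yEquiv_comp]
    exact (yEquiv T (Zsh f) a).2
  · intro h
    refine ⟨(yEquiv T (Zsh f)).symm ⟨yEquiv T G ξ, h⟩, ?_⟩
    rw [yEquiv_symm_comp]
    apply (yEquiv T G).injective
    rw [Equiv.apply_symm_apply]
    rfl

theorem repWith_incl : AlgSp.RepWith @IsClosedImmersion (incl f) := by
  apply MorphismProperty.relative.of_exists
  intro T ξ
  -- the closed subschemes of `T`
  let Tc : Cl f → Over S := fun c => c.hi.rep.pullback ξ
  let sndc : ∀ c : Cl f, Tc c ⟶ T := fun c => c.hi.rep.snd ξ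
  let fstc : ∀ c : Cl f, (AlgSp.yon S).obj (Tc c) ⟶ c.Z := fun c => c.hi.rep.fst ξ
  have sqc : ∀ c : Cl f, IsPullback (fstc c) ((AlgSp.yon S).map (sndc c)) c.i ξ :=
    fun c => c.hi.rep.isPullback ξ
  have hcl : ∀ c : Cl f, IsClosedImmersion (sndc c).left := fun c => c.hi.property_snd ξ
  let I : T.left.IdealSheafData := ⨆ c : Cl f, (sndc c).left.ker
  let V : Over S := Over.mk (I.subschemeι ≫ T.hom)
  let snd : V ⟶ T := Over.homMk I.subschemeι rfl
  -- `V ⟶ T ⟶ G` factors through the image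
  have hV : yEquiv V G ((AlgSp.yon S).map snd ≫ ξ) ∈ (imSub f).obj (op V) := by
    rw [mem_imSub_iff]
    intro c
    haveI := hcl c
    have hle : (sndc c).left.ker ≤ I.subschemeι.ker := by
      rw [Scheme.IdealSheafData.ker_subschemeι]
      exact le_iSup (fun c : Cl f => (sndc c).left.ker) c
    let l : V.left ⟶ (Tc c).left := IsClosedImmersion.lift (sndc c).left I.subschemeι hle
    have hl : l ≫ (sndc c).left = I.subschemeι := IsClosedImmersion.lift_fac _ _ hle
    let l' : V ⟶ Tc c := Over.homMk l (by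
      show l ≫ (Tc c).hom = I.subschemeι ≫ T.hom
      rw [← hl, Category.assoc, Over.w (sndc c)])
    have hl' : l' ≫ sndc c = snd := Over.OverMorphism.ext hl
    refine ⟨(AlgSp.yon S).map l' ≫ fstc c, ?_⟩
    rw [Category.assoc, (sqc c).w, ← Category.assoc, ← CategoryTheory.Functor.map_comp, hl']
  obtain ⟨fst, hfst⟩ := (factor_iff f _).2 hV
  refine ⟨V, fst, snd, ?_, ?_⟩
  swap
  · show IsClosedImmersion I.subschemeι
    infer_instance
  apply isPullback_of_yon hfst
  intro W b c' hbc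
  obtain ⟨γ, rfl⟩ := (AlgSp.yon S).map_surjective c'
  have hW : yEquiv W G ((AlgSp.yon S).map γ ≫ ξ) ∈ (imSub f).obj (op W) := by
    rw [← hbc]
    exact (factor_iff f _).1 ⟨b, rfl⟩
  rw [mem_imSub_iff] at hW
  have hIle : I ≤ γ.left.ker := by
    apply iSup_le
    intro c
    obtain ⟨ζ, hζ⟩ := hW c
    obtain ⟨δ, hδ⟩ := (AlgSp.yon S).map_surjective ((sqc c).lift ζ ((AlgSp.yon S).map γ) hζ)
    have h1 : δ ≫ sndc c = γ := by
      apply (AlgSp.yon S).map_injective
      rw [CategoryTheory.Functor.map_comp, hδ, (sqc c).lift_snd]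
    have h2 : δ.left ≫ (sndc c).left = γ.left := congrArg (fun m => m.left) h1
    rw [← h2]
    exact Scheme.Hom.le_ker_comp _ _
  have hle : I.subschemeι.ker ≤ γ.left.ker := by
    rw [Scheme.IdealSheafData.ker_subschemeι]
    exact hIle
  let a₀ : W.left ⟶ V.left := IsClosedImmersion.lift I.subschemeι γ.left hle
  have ha₀ : a₀ ≫ I.subschemeι = γ.left := IsClosedImmersion.lift_fac _ _ hle
  let a : W ⟶ V := Over.homMk a₀ (by
    show a₀ ≫ I.subschemeι ≫ T.hom = W.hom
    rw [← Category.assoc, ha₀]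
    exact Over.w γ)
  have ha : a ≫ snd = γ := Over.OverMorphism.ext ha₀
  refine ⟨(AlgSp.yon S).map a, ⟨?_, ?_⟩, ?_⟩
  · rw [← cancel_mono (incl f), Category.assoc, hfst, ← Category.assoc,
      ← CategoryTheory.Functor.map_comp, ha, hbc]
  · rw [← CategoryTheory.Functor.map_comp, ha]
  · intro a₂ ⟨_, e2⟩
    obtain ⟨α, rfl⟩ := (AlgSp.yon S).map_surjective a₂
    have e2' : α ≫ snd = γ := (AlgSp.yon S).map_injective (by
      rw [CategoryTheory.Functor.map_comp]; exact e2)
    have e2l : α.left ≫ I.subschemeι = γ.left := congrArg (fun m => m.left) e2'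
    congr 1
    apply Over.OverMorphism.ext
    show α.left = a₀
    rw [← cancel_mono I.subschemeι, e2l, ha₀]

lemma range_le : Subfunctor.range f.hom ≤ imSub f := by
  rintro T _ ⟨x, rfl⟩ c
  obtain ⟨f', hf'⟩ := c.fac
  exact ⟨f'.hom.app T x, congrArg (fun m : F ⟶ G => m.hom.app T x) hf'⟩

/-- the factorisation of `f`. -/
noncomputable def toZsh : F ⟶ Zsh f :=
  ObjectProperty.homMk (Subfunctor.lift f.hom (range_le f))

lemma toZsh_incl : toZsh f ≫ incl f = f := rfl

/-- minimality. -/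
lemma exists_factor (c : Cl f) : ∃ k : Zsh f ⟶ c.Z, k ≫ c.i = incl f := by
  haveI : Mono c.i := c.mono
  have hex : ∀ (T : (Over S)ᵒᵖ) (z : (imSub f).toFunctor.obj T),
      ∃ w : c.Z.obj.obj T, c.i.hom.app T w = z.1 := fun T z => z.2 c
  choose k hk using hex
  refine ⟨ObjectProperty.homMk { app := fun T => ↾fun z => k T z, naturality := ?_ }, ?_⟩
  · intro T T₂ φ
    ext z : 3
    obtain ⟨T⟩ := T
    obtain ⟨T₂⟩ := T₂
    apply app_injective_of_mono c.i T₂
    show c.i.hom.app _ (k _ ((imSub f).toFunctor.map φ z)) = c.i.hom.app _ (c.Z.obj.map φ (k _ z))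
    rw [hk, NatTrans.naturality_apply, hk]
    rfl
  · apply ObjectProperty.hom_ext
    ext T z
    exact hk T z

end

/-- Every morphism of algebraic spaces has a scheme theoretic image, a smallest closed subspace of the
target through which it factors. -/
theorem result {S : Scheme.{u}} {X Y : AlgSp.Space S} (f : X ⟶ Y) :
    ∃ (Z : AlgSp.Space S) (i : Z ⟶ Y), AlgSp.IsSchImage f.hom i.hom := by
  have hrep := repWith_incl f.hom
  have hZ : AlgSp.IsAlgSpace (Zsh f.hom) :=
    Groth.Agent.S10129.isAlgSpace_of_representable Y.property (incl f.hom) hrep.rep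
  refine ⟨⟨Zsh f.hom, hZ⟩, ObjectProperty.homMk (incl f.hom), hrep, ⟨toZsh f.hom, toZsh_incl f.hom⟩, ?_⟩
  intro Z' i' hZ' hi' hfac
  exact exists_factor f.hom ⟨Z', i', hZ', hi', hfac⟩

end Groth.Agent.S9964
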