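import Groth.Statements.S10054
import Mathlib
import Groth.Agent.Lib.H5bQcAff2
import Groth.Agent.Lib.H5bDvrClosure
import Groth.Agent.S10176
import Groth.Agent.S10177

set_option autoImplicit false
set_option linter.style.haveILetI false
universe u
open CategoryTheory CategoryTheory.Limits AlgebraicGeometry
open AlgSp

namespace Groth.Agent.S10054

open Groth.Agent.Lib.H5bKerId Groth.Agent.Lib.H5bClosedSub Groth.Agent.Lib.H5bSchIm
open Groth.Agent.S13210

/-- Let `f : X ⟶ Y` be a morphism of finite type of algebraic spaces over `S` with `Y` locally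
Noetherian, and `y ∈ |Y|` a point lying in the closure of `f`'s image on points. Then one can find a
discrete valuation ring `A` with fraction field `K` and a commutative square `Spec K ⟶ X`, `Spec A ⟶
Y` (over `f` and `Spec K ⟶ Spec A`) sending the closed point of `Spec A` to `y`. (The refinement
that the `K`-point may be taken at a codimension-0 point with `K` a residue field of an etale chart
is not included.) -/
theorem result (S : Scheme.{u}) {X Y : AlgSp.Space S} (f : X ⟶ Y)
    (hft : AlgSp.IsFiniteTypeMor f.hom) (hY : AlgSp.IsLocNoethSp Y.obj) (y : AlgSp.Points Y.obj)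
    (hy : y ∈ closure (Set.range (AlgSp.Points.map f.hom))) :
    ∃ (A : Type u) (_ : CommRing A) (_ : IsDomain A) (_ : IsDiscreteValuationRing A)
      (a : Spec (CommRingCat.of A) ⟶ S)
      (α : (AlgSp.yon S).obj (Over.mk a) ⟶ Y.obj)
      (κ : (AlgSp.yon S).obj (Over.mk (Spec.map (CommRingCat.ofHom (algebraMap A (FractionRing A))) ≫ a)) ⟶ X.obj),
      κ ≫ f.hom = (AlgSp.yon S).map (Over.homMk (Spec.map (CommRingCat.ofHom (algebraMap A (FractionRing A))))) ≫ α ∧
      AlgSp.Points.map α (AlgSp.Points.schemeEquiv (Over.mk a) (IsLocalRing.closedPoint A)) = y := by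
  obtain ⟨V, q, hqe, hqs, hV⟩ := hY
  haveI : IsLocallyNoetherian V.left := hV
  obtain ⟨v, hv⟩ := Groth.Agent.S10177.surjective_ofPt q hqs y
  have hqc : QcOver (pullback.snd f.hom q) := qcOver_of_isQuasiCompactMor hft.2
  let K := Kc f.hom q
  have hsub : AlgSp.Points.ofPt q ⁻¹' Set.range (AlgSp.Points.map f.hom) ⊆
      (K.support : Set V.left) := by
    rintro v' ⟨x, hx⟩
    induction x using AlgSp.Points.ind with | h p₀ => ?_
    let x₁ := (yEquiv p₀.pt X.obj).symm p₀.val
    have h1 : AlgSp.Points.ofPt (x₁ ≫ f.hom) (IsLocalRing.closedPoint p₀.K) =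
        AlgSp.Points.ofPt q v' := by
      rw [← AlgSp.Points.map_ofPt, Groth.Agent.S10177.ofPt_closedPoint, hx]
    obtain ⟨W, w, pr', sq⟩ := hqe.1 (x₁ ≫ f.hom)
    obtain ⟨pr, rfl⟩ := (AlgSp.yon S).map_surjective pr'
    obtain ⟨y', hy1, hy2⟩ := Groth.Agent.S10176.exists_point_of_isPullback_yon sq v' _ h1.symm
    have hK : K ≤ pr.left.ker :=
      Kc_le f.hom q ((AlgSp.yon S).map w ≫ x₁) pr (by rw [Category.assoc, sq.w])
    exact Scheme.IdealSheafData.support_antitone hK
      (Scheme.Hom.range_subset_ker_support pr.left ⟨y', hy1⟩)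
  have hvK : v ∈ (K.support : Set V.left) := by
    have h1 : v ∈ AlgSp.Points.ofPt q ⁻¹' closure (Set.range (AlgSp.Points.map f.hom)) := by
      rw [Set.mem_preimage, hv]; exact hy
    rw [(Groth.Agent.S10176.isOpenMap_ofPt q hqe).preimage_closure_eq_closure_preimage
      (AlgSp.Points.continuous_ofPt q)] at h1
    exact closure_minimal hsub K.support.isClosed h1
  obtain ⟨_, ⟨V₀, hV₀, rfl⟩, hvV, -⟩ :=
    (V.left.isBasis_affineOpens).exists_subset_of_mem_open (Set.mem_univ v) isOpen_univ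
  let Va : V.left.affineOpens := ⟨V₀, hV₀⟩
  obtain ⟨W₀, x₀, a₀, h₀, hW₀, hr, hcov, hx₀e⟩ :=
    exists_affine_covers_etale hqe hft.2 (f := f.hom) (q := q) Va
  haveI := hW₀
  haveI : LocallyOfFiniteType a₀.left :=
    hft.1 (x₀ ≫ pullback.fst f.hom q) q a₀ hx₀e hqe (by
      rw [Category.assoc, pullback.condition, ← Category.assoc, h₀])
  have hKV : K.ideal Va = RingHom.ker (a₀.left.app V₀).hom := by
    rw [← Kpre_eq_ker_of_covers h₀ hcov]
    exact KerId_ideal hqc Va
  have hker : v ∈ V.left.zeroLocus (U := Va.1)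
      (RingHom.ker (a₀.left.app Va.1).hom : Set Γ(V.left, Va.1)) := by
    rw [← hKV]
    exact (Scheme.IdealSheafData.mem_support_iff_of_mem (I := K) (U := Va) hvV).1 hvK
  obtain ⟨A, iA, iD, iV, a, x, hx, ha⟩ :=
    Groth.Agent.Lib.H5bDvrClosure.exists_dvr_of_ker_le a₀.left Va hr v hvV hker
  let str : Spec (CommRingCat.of A) ⟶ S := a ≫ V.hom
  let aO : Over.mk str ⟶ V := Over.homMk a rfl
  let η := Spec.map (CommRingCat.ofHom (algebraMap A (FractionRing A)))
  let ηO : Over.mk (η ≫ str) ⟶ Over.mk str := Over.homMk η rfl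
  have hxw : x ≫ W₀.hom = η ≫ str := by
    rw [← Over.w a₀, ← Category.assoc, hx, Category.assoc]
  let xO : Over.mk (η ≫ str) ⟶ W₀ := Over.homMk x hxw
  have hxa : xO ≫ a₀ = ηO ≫ aO := Over.OverMorphism.ext hx
  refine ⟨A, iA, iD, iV, str, (AlgSp.yon S).map aO ≫ q,
    (AlgSp.yon S).map xO ≫ x₀ ≫ pullback.fst f.hom q, ?_, ?_⟩
  · calc ((AlgSp.yon S).map xO ≫ x₀ ≫ pullback.fst f.hom q) ≫ f.hom
        = (AlgSp.yon S).map xO ≫ x₀ ≫ pullback.snd f.hom q ≫ q := by
          simp only [Category.assoc, pullback.condition]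
      _ = (AlgSp.yon S).map xO ≫ (AlgSp.yon S).map a₀ ≫ q := by
          rw [← Category.assoc x₀, h₀]
      _ = (AlgSp.yon S).map (ηO ≫ aO) ≫ q := by
          rw [← hxa, CategoryTheory.Functor.map_comp, Category.assoc]
      _ = (AlgSp.yon S).map ηO ≫ (AlgSp.yon S).map aO ≫ q := by
          rw [CategoryTheory.Functor.map_comp, Category.assoc]
  · refine Eq.trans (AlgSp.Points.ofPt_eq_map_ofScheme ((AlgSp.yon S).map aO ≫ q)
      (IsLocalRing.closedPoint A)).symm ?_
    rw [Groth.Agent.S10176.ofPt_map_comp]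
    exact (congrArg (AlgSp.Points.ofPt q) ha).trans hv

end Groth.Agent.S10054
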