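import Groth.Statements.S10192
import Mathlib
import Groth.Agent.Lib.H5bClosedSub
import Groth.Agent.S9908
import Groth.Agent.S10176
import Groth.Agent.S10177

set_option autoImplicit false
set_option linter.style.haveILetI false
universe u
open CategoryTheory CategoryTheory.Limits AlgebraicGeometry Topology TopologicalSpace
open AlgSp

namespace Groth.Agent.S10192

open Opposite TopologicalSpace Groth.Agent.S13210 Groth.Agent.Lib.H5bClosedSub Groth.Agent.Lib.H5bIdealDesc

variable {S : Scheme.{u}}

/-- the vanishing ideal of the preimage of a set of points under an étale chart is invariant. -/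
lemma invariant_vanishingIdeal {X : AlgSp.Sp S} {U : Over S} (q : (AlgSp.yon S).obj U ⟶ X)
    (hqe : AlgSp.RepWith @Etale q) (C : Closeds U.left) (T : Set (AlgSp.Points X))
    (hC : (C : Set U.left) = AlgSp.Points.ofPt q ⁻¹' T) :
    Invariant q (Scheme.IdealSheafData.vanishingIdeal C) := by
  intro W' b₁ b₂ hb
  obtain ⟨R, s, t', sq⟩ := hqe.1 q
  obtain ⟨t₀, rfl⟩ := (AlgSp.yon S).map_surjective t'
  haveI : Etale s.left := hqe.2 q _ s sq
  haveI : Etale t₀.left := hqe.2 q _ t₀ sq.flip
  obtain ⟨e, he⟩ := (AlgSp.yon S).map_surjective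
    (sq.lift ((AlgSp.yon S).map b₁) ((AlgSp.yon S).map b₂) hb)
  have he1 : e ≫ t₀ = b₁ := (AlgSp.yon S).map_injective (by
    rw [CategoryTheory.Functor.map_comp, he, sq.lift_fst])
  have he2 : e ≫ s = b₂ := (AlgSp.yon S).map_injective (by
    rw [CategoryTheory.Functor.map_comp, he, sq.lift_snd])
  have he1' : e.left ≫ t₀.left = b₁.left := congrArg (fun m => m.left) he1
  have he2' : e.left ≫ s.left = b₂.left := congrArg (fun m => m.left) he2
  rw [← he1', ← he2', Scheme.IdealSheafData.comap_comp, Scheme.IdealSheafData.comap_comp,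
    comap_vanishingIdeal_of_etale t₀.left C, comap_vanishingIdeal_of_etale s.left C]
  congr 2
  apply Closeds.ext
  ext r
  change t₀.left r ∈ (C : Set U.left) ↔ s.left r ∈ (C : Set U.left)
  rw [hC, Set.mem_preimage, Set.mem_preimage, ← Groth.Agent.S10176.ofPt_map_comp,
    ← Groth.Agent.S10176.ofPt_map_comp, sq.w]

/-- For an algebraic space X over a scheme S and a closed subset T of |X| there is a reduced closed
subspace Z of X with |Z| = T, that is, an algebraic space Z with a morphism Z ⟶ X representable by
closed immersions whose image in |X| is T and such that Z is reduced. (Only existence is asserted;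
uniqueness is not part of this row.) -/
theorem result {S : Scheme.{u}} (X : AlgSp.Space S) (T : Set (AlgSp.Points X.obj))
    (hT : IsClosed T) :
    ∃ (Z : AlgSp.Space S) (i : Z ⟶ X), AlgSp.IsRedInduced T i.hom := by
  obtain ⟨U, q, hqe, hqs⟩ := X.property.atlas
  let C : Closeds U.left := ⟨AlgSp.Points.ofPt q ⁻¹' T, hT.preimage (AlgSp.Points.continuous_ofPt q)⟩
  let I := Scheme.IdealSheafData.vanishingIdeal C
  have hinv : Invariant q I := invariant_vanishingIdeal q hqe C T rfl
  have hrep := repWith_incl hqe hqs hinv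
  have hZ : AlgSp.IsAlgSpace (Zsh q I) :=
    Groth.Agent.S10129.isAlgSpace_of_representable X.property (incl q I) hrep.rep
  obtain ⟨fstU, sq5⟩ := exists_chart_isPullback hqe hqs hinv
  refine ⟨⟨Zsh q I, hZ⟩, ObjectProperty.homMk (incl q I), hrep, ?_, ?_⟩
  · have h1 := Groth.Agent.S9908.preimage_ofPt_map_image sq5 Set.univ
    rw [Set.image_univ, Set.preimage_univ, Set.image_univ] at h1
    have h2 : Set.range (ιo I).left = (C : Set U.left) :=
      Groth.Agent.Lib.Helper11RedCl.range_subschemeι_vanishingIdeal C
    rw [h2] at h1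
    ext t
    obtain ⟨u, rfl⟩ := Groth.Agent.S10177.surjective_ofPt q hqs t
    change AlgSp.Points.ofPt q u ∈ Set.range (AlgSp.Points.map (incl q I)) ↔ _
    rw [← Set.mem_preimage, h1]
    rfl
  · refine ⟨VI I, fstU, ?_, ?_, ?_⟩
    · exact MorphismProperty.of_isPullback (P := AlgSp.RepWith @Etale) sq5.flip hqe
    · exact MorphismProperty.of_isPullback (P := AlgSp.RepWith @Surjective) sq5.flip hqs
    · exact Groth.Agent.Lib.Helper11RedCl.isReduced_subscheme_vanishingIdeal C

end Groth.Agent.S10192
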