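import Groth.Statements.S10695
import Mathlib
import Groth.Prelude.Def_AlgSpDec
import Groth.Agent.Lib.H5bJointEpi
import Groth.Agent.Lib.Helper12OpenSub2
import Groth.Agent.S9874
import Groth.Agent.S10175
import Groth.Agent.S10262
import Groth.Agent.S10265
import Groth.Agent.S9928

set_option autoImplicit false
universe u
open CategoryTheory CategoryTheory.Limits AlgebraicGeometry
open AlgSp

namespace Groth.Agent.S10695

variable {S : Scheme.{u}}

/-- a representable étale morphism is étale in the sense of `IsEtaleMor`. -/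
lemma isEtaleMor_of_repWith' {F G : AlgSp.Sp S} (f : F ⟶ G) (hf : AlgSp.RepWith @Etale f) :
    AlgSp.IsEtaleMor f :=
  fun _ _ hφ => (AlgSp.repWith_isMultiplicative (S := S) @Etale).comp_mem _ _ hφ hf

lemma isEtaleMor_of_open {F G : AlgSp.Sp S} (f : F ⟶ G) (hf : AlgSp.RepWith @IsOpenImmersion f) :
    AlgSp.IsEtaleMor f :=
  isEtaleMor_of_repWith' f (Groth.Agent.Lib.Helper12.OpenSub.repWith_mono
    (fun _ _ g hg => by haveI : IsOpenImmersion g := hg; infer_instance) hf)

/-- the two members of an elementary distinguished square are jointly surjective. -/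
lemma jointly_surjective {U V W : AlgSp.Sp S} (j : U ⟶ W) (f : V ⟶ W)
    (hsq : AlgSp.IsElemDistSq j f) (x : AlgSp.Points W) :
    x ∈ Set.range (AlgSp.Points.map j) ∨ x ∈ Set.range (AlgSp.Points.map f) := by
  obtain ⟨-, -, T, P', i, p₁, p₂, hred, sqT, hiso⟩ := hsq
  by_cases hx : x ∈ Set.range (AlgSp.Points.map j)
  · exact Or.inl hx
  · right
    have hx' : x ∈ Set.range (AlgSp.Points.map i) := by
      rw [hred.2.1]
      exact hx
    obtain ⟨t, rfl⟩ := hx'
    haveI := hiso
    refine ⟨AlgSp.Points.map p₂ (AlgSp.Points.map (inv p₁) t), ?_⟩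
    rw [← AlgSp.Points.map_comp, ← AlgSp.Points.map_comp, ← sqT.w, ← Category.assoc,
      IsIso.inv_hom_id, Category.id_comp]

/-- the key point: `b` coequalizes the kernel pair of `f`. -/
lemma key {U V W P : AlgSp.Space S} {Z : AlgSp.Sp S} (j : U ⟶ W) (f : V ⟶ W)
    (hsq : AlgSp.IsElemDistSq j.hom f.hom) (p : P ⟶ U) (q : P ⟶ V)
    (hP : IsPullback p.hom q.hom j.hom f.hom) (a : U.obj ⟶ Z) (b : V.obj ⟶ Z)
    (hab : p.hom ≫ a = q.hom ≫ b) :
    pullback.fst f.hom f.hom ≫ b = pullback.snd f.hom f.hom ≫ b := by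
  have hs0 := jointly_surjective j.hom f.hom hsq
  obtain ⟨hj, hf, T, P', i, p₁, p₂, hred, sqT, hiso⟩ := hsq
  haveI := hiso
  have hVV : AlgSp.IsAlgSpace (pullback f.hom f.hom) :=
    Groth.Agent.S9874.isAlgSpace_of_isPullback W.property.diag V.property V.property
      (IsPullback.of_hasPullback f.hom f.hom)
  have sq₂ : IsPullback (pullback.fst (pullback.fst f.hom f.hom ≫ f.hom) j.hom)
      (pullback.snd (pullback.fst f.hom f.hom ≫ f.hom) j.hom)
      (pullback.fst f.hom f.hom ≫ f.hom) j.hom := IsPullback.of_hasPullback _ _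
  have hP₂ : AlgSp.IsAlgSpace (pullback (pullback.fst f.hom f.hom ≫ f.hom) j.hom) :=
    Groth.Agent.S9874.isAlgSpace_of_isPullback W.property.diag hVV U.property sq₂
  have hπ₂ : AlgSp.RepWith @IsOpenImmersion
      (pullback.fst (pullback.fst f.hom f.hom ≫ f.hom) j.hom) :=
    MorphismProperty.of_isPullback (P := AlgSp.RepWith @IsOpenImmersion) sq₂.flip hj
  have hΔ : AlgSp.RepWith @IsOpenImmersion (pullback.diagonal f.hom) :=
    (Groth.Agent.S10262.result f).1 (Groth.Agent.S10265.result f hf).2.2.2.2.2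
  refine Groth.Agent.Lib.H5bJointEpi.hom_ext_of_jointly_surjective V.property hP₂
    (pullback.diagonal f.hom) (pullback.fst (pullback.fst f.hom f.hom ≫ f.hom) j.hom)
    (isEtaleMor_of_open _ hΔ) (isEtaleMor_of_open _ hπ₂) ?_ _ _ ?_ ?_
  · intro z
    by_cases hx : AlgSp.Points.map (pullback.fst f.hom f.hom ≫ f.hom) z ∈
        Set.range (AlgSp.Points.map j.hom)
    · right
      obtain ⟨y, hy⟩ := hx
      obtain ⟨pt, hpt, -⟩ := Groth.Agent.S10175.exists_point_of_isPullback sq₂ z y hy.symm
      exact ⟨pt, hpt⟩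
    · left
      have hx' : AlgSp.Points.map (pullback.fst f.hom f.hom ≫ f.hom) z ∈
          Set.range (AlgSp.Points.map i) := by
        rw [hred.2.1]
        exact hx
      obtain ⟨t, ht⟩ := hx'
      obtain ⟨z', rfl⟩ := AlgSp.Points.mk_surjective z
      obtain ⟨t', rfl⟩ := AlgSp.Points.mk_surjective t
      rw [AlgSp.Points.map_mk, AlgSp.Points.map_mk, AlgSp.Points.mk_eq_mk_iff] at ht
      obtain ⟨Ω, _, w', α, β, hαβ⟩ := ht
      have E : (AlgSp.yon S).map α ≫ t'.toHom ≫ i =
          (AlgSp.yon S).map β ≫ z'.toHom ≫ pullback.fst f.hom f.hom ≫ f.hom := by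
        have h1 : (AlgSp.yon S).map α ≫ (t'.map i).toHom =
            (AlgSp.J S).uliftYonedaEquiv.symm (W.obj.obj.map α.op (t'.map i).val) :=
          (AlgSp.J S).uliftYonedaEquiv_symm_naturality_left α W.obj (t'.map i).val
        have h2 : (AlgSp.yon S).map β ≫ (z'.map (pullback.fst f.hom f.hom ≫ f.hom)).toHom =
            (AlgSp.J S).uliftYonedaEquiv.symm
              (W.obj.obj.map β.op (z'.map (pullback.fst f.hom f.hom ≫ f.hom)).val) :=
          (AlgSp.J S).uliftYonedaEquiv_symm_naturality_left β W.obj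
            (z'.map (pullback.fst f.hom f.hom ≫ f.hom)).val
        have e1 := AlgSp.FieldPt.toHom_map i t'
        have e2 := AlgSp.FieldPt.toHom_map (pullback.fst f.hom f.hom ≫ f.hom) z'
        calc (AlgSp.yon S).map α ≫ t'.toHom ≫ i
            = (AlgSp.yon S).map α ≫ (t'.map i).toHom := by rw [e1]; rfl
          _ = (AlgSp.J S).uliftYonedaEquiv.symm (W.obj.obj.map α.op (t'.map i).val) := h1
          _ = (AlgSp.J S).uliftYonedaEquiv.symm
              (W.obj.obj.map β.op (z'.map (pullback.fst f.hom f.hom ≫ f.hom)).val) := by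
            rw [hαβ]
          _ = (AlgSp.yon S).map β ≫ (z'.map (pullback.fst f.hom f.hom ≫ f.hom)).toHom := h2.symm
          _ = (AlgSp.yon S).map β ≫ z'.toHom ≫ pullback.fst f.hom f.hom ≫ f.hom := by rw [e2]; rfl
      have c1 : ((AlgSp.yon S).map α ≫ t'.toHom) ≫ i =
          (((AlgSp.yon S).map β ≫ z'.toHom) ≫ pullback.fst f.hom f.hom) ≫ f.hom := by
        simpa only [Category.assoc] using E
      have c2 : ((AlgSp.yon S).map α ≫ t'.toHom) ≫ i =
          (((AlgSp.yon S).map β ≫ z'.toHom) ≫ pullback.snd f.hom f.hom) ≫ f.hom := by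
        rw [Category.assoc ((AlgSp.yon S).map β ≫ z'.toHom),
          ← pullback.condition (f := f.hom) (g := f.hom), ← Category.assoc]
        exact c1
      have hy : sqT.lift _ _ c1 = sqT.lift _ _ c2 := by
        rw [← cancel_mono p₁, sqT.lift_fst, sqT.lift_fst]
      have hζ : ((AlgSp.yon S).map β ≫ z'.toHom) ≫ pullback.fst f.hom f.hom =
          ((AlgSp.yon S).map β ≫ z'.toHom) ≫ pullback.snd f.hom f.hom := by
        have h3 := congrArg (fun m => m ≫ p₂) hy
        simpa only [sqT.lift_snd] using h3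
      have hζ' : (AlgSp.yon S).map β ≫ z'.toHom =
          (((AlgSp.yon S).map β ≫ z'.toHom) ≫ pullback.fst f.hom f.hom) ≫
            pullback.diagonal f.hom := by
        apply pullback.hom_ext
        · simp only [Category.assoc, pullback.diagonal_fst, Category.comp_id]
        · simp only [Category.assoc, pullback.diagonal_snd, Category.comp_id]
          simpa only [Category.assoc] using hζ.symm
      refine ⟨AlgSp.Points.ofPt (((AlgSp.yon S).map β ≫ z'.toHom) ≫ pullback.fst f.hom f.hom)
        (IsLocalRing.closedPoint Ω), ?_⟩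
      rw [AlgSp.Points.map_ofPt, ← hζ', Groth.Agent.S10176.ofPt_map_comp β z'.toHom]
      exact AlgSp.Points.ofPt_toHom z' _
  · rw [pullback.diagonal_fst_assoc, pullback.diagonal_snd_assoc]
  · have cA : pullback.snd (pullback.fst f.hom f.hom ≫ f.hom) j.hom ≫ j.hom =
        (pullback.fst (pullback.fst f.hom f.hom ≫ f.hom) j.hom ≫ pullback.fst f.hom f.hom) ≫
          f.hom := by
      rw [Category.assoc]
      exact sq₂.w.symm
    have cB : pullback.snd (pullback.fst f.hom f.hom ≫ f.hom) j.hom ≫ j.hom =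
        (pullback.fst (pullback.fst f.hom f.hom ≫ f.hom) j.hom ≫ pullback.snd f.hom f.hom) ≫
          f.hom := by
      rw [Category.assoc, ← pullback.condition (f := f.hom) (g := f.hom), ← Category.assoc]
      exact cA
    have hA : pullback.fst (pullback.fst f.hom f.hom ≫ f.hom) j.hom ≫ pullback.fst f.hom f.hom ≫ b =
        pullback.snd (pullback.fst f.hom f.hom ≫ f.hom) j.hom ≫ a := by
      rw [← Category.assoc, ← hP.lift_snd _ _ cA, Category.assoc, ← hab, ← Category.assoc,
        hP.lift_fst]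
    have hB : pullback.fst (pullback.fst f.hom f.hom ≫ f.hom) j.hom ≫ pullback.snd f.hom f.hom ≫ b =
        pullback.snd (pullback.fst f.hom f.hom ≫ f.hom) j.hom ≫ a := by
      rw [← Category.assoc, ← hP.lift_snd _ _ cB, Category.assoc, ← hab, ← Category.assoc,
        hP.lift_fst]
    rw [hA, hB]

/-- existence of the descended morphism. -/
lemma exists_desc {U V W P : AlgSp.Space S} {Z : AlgSp.Sp S} (j : U ⟶ W) (f : V ⟶ W)
    (hsq : AlgSp.IsElemDistSq j.hom f.hom) (p : P ⟶ U) (q : P ⟶ V)
    (hP : IsPullback p.hom q.hom j.hom f.hom) (a : U.obj ⟶ Z) (b : V.obj ⟶ Z)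
    (hab : p.hom ≫ a = q.hom ≫ b) : ∃ m : W.obj ⟶ Z, j.hom ≫ m = a ∧ f.hom ≫ m = b := by
  have hs := jointly_surjective j.hom f.hom hsq
  have hk := key j f hsq p q hP a b hab
  haveI : Mono j.hom := by
    refine Groth.Agent.S9928.mono_of_repWith @IsOpenImmersion ?_ j.hom hsq.1
    intro X Y g hg
    haveI : IsOpenImmersion g := hg
    infer_instance
  refine Groth.Agent.Lib.H5bJointEpi.exists_desc_of_jointly_surjective U.property V.property
    j.hom f.hom (isEtaleMor_of_open _ hsq.1) hsq.2.1 hs a b ?_ ?_ ?_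
  · intro T g₁ g₂ h
    rw [(cancel_mono j.hom).1 h]
  · intro T g₁ g₂ h
    rw [← hP.lift_fst g₁ g₂ h, Category.assoc, hab, ← Category.assoc, hP.lift_snd]
  · intro T g₁ g₂ h
    rw [← pullback.lift_fst (f := f.hom) (g := f.hom) g₁ g₂ h, Category.assoc, hk,
      ← Category.assoc, pullback.lift_snd]

/-- Suppose `(U ⊂ W, f : V → W)`, a square of algebraic spaces over `S`, is elementary distinguished
(`j` an open immersion, `f` etale and an isomorphism over the reduced closed complement of `U`) and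
let `P` with its two projections be a fibre product `U ×_W V`. Then `W` is the pushout of `U` and
`V` along `P` among algebraic spaces over `S`. -/
theorem result {S : Scheme.{u}} {U V W P : AlgSp.Space S} (j : U ⟶ W) (f : V ⟶ W)
    (hsq : AlgSp.IsElemDistSq j.hom f.hom) (p : P ⟶ U) (q : P ⟶ V)
    (hP : IsPullback p.hom q.hom j.hom f.hom) : IsPushout p q j f := by
  have hcond : ∀ s : PushoutCocone p q, p.hom ≫ s.inl.hom = q.hom ≫ s.inr.hom := fun s => by
    rw [← ObjectProperty.FullSubcategory.comp_hom, ← ObjectProperty.FullSubcategory.comp_hom,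
      s.condition]
  have hex := fun s : PushoutCocone p q =>
    exists_desc j f hsq p q hP s.inl.hom s.inr.hom (hcond s)
  refine ⟨⟨ObjectProperty.hom_ext _ hP.w⟩, ⟨PushoutCocone.IsColimit.mk _
    (fun s => ObjectProperty.homMk (hex s).choose) (fun s => ?_) (fun s => ?_)
    (fun s m hl hr => ?_)⟩⟩
  · exact ObjectProperty.hom_ext _ (hex s).choose_spec.1
  · exact ObjectProperty.hom_ext _ (hex s).choose_spec.2
  · apply ObjectProperty.hom_ext
    have h1 := (hex s).choose_spec
    have hl' := congrArg (fun φ => φ.hom) hl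
    have hr' := congrArg (fun φ => φ.hom) hr
    refine Groth.Agent.Lib.H5bJointEpi.hom_ext_of_jointly_surjective U.property V.property
      j.hom f.hom (isEtaleMor_of_open _ hsq.1) hsq.2.1 (jointly_surjective j.hom f.hom hsq) _ _ ?_ ?_
    · exact hl'.trans h1.1.symm
    · exact hr'.trans h1.2.symm

end Groth.Agent.S10695
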