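import Groth.Statements.S10686
import Mathlib
import Groth.Prelude.Def_AlgSpDec
import Groth.Agent.Lib.Helper12FieldBC
import Groth.Agent.S9874

set_option autoImplicit false
universe u
open CategoryTheory CategoryTheory.Limits AlgebraicGeometry
open AlgSp

namespace Groth.Agent.S10686

/-- extension of a field point along a field hom. -/
noncomputable def ext {S : Scheme.{u}} {F : AlgSp.Sp S} (k : AlgSp.FieldPt F) {k' : Type u} [Field k']
    (φ : k.K →+* k') : AlgSp.FieldPt F where
  K := k'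
  str := Spec.map (CommRingCat.ofHom φ) ≫ k.str
  val := F.obj.map (Over.homMk (Spec.map (CommRingCat.ofHom φ)) rfl :
    Over.mk (Spec.map (CommRingCat.ofHom φ) ≫ k.str) ⟶ k.pt).op k.val

lemma ext_toHom {S : Scheme.{u}} {F : AlgSp.Sp S} (k : AlgSp.FieldPt F) {k' : Type u} [Field k']
    (φ : k.K →+* k') :
    (ext k φ).toHom = (AlgSp.yon S).map (Over.homMk (Spec.map (CommRingCat.ofHom φ)) rfl :
      Over.mk (Spec.map (CommRingCat.ofHom φ) ≫ k.str) ⟶ k.pt) ≫ k.toHom :=
  ((AlgSp.J S).uliftYonedaEquiv_symm_naturality_left _ F k.val).symm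

lemma mk_ext {S : Scheme.{u}} {F : AlgSp.Sp S} (k : AlgSp.FieldPt F) {k' : Type u} [Field k']
    (φ : k.K →+* k') : AlgSp.Points.mk (ext k φ) = AlgSp.Points.mk k := by
  rw [AlgSp.Points.mk_eq_mk_iff]
  refine ⟨k', inferInstance, Spec.map (CommRingCat.ofHom φ) ≫ k.str, 𝟙 _,
    (Over.homMk (Spec.map (CommRingCat.ofHom φ)) rfl :
      Over.mk (Spec.map (CommRingCat.ofHom φ) ≫ k.str) ⟶ k.pt), ?_⟩
  have h1 : F.obj.map (𝟙 (Over.mk (Spec.map (CommRingCat.ofHom φ) ≫ k.str))).op = 𝟙 _ := by
    rw [op_id, F.obj.map_id]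
  exact (congrArg (fun m => (ConcreteCategory.hom m) (ext k φ).val) h1).trans rfl

/-- a general morphism to `k.pt` from a field is of the standard form. -/
lemma key {S : Scheme.{u}} {X Y : AlgSp.Space S} (f : X ⟶ Y) (k : AlgSp.FieldPt Y.obj)
    (H : ∀ (k' : Type u) [Field k'] (φ : k.K →+* k') (Xk' : AlgSp.Sp S) (a : Xk' ⟶ X.obj)
          (b : Xk' ⟶ (AlgSp.yon S).obj (Over.mk (Spec.map (CommRingCat.ofHom φ) ≫ k.str))),
          IsPullback a b f.hom ((AlgSp.yon S).map (Over.homMk (Spec.map (CommRingCat.ofHom φ)) rfl :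
            Over.mk (Spec.map (CommRingCat.ofHom φ) ≫ k.str) ⟶ k.pt) ≫ k.toHom) →
          AlgSp.EtaleLocally (fun U => IsReduced U) Xk')
    (Ω : Type u) [Field Ω] (w : Spec (CommRingCat.of Ω) ⟶ S) (α : Over.mk w ⟶ k.pt)
    (XΩ : AlgSp.Sp S) (a : XΩ ⟶ X.obj) (b : XΩ ⟶ (AlgSp.yon S).obj (Over.mk w))
    (sq : IsPullback a b f.hom ((AlgSp.yon S).map α ≫ k.toHom)) :
    AlgSp.EtaleLocally (fun U => IsReduced U) XΩ := by
  obtain ⟨g, h, rfl⟩ : ∃ (g : Spec (CommRingCat.of Ω) ⟶ Spec (CommRingCat.of k.K))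
      (h : g ≫ k.str = w), α = Over.homMk g h := ⟨α.left, Over.w α, rfl⟩
  subst h
  obtain ⟨φ, rfl⟩ : ∃ φ : k.K →+* Ω, Spec.map (CommRingCat.ofHom φ) = g :=
    ⟨(Spec.preimage g).hom, by simp [Spec.map_preimage]⟩
  exact H Ω φ XΩ a b sq

/-- For a morphism f : X ⟶ Y between algebraic spaces over S and a point y of |Y|, write X_k for the
fibre (pullback in fppf sheaves) over a field point k of Y and call X_k geometrically reduced when
for every field homomorphism k ⟶ k' the base change X_{k'} is reduced (some etale surjective scheme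
chart reduced). The following are equivalent: (1) X_k is geometrically reduced for some k in the
class of y; (2) X_k is geometrically reduced for every k in the class of y; (3) X_k is reduced for
every k in the class of y. -/
theorem result {S : Scheme.{u}} {X Y : AlgSp.Space S} (f : X ⟶ Y) (y : AlgSp.Points Y.obj) :
    [∃ (k : AlgSp.FieldPt Y.obj), AlgSp.Points.mk k = y ∧
        ∀ (k' : Type u) [Field k'] (φ : k.K →+* k') (Xk' : AlgSp.Sp S) (a : Xk' ⟶ X.obj)
          (b : Xk' ⟶ (AlgSp.yon S).obj (Over.mk (Spec.map (CommRingCat.ofHom φ) ≫ k.str))),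
          IsPullback a b f.hom ((AlgSp.yon S).map (Over.homMk (Spec.map (CommRingCat.ofHom φ)) rfl :
            Over.mk (Spec.map (CommRingCat.ofHom φ) ≫ k.str) ⟶ k.pt) ≫ k.toHom) →
          AlgSp.EtaleLocally (fun U => IsReduced U) Xk',
      ∀ (k : AlgSp.FieldPt Y.obj), AlgSp.Points.mk k = y →
        ∀ (k' : Type u) [Field k'] (φ : k.K →+* k') (Xk' : AlgSp.Sp S) (a : Xk' ⟶ X.obj)
          (b : Xk' ⟶ (AlgSp.yon S).obj (Over.mk (Spec.map (CommRingCat.ofHom φ) ≫ k.str))),
          IsPullback a b f.hom ((AlgSp.yon S).map (Over.homMk (Spec.map (CommRingCat.ofHom φ)) rfl :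
            Over.mk (Spec.map (CommRingCat.ofHom φ) ≫ k.str) ⟶ k.pt) ≫ k.toHom) →
          AlgSp.EtaleLocally (fun U => IsReduced U) Xk',
      ∀ (k : AlgSp.FieldPt Y.obj), AlgSp.Points.mk k = y →
        ∀ (Xk : AlgSp.Sp S) (a : Xk ⟶ X.obj) (b : Xk ⟶ (AlgSp.yon S).obj k.pt), IsPullback a b f.hom k.toHom →
          AlgSp.EtaleLocally (fun U => IsReduced U) Xk].TFAE := by
  tfae_have 3 → 2 := by
    intro H k hk k' _ φ Xk' a b sq
    refine H (ext k φ) ((mk_ext k φ).trans hk) Xk' a b ?_
    rw [ext_toHom]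
    exact sq
  tfae_have 2 → 1 := by
    intro H
    obtain ⟨k, rfl⟩ := AlgSp.Points.mk_surjective y
    exact ⟨k, rfl, H k rfl⟩
  tfae_have 1 → 3 := by
    rintro ⟨k₀, hk₀, H⟩ k hk Xk a b sq
    have hrel : AlgSp.Points.mk k₀ = AlgSp.Points.mk k := hk₀.trans hk.symm
    rw [AlgSp.Points.mk_eq_mk_iff] at hrel
    obtain ⟨Ω, _, w, α, β, hαβ⟩ := hrel
    have E : (AlgSp.yon S).map α ≫ k₀.toHom = (AlgSp.yon S).map β ≫ k.toHom := by
      have h1 : (AlgSp.yon S).map α ≫ k₀.toHom =
          (AlgSp.J S).uliftYonedaEquiv.symm (Y.obj.obj.map α.op k₀.val) :=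
        (AlgSp.J S).uliftYonedaEquiv_symm_naturality_left α Y.obj k₀.val
      have h2 : (AlgSp.yon S).map β ≫ k.toHom =
          (AlgSp.J S).uliftYonedaEquiv.symm (Y.obj.obj.map β.op k.val) :=
        (AlgSp.J S).uliftYonedaEquiv_symm_naturality_left β Y.obj k.val
      rw [h1, hαβ, ← h2]
    have hXk : AlgSp.IsAlgSpace Xk :=
      Groth.Agent.S9874.isAlgSpace_of_isPullback Y.property.diag X.property
        (AlgSp.IsAlgSpace.yon_obj _) sq
    obtain ⟨U, p, hpe, hps⟩ := hXk.atlas
    have sA : IsPullback (pullback.fst b ((AlgSp.yon S).map β)) (pullback.snd b ((AlgSp.yon S).map β))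
        b ((AlgSp.yon S).map β) := IsPullback.of_hasPullback _ _
    have sP : IsPullback (pullback.fst b ((AlgSp.yon S).map β) ≫ a)
        (pullback.snd b ((AlgSp.yon S).map β)) f.hom ((AlgSp.yon S).map α ≫ k₀.toHom) := by
      rw [E]
      exact sA.paste_horiz sq
    have hP : AlgSp.IsReducedSp (pullback b ((AlgSp.yon S).map β)) :=
      key f k₀ H Ω w α _ _ _ sP
    obtain ⟨c, hc⟩ := (AlgSp.yon S).map_surjective (p ≫ b)
    have sV : IsPullback (pullback.fst c β) (pullback.snd c β) c β := IsPullback.of_hasPullback _ _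
    have sB := sV.map (AlgSp.yon S)
    rw [hc] at sB
    let l : (AlgSp.yon S).obj (pullback c β) ⟶ pullback b ((AlgSp.yon S).map β) :=
      pullback.lift ((AlgSp.yon S).map (pullback.fst c β) ≫ p)
        ((AlgSp.yon S).map (pullback.snd c β)) (by rw [Category.assoc]; exact sB.w)
    have hl1 : l ≫ pullback.fst _ _ = (AlgSp.yon S).map (pullback.fst c β) ≫ p :=
      pullback.lift_fst _ _ _
    have hl2 : l ≫ pullback.snd _ _ = (AlgSp.yon S).map (pullback.snd c β) :=
      pullback.lift_snd _ _ _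
    have sC : IsPullback ((AlgSp.yon S).map (pullback.fst c β)) l p
        (pullback.fst b ((AlgSp.yon S).map β)) := by
      refine IsPullback.of_bot ?_ hl1.symm sA
      rw [hl2]
      exact sB
    have hle : AlgSp.RepWith @Etale l :=
      MorphismProperty.of_isPullback (P := AlgSp.RepWith @Etale) sC hpe
    haveI : IsReduced (pullback c β).left :=
      Groth.Agent.Lib.Helper12.FieldBC.isReduced_of_chart hP l hle
    have sS := sV.map (Over.forget S)
    simp only [Over.forget_map] at sS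
    have hβs : Surjective β.left := by
      refine ⟨fun x => ⟨IsLocalRing.closedPoint Ω, ?_⟩⟩
      exact (inferInstance : Subsingleton (PrimeSpectrum k.K)).elim _ _
    have hβf : Flat β.left := by
      rw [← Spec.map_preimage β.left, HasRingHomProperty.Spec_iff (P := @Flat)]
      letI := (Spec.preimage β.left).hom.toAlgebra
      exact (RingHom.flat_algebraMap_iff (R := k.K) (S := Ω)).2 inferInstance
    haveI : Flat (pullback.fst c β).left := MorphismProperty.of_isPullback (P := @Flat) sS.flip hβf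
    haveI : Surjective (pullback.fst c β).left :=
      MorphismProperty.of_isPullback (P := @Surjective) sS.flip hβs
    have hU : IsReduced U.left :=
      Groth.Agent.Lib.Helper12.Reduced.isReduced_of_flat_of_surjective (pullback.fst c β).left
    exact ⟨U, p, hpe, hps, hU⟩
  tfae_finish

end Groth.Agent.S10686
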