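import Groth.Statements.S10678
import Mathlib
import Groth.Agent.Lib.H5bFibDimBC
import Groth.Agent.Lib.H5bIntDimSp
import Groth.Agent.S9874
import Groth.Agent.S10175

set_option autoImplicit false
universe u
open CategoryTheory CategoryTheory.Limits AlgebraicGeometry
open AlgSp

namespace Groth.Agent.S10678

lemma map_toHom_eq {S : Scheme.{u}} {Y : AlgSp.Sp S} (k : AlgSp.FieldPt Y)
    (w : AlgSp.Points ((AlgSp.yon S).obj k.pt)) : AlgSp.Points.map k.toHom w = AlgSp.Points.mk k := by
  obtain ⟨s, rfl⟩ := (AlgSp.Points.schemeHomeo k.pt).surjective w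
  show AlgSp.Points.map k.toHom (AlgSp.Points.ofPt (𝟙 _) s) = _
  rw [AlgSp.Points.map_ofPt, Category.id_comp]
  exact AlgSp.Points.ofPt_toHom k s

/-- For a morphism f : X ⟶ Y of finite type between algebraic spaces over S, a point y of |Y| and any
field point k of Y in the class of y, with fibre X_k (pullback in fppf sheaves): the dimension of
X_k (supremum of the dimensions of its etale scheme charts) is -∞ exactly when y lies outside the
image of |X|, and for every natural number d it is at most d exactly when f has relative dimension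
at most d at every point of |X| over y (some etale chart diagram through the point whose top arrow
has local fibre dimension at most d there). -/
theorem result {S : Scheme.{u}} {X Y : AlgSp.Space S} (f : X ⟶ Y) (hf : AlgSp.IsFiniteTypeMor f.hom)
    (y : AlgSp.Points Y.obj) (k : AlgSp.FieldPt Y.obj) (hk : AlgSp.Points.mk k = y)
    (Xk : AlgSp.Sp S) (fst : Xk ⟶ X.obj) (snd : Xk ⟶ (AlgSp.yon S).obj k.pt) (h : IsPullback fst snd f.hom k.toHom) :
    (AlgSp.dim Xk = ⊥ ↔ y ∉ Set.range (AlgSp.Points.map f.hom)) ∧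
      ∀ d : ℕ, (AlgSp.dim Xk ≤ d ↔
        ∀ x : AlgSp.Points X.obj, AlgSp.Points.map f.hom x = y →
          AlgSp.HasAtMor (fun _ _ h u => FlatMor.fibreDimAt h u ≤ (d : WithBot ℕ∞)) f.hom x) := by
  have hXk : AlgSp.IsAlgSpace Xk :=
    Groth.Agent.S9874.isAlgSpace_of_isPullback Y.property.diag X.property
      (AlgSp.IsAlgSpace.yon_obj k.pt) h
  have hsub : Subsingleton ↥k.pt.left :=
    show Subsingleton ↥(Spec (CommRingCat.of k.K)) from inferInstance
  -- points of the fibre lie over `y`
  have hover : ∀ z : AlgSp.Points Xk, AlgSp.Points.map f.hom (AlgSp.Points.map fst z) = y := by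
    intro z
    rw [← AlgSp.Points.map_comp, h.w, AlgSp.Points.map_comp, map_toHom_eq, hk]
  -- points of `X` over `y` lift to the fibre
  have hlift : ∀ x : AlgSp.Points X.obj, AlgSp.Points.map f.hom x = y →
      ∃ z : AlgSp.Points Xk, AlgSp.Points.map fst z = x := by
    intro x hx
    obtain ⟨s⟩ : Nonempty ↥k.pt.left :=
      show Nonempty ↥(Spec (CommRingCat.of k.K)) from inferInstance
    obtain ⟨z, -, hz⟩ := Groth.Agent.S10175.exists_point_of_isPullback h.flip
      (AlgSp.Points.ofScheme k.pt s) x (by rw [map_toHom_eq, hk, hx])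
    exact ⟨z, hz⟩
  -- the key comparison
  have key : ∀ {T : Over S} (c : (AlgSp.yon S).obj T ⟶ Xk) (hc : AlgSp.RepWith @Etale c)
      (t : ↥T.left) (R : WithBot ℕ∞ → Prop),
      AlgSp.HasAtMor (fun _ _ h u => R (FlatMor.fibreDimAt h u)) f.hom
        (AlgSp.Points.map fst (AlgSp.Points.ofPt c t)) ↔ R (FlatMor.localDim ↥T.left t) := by
    intro T c hc t R
    rw [← Groth.Agent.Lib.H5bFibDimBC.hasAtMor_fibreDimAt_baseChange_iff X.property Y.property
      (AlgSp.IsAlgSpace.yon_obj k.pt) h hf.1 (AlgSp.Points.ofPt c t) R]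
    exact Groth.Agent.Lib.H5bFibDimBC.hasAtMor_fibreDimAt_to_field_iff snd c hc t R
  obtain ⟨T₀, c₀, hc₀, hc₀s⟩ := hXk.atlas
  refine ⟨?_, fun d => ?_⟩
  · constructor
    · rintro hbot ⟨x, hx⟩
      obtain ⟨z, hz⟩ := hlift x hx
      obtain ⟨t, ht⟩ := Groth.Agent.S10177.surjective_ofPt c₀ hc₀s z
      have : Nonempty ↥T₀.left := ⟨t⟩
      have h1 : (0 : WithBot ℕ∞) ≤ AlgSp.dim Xk :=
        (Groth.Agent.Lib.Helper7.TopDim.topologicalKrullDim_nonneg).trans
          (Groth.Agent.Lib.H5bIntDimSp.dim_chart_le c₀ hc₀)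
      rw [hbot] at h1
      exact absurd h1 (by simp)
    · intro hy
      rw [AlgSp.dim, eq_bot_iff]
      refine iSup_le fun T => iSup_le fun c => iSup_le fun hc => ?_
      have hemp : IsEmpty ↥T.left := by
        refine ⟨fun t => hy ⟨AlgSp.Points.map fst (AlgSp.Points.ofPt c t), hover _⟩⟩
      have : IsEmpty (TopologicalSpace.IrreducibleCloseds ↥T.left) :=
        ⟨fun Z => hemp.false Z.isIrreducible.nonempty.some⟩
      rw [topologicalKrullDim, Order.krullDim_eq_bot]
  · constructor
    · intro hdim x hx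
      obtain ⟨z, rfl⟩ := hlift x hx
      obtain ⟨t, rfl⟩ := Groth.Agent.S10177.surjective_ofPt c₀ hc₀s z
      rw [key c₀ hc₀ t (fun e => e ≤ (d : WithBot ℕ∞))]
      exact (Groth.Agent.Lib.Helper7.TopDim.localDim_le_dim t).trans
        ((Groth.Agent.Lib.H5bIntDimSp.dim_chart_le c₀ hc₀).trans hdim)
    · intro H
      rw [AlgSp.dim]
      refine iSup_le fun T => iSup_le fun c => iSup_le fun hc => ?_
      rw [Groth.Agent.Lib.Helper7.TopDim.topologicalKrullDim_eq_iSup_localDim]
      refine iSup_le fun t => ?_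
      exact (key c hc t (fun e => e ≤ (d : WithBot ℕ∞))).1 (H _ (hover _))

end Groth.Agent.S10678
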