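import Groth.Statements.S10466
import Mathlib
import Groth.Agent.S9911
import Groth.Agent.S10175
import Groth.Prelude.Def_AlgSpDec

set_option autoImplicit false
universe u
open CategoryTheory CategoryTheory.Limits AlgebraicGeometry Topology TopologicalSpace
open AlgSp

namespace Groth.Agent.S10466

variable {S : Scheme.{u}}

/-- `X × h_K` is the fibre product of `X × Y ⟶ Y` and `h_K ⟶ Y`. -/
lemma isPullback_prod_map {X Y H : AlgSp.Sp S} (y : H ⟶ Y) :
    IsPullback (Limits.prod.map (𝟙 X) y) (Limits.prod.snd : X ⨯ H ⟶ H)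
      (Limits.prod.snd : X ⨯ Y ⟶ Y) y := by
  refine IsPullback.mk' (by rw [prod.map_snd]) ?_ ?_
  · intro T φ φ' h1 h2
    apply Limits.prod.hom_ext
    · have := congrArg (· ≫ (Limits.prod.fst : X ⨯ Y ⟶ X)) h1
      simpa only [Category.assoc, prod.map_fst, Category.comp_id] using this
    · exact h2
  · intro T a b hab
    refine ⟨prod.lift (a ≫ Limits.prod.fst) b, ?_, ?_⟩
    · apply Limits.prod.hom_ext
      · rw [Category.assoc, prod.map_fst, Category.comp_id, prod.lift_fst]
      · rw [Category.assoc, prod.map_snd, ← Category.assoc, prod.lift_snd, hab]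
    · rw [prod.lift_snd]

lemma fibre_connected {X Y : AlgSp.Sp S} {K : Type u} [Field K]
    (str : Spec (CommRingCat.of K) ⟶ S) (y : (AlgSp.yon S).obj (Over.mk str) ⟶ Y)
    (s₀ : ↥(Over.mk str).left)
    (hconn : ConnectedSpace (AlgSp.Points (X ⨯ (AlgSp.yon S).obj (Over.mk str)))) :
    IsConnected (AlgSp.Points.map (Limits.prod.snd : X ⨯ Y ⟶ Y) ⁻¹' {AlgSp.Points.ofPt y s₀}) := by
  have sq := isPullback_prod_map (X := X) y
  haveI : Subsingleton ↥(Over.mk str).left :=
    (inferInstance : Subsingleton (PrimeSpectrum K))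
  haveI : Subsingleton (AlgSp.Points ((AlgSp.yon S).obj (Over.mk str))) :=
    (AlgSp.Points.schemeHomeo (Over.mk str)).symm.injective.subsingleton
  have hy : AlgSp.Points.ofPt y s₀ = AlgSp.Points.map y (AlgSp.Points.ofPt (𝟙 _) s₀) := by
    rw [AlgSp.Points.map_ofPt, Category.id_comp]
  have hfib : AlgSp.Points.map (Limits.prod.snd : X ⨯ Y ⟶ Y) ⁻¹' {AlgSp.Points.ofPt y s₀} =
      Set.range (AlgSp.Points.map (Limits.prod.map (𝟙 X) y)) := by
    ext z
    constructor
    · intro hz
      have hz' : AlgSp.Points.map (Limits.prod.snd : X ⨯ Y ⟶ Y) z =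
          AlgSp.Points.map y (AlgSp.Points.ofPt (𝟙 _) s₀) := by
        rw [← hy]; exact hz
      obtain ⟨p, hp1, -⟩ := Groth.Agent.S10175.exists_point_of_isPullback sq z _ hz'
      exact ⟨p, hp1⟩
    · rintro ⟨w, rfl⟩
      change AlgSp.Points.map _ (AlgSp.Points.map _ w) = _
      rw [← AlgSp.Points.map_comp, prod.map_snd, AlgSp.Points.map_comp, hy]
      congr 1
      exact Subsingleton.elim _ _
  rw [hfib]
  exact isConnected_range (AlgSp.Points.continuous_map _)

/-- Let k be a field and X, Y algebraic spaces over k with X geometrically connected over k. Then the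
projection X ×_k Y ⟶ Y induces a bijection between connected components of |X ×_k Y| and of |Y|. -/
theorem result (k : Type u) [Field k]
    (X Y : AlgSp.Space (Spec (CommRingCat.of k))) (hX : (∀ (K : Type u) [Field K] [Algebra k K], ConnectedSpace (AlgSp.Points (X.obj ⨯ (AlgSp.yon (Spec (CommRingCat.of k))).obj (Over.mk (Spec.map (CommRingCat.ofHom (algebraMap k K)))))))) :
    Function.Bijective (Continuous.connectedComponentsMap
      (AlgSp.Points.continuous_map (Limits.prod.snd : X.obj ⨯ Y.obj ⟶ Y.obj))) := by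
  let Sk : Scheme.{u} := Spec (CommRingCat.of k)
  have hT : IsTerminal ((AlgSp.yon Sk).obj (Over.mk (𝟙 Sk))) :=
    IsTerminal.isTerminalObj (AlgSp.yon Sk) _ Over.mkIdTerminal
  have sq : IsPullback (Limits.prod.fst : X.obj ⨯ Y.obj ⟶ X.obj) Limits.prod.snd
      (hT.from X.obj) (hT.from Y.obj) :=
    IsPullback.of_isLimit_binaryFan_of_isTerminal (prodIsProd X.obj Y.obj) hT
  have huo : AlgSp.IsUnivOpenMor (hT.from X.obj) :=
    Groth.Agent.S9911.result X (𝟙 Sk) (ObjectProperty.homMk (hT.from X.obj))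
  have hopen : IsOpenMap (AlgSp.Points.map (Limits.prod.snd : X.obj ⨯ Y.obj ⟶ Y.obj)) :=
    huo Y.property (hT.from Y.obj) Limits.prod.fst Limits.prod.snd sq
  have hfib : ∀ y : AlgSp.Points Y.obj,
      IsConnected (AlgSp.Points.map (Limits.prod.snd : X.obj ⨯ Y.obj ⟶ Y.obj) ⁻¹' {y}) := by
    intro y
    obtain ⟨q, rfl⟩ := AlgSp.Points.mk_surjective y
    letI : Algebra k q.K := (Spec.preimage q.str).hom.toAlgebra
    have e : Spec.map (CommRingCat.ofHom (algebraMap k q.K)) = q.str := Spec.map_preimage q.str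
    have hconn := hX q.K
    rw [e] at hconn
    rw [← AlgSp.Points.ofPt_toHom q (IsLocalRing.closedPoint q.K)]
    exact fibre_connected q.str q.toHom _ hconn
  have hsurj : Function.Surjective (AlgSp.Points.map (Limits.prod.snd : X.obj ⨯ Y.obj ⟶ Y.obj)) :=
    fun y => (hfib y).nonempty
  have hco : Topology.IsCoinducing (AlgSp.Points.map (Limits.prod.snd : X.obj ⨯ Y.obj ⟶ Y.obj)) :=
    (hopen.isQuotientMap (AlgSp.Points.continuous_map _) hsurj).isCoinducing
  exact hco.connectedComponentsMap_bijective hfib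

end Groth.Agent.S10466
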