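import Groth.Statements.S10501
import Mathlib
import Groth.Agent.S10466
import Groth.Agent.Lib.H5bFibCrit
import Groth.Agent.Lib.Helper14GeomIrr

set_option autoImplicit false
universe u
open CategoryTheory CategoryTheory.Limits AlgebraicGeometry Topology TopologicalSpace
open AlgSp

namespace Groth.Agent.S10501


open TensorProduct

/-- connectedness of the space of points transfers along an isomorphism of sheaves. -/
lemma connected_of_iso {S : Scheme.{u}} {A B : AlgSp.Sp S} (e : A ≅ B)
    (h : ConnectedSpace (AlgSp.Points A)) : ConnectedSpace (AlgSp.Points B) := by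
  have hs : Function.Surjective (AlgSp.Points.map e.hom) := fun b =>
    ⟨AlgSp.Points.map e.inv b, by
      rw [← AlgSp.Points.map_comp, e.inv_hom_id, AlgSp.Points.map_id]⟩
  exact hs.connectedSpace (AlgSp.Points.continuous_map e.hom)

/-- over a separably closed field, the product of two field extensions has connected space of
points. -/
lemma connected_prod_field (k : Type u) [Field k] [IsSepClosed k] (K L : Type u) [Field K] [Field L]
    [Algebra k K] [Algebra k L] :
    ConnectedSpace (AlgSp.Points
      ((AlgSp.yon (Spec (CommRingCat.of k))).obj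
          (Over.mk (Spec.map (CommRingCat.ofHom (algebraMap k K)))) ⨯
        (AlgSp.yon (Spec (CommRingCat.of k))).obj
          (Over.mk (Spec.map (CommRingCat.ofHom (algebraMap k L)))))) := by
  let Sk : Scheme.{u} := Spec (CommRingCat.of k)
  let fK : Spec (CommRingCat.of K) ⟶ Sk := Spec.map (CommRingCat.ofHom (algebraMap k K))
  let fL : Spec (CommRingCat.of L) ⟶ Sk := Spec.map (CommRingCat.ofHom (algebraMap k L))
  have hT : IsTerminal ((AlgSp.yon Sk).obj (Over.mk (𝟙 Sk))) :=
    IsTerminal.isTerminalObj (AlgSp.yon Sk) _ Over.mkIdTerminal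
  have sq1 : IsPullback
      (Limits.prod.fst : (AlgSp.yon Sk).obj (Over.mk fK) ⨯ (AlgSp.yon Sk).obj (Over.mk fL) ⟶ _)
      Limits.prod.snd (hT.from _) (hT.from _) :=
    IsPullback.of_isLimit_binaryFan_of_isTerminal (prodIsProd _ _) hT
  let P : Over Sk := Over.mk (pullback.fst fK fL ≫ fK)
  let p1 : P ⟶ Over.mk fK := Over.homMk (pullback.fst fK fL) rfl
  let p2 : P ⟶ Over.mk fL := Over.homMk (pullback.snd fK fL) pullback.condition.symm
  let tK : Over.mk fK ⟶ Over.mk (𝟙 Sk) := Over.homMk fK (Category.comp_id _)
  let tL : Over.mk fL ⟶ Over.mk (𝟙 Sk) := Over.homMk fL (Category.comp_id _)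
  have sq2 : IsPullback ((AlgSp.yon Sk).map p1) ((AlgSp.yon Sk).map p2) ((AlgSp.yon Sk).map tK)
      ((AlgSp.yon Sk).map tL) :=
    Groth.Agent.Lib.H5bFibCrit.isPullback_yon_of_left p1 p2 tK tL
      (by apply Over.OverMorphism.ext; exact pullback.condition) (IsPullback.of_hasPullback fK fL)
  have sq2' : IsPullback ((AlgSp.yon Sk).map p1) ((AlgSp.yon Sk).map p2) (hT.from _) (hT.from _) := by
    rw [hT.hom_ext (hT.from _) ((AlgSp.yon Sk).map tK), hT.hom_ext (hT.from _) ((AlgSp.yon Sk).map tL)]
    exact sq2
  have e := sq2'.isoIsPullback _ _ sq1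
  have : IrreducibleSpace (Spec (CommRingCat.of (K ⊗[k] L))) := by
    change IrreducibleSpace (PrimeSpectrum (K ⊗[k] L))
    rw [PrimeSpectrum.irreducibleSpace_iff_isPrime_nilradical]
    refine Groth.Agent.Lib.Helper14.GeomIrr.isPrime_nilradical_tensor_of_isSepClosed
      (k := k) (S := L) ?_ K
    rw [nilradical_eq_zero]
    exact Ideal.isPrime_bot
  have : IrreducibleSpace ↥(pullback fK fL) :=
    (pullbackSpecIso k K L).hom.homeomorph.irreducibleSpace_iff.mpr inferInstance
  have : ConnectedSpace ↥P.left := (inferInstance : ConnectedSpace ↥(pullback fK fL))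
  have hP : ConnectedSpace (AlgSp.Points ((AlgSp.yon Sk).obj P)) :=
    (AlgSp.Points.schemeHomeo P).surjective.connectedSpace (AlgSp.Points.schemeHomeo P).continuous
  exact connected_of_iso e hP

/-- Over a separably closed field k, an algebraic space X is geometrically connected if and only if it
is connected. -/
theorem result (k : Type u) [Field k] [IsSepClosed k]
    (X : AlgSp.Space (Spec (CommRingCat.of k))) :
    (∀ (K : Type u) [Field K] [Algebra k K], ConnectedSpace (AlgSp.Points (X.obj ⨯ (AlgSp.yon (Spec (CommRingCat.of k))).obj (Over.mk (Spec.map (CommRingCat.ofHom (algebraMap k K))))))) ↔ ConnectedSpace (AlgSp.Points X.obj) := by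
  let Sk : Scheme.{u} := Spec (CommRingCat.of k)
  constructor
  · intro h
    have hk := h k
    have e1 : Spec.map (CommRingCat.ofHom (algebraMap k k)) = 𝟙 Sk := by
      rw [Algebra.algebraMap_self]
      exact Spec.map_id _
    rw [e1] at hk
    have hs : Function.Surjective (AlgSp.Points.map
        (Limits.prod.fst : X.obj ⨯ (AlgSp.yon Sk).obj (Over.mk (𝟙 Sk)) ⟶ X.obj)) := by
      have hT : IsTerminal ((AlgSp.yon Sk).obj (Over.mk (𝟙 Sk))) :=
        IsTerminal.isTerminalObj (AlgSp.yon Sk) _ Over.mkIdTerminal
      intro x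
      refine ⟨AlgSp.Points.map (prod.lift (𝟙 X.obj) (hT.from X.obj)) x, ?_⟩
      rw [← AlgSp.Points.map_comp, prod.lift_fst, AlgSp.Points.map_id]
    exact hs.connectedSpace (AlgSp.Points.continuous_map _)
  · intro hX K _ _
    let hK : AlgSp.Space Sk := ⟨(AlgSp.yon Sk).obj
      (Over.mk (Spec.map (CommRingCat.ofHom (algebraMap k K)))), AlgSp.IsAlgSpace.yon_obj _⟩
    have hbij := Groth.Agent.S10466.result k hK X (fun L _ _ => connected_prod_field k K L)
    have : Subsingleton (ConnectedComponents (AlgSp.Points (hK.obj ⨯ X.obj))) :=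
      hbij.1.subsingleton
    have : Nonempty (ConnectedComponents (AlgSp.Points (hK.obj ⨯ X.obj))) := by
      obtain ⟨c, -⟩ := hbij.2 (Classical.arbitrary _)
      exact ⟨c⟩
    have : Nonempty (AlgSp.Points (hK.obj ⨯ X.obj)) :=
      ConnectedComponents.nonempty_iff_nonempty.1 inferInstance
    have : PreconnectedSpace (AlgSp.Points (hK.obj ⨯ X.obj)) := by
      rw [preconnectedSpace_iff_connectedComponent]
      intro x
      apply Set.eq_univ_of_forall
      intro y
      exact ConnectedComponents.coe_eq_coe'.1 (Subsingleton.elim _ _)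
    have hc : ConnectedSpace (AlgSp.Points (hK.obj ⨯ X.obj)) :=
      { toPreconnectedSpace := inferInstance, toNonempty := inferInstance }
    exact connected_of_iso (Limits.prod.braiding hK.obj X.obj) hc

end Groth.Agent.S10501
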