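import Groth.Statements.S10468
import Mathlib
import Groth.Agent.S10501
import Groth.Agent.S9874

set_option autoImplicit false
universe u
open CategoryTheory CategoryTheory.Limits AlgebraicGeometry Topology TopologicalSpace
open AlgSp

namespace Groth.Agent.S10468


open TensorProduct

/-- the fibre of a base change over a field point is the image of any fibre product with the point. -/
lemma fibre_connected' {S : Scheme.{u}} {Y P Q : AlgSp.Sp S} (p1 : P ⟶ Y) {K : Type u} [Field K]
    (str : Spec (CommRingCat.of K) ⟶ S) (y : (AlgSp.yon S).obj (Over.mk str) ⟶ Y)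
    (s₀ : ↥(Over.mk str).left) (l : Q ⟶ P) (a : Q ⟶ (AlgSp.yon S).obj (Over.mk str))
    (sq : IsPullback l a p1 y) (hconn : ConnectedSpace (AlgSp.Points Q)) :
    IsConnected (AlgSp.Points.map p1 ⁻¹' {AlgSp.Points.ofPt y s₀}) := by
  have : Subsingleton ↥(Over.mk str).left := (inferInstance : Subsingleton (PrimeSpectrum K))
  have : Subsingleton (AlgSp.Points ((AlgSp.yon S).obj (Over.mk str))) :=
    (AlgSp.Points.schemeHomeo (Over.mk str)).symm.injective.subsingleton
  have hy : AlgSp.Points.ofPt y s₀ = AlgSp.Points.map y (AlgSp.Points.ofPt (𝟙 _) s₀) := by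
    rw [AlgSp.Points.map_ofPt, Category.id_comp]
  have hfib : AlgSp.Points.map p1 ⁻¹' {AlgSp.Points.ofPt y s₀} =
      Set.range (AlgSp.Points.map l) := by
    ext z
    constructor
    · intro hz
      have hz' : AlgSp.Points.map p1 z = AlgSp.Points.map y (AlgSp.Points.ofPt (𝟙 _) s₀) := by
        rw [← hy]; exact hz
      obtain ⟨p, hp1, -⟩ := Groth.Agent.S10175.exists_point_of_isPullback sq z _ hz'
      exact ⟨p, hp1⟩
    · rintro ⟨w, rfl⟩
      change AlgSp.Points.map _ (AlgSp.Points.map _ w) = _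
      rw [← AlgSp.Points.map_comp, sq.w, AlgSp.Points.map_comp, hy]
      congr 1
      exact Subsingleton.elim _ _
  rw [hfib]
  exact isConnected_range (AlgSp.Points.continuous_map _)

/-- connectedness passes from `X_{k̄}` to `X_Ω` for `Ω` an extension of a separably closed `k̄`. -/
lemma connected_bc_of_isSepClosed (k : Type u) [Field k] (X : AlgSp.Space (Spec (CommRingCat.of k)))
    (kbar Ω : Type u) [Field kbar] [Field Ω] [Algebra k kbar] [Algebra k Ω] [Algebra kbar Ω]
    [IsScalarTower k kbar Ω] [IsSepClosed kbar]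
    (h : ConnectedSpace (AlgSp.Points (X.obj ⨯ (AlgSp.yon (Spec (CommRingCat.of k))).obj
      (Over.mk (Spec.map (CommRingCat.ofHom (algebraMap k kbar))))))) :
    ConnectedSpace (AlgSp.Points (X.obj ⨯ (AlgSp.yon (Spec (CommRingCat.of k))).obj
      (Over.mk (Spec.map (CommRingCat.ofHom (algebraMap k Ω)))))) := by
  let Sk : Scheme.{u} := Spec (CommRingCat.of k)
  let Tb : Over Sk := Over.mk (Spec.map (CommRingCat.ofHom (algebraMap k kbar)))
  let TΩ : Over Sk := Over.mk (Spec.map (CommRingCat.ofHom (algebraMap k Ω)))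
  have hγw : Spec.map (CommRingCat.ofHom (algebraMap kbar Ω)) ≫
      Spec.map (CommRingCat.ofHom (algebraMap k kbar)) =
      Spec.map (CommRingCat.ofHom (algebraMap k Ω)) := by
    rw [← Spec.map_comp, ← CommRingCat.ofHom_comp, ← IsScalarTower.algebraMap_eq]
  let γ : TΩ ⟶ Tb := Over.homMk (Spec.map (CommRingCat.ofHom (algebraMap kbar Ω))) hγw
  let g : (AlgSp.yon Sk).obj TΩ ⟶ (AlgSp.yon Sk).obj Tb := (AlgSp.yon Sk).map γ
  let p1 : X.obj ⨯ (AlgSp.yon Sk).obj TΩ ⟶ X.obj ⨯ (AlgSp.yon Sk).obj Tb :=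
    Limits.prod.map (𝟙 X.obj) g
  have t : IsPullback (Limits.prod.snd : X.obj ⨯ (AlgSp.yon Sk).obj TΩ ⟶ _) p1 g
      (Limits.prod.snd : X.obj ⨯ (AlgSp.yon Sk).obj Tb ⟶ _) :=
    (Groth.Agent.S10466.isPullback_prod_map (X := X.obj) g).flip
  -- the base change is an algebraic space
  have hT : IsTerminal ((AlgSp.yon Sk).obj (Over.mk (𝟙 Sk))) :=
    IsTerminal.isTerminalObj (AlgSp.yon Sk) _ Over.mkIdTerminal
  have hYb : AlgSp.IsAlgSpace (X.obj ⨯ (AlgSp.yon Sk).obj Tb) :=
    Groth.Agent.S9874.isAlgSpace_of_isPullback (AlgSp.IsAlgSpace.yon_obj _).diag X.property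
      (AlgSp.IsAlgSpace.yon_obj Tb)
      (IsPullback.of_isLimit_binaryFan_of_isTerminal (prodIsProd _ _) hT)
  -- openness
  have huo : AlgSp.IsUnivOpenMor g :=
    Groth.Agent.S9911.result ⟨(AlgSp.yon Sk).obj TΩ, AlgSp.IsAlgSpace.yon_obj _⟩
      (Spec.map (CommRingCat.ofHom (algebraMap k kbar))) (ObjectProperty.homMk g)
  have hopen : IsOpenMap (AlgSp.Points.map p1) := huo hYb Limits.prod.snd Limits.prod.snd p1 t
  -- fibres
  have hfib : ∀ y : AlgSp.Points (X.obj ⨯ (AlgSp.yon Sk).obj Tb),
      IsConnected (AlgSp.Points.map p1 ⁻¹' {y}) := by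
    intro y
    obtain ⟨q, rfl⟩ := AlgSp.Points.mk_surjective y
    rw [← AlgSp.Points.ofPt_toHom q (IsLocalRing.closedPoint q.K)]
    obtain ⟨φ, hφ⟩ := (AlgSp.yon Sk).map_surjective (q.toHom ≫ Limits.prod.snd)
    letI : Algebra kbar q.K := (Spec.preimage φ.left).hom.toAlgebra
    have e : Spec.map (CommRingCat.ofHom (algebraMap kbar q.K)) = φ.left := Spec.map_preimage φ.left
    let R : Over Sk := Over.mk (pullback.fst φ.left γ.left ≫ q.pt.hom)
    let r1 : R ⟶ q.pt := Over.homMk (pullback.fst φ.left γ.left) rfl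
    let r2 : R ⟶ TΩ := Over.homMk (pullback.snd φ.left γ.left) (by
      show pullback.snd φ.left γ.left ≫ TΩ.hom = pullback.fst φ.left γ.left ≫ q.pt.hom
      rw [← Over.w γ, ← Over.w φ, ← Category.assoc, ← Category.assoc, pullback.condition])
    have s : IsPullback ((AlgSp.yon Sk).map r2) ((AlgSp.yon Sk).map r1) ((AlgSp.yon Sk).map γ)
        ((AlgSp.yon Sk).map φ) :=
      Groth.Agent.Lib.H5bFibCrit.isPullback_yon_of_left r2 r1 γ φ
        (by apply Over.OverMorphism.ext; exact pullback.condition.symm)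
        (IsPullback.of_hasPullback φ.left γ.left).flip
    let l : (AlgSp.yon Sk).obj R ⟶ X.obj ⨯ (AlgSp.yon Sk).obj TΩ :=
      prod.lift ((AlgSp.yon Sk).map r1 ≫ q.toHom ≫ Limits.prod.fst) ((AlgSp.yon Sk).map r2)
    have hl2 : l ≫ Limits.prod.snd = (AlgSp.yon Sk).map r2 := prod.lift_snd _ _
    have hp : l ≫ p1 = (AlgSp.yon Sk).map r1 ≫ q.toHom := by
      apply Limits.prod.hom_ext
      · rw [Category.assoc, prod.map_fst, Category.comp_id, prod.lift_fst, Category.assoc]
      · rw [Category.assoc, prod.map_snd, ← Category.assoc, hl2, s.w, Category.assoc, hφ]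
    have s' : IsPullback (l ≫ Limits.prod.snd) ((AlgSp.yon Sk).map r1) g
        (q.toHom ≫ Limits.prod.snd) := by
      rw [hl2, ← hφ]
      exact s
    have sqf : IsPullback l ((AlgSp.yon Sk).map r1) p1 q.toHom := IsPullback.of_right s' hp t
    have : IrreducibleSpace (Spec (CommRingCat.of (q.K ⊗[kbar] Ω))) := by
      change IrreducibleSpace (PrimeSpectrum (q.K ⊗[kbar] Ω))
      rw [PrimeSpectrum.irreducibleSpace_iff_isPrime_nilradical]
      refine Groth.Agent.Lib.Helper14.GeomIrr.isPrime_nilradical_tensor_of_isSepClosed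
        (k := kbar) (S := Ω) ?_ q.K
      rw [nilradical_eq_zero]
      exact Ideal.isPrime_bot
    have hirr : IrreducibleSpace ↥(pullback φ.left γ.left) := by
      rw [← e]
      exact (pullbackSpecIso kbar q.K Ω).hom.homeomorph.irreducibleSpace_iff.mpr inferInstance
    have : ConnectedSpace ↥R.left := (inferInstance : ConnectedSpace ↥(pullback φ.left γ.left))
    have hR : ConnectedSpace (AlgSp.Points ((AlgSp.yon Sk).obj R)) :=
      (AlgSp.Points.schemeHomeo R).surjective.connectedSpace (AlgSp.Points.schemeHomeo R).continuous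
    exact fibre_connected' p1 q.str q.toHom _ l _ sqf hR
  have hsurj : Function.Surjective (AlgSp.Points.map p1) := fun y => (hfib y).nonempty
  have hco : Topology.IsCoinducing (AlgSp.Points.map p1) :=
    (hopen.isQuotientMap (AlgSp.Points.continuous_map _) hsurj).isCoinducing
  have hbij := hco.connectedComponentsMap_bijective hfib
  have : Subsingleton (ConnectedComponents (AlgSp.Points (X.obj ⨯ (AlgSp.yon Sk).obj TΩ))) :=
    hbij.1.subsingleton
  have : Nonempty (ConnectedComponents (AlgSp.Points (X.obj ⨯ (AlgSp.yon Sk).obj TΩ))) := by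
    obtain ⟨c, -⟩ := hbij.2 (Classical.arbitrary _)
    exact ⟨c⟩
  have : Nonempty (AlgSp.Points (X.obj ⨯ (AlgSp.yon Sk).obj TΩ)) :=
    ConnectedComponents.nonempty_iff_nonempty.1 inferInstance
  have : PreconnectedSpace (AlgSp.Points (X.obj ⨯ (AlgSp.yon Sk).obj TΩ)) := by
    rw [preconnectedSpace_iff_connectedComponent]
    intro x
    apply Set.eq_univ_of_forall
    intro y
    exact ConnectedComponents.coe_eq_coe'.1 (Subsingleton.elim _ _)
  exact { toPreconnectedSpace := inferInstance, toNonempty := inferInstance }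

/-- base change along a field extension is surjective on points. -/
lemma surjective_bc (k : Type u) [Field k] (X : AlgSp.Space (Spec (CommRingCat.of k)))
    (K Ω : Type u) [Field K] [Field Ω] [Algebra k K] [Algebra k Ω] [Algebra K Ω]
    [IsScalarTower k K Ω]
    (h : ConnectedSpace (AlgSp.Points (X.obj ⨯ (AlgSp.yon (Spec (CommRingCat.of k))).obj
      (Over.mk (Spec.map (CommRingCat.ofHom (algebraMap k Ω))))))) :
    ConnectedSpace (AlgSp.Points (X.obj ⨯ (AlgSp.yon (Spec (CommRingCat.of k))).obj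
      (Over.mk (Spec.map (CommRingCat.ofHom (algebraMap k K)))))) := by
  let Sk : Scheme.{u} := Spec (CommRingCat.of k)
  let TK : Over Sk := Over.mk (Spec.map (CommRingCat.ofHom (algebraMap k K)))
  let TΩ : Over Sk := Over.mk (Spec.map (CommRingCat.ofHom (algebraMap k Ω)))
  have hγw : Spec.map (CommRingCat.ofHom (algebraMap K Ω)) ≫
      Spec.map (CommRingCat.ofHom (algebraMap k K)) =
      Spec.map (CommRingCat.ofHom (algebraMap k Ω)) := by
    rw [← Spec.map_comp, ← CommRingCat.ofHom_comp, ← IsScalarTower.algebraMap_eq]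
  let γ : TΩ ⟶ TK := Over.homMk (Spec.map (CommRingCat.ofHom (algebraMap K Ω))) hγw
  let g : (AlgSp.yon Sk).obj TΩ ⟶ (AlgSp.yon Sk).obj TK := (AlgSp.yon Sk).map γ
  have sq := Groth.Agent.S10466.isPullback_prod_map (X := X.obj) g
  have : Subsingleton ↥TK.left := (inferInstance : Subsingleton (PrimeSpectrum K))
  have : Subsingleton (AlgSp.Points ((AlgSp.yon Sk).obj TK)) :=
    (AlgSp.Points.schemeHomeo TK).symm.injective.subsingleton
  have hs : Function.Surjective (AlgSp.Points.map (Limits.prod.map (𝟙 X.obj) g)) := by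
    intro z
    obtain ⟨p, hp, -⟩ := Groth.Agent.S10175.exists_point_of_isPullback sq z
      (AlgSp.Points.ofPt (𝟙 _) (IsLocalRing.closedPoint Ω)) (Subsingleton.elim _ _)
    exact ⟨p, hp⟩
  exact hs.connectedSpace (AlgSp.Points.continuous_map _)

/-- Let k be a field with separable algebraic closure k̄ and X an algebraic space over k. Then X is
geometrically connected if and only if X_{k̄} is connected. -/
theorem result (k : Type u) [Field k] (X : AlgSp.Space (Spec (CommRingCat.of k)))
    (kbar : Type u) [Field kbar] [Algebra k kbar] [IsSepClosure k kbar] :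
    (∀ (K : Type u) [Field K] [Algebra k K], ConnectedSpace (AlgSp.Points (X.obj ⨯ (AlgSp.yon (Spec (CommRingCat.of k))).obj (Over.mk (Spec.map (CommRingCat.ofHom (algebraMap k K))))))) ↔ ConnectedSpace (AlgSp.Points (X.obj ⨯ (AlgSp.yon (Spec (CommRingCat.of k))).obj (Over.mk (Spec.map (CommRingCat.ofHom (algebraMap k kbar)))))) := by
  constructor
  · intro h
    exact h kbar
  · intro h K _ _
    haveI : IsSepClosed kbar := IsSepClosure.sep_closed k
    obtain ⟨m, hm⟩ := Ideal.exists_maximal (K ⊗[k] kbar)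
    letI : Field ((K ⊗[k] kbar) ⧸ m) := Ideal.Quotient.field m
    let Ω : Type u := (K ⊗[k] kbar) ⧸ m
    letI : Algebra kbar Ω := ((Ideal.Quotient.mk m).comp
      (Algebra.TensorProduct.includeRight : kbar →ₐ[k] K ⊗[k] kbar).toRingHom).toAlgebra
    haveI : IsScalarTower k kbar Ω := IsScalarTower.of_algebraMap_eq (R := k) (S := kbar) (A := Ω) (fun x => by
      show (Ideal.Quotient.mk m) (algebraMap k (K ⊗[k] kbar) x) =
        (Ideal.Quotient.mk m) ((Algebra.TensorProduct.includeRight : kbar →ₐ[k] K ⊗[k] kbar)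
          (algebraMap k kbar x))
      rw [AlgHom.commutes])
    haveI : IsScalarTower k K Ω :=
      (inferInstance : IsScalarTower k K ((K ⊗[k] kbar) ⧸ m))
    exact surjective_bc k X K Ω (connected_bc_of_isSepClosed k X kbar Ω h)

end Groth.Agent.S10468
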