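import Groth.Statements.S10361
import Mathlib
import Groth.Agent.Lib.H5bFQ2

set_option autoImplicit false
universe u
open CategoryTheory CategoryTheory.Limits AlgebraicGeometry Topology TopologicalSpace
open AlgSp

namespace Groth.Agent.S10361

/-- (5) ⇒ (4): let S be a scheme and X an algebraic space over S. Suppose k is any field and Spec k ⟶ X
is a morphism which is representable quasi-compact. Then the point of |X| it defines is represented
by a monomorphism Spec k' ⟶ X which is representable quasi-compact. -/
theorem result {S : Scheme.{u}} (X : AlgSp.Space S)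
    (q : AlgSp.FieldPt X.obj) (hq : AlgSp.RepWith @QuasiCompact q.toHom) :
    ∃ p : AlgSp.FieldPt X.obj, AlgSp.Points.mk p = AlgSp.Points.mk q ∧ Mono p.toHom ∧
      AlgSp.RepWith @QuasiCompact p.toHom := by
  have hX := X.property
  obtain ⟨U, a, ha, has⟩ := hX.atlas
  obtain ⟨u, hu⟩ := Groth.Agent.S10177.surjective_ofPt a has (AlgSp.Points.mk q)
  have hqc : AlgSp.RepWith @QuasiCompact (AlgSp.FieldPt.ofPt a u).toHom :=
    Groth.Agent.Lib.H5bFQ2.repWith_quasiCompact_of_mk_eq hX q _ hu hq
  obtain ⟨p, hp1, hp2, hp3⟩ := Groth.Agent.Lib.H5bFQ2.exists_mono_of_chart_point hX a ha u hqc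
  exact ⟨p, hp1.trans hu, hp2, hp3⟩

end Groth.Agent.S10361
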