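import Groth.Statements.S10497
import Mathlib
import Groth.Agent.Lib.Helper12GeomRed
import Groth.Agent.Lib.Helper12FieldBC
import Groth.Agent.S10383
import Groth.Agent.S10351
import Groth.Agent.S10177

set_option autoImplicit false
universe u
open CategoryTheory CategoryTheory.Limits AlgebraicGeometry Topology TopologicalSpace
open AlgSp

namespace Groth.Agent.S10497


/-- every representable sheaf is decent. -/
lemma isDecent_yon_obj {S : Scheme.{u}} (T : Over S) : AlgSp.IsDecent ((AlgSp.yon S).obj T) := by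
  intro x
  obtain ⟨t, rfl⟩ := (AlgSp.Points.schemeHomeo T).surjective x
  refine ⟨AlgSp.FieldPt.ofPt (𝟙 _) t, rfl, ?_, ?_⟩
  · rw [AlgSp.FieldPt.toHom_ofPt, Category.comp_id]
    haveI : (AlgSp.yon S).PreservesMonomorphisms :=
      CategoryTheory.preservesMonomorphisms_of_preservesLimitsOfShape _
    refine @Functor.map_mono _ _ _ _ (AlgSp.yon S) _ _ _ _ ?_
    apply (Over.forget S).mono_of_mono_map
    show Mono (T.left.fromSpecResidueField t)
    infer_instance
  · rw [AlgSp.FieldPt.toHom_ofPt, Category.comp_id]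
    refine (AlgSp.repWith_yon_map_iff _ _).2 ?_
    show QuasiCompact (T.left.fromSpecResidueField t)
    haveI : Finite ↥(Spec (T.left.residueField t)) :=
      (inferInstance : Finite (PrimeSpectrum (T.left.residueField t)))
    exact Groth.Agent.S10351.quasiCompact_of_finite _

/-- Let k be a field and X a decent algebraic space over k. Then all base changes X_K to field
extensions K of k are integral exactly when X is geometrically reduced over k and every |X_K| is
irreducible. -/
theorem result (k : Type u) [Field k] (X : AlgSp.Space (Spec (CommRingCat.of k))) (hX : AlgSp.IsDecent X.obj) :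
    (∀ (K : Type u) [Field K] [Algebra k K], AlgSp.IsIntegralSp (X.obj ⨯ (AlgSp.yon (Spec (CommRingCat.of k))).obj (Over.mk (Spec.map (CommRingCat.ofHom (algebraMap k K)))))) ↔
      (∀ x : AlgSp.Points X.obj, (∃ (U : Over (Spec (CommRingCat.of k))) (a : (AlgSp.yon (Spec (CommRingCat.of k))).obj U ⟶ X.obj) (u : ↥U.left),
      AlgSp.RepWith @Etale a ∧ AlgSp.Points.ofPt a u = x ∧ FBase.IsGeomReducedAt U.hom u)) ∧
        ∀ (K : Type u) [Field K] [Algebra k K], IrreducibleSpace (AlgSp.Points (X.obj ⨯ (AlgSp.yon (Spec (CommRingCat.of k))).obj (Over.mk (Spec.map (CommRingCat.ofHom (algebraMap k K)))))) := by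
  let Sk : Scheme.{u} := Spec (CommRingCat.of k)
  obtain ⟨U, a, hae, has⟩ := X.property.atlas
  have hT : IsTerminal ((AlgSp.yon Sk).obj (Over.mk (𝟙 Sk))) :=
    IsTerminal.isTerminalObj (AlgSp.yon Sk) _ Over.mkIdTerminal
  constructor
  · intro h
    refine ⟨fun x => ?_, fun K _ _ => (h K).2.2⟩
    obtain ⟨u, hu⟩ := Groth.Agent.S10177.surjective_ofPt a has x
    refine ⟨U, a, u, hae, hu, ?_⟩
    intro K _ _ x' _
    have : IsReduced (FBase.bc U.hom K) :=
      Groth.Agent.Lib.Helper12.FieldBC.isReduced_bc_of_isReducedSp K (h K).1 a hae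
    infer_instance
  · rintro ⟨h1, h2⟩ K _ _
    refine ⟨?_, ?_, h2 K⟩
    · refine Groth.Agent.Lib.Helper12.FieldBC.isReducedSp_bc_of_isReduced K a hae has ?_
      have : ∀ x' : ↥(FBase.bc U.hom K), _root_.IsReduced ((FBase.bc U.hom K).presheaf.stalk x') := by
        intro x'
        obtain ⟨U₁, a₁, u₁, ha₁, hu₁, hg₁⟩ := h1 (AlgSp.Points.ofPt a ((FBase.bcπ U.hom K) x'))
        have := (Groth.Agent.Lib.Helper12.GeomRed.isGeomReducedAt_iff_of_ofPt_eq a₁ a ha₁ hae u₁
          ((FBase.bcπ U.hom K) x') hu₁).1 hg₁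
        exact this K x' rfl
      exact isReduced_of_isReduced_stalk _
    · have sq : IsPullback (Limits.prod.fst : X.obj ⨯ (AlgSp.yon Sk).obj
          (Over.mk (Spec.map (CommRingCat.ofHom (algebraMap k K)))) ⟶ X.obj) Limits.prod.snd
          (hT.from _) (hT.from _) :=
        IsPullback.of_isLimit_binaryFan_of_isTerminal (prodIsProd _ _) hT
      exact Groth.Agent.S10383.isDecent_of_isPullback (AlgSp.IsAlgSpace.yon_obj _).diag sq hX
        (isDecent_yon_obj _)

end Groth.Agent.S10497
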