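import Groth.Statements.S10423
import Mathlib
import Groth.Agent.S10351
import Groth.Agent.S10361
import Groth.Agent.S10497
import Groth.Agent.S9874
import Groth.Agent.S9912
import Groth.Agent.S9919

set_option autoImplicit false
set_option linter.style.haveILetI false
universe u
open CategoryTheory CategoryTheory.Limits AlgebraicGeometry Topology TopologicalSpace
open AlgSp

namespace Groth.Agent.S10423

open CategoryTheory.Limits Opposite MorphismProperty

variable {S : Scheme.{u}}

/-- A morphism of algebraic spaces over a scheme S which is representable, or which is quasi-separated,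
is decent (all its base changes to schemes are decent algebraic spaces). The implications through
reasonable and very reasonable morphisms are not part of this row. -/
theorem result {S : Scheme.{u}} {X Y : AlgSp.Space S} (f : X ⟶ Y) :
    (AlgSp.Representable f.hom → AlgSp.IsDecentMor f.hom) ∧
      (AlgSp.IsQuasiSeparatedMor f.hom → AlgSp.IsDecentMor f.hom) := by
  constructor
  · intro hf T F' g fst snd sq x
    have hsnd : AlgSp.Representable snd :=
      MorphismProperty.of_isPullback (P := AlgSp.Representable) sq hf
    obtain ⟨q, hq, hqm, hqc⟩ := Groth.Agent.S10497.isDecent_yon_obj T (AlgSp.Points.map snd x)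
    exact Groth.Agent.S10351.exists_decent_fieldPt_of_representable snd hsnd x q hq hqm hqc
  · intro hf T F' g fst snd sq x
    have hsnd : AlgSp.IsQuasiSeparatedMor snd := by
      have : (AlgSp.RepWith (S := S) @QuasiCompact).diagonal.IsStableUnderBaseChange :=
        inferInstance
      exact MorphismProperty.of_isPullback
        (P := (AlgSp.RepWith (S := S) @QuasiCompact).diagonal) sq hf
    have hF' : AlgSp.IsAlgSpace F' :=
      Groth.Agent.S9874.isAlgSpace_of_isPullback Y.property.diag X.property
        (AlgSp.IsAlgSpace.yon_obj T) sq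
    obtain ⟨q, rfl⟩ := AlgSp.Points.mk_surjective x
    obtain ⟨m, hm⟩ := (AlgSp.yon S).map_surjective (q.toHom ≫ snd)
    haveI : Finite ↥q.pt.left := (inferInstance : Finite (PrimeSpectrum q.K))
    have hmq : QuasiCompact m.left := Groth.Agent.S10351.quasiCompact_of_finite _
    have h1 : AlgSp.RepWith @QuasiCompact (q.toHom ≫ snd) := by
      rw [← hm]; exact (AlgSp.repWith_yon_map_iff _ _).2 hmq
    have h2 : AlgSp.IsQuasiCompactMor (q.toHom ≫ snd) :=
      Groth.Agent.S9912.isQuasiCompactMor_of_repWith (AlgSp.IsAlgSpace.yon_obj _)
        (AlgSp.IsAlgSpace.yon_obj T).diag _ h1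
    have h3 : AlgSp.IsQuasiCompactMor q.toHom :=
      Groth.Agent.S9919.isQuasiCompactMor_of_comp (AlgSp.IsAlgSpace.yon_obj _) hF'
        (AlgSp.IsAlgSpace.yon_obj T) q.toHom snd h2 hsnd
    have h4 : AlgSp.RepWith @QuasiCompact q.toHom :=
      Groth.Agent.S9912.repWith_quasiCompact_of_isQuasiCompactMor q.toHom
        (hF'.representable_from_yon _) h3
    exact Groth.Agent.S10361.result ⟨F', hF'⟩ q h4

end Groth.Agent.S10423
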