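import Groth.Statements.S11267
import Groth.Agent.Lib.H5bDet

set_option autoImplicit false
universe u
open W4bk4grassmannian

namespace Groth.Agent.S11267

open MvPolynomial

/-- The `(n+1)`-minors of a product of an `m × n` and an `n × q` matrix vanish. -/
theorem det_submatrix_mul_eq_zero {R : Type*} [CommRing R] {m q n : ℕ} (U : Fin m → Fin n → R)
    (V : Fin n → Fin q → R) (a : Fin (n + 1) → Fin m) (b : Fin (n + 1) → Fin q) :
    (Matrix.of fun i j => ∑ k, U (a i) k * V k (b j) :
      Matrix (Fin (n + 1)) (Fin (n + 1)) R).det = 0 := by
  let U' : Matrix (Fin (n + 1)) (Fin (n + 1)) R :=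
    Matrix.of fun i k => if h : k.val < n then U (a i) ⟨k.val, h⟩ else 0
  let V' : Matrix (Fin (n + 1)) (Fin (n + 1)) R :=
    Matrix.of fun k j => if h : k.val < n then V ⟨k.val, h⟩ (b j) else 0
  have h : (Matrix.of fun i j => ∑ k, U (a i) k * V k (b j) :
      Matrix (Fin (n + 1)) (Fin (n + 1)) R) = U' * V' := by
    ext i j
    rw [Matrix.mul_apply, Fin.sum_univ_castSucc]
    simp [U', V']
  rw [h, Matrix.det_mul]
  have : U'.det = 0 := by
    apply Matrix.det_eq_zero_of_column_eq_zero (Fin.last n)
    intro i
    simp [U']
  rw [this, zero_mul]

theorem eval_pairingMap (K : Type u) [Field K] (m n q : ℕ) (U : Fin m → Fin n → K)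
    (V : Fin n → Fin q → K) (f : MvPolynomial (Fin m × Fin q) K) :
    MvPolynomial.eval (Sum.elim (fun p : Fin m × Fin n => U p.1 p.2)
      (fun p : Fin n × Fin q => V p.1 p.2)) (pairingMap K n m q f) =
    MvPolynomial.eval (fun p : Fin m × Fin q => ∑ k, U p.1 k * V k p.2) f := by
  have h : ((MvPolynomial.aeval (Sum.elim (fun p : Fin m × Fin n => U p.1 p.2)
      (fun p : Fin n × Fin q => V p.1 p.2)) : PairRing K n m q →ₐ[K] K).comp
      (pairingMap K n m q)) =
      (MvPolynomial.aeval (fun p : Fin m × Fin q => ∑ k, U p.1 k * V k p.2) :
        MvPolynomial (Fin m × Fin q) K →ₐ[K] K) := by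
    apply MvPolynomial.algHom_ext
    intro p
    rw [AlgHom.comp_apply]
    unfold pairingMap
    rw [aeval_X, aeval_X, map_sum]
    simp
  have := congrArg (fun g => g f) h
  simpa [MvPolynomial.coe_aeval_eq_eval] using this

open W4bk4grassmannian in
/-- Second Fundamental Theorem of invariant theory for the general linear group acting on pairs of
matrices: let K be an algebraically closed field and m, n, q natural numbers. The kernel of the
K-algebra map K[y_{ij}] → K[u_{ik}, ξ_{kj}] (coordinate rings of M_{m,q} and of M_{m,n} × M_{n,q})
sending y_{ij} to Σ_k u_{ik} ξ_{kj}, the (i, j) entry of the product matrix, is the ideal generated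
by the (n + 1) × (n + 1) minors of the generic m × q matrix (y_{ij}). -/
theorem result (K : Type u) [Field K] [IsAlgClosed K] (m n q : ℕ) :
    RingHom.ker (pairingMap K n m q).toRingHom = CAlgX.minorIdeal (genMatrix K m q) (n + 1) := by
  classical
  have hinf : Infinite K := IsAlgClosed.instInfinite
  apply le_antisymm
  · intro f hf
    have hf0 : pairingMap K n m q f = 0 := hf
    have hvan : ∀ Z₀ : Matrix (Fin m) (Fin q) K,
        (∀ (a : Fin (n + 1) → Fin m) (b : Fin (n + 1) → Fin q), (Z₀.submatrix a b).det = 0) →
          MvPolynomial.eval (fun p : Fin m × Fin q => Z₀ p.1 p.2) f = 0 := by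
      intro Z₀ hZ
      obtain ⟨U, V, hUV⟩ := Groth.Agent.Lib.H5b.exists_mul_eq_of_minors_eq_zero n Z₀ hZ
      have h1 := eval_pairingMap K m n q U V f
      rw [hf0, map_zero] at h1
      rw [h1]
      congr 2
      funext p
      exact hUV p.1 p.2
    by_cases hcase : n + 1 ≤ q ∧ n + 1 ≤ m
    · exact Groth.Agent.Lib.H5b.mem_minorIdeal_of_forall_eval_eq_zero K (n + 1) (by omega)
        hcase.1 hcase.2 f hvan
    · have hzero : f = 0 := by
        apply MvPolynomial.funext
        intro x
        rw [map_zero]
        have h2 := hvan (Matrix.of fun i k => x (i, k)) (fun a b => by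
          by_cases hq : n + 1 ≤ q
          · have hm : ¬ n + 1 ≤ m := fun hm => hcase ⟨hq, hm⟩
            have hninj : ¬ Function.Injective a := by
              intro hinj
              have := Fintype.card_le_of_injective a hinj
              simp at this
              omega
            rw [Function.Injective] at hninj
            push Not at hninj
            obtain ⟨s, t, hst, hne⟩ := hninj
            apply Matrix.det_zero_of_row_eq hne
            ext k
            simp [hst]
          · have hninj : ¬ Function.Injective b := by
              intro hinj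
              have := Fintype.card_le_of_injective b hinj
              simp at this
              omega
            rw [Function.Injective] at hninj
            push Not at hninj
            obtain ⟨s, t, hst, hne⟩ := hninj
            apply Matrix.det_zero_of_column_eq hne
            intro k
            simp [hst])
        simpa using h2
      rw [hzero]
      exact zero_mem _
  · unfold CAlgX.minorIdeal
    rw [Ideal.span_le]
    rintro _ ⟨⟨a, b⟩, rfl⟩
    rw [SetLike.mem_coe, RingHom.mem_ker]
    change pairingMap K n m q ((genMatrix K m q).submatrix a b).det = 0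
    rw [← AlgHom.coe_toRingHom, RingHom.map_det]
    have h := det_submatrix_mul_eq_zero (R := PairRing K n m q)
      (fun i k => X (Sum.inl (i, k))) (fun k j => X (Sum.inr (k, j))) a b
    rw [← h]
    congr 1
    ext i j
    simp [genMatrix, pairingMap]

end Groth.Agent.S11267
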