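import Groth.Statements.S9253
import Groth.Agent.Lib.R2H3KzLCI

set_option autoImplicit false
universe u
attribute [local instance] HasDerivedCategory.standard
open CategoryTheory
open LCI

namespace Groth.Agent.S9253

/-- Let R → S be a ring map and g_1, ..., g_m elements of S generating the unit ideal. When every
localization S_{g_j} is a local complete intersection algebra over R, so is S. -/
theorem result (R S : Type u) [CommRing R] [CommRing S] [Algebra R S]
    (m : ℕ) (g : Fin m → S) (hg : Ideal.span (Set.range g) = ⊤)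
    (h : ∀ j, LCI.IsLCI R (Localization.Away (g j))) : LCI.IsLCI R S := by
  classical
  open AlgebraicGeometry CategoryTheory CategoryTheory.Limits in
  have hft : Algebra.FiniteType R S :=
    Algebra.FiniteType.of_span_eq_top_target (Set.range g) hg
      (by rintro _ ⟨j, rfl⟩; exact (h j).1)
  obtain ⟨n, α, hα⟩ := Algebra.FiniteType.iff_quotient_mvPolynomial''.mp hft
  refine ⟨hft, n, α, hα, ?_⟩
  have hsmooth : ∀ k : ℕ, Smooth (Spec.map (CommRingCat.ofHom
      (algebraMap R (MvPolynomial (Fin k) R)))) := by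
    intro k
    rw [HasRingHomProperty.Spec_iff (P := @Smooth)]
    have : Algebra.Smooth R (MvPolynomial (Fin k) R) := ⟨inferInstance, inferInstance⟩
    exact RingHom.smooth_algebraMap.mpr this
  intro 𝔭 h𝔭
  -- the point of `Spec S`
  have hz : ∃ z : Spec (CommRingCat.of S), (Spec.map (CommRingCat.ofHom α.toRingHom)) z = 𝔭 := by
    have h1 : 𝔭 ∈ Set.range (PrimeSpectrum.comap α.toRingHom) := by
      rw [_root_.range_comap_of_surjective _ _ hα]
      exact h𝔭
    obtain ⟨z, hz⟩ := h1
    exact ⟨z, hz⟩
  obtain ⟨z, rfl⟩ := hz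
  -- some `g j ∉ z`
  have hj : ∃ j, g j ∉ z.asIdeal := by
    by_contra hcon
    push Not at hcon
    have : Ideal.span (Set.range g) ≤ z.asIdeal := by
      rw [Ideal.span_le]
      rintro _ ⟨j, rfl⟩
      exact hcon j
    rw [hg] at this
    exact z.2.ne_top (top_le_iff.mp this)
  obtain ⟨j, hj⟩ := hj
  obtain ⟨-, nj, βj, hβj, hKj⟩ := h j
  -- the open immersion
  set ι := Spec.map (CommRingCat.ofHom (algebraMap S (Localization.Away (g j)))) with hι
  have hz' : ∃ z' : Spec (CommRingCat.of (Localization.Away (g j))), ι z' = z := by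
    have h1 : z ∈ Set.range (PrimeSpectrum.comap (algebraMap S (Localization.Away (g j)))) := by
      rw [PrimeSpectrum.localization_away_comap_range (Localization.Away (g j)) (g j)]
      exact hj
    obtain ⟨z', hz'⟩ := h1
    exact ⟨z', hz'⟩
  obtain ⟨z', rfl⟩ := hz'
  -- the schemes
  set i₀ := Spec.map (CommRingCat.ofHom βj.toRingHom) with hi₀
  set π := Spec.map (CommRingCat.ofHom (algebraMap R (MvPolynomial (Fin nj) R))) with hπ
  set p := Spec.map (CommRingCat.ofHom (algebraMap R (MvPolynomial (Fin n) R))) with hp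
  set iα := Spec.map (CommRingCat.ofHom α.toRingHom) with hiα
  haveI : Smooth π := hsmooth nj
  haveI : Smooth p := hsmooth n
  haveI : IsClosedImmersion iα := IsClosedImmersion.spec_of_surjective _ hα
  have hKi₀ : RegImm.IsRegularImmersion .koszul i₀ :=
    Groth.Agent.Lib.R2H3.KzSpecDict.isRegularImmersion_of_ideal βj.toRingHom hβj hKj
  have hcomm : i₀ ≫ π = (ι ≫ iα) ≫ p := by
    rw [hi₀, hπ, hι, hiα, hp, ← Spec.map_comp, ← Spec.map_comp, ← Spec.map_comp]
    congr 1
    ext a
    change βj (algebraMap R _ a) = algebraMap S _ (α (algebraMap R _ a))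
    rw [βj.commutes, α.commutes, ← IsScalarTower.algebraMap_apply]
  have hK := Groth.Agent.Lib.R2H3.KzLCI.koszul_of_factorization i₀ π hKi₀ p (ι ≫ iα) hcomm
  have hAt := Groth.Agent.Lib.R2H3.KzLCI.isRegularImmersionAt_of_openImmersion_comp ι iα z'
    (hK.2 z')
  exact Groth.Agent.Lib.R2H3.KzLCI.exists_away_of_isRegularImmersionAt α.toRingHom hα _ hAt

end Groth.Agent.S9253
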