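import Groth.Statements.S8656
import Groth.Agent.Lib.R2H3KzCancel
import Groth.Agent.Lib.R2H3KzSrcLocal

set_option autoImplicit false
universe u
open CategoryTheory CategoryTheory.Limits AlgebraicGeometry
open Synt

namespace Groth.Agent.S8656

/-- Let f : X ⟶ Y be a local complete intersection morphism in the factorisation sense: every point of X
has an open neighbourhood on which f is locally of finite type and factors as a Koszul-regular
immersion followed by a smooth morphism. Let p : Z ⟶ Y be smooth and i : X ⟶ Z an immersion with i ≫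
p = f. Then i is a Koszul-regular immersion. -/
theorem result {X Y Z : Scheme.{u}} (f : X ⟶ Y) (hf : ∀ x : X, Synt.IsKoszulAt f x)
    (p : Z ⟶ Y) [Smooth p] (i : X ⟶ Z) [IsImmersion i] (h : i ≫ p = f) :
    RegImm.IsRegularImmersion .koszul i := by
  refine ⟨inferInstance, fun x => ?_⟩
  obtain ⟨U, P, i₀, π, hxU, hlft, hi₀, hπ, hcomm⟩ := hf x
  haveI := hπ
  have hw : i₀ ≫ π = (U.ι ≫ i) ≫ p := by rw [hcomm, Category.assoc, h]
  let k : (U : Scheme.{u}) ⟶ pullback π p := pullback.lift i₀ (U.ι ≫ i) hw
  have hk1 : k ≫ pullback.fst π p = i₀ := pullback.lift_fst _ _ _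
  have hk2 : k ≫ pullback.snd π p = U.ι ≫ i := pullback.lift_snd _ _ _
  haveI : Smooth (pullback.fst π p) := MorphismProperty.pullback_fst _ _ inferInstance
  haveI : Smooth (pullback.snd π p) := MorphismProperty.pullback_snd _ _ inferInstance
  have hk : RegImm.IsRegularImmersion RegImm.Kind.koszul k :=
    Groth.Agent.Lib.R2H3.KzCancel.lift_koszul i₀ k (pullback.fst π p) hk1 hi₀
  haveI : IsImmersion (k ≫ pullback.snd π p) := by rw [hk2]; infer_instance
  have h1 := Groth.Agent.Lib.R2H3.KzCancel.cancel_at k (pullback.snd π p) ⟨x, hxU⟩ (hk.2 _)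
  rw [hk2] at h1
  exact Groth.Agent.Lib.R2H3.KzSrcLocal.isRegularImmersionAt_of_ι i U x hxU h1

end Groth.Agent.S8656
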