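import Groth.Statements.S9269
import Groth.Agent.Lib.R2H3KzCancel
import Groth.Agent.Lib.R2H3KzSpecDict

set_option autoImplicit false
universe u
attribute [local instance] HasDerivedCategory.standard
open CategoryTheory
open LCI

namespace Groth.Agent.S9269

/-- Let B be an A-algebra of finite type. If the kernel of one presentation A[x_1, ..., x_n] → B is a
Koszul-regular ideal, then the kernel of any other presentation A[y_1, ..., y_m] → B is a
Koszul-regular ideal. -/
theorem result (A B : Type u) [CommRing A] [CommRing B]
    [Algebra A B] (n m : ℕ) (α : MvPolynomial (Fin n) A →ₐ[A] B) (hα : Function.Surjective α)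
    (β : MvPolynomial (Fin m) A →ₐ[A] B) (hβ : Function.Surjective β)
    (h : LCI.IsKoszulRegularIdeal (RingHom.ker α.toRingHom)) :
    LCI.IsKoszulRegularIdeal (RingHom.ker β.toRingHom) := by
  open AlgebraicGeometry CategoryTheory CategoryTheory.Limits in
  have hsmooth : ∀ k : ℕ, Smooth (Spec.map (CommRingCat.ofHom
      (algebraMap A (MvPolynomial (Fin k) A)))) := by
    intro k
    rw [HasRingHomProperty.Spec_iff (P := @Smooth)]
    have : Algebra.Smooth A (MvPolynomial (Fin k) A) := ⟨inferInstance, inferInstance⟩
    exact RingHom.smooth_algebraMap.mpr this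
  have hcomp : ∀ (k : ℕ) (γ : MvPolynomial (Fin k) A →ₐ[A] B),
      Spec.map (CommRingCat.ofHom γ.toRingHom) ≫
        Spec.map (CommRingCat.ofHom (algebraMap A (MvPolynomial (Fin k) A))) =
      Spec.map (CommRingCat.ofHom (algebraMap A B)) := by
    intro k γ
    rw [← Spec.map_comp]
    congr 1
    ext a
    exact γ.commutes a
  set i := Spec.map (CommRingCat.ofHom α.toRingHom) with hi
  set i' := Spec.map (CommRingCat.ofHom β.toRingHom) with hi'
  set p := Spec.map (CommRingCat.ofHom (algebraMap A (MvPolynomial (Fin n) A))) with hp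
  set p' := Spec.map (CommRingCat.ofHom (algebraMap A (MvPolynomial (Fin m) A))) with hp'
  haveI : Smooth p := hsmooth n
  haveI : Smooth p' := hsmooth m
  have hKi : RegImm.IsRegularImmersion .koszul i :=
    Groth.Agent.Lib.R2H3.KzSpecDict.isRegularImmersion_of_ideal α.toRingHom hα h
  let k : Spec (CommRingCat.of B) ⟶ pullback p p' :=
    pullback.lift i i' (by rw [hcomp n α, hcomp m β])
  have hk1 : k ≫ pullback.fst p p' = i := pullback.lift_fst _ _ _
  have hk2 : k ≫ pullback.snd p p' = i' := pullback.lift_snd _ _ _
  haveI : Smooth (pullback.fst p p') := MorphismProperty.pullback_fst _ _ inferInstance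
  haveI : Smooth (pullback.snd p p') := MorphismProperty.pullback_snd _ _ inferInstance
  have hk : RegImm.IsRegularImmersion .koszul k :=
    Groth.Agent.Lib.R2H3.KzCancel.lift_koszul i k (pullback.fst p p') hk1 hKi
  haveI : IsClosedImmersion i' := IsClosedImmersion.spec_of_surjective _ hβ
  haveI : IsImmersion (k ≫ pullback.snd p p') := by rw [hk2]; infer_instance
  have hKi' := Groth.Agent.Lib.R2H3.KzCancel.cancel k (pullback.snd p p') hk
  rw [hk2] at hKi'
  exact Groth.Agent.Lib.R2H3.KzSpecDict.ideal_of_isRegularImmersion β.toRingHom hβ hKi'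

end Groth.Agent.S9269
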