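import Groth.Statements.S1491
import Groth.Agent.Lib.R2H3KzLCIComp
import Groth.Agent.S9253

set_option autoImplicit false
universe u
attribute [local instance] HasDerivedCategory.standard
open FlatMor

namespace Groth.Agent.S1491

open AlgebraicGeometry CategoryTheory Limits in
/-- Let f : X → Y and g : Y → Z be local complete intersection morphisms, in the affine-local sense that
all ring maps between affine opens are local complete intersection homomorphisms. Then f ≫ g is a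
local complete intersection morphism. -/
theorem result {X Y Z : Scheme.{u}} (f : X ⟶ Y) (g : Y ⟶ Z)
    (hf : (∀ (U : X.Opens) (V : Y.Opens) (hU : IsAffineOpen U) (hV : IsAffineOpen V) (hUV : U ≤ f ⁻¹ᵁ V),
        letI := (f.appLE V U hUV).hom.toAlgebra
        LCI.IsLCI Γ(Y, V) Γ(X, U)))
    (hg : (∀ (U : Y.Opens) (V : Z.Opens) (hU : IsAffineOpen U) (hV : IsAffineOpen V) (hUV : U ≤ g ⁻¹ᵁ V),
        letI := (g.appLE V U hUV).hom.toAlgebra
        LCI.IsLCI Γ(Z, V) Γ(Y, U))) :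
    (∀ (U : X.Opens) (V : Z.Opens) (hU : IsAffineOpen U) (hV : IsAffineOpen V) (hUV : U ≤ (f ≫ g) ⁻¹ᵁ V),
        letI := ((f ≫ g).appLE V U hUV).hom.toAlgebra
        LCI.IsLCI Γ(Z, V) Γ(X, U)) := by
  open AlgebraicGeometry CategoryTheory CategoryTheory.Limits TopologicalSpace in
  intro U W hU hW hUW
  classical
  have key : ∀ x : U, ∃ c : Γ(X, U), (x : X) ∈ X.basicOpen c ∧
      (letI := ((f ≫ g).appLE W U hUW).hom.toAlgebra
       LCI.IsLCI Γ(Z, W) (Localization.Away c)) := by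
    rintro ⟨x, hx⟩
    have hfx : f x ∈ g ⁻¹ᵁ W := by
      have h0 : (f ≫ g) x ∈ W := hUW hx
      rw [Scheme.Hom.comp_apply] at h0
      exact h0
    obtain ⟨_, ⟨V, hV, rfl⟩, hxV, hVW⟩ :=
      Y.isBasis_affineOpens.exists_subset_of_mem_open hfx (g ⁻¹ᵁ W).2
    obtain ⟨c, hcle, hxc⟩ := hU.exists_basicOpen_le (V := U ⊓ f ⁻¹ᵁ V) ⟨x, ⟨hx, hxV⟩⟩ hx
    refine ⟨c, hxc, ?_⟩
    have hD : IsAffineOpen (X.basicOpen c) := hU.basicOpen c
    have hDU : X.basicOpen c ≤ U := X.basicOpen_le c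
    have hDV : X.basicOpen c ≤ f ⁻¹ᵁ V := hcle.trans inf_le_right
    have hVW' : V ≤ g ⁻¹ᵁ W := hVW
    have hDW : X.basicOpen c ≤ (f ≫ g) ⁻¹ᵁ W := hDU.trans hUW
    have h1 := hf (X.basicOpen c) V hD hV hDV
    have h2 := hg V W hV hW hVW'
    letI algAB : Algebra Γ(Z, W) Γ(Y, V) := (g.appLE W V hVW').hom.toAlgebra
    letI algBC : Algebra Γ(Y, V) Γ(X, X.basicOpen c) := (f.appLE V (X.basicOpen c) hDV).hom.toAlgebra
    letI algAC : Algebra Γ(Z, W) Γ(X, X.basicOpen c) :=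
      ((f ≫ g).appLE W (X.basicOpen c) hDW).hom.toAlgebra
    haveI : IsScalarTower Γ(Z, W) Γ(Y, V) Γ(X, X.basicOpen c) :=
      IsScalarTower.of_algebraMap_eq (fun a => by
        have h4 := Scheme.Hom.appLE_comp_appLE f g W V (X.basicOpen c) hVW' hDV
        exact (congr($h4 a)).symm)
    have h3 : LCI.IsLCI Γ(Z, W) Γ(X, X.basicOpen c) :=
      Groth.Agent.Lib.R2H3.KzLCIComp.isLCI_comp h2 h1
    letI algAS : Algebra Γ(Z, W) Γ(X, U) := ((f ≫ g).appLE W U hUW).hom.toAlgebra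
    letI algSD : Algebra Γ(X, U) Γ(X, X.basicOpen c) :=
      (X.presheaf.map (homOfLE hDU).op).hom.toAlgebra
    haveI : IsLocalization.Away c Γ(X, X.basicOpen c) :=
      hU.isLocalization_of_eq_basicOpen c (homOfLE hDU) rfl
    haveI : IsScalarTower Γ(Z, W) Γ(X, U) Γ(X, X.basicOpen c) :=
      IsScalarTower.of_algebraMap_eq (fun a => by
        have h5 := Scheme.Hom.appLE_map (f ≫ g) hUW (homOfLE hDU).op
        exact (congr($h5 a)).symm)
    let e : Γ(X, X.basicOpen c) ≃ₐ[Γ(X, U)] Localization.Away c :=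
      IsLocalization.algEquiv (.powers c) _ _
    exact Groth.Agent.Lib.R2H3.KzLCIComp.isLCI_of_algEquiv (e.restrictScalars Γ(Z, W)) h3
  choose c hc₁ hc₂ using key
  have hspan : Ideal.span (Set.range c) = ⊤ := by
    rw [← hU.self_le_iSup_basicOpen_iff]
    intro x hx
    rw [iSup_range', Opens.mem_iSup]
    exact ⟨⟨x, hx⟩, hc₁ ⟨x, hx⟩⟩
  obtain ⟨t, ht₁, ht₂⟩ := (Ideal.span_eq_top_iff_finite _).mp hspan
  letI := ((f ≫ g).appLE W U hUW).hom.toAlgebra
  let gg : Fin t.card → Γ(X, U) := fun j => (t.equivFin.symm j).1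
  have hrange : Set.range gg = (t : Set Γ(X, U)) := by
    ext y
    constructor
    · rintro ⟨j, rfl⟩
      exact (t.equivFin.symm j).2
    · intro hy
      exact ⟨t.equivFin ⟨y, hy⟩, by simp [gg]⟩
  have hgg : Ideal.span (Set.range gg) = ⊤ := by rw [hrange]; exact ht₂
  refine Groth.Agent.S9253.result Γ(Z, W) Γ(X, U) t.card gg hgg (fun j => ?_)
  obtain ⟨x, hx⟩ := ht₁ (t.equivFin.symm j).2
  have h6 := hc₂ x
  rw [hx] at h6
  exact h6

end Groth.Agent.S1491
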