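import Groth.Statements.S8661
import Groth.Agent.Lib.R2H3KzLCIEquiv
import Groth.Agent.S1491

set_option autoImplicit false
universe u
open CategoryTheory CategoryTheory.Limits AlgebraicGeometry
open Synt

namespace Groth.Agent.S8661

/-- Let f : X ⟶ Y and g : Y ⟶ Z be local complete intersection morphisms in the factorisation sense
(around each point, locally of finite type and factoring as a Koszul-regular immersion followed by a
smooth morphism). Then f ≫ g is a local complete intersection morphism in the same sense. -/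
theorem result {X Y Z : Scheme.{u}} (f : X ⟶ Y) (g : Y ⟶ Z)
    (hf : ∀ x : X, Synt.IsKoszulAt f x) (hg : ∀ y : Y, Synt.IsKoszulAt g y) : ∀ x : X, Synt.IsKoszulAt (f ≫ g) x := by
  intro x
  have hf' := fun (U : X.Opens) (V : Y.Opens) (hU : IsAffineOpen U) (hV : IsAffineOpen V)
    (hUV : U ≤ f ⁻¹ᵁ V) =>
      Groth.Agent.Lib.R2H3.KzLCIEquiv.isLCI_of_isKoszulAt f hf U hU V hV hUV
  have hg' := fun (U : Y.Opens) (V : Z.Opens) (hU : IsAffineOpen U) (hV : IsAffineOpen V)
    (hUV : U ≤ g ⁻¹ᵁ V) =>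
      Groth.Agent.Lib.R2H3.KzLCIEquiv.isLCI_of_isKoszulAt g hg U hU V hV hUV
  have hfg := Groth.Agent.S1491.result f g hf' hg'
  obtain ⟨_, ⟨W, hW, rfl⟩, hxW, -⟩ :=
    Z.isBasis_affineOpens.exists_subset_of_mem_open (Set.mem_univ ((f ≫ g) x)) isOpen_univ
  obtain ⟨_, ⟨U, hU, rfl⟩, hxU, hUW⟩ :=
    X.isBasis_affineOpens.exists_subset_of_mem_open (show x ∈ (f ≫ g) ⁻¹ᵁ W from hxW)
      ((f ≫ g) ⁻¹ᵁ W).2
  exact Groth.Agent.Lib.R2H3.KzLCIEquiv.isKoszulAt_of_isLCI (f ≫ g) U hU W hW hUW x hxU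
    (hfg U W hU hW hUW)

end Groth.Agent.S8661
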