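import Groth.Statements.S8658
import Groth.Agent.Lib.H9RegImmFlatBC

set_option autoImplicit false
universe u
open CategoryTheory CategoryTheory.Limits AlgebraicGeometry
open Synt

namespace Groth.Agent.S8658

/-- Let f : X ⟶ Y be a local complete intersection morphism in the factorisation sense (around each
point of X, f is locally of finite type and factors as a Koszul-regular immersion followed by a
smooth morphism), and let g : Y' ⟶ Y be flat. Then for any cartesian square, the base change f' : X'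
⟶ Y' is a local complete intersection morphism in the same sense. -/
theorem result {X Y X' Y' : Scheme.{u}} (f : X ⟶ Y) (g : Y' ⟶ Y) [Flat g]
    (f' : X' ⟶ Y') (g' : X' ⟶ X) (hsq : IsPullback g' f' f g)
    (hf : ∀ x : X, Synt.IsKoszulAt f x) : ∀ x' : X', Synt.IsKoszulAt f' x' := by
  intro x'
  obtain ⟨U, P, i, π, hxU, hlft, hi, hπ, hcomm⟩ := hf (g' x')
  have := hπ
  -- the square `g'⁻¹U → U` over `Y' → Y` is a pullback
  have h2 : IsPullback (g' ∣_ U) (g' ⁻¹ᵁ U).ι U.ι g' := isPullback_morphismRestrict g' U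
  have h12 : IsPullback (g' ∣_ U) ((g' ⁻¹ᵁ U).ι ≫ f') (U.ι ≫ f) g := h2.paste_vert hsq
  rw [← hcomm] at h12
  have t : IsPullback (pullback.fst π g) (pullback.snd π g) π g := IsPullback.of_hasPullback π g
  have htop := IsPullback.of_bot' h12 t
  have hreg := Groth.Agent.Lib.H9RegImmFlatBC.isRegularImmersion_of_isPullback i (pullback.fst π g)
    _ (g' ∣_ U) htop RegImm.Kind.koszul hi
  have : IsImmersion (t.lift ((g' ∣_ U) ≫ i) ((g' ⁻¹ᵁ U).ι ≫ f')
      (by rw [Category.assoc, h12.w])) := hreg.1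
  have hcomm' : t.lift ((g' ∣_ U) ≫ i) ((g' ⁻¹ᵁ U).ι ≫ f') (by rw [Category.assoc, h12.w]) ≫
      pullback.snd π g = (g' ⁻¹ᵁ U).ι ≫ f' := t.lift_snd _ _ _
  refine ⟨g' ⁻¹ᵁ U, pullback π g, _, pullback.snd π g, hxU, ?_, hreg, inferInstance, hcomm'⟩
  rw [← hcomm']
  infer_instance

end Groth.Agent.S8658
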