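import Groth.Statements.S9729
import Groth.Agent.Lib.R2H3KzSection
import Groth.Agent.S8654

set_option autoImplicit false
set_option linter.style.haveILetI false
universe u
open FlatMor

namespace Groth.Agent.S9729

open AlgebraicGeometry CategoryTheory Limits in
/-- Let f : X ⟶ Y and g : Y ⟶ S be morphisms with g smooth. If f ≫ g is a local complete intersection
morphism (Koszul at every point of X) then f is a local complete intersection morphism. -/
theorem result {X Y S : Scheme.{u}} (f : X ⟶ Y) (g : Y ⟶ S) [Smooth g]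
    (h : ∀ x : X, Synt.IsKoszulAt (f ≫ g) x) (x : X) : Synt.IsKoszulAt f x := by
  obtain ⟨U, P, i, π, hxU, hlft, hi, hπ, hcomm⟩ := h x
  haveI := hπ
  haveI := hlft
  have hw : i ≫ π = (U.ι ≫ f) ≫ g := by rw [hcomm, Category.assoc]
  -- the graph into `P ×_S Y`
  let j : (U : Scheme.{u}) ⟶ pullback π g := pullback.lift i (U.ι ≫ f) hw
  have hj1 : j ≫ pullback.fst π g = i := pullback.lift_fst _ _ _
  have hj2 : j ≫ pullback.snd π g = U.ι ≫ f := pullback.lift_snd _ _ _
  -- base change of `i` along the first projection
  have hsq : IsPullback (pullback.fst i (pullback.fst π g)) (pullback.snd i (pullback.fst π g)) i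
      (pullback.fst π g) := IsPullback.of_hasPullback _ _
  haveI : Smooth (pullback.fst π g) := MorphismProperty.pullback_fst _ _ inferInstance
  haveI : Flat (pullback.fst π g) := inferInstance
  have h2 : RegImm.IsRegularImmersion .koszul (pullback.snd i (pullback.fst π g)) :=
    Groth.Agent.Lib.H9RegImmFlatBC.isRegularImmersion_of_isPullback i (pullback.fst π g) _ _ hsq
      RegImm.Kind.koszul hi
  -- the section
  let Γ' : (U : Scheme.{u}) ⟶ pullback i (pullback.fst π g) :=
    pullback.lift (𝟙 _) j (by rw [Category.id_comp, hj1])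
  have hΓ1 : Γ' ≫ pullback.fst i (pullback.fst π g) = 𝟙 _ := pullback.lift_fst _ _ _
  have hΓ2 : Γ' ≫ pullback.snd i (pullback.fst π g) = j := pullback.lift_snd _ _ _
  haveI : Smooth (pullback.fst i (pullback.fst π g)) := MorphismProperty.pullback_fst _ _ inferInstance
  have h1 : RegImm.IsRegularImmersion .koszul Γ' :=
    Groth.Agent.Lib.R2H3.KzSection.isRegularImmersion_section_koszul _ Γ' hΓ1
  have hj : RegImm.IsRegularImmersion .koszul j := by
    rw [← hΓ2]
    exact Groth.Agent.S8654.result _ _ h2 h1
  haveI : LocallyOfFiniteType ((U.ι ≫ f) ≫ g) := by rw [Category.assoc]; exact hlft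
  refine ⟨U, pullback π g, j, pullback.snd π g, hxU, ?_, hj, ?_, hj2⟩
  · exact locallyOfFiniteType_of_comp (U.ι ≫ f) g
  · exact MorphismProperty.pullback_snd _ _ inferInstance

end Groth.Agent.S9729
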