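import Groth.Statements.S10004
import Mathlib
import Groth.Agent.Lib.H5bLimSp
import Groth.Agent.Lib.Helper12ZarGlue
import Groth.Agent.S10129

set_option autoImplicit false
set_option linter.style.haveILetI false
universe u
open CategoryTheory CategoryTheory.Limits AlgebraicGeometry
open AlgSp

namespace Groth.Agent.S10004

open Groth.Agent.Lib.H5bLimSp

/-- Let `(X_i)` be a cofiltered system of algebraic spaces over `S` (indexed by a small cofiltered
category, e.g. a directed inverse system) with affine transition morphisms, and let `X` be a limit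
of the system in the category of fppf sheaves of sets over `S`. Then `X` is an algebraic space over
`S` and each projection `X ⟶ X_i` is affine. (The published statement also asserts that for `T ⟶
X_i` the fibre product `X ×_{X_i} T` is the limit of the `X_{i'} ×_{X_i} T`; this row omits that
formal clause.) -/
theorem result (S : Scheme.{u}) {I : Type u} [SmallCategory I] [IsCofiltered I]
    (D : I ⥤ AlgSp.Sp S) (hD : ∀ i, AlgSp.IsAlgSpace (D.obj i))
    (hDa : ∀ (i j : I) (φ : i ⟶ j), AlgSp.IsAffineMor (D.map φ))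
    (c : Cone D) (hc : IsLimit c) :
    AlgSp.IsAlgSpace c.pt ∧ ∀ i, AlgSp.IsAffineMor (c.π.app i) := by
  have haff : ∀ i, AlgSp.IsAffineMor (c.π.app i) := by
    intro i Z hZ g
    have hex : ∀ k : Over i, ∃ (W : Over S) (w : W ⟶ Z)
        (fst : (AlgSp.yon S).obj W ⟶ D.obj k.left),
        IsPullback fst ((AlgSp.yon S).map w) (D.map k.hom) g ∧ IsAffine W.left :=
      fun k => hDa _ _ k.hom hZ g
    choose W w fst sq hW using hex
    let P : PbSystem D i g := ⟨W, w, fst, sq⟩
    obtain ⟨L, ⟨hL⟩, hLaff⟩ := exists_limit_affine P.functor (fun k => hW k)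
    obtain ⟨fstL, iW, hpb, -, -⟩ := P.isPullback_of_isLimit hc L hL
    exact ⟨L.pt, iW, fstL, hpb, hLaff⟩
  refine ⟨?_, haff⟩
  obtain ⟨i₀⟩ := IsCofiltered.nonempty (C := I)
  have hrep : AlgSp.RepWith @IsAffineHom (c.π.app i₀) := by
    refine Groth.Agent.Lib.Helper12.ZarGlue.repWith_of_affine @IsAffineHom (c.π.app i₀)
      (fun Z hZ g => ?_)
    obtain ⟨W, i, fst, sq, hW⟩ := haff i₀ hZ g
    haveI := hZ
    haveI := hW
    exact ⟨W, i, fst, sq, inferInstance⟩
  exact Groth.Agent.S10129.isAlgSpace_of_representable (hD i₀) (c.π.app i₀) hrep.rep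

end Groth.Agent.S10004
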