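import Groth.Statements.S9960
import Mathlib
import Groth.Agent.S9874
import Groth.Agent.S9900
import Groth.Agent.S9905
import Groth.Agent.S9912
import Groth.Agent.S9947
import Groth.Agent.S9959
import Groth.Agent.S9984

set_option autoImplicit false
universe u
open CategoryTheory CategoryTheory.Limits AlgebraicGeometry
open AlgSp

namespace Groth.Agent.S9960

/-- The diagonal of a morphism locally of finite type is locally of finite presentation, and of finite
presentation when the morphism is also quasi-separated. -/
theorem result {S : Scheme.{u}} {X Y : AlgSp.Space S} (f : X ⟶ Y)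
    (hf : AlgSp.LocP @LocallyOfFiniteType f.hom) :
    AlgSp.LocP @LocallyOfFinitePresentation (pullback.diagonal f.hom) ∧
    (AlgSp.IsQuasiSeparatedMor f.hom → AlgSp.IsFinitePresentationMor (pullback.diagonal f.hom)) := by
  classical
  -- the fibre product as an algebraic space
  have hW : AlgSp.IsAlgSpace (pullback f.hom f.hom) :=
    Groth.Agent.S9874.result S Y.obj Y.property.diag X X f.hom f.hom _ _ _
      (IsPullback.of_hasPullback f.hom f.hom)
  let W : AlgSp.Space S := ⟨pullback f.hom f.hom, hW⟩
  let Δ : X ⟶ W := ObjectProperty.homMk (pullback.diagonal f.hom)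
  let p₁ : W ⟶ X := ObjectProperty.homMk (pullback.fst f.hom f.hom)
  let p₂ : W ⟶ X := ObjectProperty.homMk (pullback.snd f.hom f.hom)
  have hΔ : Δ.hom = pullback.diagonal f.hom := rfl
  have hrep : AlgSp.Representable Δ.hom := (Groth.Agent.S9900.result f).1
  -- the second projection is locally of finite type
  have hp₂ : AlgSp.LocP @LocallyOfFiniteType p₂.hom :=
    Groth.Agent.S9984.result @LocallyOfFiniteType (Or.inl rfl) f f p₁ p₂
      (IsPullback.of_hasPullback f.hom f.hom) hf
  -- the identity is locally of finite presentation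
  have hid : AlgSp.LocP @LocallyOfFinitePresentation (Δ ≫ p₂).hom := by
    have h1 : (Δ ≫ p₂).hom = 𝟙 X.obj := by
      show pullback.diagonal f.hom ≫ pullback.snd f.hom f.hom = 𝟙 X.obj
      exact pullback.diagonal_snd f.hom
    rw [h1]
    exact Groth.Agent.S9947.locP_of_repWith_etale @LocallyOfFinitePresentation
      (fun g hg => by
        have := hg
        infer_instance)
      (𝟙 X.obj) ((AlgSp.RepWith @Etale).id_mem X.obj)
  have h1 : AlgSp.LocP @LocallyOfFinitePresentation (pullback.diagonal f.hom) :=
    Groth.Agent.S9959.result Δ p₂ hid hp₂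
  refine ⟨h1, fun hqs => ⟨h1, ?_, ?_⟩⟩
  · exact (Groth.Agent.S9912.result Δ hrep).mp hqs
  · refine (Groth.Agent.S9905.result Δ hrep).2.mpr ?_
    have h4 : AlgSp.RepWith @IsSeparated Δ.hom := (Groth.Agent.S9900.result f).2.2.2.1
    refine ⟨h4.1, fun U V g fst snd sq => ?_⟩
    have : IsSeparated snd.left := h4.2 g fst snd sq
    show QuasiSeparated snd.left
    infer_instance

end Groth.Agent.S9960
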