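import Groth.Statements.S10653
import Mathlib
import Groth.Agent.Lib.H5bHasAtMor
import Groth.Agent.Lib.H5bFibDimBC
import Groth.Agent.Lib.H5bIntDimSp
import Groth.Agent.S1240
import Groth.Agent.Lib.H5bFibChart
import Groth.Agent.S10175
import Groth.Agent.S10176
import Groth.Agent.S10177

set_option autoImplicit false
universe u
open CategoryTheory CategoryTheory.Limits AlgebraicGeometry
open AlgSp

namespace Groth.Agent.S10653

open Groth.Agent.Lib.H5bHasAtMor Groth.Agent.Lib.H5bFibDimBC Groth.Agent.Lib.H5bIntDimSp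

theorem repWith_surjective_id {S : Scheme.{u}} (U : Over S) :
    AlgSp.RepWith @Surjective (𝟙 ((AlgSp.yon S).obj U)) := by
  rw [← (AlgSp.yon S).map_id]
  exact (AlgSp.repWith_yon_map_iff @Surjective (𝟙 U)).2 (inferInstanceAs (Surjective (𝟙 U.left)))

/-- a representable quasi-compact sheaf comes from a quasi-compact scheme. -/
theorem compactSpace_of_isQuasiCompactSp {S : Scheme.{u}} (T : Over S)
    (h : AlgSp.IsQuasiCompactSp ((AlgSp.yon S).obj T)) : CompactSpace ↥T.left := by
  obtain ⟨T₀, c, -, hcs, hT₀⟩ := h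
  obtain ⟨m, rfl⟩ := (AlgSp.yon S).map_surjective c
  haveI : Surjective m.left := (AlgSp.repWith_yon_map_iff @Surjective m).1 hcs
  haveI : CompactSpace ↥T₀.left := hT₀
  have hsurj : Function.Surjective m.left := m.left.surjective
  exact ⟨by
    rw [← hsurj.range_eq]
    exact isCompact_range m.left.continuous⟩

/-- For a flat morphism f : X ⟶ Y of algebraic spaces over S which is locally of finite type, and an
open subspace j : V ⟶ Y with |V| dense in |Y| such that the base change X ×_Y V ⟶ V has relative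
dimension at most d (at every point some etale chart diagram has top arrow with local fibre
dimension at most d): if either j is quasi-compact or f is locally of finite presentation, then f
has relative dimension at most d at every point of |X|. -/
theorem result {S : Scheme.{u}} {X Y V : AlgSp.Space S} (f : X ⟶ Y) (j : V ⟶ Y) (d : ℕ)
    (hf1 : AlgSp.LocP @Flat f.hom) (hf2 : AlgSp.LocP @LocallyOfFiniteType f.hom)
    (hj1 : AlgSp.RepWith @IsOpenImmersion j.hom) (hj2 : Dense (Set.range (AlgSp.Points.map j.hom)))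
    (P : AlgSp.Space S) (fst : P ⟶ X) (snd : P ⟶ V) (hP : IsPullback fst.hom snd.hom f.hom j.hom)
    (hV : ∀ x, AlgSp.HasAtMor (fun _ _ h u => FlatMor.fibreDimAt h u ≤ (d : WithBot ℕ∞)) snd.hom x)
    (h : AlgSp.LocP @LocallyOfFinitePresentation f.hom ∨ AlgSp.IsQuasiCompactMor j.hom) :
    ∀ x, AlgSp.HasAtMor (fun _ _ h u => FlatMor.fibreDimAt h u ≤ (d : WithBot ℕ∞)) f.hom x := by
  intro x
  obtain ⟨U, V₀, a, b, p, u, ha, hb, comm, hu⟩ := exists_chart X.property Y.property f.hom x
  refine ⟨U, V₀, a, b, p, u, ha, hb, comm, hu, ?_⟩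
  haveI : Flat p.left := hf1 a b p ha hb comm
  haveI : LocallyOfFiniteType p.left := hf2 a b p ha hb comm
  -- the open `O ⊆ V₀` over `V`
  have sqO := hj1.rep.isPullback b
  set O' := hj1.rep.pullback b with hO'
  set ι := hj1.rep.snd b with hι
  set φ := hj1.rep.fst b with hφ
  haveI hιo : IsOpenImmersion ι.left := hj1.property_snd b
  let O : V₀.left.Opens := ι.left.opensRange
  have hdense : Dense (O : Set ↥V₀.left) := by
    rw [dense_iff_inter_open]
    intro N hN hNne
    obtain ⟨n, hn⟩ := hNne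
    have hopen : IsOpen (AlgSp.Points.ofPt b '' N) :=
      Groth.Agent.S10176.isOpenMap_ofPt b hb N hN
    obtain ⟨y, hy1, hy2⟩ := hj2.inter_open_nonempty _ hopen ⟨_, n, hn, rfl⟩
    obtain ⟨n', hn', rfl⟩ := hy1
    obtain ⟨v, hv⟩ := hy2
    obtain ⟨o, -, ho⟩ := exists_point_of_isPullback_chart sqO v n' hv.symm
    exact ⟨n', hn', o, ho⟩
  refine Groth.Agent.S1240.result p.left O hdense d ?_ ?_ u
  · -- the fibre dimension over `O`
    intro x' hx'
    obtain ⟨o, ho⟩ := hx'
    -- the point of `|V|`
    have e1 : AlgSp.Points.map j.hom (AlgSp.Points.ofPt φ o) =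
        AlgSp.Points.map f.hom (AlgSp.Points.ofPt a x') := by
      rw [AlgSp.Points.map_ofPt, AlgSp.Points.map_ofPt, sqO.w, comm,
        Groth.Agent.S10176.ofPt_map_comp, Groth.Agent.S10176.ofPt_map_comp, ho]
    obtain ⟨ρ, hρ1, hρ2⟩ := Groth.Agent.S10175.exists_point_of_isPullback hP.flip
      (AlgSp.Points.ofPt φ o) (AlgSp.Points.ofPt a x') e1
    have h1 := hV ρ
    rw [hasAtMor_fibreDimAt_baseChange_iff X.property Y.property V.property hP hf2 ρ
      (fun t => t ≤ (d : WithBot ℕ∞)), hρ2] at h1
    exact (hasAtMor_iff_of_chart (etLocalQ_fibreDimAt (fun t => t ≤ (d : WithBot ℕ∞))) f.hom _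
      a b p ha hb comm x' rfl).1 h1
  · rcases h with h | h
    · exact Or.inl (h a b p ha hb comm)
    · right
      intro K hKc hKo
      let Ko : V₀.left.Opens := ⟨K, hKo⟩
      let K' : Over S := Over.mk (Ko.ι ≫ V₀.hom)
      let kι : K' ⟶ V₀ := Over.homMk Ko.ι rfl
      have hKqc : AlgSp.IsQuasiCompactSp ((AlgSp.yon S).obj K') :=
        ⟨K', 𝟙 _, Groth.Agent.Lib.H5bFibChart.repWith_etale_id K', repWith_surjective_id K',
          isCompact_iff_compactSpace.mp hKc⟩
      let g : (AlgSp.yon S).obj K' ⟶ Y.obj := (AlgSp.yon S).map kι ≫ b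
      have sqK := hj1.rep.isPullback g
      have hqc := h (AlgSp.IsAlgSpace.yon_obj K') hKqc g _ _ sqK
      haveI : CompactSpace ↥(hj1.rep.pullback g).left := compactSpace_of_isQuasiCompactSp _ hqc
      have hset : (O : Set ↥V₀.left) ∩ K =
          Set.range (fun w : ↥(hj1.rep.pullback g).left => Ko.ι ((hj1.rep.snd g).left w)) := by
        ext v
        constructor
        · rintro ⟨⟨o, ho⟩, hvK⟩
          let z : ↥K'.left := ⟨v, hvK⟩
          have e : AlgSp.Points.ofPt ((AlgSp.yon S).map kι ≫ b) z =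
              AlgSp.Points.map j.hom (AlgSp.Points.ofPt φ o) := by
            rw [Groth.Agent.S10176.ofPt_map_comp kι b z, AlgSp.Points.map_ofPt, sqO.w,
              Groth.Agent.S10176.ofPt_map_comp ι b o, ho]
            rfl
          obtain ⟨w, -, hw⟩ := exists_point_of_isPullback_chart sqK _ z e
          refine ⟨w, ?_⟩
          show Ko.ι ((hj1.rep.snd g).left w) = v
          rw [hw]
          rfl
        · rintro ⟨w, rfl⟩
          refine ⟨?_, ((hj1.rep.snd g).left w).2⟩
          have e : AlgSp.Points.ofPt b (Ko.ι ((hj1.rep.snd g).left w)) =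
              AlgSp.Points.map j.hom (AlgSp.Points.ofPt (hj1.rep.fst g) w) := by
            rw [AlgSp.Points.map_ofPt, sqK.w, Groth.Agent.S10176.ofPt_map_comp (hj1.rep.snd g)
              ((AlgSp.yon S).map kι ≫ b) w, Groth.Agent.S10176.ofPt_map_comp kι b]
            rfl
          obtain ⟨o, -, ho⟩ := exists_point_of_isPullback_chart sqO _ _ e
          exact ⟨o, ho⟩
      rw [hset]
      exact isCompact_range (Ko.ι.continuous.comp (hj1.rep.snd g).left.continuous)

end Groth.Agent.S10653
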