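import Groth.Statements.S10086
import Mathlib
import Groth.Agent.Lib.H5bLimSp
import Groth.Agent.Lib.H5bLimDescB
import Groth.Agent.Lib.Helper12LargestOpen
import Groth.Agent.S10004
import Groth.Agent.S10180
import Groth.Agent.S10129
import Groth.Agent.S9920
import Groth.Agent.S10653
import Groth.Agent.S10174
import Groth.Agent.S10175
import Groth.Agent.S10176
import Groth.Agent.S10177
import Groth.Agent.S10194
import Groth.Agent.S10195
import Groth.Agent.S10211

set_option autoImplicit false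
universe u
open CategoryTheory CategoryTheory.Limits AlgebraicGeometry Opposite
open AlgSp

namespace Groth.Agent.S10086

open Groth.Agent.Lib.H5bLimSp Groth.Agent.Lib.Helper12.LargestOpen

/-- the source of an open immersion into an algebraic space is quasi-compact as soon as its image
on points is compact. -/
lemma isQuasiCompactSp_of_open {S : Scheme.{u}} {A Y : AlgSp.Sp S} (hA : AlgSp.IsAlgSpace A)
    (hY : AlgSp.IsAlgSpace Y) (j : A ⟶ Y) (hj : AlgSp.RepWith @IsOpenImmersion j)
    (hc : IsCompact (Set.range (AlgSp.Points.map j))) : AlgSp.IsQuasiCompactSp A := by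
  rw [Groth.Agent.S10174.isQuasiCompactSp_iff hA]
  have hemb : Topology.IsOpenEmbedding (AlgSp.Points.map j) :=
    Topology.IsOpenEmbedding.of_continuous_injective_isOpenMap (AlgSp.Points.continuous_map j)
      (injective_map_of_open j hj)
      (Groth.Agent.S10211.isOpenMap_map_of_isEtaleMor hA j (covProp_etale.of_open hA hY j hj))
  rw [← isCompact_univ_iff, hemb.isEmbedding.isCompact_iff, Set.image_univ]
  exact hc

/-- the main construction. -/
theorem main (S : Scheme.{u}) [QuasiSeparatedSpace ↥S] {I : Type u} [SmallCategory I]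
    [IsCofiltered I] (D : I ⥤ AlgSp.Sp S) (hD : ∀ i, AlgSp.IsAlgSpace (D.obj i))
    (hDa : ∀ (i j : I) (φ : i ⟶ j), AlgSp.IsAffineMor (D.map φ))
    (hqc : ∀ i, AlgSp.IsQuasiCompactSp (D.obj i)) (hqs : ∀ i, AlgSp.IsQuasiSeparatedSp (D.obj i))
    (c : Cone D) (hc : IsLimit c)
    (U : AlgSp.Sp S) (j : U ⟶ c.pt) (hj : AlgSp.RepWith @IsOpenImmersion j)
    (hU : AlgSp.IsQuasiCompactSp U) (i₀ : I) :
    ∃ (k : Over i₀) (Ui : AlgSp.Sp S) (ji : Ui ⟶ D.obj k.left) (q : U ⟶ Ui),
      AlgSp.RepWith @IsOpenImmersion ji ∧ AlgSp.IsQuasiCompactSp Ui ∧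
        IsPullback j q (c.π.app k.left) ji := by
  obtain ⟨hXa, -⟩ := Groth.Agent.S10004.result S D hD hDa c hc
  obtain ⟨V0, g, hV0, hge, hgs⟩ := Groth.Agent.S10180.exists_affine_chart (hqc i₀)
  haveI : IsAffine V0.left := hV0
  have hex : ∀ k : Over i₀, ∃ (W : Over S) (w : W ⟶ V0)
      (fst : (AlgSp.yon S).obj W ⟶ D.obj k.left),
      IsPullback fst ((AlgSp.yon S).map w) (D.map k.hom) g ∧ IsAffine W.left :=
    fun k => hDa _ _ k.hom hV0 g
  choose W w fst sqk hW using hex
  let Pb : PbSystem D i₀ g := ⟨W, w, fst, sqk⟩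
  obtain ⟨L, ⟨hL⟩, hLaff⟩ := exists_limit_affine Pb.functor hW
  obtain ⟨fstL, iW, hpb, hiW, hfstL⟩ := Pb.isPullback_of_isLimit hc L hL
  have hfstLs : AlgSp.RepWith @Surjective fstL :=
    MorphismProperty.of_isPullback (P := AlgSp.RepWith @Surjective) hpb.flip hgs
  -- the scheme representing `U ×_X h_L`
  obtain ⟨V2, p, qU, sq⟩ := hj.1 fstL
  haveI hp : IsOpenImmersion p.left := hj.2 fstL qU p sq
  have hUa : AlgSp.IsAlgSpace U := Groth.Agent.S10129.isAlgSpace_of_representable hXa j hj.1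
  have hgqc : AlgSp.IsQuasiCompactMor g :=
    Groth.Agent.S9920.isQuasiCompactMor_of_qc_qs (AlgSp.IsAlgSpace.yon_obj V0) (hD i₀) g
      (Groth.Agent.Lib.H5bLimDesc.isQuasiCompactSp_yon V0) (hqs i₀)
  have big : IsPullback qU ((AlgSp.yon S).map p ≫ (AlgSp.yon S).map iW) (j ≫ c.π.app i₀) g :=
    sq.paste_vert hpb
  haveI : CompactSpace ↥V2.left :=
    Groth.Agent.S10653.compactSpace_of_isQuasiCompactSp V2
      (hgqc hUa hU (j ≫ c.π.app i₀) _ qU big.flip)
  -- descend the open subset of `L`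
  haveI : IsConnected (Over i₀) := IsCofiltered.isConnected (Over i₀)
  have hLs : IsLimit ((Over.forget S).mapCone L) := isLimitOfPreserves _ hL
  haveI : ∀ {k k' : Over i₀} (ψ : k ⟶ k'), IsAffineHom ((Pb.functor ⋙ Over.forget S).map ψ) := by
    intro k k' ψ
    haveI : IsAffine ((Pb.functor ⋙ Over.forget S).obj k) := hW k
    haveI : IsAffine ((Pb.functor ⋙ Over.forget S).obj k') := hW k'
    infer_instance
  obtain ⟨k, Wk, hWk, hmemV⟩ : ∃ (k : Over i₀) (Wk : (W k).left.Opens),
      IsCompact (Wk : Set ↥(W k).left) ∧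
      ∀ v0 : ↥L.pt.left, v0 ∈ Set.range p.left ↔ (L.π.app k).left v0 ∈ Wk := by
    have hcpt : IsCompact ((show ((Over.forget S).mapCone L).pt.Opens from
        p.left.opensRange) : Set ((Over.forget S).mapCone L).pt) := by
      show IsCompact (Set.range p.left)
      exact isCompact_range p.left.continuous
    obtain ⟨k, Wk, hWk, hWkV⟩ := exists_preimage_eq (Pb.functor ⋙ Over.forget S)
      ((Over.forget S).mapCone L) hLs
      (show ((Over.forget S).mapCone L).pt.Opens from p.left.opensRange) hcpt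
    refine ⟨k, Wk, hWk, fun v0 => ?_⟩
    have h1 : v0 ∈ ((Over.forget S).mapCone L).π.app k ⁻¹ᵁ Wk ↔
        v0 ∈ (show ((Over.forget S).mapCone L).pt.Opens from p.left.opensRange) := by
      rw [hWkV]
    exact h1.symm
  -- the open subset of `|X_k|`
  have hfke : AlgSp.RepWith @Etale (fst k) :=
    MorphismProperty.of_isPullback (P := AlgSp.RepWith @Etale) (sqk k).flip hge
  have hAo : IsOpen (AlgSp.Points.ofPt (fst k) '' (Wk : Set ↥(W k).left)) :=
    Groth.Agent.S10176.isOpenMap_ofPt (fst k) hfke _ Wk.isOpen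
  have hAc : IsCompact (AlgSp.Points.ofPt (fst k) '' (Wk : Set ↥(W k).left)) :=
    hWk.image (AlgSp.Points.continuous_ofPt (fst k))
  obtain ⟨Uk, jk, hjk, hjkr⟩ := Groth.Agent.S10195.result ⟨D.obj k.left, hD k.left⟩ _ hAo
  -- the projection square at level `k`
  have sqLk : IsPullback fstL ((AlgSp.yon S).map (L.π.app k)) (c.π.app k.left) (fst k) := by
    refine (IsPullback.of_right ?_ (hfstL k).symm (sqk k).flip).flip
    have e1 : (AlgSp.yon S).map (L.π.app k) ≫ (AlgSp.yon S).map (w k) = (AlgSp.yon S).map iW := by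
      rw [← Functor.map_comp, hiW k]
    have e2 : c.π.app k.left ≫ D.map k.hom = c.π.app i₀ := c.w k.hom
    rw [e1, e2]
    exact hpb.flip
  -- the points of `U`
  have key : ∀ x : AlgSp.Points c.pt, x ∈ Set.range (AlgSp.Points.map j) ↔
      AlgSp.Points.map (c.π.app k.left) x ∈
        AlgSp.Points.ofPt (fst k) '' (Wk : Set ↥(W k).left) := by
    intro x
    constructor
    · rintro ⟨u, rfl⟩
      obtain ⟨v0, hv0⟩ := Groth.Agent.S10177.surjective_ofPt fstL hfstLs (AlgSp.Points.map j u)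
      have e : AlgSp.Points.map j u =
          AlgSp.Points.map fstL (AlgSp.Points.schemeHomeo L.pt v0) := by
        rw [← hv0, AlgSp.Points.ofPt_eq_map_ofScheme]
        rfl
      obtain ⟨z, -, hz2⟩ := Groth.Agent.S10175.exists_point_of_isPullback sq u _ e
      obtain ⟨z0, rfl⟩ := (AlgSp.Points.schemeHomeo V2).surjective z
      rw [AlgSp.Points.map_yon_map_apply] at hz2
      have hv : p.left z0 = v0 := (AlgSp.Points.schemeHomeo L.pt).injective hz2
      refine ⟨(L.π.app k).left v0, (hmemV v0).1 ⟨z0, hv⟩, ?_⟩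
      rw [← Groth.Agent.S10176.ofPt_map_comp (L.π.app k) (fst k) v0, ← hfstL k,
        ← AlgSp.Points.map_ofPt, hv0]
    · rintro ⟨wk, hwk, hx⟩
      have e : AlgSp.Points.map (c.π.app k.left) x =
          AlgSp.Points.map (fst k) (AlgSp.Points.schemeHomeo (W k) wk) := by
        rw [← hx, AlgSp.Points.ofPt_eq_map_ofScheme]
        rfl
      obtain ⟨v, hv1, hv2⟩ := Groth.Agent.S10175.exists_point_of_isPullback sqLk x _ e
      obtain ⟨v0, rfl⟩ := (AlgSp.Points.schemeHomeo L.pt).surjective v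
      rw [AlgSp.Points.map_yon_map_apply] at hv2
      have hvw : (L.π.app k).left v0 = wk := (AlgSp.Points.schemeHomeo (W k)).injective hv2
      obtain ⟨z0, hz0⟩ := (hmemV v0).2 (by rw [hvw]; exact hwk)
      refine ⟨AlgSp.Points.map qU (AlgSp.Points.schemeHomeo V2 z0), ?_⟩
      rw [← AlgSp.Points.map_comp, sq.w, AlgSp.Points.map_comp, AlgSp.Points.map_yon_map_apply,
        hz0, hv1]
  -- the pullback of `U_k`
  obtain ⟨U2, j2, q2, sq2⟩ : ∃ (U2 : AlgSp.Sp S) (j2 : U2 ⟶ c.pt) (q2 : U2 ⟶ Uk.obj),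
      IsPullback j2 q2 (c.π.app k.left) jk.hom := ⟨_, _, _, IsPullback.of_hasPullback _ _⟩
  have hj2 : AlgSp.RepWith @IsOpenImmersion j2 :=
    MorphismProperty.of_isPullback (P := AlgSp.RepWith @IsOpenImmersion) sq2.flip hjk
  have hr2 : Set.range (AlgSp.Points.map j2) = Set.range (AlgSp.Points.map j) := by
    ext x
    rw [key x, ← hjkr]
    constructor
    · rintro ⟨z, rfl⟩
      rw [← AlgSp.Points.map_comp, sq2.w, AlgSp.Points.map_comp]
      exact ⟨_, rfl⟩
    · rintro ⟨y, hy⟩
      obtain ⟨z, hz1, -⟩ := Groth.Agent.S10175.exists_point_of_isPullback sq2 x y hy.symm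
      exact ⟨z, hz1⟩
  obtain ⟨a, ha⟩ := (Groth.Agent.S10194.exists_factor_iff j2 hj2 j).2 (by rw [hr2])
  obtain ⟨b, hb⟩ := (Groth.Agent.S10194.exists_factor_iff j hj j2).2 (by rw [hr2])
  haveI : Mono j := mono_of_open j hj
  haveI : Mono j2 := mono_of_open j2 hj2
  have hab : a ≫ b = 𝟙 U := by
    rw [← cancel_mono j, Category.assoc, hb, ha, Category.id_comp]
  have hba : b ≫ a = 𝟙 U2 := by
    rw [← cancel_mono j2, Category.assoc, ha, hb, Category.id_comp]
  refine ⟨k, Uk.obj, jk.hom, a ≫ q2, hjk, ?_, ?_⟩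
  · refine isQuasiCompactSp_of_open Uk.property (hD k.left) jk.hom hjk ?_
    rw [hjkr]
    exact hAc
  · refine IsPullback.of_iso sq2 (⟨b, a, hba, hab⟩ : U2 ≅ U) (Iso.refl _) (Iso.refl _)
      (Iso.refl _) ?_ ?_ ?_ ?_
    · simp [hb]
    · simp only [Iso.refl_hom, Category.comp_id]
      rw [← Category.assoc, hba, Category.id_comp]
    · simp
    · simp

/-- Let `S` be a quasi-separated scheme and `X` the limit, in fppf sheaves over `S`, of a cofiltered
system `(X_i)` of algebraic spaces over `S`, each quasi-compact and quasi-separated over `S`, whose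
transition maps are affine. Then every quasi-compact open subspace `U ⟶ X` is the inverse image of a
quasi-compact open subspace `U_i ⟶ X_i` for some index `i` (a pullback square over the projection `X
⟶ X_i`). (The published statement allows any base scheme and uses absolute quasi-separatedness; this
row assumes the base quasi-separated, over which quasi-separatedness relative to the base is the
absolute notion.) -/
theorem result (S : Scheme.{u}) [QuasiSeparatedSpace ↥S] {I : Type u} [SmallCategory I] [IsCofiltered I]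
    (D : I ⥤ AlgSp.Sp S) (hD : ∀ i, AlgSp.IsAlgSpace (D.obj i))
    (hDa : ∀ (i j : I) (φ : i ⟶ j), AlgSp.IsAffineMor (D.map φ))
    (hqc : ∀ i, AlgSp.IsQuasiCompactSp (D.obj i)) (hqs : ∀ i, AlgSp.IsQuasiSeparatedSp (D.obj i))
    (c : Cone D) (hc : IsLimit c)
    (U : AlgSp.Sp S) (j : U ⟶ c.pt) (hj : AlgSp.RepWith @IsOpenImmersion j) (hU : AlgSp.IsQuasiCompactSp U) :
    ∃ (i : I) (Ui : AlgSp.Sp S) (ji : Ui ⟶ D.obj i) (q : U ⟶ Ui),
      AlgSp.RepWith @IsOpenImmersion ji ∧ AlgSp.IsQuasiCompactSp Ui ∧ IsPullback j q (c.π.app i) ji := by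
  obtain ⟨i₀⟩ := IsCofiltered.nonempty (C := I)
  obtain ⟨k, Ui, ji, q, h1, h2, h3⟩ := main S D hD hDa hqc hqs c hc U j hj hU i₀
  exact ⟨k.left, Ui, ji, q, h1, h2, h3⟩

end Groth.Agent.S10086
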