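import Groth.Statements.S10123
import Mathlib
import Groth.Agent.S9874
import Groth.Agent.S9984
import Groth.Agent.S9985

set_option autoImplicit false
universe u
open CategoryTheory CategoryTheory.Limits AlgebraicGeometry
open AlgSp AlgSp.GroupoidSp

namespace Groth.Agent.S10123

variable {S : Scheme.{u}}

/-- abstract form: if `R'` is the "restriction" of `(x₁, x₂) : R ⇉ U` along `g : U' ⟶ U`, then
`x₁'` is a base change of `g`, after the base change of `x₂` along `g`. -/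
lemma isPullback_of_restr {U U' R R' : AlgSp.Sp S} (g : U' ⟶ U) (x₁ x₂ : R ⟶ U)
    (x₁' x₂' : R' ⟶ U') (fR : R' ⟶ R) (c₁ : fR ≫ x₁ = x₁' ≫ g) (c₂ : fR ≫ x₂ = x₂' ≫ g)
    (hex : ∀ {T : AlgSp.Sp S} (r : T ⟶ R) (a₁ a₂ : T ⟶ U'), r ≫ x₁ = a₁ ≫ g → r ≫ x₂ = a₂ ≫ g →
      ∃ m : T ⟶ R', m ≫ fR = r ∧ m ≫ x₁' = a₁ ∧ m ≫ x₂' = a₂)
    (hext : ∀ {T : AlgSp.Sp S} (m m' : T ⟶ R'), m ≫ fR = m' ≫ fR → m ≫ x₁' = m' ≫ x₁' →
      m ≫ x₂' = m' ≫ x₂' → m = m') :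
    IsPullback x₁' (pullback.lift fR x₂' c₂) g (pullback.fst x₂ g ≫ x₁) := by
  refine ⟨⟨by rw [← Category.assoc, pullback.lift_fst, c₁]⟩, ⟨PullbackCone.IsLimit.mk _ ?_ ?_ ?_ ?_⟩⟩
  · intro s
    have h2 : (s.snd ≫ pullback.fst x₂ g) ≫ x₂ = (s.snd ≫ pullback.snd x₂ g) ≫ g := by
      rw [Category.assoc, Category.assoc, pullback.condition]
    have h1 : (s.snd ≫ pullback.fst x₂ g) ≫ x₁ = s.fst ≫ g := by
      rw [Category.assoc, s.condition]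
    exact (hex _ _ _ h1 h2).choose
  · intro s
    have h2 : (s.snd ≫ pullback.fst x₂ g) ≫ x₂ = (s.snd ≫ pullback.snd x₂ g) ≫ g := by
      rw [Category.assoc, Category.assoc, pullback.condition]
    have h1 : (s.snd ≫ pullback.fst x₂ g) ≫ x₁ = s.fst ≫ g := by
      rw [Category.assoc, s.condition]
    exact (hex _ _ _ h1 h2).choose_spec.2.1
  · intro s
    have h2 : (s.snd ≫ pullback.fst x₂ g) ≫ x₂ = (s.snd ≫ pullback.snd x₂ g) ≫ g := by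
      rw [Category.assoc, Category.assoc, pullback.condition]
    have h1 : (s.snd ≫ pullback.fst x₂ g) ≫ x₁ = s.fst ≫ g := by
      rw [Category.assoc, s.condition]
    have hm := (hex _ _ _ h1 h2).choose_spec
    apply pullback.hom_ext
    · rw [Category.assoc, pullback.lift_fst, hm.1]
    · rw [Category.assoc, pullback.lift_snd, hm.2.2]
  · intro s m hm1 hm2
    have h2 : (s.snd ≫ pullback.fst x₂ g) ≫ x₂ = (s.snd ≫ pullback.snd x₂ g) ≫ g := by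
      rw [Category.assoc, Category.assoc, pullback.condition]
    have h1 : (s.snd ≫ pullback.fst x₂ g) ≫ x₁ = s.fst ≫ g := by
      rw [Category.assoc, s.condition]
    have hm := (hex _ _ _ h1 h2).choose_spec
    apply hext
    · rw [hm.1, ← hm2, Category.assoc, pullback.lift_fst]
    · rw [hm.2.1, hm1]
    · rw [hm.2.2, ← hm2, Category.assoc, pullback.lift_snd]

variable {B : AlgSp.Sp S}

lemma restr_exists {G G' : AlgSp.GroupoidSp B} (φ : AlgSp.GroupoidSp.Hom G' G)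
    (hφ : φ.IsRestriction) {T : AlgSp.Sp S} (r : T ⟶ G.R) (a₁ a₂ : T ⟶ G'.U)
    (h1 : r ≫ G.t = a₁ ≫ φ.fU) (h2 : r ≫ G.s = a₂ ≫ φ.fU) :
    ∃ m : T ⟶ G'.R, m ≫ φ.fR = r ∧ m ≫ G'.t = a₁ ∧ m ≫ G'.s = a₂ := by
  have hover : a₁ ≫ G'.pU = a₂ ≫ G'.pU := by
    rw [← φ.fU_over, ← Category.assoc, ← h1, ← Category.assoc, ← h2, Category.assoc,
      Category.assoc, G.t_over, G.s_over]
  have hw : r ≫ G.j = pullback.lift a₁ a₂ hover ≫ φ.prodMap := by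
    apply pullback.hom_ext
    · rw [Category.assoc, AlgSp.GroupoidSp.j_fst, Category.assoc]
      unfold AlgSp.GroupoidSp.Hom.prodMap
      rw [pullback.lift_fst, ← Category.assoc, pullback.lift_fst, h1]
    · rw [Category.assoc, AlgSp.GroupoidSp.j_snd, Category.assoc]
      unfold AlgSp.GroupoidSp.Hom.prodMap
      rw [pullback.lift_snd, ← Category.assoc, pullback.lift_snd, h2]
  refine ⟨hφ.lift r (pullback.lift a₁ a₂ hover) hw, hφ.lift_fst _ _ _, ?_, ?_⟩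
  · rw [← AlgSp.GroupoidSp.j_fst, ← Category.assoc, hφ.lift_snd, pullback.lift_fst]
  · rw [← AlgSp.GroupoidSp.j_snd, ← Category.assoc, hφ.lift_snd, pullback.lift_snd]

lemma restr_ext {G G' : AlgSp.GroupoidSp B} (φ : AlgSp.GroupoidSp.Hom G' G)
    (hφ : φ.IsRestriction) {T : AlgSp.Sp S} (m m' : T ⟶ G'.R) (h0 : m ≫ φ.fR = m' ≫ φ.fR)
    (h1 : m ≫ G'.t = m' ≫ G'.t) (h2 : m ≫ G'.s = m' ≫ G'.s) : m = m' := by
  apply hφ.hom_ext h0
  apply pullback.hom_ext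
  · rw [Category.assoc, Category.assoc, AlgSp.GroupoidSp.j_fst, h1]
  · rw [Category.assoc, Category.assoc, AlgSp.GroupoidSp.j_snd, h2]

/-- the generic argument for one property. -/
lemma main (P : MorphismProperty Scheme.{u})
    (hP : P = @LocallyOfFiniteType ∨ P = @LocallyOfFinitePresentation ∨ P = @Flat ∨ P = @Smooth ∨
      P = @Etale ∨
      (∀ ⦃A B : Scheme.{u}⦄ (g : A ⟶ B), P g ↔ (LocallyQuasiFinite g ∧ LocallyOfFiniteType g)) ∨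
      (∀ ⦃A B : Scheme.{u}⦄ (g : A ⟶ B), P g ↔ (LocallyOfFiniteType g ∧ FormallyUnramified g)))
    {U U' R R' : AlgSp.Sp S} (hU : AlgSp.IsAlgSpace U) (hU' : AlgSp.IsAlgSpace U')
    (hR : AlgSp.IsAlgSpace R) (hR' : AlgSp.IsAlgSpace R')
    (g : U' ⟶ U) (x₁ x₂ : R ⟶ U) (x₁' x₂' : R' ⟶ U') (fR : R' ⟶ R)
    (c₂ : fR ≫ x₂ = x₂' ≫ g)
    (sq : IsPullback x₁' (pullback.lift fR x₂' c₂) g (pullback.fst x₂ g ≫ x₁))
    (h₂ : AlgSp.LocP P x₂) (hg : AlgSp.LocP P g) : AlgSp.LocP P x₂' := by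
  have hQ : AlgSp.IsAlgSpace (pullback x₂ g) :=
    Groth.Agent.S9874.isAlgSpace_of_isPullback hU.diag hR hU' (IsPullback.of_hasPullback _ _)
  let U₀ : AlgSp.Space S := ⟨U, hU⟩
  let U₁ : AlgSp.Space S := ⟨U', hU'⟩
  let R₀ : AlgSp.Space S := ⟨R, hR⟩
  let R₁ : AlgSp.Space S := ⟨R', hR'⟩
  let Q : AlgSp.Space S := ⟨pullback x₂ g, hQ⟩
  let ψ : R₁ ⟶ Q := ObjectProperty.homMk (pullback.lift fR x₂' c₂)
  let q₂ : Q ⟶ U₁ := ObjectProperty.homMk (pullback.snd x₂ g)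
  let q₁ : Q ⟶ R₀ := ObjectProperty.homMk (pullback.fst x₂ g)
  let g' : U₁ ⟶ U₀ := ObjectProperty.homMk g
  let x₂₀ : R₀ ⟶ U₀ := ObjectProperty.homMk x₂
  let x₁₀ : R₀ ⟶ U₀ := ObjectProperty.homMk x₁
  let x₁'₀ : R₁ ⟶ U₁ := ObjectProperty.homMk x₁'
  have hq₂ : AlgSp.LocP P q₂.hom :=
    Groth.Agent.S9984.result P hP x₂₀ g' q₁ q₂ (IsPullback.of_hasPullback x₂ g) h₂
  have hψ : AlgSp.LocP P ψ.hom :=
    Groth.Agent.S9984.result P hP g' (q₁ ≫ x₁₀) x₁'₀ ψ sq hg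
  have := Groth.Agent.S9985.result P hP ψ q₂ hψ hq₂
  have e : (ψ ≫ q₂).hom = x₂' := pullback.lift_snd _ _ _
  rw [e] at this
  exact this

/-- Let `(U', R', s', t', c')` be the restriction of a groupoid in algebraic spaces `(U, R, s, t, c)`
over `B` along `g : U' ⟶ U`. If `s, t, g` are locally of finite type (resp. locally of finite
presentation, resp. flat) then so are `s', t'`. -/
theorem result (S : Scheme.{u}) (B : AlgSp.Sp S) (hB : AlgSp.IsAlgSpace B)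
    (G G' : AlgSp.GroupoidSp B) (hU : AlgSp.IsAlgSpace G.U) (hR : AlgSp.IsAlgSpace G.R)
    (hU' : AlgSp.IsAlgSpace G'.U) (hR' : AlgSp.IsAlgSpace G'.R) (φ : AlgSp.GroupoidSp.Hom G' G)
    (hφ : φ.IsRestriction) :
    (AlgSp.LocP @LocallyOfFiniteType G.s → AlgSp.LocP @LocallyOfFiniteType G.t →
        AlgSp.LocP @LocallyOfFiniteType φ.fU →
        AlgSp.LocP @LocallyOfFiniteType G'.s ∧ AlgSp.LocP @LocallyOfFiniteType G'.t) ∧
      (AlgSp.LocP @LocallyOfFinitePresentation G.s → AlgSp.LocP @LocallyOfFinitePresentation G.t →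
        AlgSp.LocP @LocallyOfFinitePresentation φ.fU →
        AlgSp.LocP @LocallyOfFinitePresentation G'.s ∧ AlgSp.LocP @LocallyOfFinitePresentation G'.t) ∧
      (AlgSp.LocP @Flat G.s → AlgSp.LocP @Flat G.t → AlgSp.LocP @Flat φ.fU →
        AlgSp.LocP @Flat G'.s ∧ AlgSp.LocP @Flat G'.t) := by
  have sqs := isPullback_of_restr φ.fU G.t G.s G'.t G'.s φ.fR φ.comm_t φ.comm_s
    (fun r a₁ a₂ h1 h2 => restr_exists φ hφ r a₁ a₂ h1 h2)
    (fun m m' h0 h1 h2 => restr_ext φ hφ m m' h0 h1 h2)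
  have sqt := isPullback_of_restr φ.fU G.s G.t G'.s G'.t φ.fR φ.comm_s φ.comm_t
    (fun r a₁ a₂ h1 h2 => by
      obtain ⟨m, hm0, hm1, hm2⟩ := restr_exists φ hφ r a₂ a₁ h2 h1
      exact ⟨m, hm0, hm2, hm1⟩)
    (fun m m' h0 h1 h2 => restr_ext φ hφ m m' h0 h2 h1)
  refine ⟨fun h1 h2 h3 => ⟨?_, ?_⟩, fun h1 h2 h3 => ⟨?_, ?_⟩, fun h1 h2 h3 => ⟨?_, ?_⟩⟩
  · exact main _ (Or.inl rfl) hU hU' hR hR' _ _ _ _ _ _ _ sqs h1 h3
  · exact main _ (Or.inl rfl) hU hU' hR hR' _ _ _ _ _ _ _ sqt h2 h3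
  · exact main _ (Or.inr (Or.inl rfl)) hU hU' hR hR' _ _ _ _ _ _ _ sqs h1 h3
  · exact main _ (Or.inr (Or.inl rfl)) hU hU' hR hR' _ _ _ _ _ _ _ sqt h2 h3
  · exact main _ (Or.inr (Or.inr (Or.inl rfl))) hU hU' hR hR' _ _ _ _ _ _ _ sqs h1 h3
  · exact main _ (Or.inr (Or.inr (Or.inl rfl))) hU hU' hR hR' _ _ _ _ _ _ _ sqt h2 h3

end Groth.Agent.S10123
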