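import Groth.Statements.S10132
import Mathlib
import Groth.Agent.S10123
import Groth.Agent.S9911
import Groth.Agent.S9907
import Groth.Agent.S9944
import Groth.Agent.S10552
import Groth.Agent.Lib.Helper12OnePoint
import Groth.Agent.Lib.Helper12TopDescent

set_option autoImplicit false
universe u
open CategoryTheory CategoryTheory.Limits AlgebraicGeometry
open AlgSp AlgSp.GroupoidSp

namespace Groth.Agent.S10132


variable {S : Scheme.{u}}

/-- the local rings of a scheme étale over a field are fields. -/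
lemma isField_stalk_of_etale_field {V : Scheme.{u}} {K : Type u} [Field K]
    (v : V ⟶ Spec (CommRingCat.of K)) [Etale v] (x : V) : IsField (V.presheaf.stalk x) := by
  have := Groth.Agent.Lib.Helper12.OnePoint.subsingleton_primeSpectrum_stalk K v x
  have : IsReduced V := Groth.Agent.Lib.Helper12.Reduced.isReduced_of_smooth v
  exact PrimeSpectrum.subsingleton_iff_isField_of_isReduced.1 inferInstance

/-- every morphism to a scheme all of whose local rings are fields is flat. -/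
lemma flat_of_isField_stalk {U V : Scheme.{u}} (h : U ⟶ V)
    (hV : ∀ x : V, IsField (V.presheaf.stalk x)) : Flat h := by
  rw [Flat.iff_flat_stalkMap]
  intro x
  letI := (hV (h x)).toField
  letI := (h.stalkMap x).hom.toAlgebra
  show Module.Flat (V.presheaf.stalk (h x)) (U.presheaf.stalk x)
  infer_instance

/-- every morphism of sheaves to the spectrum of a field is flat. -/
lemma locP_flat_to_field {X Y : AlgSp.Sp S} (f : X ⟶ Y) {K : Type u} [Field K]
    (σ : Spec (CommRingCat.of K) ⟶ S) (e : Y ≅ (AlgSp.yon S).obj (Over.mk σ)) :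
    AlgSp.LocP @Flat f := by
  intro U V a b h ha hb hc
  obtain ⟨v, hv⟩ := (AlgSp.yon S).map_surjective (b ≫ e.hom)
  have hve : AlgSp.RepWith @Etale ((AlgSp.yon S).map v) := by
    rw [hv]
    exact MorphismProperty.RespectsIso.postcomp _ _ _ hb
  have : Etale v.left := (AlgSp.repWith_yon_map_iff _ _).1 hve
  exact flat_of_isField_stalk h.left (fun x => isField_stalk_of_etale_field v.left x)

/-- every morphism from an algebraic space to the spectrum of a field is universally open. -/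
lemma isUnivOpenMor_to_field {X Y : AlgSp.Sp S} (hX : AlgSp.IsAlgSpace X) (f : X ⟶ Y) {K : Type u}
    [Field K] (σ : Spec (CommRingCat.of K) ⟶ S) (e : Y ≅ (AlgSp.yon S).obj (Over.mk σ)) :
    AlgSp.IsUnivOpenMor f := by
  have h := Groth.Agent.S9911.result ⟨X, hX⟩ σ (ObjectProperty.homMk (f ≫ e.hom))
  intro Z Z' hZ g fst snd sq
  exact h hZ (g ≫ e.hom) fst snd (sq.of_iso (Iso.refl _) (Iso.refl _) (Iso.refl _) e
    (by simp) (by simp) (by simp) (by simp))

/-- source and target of a groupoid whose object space is the spectrum of a field. -/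
lemma st_props {B : AlgSp.Sp S} (G : AlgSp.GroupoidSp B) (hR : AlgSp.IsAlgSpace G.R) {K : Type u}
    [Field K] (σ : Spec (CommRingCat.of K) ⟶ S) (e : G.U ≅ (AlgSp.yon S).obj (Over.mk σ)) :
    ∀ f ∈ [G.s, G.t], AlgSp.IsSurjectiveMor f ∧ AlgSp.LocP @Flat f ∧ AlgSp.IsUnivOpenMor f := by
  intro f hf
  refine ⟨?_, locP_flat_to_field f σ e, isUnivOpenMor_to_field hR f σ e⟩
  simp only [List.mem_cons, List.not_mem_nil, or_false] at hf
  rcases hf with rfl | rfl
  · exact fun x => ⟨AlgSp.Points.map G.e x, by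
      rw [← AlgSp.Points.map_comp, G.e_s, AlgSp.Points.map_id]⟩
  · exact fun x => ⟨AlgSp.Points.map G.e x, by
      rw [← AlgSp.Points.map_comp, G.e_t, AlgSp.Points.map_id]⟩

lemma isAffineMor_of_repWith {F G : AlgSp.Sp S} (f : F ⟶ G) (h : AlgSp.RepWith @IsAffineHom f) :
    AlgSp.IsAffineMor f := by
  intro Z hZ g
  obtain ⟨W, snd, fst, sq⟩ := h.1 g
  have := hZ
  have : IsAffineHom snd.left := h.2 g fst snd sq
  exact ⟨W, snd, fst, sq, isAffine_of_isAffineHom snd.left⟩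

lemma isAffineMor_of_iso {F G : AlgSp.Sp S} (e : F ≅ G) : AlgSp.IsAffineMor e.hom := by
  intro Z hZ g
  refine ⟨Z, 𝟙 Z, g ≫ e.inv, ?_, hZ⟩
  rw [(AlgSp.yon S).map_id]
  exact IsPullback.of_vert_isIso ⟨by simp⟩

/-- Let `(U, R, s, t, c)` be a groupoid in algebraic spaces over `B` whose object space is `U = Spec k`,
let `k ⊂ k'` be a field extension and `(U', R', s', t', c')` the restriction along `Spec k' ⟶ Spec
k`. Then `s, t, s', t'`, `Spec k' ⟶ Spec k` and `R' ⟶ R` are surjective, flat and universally open,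
and `R' ⟶ R` is moreover affine. (The published statement lists every arrow of the restriction
diagram; this row omits the six arrows through `R ×_{s,U} U'` and `U' ×_{U,t} R`, each a base change
of `s`, `t` or `Spec k' ⟶ Spec k`.) -/
theorem result (S : Scheme.{u}) (B : AlgSp.Sp S) (hB : AlgSp.IsAlgSpace B)
    (G G' : AlgSp.GroupoidSp B) (hR : AlgSp.IsAlgSpace G.R) (hR' : AlgSp.IsAlgSpace G'.R)
    (k k' : Type u) [Field k] [Field k'] [Algebra k k'] (σ : Spec (CommRingCat.of k) ⟶ S)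
    (eU : G.U ≅ ((AlgSp.yon S).obj (Over.mk σ)))
    (eU' : G'.U ≅ ((AlgSp.yon S).obj (Over.mk (Spec.map (CommRingCat.ofHom (algebraMap k k')) ≫ σ))))
    (φ : AlgSp.GroupoidSp.Hom G' G) (hφ : φ.IsRestriction)
    (hfU : φ.fU = eU'.hom ≫ (AlgSp.yon S).map (Over.homMk (Spec.map (CommRingCat.ofHom (algebraMap k k'))) rfl :
      Over.mk (Spec.map (CommRingCat.ofHom (algebraMap k k')) ≫ σ) ⟶ Over.mk σ) ≫ eU.inv) :
    (∀ f ∈ [G.s, G.t], AlgSp.IsSurjectiveMor f ∧ AlgSp.LocP @Flat f ∧ AlgSp.IsUnivOpenMor f) ∧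
      (∀ f ∈ [G'.s, G'.t], AlgSp.IsSurjectiveMor f ∧ AlgSp.LocP @Flat f ∧ AlgSp.IsUnivOpenMor f) ∧
      (AlgSp.IsSurjectiveMor φ.fU ∧ AlgSp.LocP @Flat φ.fU ∧ AlgSp.IsUnivOpenMor φ.fU) ∧
      (AlgSp.IsSurjectiveMor φ.fR ∧ AlgSp.LocP @Flat φ.fR ∧ AlgSp.IsUnivOpenMor φ.fR ∧ AlgSp.IsAffineMor φ.fR) := by
  have hU : AlgSp.IsAlgSpace G.U := (AlgSp.IsAlgSpace.yon_obj _).of_iso eU.symm
  have hU' : AlgSp.IsAlgSpace G'.U := (AlgSp.IsAlgSpace.yon_obj _).of_iso eU'.symm
  let γ : (Over.mk (Spec.map (CommRingCat.ofHom (algebraMap k k')) ≫ σ) : Over S) ⟶ Over.mk σ :=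
    Over.homMk (Spec.map (CommRingCat.ofHom (algebraMap k k'))) rfl
  -- properties of fU
  have hfU1 : AlgSp.IsSurjectiveMor φ.fU := by
    intro x
    have : Subsingleton ↥(Over.mk σ).left := (inferInstance : Subsingleton (PrimeSpectrum k))
    have : Subsingleton (AlgSp.Points ((AlgSp.yon S).obj (Over.mk σ))) :=
      (AlgSp.Points.schemeHomeo (Over.mk σ)).symm.injective.subsingleton
    have hinj : Function.Injective (AlgSp.Points.map eU.hom) := by
      intro p q hpq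
      have := congrArg (AlgSp.Points.map eU.inv) hpq
      rwa [← AlgSp.Points.map_comp, ← AlgSp.Points.map_comp, eU.hom_inv_id, AlgSp.Points.map_id,
        AlgSp.Points.map_id] at this
    refine ⟨AlgSp.Points.map eU'.inv (AlgSp.Points.ofPt (𝟙 _) (IsLocalRing.closedPoint k')), ?_⟩
    exact hinj (Subsingleton.elim _ _)
  have hfU2 : AlgSp.LocP @Flat φ.fU := locP_flat_to_field φ.fU σ eU
  have hfU3 : AlgSp.IsUnivOpenMor φ.fU := isUnivOpenMor_to_field hU' φ.fU σ eU
  have hfU4 : AlgSp.IsAffineMor φ.fU := by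
    rw [hfU]
    refine Groth.Agent.S9944.isAffineMor_comp _ _ (isAffineMor_of_iso eU') ?_
    refine Groth.Agent.S9944.isAffineMor_comp _ _ ?_ (isAffineMor_of_iso eU.symm)
    refine isAffineMor_of_repWith _ ((AlgSp.repWith_yon_map_iff _ _).2 ?_)
    show IsAffineHom (Spec.map (CommRingCat.ofHom (algebraMap k k')))
    infer_instance
  refine ⟨st_props G hR σ eU, st_props G' hR' _ eU', ⟨hfU1, hfU2, hfU3⟩, ?_⟩
  -- fR as a composite of two base changes of fU
  have sqt := Groth.Agent.S10123.isPullback_of_restr φ.fU G.t G.s G'.t G'.s φ.fR φ.comm_t φ.comm_s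
    (fun r a₁ a₂ h1 h2 => Groth.Agent.S10123.restr_exists φ hφ r a₁ a₂ h1 h2)
    (fun m m' h0 h1 h2 => Groth.Agent.S10123.restr_ext φ hφ m m' h0 h1 h2)
  have sqq : IsPullback (pullback.snd G.s φ.fU) (pullback.fst G.s φ.fU) φ.fU G.s :=
    (IsPullback.of_hasPullback G.s φ.fU).flip
  have hQ : AlgSp.IsAlgSpace (pullback G.s φ.fU) :=
    Groth.Agent.S9874.isAlgSpace_of_isPullback hU.diag hR hU' (IsPullback.of_hasPullback _ _)
  let U₀ : AlgSp.Space S := ⟨G.U, hU⟩
  let U₁ : AlgSp.Space S := ⟨G'.U, hU'⟩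
  let R₀ : AlgSp.Space S := ⟨G.R, hR⟩
  let R₁ : AlgSp.Space S := ⟨G'.R, hR'⟩
  let Q : AlgSp.Space S := ⟨pullback G.s φ.fU, hQ⟩
  let ψ : R₁ ⟶ Q := ObjectProperty.homMk (pullback.lift φ.fR G'.s φ.comm_s)
  let q₂ : Q ⟶ U₁ := ObjectProperty.homMk (pullback.snd G.s φ.fU)
  let q₁ : Q ⟶ R₀ := ObjectProperty.homMk (pullback.fst G.s φ.fU)
  let g' : U₁ ⟶ U₀ := ObjectProperty.homMk φ.fU
  let s₀ : R₀ ⟶ U₀ := ObjectProperty.homMk G.s
  let t₀ : R₀ ⟶ U₀ := ObjectProperty.homMk G.t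
  let t₁ : R₁ ⟶ U₁ := ObjectProperty.homMk G'.t
  have e : φ.fR = ψ.hom ≫ q₁.hom := (pullback.lift_fst _ _ _).symm
  have hFlat : AlgSp.LocP @Flat (ψ ≫ q₁).hom :=
    Groth.Agent.S9985.result @Flat (Or.inr (Or.inr (Or.inl rfl))) ψ q₁
      (Groth.Agent.S9984.result @Flat (Or.inr (Or.inr (Or.inl rfl))) g' (q₁ ≫ t₀) t₁ ψ sqt hfU2)
      (Groth.Agent.S9984.result @Flat (Or.inr (Or.inr (Or.inl rfl))) g' s₀ q₂ q₁ sqq hfU2)
  refine ⟨?_, ?_, ?_, ?_⟩
  · rw [e]
    have h1 : AlgSp.IsSurjectiveMor ψ.hom :=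
      Groth.Agent.S9907.result g' (q₁ ≫ t₀) t₁.hom ψ.hom sqt hfU1
    have h2 : AlgSp.IsSurjectiveMor q₁.hom :=
      Groth.Agent.S9907.result g' s₀ q₂.hom q₁.hom sqq hfU1
    intro x
    obtain ⟨y, rfl⟩ := h2 x
    obtain ⟨z, rfl⟩ := h1 y
    exact ⟨z, AlgSp.Points.map_comp _ _ _⟩
  · rw [e]
    exact hFlat
  · rw [e]
    exact Groth.Agent.S10552.isUnivOpenMor_comp hQ hR _ _
      (Groth.Agent.Lib.Helper12.TopDescent.univSp_baseChange _ sqt hfU3)
      (Groth.Agent.Lib.Helper12.TopDescent.univSp_baseChange _ sqq hfU3)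
  · rw [e]
    exact Groth.Agent.S9944.isAffineMor_comp _ _
      (Groth.Agent.S9944.isAffineMor_of_isPullback sqt hfU4)
      (Groth.Agent.S9944.isAffineMor_of_isPullback sqq hfU4)

end Groth.Agent.S10132
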