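import Groth.Statements.S10609
import Mathlib
import Groth.Agent.Lib.H5bFlatCI
import Groth.Agent.Lib.H5bLqfDim

set_option autoImplicit false
universe u
open CategoryTheory CategoryTheory.Limits AlgebraicGeometry
open AlgSp

namespace Groth.Agent.S10609

/-- Let f : X ⟶ Y and h : Y ⟶ Z be morphisms of algebraic spaces over S with X locally of finite
presentation and flat over Z and Y locally of finite type over Z. Then the set of points of X at
which f is flat is open in the space of points of X, and its formation commutes with base change: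
for Z' ⟶ Z and pullback squares Y' = Y ×_Z Z', X' = X ×_Y Y', the set of points of X' at which X' ⟶
Y' is flat is the inverse image of that set under the map on points of X' ⟶ X. -/
theorem result {S : Scheme.{u}} {X Y Z : AlgSp.Space S} (f : X ⟶ Y) (h : Y ⟶ Z)
    (hfp : AlgSp.LocP @LocallyOfFinitePresentation (f ≫ h).hom) (hfl : AlgSp.LocP @Flat (f ≫ h).hom)
    (hft : AlgSp.LocP @LocallyOfFiniteType h.hom) :
    IsOpen {x : AlgSp.Points X.obj | AlgSp.IsFlatAtMor f.hom x} ∧
    ∀ (X' Y' Z' : AlgSp.Space S) (g : Z' ⟶ Z) (f' : X' ⟶ Y') (h' : Y' ⟶ Z') (pX : X' ⟶ X) (pY : Y' ⟶ Y),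
      IsPullback pY.hom h'.hom h.hom g.hom → IsPullback pX.hom f'.hom f.hom pY.hom →
      {x' : AlgSp.Points X'.obj | AlgSp.IsFlatAtMor f'.hom x'} =
        AlgSp.Points.map pX.hom ⁻¹' {x : AlgSp.Points X.obj | AlgSp.IsFlatAtMor f.hom x} := by
  have hX := X.property
  have hY := Y.property
  have hZ := Z.property
  have hmulE := AlgSp.repWith_isMultiplicative (S := S) @Etale
  have hmulS := AlgSp.repWith_isMultiplicative (S := S) @Surjective
  -- properties of the arrows of a chart triple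
  have key : ∀ {U V W : Over S} (a : (AlgSp.yon S).obj U ⟶ X.obj) (b : (AlgSp.yon S).obj V ⟶ Y.obj)
      (c : (AlgSp.yon S).obj W ⟶ Z.obj) (p : U ⟶ V) (q : V ⟶ W), AlgSp.RepWith @Etale a →
      AlgSp.RepWith @Etale b → AlgSp.RepWith @Etale c → a ≫ f.hom = (AlgSp.yon S).map p ≫ b →
      b ≫ h.hom = (AlgSp.yon S).map q ≫ c →
      LocallyOfFinitePresentation (p.left ≫ q.left) ∧ Flat (p.left ≫ q.left) ∧
        LocallyOfFiniteType q.left ∧ LocallyOfFinitePresentation p.left := by
    intro U V W a b c p q ha hb hc c1 c2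
    have c12 : a ≫ (f ≫ h).hom = (AlgSp.yon S).map (p ≫ q) ≫ c := by
      show a ≫ f.hom ≫ h.hom = _
      rw [← Category.assoc, c1, Category.assoc, c2, Functor.map_comp, Category.assoc]
    have h1 : LocallyOfFinitePresentation (p.left ≫ q.left) := hfp a c (p ≫ q) ha hc c12
    have h2 : Flat (p.left ≫ q.left) := hfl a c (p ≫ q) ha hc c12
    have h3 : LocallyOfFiniteType q.left := hft b c q hb hc c2
    exact ⟨h1, h2, h3,
      Groth.Agent.Lib.Helper6.locallyOfFinitePresentation_of_comp (g := q.left) h3 h1⟩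
  constructor
  · -- openness
    obtain ⟨V, W, b, c, q, hb, hbs, hc, hcs, c2⟩ :=
      Groth.Agent.Lib.H5bHasAtMor.exists_atlas_chart hY hZ h.hom
    obtain ⟨U₀, a₀, ha₀, ha₀s⟩ := hX.atlas
    obtain ⟨U, prU, p, hprU, c1, hpt⟩ :=
      Groth.Agent.Lib.H5bLqfDim.exists_chartPullback f.hom a₀ b hb
    have hsurj : Surjective prU.left := by
      refine ⟨fun u => ?_⟩
      obtain ⟨v, hv⟩ := Groth.Agent.S10177.surjective_ofPt b hbs (AlgSp.Points.ofPt (a₀ ≫ f.hom) u)
      obtain ⟨w, hw1, -⟩ := hpt u v hv.symm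
      exact ⟨w, hw1⟩
    have ha : AlgSp.RepWith @Etale ((AlgSp.yon S).map prU ≫ a₀) :=
      hmulE.comp_mem _ _ ((AlgSp.repWith_yon_map_iff @Etale prU).2 hprU) ha₀
    have has : AlgSp.RepWith @Surjective ((AlgSp.yon S).map prU ≫ a₀) :=
      hmulS.comp_mem _ _ ((AlgSp.repWith_yon_map_iff @Surjective prU).2 hsurj) ha₀s
    obtain ⟨k1, k2, k3, k4⟩ := key _ b c p q ha hb hc c1 c2
    haveI := k4
    have hO : IsOpen {u : ↥U.left | (p.left.stalkMap u).hom.Flat} := Groth.Agent.S0386.result p.left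
    have hset : {x : AlgSp.Points X.obj | AlgSp.IsFlatAtMor f.hom x} =
        AlgSp.Points.ofPt ((AlgSp.yon S).map prU ≫ a₀) ''
          {u : ↥U.left | (p.left.stalkMap u).hom.Flat} := by
      ext x
      constructor
      · intro hx
        obtain ⟨u, hu⟩ := Groth.Agent.S10177.surjective_ofPt _ has x
        exact ⟨u, hx _ b p u ha hb c1 hu, hu⟩
      · rintro ⟨u, hu, rfl⟩
        exact Groth.Agent.Lib.H5bFlatCI.isFlatAtMor_of_chart f.hom _ b p ha hb c1 _ u rfl hu
    rw [hset]
    exact Groth.Agent.S10176.isOpenMap_ofPt _ ha _ hO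
  · -- base change
    intro X' Y' Z' g f' h' pX pY sq1 sq2
    obtain ⟨W, c, hc, hcs⟩ := hZ.atlas
    obtain ⟨W'₀, c'₀, hc'₀, hc'₀s⟩ := Z'.property.atlas
    obtain ⟨W', prW, t, hprW, cg, hptW⟩ :=
      Groth.Agent.Lib.H5bLqfDim.exists_chartPullback g.hom c'₀ c hc
    have hsurjW : Surjective prW.left := by
      refine ⟨fun u => ?_⟩
      obtain ⟨v, hv⟩ := Groth.Agent.S10177.surjective_ofPt c hcs (AlgSp.Points.ofPt (c'₀ ≫ g.hom) u)
      obtain ⟨w, hw1, -⟩ := hptW u v hv.symm
      exact ⟨w, hw1⟩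
    have hc' : AlgSp.RepWith @Etale ((AlgSp.yon S).map prW ≫ c'₀) :=
      hmulE.comp_mem _ _ ((AlgSp.repWith_yon_map_iff @Etale prW).2 hprW) hc'₀
    have hc's : AlgSp.RepWith @Surjective ((AlgSp.yon S).map prW ≫ c'₀) :=
      hmulS.comp_mem _ _ ((AlgSp.repWith_yon_map_iff @Surjective prW).2 hsurjW) hc'₀s
    obtain ⟨V, V', b, b', q, q', pV, hb, hb', hb's, c2, c2', cpY, sqV⟩ :=
      Groth.Agent.Lib.H5bFlatCI.exists_relative_cartesian_chart hY sq1 c _ t hc hc' hc's cg
    obtain ⟨U, U', a, a', p, p', pU, ha, ha', ha's, c1, c1', cpX, sqU⟩ :=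
      Groth.Agent.Lib.H5bFlatCI.exists_relative_cartesian_chart hX sq2 b b' pV hb hb' hb's cpY
    obtain ⟨k1, k2, k3, k4⟩ := key a b c p q ha hb hc c1 c2
    haveI := k1
    haveI := k2
    haveI := k3
    haveI := k4
    haveI : LocallyOfFinitePresentation p'.left :=
      MorphismProperty.of_isPullback (P := @LocallyOfFinitePresentation) sqU k4
    ext x'
    obtain ⟨u', hu'⟩ := Groth.Agent.S10177.surjective_ofPt a' ha's x'
    have hx : AlgSp.Points.ofPt a (pU.left u') = AlgSp.Points.map pX.hom x' := by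
      rw [← hu', AlgSp.Points.map_ofPt, cpX, Groth.Agent.S10176.ofPt_map_comp]
    have hiff := Groth.Agent.Lib.H5bFlatBC.flat_stalkMap_baseChange_iff p.left q.left t.left
      pV.left q'.left sqV pU.left p'.left sqU u'
    constructor
    · intro hx'
      have h1 := hx' a' b' p' u' ha' hb' c1' hu'
      exact Groth.Agent.Lib.H5bFlatCI.isFlatAtMor_of_chart f.hom a b p ha hb c1 _ (pU.left u') hx
        (hiff.1 h1)
    · intro hxx
      have h1 := hxx a b p (pU.left u') ha hb c1 hx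
      exact Groth.Agent.Lib.H5bFlatCI.isFlatAtMor_of_chart f'.hom a' b' p' ha' hb' c1' x' u' hu'
        (hiff.2 h1)

end Groth.Agent.S10609
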