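import Groth.Statements.S10643
import Mathlib
import Groth.Agent.S10609
import Groth.Agent.S10194
import Groth.Agent.S10195
import Groth.Agent.S10175
import Groth.Agent.S9874

set_option autoImplicit false
universe u
open CategoryTheory CategoryTheory.Limits AlgebraicGeometry
open AlgSp

namespace Groth.Agent.S10643

/-- For morphisms f : X ⟶ Y, p : X ⟶ Z and q : Y ⟶ Z of algebraic spaces over S with f ≫ q = p, where p
is flat, closed and locally of finite presentation and q is closed and locally of finite type, there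
is an open subspace W of Z with the following property: a morphism of algebraic spaces g : Z' ⟶ Z
factors through W exactly when the base change X' ⟶ Y' of f along g is flat and surjective (on
points). Here the base change of f along g is any f' : X' ⟶ Y' obtained from pullback squares Y' = Y
×_Z Z' and X' = X ×_Y Y' of algebraic spaces over S, and W ⊂ Z is given as a representable open
immersion w : W ⟶ Z. -/
theorem result {S : Scheme.{u}} {X Y Z : AlgSp.Space S}
    (f : X ⟶ Y) (p : X ⟶ Z) (q : Y ⟶ Z) (hc : f ≫ q = p)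
    (hp1 : AlgSp.LocP @LocallyOfFinitePresentation p.hom) (hp2 : AlgSp.LocP @Flat p.hom)
    (hp3 : AlgSp.IsClosedMor p.hom) (hq1 : AlgSp.LocP @LocallyOfFiniteType q.hom)
    (hq2 : AlgSp.IsClosedMor q.hom) :
    ∃ (W : AlgSp.Space S) (w : W ⟶ Z), AlgSp.RepWith @IsOpenImmersion w.hom ∧
      ∀ (Z' : AlgSp.Space S) (g : Z' ⟶ Z),
        (∃ k : Z' ⟶ W, k ≫ w = g) ↔
          ∀ (Y' : AlgSp.Space S) (gY : Y' ⟶ Y) (q' : Y' ⟶ Z'),
            IsPullback gY.hom q'.hom q.hom g.hom →
            ∀ (X' : AlgSp.Space S) (gX : X' ⟶ X) (f' : X' ⟶ Y'),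
              IsPullback gX.hom f'.hom f.hom gY.hom →
                (AlgSp.IsSurjectiveMor f'.hom ∧ AlgSp.LocP @Flat f'.hom) := by
  have hX := X.property
  have hY := Y.property
  have hZ := Z.property
  have hmulE := AlgSp.repWith_isMultiplicative (S := S) @Etale
  have hmulS := AlgSp.repWith_isMultiplicative (S := S) @Surjective
  have hcH : f.hom ≫ q.hom = p.hom := congrArg (fun φ => φ.hom) hc
  have hfp : AlgSp.LocP @LocallyOfFinitePresentation (f ≫ q).hom := by rw [hc]; exact hp1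
  have hfl : AlgSp.LocP @Flat (f ≫ q).hom := by rw [hc]; exact hp2
  obtain ⟨hopen, hbc⟩ := Groth.Agent.S10609.result f q hfp hfl hq1
  -- the image of the flat locus is open
  have hfF : IsOpen (AlgSp.Points.map f.hom ''
      {x : AlgSp.Points X.obj | AlgSp.IsFlatAtMor f.hom x}) := by
    obtain ⟨V, W, b, c, qq, hb, hbs, hc', hcs, c2⟩ :=
      Groth.Agent.Lib.H5bHasAtMor.exists_atlas_chart hY hZ q.hom
    obtain ⟨U₀, a₀, ha₀, ha₀s⟩ := hX.atlas
    obtain ⟨U, prU, pp, hprU, c1, hpt⟩ :=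
      Groth.Agent.Lib.H5bLqfDim.exists_chartPullback f.hom a₀ b hb
    have hsurj : Surjective prU.left := by
      refine ⟨fun u => ?_⟩
      obtain ⟨v, hv⟩ := Groth.Agent.S10177.surjective_ofPt b hbs (AlgSp.Points.ofPt (a₀ ≫ f.hom) u)
      obtain ⟨w, hw1, -⟩ := hpt u v hv.symm
      exact ⟨w, hw1⟩
    have ha : AlgSp.RepWith @Etale ((AlgSp.yon S).map prU ≫ a₀) :=
      hmulE.comp_mem _ _ ((AlgSp.repWith_yon_map_iff @Etale prU).2 hprU) ha₀
    have has : AlgSp.RepWith @Surjective ((AlgSp.yon S).map prU ≫ a₀) :=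
      hmulS.comp_mem _ _ ((AlgSp.repWith_yon_map_iff @Surjective prU).2 hsurj) ha₀s
    have c12 : ((AlgSp.yon S).map prU ≫ a₀) ≫ (f ≫ q).hom = (AlgSp.yon S).map (pp ≫ qq) ≫ c := by
      show ((AlgSp.yon S).map prU ≫ a₀) ≫ f.hom ≫ q.hom = _
      rw [← Category.assoc, c1, Category.assoc, c2, Functor.map_comp, Category.assoc]
    have k1 : LocallyOfFinitePresentation (pp.left ≫ qq.left) := hfp _ c (pp ≫ qq) ha hc' c12
    have k3 : LocallyOfFiniteType qq.left := hq1 b c qq hb hc' c2
    haveI k4 : LocallyOfFinitePresentation pp.left :=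
      Groth.Agent.Lib.Helper6.locallyOfFinitePresentation_of_comp (g := qq.left) k3 k1
    let F₀ : U.left.Opens := ⟨{u | (pp.left.stalkMap u).hom.Flat}, Groth.Agent.S0386.result pp.left⟩
    have hset : {x : AlgSp.Points X.obj | AlgSp.IsFlatAtMor f.hom x} =
        AlgSp.Points.ofPt ((AlgSp.yon S).map prU ≫ a₀) '' (F₀ : Set ↥U.left) := by
      ext x
      constructor
      · intro hx
        obtain ⟨u, hu⟩ := Groth.Agent.S10177.surjective_ofPt _ has x
        exact ⟨u, hx _ b pp u ha hb c1 hu, hu⟩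
      · rintro ⟨u, hu, rfl⟩
        exact Groth.Agent.Lib.H5bFlatCI.isFlatAtMor_of_chart f.hom _ b pp ha hb c1 _ u rfl hu
    haveI : Flat (F₀.ι ≫ pp.left) := Flat.of_stalkMap _ (fun x =>
      (Groth.Agent.Lib.Helper3.FibCritSch.flat_stalkMap_ι_comp_iff pp.left F₀ x).mpr x.2)
    have hop : IsOpenMap (F₀.ι ≫ pp.left) := (F₀.ι ≫ pp.left).isOpenMap
    have himg : IsOpen (pp.left '' (F₀ : Set ↥U.left)) := by
      have h1 := hop _ isOpen_univ
      rw [Set.image_univ] at h1
      convert h1 using 1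
      ext v
      constructor
      · rintro ⟨u, hu, rfl⟩
        exact ⟨⟨u, hu⟩, rfl⟩
      · rintro ⟨u, rfl⟩
        exact ⟨u.1, u.2, rfl⟩
    have himg2 : AlgSp.Points.map f.hom '' {x : AlgSp.Points X.obj | AlgSp.IsFlatAtMor f.hom x} =
        AlgSp.Points.ofPt b '' (pp.left '' (F₀ : Set ↥U.left)) := by
      rw [hset]
      ext y
      constructor
      · rintro ⟨_, ⟨u, hu, rfl⟩, rfl⟩
        refine ⟨pp.left u, ⟨u, hu, rfl⟩, ?_⟩
        rw [AlgSp.Points.map_ofPt, c1, Groth.Agent.S10176.ofPt_map_comp]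
      · rintro ⟨_, ⟨u, hu, rfl⟩, rfl⟩
        refine ⟨AlgSp.Points.ofPt ((AlgSp.yon S).map prU ≫ a₀) u, ⟨u, hu, rfl⟩, ?_⟩
        rw [AlgSp.Points.map_ofPt, c1, Groth.Agent.S10176.ofPt_map_comp]
    rw [himg2]
    exact Groth.Agent.S10176.isOpenMap_ofPt b hb _ himg
  have hC1 : IsClosed (AlgSp.Points.map p.hom ''
      {x : AlgSp.Points X.obj | AlgSp.IsFlatAtMor f.hom x}ᶜ) := hp3 _ hopen.isClosed_compl
  have hC2 : IsClosed (AlgSp.Points.map q.hom '' (AlgSp.Points.map f.hom ''
      {x : AlgSp.Points X.obj | AlgSp.IsFlatAtMor f.hom x})ᶜ) := hq2 _ hfF.isClosed_compl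
  obtain ⟨W, w, hw, hwr⟩ := Groth.Agent.S10195.result Z _
    (hC1.isOpen_compl.inter hC2.isOpen_compl)
  refine ⟨W, w, hw, ?_⟩
  intro Z' g
  rw [Groth.Agent.S10194.result w hw g, hwr]
  constructor
  · intro hsub Y' gY q' sqY X' gX f' sqX
    have hset := hbc X' Y' Z' g f' q' gX gY sqY sqX
    have hcomm : ∀ x' : AlgSp.Points X'.obj,
        AlgSp.Points.map p.hom (AlgSp.Points.map gX.hom x') =
          AlgSp.Points.map g.hom (AlgSp.Points.map q'.hom (AlgSp.Points.map f'.hom x')) := by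
      intro x'
      rw [← AlgSp.Points.map_comp, ← AlgSp.Points.map_comp, ← AlgSp.Points.map_comp, ← hcH,
        ← Category.assoc, sqX.w, Category.assoc, sqY.w]
    have hflat_pt : ∀ x' : AlgSp.Points X'.obj, AlgSp.IsFlatAtMor f'.hom x' := by
      intro x'
      have h1 : x' ∈ {x' : AlgSp.Points X'.obj | AlgSp.IsFlatAtMor f'.hom x'} := by
        rw [hset]
        show AlgSp.IsFlatAtMor f.hom (AlgSp.Points.map gX.hom x')
        by_contra hnot
        exact (hsub ⟨_, (hcomm x').symm⟩).1 ⟨_, hnot, rfl⟩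
      exact h1
    refine ⟨?_, ?_⟩
    · intro y'
      have hy : AlgSp.Points.map gY.hom y' ∈ AlgSp.Points.map f.hom ''
          {x : AlgSp.Points X.obj | AlgSp.IsFlatAtMor f.hom x} := by
        by_contra hnot
        refine (hsub ⟨AlgSp.Points.map q'.hom y', rfl⟩).2 ⟨AlgSp.Points.map gY.hom y', hnot, ?_⟩
        rw [← AlgSp.Points.map_comp, ← AlgSp.Points.map_comp, sqY.w]
      obtain ⟨x, hxF, hxy⟩ := hy
      obtain ⟨x', hx'1, hx'2⟩ := Groth.Agent.S10175.exists_point_of_isPullback sqX.flip y' x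
        (by rw [hxy])
      exact ⟨x', hx'1⟩
    · intro U V a b h ha hb c
      apply Flat.of_stalkMap
      intro u
      exact hflat_pt (AlgSp.Points.ofPt a u) a b h u ha hb c rfl
  · intro H z hz
    obtain ⟨z', rfl⟩ := hz
    have sqY0 := IsPullback.of_hasPullback q.hom g.hom
    have hY' : AlgSp.IsAlgSpace (pullback q.hom g.hom) :=
      Groth.Agent.S9874.isAlgSpace_of_isPullback Z.property.diag Y.property Z'.property sqY0
    let Y' : AlgSp.Space S := ⟨pullback q.hom g.hom, hY'⟩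
    let gY : Y' ⟶ Y := ObjectProperty.homMk (pullback.fst q.hom g.hom)
    let q' : Y' ⟶ Z' := ObjectProperty.homMk (pullback.snd q.hom g.hom)
    have sqY : IsPullback gY.hom q'.hom q.hom g.hom := sqY0
    have sqX0 := IsPullback.of_hasPullback f.hom gY.hom
    have hX' : AlgSp.IsAlgSpace (pullback f.hom gY.hom) :=
      Groth.Agent.S9874.isAlgSpace_of_isPullback Y.property.diag X.property hY' sqX0
    let X' : AlgSp.Space S := ⟨pullback f.hom gY.hom, hX'⟩
    let gX : X' ⟶ X := ObjectProperty.homMk (pullback.fst f.hom gY.hom)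
    let f' : X' ⟶ Y' := ObjectProperty.homMk (pullback.snd f.hom gY.hom)
    have sqX : IsPullback gX.hom f'.hom f.hom gY.hom := sqX0
    obtain ⟨hsurj', hfl'⟩ := H Y' gY q' sqY X' gX f' sqX
    have hset := hbc X' Y' Z' g f' q' gX gY sqY sqX
    have hflat_pt : ∀ x' : AlgSp.Points X'.obj,
        AlgSp.IsFlatAtMor f.hom (AlgSp.Points.map gX.hom x') := by
      intro x'
      have hx'F : x' ∈ {x' : AlgSp.Points X'.obj | AlgSp.IsFlatAtMor f'.hom x'} := by
        intro U V a b h u ha hb c hu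
        haveI : Flat h.left := hfl' a b h ha hb c
        exact Flat.stalkMap h.left u
      rw [hset] at hx'F
      exact hx'F
    constructor
    · rintro ⟨x, hxT, hxz⟩
      have big : IsPullback gX.hom (f'.hom ≫ q'.hom) (f.hom ≫ q.hom) g.hom := sqX.paste_vert sqY
      obtain ⟨x', hx'1, hx'2⟩ := Groth.Agent.S10175.exists_point_of_isPullback big.flip z' x
        (by rw [hcH, hxz])
      have := hflat_pt x'
      rw [hx'2] at this
      exact hxT this
    · rintro ⟨y, hy, hyz⟩
      obtain ⟨y', hy'1, hy'2⟩ := Groth.Agent.S10175.exists_point_of_isPullback sqY.flip z' y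
        (by rw [hyz])
      obtain ⟨x', hx'⟩ := hsurj' y'
      apply hy
      refine ⟨AlgSp.Points.map gX.hom x', hflat_pt x', ?_⟩
      rw [← AlgSp.Points.map_comp, sqX.w, AlgSp.Points.map_comp, hx', hy'2]

end Groth.Agent.S10643
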