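import Groth.Statements.S10644
import Mathlib
import Groth.Agent.S10643
import Groth.Agent.S10640
import Groth.Agent.S10278
import Groth.Agent.S10266
import Groth.Agent.S10261
import Groth.Agent.S10265
import Groth.Agent.Lib.H5bDeform
import Groth.Agent.Lib.Helper12Proper
import Groth.Agent.Lib.Helper6LfpComp

set_option autoImplicit false
universe u
open CategoryTheory CategoryTheory.Limits AlgebraicGeometry
open AlgSp

namespace Groth.Agent.S10644

variable {S : Scheme.{u}}

open Groth.Agent.Lib.Helper12.LocPCases in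
/-- if `f ≫ q` is locally of finite presentation and `q` is locally of finite type then `f` is
locally of finite presentation. -/
lemma locP_lfp_of_comp {X Y Z : AlgSp.Space S} (f : X ⟶ Y) (q : Y ⟶ Z)
    (h1 : AlgSp.LocP @LocallyOfFinitePresentation (f ≫ q).hom)
    (h2 : AlgSp.LocP @LocallyOfFiniteType q.hom) :
    AlgSp.LocP @LocallyOfFinitePresentation f.hom := by
  obtain ⟨V, W, b, c, qq, hb, hbs, hc, hcs, c2⟩ :=
    Groth.Agent.Lib.H5bHasAtMor.exists_atlas_chart Y.property Z.property q.hom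
  obtain ⟨U₀, a₀, ha₀, ha₀s⟩ := X.property.atlas
  obtain ⟨U, pr, h, hpr, hw, hpt⟩ :=
    Groth.Agent.Lib.H5bLqfDim.exists_chartPullback f.hom a₀ b hb
  have hsurj : Surjective pr.left := by
    refine ⟨fun u => ?_⟩
    obtain ⟨v, hv⟩ := Groth.Agent.S10177.surjective_ofPt b hbs (AlgSp.Points.ofPt (a₀ ≫ f.hom) u)
    obtain ⟨w, hw1, -⟩ := hpt u v hv.symm
    exact ⟨w, hw1⟩
  have ha : AlgSp.RepWith @Etale ((AlgSp.yon S).map pr ≫ a₀) :=
    (AlgSp.RepWith @Etale).comp_mem _ _ ((AlgSp.repWith_yon_map_iff @Etale pr).2 hpr) ha₀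
  have has : AlgSp.RepWith @Surjective ((AlgSp.yon S).map pr ≫ a₀) :=
    (AlgSp.RepWith @Surjective).comp_mem _ _
      ((AlgSp.repWith_yon_map_iff @Surjective pr).2 hsurj) ha₀s
  have c12 : ((AlgSp.yon S).map pr ≫ a₀) ≫ (f ≫ q).hom = (AlgSp.yon S).map (h ≫ qq) ≫ c := by
    show ((AlgSp.yon S).map pr ≫ a₀) ≫ f.hom ≫ q.hom = _
    rw [← Category.assoc, hw, Category.assoc, c2, Functor.map_comp, Category.assoc]
  haveI k1 : LocallyOfFinitePresentation (h.left ≫ qq.left) := h1 _ c (h ≫ qq) ha hc c12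
  haveI k3 : LocallyOfFiniteType qq.left := h2 b c qq hb hc c2
  have k4 : LocallyOfFinitePresentation h.left :=
    Groth.Agent.Lib.Helper6.locallyOfFinitePresentation_of_comp (g := qq.left) k3 k1
  exact Groth.Agent.Lib.H5bDeform.locP_of_surj_chart good_lfp X.property Y.property f.hom _ b h
    ha has hb hw k4

/-- properties of an isomorphism of algebraic spaces. -/
lemma iso_props {X Y : AlgSp.Space S} (f : X ⟶ Y) (hf : IsIso f.hom) :
    AlgSp.IsSurjectiveMor f.hom ∧ AlgSp.LocP @Flat f.hom ∧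
      AlgSp.LocP (@LocallyOfFiniteType ⊓ @FormallyUnramified) f.hom ∧
      AlgSp.IsUnivInjectiveMor f.hom := by
  have het : AlgSp.RepWith @Etale f.hom := MorphismProperty.of_isIso (AlgSp.RepWith @Etale) f.hom
  have hch : ∀ (U V : Over S) (a : (AlgSp.yon S).obj U ⟶ X.obj) (b : (AlgSp.yon S).obj V ⟶ Y.obj)
      (h : U ⟶ V), AlgSp.RepWith @Etale a → AlgSp.RepWith @Etale b →
      a ≫ f.hom = (AlgSp.yon S).map h ≫ b → Etale h.left := by
    intro U V a b h ha hb c
    refine Groth.Agent.S10265.etale_of_comp_repWith h b hb ?_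
    rw [← c]
    exact (AlgSp.RepWith @Etale).comp_mem _ _ ha het
  refine ⟨?_, ?_, ?_, ?_⟩
  · intro y
    refine ⟨AlgSp.Points.map (inv f.hom) y, ?_⟩
    rw [← AlgSp.Points.map_comp, IsIso.inv_hom_id, AlgSp.Points.map_id]
  · intro U V a b h ha hb c
    haveI := hch U V a b h ha hb c
    infer_instance
  · intro U V a b h ha hb c
    haveI := hch U V a b h ha hb c
    exact ⟨inferInstance, inferInstance⟩
  · rw [← (Groth.Agent.S9938.result f).1]
    intro K _ str a b hab
    exact (cancel_mono f.hom).1 hab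

/-- a surjective, flat, unramified, universally injective morphism locally of finite presentation
is an isomorphism. -/
lemma iso_of_props {X Y : AlgSp.Space S} (f : X ⟶ Y)
    (h1 : AlgSp.LocP @LocallyOfFinitePresentation f.hom) (hs : AlgSp.IsSurjectiveMor f.hom)
    (h2 : AlgSp.LocP @Flat f.hom)
    (h3 : AlgSp.LocP (@LocallyOfFiniteType ⊓ @FormallyUnramified) f.hom)
    (h4 : AlgSp.IsUnivInjectiveMor f.hom) : IsIso f.hom := by
  have het : AlgSp.IsEtaleMor f.hom := Groth.Agent.S10266.result f h1 h2 h3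
  have hopen : AlgSp.RepWith @IsOpenImmersion f.hom := Groth.Agent.S10261.result f het h4
  obtain ⟨k, hk⟩ := (Groth.Agent.S10194.result f hopen (𝟙 Y)).2 (by
    rintro _ ⟨y, rfl⟩
    exact hs _)
  haveI : Mono f.hom := Groth.Agent.Lib.Helper12.LargestOpen.mono_of_open f.hom hopen
  have hk' : k.hom ≫ f.hom = 𝟙 _ := congrArg (fun φ => φ.hom) hk
  refine ⟨k.hom, ?_, hk'⟩
  rw [← cancel_mono f.hom, Category.assoc, hk', Category.comp_id, Category.id_comp]

/-- For morphisms f : X ⟶ Y, p : X ⟶ Z and q : Y ⟶ Z of algebraic spaces over S with f ≫ q = p, where p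
is flat, universally closed and locally of finite presentation and q is closed, separated and
locally of finite type, there is an open subspace W of Z with the following property: a morphism of
algebraic spaces g : Z' ⟶ Z factors through W exactly when the base change X' ⟶ Y' of f along g is
an isomorphism. Here the base change of f along g is any f' : X' ⟶ Y' obtained from pullback squares
Y' = Y ×_Z Z' and X' = X ×_Y Y' of algebraic spaces over S, and W ⊂ Z is given as a representable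
open immersion w : W ⟶ Z. -/
theorem result {S : Scheme.{u}} {X Y Z : AlgSp.Space S}
    (f : X ⟶ Y) (p : X ⟶ Z) (q : Y ⟶ Z) (hc : f ≫ q = p)
    (hp1 : AlgSp.LocP @LocallyOfFinitePresentation p.hom) (hp2 : AlgSp.LocP @Flat p.hom)
    (hp3 : AlgSp.IsUnivClosedMor p.hom) (hq1 : AlgSp.LocP @LocallyOfFiniteType q.hom)
    (hq2 : AlgSp.IsClosedMor q.hom) (hq3 : AlgSp.IsSeparatedMor q.hom) :
    ∃ (W : AlgSp.Space S) (w : W ⟶ Z), AlgSp.RepWith @IsOpenImmersion w.hom ∧
      ∀ (Z' : AlgSp.Space S) (g : Z' ⟶ Z),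
        (∃ k : Z' ⟶ W, k ≫ w = g) ↔
          ∀ (Y' : AlgSp.Space S) (gY : Y' ⟶ Y) (q' : Y' ⟶ Z'),
            IsPullback gY.hom q'.hom q.hom g.hom →
            ∀ (X' : AlgSp.Space S) (gX : X' ⟶ X) (f' : X' ⟶ Y'),
              IsPullback gX.hom f'.hom f.hom gY.hom →
                IsIso f'.hom := by
  have hcH : f.hom ≫ q.hom = p.hom := congrArg (fun φ => φ.hom) hc
  have hcl_p : AlgSp.IsClosedMor p.hom :=
    hp3 Z.property (𝟙 _) (𝟙 _) p.hom (IsPullback.of_horiz_isIso ⟨by simp⟩)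
  have hXX0 := IsPullback.of_hasPullback f.hom f.hom
  have hXXs : AlgSp.IsAlgSpace (pullback f.hom f.hom) :=
    Groth.Agent.S9874.isAlgSpace_of_isPullback Y.property.diag X.property X.property hXX0
  let XX : AlgSp.Space S := ⟨pullback f.hom f.hom, hXXs⟩
  let pr0 : XX ⟶ X := ObjectProperty.homMk (pullback.fst f.hom f.hom)
  let pr1 : XX ⟶ X := ObjectProperty.homMk (pullback.snd f.hom f.hom)
  have hXX : IsPullback pr0.hom pr1.hom f.hom f.hom := hXX0
  have hfuc : AlgSp.IsUnivClosedMor f.hom := ((Groth.Agent.S10278.result f p q hc hq3).1 hp3).1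
  have hpr1 : AlgSp.IsUnivClosedMor pr1.hom :=
    Groth.Agent.Lib.Helper12.Proper.isUnivClosedMor_baseChange hXX hfuc
  have hcomp : AlgSp.IsUnivClosedMor (pr1.hom ≫ p.hom) :=
    Groth.Agent.Lib.Helper12.Proper.isUnivClosedMor_comp X.property Z.property pr1.hom p.hom
      hpr1 hp3
  have hcl3 : AlgSp.IsClosedMor (pr1 ≫ p).hom :=
    hcomp Z.property (𝟙 _) (𝟙 _) _ (IsPullback.of_horiz_isIso ⟨by simp⟩)
  have hlft_p : AlgSp.LocP @LocallyOfFiniteType p.hom := by
    intro U V a b h ha hb c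
    haveI : LocallyOfFinitePresentation h.left := hp1 a b h ha hb c
    infer_instance
  obtain ⟨Wa, wa, hwa, Ha⟩ := Groth.Agent.S10643.result f p q hc hp1 hp2 hcl_p hq1 hq2
  obtain ⟨Wb, wb, hwb, Hb⟩ := Groth.Agent.S10640.result f p q hc XX pr0 pr1 hXX hlft_p hcl_p hcl3
  obtain ⟨W, w, hw, hwr⟩ := Groth.Agent.S10195.result Z
    (Set.range (AlgSp.Points.map wa.hom) ∩ Set.range (AlgSp.Points.map wb.hom))
    (IsOpen.inter (Groth.Agent.Lib.Helper12.OpenSub.isOpen_range_of_open _ hwa)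
      (Groth.Agent.Lib.Helper12.OpenSub.isOpen_range_of_open _ hwb))
  refine ⟨W, w, hw, ?_⟩
  intro Z' g
  rw [Groth.Agent.S10194.result w hw g, hwr, Set.subset_inter_iff,
    ← Groth.Agent.S10194.result wa hwa g, ← Groth.Agent.S10194.result wb hwb g, Ha Z' g, Hb Z' g]
  constructor
  · rintro ⟨h1, h2⟩ Y' gY q' sqY X' gX f' sqX
    obtain ⟨hs, hfl⟩ := h1 Y' gY q' sqY X' gX f' sqX
    obtain ⟨hun, hinj⟩ := h2 Y' gY q' sqY X' gX f' sqX
    have big : IsPullback gX.hom (f'.hom ≫ q'.hom) (f.hom ≫ q.hom) g.hom := sqX.paste_vert sqY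
    have hlfp2 : AlgSp.LocP @LocallyOfFinitePresentation (f' ≫ q').hom :=
      Groth.Agent.Lib.Helper12.LocPCases.good_lfp.locP_baseChange X.property Z.property
        Z'.property big (by rw [hcH]; exact hp1)
    have hlft2 : AlgSp.LocP @LocallyOfFiniteType q'.hom :=
      Groth.Agent.Lib.Helper12.LocPCases.good_lft.locP_baseChange Y.property Z.property
        Z'.property sqY hq1
    exact iso_of_props f' (locP_lfp_of_comp f' q' hlfp2 hlft2) hs hfl hun hinj
  · intro H
    refine ⟨fun Y' gY q' sqY X' gX f' sqX => ?_, fun Y' gY q' sqY X' gX f' sqX => ?_⟩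
    · have h := iso_props f' (H Y' gY q' sqY X' gX f' sqX)
      exact ⟨h.1, h.2.1⟩
    · have h := iso_props f' (H Y' gY q' sqY X' gX f' sqX)
      exact ⟨h.2.2.1, h.2.2.2⟩

end Groth.Agent.S10644
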