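import Groth.Statements.S10011
import Mathlib
import Groth.Agent.Lib.H5bLimDescG
import Groth.Agent.Lib.H5bLimDescF
import Groth.Agent.Lib.Helper12OpenSub2
import Groth.Agent.S2581
import Groth.Agent.S9192
import Groth.Agent.S10132
import Groth.Agent.S10644
import Groth.Agent.S9928

set_option autoImplicit false
universe u
open CategoryTheory CategoryTheory.Limits AlgebraicGeometry
open AlgSp

namespace Groth.Agent.S10011

open Groth.Agent.Lib.H5bLimDesc Groth.Agent.Lib.H5bLimSp in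
set_option linter.unusedVariables false in
/-- the projections of a cofiltered limit with monomorphic transition maps are monomorphisms. -/
lemma mono_π {C : Type*} [Category C] {I : Type*} [Category I] [IsCofiltered I] (D : I ⥤ C)
    (hm : ∀ (i j : I) (φ : i ⟶ j), Mono (D.map φ)) (c : Cone D) (hc : IsLimit c) (j : I) :
    Mono (c.π.app j) := by
  constructor
  intro T a b hab
  apply hc.hom_ext
  intro k
  let m := IsCofiltered.min j k
  let α : m ⟶ j := IsCofiltered.minToLeft j k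
  let β : m ⟶ k := IsCofiltered.minToRight j k
  haveI := hm m j α
  have h1 : a ≫ c.π.app m = b ≫ c.π.app m := by
    rw [← cancel_mono (D.map α), Category.assoc, Category.assoc, c.w, hab]
  rw [← c.w β, ← Category.assoc, h1, Category.assoc]

/-- a square `(𝟙, g; g ≫ m, m)` with `m` a monomorphism is a pullback. -/
lemma isPullback_of_mono' {C : Type*} [Category C] {X Y Z : C} (g : X ⟶ Y) (m : Y ⟶ Z) [Mono m]
    (f : X ⟶ Z) (hf : g ≫ m = f) : IsPullback (𝟙 X) g f m := by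
  subst hf
  have h1 : IsPullback (𝟙 X) g g (𝟙 Y) := IsPullback.of_horiz_isIso ⟨by simp⟩
  have h2 : IsPullback (𝟙 Y) (𝟙 Y) m m := IsKernelPair.id_of_mono m
  have := h1.paste_vert h2
  simpa using this

/-- Let `B` be an algebraic space over `S` and `X` the limit in fppf sheaves of a cofiltered system
`(X_i)` of quasi-compact algebraic spaces over `B`, each locally of finite type over `B`, whose
transition morphisms are closed immersions. If `X ⟶ B` is locally of finite presentation, then the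
projection `X ⟶ X_i` is an isomorphism for all `i` mapping to some `i₀`. -/
theorem result (S : Scheme.{u}) {I : Type u} [SmallCategory I] [IsCofiltered I]
    (B : AlgSp.Space S) (D : I ⥤ AlgSp.Sp S) (hD : ∀ i, AlgSp.IsAlgSpace (D.obj i))
    (t : D ⟶ (Functor.const I).obj B.obj)
    (hDc : ∀ (i j : I) (φ : i ⟶ j), AlgSp.RepWith @IsClosedImmersion (D.map φ))
    (c : Cone D) (hc : IsLimit c)
    (hqc : ∀ i, AlgSp.IsQuasiCompactSp (D.obj i)) (hft : ∀ i, AlgSp.LocP @LocallyOfFiniteType (t.app i)) (i₁ : I)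
    (hX : AlgSp.LocP @LocallyOfFinitePresentation (c.π.app i₁ ≫ t.app i₁)) :
    ∃ i₀ : I, ∀ (i : I) (_ : i ⟶ i₀), IsIso (c.π.app i) := by
  have hDa : ∀ (i j : I) (φ : i ⟶ j), AlgSp.IsAffineMor (D.map φ) := fun i j φ =>
    Groth.Agent.S10132.isAffineMor_of_repWith _
      (Groth.Agent.Lib.Helper12.OpenSub.repWith_mono
        (fun _ _ g hg => by haveI : IsClosedImmersion g := hg; infer_instance) (hDc i j φ))
  have hm : ∀ (i j : I) (φ : i ⟶ j), Mono (D.map φ) := fun i j φ =>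
    Groth.Agent.S9928.mono_of_repWith @IsClosedImmersion
      (fun X Y g hg => by haveI : IsClosedImmersion g := hg; infer_instance) _ (hDc i j φ)
  have hπm : ∀ j, Mono (c.π.app j) := fun j => mono_π D hm c hc j
  have hB : AlgSp.IsAlgSpace c.pt := (Groth.Agent.S10004.result S D hD hDa c hc).1
  let X₀ : AlgSp.Space S := ⟨c.pt, hB⟩
  let Y₀ : AlgSp.Space S := ⟨D.obj i₁, hD i₁⟩
  have hf₀ : AlgSp.LocP @LocallyOfFinitePresentation (c.π.app i₁) :=
    Groth.Agent.S10644.locP_lfp_of_comp (X := X₀) (Y := Y₀) (Z := B)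
      (ObjectProperty.homMk (c.π.app i₁)) (ObjectProperty.homMk (t.app i₁)) hX (hft i₁)
  -- quasi-compactness of the charts of `c.π.app i₁`
  have hqcV : ∀ (V₀ : Over S) (v₀ : (AlgSp.yon S).obj V₀ ⟶ Y₀.obj), IsAffine V₀.left →
      AlgSp.RepWith @Etale v₀ → AlgSp.IsQuasiCompactSp (pullback (c.π.app i₁) v₀) := by
    intro V₀ v₀ hV₀ hv₀e
    have hex : ∀ k : Over i₁, ∃ (W : Over S) (w : W ⟶ V₀)
        (fst : (AlgSp.yon S).obj W ⟶ D.obj k.left),
        IsPullback fst ((AlgSp.yon S).map w) (D.map k.hom) v₀ ∧ IsAffine W.left :=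
      fun k => hDa _ _ k.hom hV₀ v₀
    choose W w fst sqk hW using hex
    let Pb : Groth.Agent.Lib.H5bLimSp.PbSystem D i₁ v₀ := ⟨W, w, fst, sqk⟩
    obtain ⟨L, ⟨hL⟩, hLaff⟩ := Groth.Agent.Lib.H5bLimSp.exists_limit_affine Pb.functor hW
    obtain ⟨fstL, iW, hpb, -, -⟩ := Pb.isPullback_of_isLimit hc L hL
    haveI : IsAffine L.pt.left := hLaff
    let e : (AlgSp.yon S).obj L.pt ≅ pullback (c.π.app i₁) v₀ := hpb.isoPullback
    refine ⟨L.pt, e.hom, ?_, ?_, inferInstance⟩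
    · exact ((AlgSp.RepWith @Etale).cancel_right_of_respectsIso (𝟙 _) e.hom).2
        (AlgSp.repWith_id _ L.pt)
    · exact ((AlgSp.RepWith @Surjective).cancel_right_of_respectsIso (𝟙 _) e.hom).2
        (AlgSp.repWith_id _ L.pt)
  have hY : IsPullback (c.π.app i₁) (𝟙 c.pt) (𝟙 (D.obj i₁)) (c.π.app i₁) :=
    IsPullback.id_vert (c.π.app i₁)
  haveI := hπm i₁
  have hXsq : IsPullback (𝟙 c.pt) (𝟙 c.pt) (c.π.app i₁) (c.π.app i₁) :=
    IsKernelPair.id_of_mono (c.π.app i₁)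
  have hlimS : Groth.Agent.Lib.H5bLimDesc.SchemeDescendsAff
      (@Surjective : MorphismProperty Scheme.{u}) := by
    intro J _ _ D' c' hc' _ j₀ _ X₀' Y₀' f₀' g₀' _ _ _ _ X' Y' f' g' qY' qX' hY' hX' hPf
    haveI : Surjective f' := hPf
    exact Groth.Agent.S2581.result D' c' hc' j₀ f₀' g₀' f' g' qY' qX' hY' hX'
  have hlimE : Groth.Agent.Lib.H5bLimDesc.SchemeDescends
      (@Etale : MorphismProperty Scheme.{u}) := by
    intro J _ _ D' c' hc' _ j₀ _ _ X₀' Y₀' f₀' g₀' _ _ _ _ _ X' Y' f' g' qY' qX' hY' hX' hPf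
    haveI : Etale f' := hPf
    exact Groth.Agent.S9192.result D' c' hc' j₀ f₀' g₀' f' g' qY' qX' hY' hX'
  obtain ⟨i, φ, h⟩ := Groth.Agent.Lib.H5bLimDesc.descend_etale_surj' hlimS hlimE S D hD hDa c hc i₁
    X₀ Y₀ (c.π.app i₁) (𝟙 (D.obj i₁)) (hqc i₁) hqcV c.pt c.pt (𝟙 c.pt) (c.π.app i₁) (𝟙 c.pt) hY
    (𝟙 c.pt) hXsq (Groth.Agent.Lib.H5bLimDesc.isEtaleMor_of_isIso _)
    (Groth.Agent.Lib.H5bLimDesc.isSurjectiveMor_of_isIso _) hf₀
  refine ⟨i, ?_⟩
  intro j ψ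
  have hbcs : Groth.Agent.Lib.H5bLimDesc.BCS
      (fun (_ _ : AlgSp.Sp S) g => AlgSp.IsEtaleMor g ∧ AlgSp.IsSurjectiveMor g) := by
    intro X₁ Y₁ X₂ Y₂ hX₁ hY₁ hX₂ hY₂ a b a' b' sq ha
    exact ⟨Groth.Agent.Lib.H5bLimDesc.bcs_isEtaleMor hX₁ hY₁ hX₂ hY₂ a b a' b' sq ha.1,
      Groth.Agent.Lib.H5bLimDesc.bcs_isSurjectiveMor hX₁ hY₁ hX₂ hY₂ a b a' b' sq ha.2⟩
  have hj := Groth.Agent.Lib.H5bLimDesc.further D hD (X₀ := X₀) (Y₀ := Y₀) (c.π.app i₁)
    (𝟙 (D.obj i₁)) hbcs φ ψ h (ψ ≫ φ) rfl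
  haveI := hm j i₁ (ψ ≫ φ)
  have sqYj : IsPullback (D.map (ψ ≫ φ)) (𝟙 (D.obj j)) (𝟙 (D.obj i₁)) (D.map (ψ ≫ φ)) :=
    IsPullback.id_vert (D.map (ψ ≫ φ))
  have sqXj : IsPullback (𝟙 c.pt) (c.π.app j) (c.π.app i₁) (D.map (ψ ≫ φ)) :=
    isPullback_of_mono' (c.π.app j) (D.map (ψ ≫ φ)) (c.π.app i₁) (c.w (ψ ≫ φ))
  obtain ⟨he, hs⟩ := hj c.pt (D.obj j) (c.π.app j) (D.map (ψ ≫ φ)) (𝟙 _) sqYj (𝟙 c.pt) sqXj
  haveI := hπm j
  exact Groth.Agent.Lib.H5bLimDesc.isIso_of_etale_surjective_mono hB (hD j) (c.π.app j) he hs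

end Groth.Agent.S10011
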