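import Groth.Statements.S3843
import Groth.Agent.Lib.R2H3SepFlat

set_option autoImplicit false
set_option linter.style.haveILetI false
universe u
open CategoryTheory CategoryTheory.Limits AlgebraicGeometry TopologicalSpace
open Rat20

namespace Groth.Agent.S3843

open TensorProduct in
/-- ring-level core: `A → B` flat of finite presentation, a family of `A`-algebras `N i` in which
`a i` becomes a unit and which is locally separating for `A`; then an element of `B` killed by
powers of every `a i` vanishes. -/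
theorem ring_core {A B : Type u} [CommRing A] [CommRing B] [Algebra A B]
    [Algebra.FinitePresentation A B] [Module.Flat A B]
    {ι : Type*} (a : ι → A) (N : ι → Type u) [∀ i, CommRing (N i)] [∀ i, Algebra A (N i)]
    (hu : ∀ i, IsUnit (algebraMap A (N i) (a i)))
    (hsep : ∀ (g m : A), (∀ i, ∃ n : ℕ, g ^ n • algebraMap A (N i) m = 0) → ∃ n : ℕ, g ^ n * m = 0)
    (b : B) (hb : ∀ i, ∃ n : ℕ, algebraMap A B (a i) ^ n * b = 0) : b = 0 := by
  have ht : b ⊗ₜ[A] (1 : A) = 0 := by
    refine Groth.Agent.Lib.R2H3.SepFlat.eq_zero_of_flat_finitePresentation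
      (fun i => Algebra.linearMap A (N i)) ?_ _ fun i => ?_
    · intro g m hm
      obtain ⟨n, hn⟩ := hsep g m hm
      exact ⟨n, by rw [smul_eq_mul]; exact hn⟩
    · rw [LinearMap.lTensor_tmul, Algebra.linearMap_apply, map_one]
      obtain ⟨n, hn⟩ := hb i
      obtain ⟨v, hv⟩ := (hu i).pow n
      have h1 : (1 : N i) = (a i) ^ n • (↑v⁻¹ : N i) := by
        rw [Algebra.smul_def, map_pow, ← hv, Units.mul_inv]
      rw [h1, ← TensorProduct.smul_tmul, Algebra.smul_def, map_pow, hn, TensorProduct.zero_tmul]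
  have := congrArg (TensorProduct.rid A B) ht
  rw [TensorProduct.rid_tmul, one_smul, map_zero] at this
  exact this


theorem eq_zero_of_locally {X : Scheme.{u}} {W : X.Opens} (s : Γ(X, W))
    (h : ∀ x ∈ W, ∃ (U : X.Opens) (hUW : U ≤ W), x ∈ U ∧
      X.presheaf.map (homOfLE hUW).op s = 0) : s = 0 := by
  choose U hUW hxU hs using fun x : W => h x.1 x.2
  refine X.sheaf.eq_of_locally_eq' (fun x : W => U x) W (fun x => homOfLE (hUW x))
    (fun x hx => Opens.mem_iSup.mpr ⟨⟨x, hx⟩, hxU _⟩) s 0 (fun x => ?_)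
  rw [map_zero]
  exact hs x

theorem res_res {X : Scheme.{u}} {U1 U2 U3 : X.Opens} (h1 : U1 ≤ U2) (h2 : U2 ≤ U3)
    (s : Γ(X, U3)) :
    X.presheaf.map (homOfLE h1).op (X.presheaf.map (homOfLE h2).op s) =
      X.presheaf.map (homOfLE (h1.trans h2)).op s := by
  rw [← CommRingCat.comp_apply, ← Functor.map_comp]
  rfl

theorem isUnit_res_of_le_basicOpen {X : Scheme.{u}} {U O : X.Opens} (g : Γ(X, U))
    (hO : O ≤ X.basicOpen g) :
    IsUnit (X.presheaf.map (homOfLE (hO.trans (X.basicOpen_le g))).op g) := by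
  have h1 := RingedSpace.isUnit_res_basicOpen X.toRingedSpace g
  have h2 := h1.map (X.presheaf.map (homOfLE hO).op).hom
  have h3 : (X.presheaf.map (homOfLE hO).op).hom
      (X.presheaf.map (homOfLE (X.basicOpen_le g)).op g) =
      X.presheaf.map (homOfLE (hO.trans (X.basicOpen_le g))).op g := res_res hO _ g
  rw [← h3]
  exact h2

/-- For the open subset U = X; the general case is the same statement over the open subscheme U: let f :
X' → X be flat and locally of finite presentation. Then for every schematically dense open subset V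
of X, the preimage f⁻¹(V) is schematically dense in X'. -/
theorem result {X X' : Scheme.{u}} (f : X' ⟶ X) [Flat f]
    [LocallyOfFinitePresentation f] (V : X.Opens) (hV : CInt.IsSchematicallyDense V) :
    CInt.IsSchematicallyDense (f ⁻¹ᵁ V) := by
  intro W'
  rw [injective_iff_map_eq_zero]
  intro s hs
  apply eq_zero_of_locally
  intro x' hx'
  obtain ⟨U, hU, hxU, -⟩ := exists_isAffineOpen_mem_and_subset (x := f x') (U := ⊤) trivial
  obtain ⟨U', hU', hxU', hU'le0⟩ := exists_isAffineOpen_mem_and_subset (x := x')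
    (U := f ⁻¹ᵁ U ⊓ W') ⟨hxU, hx'⟩
  have hU'le : U' ≤ f ⁻¹ᵁ U ⊓ W' := hU'le0
  refine ⟨U', hU'le.trans inf_le_right, hxU', ?_⟩
  have hle : U' ≤ f ⁻¹ᵁ U := hU'le.trans inf_le_left
  letI := (f.appLE U U' hle).hom.toAlgebra
  haveI : Module.Flat Γ(X, U) Γ(X', U') := Flat.flat_appLE f hU hU' hle
  haveI : Algebra.FinitePresentation Γ(X, U) Γ(X', U') :=
    LocallyOfFinitePresentation.finitePresentation_appLE f hU hU' hle
  refine ring_core (A := Γ(X, U)) (B := Γ(X', U')) (ι := {a : Γ(X, U) // X.basicOpen a ≤ V})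
    (fun i => i.1) (fun i => Γ(X, X.basicOpen i.1)) (fun i => ?_) ?_ _ (fun i => ?_)
  · exact RingedSpace.isUnit_res_basicOpen X.toRingedSpace i.1
  · intro g m hm
    have H : X.presheaf.map (homOfLE (X.basicOpen_le g)).op m = 0 := by
      apply hV (X.basicOpen g)
      rw [map_zero]
      apply eq_zero_of_locally
      intro x hx
      obtain ⟨a, haV, hxa⟩ := hU.exists_basicOpen_le (V := V) ⟨x, hx.2⟩ (X.basicOpen_le g hx.1)
      obtain ⟨n, hn⟩ := hm ⟨a, haV⟩
      refine ⟨X.basicOpen g ⊓ X.basicOpen a, inf_le_inf le_rfl haV, ⟨hx.1, hxa⟩, ?_⟩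
      rw [res_res, res_res]
      have hn' : X.presheaf.map (homOfLE (X.basicOpen_le a)).op g ^ n *
          X.presheaf.map (homOfLE (X.basicOpen_le a)).op m = 0 := by
        rw [Algebra.smul_def, map_pow] at hn
        exact hn
      have h1 := congrArg (X.presheaf.map (homOfLE (inf_le_right :
        X.basicOpen g ⊓ X.basicOpen a ≤ X.basicOpen a)).op) hn'
      rw [map_mul, map_pow, map_zero, res_res, res_res] at h1
      have hu := isUnit_res_of_le_basicOpen g (inf_le_left :
        X.basicOpen g ⊓ X.basicOpen a ≤ X.basicOpen g)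
      exact (hu.pow n).mul_right_eq_zero.mp h1
    obtain ⟨n, hn⟩ := exists_pow_mul_eq_zero_of_res_basicOpen_eq_zero_of_isAffineOpen X hU m g H
    exact ⟨n, hn⟩
  · have hbo : X'.basicOpen (f.appLE U U' hle i.1) = U' ⊓ f ⁻¹ᵁ (X.basicOpen i.1) :=
      Scheme.basicOpen_appLE f U' U hle i.1
    have hle2 : X'.basicOpen (f.appLE U U' hle i.1) ≤ W' ⊓ f ⁻¹ᵁ V := by
      rw [hbo]
      exact inf_le_inf (hU'le.trans inf_le_right) (fun y hy => i.2 hy)
    have H : X'.presheaf.map (homOfLE (X'.basicOpen_le (f.appLE U U' hle i.1))).op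
        (X'.presheaf.map (homOfLE (hU'le.trans inf_le_right)).op s) = 0 := by
      rw [res_res]
      have h1 := congrArg (X'.presheaf.map (homOfLE hle2).op) hs
      rw [map_zero, res_res] at h1
      exact h1
    exact exists_pow_mul_eq_zero_of_res_basicOpen_eq_zero_of_isAffineOpen X' hU' _ _ H

end Groth.Agent.S3843
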