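import Groth.Statements.S10357
import Mathlib
import Groth.Agent.S10176
import Groth.Agent.S10343
import Groth.Agent.Lib.H5bDvrExt
import Groth.Agent.Lib.H9ArtLiftD
import Groth.Agent.Lib.Helper10FibClosed
import Groth.Agent.Lib.Helper4VarDim10

set_option autoImplicit false
set_option linter.style.haveILetI false
universe u
open CategoryTheory CategoryTheory.Limits AlgebraicGeometry Topology TopologicalSpace
open AlgSp

namespace Groth.Agent.S10357

open CategoryTheory.Limits Opposite MorphismProperty

variable {S : Scheme.{u}}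

theorem isIntegral_residueFieldMap_comp {X Y Z : Scheme.{u}} (f : X ⟶ Y) (g : Y ⟶ Z) (x : ↥X)
    (h1 : (g.residueFieldMap (f x)).hom.IsIntegral) (h2 : (f.residueFieldMap x).hom.IsIntegral) :
    ((f ≫ g).residueFieldMap x).hom.IsIntegral :=
  (congrArg (fun m => (CommRingCat.Hom.hom m).IsIntegral) (Scheme.residueFieldMap_comp f g x)).mpr
    (RingHom.IsIntegral.trans _ _ h1 h2)

theorem isIntegral_residueFieldMap_of_comp {X Y Z : Scheme.{u}} (f : X ⟶ Y) (g : Y ⟶ Z) (x : ↥X)
    (h : ((f ≫ g).residueFieldMap x).hom.IsIntegral) :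
    (g.residueFieldMap (f x)).hom.IsIntegral := by
  have h' := (congrArg (fun m => (CommRingCat.Hom.hom m).IsIntegral)
    (Scheme.residueFieldMap_comp f g x)).mp h
  exact RingHom.IsIntegral.tower_bot _ _ (RingHom.injective _) h'

theorem aux_congr {K : Type u} [Field K] {X : Scheme.{u}} (c' c : Spec (CommRingCat.of K) ⟶ X)
    (h : c' = c) (hint : (X.descResidueField (Scheme.stalkClosedPointTo c')).hom.IsIntegral) :
    (X.descResidueField (Scheme.stalkClosedPointTo c)).hom.IsIntegral := by
  subst h; exact hint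

/-- the residue field extension of `Spec k ⟶ Spec κ(s) ⟶ S` is integral when `κ(s) → k` is. -/
theorem isIntegral_residueFieldMap_point (s : ↥S) (k : Type u) [Field k]
    (φ : S.residueField s ⟶ CommRingCat.of k) (hφ : φ.hom.IsIntegral)
    (t : ↥(Spec (CommRingCat.of k))) :
    ((Spec.map φ ≫ S.fromSpecResidueField s).residueFieldMap t).hom.IsIntegral := by
  obtain rfl : t = IsLocalRing.closedPoint k := Subsingleton.elim _ _
  set c : Spec (CommRingCat.of k) ⟶ S := Spec.map φ ≫ S.fromSpecResidueField s with hc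
  have h1 : (Scheme.SpecToEquivOfField k S) c = ⟨s, φ⟩ :=
    (Scheme.SpecToEquivOfField k S).apply_symm_apply ⟨s, φ⟩
  obtain ⟨e, he⟩ := Scheme.SpecToEquivOfField_eq_iff.1 h1
  have he' : S.descResidueField (Scheme.stalkClosedPointTo c) =
      (S.residueFieldCongr e).hom ≫ φ := he
  have h2 := Scheme.descResidueField_stalkClosedPointTo_comp (f := c)
    (𝟙 (Spec (CommRingCat.of k)))
  have h3 : (S.descResidueField (Scheme.stalkClosedPointTo c)).hom.IsIntegral := by
    have h4 : ((S.residueFieldCongr e).hom ≫ φ).hom.IsIntegral := by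
      show (φ.hom.comp (S.residueFieldCongr e).hom.hom).IsIntegral
      refine RingHom.IsIntegral.trans _ _ ?_ hφ
      exact RingHom.isIntegral_of_surjective _
        (ConcreteCategory.bijective_of_isIso (S.residueFieldCongr e).hom).2
    exact he'.symm ▸ h4
  have h3' := aux_congr c (𝟙 (Spec (CommRingCat.of k)) ≫ c) (Category.id_comp c).symm h3
  replace h3' := (congrArg (fun m => (CommRingCat.Hom.hom m).IsIntegral) h2).mp h3'
  simp only [CommRingCat.hom_comp] at h3'
  exact RingHom.IsIntegral.tower_bot _ _ (RingHom.injective _) h3'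

/-- Let S be a scheme, X a decent algebraic space over S, and Spec k ⟶ X a morphism over S from the
spectrum of a field whose image in S is a closed point s with k algebraic over κ(s). Then the image
point of |X| is closed. Here Spec k ⟶ S is written as Spec k ⟶ Spec κ(s) ⟶ S for a ring map φ : κ(s)
→ k, integral since k is algebraic over κ(s). -/
theorem result {S : Scheme.{u}} (X : AlgSp.Space S)
    (hX : AlgSp.IsDecent X.obj) (s : ↥S) (hs : IsClosed ({s} : Set ↥S)) (k : Type u) [Field k]
    (φ : S.residueField s ⟶ CommRingCat.of k) (hφ : φ.hom.IsIntegral)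
    (p : (AlgSp.yon S).obj (Over.mk (Spec.map φ ≫ S.fromSpecResidueField s)) ⟶ X.obj)
    (t : ↥(Spec (CommRingCat.of k))) :
    IsClosed ({AlgSp.Points.ofPt p t} : Set (AlgSp.Points X.obj)) := by
  classical
  set x := AlgSp.Points.ofPt p t with hxdef
  apply isClosed_of_closure_subset
  intro x' hx'
  have hsp : x ⤳ x' := specializes_iff_mem_closure.2 hx'
  obtain ⟨U, a, u', -, ha, hu'⟩ := Groth.Agent.Lib.H5bDvrExt.exists_affine_chart_at X.property x'
  obtain ⟨q, hq, hqm, hqq⟩ := hX x
  obtain ⟨u, huu', hu⟩ := Groth.Agent.S10343.result X x' x hsp ⟨q, hq, hqm, hqq⟩ a ha u' hu'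
  -- the fibre product
  have hrep := X.property.representable_from_yon a
  obtain ⟨F, pr, w, sq⟩ : ∃ (F : Over S) (pr : F ⟶ U)
      (w : F ⟶ Over.mk (Spec.map φ ≫ S.fromSpecResidueField s)),
      IsPullback ((AlgSp.yon S).map pr) ((AlgSp.yon S).map w) a p := ⟨_, _, _, hrep.isPullback' p⟩
  obtain ⟨ξ, hξ1, hξ2⟩ := Groth.Agent.S10176.exists_point_of_isPullback_yon sq u t hu
  haveI : Etale w.left := ha.2 _ _ _ sq
  -- residue fields
  have h5a : (w.left.residueFieldMap ξ).hom.IsIntegral :=
    (Q4.finite_residueFieldMap w.left ξ).to_isIntegral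
  have h5b := isIntegral_residueFieldMap_point s k φ hφ (w.left ξ)
  have h5c : ((w.left ≫ Spec.map φ ≫ S.fromSpecResidueField s).residueFieldMap ξ).hom.IsIntegral :=
    isIntegral_residueFieldMap_comp _ _ _ h5b h5a
  have h5d : w.left ≫ Spec.map φ ≫ S.fromSpecResidueField s = pr.left ≫ U.hom :=
    (Over.w w).trans (Over.w pr).symm
  have h5e : ((pr.left ≫ U.hom).residueFieldMap ξ).hom.IsIntegral := h5d ▸ h5c
  have h5f : (U.hom.residueFieldMap (pr.left ξ)).hom.IsIntegral :=
    isIntegral_residueFieldMap_of_comp _ _ _ h5e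
  have h5g : (U.hom.residueFieldMap u).hom.IsIntegral := hξ1 ▸ h5f
  -- `u` lies over `s`
  have hus : U.hom u = s := by
    rw [← hξ1, ← Scheme.Hom.comp_apply, ← h5d, Scheme.Hom.comp_apply, Scheme.Hom.comp_apply,
      Scheme.fromSpecResidueField_apply]
  have halg : @Algebra.IsAlgebraic (S.residueField (U.hom u)) (U.left.residueField u) _ _
      (U.hom.residueFieldMap u).hom.toAlgebra := by
    letI := (U.hom.residueFieldMap u).hom.toAlgebra
    haveI : Algebra.IsIntegral (S.residueField (U.hom u)) (U.left.residueField u) := ⟨h5g⟩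
    exact Algebra.IsIntegral.isAlgebraic
  have hcl1 := Groth.Agent.Lib.Helper10.FibClosed.isClosed_asFiber_of_isAlgebraic U.hom u halg
  have hcl : IsClosed ({u} : Set ↥U.left) :=
    Groth.Agent.Lib.Helper10.FibClosed.isClosed_singleton_of_isClosed_asFiber U.hom u hcl1
      (by rw [hus]; exact hs)
  have : u' = u := by
    have := huu'.mem_closure
    rw [hcl.closure_eq] at this
    exact this
  show x' = x
  rw [← hu', ← hu, this]

end Groth.Agent.S10357
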