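import Groth.Statements.S10359
import Mathlib
import Groth.Agent.S10192
import Groth.Agent.S10351
import Groth.Agent.S10191
import Groth.Agent.S10356

set_option autoImplicit false
set_option linter.style.haveILetI false
universe u
open CategoryTheory CategoryTheory.Limits AlgebraicGeometry Topology TopologicalSpace
open AlgSp

namespace Groth.Agent.S10359

/-- On a decent algebraic space X over a scheme S every closed point x of |X| is represented by a closed
immersion Spec k ⟶ X, where k is a field. -/
theorem result {S : Scheme.{u}} (X : AlgSp.Space S)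
    (hX : AlgSp.IsDecent X.obj) (x : AlgSp.Points X.obj) (hx : IsClosed ({x} : Set (AlgSp.Points X.obj))) :
    ∃ p : AlgSp.FieldPt X.obj, AlgSp.Points.mk p = x ∧ AlgSp.RepWith @IsClosedImmersion p.toHom := by
  obtain ⟨Z, i, hi, hr, hred⟩ := Groth.Agent.S10192.result X {x} hx
  have hdec : AlgSp.IsDecent Z.obj := Groth.Agent.S10351.result i hi.1 hX
  have himm : AlgSp.RepWith @IsImmersion i.hom := by
    refine ⟨hi.1, fun T W g pr w sq => ?_⟩
    haveI : IsClosedImmersion w.left := hi.2 g pr w sq
    change IsImmersion w.left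
    infer_instance
  have hemb := (Groth.Agent.S10191.result i himm).1
  haveI : Nonempty (AlgSp.Points Z.obj) := by
    have : x ∈ Set.range (AlgSp.Points.map i.hom) := by rw [hr]; exact rfl
    obtain ⟨z, -⟩ := this
    exact ⟨z⟩
  haveI : Subsingleton (AlgSp.Points Z.obj) := by
    constructor
    intro z₁ z₂
    apply hemb.injective
    have h1 : AlgSp.Points.map i.hom z₁ ∈ ({x} : Set _) := hr ▸ Set.mem_range_self z₁
    have h2 : AlgSp.Points.map i.hom z₂ ∈ ({x} : Set _) := hr ▸ Set.mem_range_self z₂
    rw [Set.mem_singleton_iff] at h1 h2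
    rw [h1, h2]
  obtain ⟨k, _, str, ⟨e⟩⟩ := Groth.Agent.S10356.result Z hdec hred
  let p' : AlgSp.FieldPt Z.obj := ⟨k, str, (AlgSp.J S).uliftYonedaEquiv e.hom⟩
  let p : AlgSp.FieldPt X.obj := p'.map i.hom
  have hp' : p'.toHom = e.hom := Equiv.symm_apply_apply _ _
  have hp : p.toHom = e.hom ≫ i.hom := by
    rw [AlgSp.FieldPt.toHom_map, hp']
  refine ⟨p, ?_, ?_⟩
  · have h2 : AlgSp.Points.mk p ∈ Set.range (AlgSp.Points.map i.hom) := ⟨AlgSp.Points.mk p', rfl⟩
    rw [hr] at h2
    exact h2
  · rw [hp]
    exact MorphismProperty.RespectsIso.precomp _ _ _ hi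

end Groth.Agent.S10359
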