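import Groth.Statements.S10591
import Mathlib
import Groth.Agent.Lib.H5bDeformFin
import Groth.Agent.Lib.H5bThickFin
import Groth.Agent.Lib.H5bFibDimBC
import Groth.Agent.S1312

set_option autoImplicit false
universe u
open CategoryTheory CategoryTheory.Limits AlgebraicGeometry
open AlgSp

namespace Groth.Agent.S10591

/-- Consider a morphism (f, f') from the thickening X ⊂ X' to the thickening Y ⊂ Y' of algebraic spaces
over S, meaning: i : X ⟶ X' and j : Y ⟶ Y' are thickenings (representable, every base change to a
scheme a surjective closed immersion) and i ≫ f' = f ≫ j. Assume moreover that the square is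
cartesian (X = Y ×_{Y'} X') and that i is a finite order thickening (for one n, on every affine
etale scheme chart of X' the (n+1)-st power of the ideal of the base change of X vanishes). Then f
is locally of finite type of relative dimension d, resp. locally of finite type, resp. locally
quasi-finite, resp. unramified, if and only if f' is (relative dimension d at a point: some chart
diagram through the point has fibre of local dimension d there) (all in the etale-local sense,
locally quasi-finite and unramified including locally of finite type). -/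
theorem result {S : Scheme.{u}} {X X' Y Y' : AlgSp.Space S} (i : X ⟶ X') (j : Y ⟶ Y')
    (f : X ⟶ Y) (f' : X' ⟶ Y')
    (hi : AlgSp.IsThickMor i.hom)
    (hj : AlgSp.IsThickMor j.hom) (w : i ≫ f' = f ≫ j)
    (hcart : IsPullback i.hom f.hom f'.hom j.hom)
    (hfo : AlgSp.IsFinThickMor i.hom) (d : ℕ) :
    ((AlgSp.LocP @LocallyOfFiniteType f.hom ∧
        ∀ x, AlgSp.HasAtMor (fun _ _ h u => FlatMor.fibreDimAt h u = (d : WithBot ℕ∞)) f.hom x) ↔
      (AlgSp.LocP @LocallyOfFiniteType f'.hom ∧
        ∀ x', AlgSp.HasAtMor (fun _ _ h u => FlatMor.fibreDimAt h u = (d : WithBot ℕ∞)) f'.hom x')) ∧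
    (AlgSp.LocP @LocallyOfFiniteType f.hom ↔ AlgSp.LocP @LocallyOfFiniteType f'.hom) ∧
    (AlgSp.LocP (@LocallyQuasiFinite ⊓ @LocallyOfFiniteType) f.hom ↔
      AlgSp.LocP (@LocallyQuasiFinite ⊓ @LocallyOfFiniteType) f'.hom) ∧
    (AlgSp.LocP (@LocallyOfFiniteType ⊓ @FormallyUnramified) f.hom ↔
      AlgSp.LocP (@LocallyOfFiniteType ⊓ @FormallyUnramified) f'.hom) := by
  have hbcE := AlgSp.repWith_isStableUnderBaseChange (S := S) @Etale
  have hbcS := AlgSp.repWith_isStableUnderBaseChange (S := S) @Surjective
  obtain ⟨Vb, bb, hbb, hbbs⟩ := Y'.property.atlas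
  have sqV := hj.rep.isPullback bb
  have htV : AlgSp.thick (hj.rep.snd bb).left := hj.property_snd bb
  have hbs : AlgSp.RepWith @Etale (hj.rep.fst bb) := hbcE.of_isPullback sqV.flip hbb
  have hbss : AlgSp.RepWith @Surjective (hj.rep.fst bb) := hbcS.of_isPullback sqV.flip hbbs
  obtain ⟨Ub, Us, ab, as, pb, ps, tU, hab, has, hass, habimp, c1b, c1s, cU, sqU⟩ :=
    Groth.Agent.Lib.H5bFlatCI2.exists_relative_cartesian_chart_surj X'.property hcart bb
      (hj.rep.fst bb) (hj.rep.snd bb) hbb hbs hbss sqV.w
  have habs : AlgSp.RepWith @Surjective ab := habimp hbbs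
  have hthV : MoreMor.IsThickening (hj.rep.snd bb).left := htV
  -- the chart square of `i` is cartesian
  have wO : tU ≫ pb = ps ≫ hj.rep.snd bb := by
    ext
    exact sqU.w
  have sqUy := Groth.Agent.Lib.H5bFibCrit.isPullback_yon_of_left tU ps pb (hj.rep.snd bb) wO sqU
  have big : IsPullback ((AlgSp.yon S).map tU) (as ≫ f.hom) (ab ≫ f'.hom) j.hom := by
    have := sqUy.paste_vert sqV.flip
    rwa [← c1s, ← c1b] at this
  have sqI : IsPullback as ((AlgSp.yon S).map tU) i.hom ab :=
    (IsPullback.of_bot big cU.symm hcart).flip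
  have hXn : IsNilpotent tU.left.ker :=
    (Groth.Agent.Lib.H5bDeformFin.isFiniteOrderThickening_of_chart hfo ab as tU hab sqI).2
  have hsU : Surjective tU.left :=
    MorphismProperty.of_isPullback (P := @Surjective) sqU.flip htV.2
  have hsurj := Groth.Agent.Lib.H5bDeform.surjective_points_of_cube i ab as tU habs cU hsU
  have hlft : AlgSp.LocP @LocallyOfFiniteType f.hom ↔ AlgSp.LocP @LocallyOfFiniteType f'.hom :=
    Groth.Agent.Lib.H5bDeform.locP_iff_of_cube Groth.Agent.Lib.Helper12.LocPCases.good_lft
      i j f f' hcart ab as bb (hj.rep.fst bb) pb ps hab habs hbb has hbs c1b c1s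
      (fun h => by
        haveI : LocallyOfFiniteType ps.left := h
        exact Groth.Agent.Lib.H5bThickFin.lft_of_fthick' tU.left (hj.rep.snd bb).left ps.left
          pb.left hthV hXn sqU)
  refine ⟨?_, hlft, ?_, ?_⟩
  · constructor
    · rintro ⟨hl, hd⟩
      have hlft' := hlft.1 hl
      refine ⟨hlft', fun x' => ?_⟩
      obtain ⟨x, rfl⟩ := hsurj x'
      exact (Groth.Agent.Lib.H5bFibDimBC.hasAtMor_fibreDimAt_baseChange_iff X'.property
        Y'.property Y.property hcart hlft' x (fun r => r = (d : WithBot ℕ∞))).1 (hd x)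
    · rintro ⟨hlft', hd⟩
      exact ⟨hlft.2 hlft', fun x =>
        (Groth.Agent.Lib.H5bFibDimBC.hasAtMor_fibreDimAt_baseChange_iff
        X'.property Y'.property Y.property hcart hlft' x (fun r => r = (d : WithBot ℕ∞))).2 (hd _)⟩
  · exact Groth.Agent.Lib.H5bDeform.locP_iff_of_cube Groth.Agent.Lib.Helper12.LocPCases.good_lqf
      i j f f' hcart ab as bb (hj.rep.fst bb) pb ps hab habs hbb has hbs c1b c1s
      (fun h => by
        haveI : LocallyOfFiniteType ps.left := h.2
        haveI : LocallyOfFiniteType pb.left :=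
          Groth.Agent.Lib.H5bThickFin.lft_of_fthick' tU.left (hj.rep.snd bb).left ps.left
            pb.left hthV hXn sqU
        exact ⟨(Groth.Agent.S1312.result tU.left (hj.rep.snd bb).left ps.left pb.left hthV
          sqU).1 h.1, inferInstance⟩)
  · exact Groth.Agent.Lib.H5bDeform.locP_iff_of_cube Groth.Agent.Lib.Helper12.LocPCases.good_unram
      i j f f' hcart ab as bb (hj.rep.fst bb) pb ps hab habs hbb has hbs c1b c1s
      (fun h => by
        haveI : LocallyOfFiniteType ps.left := h.1
        haveI : FormallyUnramified ps.left := h.2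
        exact ⟨Groth.Agent.Lib.H5bThickFin.lft_of_fthick' tU.left (hj.rep.snd bb).left ps.left
            pb.left hthV hXn sqU,
          Groth.Agent.Lib.H5bThickFin.fu_of_fthick' tU.left (hj.rep.snd bb).left ps.left
            pb.left hthV hXn sqU⟩)

end Groth.Agent.S10591
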