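import Groth.Statements.S10593
import Mathlib
import Groth.Agent.Lib.H5bDeform
import Groth.Agent.S1312
import Groth.Agent.S1314

set_option autoImplicit false
universe u
open CategoryTheory CategoryTheory.Limits AlgebraicGeometry
open AlgSp

namespace Groth.Agent.S10593

/-- Consider a morphism (f, f') from the thickening X ⊂ X' to the thickening Y ⊂ Y' of algebraic spaces
over S, meaning: i : X ⟶ X' and j : Y ⟶ Y' are thickenings (representable, every base change to a
scheme a surjective closed immersion) and i ≫ f' = f ≫ j. Assume moreover that the square is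
cartesian (X = Y ×_{Y'} X') and that f and f' are locally of finite type. Then f is locally
quasi-finite, resp. unramified, if and only if f' is (etale-local sense, both notions including
locally of finite type). -/
theorem result {S : Scheme.{u}} {X X' Y Y' : AlgSp.Space S} (i : X ⟶ X') (j : Y ⟶ Y')
    (f : X ⟶ Y) (f' : X' ⟶ Y')
    (hi : AlgSp.IsThickMor i.hom)
    (hj : AlgSp.IsThickMor j.hom) (w : i ≫ f' = f ≫ j)
    (hcart : IsPullback i.hom f.hom f'.hom j.hom)
    (hft : AlgSp.LocP @LocallyOfFiniteType f.hom) (hft' : AlgSp.LocP @LocallyOfFiniteType f'.hom) :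
    (AlgSp.LocP (@LocallyQuasiFinite ⊓ @LocallyOfFiniteType) f.hom ↔
      AlgSp.LocP (@LocallyQuasiFinite ⊓ @LocallyOfFiniteType) f'.hom) ∧
    (AlgSp.LocP (@LocallyOfFiniteType ⊓ @FormallyUnramified) f.hom ↔
      AlgSp.LocP (@LocallyOfFiniteType ⊓ @FormallyUnramified) f'.hom) := by
  have hbcE := AlgSp.repWith_isStableUnderBaseChange (S := S) @Etale
  have hbcS := AlgSp.repWith_isStableUnderBaseChange (S := S) @Surjective
  obtain ⟨Vb, bb, hbb, hbbs⟩ := Y'.property.atlas
  have sqV := hj.rep.isPullback bb
  have htV : AlgSp.thick (hj.rep.snd bb).left := hj.property_snd bb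
  have hbs : AlgSp.RepWith @Etale (hj.rep.fst bb) := hbcE.of_isPullback sqV.flip hbb
  have hbss : AlgSp.RepWith @Surjective (hj.rep.fst bb) := hbcS.of_isPullback sqV.flip hbbs
  obtain ⟨Ub, Us, ab, as, pb, ps, tU, hab, has, hass, habimp, c1b, c1s, cU, sqU⟩ :=
    Groth.Agent.Lib.H5bFlatCI2.exists_relative_cartesian_chart_surj X'.property hcart bb
      (hj.rep.fst bb) (hj.rep.snd bb) hbb hbs hbss sqV.w
  have habs : AlgSp.RepWith @Surjective ab := habimp hbbs
  have hthV : MoreMor.IsThickening (hj.rep.snd bb).left := htV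
  haveI k1 : LocallyOfFiniteType pb.left := hft' ab bb pb hab hbb c1b
  haveI k2 : LocallyOfFiniteType ps.left := hft as (hj.rep.fst bb) ps has hbs c1s
  constructor
  · exact Groth.Agent.Lib.H5bDeform.locP_iff_of_cube Groth.Agent.Lib.Helper12.LocPCases.good_lqf
      i j f f' hcart ab as bb (hj.rep.fst bb) pb ps hab habs hbb has hbs c1b c1s
      (fun h => ⟨(Groth.Agent.S1312.result tU.left (hj.rep.snd bb).left ps.left pb.left hthV sqU).1
        h.1, inferInstance⟩)
  · exact Groth.Agent.Lib.H5bDeform.locP_iff_of_cube Groth.Agent.Lib.Helper12.LocPCases.good_unram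
      i j f f' hcart ab as bb (hj.rep.fst bb) pb ps hab habs hbb has hbs c1b c1s
      (fun h => ⟨inferInstance,
        (Groth.Agent.S1314.result tU.left (hj.rep.snd bb).left ps.left pb.left hthV sqU).1 h.2⟩)

end Groth.Agent.S10593
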