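import Groth.Statements.S10630
import Mathlib
import Groth.Agent.Lib.Helper8FOGlue

set_option autoImplicit false
universe u
open CategoryTheory CategoryTheory.Limits AlgebraicGeometry
open AlgSp

namespace Groth.Agent.S10630

/-- (1) ⇔ (3): let h : Z ⟶ X be a morphism of algebraic spaces over S and let i : Z ⟶ Z', h' : Z' ⟶ X be
a first order thickening of Z over X (i ≫ h' = h). Then (i, h') is a universal first order
thickening of Z over X if and only if for every first order thickening j : T ⟶ T' of schemes over S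
with T' affine, every a : T ⟶ Z and b : T' ⟶ X with j ≫ b = a ≫ h, there is exactly one a' : T' ⟶ Z'
with j ≫ a' = a ≫ i and a' ≫ h' = b. -/
theorem result {S : Scheme.{u}} {Z Z' X : AlgSp.Space S} (h : Z ⟶ X) (i : Z ⟶ Z')
    (h' : Z' ⟶ X) (hi : AlgSp.IsFOThickMor i.hom) (w : i ≫ h' = h) :
    AlgSp.IsUnivFOThick h.hom i.hom h'.hom ↔
      ∀ (T T' : Over S) (j : T ⟶ T'), IsAffine T'.left → AlgSp.IsFOThickMor ((AlgSp.yon S).map j) →
        ∀ (a : (AlgSp.yon S).obj T ⟶ Z.obj) (b : (AlgSp.yon S).obj T' ⟶ X.obj),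
          (AlgSp.yon S).map j ≫ b = a ≫ h.hom →
          ∃! a' : (AlgSp.yon S).obj T' ⟶ Z'.obj, (AlgSp.yon S).map j ≫ a' = a ≫ i.hom ∧ a' ≫ h'.hom = b := by
  constructor
  · rintro ⟨-, -, HUu⟩ T T' j hT' hj a b hjb
    exact HUu (AlgSp.IsAlgSpace.yon_obj T) (AlgSp.IsAlgSpace.yon_obj T') ((AlgSp.yon S).map j) a b
      hj hjb
  · intro Htest
    refine ⟨hi, congrArg (fun m => m.hom) w, ?_⟩
    intro T T' hT hT' j a b hj hjb
    have key : ∀ (V : Over S) (c : (AlgSp.yon S).obj V ⟶ T'), IsAffine V.left →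
        AlgSp.RepWith @Etale c →
        ∃! l, Groth.Agent.Lib.Helper8FOGlue.IsLiftFor h'.hom j (a ≫ i.hom) b c l := by
      intro V c hV hc
      obtain ⟨V₀, snd₀, fst₀, sq₀⟩ := hj.1.1 c
      have hFO := Groth.Agent.Lib.Helper8FOGlue.isFOThickMor_of_chart hj c hc fst₀ snd₀ sq₀
      have test := Htest V₀ V snd₀ hV hFO (fst₀ ≫ a) (c ≫ b) (by
        rw [← Category.assoc, ← sq₀.w]
        simp only [Category.assoc]
        rw [hjb])
      obtain ⟨l, ⟨hl1, hl2⟩, hlu⟩ := test
      refine ⟨l, (Groth.Agent.Lib.Helper8FOGlue.isLiftFor_iff_of_isPullback sq₀ l).2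
        ⟨by rw [hl1, Category.assoc], hl2⟩, ?_⟩
      intro l' hl'
      rw [Groth.Agent.Lib.Helper8FOGlue.isLiftFor_iff_of_isPullback sq₀] at hl'
      exact hlu l' ⟨by rw [hl'.1, Category.assoc], hl'.2⟩
    exact Groth.Agent.Lib.Helper8FOGlue.existsUnique_lift hT'
      (fun V c hV hc l l' hl hl' => (key V c hV hc).unique hl hl')
      (fun V c hV hc => (key V c hV hc).exists)

end Groth.Agent.S10630
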