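import Groth.Statements.S10628
import Mathlib
import Groth.Agent.Lib.H5bFormalChart
import Groth.Agent.S10265

set_option autoImplicit false
universe u
open CategoryTheory CategoryTheory.Limits AlgebraicGeometry
open AlgSp

namespace Groth.Agent.S10628

open Groth.Agent.Lib.H5bFormal Groth.Agent.Lib.Helper15

variable {S : Scheme.{u}}

lemma formallyEtale_of_isEtaleMor {X Y : AlgSp.Space S} (p : X ⟶ Y)
    (hp : AlgSp.IsEtaleMor p.hom) : AlgSp.IsFormallyEtaleMor p.hom := by
  obtain ⟨-, -, hflat, -, -, hunr⟩ := Groth.Agent.S10265.result p hp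
  exact formallyEtale_of_flat_unramified X.property Y.property p.hom hunr hflat

/-- Take a formally smooth morphism f : X ⟶ Y of algebraic spaces over S, and let p : U ⟶ X and q : V ⟶
Y be etale morphisms of algebraic spaces with ψ : U ⟶ V such that ψ ≫ q = p ≫ f. Then ψ is formally
smooth. -/
theorem result {S : Scheme.{u}} {X Y U V : AlgSp.Space S} (f : X ⟶ Y)
    (hf : AlgSp.IsFormallySmoothMor f.hom) (p : U ⟶ X) (q : V ⟶ Y) (hp : AlgSp.IsEtaleMor p.hom) (hq : AlgSp.IsEtaleMor q.hom)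
    (ψ : U ⟶ V) (w : ψ ≫ q = p ≫ f) : AlgSp.IsFormallySmoothMor ψ.hom := by
  have hpE := (isFormallyEtaleMor_iff p.hom).1 (formallyEtale_of_isEtaleMor p hp)
  have hqE := (isFormallyEtaleMor_iff q.hom).1 (formallyEtale_of_isEtaleMor q hq)
  have wh : ψ.hom ≫ q.hom = p.hom ≫ f.hom := congrArg (fun φ => φ.hom) w
  intro sq
  -- lift to X
  have c1 : (sq.top ≫ p.hom) ≫ f.hom = (AlgSp.yon S).map sq.j ≫ sq.bot ≫ q.hom := by
    rw [Category.assoc, ← wh, ← Category.assoc, sq.comm, Category.assoc]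
  obtain ⟨l, hl1, hl2⟩ := hasLift_of_smooth sq hf (sq.top ≫ p.hom) (sq.bot ≫ q.hom) c1
  -- lift to U
  obtain ⟨lU, hlU1, hlU2⟩ := hasLift_of_smooth sq hpE.1 sq.top l hl1.symm
  refine ⟨lU, hlU1, ?_⟩
  apply uniq_of_unramified sq hqE.2
  · rw [← Category.assoc, hlU1]
    exact sq.comm
  · rw [Category.assoc, wh, ← Category.assoc, hlU2, hl2]

end Groth.Agent.S10628
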