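import Groth.Statements.S10632
import Mathlib
import Groth.Agent.Lib.Helper8FOBaseChange
import Groth.Agent.Lib.Helper15AlgSpInf
import Groth.Agent.S10628

set_option autoImplicit false
universe u
open CategoryTheory CategoryTheory.Limits AlgebraicGeometry
open AlgSp

namespace Groth.Agent.S10632

/-- Let e : Z ⟶ Y be an etale morphism of algebraic spaces over S, hY : Y ⟶ X, and let (iY : Y ⟶ Y', hY'
: Y' ⟶ X) be a universal first order thickening of Y over X. Let e' : Z' ⟶ Y' be etale with iZ : Z ⟶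
Z' making Z = Y ×_{Y'} Z' a pullback square. Then (iZ, e' ≫ hY') is a universal first order
thickening of Z over X. -/
theorem result {S : Scheme.{u}} {Z Y Y' Z' X : AlgSp.Space S} (e : Z ⟶ Y)
    (he : AlgSp.IsEtaleMor e.hom) (hY : Y ⟶ X) (iY : Y ⟶ Y') (hY' : Y' ⟶ X)
    (HU : AlgSp.IsUnivFOThick hY.hom iY.hom hY'.hom) (iZ : Z ⟶ Z') (e' : Z' ⟶ Y') (he' : AlgSp.IsEtaleMor e'.hom)
    (sq : IsPullback e.hom iZ.hom iY.hom e'.hom) :
    AlgSp.IsUnivFOThick (e ≫ hY).hom iZ.hom (e' ≫ hY').hom := by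
  have he'F := (Groth.Agent.Lib.Helper15.isFormallyEtaleMor_iff e'.hom).1
    (Groth.Agent.S10628.formallyEtale_of_isEtaleMor e' he')
  obtain ⟨hiY, hwY, HUu⟩ := HU
  refine ⟨Groth.Agent.Lib.Helper8FOBaseChange.isFOThickMor_of_isPullback iY.hom Y'.property hiY
    e'.hom iZ.hom e.hom sq, ?_, ?_⟩
  · show iZ.hom ≫ e'.hom ≫ hY'.hom = e.hom ≫ hY.hom
    rw [← Category.assoc, ← sq.w, Category.assoc, hwY]
  · intro T T' hT hT' j a b hj hjb
    have hjb' : j ≫ b = (a ≫ e.hom) ≫ hY.hom := by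
      rw [Category.assoc]
      exact hjb
    obtain ⟨c', ⟨hc1, hc2⟩, hcu⟩ := HUu hT hT' j (a ≫ e.hom) b hj hjb'
    have hw2 : (a ≫ iZ.hom) ≫ e'.hom = j ≫ c' := by
      rw [Category.assoc, ← sq.w, ← Category.assoc, hc1]
    obtain ⟨l, ⟨hl1, hl2⟩, hlu⟩ := Groth.Agent.Lib.Helper8FOGlue.existsUnique_lift
      (f := e'.hom) (j := j) (a := a ≫ iZ.hom) (b := c') hT'
      (Groth.Agent.Lib.Helper8FOGlue.affine_unique_of_unramified he'F.2 hj)
      (Groth.Agent.Lib.Helper8FOGlue.affine_exists_of_smooth he'F.1 hj hw2)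
    refine ⟨l, ⟨hl1, ?_⟩, ?_⟩
    · show l ≫ e'.hom ≫ hY'.hom = b
      rw [← Category.assoc, hl2, hc2]
    · rintro a'' ⟨h1, h2⟩
      apply hlu
      refine ⟨h1, ?_⟩
      apply hcu
      refine ⟨?_, ?_⟩
      · rw [← Category.assoc, h1, Category.assoc, ← sq.w, Category.assoc]
      · rw [Category.assoc]
        exact h2

end Groth.Agent.S10632
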