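import Groth.Statements.S10636
import Mathlib
import Groth.Agent.Lib.Helper8UnivThick

set_option autoImplicit false
universe u
open CategoryTheory CategoryTheory.Limits AlgebraicGeometry
open AlgSp

namespace Groth.Agent.S10636

/-- Take a formally unramified morphism h : Z ⟶ X of algebraic spaces over S and let (i : Z ⟶ Z', h' :
Z' ⟶ X) be a universal first order thickening of Z over X. Then h' is formally unramified. -/
theorem result {S : Scheme.{u}} {Z Z' X : AlgSp.Space S} (h : Z ⟶ X)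
    (hh : AlgSp.IsFormallyUnramifiedMor h.hom) (i : Z ⟶ Z') (h' : Z' ⟶ X) (HU : AlgSp.IsUnivFOThick h.hom i.hom h'.hom) :
    AlgSp.IsFormallyUnramifiedMor h'.hom := by
  intro sq l l' h1 h2 h1' h2'
  obtain ⟨hi, hw, HUu⟩ := HU
  have hjT : AlgSp.IsFOThickMor ((AlgSp.yon S).map sq.j) :=
    Groth.Agent.Lib.Helper8UnivThick.isFOThickMor_infSq_j sq
  obtain ⟨V₀, s₀, a₀, sq₀⟩ := hi.1.1 l
  have hs₀ : AlgSp.IsFOThickMor ((AlgSp.yon S).map s₀) :=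
    Groth.Agent.Lib.Helper8FOBaseChange.isFOThickMor_of_isPullback i.hom Z'.property hi l _ a₀ sq₀
  obtain ⟨V₀₀, m, t', sq₀₀⟩ := hjT.1.1 ((AlgSp.yon S).map s₀)
  have hm : AlgSp.IsFOThickMor ((AlgSp.yon S).map m) :=
    Groth.Agent.Lib.Helper8FOBaseChange.isFOThickMor_of_isPullback ((AlgSp.yon S).map sq.j)
      (AlgSp.IsAlgSpace.yon_obj _) hjT ((AlgSp.yon S).map s₀) _ t' sq₀₀
  have H1 : (AlgSp.yon S).map s₀ ≫ l = (AlgSp.yon S).map s₀ ≫ l' := by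
    have hcond : (AlgSp.yon S).map m ≫ ((AlgSp.yon S).map s₀ ≫ sq.bot) =
        ((AlgSp.yon S).map m ≫ a₀) ≫ h.hom := by
      calc (AlgSp.yon S).map m ≫ ((AlgSp.yon S).map s₀ ≫ sq.bot)
          = (AlgSp.yon S).map m ≫ (AlgSp.yon S).map s₀ ≫ l ≫ h'.hom := by rw [h2]
        _ = (AlgSp.yon S).map m ≫ ((AlgSp.yon S).map s₀ ≫ l) ≫ h'.hom := by
            simp only [Category.assoc]
        _ = (AlgSp.yon S).map m ≫ (a₀ ≫ i.hom) ≫ h'.hom := by rw [sq₀.w]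
        _ = ((AlgSp.yon S).map m ≫ a₀) ≫ i.hom ≫ h'.hom := by simp only [Category.assoc]
        _ = ((AlgSp.yon S).map m ≫ a₀) ≫ h.hom := by rw [hw]
    obtain ⟨a', -, hu⟩ := HUu (AlgSp.IsAlgSpace.yon_obj V₀₀) (AlgSp.IsAlgSpace.yon_obj V₀)
      ((AlgSp.yon S).map m) ((AlgSp.yon S).map m ≫ a₀) ((AlgSp.yon S).map s₀ ≫ sq.bot) hm hcond
    have e1 : (AlgSp.yon S).map s₀ ≫ l = a' := by
      apply hu
      refine ⟨?_, ?_⟩
      · rw [← sq₀.w, Category.assoc]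
      · rw [Category.assoc, h2]
    have e2 : (AlgSp.yon S).map s₀ ≫ l' = a' := by
      apply hu
      refine ⟨?_, ?_⟩
      · calc (AlgSp.yon S).map m ≫ (AlgSp.yon S).map s₀ ≫ l'
            = ((AlgSp.yon S).map m ≫ (AlgSp.yon S).map s₀) ≫ l' := (Category.assoc _ _ _).symm
          _ = (t' ≫ (AlgSp.yon S).map sq.j) ≫ l' := by rw [sq₀₀.w]
          _ = t' ≫ sq.top := by rw [Category.assoc, h1']
          _ = (t' ≫ (AlgSp.yon S).map sq.j) ≫ l := by rw [Category.assoc, h1]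
          _ = ((AlgSp.yon S).map m ≫ (AlgSp.yon S).map s₀) ≫ l := by rw [sq₀₀.w]
          _ = (AlgSp.yon S).map m ≫ a₀ ≫ i.hom := by rw [Category.assoc, sq₀.w]
          _ = ((AlgSp.yon S).map m ≫ a₀) ≫ i.hom := (Category.assoc _ _ _).symm
      · rw [Category.assoc, h2']
    rw [e1, e2]
  have hcond2 : (AlgSp.yon S).map s₀ ≫ sq.bot = a₀ ≫ h.hom := by
    calc (AlgSp.yon S).map s₀ ≫ sq.bot = (AlgSp.yon S).map s₀ ≫ l ≫ h'.hom := by rw [h2]
      _ = ((AlgSp.yon S).map s₀ ≫ l) ≫ h'.hom := (Category.assoc _ _ _).symm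
      _ = (a₀ ≫ i.hom) ≫ h'.hom := by rw [sq₀.w]
      _ = a₀ ≫ h.hom := by rw [Category.assoc, hw]
  obtain ⟨a', -, hu⟩ := HUu (AlgSp.IsAlgSpace.yon_obj V₀) (AlgSp.IsAlgSpace.yon_obj sq.ptT')
    ((AlgSp.yon S).map s₀) a₀ sq.bot hs₀ hcond2
  have e1 : l = a' := hu _ ⟨sq₀.w.symm, h2⟩
  have e2 : l' = a' := hu _ ⟨by rw [← H1]; exact sq₀.w.symm, h2'⟩
  rw [e1, e2]

end Groth.Agent.S10636
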