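import Groth.Statements.S10638
import Mathlib
import Groth.Agent.Lib.Helper8EtLiftSp
import Groth.Agent.Lib.Helper8FOThick
import Groth.Agent.Lib.Helper15AlgSpInf
import Groth.Agent.S10628
import Groth.Agent.S10631
import Groth.Agent.S10632
import Groth.Agent.S10636

set_option autoImplicit false
universe u
open CategoryTheory CategoryTheory.Limits AlgebraicGeometry
open AlgSp

namespace Groth.Agent.S10638

/-- Take a formally unramified morphism h : Z ⟶ X of algebraic spaces over S with universal first order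
thickening (iZ : Z ⟶ Z', hZ' : Z' ⟶ X). Let v : V ⟶ Z and w : U ⟶ X be etale morphisms of algebraic
spaces and ψ : V ⟶ U with ψ ≫ w = v ≫ h. Then ψ is formally unramified, and for a universal first
order thickening (iV : V ⟶ V', hV' : V' ⟶ U) of V over U, every e' : V' ⟶ Z' with iV ≫ e' = v ≫ iZ
and e' ≫ hZ' = hV' ≫ w (there is exactly one) is etale. (The published statement also identifies the
conormal sheaf of V over U with the restriction of that of Z over X; this row omits that clause.) -/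
theorem result {S : Scheme.{u}} {Z X Z' V U V' : AlgSp.Space S} (h : Z ⟶ X)
    (hh : AlgSp.IsFormallyUnramifiedMor h.hom) (iZ : Z ⟶ Z') (hZ' : Z' ⟶ X) (HZ : AlgSp.IsUnivFOThick h.hom iZ.hom hZ'.hom)
    (v : V ⟶ Z) (w : U ⟶ X) (hv : AlgSp.IsEtaleMor v.hom) (hw : AlgSp.IsEtaleMor w.hom) (ψ : V ⟶ U)
    (c : ψ ≫ w = v ≫ h) :
    AlgSp.IsFormallyUnramifiedMor ψ.hom ∧
    ∀ (iV : V ⟶ V') (hV' : V' ⟶ U), AlgSp.IsUnivFOThick ψ.hom iV.hom hV'.hom →
      ∀ e' : V' ⟶ Z', iV ≫ e' = v ≫ iZ → e' ≫ hZ' = hV' ≫ w → AlgSp.IsEtaleMor e'.hom := by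
  have wh : ψ.hom ≫ w.hom = v.hom ≫ h.hom := congrArg (fun m => m.hom) c
  have hvE := (Groth.Agent.Lib.Helper15.isFormallyEtaleMor_iff v.hom).1
    (Groth.Agent.S10628.formallyEtale_of_isEtaleMor v hv)
  have hwF := Groth.Agent.S10628.formallyEtale_of_isEtaleMor w hw
  refine ⟨?_, ?_⟩
  · apply Groth.Agent.Lib.Helper15.isFormallyUnramifiedMor_of_comp ψ.hom w.hom
    rw [wh]
    exact Groth.Agent.Lib.Helper15.isFormallyUnramifiedMor_comp v.hom h.hom hvE.2 hh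
  intro iV hV' HV e' c1 c2
  have c1h : iV.hom ≫ e'.hom = v.hom ≫ iZ.hom := congrArg (fun m => m.hom) c1
  have c2h : e'.hom ≫ hZ'.hom = hV'.hom ≫ w.hom := congrArg (fun m => m.hom) c2
  have hZ'U : AlgSp.IsFormallyUnramifiedMor hZ'.hom := Groth.Agent.S10636.result h hh iZ hZ' HZ
  have hiZ := HZ.1
  have hiV := HV.1
  have hiZc : AlgSp.RepWith @IsClosedImmersion iZ.hom :=
    ⟨hiZ.1.1, fun _ _ g fst snd sq => (hiZ.1.2 g fst snd sq).1⟩
  have isEt : ∀ {B : Over S} {Y : AlgSp.Sp S} (a : (AlgSp.yon S).obj B ⟶ Y),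
      AlgSp.RepWith @Etale a → AlgSp.IsEtaleMor a := fun a ha U φ hφ =>
    (AlgSp.repWith_isMultiplicative (S := S) @Etale).comp_mem _ _ hφ ha
  intro W φ hφ
  refine Groth.Agent.Lib.Helper8EtLiftSp.repWith_etale_of_local _
    (Z'.property.representable_from_yon _) ?_
  intro x
  -- the thin part of the chart `W`
  obtain ⟨W₀, s₀, a₀, sq₀⟩ := hiV.1.1 φ
  have hs₀ : AlgSp.thick s₀.left := hiV.1.2 φ a₀ s₀ sq₀
  haveI : IsClosedImmersion s₀.left := hs₀.1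
  have ha₀ : AlgSp.RepWith @Etale a₀ :=
    MorphismProperty.of_isPullback (P := AlgSp.RepWith @Etale) sq₀.flip hφ
  obtain ⟨x₀, hx₀⟩ := hs₀.2.surj x
  have hε : AlgSp.RepWith @Etale (a₀ ≫ v.hom) := hv a₀ ha₀
  -- lift the chart `W₀ ⟶ Z` to a chart of `Z'`
  obtain ⟨B', B₀, cB, k, r, hcB, hr, sqB, b₀, hb₀⟩ :=
    Groth.Agent.Lib.Helper8EtLiftSp.exists_etale_chart_lift Z'.property iZ.hom hiZc
      (a₀ ≫ v.hom) hε x₀
  have hk : AlgSp.thick k.left := hiZ.1.2 cB _ k sqB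
  haveI := hr
  -- lift `B₀ ⟶ W₀` to an etale scheme over `W`
  obtain ⟨B2, B20, c2', k2, r2, -, hc2', hr2, sq2, b, hb⟩ :=
    Groth.Agent.Lib.Helper8EtLift.exists_etale_lift_closed s₀.left r.left b₀
  haveI := hc2'
  haveI := hr2
  let B2S : Over S := Over.mk (c2' ≫ W.hom)
  let B20S : Over S := Over.mk (k2 ≫ c2' ≫ W.hom)
  let β : B2S ⟶ W := Over.homMk c2' rfl
  let κ : B20S ⟶ B2S := Over.homMk k2 rfl
  let ρ : B20S ⟶ B₀ := Over.homMk r2 (by
    show r2 ≫ B₀.hom = k2 ≫ c2' ≫ W.hom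
    rw [← Over.w r, ← Over.w s₀, ← Category.assoc k2, sq2.w]
    simp only [Category.assoc])
  have hcomm2 : κ ≫ β = (ρ ≫ r) ≫ s₀ := Over.OverMorphism.ext sq2.w
  have sq2O : IsPullback κ (ρ ≫ r) β s₀ := IsPullback.of_map (Over.forget S) hcomm2 sq2
  have hβx : x ∈ Set.range β.left := by
    refine ⟨k2 b, ?_⟩
    show c2' (k2 b) = x
    rw [← Scheme.Hom.comp_apply, sq2.w, Scheme.Hom.comp_apply, Scheme.Hom.comp_apply, hb, hb₀, hx₀]
  refine ⟨B2S, β, hc2', hβx, ?_⟩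
  -- the open subscheme of `B'` on the image of `B20`
  obtain ⟨O, o, k', ho, sqO⟩ :=
    Groth.Agent.Lib.Helper8EtLiftSp.exists_open_restrict k hk.1 hk.2 ρ hr2
  haveI := ho
  -- étale-ness of the various charts
  have hβe : AlgSp.RepWith @Etale ((AlgSp.yon S).map β) := (AlgSp.repWith_yon_map_iff _ _).2 hc2'
  have hρre : AlgSp.RepWith @Etale ((AlgSp.yon S).map (ρ ≫ r)) :=
    (AlgSp.repWith_yon_map_iff _ _).2 (by
      rw [Over.comp_left]
      exact (inferInstance : Etale (r2 ≫ r.left)))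
  have hρe : AlgSp.RepWith @Etale ((AlgSp.yon S).map ρ) :=
    (AlgSp.repWith_yon_map_iff _ _).2 (inferInstance : Etale r2)
  have hoe : AlgSp.RepWith @Etale ((AlgSp.yon S).map o) :=
    (AlgSp.repWith_yon_map_iff _ _).2 (inferInstance : Etale o.left)
  have hmul := AlgSp.repWith_isMultiplicative (S := S) @Etale
  have hrav : AlgSp.RepWith @Etale ((AlgSp.yon S).map r ≫ a₀ ≫ v.hom) :=
    MorphismProperty.of_isPullback (P := AlgSp.RepWith @Etale) sqB.flip hcB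
  -- algebraic spaces attached to the schemes
  let T0 : AlgSp.Space S := ⟨(AlgSp.yon S).obj B20S, AlgSp.IsAlgSpace.yon_obj _⟩
  let T1 : AlgSp.Space S := ⟨(AlgSp.yon S).obj B2S, AlgSp.IsAlgSpace.yon_obj _⟩
  let T2 : AlgSp.Space S := ⟨(AlgSp.yon S).obj O, AlgSp.IsAlgSpace.yon_obj _⟩
  -- (α) `B2` is a universal thickening of `B20` over `X`
  let eα : T0 ⟶ V := ObjectProperty.homMk ((AlgSp.yon S).map (ρ ≫ r) ≫ a₀)
  let iα : T0 ⟶ T1 := ObjectProperty.homMk ((AlgSp.yon S).map κ)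
  let eα' : T1 ⟶ V' := ObjectProperty.homMk ((AlgSp.yon S).map β ≫ φ)
  have sqα : IsPullback eα.hom iα.hom iV.hom eα'.hom :=
    (sq2O.map (AlgSp.yon S)).flip.paste_horiz sq₀
  have Hα0 := Groth.Agent.S10632.result eα (isEt _ (hmul.comp_mem _ _ hρre ha₀)) ψ iV hV' HV iα eα'
    (isEt _ (hmul.comp_mem _ _ hβe hφ)) sqα
  have Hα := Groth.Agent.S10631.result (eα ≫ ψ) w iα (eα' ≫ hV') Hα0 hwF
  -- (β) `O` is a universal thickening of `B20` over `X`
  let eβ : T0 ⟶ Z := ObjectProperty.homMk ((AlgSp.yon S).map ρ ≫ (AlgSp.yon S).map r ≫ a₀ ≫ v.hom)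
  let iβ : T0 ⟶ T2 := ObjectProperty.homMk ((AlgSp.yon S).map k')
  let eβ' : T2 ⟶ Z' := ObjectProperty.homMk ((AlgSp.yon S).map o ≫ cB)
  have sqβ : IsPullback eβ.hom iβ.hom iZ.hom eβ'.hom :=
    (sqO.map (AlgSp.yon S)).flip.paste_horiz sqB
  have Hβ := Groth.Agent.S10632.result eβ (isEt _ (hmul.comp_mem _ _ hρe hrav)) h iZ hZ' HZ iβ eβ'
    (isEt _ (hmul.comp_mem _ _ hoe hcB)) sqβ
  -- the two structure maps to `X` agree
  have hg : ((eα ≫ ψ) ≫ w).hom = (eβ ≫ h).hom := by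
    show (((AlgSp.yon S).map (ρ ≫ r) ≫ a₀) ≫ ψ.hom) ≫ w.hom =
      ((AlgSp.yon S).map ρ ≫ (AlgSp.yon S).map r ≫ a₀ ≫ v.hom) ≫ h.hom
    rw [Functor.map_comp]
    simp only [Category.assoc]
    rw [wh]
  rw [hg] at Hα
  obtain ⟨θ, hθ1, hθ2⟩ := Groth.Agent.Lib.Helper8EtLiftSp.univFOThick_unique T0.property
    T1.property T2.property _ _ _ _ _ Hα Hβ
  -- compare the two maps to `Z'`
  let ℓ₁ : T1 ⟶ Z' := ObjectProperty.homMk ((AlgSp.yon S).map β ≫ φ ≫ e'.hom)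
  let ℓ₂ : T1 ⟶ Z' := ObjectProperty.homMk (θ.hom ≫ (AlgSp.yon S).map o ≫ cB)
  have hθ1' : (AlgSp.yon S).map κ ≫ θ.hom = (AlgSp.yon S).map k' := hθ1
  have hθ2' : θ.hom ≫ ((AlgSp.yon S).map o ≫ cB) ≫ hZ'.hom =
      (((AlgSp.yon S).map β ≫ φ) ≫ hV'.hom) ≫ w.hom := hθ2
  have hκβ : (AlgSp.yon S).map κ ≫ (AlgSp.yon S).map β =
      (AlgSp.yon S).map (ρ ≫ r) ≫ (AlgSp.yon S).map s₀ := by
    rw [← Functor.map_comp, ← Functor.map_comp, hcomm2]
  have hk'o : (AlgSp.yon S).map k' ≫ (AlgSp.yon S).map o =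
      (AlgSp.yon S).map ρ ≫ (AlgSp.yon S).map k := by
    rw [← Functor.map_comp, ← Functor.map_comp, sqO.w]
  have hℓ : ℓ₁ = ℓ₂ := by
    apply Groth.Agent.Lib.Helper8FOThick.eq_of_foThick hZ' hZ'U iα Hα.1 ℓ₁ ℓ₂
    · apply ObjectProperty.hom_ext
      show (AlgSp.yon S).map κ ≫ (AlgSp.yon S).map β ≫ φ ≫ e'.hom =
        (AlgSp.yon S).map κ ≫ θ.hom ≫ (AlgSp.yon S).map o ≫ cB
      rw [← Category.assoc, hκβ, Category.assoc, ← Category.assoc ((AlgSp.yon S).map s₀),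
        ← sq₀.w, Category.assoc, c1h, ← Category.assoc ((AlgSp.yon S).map κ), hθ1',
        ← Category.assoc ((AlgSp.yon S).map k'), hk'o, Category.assoc, ← sqB.w, Functor.map_comp]
      simp only [Category.assoc]
    · apply ObjectProperty.hom_ext
      show ((AlgSp.yon S).map β ≫ φ ≫ e'.hom) ≫ hZ'.hom =
        (θ.hom ≫ (AlgSp.yon S).map o ≫ cB) ≫ hZ'.hom
      rw [Category.assoc, Category.assoc, c2h, Category.assoc, hθ2']
      simp only [Category.assoc]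
  have hℓh : (AlgSp.yon S).map β ≫ φ ≫ e'.hom = θ.hom ≫ (AlgSp.yon S).map o ≫ cB :=
    congrArg (fun m => m.hom) hℓ
  rw [hℓh]
  exact MorphismProperty.RespectsIso.precomp _ θ.hom _ (hmul.comp_mem _ _ hoe hcB)

end Groth.Agent.S10638
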