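import Groth.Statements.S10605
import Mathlib
import Groth.Agent.Lib.H5bFpqcBaseRep
import Groth.Prelude.Def_AlgSpInf

set_option autoImplicit false
set_option linter.style.haveILetI false
universe u
open CategoryTheory CategoryTheory.Limits AlgebraicGeometry
open AlgSp

namespace Groth.Agent.S10605

open Groth.Agent.Lib.H5bFpqcBaseRep

lemma thick_eq : AlgSp.thick.{u} =
    (@IsClosedImmersion ⊓ @Surjective : MorphismProperty Scheme.{u}) := rfl

/-- The property of a morphism of algebraic spaces over S of being a thickening (representable, every
base change to a scheme a surjective closed immersion) is local on the base for the fpqc topology.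
(The published statement also claims the same for first order thickenings; this row states only the
thickening clause.) -/
theorem result {S : Scheme.{u}} :
    AlgSp.IsLocalOnBase (S := S) AlgSp.IsFpqcCover
      AlgSp.IsThickMor := by
  haveI := Groth.Agent.Lib.Helper12.descendsAlong_isClosedImmersion.{u}
  haveI : IsZariskiLocalAtTarget AlgSp.thick.{u} := by
    rw [thick_eq]
    infer_instance
  haveI : MorphismProperty.DescendsAlong AlgSp.thick.{u}
      (@Surjective ⊓ @Flat ⊓ @QuasiCompact : MorphismProperty Scheme.{u}) := by
    rw [thick_eq]
    infer_instance
  exact isLocalOnBase_repWith AlgSp.thick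
    (effDesc_of_le_affine _ (fun A B f hf => by haveI := hf.1; infer_instance))

end Groth.Agent.S10605
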