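import Groth.Statements.S7068
import Groth.Agent.Lib.R2H3PCFlat

set_option linter.style.haveILetI false
set_option linter.unusedVariables false

set_option autoImplicit false
universe u
attribute [local instance] HasDerivedCategory.standard
open MoreMor

namespace Groth.Agent.S7068

/-- If A → B is a flat homomorphism of commutative rings of finite presentation, then A → B is a perfect
ring map: pseudo-coherent, with B of finite tor dimension as an A-module. -/
theorem result (A B : Type u) [CommRing A] [CommRing B] [Algebra A B]
    [Module.Flat A B] [Algebra.FinitePresentation A B] : MoreMor.IsPerfectHom A B := by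
  constructor
  · -- pseudo-coherent
    obtain ⟨n, φ, hφ, hker⟩ := Algebra.FinitePresentation.out (R := A) (A := B)
    refine ⟨n, φ, hφ, ?_⟩
    letI algPB : Algebra (MvPolynomial (Fin n) A) B := φ.toRingHom.toAlgebra
    haveI : IsScalarTower A (MvPolynomial (Fin n) A) B :=
      IsScalarTower.of_algebraMap_eq' φ.comp_algebraMap.symm
    haveI : Module.FinitePresentation (MvPolynomial (Fin n) A) B := by
      refine Module.finitePresentation_of_surjective
        (Algebra.linearMap (MvPolynomial (Fin n) A) B) hφ ?_
      have : LinearMap.ker (Algebra.linearMap (MvPolynomial (Fin n) A) B) =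
          (RingHom.ker φ.toRingHom).restrictScalars _ := by
        ext x; rfl
      rw [this]
      exact hker
    exact Groth.Agent.Lib.R2H3.PCFlat.isPseudoCoherentModule' A (MvPolynomial (Fin n) A) B
  · refine ⟨0, ?_⟩
    intro N _ _ p hp
    exact ModuleCat.subsingleton_of_isZero
      (Groth.Agent.Helper13Tor.isZero_tor_of_flat (ModuleCat.of A N) (ModuleCat.of A B) p hp)

end Groth.Agent.S7068
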