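import Groth.Statements.S1507
import Groth.Agent.Lib.Helper1RelPC
import Groth.Agent.Lib.Helper14TorSyz
import Groth.Agent.S7068

set_option autoImplicit false
set_option linter.style.haveILetI false
set_option linter.unusedVariables false
universe u
attribute [local instance] HasDerivedCategory.standard
open FlatMor

namespace Groth.Agent.S1507


open CategoryTheory CategoryTheory.Limits DerivedCategory
open Groth.Agent.Lib.Helper1.PC Groth.Agent.Lib.Helper1.PCTower Groth.Agent.Lib.Helper1.Restrict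
  Groth.Agent.Lib.Helper1.RelPC Groth.Agent.S7017

/-- pseudo-coherence of an algebra as a module, in restriction form -/
lemma pc'_algebra_iff (R C : Type u) [CommRing R] [CommRing C] [Algebra R C]
    (N : Type u) [AddCommGroup N] [Module C N] [Module R N] [IsScalarTower R C N] :
    DRing.IsPseudoCoherentModule' R N ↔
      ∀ m : ℤ, DRing.IsPseudoCoherent R m ((DRing.restrictD (algebraMap R C)).obj (Dual.inD C N)) := by
  have e : (DRing.restrictD (algebraMap R C)).obj (Dual.inD C N) ≅ Dual.inD R N :=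
    restrictDSingleIso (algebraMap R C) (ModuleCat.of C N) 0 ≪≫
      (DerivedCategory.singleFunctor (ModuleCat.{u} R) 0).mapIso (restrictScalarsAlgebraIso N)
  constructor
  · intro h m
    exact isPC_of_iso e.symm (Groth.Agent.S6938.isPC_of_pc' _ h m)
  · intro h
    exact isPseudoCoherent'_of_forall _ (fun m => isPC_of_iso e (h m))

/-- for an ideal `I` of `B`, `B ⧸ I` is a pseudo-coherent `B`-module iff `I` is -/
lemma pc'_quotient_iff (B : Type u) [CommRing B] (I : Ideal B) :
    DRing.IsPseudoCoherentModule' B (B ⧸ I) ↔ DRing.IsPseudoCoherentModule' B ↥I := by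
  obtain ⟨Tr, hT, h1, h2, h3⟩ := Groth.Agent.Lib.Helper14.TorSyz.exists_triangle
    (Submodule.subtype I) (Submodule.mkQ I) (Submodule.injective_subtype I)
    (Submodule.mkQ_surjective I) (by
      rw [LinearMap.exact_iff, Submodule.ker_mkQ, Submodule.range_subtype])
  have hB : ∀ m : ℤ, DRing.IsPseudoCoherent B m (Dual.inD B B) := fun m =>
    isPC_of_rep m (rep_single _ (FF_self B) 0)
  constructor
  · intro h
    refine isPseudoCoherent'_of_forall _ (fun m => ?_)
    have hm : m = (m - 1) + 1 := by ring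
    rw [hm]
    have := isPC_obj₁ Tr hT (m - 1) (h2 ▸ hB _)
      (h3 ▸ Groth.Agent.S6938.isPC_of_pc' _ h (m - 1))
    rw [h1] at this
    exact this
  · intro h
    refine isPseudoCoherent'_of_forall _ (fun m => ?_)
    have := isPC_obj₃ Tr hT m (h1 ▸ Groth.Agent.S6938.isPC_of_pc' _ h (m + 1)) (h2 ▸ hB m)
    rw [h3] at this
    exact this

/-- Let A → B be flat and of finite presentation and I an ideal of B. Then A → B/I is a pseudo-coherent
ring map if and only if I is a pseudo-coherent B-module. -/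
theorem result {A B : Type u} [CommRing A] [CommRing B] [Algebra A B] [Module.Flat A B] [Algebra.FinitePresentation A B] (I : Ideal B) :
    MoreMor.IsPseudoCoherentHom A (B ⧸ I) ↔ DRing.IsPseudoCoherentModule' B ↥I := by
  obtain ⟨n, φ, hφ, hpcB⟩ := (Groth.Agent.S7068.result A B).1
  let ψ : MvPolynomial (Fin n) A →ₐ[A] (B ⧸ I) := (Ideal.Quotient.mkₐ A I).comp φ
  have hψ : Function.Surjective ψ := (Ideal.Quotient.mkₐ_surjective A I).comp hφ
  rw [← pc'_quotient_iff B I]
  -- step A: relative to the presentation `ψ`, in restriction form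
  have hA : MoreMor.IsPseudoCoherentHom A (B ⧸ I) ↔
      ∀ m : ℤ, DRing.IsPseudoCoherent (MvPolynomial (Fin n) A) m
        ((DRing.restrictD (ψ : MvPolynomial (Fin n) A →+* B ⧸ I)).obj
          (Dual.inD (B ⧸ I) (B ⧸ I))) := by
    constructor
    · rintro ⟨k, β, hβ, hpc⟩ m
      letI algK : Algebra (MvPolynomial (Fin k) A) (B ⧸ I) := β.toRingHom.toAlgebra
      have h1 := (pc'_algebra_iff (MvPolynomial (Fin k) A) (B ⧸ I) (B ⧸ I)).1 hpc
      exact (via_iff β hβ ψ hψ (Dual.inD (B ⧸ I) (B ⧸ I)) m).1 (h1 m)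
    · intro h
      refine ⟨n, ψ, hψ, ?_⟩
      letI algQ : Algebra (MvPolynomial (Fin n) A) (B ⧸ I) := ψ.toRingHom.toAlgebra
      exact (pc'_algebra_iff (MvPolynomial (Fin n) A) (B ⧸ I) (B ⧸ I)).2 h
  rw [hA]
  -- step B: restriction along `P → B`
  letI algPB : Algebra (MvPolynomial (Fin n) A) B := φ.toRingHom.toAlgebra
  have hBPC : BPC (algebraMap (MvPolynomial (Fin n) A) B) := bpc_of_algebra hpcB
  have hcomp : (ψ : MvPolynomial (Fin n) A →+* B ⧸ I) =
      (algebraMap B (B ⧸ I)).comp (algebraMap (MvPolynomial (Fin n) A) B) := rfl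
  rw [hcomp]
  have e : (DRing.restrictD (algebraMap B (B ⧸ I))).obj (Dual.inD (B ⧸ I) (B ⧸ I)) ≅
      Dual.inD B (B ⧸ I) :=
    restrictDSingleIso (algebraMap B (B ⧸ I)) (ModuleCat.of (B ⧸ I) (B ⧸ I)) 0 ≪≫
      (DerivedCategory.singleFunctor (ModuleCat.{u} B) 0).mapIso
        (restrictScalarsAlgebraIso (A := B) (B := B ⧸ I) (B ⧸ I))
  constructor
  · intro h
    refine isPseudoCoherent'_of_forall _ (fun m => isPC_of_iso e ?_)
    exact (isPC_restrictD_iff _ hBPC _ m).2 ((isPC_restrictD_comp_iff _ _ _ m).2 (h m))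
  · intro h m
    refine (isPC_restrictD_comp_iff _ _ _ m).1 ((isPC_restrictD_iff _ hBPC _ m).1 ?_)
    exact isPC_of_iso e.symm (Groth.Agent.S6938.isPC_of_pc' _ h m)

end Groth.Agent.S1507
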