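import Groth.Statements.S0032
import Groth.Agent.Lib.R2H3RpushQCohGen
import Groth.Agent.Lib.Helper23AffVanish7
import Groth.Agent.S0494

set_option linter.style.haveILetI false
set_option linter.unusedVariables false

set_option autoImplicit false
universe u
open Coherent

namespace Groth.Agent.S0032

open AlgebraicGeometry CategoryTheory Opposite in
/-- Let f : X → S be quasi-compact and quasi-separated with S affine, and F quasi-coherent on X. Then
H^q(X, F) is isomorphic to the global sections of R^q f_* F (higher direct image of the underlying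
abelian sheaf), for every q. -/
theorem result {X S : Scheme.{u}} (f : X ⟶ S)
    [QuasiCompact f] [QuasiSeparated f] [IsAffine S] (M : X.Modules) [Coh.IsQCoh M] (q : ℕ) :
    Nonempty (Coh.HH X M q ≃+ ↑(((Coh.RpushAb f q).obj (Coh.toAb M)).obj.obj (op ⊤))) := by
  haveI : M.IsQuasicoherent := ‹Coh.IsQCoh M›
  haveI := Groth.Agent.Lib.R2H3.RpushRestrict.hasInjectiveResolutions_modules X
  have h : ∀ p q : ℕ, Subsingleton
      (CohTop.H ((CohTop.Rpush f.base q).obj (Coh.toAb M)) (p + 1)) := by
    intro p q
    obtain ⟨e⟩ := Groth.Agent.Lib.Helper23.ModAbBridge.nonempty_toAb_Rpush_iso f M q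
    haveI : ((Coh.Rpush f q).obj M).IsQuasicoherent :=
      Groth.Agent.Lib.R2H3.RpushQCohGen.isQuasicoherent_Rpush_of_qcqs f M q
    have h1 : Subsingleton (Coh.HH S ((Coh.Rpush f q).obj M) (p + 1)) :=
      Groth.Agent.Lib.Helper23.AffVanish.subsingleton_HH _ (p + 1) (Nat.succ_pos p)
    refine ⟨fun x y => ?_⟩
    have key : ∀ z : CohTop.H ((CohTop.Rpush f.base q).obj (Coh.toAb M)) (p + 1), z = 0 := by
      intro z
      have hz : (z.comp (Abelian.Ext.mk₀ e.inv) (add_zero _)).comp (Abelian.Ext.mk₀ e.hom)
          (add_zero _) = z := by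
        rw [Abelian.Ext.comp_assoc_of_third_deg_zero, Abelian.Ext.mk₀_comp_mk₀, e.inv_hom_id,
          Abelian.Ext.comp_mk₀_id]
      have h2 : z.comp (Abelian.Ext.mk₀ e.inv) (add_zero _) = 0 :=
        @Subsingleton.elim _ h1 _ _
      rw [← hz, h2, Abelian.Ext.zero_comp]
    rw [key x, key y]
  exact Groth.Agent.S0494.result f.base (Coh.toAb M) h q

end Groth.Agent.S0032
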