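import Groth.Statements.S7100
import Groth.Agent.S1507

set_option autoImplicit false
set_option linter.style.haveILetI false
set_option linter.unusedVariables false
set_option linter.unusedSectionVars false
universe u
attribute [local instance] HasDerivedCategory.standard
open DerCA

namespace Groth.Agent.S7100

open CategoryTheory CategoryTheory.Limits DerivedCategory
open Groth.Agent.Lib.Helper1.PC Groth.Agent.Lib.Helper1.PCTower Groth.Agent.Lib.Helper1.Restrict
  Groth.Agent.Lib.Helper1.RelPC Groth.Agent.S7017

/-- (1)⇔(4): let R → B → A be homomorphisms of commutative rings with B → A surjective and with R → B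
and R → A both flat and of finite presentation. Then an object K of D(A) is pseudo-coherent
(isomorphic in D(A) to a bounded above complex of finite free modules) if and only if its
restriction of scalars to D(B) is pseudo-coherent; and for every integer m, K is m-pseudo-coherent
if and only if its restriction of scalars to D(B) is m-pseudo-coherent. -/
theorem result (R B A : Type u) [CommRing R] [CommRing B] [CommRing A]
    [Algebra R B] [Algebra R A] [Algebra B A] [IsScalarTower R B A]
    (hφ : Function.Surjective (algebraMap B A))
    [Module.Flat R B] [Algebra.FinitePresentation R B] [Module.Flat R A] [Algebra.FinitePresentation R A]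
    (K : Dual.D A) :
    (DRing.IsPseudoCoherent' A K ↔ DRing.IsPseudoCoherent' B ((DRing.restrictD (algebraMap B A)).obj K)) ∧
      ∀ m : ℤ, (DRing.IsPseudoCoherent A m K ↔
        DRing.IsPseudoCoherent B m ((DRing.restrictD (algebraMap B A)).obj K)) := by
  classical
  -- `A` is a pseudo-coherent `B`-module
  have hAB : DRing.IsPseudoCoherentModule' B A := by
    obtain ⟨n, φ, hφs, hpcB⟩ := (Groth.Agent.S7068.result R B).1
    let ψ : MvPolynomial (Fin n) R →ₐ[R] A := (IsScalarTower.toAlgHom R B A).comp φ
    have hψ : Function.Surjective ψ := by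
      have : Function.Surjective (IsScalarTower.toAlgHom R B A) := hφ
      exact this.comp hφs
    obtain ⟨k, β, hβ, hpcA⟩ := (Groth.Agent.S7068.result R A).1
    have h1 : ∀ m : ℤ, DRing.IsPseudoCoherent (MvPolynomial (Fin n) R) m
        ((DRing.restrictD (ψ : MvPolynomial (Fin n) R →+* A)).obj (Dual.inD A A)) := by
      intro m
      letI algK : Algebra (MvPolynomial (Fin k) R) A := β.toRingHom.toAlgebra
      have h1 := (Groth.Agent.S1507.pc'_algebra_iff (MvPolynomial (Fin k) R) A A).1 hpcA
      exact (via_iff β hβ ψ hψ (Dual.inD A A) m).1 (h1 m)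
    letI algPB : Algebra (MvPolynomial (Fin n) R) B := φ.toRingHom.toAlgebra
    have hBPC : BPC (algebraMap (MvPolynomial (Fin n) R) B) := bpc_of_algebra hpcB
    have hcomp : (ψ : MvPolynomial (Fin n) R →+* A) =
        (algebraMap B A).comp (algebraMap (MvPolynomial (Fin n) R) B) := rfl
    rw [hcomp] at h1
    have e : (DRing.restrictD (algebraMap B A)).obj (Dual.inD A A) ≅ Dual.inD B A :=
      restrictDSingleIso (algebraMap B A) (ModuleCat.of A A) 0 ≪≫
        (DerivedCategory.singleFunctor (ModuleCat.{u} B) 0).mapIso
          (restrictScalarsAlgebraIso (A := B) (B := A) A)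
    refine isPseudoCoherent'_of_forall _ (fun m => isPC_of_iso e ?_)
    exact (isPC_restrictD_iff _ hBPC _ m).2 ((isPC_restrictD_comp_iff _ _ _ m).2 (h1 m))
  have hBPC : BPC (algebraMap B A) := bpc_of_algebra hAB
  exact ⟨isPC'_restrictD_iff _ hBPC K, fun m => isPC_restrictD_iff _ hBPC K m⟩

end Groth.Agent.S7100
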