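import Groth.Statements.S0922
import Groth.Agent.Lib.H6xDerAdjB

set_option autoImplicit false
universe u
open CategoryTheory
attribute [local instance] HasDerivedCategory.standard
open DCoh

namespace Groth.Agent.S0922

open AlgebraicGeometry in
/-- For morphisms of schemes f : X → Y and g : Y → Z, the composite Rg_* ∘ Rf_* of total right derived
direct image functors is isomorphic to R(g ∘ f)_* as functors D(O_X) → D(O_Z). Existence of the
three derived functors is assumed (as instance binders) and only the existence of an isomorphism of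
functors is asserted. The published statement is for ringed spaces; stated here for schemes. -/
theorem result {X Y Z : Scheme.{u}} (f : X ⟶ Y) (g : Y ⟶ Z)
    [DCoh.HasRpush f] [DCoh.HasRpush g] [DCoh.HasRpush (f ≫ g)] :
    Nonempty (DCoh.Rpush f ⋙ DCoh.Rpush g ≅ DCoh.Rpush (f ≫ g)) := by
  haveI : DCoh.HasLpull f := Groth.Agent.Lib.Helper1.Sky.hasLpull f
  haveI : DCoh.HasLpull g := Groth.Agent.Lib.Helper1.Sky.hasLpull g
  haveI : DCoh.HasLpull (f ≫ g) := Groth.Agent.Lib.Helper1.Sky.hasLpull (f ≫ g)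
  obtain ⟨c⟩ := Groth.Agent.Lib.Helper1.Sky.nonempty_lpull_comp_iso f g
  have adj₁ : DCoh.Lpull g ⋙ DCoh.Lpull f ⊣ DCoh.Rpush f ⋙ DCoh.Rpush g :=
    (Groth.Agent.Lib.H6xDerAdj.derAdjLR g).comp (Groth.Agent.Lib.H6xDerAdj.derAdjLR f)
  have adj₂ : DCoh.Lpull g ⋙ DCoh.Lpull f ⊣ DCoh.Rpush (f ≫ g) :=
    (Groth.Agent.Lib.H6xDerAdj.derAdjLR (f ≫ g)).ofNatIsoLeft c.symm
  exact ⟨adj₁.rightAdjointUniq adj₂⟩

end Groth.Agent.S0922
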