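import Groth.Statements.S1969
import Mathlib.RingTheory.Flat.TorsionFree
import Mathlib.RingTheory.Flat.Localization
import Mathlib.RingTheory.Flat.Stability
import Mathlib.RingTheory.LocalRing.Module
import Mathlib.RingTheory.Bezout
import Mathlib.Algebra.Module.LocalizedModule.Submodule
import Mathlib.RingTheory.LocalProperties.Basic

set_option autoImplicit false
universe u
open EtAlg

namespace Groth.Agent.S1969

section aux

variable {B : Type u} [CommRing B] [IsLocalRing B]

/-- In a local ring in which every finitely generated ideal is flat, every nonzero element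
is a nonzerodivisor. -/
theorem eq_zero_of_mul_eq_zero_of_flat (h : ∀ J : Ideal B, J.FG → Module.Flat B J)
    (a b : B) (hab : b * a = 0) (ha : a ≠ 0) : b = 0 := by
  have hfl : Module.Flat B (Ideal.span {a}) := h _ ⟨{a}, by simp⟩
  have hfin : Module.Finite B (Ideal.span {a}) :=
    Module.Finite.of_fg ⟨{a}, by simp⟩
  have hfree : Module.Free B (Ideal.span {a}) := Module.free_of_flat_of_isLocalRing
  have hnt : Nontrivial (Ideal.span {a}) := by
    refine ⟨⟨⟨a, Ideal.subset_span rfl⟩, 0, ?_⟩⟩
    intro h0
    exact ha (congrArg Subtype.val h0)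
  -- b kills the whole module span{a}
  have hkill : ∀ x : (Ideal.span {a} : Ideal B), b • x = 0 := by
    rintro ⟨x, hx⟩
    obtain ⟨c, rfl⟩ := Ideal.mem_span_singleton'.1 hx
    apply Subtype.ext
    show b * (c * a) = 0
    rw [mul_left_comm, hab, mul_zero]
  obtain ⟨⟨ι, bas⟩⟩ := hfree
  have : Nonempty ι := by
    by_contra hι
    rw [not_nonempty_iff] at hι
    have : Subsingleton (Ideal.span {a}) := bas.repr.toEquiv.subsingleton
    exact not_subsingleton _ this
  obtain ⟨i⟩ := this
  have := hkill (bas i)
  have h2 := congrArg (fun x => bas.repr x i) this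
  simpa using h2

end aux

section aux2

variable {B : Type u} [CommRing B] [IsLocalRing B]

theorem isDomain_of_flat (h : ∀ J : Ideal B, J.FG → Module.Flat B J) : IsDomain B := by
  have : NoZeroDivisors B := ⟨fun {a b} hab => by
    by_cases hb : b = 0
    · exact Or.inr hb
    · exact Or.inl (eq_zero_of_mul_eq_zero_of_flat h b a hab hb)⟩
  exact NoZeroDivisors.to_isDomain B

theorem isPrincipal_of_flat [IsDomain B] (h : ∀ J : Ideal B, J.FG → Module.Flat B J)
    (J : Ideal B) (hJ : J.FG) : J.IsPrincipal := by
  have hfl : Module.Flat B J := h J hJ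
  have hfin : Module.Finite B J := Module.Finite.of_fg hJ
  have hfree : Module.Free B J := Module.free_of_flat_of_isLocalRing
  obtain ⟨⟨ι, bas⟩⟩ := hfree
  have hsub : Subsingleton ι := by
    constructor
    intro i j
    by_contra hij
    -- relation (bas j) • bas i - (bas i) • bas j = 0
    have hrel : ((bas j : J) : B) • bas i - ((bas i : J) : B) • bas j = 0 := by
      apply Subtype.ext
      show ((bas j : J) : B) * ((bas i : J) : B) - ((bas i : J) : B) * ((bas j : J) : B) = 0
      ring
    have h2 := congrArg (fun x => bas.repr x i) hrel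
    simp only [map_sub, map_smul, Module.Basis.repr_self, Finsupp.coe_sub, Finsupp.coe_smul,
      Pi.sub_apply, Pi.smul_apply, Finsupp.single_eq_same, smul_eq_mul, mul_one,
      Finsupp.single_eq_of_ne hij, mul_zero, sub_zero, map_zero,
      Finsupp.coe_zero, Pi.zero_apply] at h2
    have : bas j = 0 := Subtype.ext h2
    exact bas.ne_zero j this
  by_cases hι : Nonempty ι
  · obtain ⟨i⟩ := hι
    refine ⟨⟨(bas i : J), ?_⟩⟩
    apply le_antisymm
    · intro x hx
      have hx' : (⟨x, hx⟩ : J) ∈ Submodule.span B (Set.range bas) := by
        rw [bas.span_eq]; trivial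
      have hr : Set.range bas = {bas i} := by
        ext y
        constructor
        · rintro ⟨j, rfl⟩
          rw [Subsingleton.elim j i]; rfl
        · rintro rfl
          exact ⟨i, rfl⟩
      rw [hr, Submodule.mem_span_singleton] at hx'
      obtain ⟨c, hc⟩ := hx'
      rw [Submodule.mem_span_singleton]
      exact ⟨c, congrArg Subtype.val hc⟩
    · rw [Submodule.span_singleton_le_iff_mem]
      exact (bas i).2
  · rw [not_nonempty_iff] at hι
    have : Subsingleton J := bas.repr.toEquiv.subsingleton
    have hJ0 : J = ⊥ := by
      rw [eq_bot_iff]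
      intro x hx
      have : (⟨x, hx⟩ : J) = 0 := Subsingleton.elim _ _
      exact congrArg Subtype.val this
    rw [hJ0]
    exact bot_isPrincipal

theorem valuationRing_of_flat (h : ∀ J : Ideal B, J.FG → Module.Flat B J) :
    ∃ _ : IsDomain B, ValuationRing B := by
  have hd : IsDomain B := isDomain_of_flat h
  refine ⟨hd, ?_⟩
  rw [ValuationRing.iff_local_bezout_domain]
  refine ⟨inferInstance, ?_⟩
  rw [IsBezout.iff_span_pair_isPrincipal]
  intro x y
  exact isPrincipal_of_flat h _ (Submodule.fg_span (by simp))

end aux2

section aux3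

variable {A : Type u} [CommRing A]

/-- every f.g. ideal of a localization is the extension of a f.g. ideal -/
theorem exists_fg_map_eq (p : Ideal A) [p.IsPrime] (J : Ideal (Localization.AtPrime p)) (hJ : J.FG) :
    ∃ I : Ideal A, I.FG ∧ I.map (algebraMap A (Localization.AtPrime p)) = J := by
  induction J, hJ using Submodule.fg_induction with
  | singleton x =>
    obtain ⟨⟨a, s⟩, hx⟩ := IsLocalization.surj p.primeCompl x
    refine ⟨Ideal.span {a}, Submodule.fg_span (by simp), ?_⟩
    rw [Ideal.map_span, Set.image_singleton]
    have hu : IsUnit (algebraMap A (Localization.AtPrime p) s) :=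
      IsLocalization.map_units _ s
    simp only at hx
    rw [← hx]
    exact Ideal.span_singleton_mul_right_unit hu x
  | sup J₁ J₂ _ _ h₁ h₂ =>
    obtain ⟨I₁, hI₁, rfl⟩ := h₁
    obtain ⟨I₂, hI₂, rfl⟩ := h₂
    exact ⟨I₁ ⊔ I₂, Submodule.FG.sup hI₁ hI₂, Ideal.map_sup _ _ _⟩

theorem flat_map_of_flat (p : Ideal A) [p.IsPrime] (I : Ideal A) [Module.Flat A I] :
    Module.Flat (Localization.AtPrime p) (I.map (algebraMap A (Localization.AtPrime p))) := by
  rw [← Ideal.localized'_eq_map (Localization.AtPrime p) p.primeCompl I]
  exact Module.Flat.of_isLocalizedModule (Localization.AtPrime p) p.primeCompl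
    (Submodule.toLocalized' (Localization.AtPrime p) p.primeCompl
      (Algebra.linearMap A (Localization.AtPrime p)) I)

end aux3

/-- For a commutative ring A these are equivalent — all ideals are flat A-modules; all finitely
generated ideals are flat; flatness passes to submodules of flat modules; each localization at a
prime is a valuation ring (in particular a domain). Condition (1), weak dimension at most one, is
not stated. -/
theorem result (A : Type u) [CommRing A] :
    List.TFAE [∀ I : Ideal A, Module.Flat A I,
      ∀ I : Ideal A, I.FG → Module.Flat A I,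
      ∀ (M : Type u) [AddCommGroup M] [Module A M], Module.Flat A M → ∀ N : Submodule A M, Module.Flat A N,
      ∀ (p : Ideal A) [p.IsPrime], ∃ _ : IsDomain (Localization.AtPrime p), ValuationRing (Localization.AtPrime p)] := by
  tfae_have 1 → 2 := fun h I _ => h I
  tfae_have 2 → 4 := by
    intro h p hp
    apply valuationRing_of_flat
    intro J hJ
    obtain ⟨I, hI, rfl⟩ := exists_fg_map_eq p J hJ
    have := h I hI
    exact flat_map_of_flat p I
  tfae_have 4 → 3 := by
    intro h M _ _ hM N
    apply Module.flat_of_localized_maximal
    intro P hP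
    obtain ⟨hd, hv⟩ := h P
    rw [← Module.flat_iff_of_isLocalization (Localization.AtPrime P) P.primeCompl,
      Module.Flat.flat_iff_torsion_eq_bot_of_isBezout,
      ← Submodule.isTorsionFree_iff_torsion_eq_bot]
    have hMP : Module.IsTorsionFree (Localization.AtPrime P) (LocalizedModule P.primeCompl M) := by
      rw [Submodule.isTorsionFree_iff_torsion_eq_bot]
      exact Module.Flat.torsion_eq_bot
    let φ := IsLocalizedModule.map P.primeCompl (LocalizedModule.mkLinearMap P.primeCompl N)
      (LocalizedModule.mkLinearMap P.primeCompl M) N.subtype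
    have hφ : Function.Injective φ :=
      IsLocalizedModule.map_injective _ _ _ _ N.injective_subtype
    let ψ := LinearMap.extendScalarsOfIsLocalization P.primeCompl (Localization.AtPrime P) φ
    exact Function.Injective.moduleIsTorsionFree ψ hφ (fun r m => map_smul ψ r m)
  tfae_have 3 → 1 := fun h I => h A inferInstance I
  tfae_finish


end Groth.Agent.S1969
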