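import Groth.Statements.S1868
import Mathlib
import Groth.Agent.Lib.R2H3RamLoc

set_option linter.style.haveILetI false
set_option linter.unusedVariables false

set_option autoImplicit false
universe u
open CategoryTheory AlgebraicGeometry
open Cyc

namespace Groth.Agent.S1868

open Groth.Agent.Lib.R2H3.RamLoc

section pt
variable {X Y : Scheme.{u}} (f : X ⟶ Y) {V : Y.Opens} (hV : IsAffineOpen V)
  (hU : IsAffineOpen (f ⁻¹ᵁ V))

theorem under_primeIdealOf (x : X) (hx : f x ∈ V) :
    letI := (f.app V).hom.toAlgebra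
    (hU.primeIdealOf ⟨x, hx⟩).asIdeal.under Γ(Y, V) = (hV.primeIdealOf ⟨f x, hx⟩).asIdeal := by
  letI := (f.app V).hom.toAlgebra
  have h := IsAffineOpen.comap_primeIdealOf_appLE V hV (f ⁻¹ᵁ V) hU le_rfl hx
  rw [f.appLE_eq_app] at h
  exact congrArg PrimeSpectrum.asIdeal h

include hV in
theorem point_data (x : X) (hx : f x ∈ V) :
    letI := (f.app V).hom.toAlgebra
    (Module.length (X.presheaf.stalk x) (X.presheaf.stalk x ⧸ Ideal.map (f.stalkMap x).hom
        (IsLocalRing.maximalIdeal (Y.presheaf.stalk (f x))))).toNat =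
      (hU.primeIdealOf ⟨x, hx⟩).asIdeal.ramificationIdx Γ(Y, V) ∧
    f.residueDegree x = (hU.primeIdealOf ⟨x, hx⟩).asIdeal.inertiaDeg Γ(Y, V) := by
  letI := (f.app V).hom.toAlgebra
  set q := (hU.primeIdealOf ⟨x, hx⟩).asIdeal with hq
  set p := (hV.primeIdealOf ⟨f x, hx⟩).asIdeal with hp
  haveI : q.LiesOver p := ⟨(under_primeIdealOf f hV hU x hx).symm⟩
  letI a1 : Algebra Γ(Y, V) (Y.presheaf.stalk (f x)) :=
    TopCat.Presheaf.algebra_section_stalk Y.presheaf (U := V) ⟨f x, hx⟩
  letI a2 : Algebra Γ(X, f ⁻¹ᵁ V) (X.presheaf.stalk x) :=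
    TopCat.Presheaf.algebra_section_stalk X.presheaf (U := f ⁻¹ᵁ V) ⟨x, hx⟩
  haveI : IsLocalization.AtPrime (Y.presheaf.stalk (f x)) p := hV.isLocalization_stalk ⟨f x, hx⟩
  haveI : IsLocalization.AtPrime (X.presheaf.stalk x) q := hU.isLocalization_stalk ⟨x, hx⟩
  have hψ : (f.stalkMap x).hom.comp (algebraMap Γ(Y, V) (Y.presheaf.stalk (f x))) =
      (algebraMap Γ(X, f ⁻¹ᵁ V) (X.presheaf.stalk x)).comp
        (algebraMap Γ(Y, V) Γ(X, f ⁻¹ᵁ V)) := by
    have := f.germ_stalkMap V x hx
    exact congrArg CommRingCat.Hom.hom this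
  refine ⟨toNat_length_eq_ramificationIdx p q _ _ (f.stalkMap x).hom hψ, ?_⟩
  exact finrank_residueField_eq_inertiaDeg p q _ _ (f.stalkMap x).hom hψ

end pt

/-- Let f : X → Y be finite locally free of constant degree d (finite, flat, rank function constantly
d). Then f has relative dimension 0 and for every k-cycle α on Y, f_*(f^*α) = d·α (for any cycle
f^*α on X with the flat-pullback coefficients). Here a pair (X, δ) with Cyc.IsSetup plays the role
of a scheme locally of finite type over a fixed base with a dimension function (X locally Noetherian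
with universally catenary local rings, δ a dimension function), and Cyc.DeltaCompat records that the
dimension function upstairs is the induced one. -/
theorem result (X Y : Scheme.{u}) (δX : X → ℤ) (δY : Y → ℤ) (hX : Cyc.IsSetup X δX) (hY : Cyc.IsSetup Y δY) (f : X ⟶ Y) [IsFinite f] [Flat f] (d : ℕ) (hd : ∀ y : Y, f.finrank y = d) (hδ : Cyc.DeltaCompat f δX δY) (k : ℤ) : Cyc.HasRelDim f 0 ∧ ∀ (α : AlgebraicCycle Y ℤ), α ∈ Cyc.Zk Y δY k → ∀ α' : AlgebraicCycle X ℤ, ⇑α' = Cyc.pullFun f δX δY 0 ⇑α → AlgebraicCycle.map f δX δY α' = d • α := by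
  classical
  refine ⟨?_, ?_⟩
  · -- relative dimension zero
    intro y T hT
    haveI : DiscreteTopology ↥(f.fiber y) := inferInstance
    have h1 : topologicalKrullDim ↥T ≤ 0 := topologicalKrullDim_zero_of_discreteTopology ↥T
    have hne : T.Nonempty := by
      have hirr : IsIrreducible T := hT.1
      exact hirr.nonempty
    haveI : Nonempty ↥T := hne.to_subtype
    haveI : Nonempty (TopologicalSpace.IrreducibleCloseds ↥T) := by
      obtain ⟨t⟩ := ‹Nonempty ↥T›
      exact ⟨⟨closure {t}, isIrreducible_singleton.closure, isClosed_closure⟩⟩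
    have h2 : (0 : WithBot ℕ∞) ≤ topologicalKrullDim ↥T := by
      unfold topologicalKrullDim
      exact Order.krullDim_nonneg
    exact le_antisymm h1 h2
  · intro α hα α' hα'
    ext y
    obtain ⟨_, ⟨V, hV, rfl⟩, hyV, -⟩ := Y.isBasis_affineOpens.exists_subset_of_mem_open
      (Set.mem_univ y) isOpen_univ
    replace hV : IsAffineOpen V := hV
    have hU : IsAffineOpen (f ⁻¹ᵁ V) := hV.preimage f
    letI alg : Algebra Γ(Y, V) Γ(X, f ⁻¹ᵁ V) := (f.app V).hom.toAlgebra
    have hfin' : (f.app V).hom.Finite := f.finite_app V hV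
    have hflat' : (f.app V).hom.Flat := by
      have := f.flat_appLE hV hU le_rfl
      rwa [f.appLE_eq_app] at this
    haveI hfin : Module.Finite Γ(Y, V) Γ(X, f ⁻¹ᵁ V) := hfin'
    haveI hflat : Module.Flat Γ(Y, V) Γ(X, f ⁻¹ᵁ V) := hflat'
    set P := hV.primeIdealOf ⟨y, hyV⟩ with hP
    have hPy : hV.fromSpec P = y := hV.fromSpec_primeIdealOf ⟨y, hyV⟩
    -- the rank
    have hrank : Module.rankAtStalk Γ(X, f ⁻¹ᵁ V) P = d := by
      rw [← hd y]
      have hpb : IsPullback hU.fromSpec (Spec.map (f.app V)) f hV.fromSpec := by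
        refine (IsOpenImmersion.isPullback (Spec.map (f.app V)) hU.fromSpec hV.fromSpec f ?_ ?_).flip
        · rw [f.app_eq_appLE]
          exact (IsAffineOpen.SpecMap_appLE_fromSpec f hV hU le_rfl).symm
        · rw [hV.opensRange_fromSpec, hU.opensRange_fromSpec]
      have h1 := Scheme.Hom.finrank_of_isPullback _ _ _ _ hpb P
      rw [hPy] at h1
      rw [← h1, Scheme.Hom.finrank_SpecMap_eq_finrank hfin' hflat']
      exact (congrFun (RingHom.finrank_algebraMap (R := Γ(Y, V)) (S := Γ(X, f ⁻¹ᵁ V))) P).symm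
    -- sum of e f
    haveI : Algebra.QuasiFinite Γ(Y, V) Γ(X, f ⁻¹ᵁ V) := inferInstance
    letI : Fintype (P.asIdeal.primesOver Γ(X, f ⁻¹ᵁ V)) :=
      (Algebra.QuasiFinite.finite_primesOver P.asIdeal).fintype
    have hsum := Ideal.sum_ramification_inertia_eq_finrank_fiber P.asIdeal Γ(X, f ⁻¹ᵁ V)
    rw [Ideal.finrank_fiber_eq_rankAtStalk] at hsum
    have hsum' : ∑ Q : P.asIdeal.primesOver Γ(X, f ⁻¹ᵁ V),
        Q.1.ramificationIdx Γ(Y, V) * Q.1.inertiaDeg Γ(Y, V) = d := hsum.trans hrank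
    -- the points of the fibre
    have hxV : ∀ x : X, f x = y → f x ∈ V := fun x hx => hx ▸ hyV
    have hover : ∀ (x : X) (hx : f x = y),
        (hU.primeIdealOf ⟨x, hxV x hx⟩).asIdeal ∈ P.asIdeal.primesOver Γ(X, f ⁻¹ᵁ V) := by
      intro x hx
      refine ⟨(hU.primeIdealOf ⟨x, hxV x hx⟩).isPrime, ⟨?_⟩⟩
      rw [under_primeIdealOf f hV hU x (hxV x hx)]
      subst hx
      rfl
    -- the coefficient at a point of the fibre
    have hcoef : ∀ (x : X) (hx : f x = y),
        α' x * ((AlgebraicCycle.mapCoeff f δX δY x : ℕ) : ℤ) =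
          α y * (((hU.primeIdealOf ⟨x, hxV x hx⟩).asIdeal.ramificationIdx Γ(Y, V) *
            (hU.primeIdealOf ⟨x, hxV x hx⟩).asIdeal.inertiaDeg Γ(Y, V) : ℕ) : ℤ) := by
      intro x hx
      obtain ⟨h1, h2⟩ := point_data f hV hU x (hxV x hx)
      haveI : (hU.primeIdealOf ⟨x, hxV x hx⟩).asIdeal.IsPrime :=
        (hU.primeIdealOf ⟨x, hxV x hx⟩).isPrime
      have hpos : 0 < f.residueDegree x := by
        rw [h2]
        exact Ideal.inertiaDeg_pos _ _
      -- δX x = δY (f x)
      have hδx : δX x = δY (f x) := by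
        obtain ⟨n, hn1, hn2⟩ := hδ x
        letI := (f.residueFieldMap x).hom.toAlgebra
        have hfd : Module.Finite (Y.residueField (f x)) (X.residueField x) :=
          Module.finite_of_finrank_pos hpos
        have halg : Algebra.IsAlgebraic (Y.residueField (f x)) (X.residueField x) :=
          Algebra.IsAlgebraic.of_finite _ _
        have h0 : Algebra.trdeg (Y.residueField (f x)) (X.residueField x) = 0 :=
          _root_.trdeg_eq_zero
        rw [h0] at hn1
        have : n = 0 := by exact_mod_cast hn1.symm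
        rw [hn2, this]
        simp
      rw [hα']
      unfold Cyc.pullFun AlgebraicCycle.mapCoeff
      rw [if_pos (by rw [hδx]; simp), if_pos hδx, h1, h2, hx]
      push_cast
      ring
    -- compute
    rw [AlgebraicCycle.map, Function.locallyFinsupp.map_apply]
    rw [Function.locallyFinsuppWithin.coe_nsmul, Pi.smul_apply, nsmul_eq_mul]
    -- reindex the finsum over the fibre by the primes over `P`
    let e : P.asIdeal.primesOver Γ(X, f ⁻¹ᵁ V) → ↥(f ⁻¹' {y}) := fun Q =>
      ⟨hU.fromSpec ⟨Q.1, Q.2.1⟩, by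
        show f (hU.fromSpec ⟨Q.1, Q.2.1⟩) = y
        have hc := IsAffineOpen.SpecMap_appLE_fromSpec f hV hU le_rfl
        rw [f.appLE_eq_app] at hc
        rw [← Scheme.Hom.comp_apply, ← hc, Scheme.Hom.comp_apply]
        have hQ : (Spec.map (f.app V)) ⟨Q.1, Q.2.1⟩ = P := by
          apply PrimeSpectrum.ext
          have := Q.2.2.over
          exact this.symm
        rw [hQ, hPy]⟩
    have he_inj : Function.Injective e := by
      intro Q Q' h
      have h0 : (e Q).1 = (e Q').1 := congrArg Subtype.val h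
      have h1 : hU.fromSpec ⟨Q.1, Q.2.1⟩ = hU.fromSpec ⟨Q'.1, Q'.2.1⟩ := h0
      have h2 := hU.fromSpec.isOpenEmbedding.injective h1
      exact Subtype.ext (congrArg PrimeSpectrum.asIdeal h2)
    have he_val : ∀ Q : P.asIdeal.primesOver Γ(X, f ⁻¹ᵁ V),
        hU.primeIdealOf ⟨(e Q).1, hxV _ (e Q).2⟩ = ⟨Q.1, Q.2.1⟩ := by
      intro Q
      apply hU.fromSpec.isOpenEmbedding.injective
      rw [hU.fromSpec_primeIdealOf]
    have he_surj : Function.Surjective e := by
      rintro ⟨x, hx⟩
      refine ⟨⟨_, hover x hx⟩, ?_⟩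
      apply Subtype.ext
      exact hU.fromSpec_primeIdealOf ⟨x, hxV x hx⟩
    rw [← finsum_set_coe_eq_finsum_mem (f ⁻¹' {y})]
    rw [← finsum_eq_of_bijective e ⟨he_inj, he_surj⟩ (f := fun Q : P.asIdeal.primesOver Γ(X, f ⁻¹ᵁ V) =>
      α y * ((Q.1.ramificationIdx Γ(Y, V) * Q.1.inertiaDeg Γ(Y, V) : ℕ) : ℤ))]
    · rw [finsum_eq_sum_of_fintype, ← Finset.mul_sum, ← Nat.cast_sum, hsum']
      ring
    · intro Q
      rw [hcoef (e Q).1 (e Q).2]
      have := he_val Q
      simp only [this]

end Groth.Agent.S1868
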