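import Groth.Statements.S5090
import Mathlib
import Groth.Agent.Lib.Helper8LocFact

set_option autoImplicit false
universe u
open CategoryTheory CategoryTheory.Limits AlgebraicGeometry TopologicalSpace
open Div21

namespace Groth.Agent.S5090

/-- Equivalence of conditions a'') and c): let X be a locally Noetherian scheme which is reduced at each
of its isolated points (for every point x such that {x} is open, the local ring O_{X,x} is reduced).
Then the following are equivalent. (a'') Every integral closed subscheme of X of codimension 1 is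
regularly immersed in X: for every point ζ whose local ring has dimension 1 and every specialization
x of ζ, the ideal of O_{X,x} defining the closure of ζ with its reduced structure (the preimage of
the maximal ideal of O_{X,ζ} under the specialization map) is generated by one non-zero-divisor of
O_{X,x}. (c) X is locally factorial: every local ring of X is a unique factorisation domain. -/
theorem result (X : Scheme.{u}) [IsLocallyNoetherian X]
    (hred : ∀ x : ↥X, IsOpen ({x} : Set ↥X) → IsReduced ↑(X.presheaf.stalk x)) :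
    (∀ ζ : ↥X, ringKrullDim ↑(X.presheaf.stalk ζ) = 1 → ∀ (x : ↥X) (h : ζ ⤳ x),
        ∃ t : ↑(X.presheaf.stalk x), t ∈ nonZeroDivisors ↑(X.presheaf.stalk x) ∧
          (IsLocalRing.maximalIdeal ↑(X.presheaf.stalk ζ)).comap (X.presheaf.stalkSpecializes h).hom =
            Ideal.span {t}) ↔
      ∀ x : ↥X, ∃ _ : IsDomain ↑(X.presheaf.stalk x), UniqueFactorizationMonoid ↑(X.presheaf.stalk x) := by
  classical
  constructor
  · -- (a'') ⇒ (c)
    intro ha
    -- principal generation of height one primes at every point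
    have hprin : ∀ (x : ↥X) (𝔮 : Ideal ↑(X.presheaf.stalk x)) [𝔮.IsPrime], 𝔮.height = 1 →
        ∃ t : ↑(X.presheaf.stalk x), t ∈ nonZeroDivisors ↑(X.presheaf.stalk x) ∧
          𝔮 = Ideal.span {t} := by
      intro x 𝔮 h𝔮 hht
      set 𝔮' : Spec (X.presheaf.stalk x) := ⟨𝔮, h𝔮⟩ with h𝔮'
      have hsp := Groth.Agent.Lib.Helper4.Pur21.fromSpecStalk_specializes X x 𝔮'
      have hcomap := Groth.Agent.Lib.Helper4.Pur21.comap_stalkSpecializes_maximalIdeal X x 𝔮' hsp
      have hdim1 : ringKrullDim ↑(X.presheaf.stalk (X.fromSpecStalk x 𝔮')) = 1 := by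
        rw [Groth.Agent.Lib.Helper8.LocFact.ringKrullDim_stalk_eq_height_comap X hsp, hcomap]
        change ((𝔮.height : ℕ∞) : WithBot ℕ∞) = 1
        rw [hht]
        rfl
      obtain ⟨t, ht, heq⟩ := ha _ hdim1 x hsp
      rw [hcomap] at heq
      exact ⟨t, ht, heq⟩
    have hufd : ∀ x : ↥X, ∀ [IsDomain ↑(X.presheaf.stalk x)],
        UniqueFactorizationMonoid ↑(X.presheaf.stalk x) := by
      intro x _
      apply UniqueFactorizationMonoid.of_forall_isPrincipal_of_height_eq_one
      intro 𝔮 h𝔮 hht
      obtain ⟨t, -, heq⟩ := hprin x 𝔮 hht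
      exact ⟨⟨t, heq⟩⟩
    have hdomA : ∀ x : ↥X, ringKrullDim ↑(X.presheaf.stalk x) ≠ 0 →
        IsDomain ↑(X.presheaf.stalk x) := by
      intro x hdim
      obtain ⟨𝔮, h𝔮, hht⟩ := Groth.Agent.Lib.Helper8.LocFact.exists_isPrime_height_eq_one hdim
      obtain ⟨t, ht, heq⟩ := hprin x 𝔮 hht
      exact Groth.Agent.Lib.Helper8.LocFact.isDomain_of_isPrime_span_singleton t ht (heq ▸ h𝔮)
    have hdom : ∀ x : ↥X, IsDomain ↑(X.presheaf.stalk x) := by
      intro x
      by_cases hdim : ringKrullDim ↑(X.presheaf.stalk x) = 0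
      · by_cases hopen : IsOpen ({x} : Set ↥X)
        · haveI := hred x hopen
          haveI : Ring.KrullDimLE 0 ↑(X.presheaf.stalk x) :=
            Ring.krullDimLE_iff.mpr (by rw [hdim]; rfl)
          have hm : IsLocalRing.maximalIdeal ↑(X.presheaf.stalk x) = ⊥ := by
            rw [← Ring.KrullDimLE.nilradical_eq_maximalIdeal, nilradical_eq_zero]
            rfl
          exact (IsLocalRing.isField_iff_maximalIdeal_eq.mpr hm).isDomain
        · obtain ⟨y, hxy, hne⟩ :=
            Groth.Agent.Lib.Helper8.LocFact.exists_specializes_ne X x hdim hopen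
          haveI := hdomA y
            (Groth.Agent.Lib.Helper8.LocFact.ringKrullDim_stalk_ne_zero_of_specializes_ne X hxy hne)
          exact Groth.Agent.Lib.Helper8.LocFact.isDomain_stalk_of_specializes X hxy
      · exact hdomA x hdim
    intro x
    haveI := hdom x
    exact ⟨inferInstance, hufd x⟩
  · -- (c) ⇒ (a'')
    intro hc ζ hζ x h
    obtain ⟨hdom, hufd⟩ := hc x
    haveI h𝔭 : ((IsLocalRing.maximalIdeal ↑(X.presheaf.stalk ζ)).comap
        (X.presheaf.stalkSpecializes h).hom).IsPrime := Ideal.comap_isPrime _ _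
    have hht : ((IsLocalRing.maximalIdeal ↑(X.presheaf.stalk ζ)).comap
        (X.presheaf.stalkSpecializes h).hom).height = 1 := by
      have h1 := Groth.Agent.Lib.Helper8.LocFact.ringKrullDim_stalk_eq_height_comap X h
      rw [hζ] at h1
      exact_mod_cast h1.symm
    obtain ⟨t, ht⟩ := (UniqueFactorizationMonoid.isPrincipal_of_height_eq_one hht).principal
    refine ⟨t, ?_, ht⟩
    apply mem_nonZeroDivisors_of_ne_zero
    rintro rfl
    apply Ideal.ne_bot_of_height_eq_one hht
    rw [ht]
    simp

end Groth.Agent.S5090
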