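import Groth.Statements.S19185
import Mathlib
import Groth.Agent.Lib.R2LeadJacHyp

set_option autoImplicit false
universe u
open Curves

namespace Groth.Agent.S19185

section Helpers


open TensorProduct KaehlerDifferential

variable {k : Type u} [Field k]

/-- the hypersurface ring -/
abbrev HS (g : MvPolynomial (Fin 2) k) : Type u := MvPolynomial (Fin 2) k ⧸ Ideal.span {g}

/-- vanishing of `1 ⊗ D g` in terms of partial derivatives -/
lemma tmul_D_eq_zero_iff (g : MvPolynomial (Fin 2) k) (κ : Type u) [Field κ]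
    [Algebra (MvPolynomial (Fin 2) k) κ] :
    ((1 : κ) ⊗ₜ[MvPolynomial (Fin 2) k] D k (MvPolynomial (Fin 2) k) g = 0) ↔
      ∀ i, algebraMap (MvPolynomial (Fin 2) k) κ (MvPolynomial.pderiv i g) = 0 := by
  let b := (mvPolynomialBasis k (Fin 2)).baseChange κ
  constructor
  · intro h i
    have := congrArg (fun z => b.repr z i) h
    simp only [b, Module.Basis.baseChange_repr_tmul, mvPolynomialBasis_repr_apply, map_zero,
      Finsupp.coe_zero, Pi.zero_apply] at this
    rw [Algebra.smul_def, mul_one] at this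
    exact this
  · intro h
    apply b.repr.injective
    ext i
    simp only [b, Module.Basis.baseChange_repr_tmul, mvPolynomialBasis_repr_apply, map_zero,
      Finsupp.coe_zero, Pi.zero_apply]
    rw [Algebra.smul_def, mul_one]
    exact h i

/-- Jacobian criterion for plane curves, in terms of field-valued points. -/
theorem smooth_iff (g : MvPolynomial (Fin 2) k) (hg : g ≠ 0) :
    Algebra.Smooth k (HS g) ↔
      ∀ (K : Type u) [Field K] [Algebra k K] (φ : MvPolynomial (Fin 2) k →ₐ[k] K), φ g = 0 →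
        ∃ i, φ (MvPolynomial.pderiv i g) ≠ 0 := by
  have hreg : IsSMulRegular (MvPolynomial (Fin 2) k) g := by
    intro a b hab
    exact mul_left_cancel₀ hg hab
  have hsurj : Function.Surjective (algebraMap (MvPolynomial (Fin 2) k) (HS g)) :=
    Ideal.Quotient.mk_surjective
  have hker : RingHom.ker (algebraMap (MvPolynomial (Fin 2) k) (HS g)) = Ideal.span {g} :=
    Ideal.mk_ker
  have hfp : Algebra.FinitePresentation k (HS g) :=
    Algebra.FinitePresentation.quotient ⟨{g}, by simp⟩
  have hsmB : Algebra.Smooth k (MvPolynomial (Fin 2) k) := ⟨inferInstance, inferInstance⟩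
  constructor
  · intro hsm K _ _ φ hφ
    by_contra hcon
    push Not at hcon
    let φ' : HS g →ₐ[k] K := Ideal.Quotient.liftₐ (Ideal.span {g}) φ (by
      intro a ha
      rw [Ideal.mem_span_singleton] at ha
      obtain ⟨c, rfl⟩ := ha
      rw [map_mul, hφ, zero_mul])
    let P : PrimeSpectrum (HS g) := ⟨RingHom.ker φ'.toRingHom, RingHom.ker_isPrime _⟩
    haveI : P.asIdeal.IsPrime := P.isPrime
    have hP : P ∈ Algebra.smoothLocus k (HS g) := by
      rw [Algebra.smoothLocus_eq_univ]
      exact Set.mem_univ _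
    rw [Groth.Agent.Lib.R2Lead.JacHyp.mem_smoothLocus_iff k (MvPolynomial (Fin 2) k) (HS g) g hreg
      hsurj hker P] at hP
    apply hP
    rw [tmul_D_eq_zero_iff]
    intro i
    rw [IsScalarTower.algebraMap_apply (MvPolynomial (Fin 2) k) (HS g) P.asIdeal.ResidueField]
    rw [Ideal.algebraMap_residueField_eq_zero]
    change _ ∈ RingHom.ker φ'.toRingHom
    rw [RingHom.mem_ker]
    exact hcon i
  · intro h
    refine ⟨?_, hfp⟩
    rw [← Algebra.smoothLocus_eq_univ_iff]
    ext P
    simp only [Set.mem_univ, iff_true]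
    rw [Groth.Agent.Lib.R2Lead.JacHyp.mem_smoothLocus_iff k (MvPolynomial (Fin 2) k) (HS g) g hreg
      hsurj hker P]
    intro h0
    rw [tmul_D_eq_zero_iff] at h0
    obtain ⟨i, hi⟩ := h P.asIdeal.ResidueField
      (IsScalarTower.toAlgHom k (MvPolynomial (Fin 2) k) P.asIdeal.ResidueField) (by
        change algebraMap (MvPolynomial (Fin 2) k) P.asIdeal.ResidueField g = 0
        rw [IsScalarTower.algebraMap_apply (MvPolynomial (Fin 2) k) (HS g) P.asIdeal.ResidueField]
        have : algebraMap (MvPolynomial (Fin 2) k) (HS g) g = 0 := by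
          rw [← RingHom.mem_ker, hker]
          exact Ideal.subset_span rfl
        rw [this, map_zero])
    exact hi (h0 i)

/-- inclusion of polynomials in the first variable -/
noncomputable def inc : Polynomial k →ₐ[k] MvPolynomial (Fin 2) k :=
  Polynomial.aeval (MvPolynomial.X 0)

/-- the chart polynomial `a(t) + b(t) w` -/
noncomputable def chart (a b : Polynomial k) : MvPolynomial (Fin 2) k :=
  inc a + inc b * MvPolynomial.X 1

lemma pderiv_zero_inc (a : Polynomial k) :
    MvPolynomial.pderiv (0 : Fin 2) (inc a) = inc (Polynomial.derivative a) := by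
  induction a using Polynomial.induction_on' with
  | add p q hp hq => simp only [map_add, hp, hq]
  | monomial n c =>
    rw [← Polynomial.C_mul_X_pow_eq_monomial]
    simp only [inc, map_mul, Polynomial.aeval_C, map_pow, Polynomial.aeval_X,
      Polynomial.derivative_C_mul, Polynomial.derivative_X_pow, map_natCast,
      MvPolynomial.algebraMap_eq]
    rw [Derivation.leibniz, MvPolynomial.pderiv_C, smul_zero, add_zero, Derivation.leibniz_pow,
      MvPolynomial.pderiv_X_self]
    simp only [smul_eq_mul, nsmul_eq_mul, mul_one]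

lemma pderiv_one_inc (a : Polynomial k) :
    MvPolynomial.pderiv (1 : Fin 2) (inc a) = 0 := by
  induction a using Polynomial.induction_on' with
  | add p q hp hq => simp only [map_add, hp, hq, add_zero]
  | monomial n c =>
    rw [← Polynomial.C_mul_X_pow_eq_monomial]
    simp only [inc, map_mul, Polynomial.aeval_C, map_pow, Polynomial.aeval_X,
      MvPolynomial.algebraMap_eq]
    rw [Derivation.leibniz, MvPolynomial.pderiv_C, smul_zero, add_zero, Derivation.leibniz_pow,
      MvPolynomial.pderiv_X_of_ne (by decide)]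
    simp

lemma pderiv_zero_chart (a b : Polynomial k) :
    MvPolynomial.pderiv (0 : Fin 2) (chart a b) =
      chart (Polynomial.derivative a) (Polynomial.derivative b) := by
  unfold chart
  rw [map_add, Derivation.leibniz, pderiv_zero_inc, pderiv_zero_inc,
    MvPolynomial.pderiv_X_of_ne (by decide)]
  simp only [smul_eq_mul]
  ring

lemma pderiv_one_chart (a b : Polynomial k) :
    MvPolynomial.pderiv (1 : Fin 2) (chart a b) = inc b := by
  unfold chart
  rw [map_add, Derivation.leibniz, pderiv_one_inc, pderiv_one_inc, MvPolynomial.pderiv_X_self]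
  simp

lemma eval_inc {K : Type u} [Field K] [Algebra k K] (φ : MvPolynomial (Fin 2) k →ₐ[k] K)
    (a : Polynomial k) : φ (inc a) = Polynomial.aeval (φ (MvPolynomial.X 0)) a := by
  have : φ.comp inc = Polynomial.aeval (φ (MvPolynomial.X 0)) := by
    apply Polynomial.algHom_ext
    simp [inc]
  exact congrArg (fun ψ => ψ a) this

lemma eval_chart {K : Type u} [Field K] [Algebra k K] (φ : MvPolynomial (Fin 2) k →ₐ[k] K)
    (a b : Polynomial k) :
    φ (chart a b) = Polynomial.aeval (φ (MvPolynomial.X 0)) a +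
      Polynomial.aeval (φ (MvPolynomial.X 0)) b * φ (MvPolynomial.X 1) := by
  unfold chart
  rw [map_add, map_mul, eval_inc, eval_inc]

lemma inc_injective : Function.Injective (inc (k := k)) := by
  intro a b hab
  have h : ((MvPolynomial.aeval ![Polynomial.X, 0] : MvPolynomial (Fin 2) k →ₐ[k] Polynomial k).comp
      inc) = AlgHom.id k (Polynomial k) := by
    apply Polynomial.algHom_ext
    simp [inc]
  have := congrArg (MvPolynomial.aeval ![Polynomial.X, 0] :
    MvPolynomial (Fin 2) k →ₐ[k] Polynomial k) hab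
  have h1 := congrArg (fun ψ => ψ a) h
  have h2 := congrArg (fun ψ => ψ b) h
  simp only [AlgHom.comp_apply, AlgHom.id_apply] at h1 h2
  rw [← h1, ← h2]
  exact this

lemma chart_ne_zero (a b : Polynomial k) (hab : a ≠ 0 ∨ b ≠ 0) : chart a b ≠ 0 := by
  intro h
  have h1 := congrArg (MvPolynomial.pderiv (1 : Fin 2)) h
  rw [pderiv_one_chart, map_zero] at h1
  have hb : b = 0 := inc_injective (by rw [h1, map_zero])
  rw [hb] at h
  unfold chart at h
  rw [map_zero, zero_mul, add_zero] at h
  have ha : a = 0 := inc_injective (by rw [h, map_zero])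
  rcases hab with h' | h'
  · exact h' ha
  · exact h' hb

/-- a singular point of the chart `a + b w` -/
lemma not_smooth_of_point (a b : Polynomial k) (hab : a ≠ 0 ∨ b ≠ 0) (K : Type u) [Field K]
    [Algebra k K] (θ ω : K) (ha : Polynomial.aeval θ a = 0) (hb : Polynomial.aeval θ b = 0)
    (hd : Polynomial.aeval θ (Polynomial.derivative a) +
      Polynomial.aeval θ (Polynomial.derivative b) * ω = 0) :
    ¬ Algebra.Smooth k (HS (chart a b)) := by
  intro hsm
  rw [smooth_iff _ (chart_ne_zero a b hab)] at hsm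
  let φ : MvPolynomial (Fin 2) k →ₐ[k] K := MvPolynomial.aeval ![θ, ω]
  have h0 : φ (MvPolynomial.X 0) = θ := by simp [φ]
  have h1 : φ (MvPolynomial.X 1) = ω := by simp [φ]
  obtain ⟨i, hi⟩ := hsm K φ (by rw [eval_chart, h0, h1, ha, hb, zero_mul, add_zero])
  fin_cases i
  · apply hi
    change φ (MvPolynomial.pderiv (0 : Fin 2) (chart a b)) = 0
    rw [pderiv_zero_chart, eval_chart, h0, h1, hd]
  · apply hi
    change φ (MvPolynomial.pderiv (1 : Fin 2) (chart a b)) = 0
    rw [pderiv_one_chart, eval_inc, h0, hb]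

lemma smooth_chart_of_isCoprime (a b : Polynomial k) (hab : a ≠ 0 ∨ b ≠ 0) (h : IsCoprime a b) :
    Algebra.Smooth k (HS (chart a b)) := by
  rw [smooth_iff _ (chart_ne_zero a b hab)]
  intro K _ _ φ hφ
  by_contra hcon
  push Not at hcon
  have h1 := hcon 1
  rw [pderiv_one_chart, eval_inc] at h1
  rw [eval_chart, h1, zero_mul, add_zero] at hφ
  obtain ⟨u, v, huv⟩ := h
  have := congrArg (Polynomial.aeval (φ (MvPolynomial.X 0))) huv
  rw [map_add, map_mul, map_mul, hφ, h1, mul_zero, mul_zero, add_zero, map_one] at this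
  exact zero_ne_one this

theorem charts_smooth_iff (a b : Polynomial k) (hab : a ≠ 0 ∨ b ≠ 0) :
    (Algebra.Smooth k (HS (chart a b)) ∧ Algebra.Smooth k (HS (chart b a))) ↔ IsCoprime a b := by
  classical
  constructor
  · rintro ⟨h1, h2⟩
    by_contra hcop
    rw [← EuclideanDomain.gcd_isUnit_iff] at hcop
    have hg0 : EuclideanDomain.gcd a b ≠ 0 := by
      intro h0
      rw [EuclideanDomain.gcd_eq_zero_iff] at h0
      rcases hab with h | h
      · exact h h0.1
      · exact h h0.2
    obtain ⟨d, hd, hdvd⟩ := WfDvdMonoid.exists_irreducible_factor hcop hg0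
    have hda : d ∣ a := hdvd.trans (EuclideanDomain.gcd_dvd_left a b)
    have hdb : d ∣ b := hdvd.trans (EuclideanDomain.gcd_dvd_right a b)
    haveI : Fact (Irreducible d) := ⟨hd⟩
    let K := AdjoinRoot d
    let θ : K := AdjoinRoot.root d
    have ha : Polynomial.aeval θ a = 0 := by
      rw [AdjoinRoot.aeval_eq, AdjoinRoot.mk_eq_zero]
      exact hda
    have hb : Polynomial.aeval θ b = 0 := by
      rw [AdjoinRoot.aeval_eq, AdjoinRoot.mk_eq_zero]
      exact hdb
    by_cases hb' : Polynomial.aeval θ (Polynomial.derivative b) = 0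
    · by_cases ha' : Polynomial.aeval θ (Polynomial.derivative a) = 0
      · exact not_smooth_of_point a b hab K θ 0 ha hb (by rw [ha', hb', zero_mul, add_zero]) h1
      · exact not_smooth_of_point b a hab.symm K θ 0 hb ha (by rw [hb', mul_zero, add_zero]) h2
    · refine not_smooth_of_point a b hab K θ
        (-(Polynomial.aeval θ (Polynomial.derivative a)) /
          Polynomial.aeval θ (Polynomial.derivative b)) ha hb ?_ h1
      rw [mul_comm, div_mul_cancel₀ _ hb', add_neg_cancel]
  · intro h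
    exact ⟨smooth_chart_of_isCoprime a b hab h, smooth_chart_of_isCoprime b a hab.symm h.symm⟩


section Res


open Polynomial


lemma natDegree_lt_of_coeff_eq_zero (f : k[X]) (m : ℕ) (hm : m ≠ 0) (hf : f.natDegree ≤ m)
    (h : f.coeff m = 0) : f.natDegree < m := by
  refine lt_of_le_of_ne hf (fun hfm => ?_)
  rw [← hfm, coeff_natDegree, leadingCoeff_eq_zero] at h
  rw [h, natDegree_zero] at hfm
  exact hm hfm.symm

lemma res_ne_zero_iff (f g : k[X]) (m n : ℕ) (hm : m ≠ 0) (hn : n ≠ 0) (hf : f.natDegree ≤ m)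
    (hg : g.natDegree ≤ n) :
    resultant f g m n ≠ 0 ↔ IsCoprime f g ∧ (f.coeff m ≠ 0 ∨ g.coeff n ≠ 0) := by
  constructor
  · intro hr
    constructor
    · obtain ⟨p, q, -, -, e⟩ := exists_mul_add_mul_eq_C_resultant f g hf hg (Or.inl hm)
      refine ⟨C (resultant f g m n)⁻¹ * p, C (resultant f g m n)⁻¹ * q, ?_⟩
      have : C (resultant f g m n)⁻¹ * p * f + C (resultant f g m n)⁻¹ * q * g =
          C (resultant f g m n)⁻¹ * (f * p + g * q) := by ring
      rw [this, e, ← C_mul, inv_mul_cancel₀ hr, C_1]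
    · by_contra hcon
      push Not at hcon
      exact hr (resultant_eq_zero_of_lt_lt f g m n
        (natDegree_lt_of_coeff_eq_zero f m hm hf hcon.1)
        (natDegree_lt_of_coeff_eq_zero g n hn hg hcon.2))
  · rintro ⟨hcop, h | h⟩
    · have hfm : f.natDegree = m := natDegree_eq_of_le_of_coeff_ne_zero hf h
      subst hfm
      obtain ⟨j, rfl⟩ := Nat.exists_eq_add_of_le hg
      rw [resultant_add_right_deg f g _ _ j le_rfl]
      exact mul_ne_zero (pow_ne_zero _ h) (resultant_ne_zero f g hcop)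
    · have hgn : g.natDegree = n := natDegree_eq_of_le_of_coeff_ne_zero hg h
      subst hgn
      obtain ⟨j, rfl⟩ := Nat.exists_eq_add_of_le hf
      rw [resultant_add_left_deg f g _ _ j le_rfl]
      exact mul_ne_zero (mul_ne_zero (pow_ne_zero _ (by simp)) (pow_ne_zero _ h))
        (resultant_ne_zero f g hcop)

lemma isCoprime_X_of_coeff_zero (p : k[X]) (h : p.coeff 0 ≠ 0) : IsCoprime X p := by
  rw [Irreducible.coprime_iff_not_dvd irreducible_X, X_dvd_iff]
  exact h

lemma reflect_coprime_aux (f g : k[X]) (m n : ℕ) (hf : f.natDegree ≤ m) (hg : g.natDegree ≤ n)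
    (h : IsCoprime f g) (hfm : f.coeff m ≠ 0) : IsCoprime (f.reflect m) (g.reflect n) := by
  obtain ⟨u, v, huv⟩ := h
  set M := max u.natDegree v.natDegree with hM
  have hu : u.natDegree ≤ M + n := le_trans (le_max_left _ _) (Nat.le_add_right _ _)
  have hv : v.natDegree ≤ M + m := le_trans (le_max_right _ _) (Nat.le_add_right _ _)
  have h1 : reflect (M + n + m) (u * f) = reflect (M + n) u * reflect m f := reflect_mul u f hu hf
  have h2 : reflect (M + m + n) (v * g) = reflect (M + m) v * reflect n g := reflect_mul v g hv hg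
  have h3 := congrArg (reflect (M + n + m)) huv
  rw [reflect_add, h1, show M + n + m = M + m + n by ring, h2, reflect_one] at h3
  have hc : IsCoprime (X ^ (M + m + n)) (f.reflect m) := by
    apply IsCoprime.pow_left
    apply isCoprime_X_of_coeff_zero
    rw [coeff_reflect, revAt_zero]
    exact hfm
  obtain ⟨s, t, hst⟩ := hc
  refine ⟨s * reflect (M + n) u + t, s * reflect (M + m) v, ?_⟩
  rw [← hst, ← h3]
  ring

lemma reflect_coprime_iff (f g : k[X]) (m n : ℕ) (hf : f.natDegree ≤ m) (hg : g.natDegree ≤ n)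
    (h : IsCoprime f g) :
    IsCoprime (f.reflect m) (g.reflect n) ↔ (f.coeff m ≠ 0 ∨ g.coeff n ≠ 0) := by
  constructor
  · intro hc
    by_contra hcon
    push Not at hcon
    have h1 : X ∣ f.reflect m := by
      rw [X_dvd_iff, coeff_reflect, revAt_zero]; exact hcon.1
    have h2 : X ∣ g.reflect n := by
      rw [X_dvd_iff, coeff_reflect, revAt_zero]; exact hcon.2
    exact not_isUnit_X (hc.isUnit_of_dvd' h1 h2)
  · rintro (h' | h')
    · exact reflect_coprime_aux f g m n hf hg h h'
    · exact (reflect_coprime_aux g f n m hg hf h.symm h').symm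

theorem res_ne_zero_iff' (f g : k[X]) (m n : ℕ) (hm : m ≠ 0) (hn : n ≠ 0) (hf : f.natDegree ≤ m)
    (hg : g.natDegree ≤ n) :
    resultant f g m n ≠ 0 ↔ IsCoprime f g ∧ IsCoprime (f.reflect m) (g.reflect n) := by
  rw [res_ne_zero_iff f g m n hm hn hf hg]
  constructor
  · rintro ⟨h1, h2⟩
    exact ⟨h1, (reflect_coprime_iff f g m n hf hg h1).2 h2⟩
  · rintro ⟨h1, h2⟩
    exact ⟨h1, (reflect_coprime_iff f g m n hf hg h1).1 h2⟩

/-- the polynomial of a coefficient vector -/
lemma natDegree_sum_le (N : ℕ) (c : Fin (N + 1) → k) :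
    (∑ i : Fin (N + 1), C (c i) * X ^ (i : ℕ)).natDegree ≤ N := by
  apply natDegree_sum_le_of_forall_le
  intro i _
  refine le_trans (natDegree_C_mul_X_pow_le _ _) ?_
  exact Nat.lt_succ_iff.mp i.2

lemma reflect_sum (N : ℕ) (c : Fin (N + 1) → k) :
    reflect N (∑ i : Fin (N + 1), C (c i) * X ^ (i : ℕ)) =
      ∑ i : Fin (N + 1), C (c i) * X ^ (N - (i : ℕ)) := by
  have : ∀ (s : Finset (Fin (N + 1))), reflect N (∑ i ∈ s, C (c i) * X ^ (i : ℕ)) =
      ∑ i ∈ s, C (c i) * X ^ (N - (i : ℕ)) := by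
    intro s
    classical
    induction s using Finset.induction_on with
    | empty => simp
    | insert a s has ih =>
      rw [Finset.sum_insert has, Finset.sum_insert has, reflect_add, ih, reflect_C_mul_X_pow,
        revAt_le (Nat.lt_succ_iff.mp a.2)]
  exact this Finset.univ

lemma sum_eq_zero_iff (N : ℕ) (c : Fin (N + 1) → k) :
    (∑ i : Fin (N + 1), C (c i) * X ^ (i : ℕ)) = 0 ↔ c = 0 := by
  constructor
  · intro h
    funext j
    have := congrArg (fun p => p.coeff (j : ℕ)) h
    simp only [finsetSum_coeff, coeff_C_mul, coeff_X_pow, coeff_zero] at this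
    rw [Finset.sum_eq_single j] at this
    · simpa using this
    · intro b _ hb
      rw [if_neg, mul_zero]
      intro hjb
      exact hb (Fin.ext hjb.symm)
    · intro hj
      exact absurd (Finset.mem_univ j) hj
  · intro h
    subst h
    simp


end Res

section Main

open Polynomial

lemma inc_sum (N : ℕ) (c : Fin (N + 1) → k) (e : Fin (N + 1) → ℕ) :
    (∑ i : Fin (N + 1), MvPolynomial.C (c i) * MvPolynomial.X (0 : Fin 2) ^ e i) =
      inc (∑ i : Fin (N + 1), C (c i) * X ^ e i) := by
  simp [inc, map_sum, MvPolynomial.algebraMap_eq]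

lemma smooth_congr (g g' : MvPolynomial (Fin 2) k) (h : g = g') :
    Algebra.Smooth k (HS g) ↔ Algebra.Smooth k (HS g') := by
  subst h
  exact Iff.rfl

theorem main (Q Ξ : k[X]) (n : ℕ) (hn : n ≠ 0) (hQ : Q.natDegree ≤ 2) (hΞ : Ξ.natDegree ≤ n)
    (h0 : Q ≠ 0 ∨ Ξ ≠ 0) :
    (Algebra.Smooth k (HS (chart Q Ξ)) ∧
      Algebra.Smooth k (HS (chart Ξ Q)) ∧
      Algebra.Smooth k (HS (chart (reflect 2 Q) (reflect n Ξ))) ∧
      Algebra.Smooth k (HS (chart (reflect n Ξ) (reflect 2 Q)))) ↔
    resultant Q Ξ 2 n ≠ 0 := by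
  have h0' : reflect 2 Q ≠ 0 ∨ reflect n Ξ ≠ 0 := by
    rcases h0 with h | h
    · exact Or.inl (fun h' => h (reflect_eq_zero_iff.mp h'))
    · exact Or.inr (fun h' => h (reflect_eq_zero_iff.mp h'))
  have c1 := charts_smooth_iff Q Ξ h0
  have c2 := charts_smooth_iff (reflect 2 Q) (reflect n Ξ) h0'
  rw [res_ne_zero_iff' Q Ξ 2 n (by norm_num) hn hQ hΞ, ← c1, ← c2]
  constructor
  · rintro ⟨a, b, c, d⟩
    exact ⟨⟨a, b⟩, ⟨c, d⟩⟩
  · rintro ⟨⟨a, b⟩, ⟨c, d⟩⟩
    exact ⟨a, b, c, d⟩

end Main

end Helpers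

/-- Let k be a field, n ≥ 3, q a binary quadratic form and ξ a binary form of degree n over k, given by
coefficient vectors (q_i the coefficient of x^i y^(2−i), ξ_j that of x^j y^(n−j)), not both zero.
The pair (q, ξ) is a global section of O(2) ⊕ O(n) on P¹_k, i.e. of the line bundle of class e + nf
on the Hirzebruch surface F_{n−2} = P(O ⊕ O(n−2)) → P¹_k, and cuts out the curve W : q·u + ξ·v = 0
there ([u : v] the fibre coordinates). Over the two standard opens of P¹ (t = x/y, s = y/x) and the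
two opens u ≠ 0, v ≠ 0 of the fibres, W is covered by four affine charts with coordinate rings k[t,
w]/(q(t,1) + ξ(t,1)·w), k[t, w]/(q(t,1)·w + ξ(t,1)), k[s, w]/(q(1,s) + ξ(1,s)·w) and k[s,
w]/(q(1,s)·w + ξ(1,s)) (variables indexed 0 for t or s and 1 for w). Then W is smooth over k — all
four chart algebras are smooth k-algebras — if and only if the resultant of q and ξ (the Sylvester
determinant of the two coefficient vectors with size parameters 2 and n) is nonzero. (The published
statement is over a general base scheme B, for a section (q, ξ) vanishing on no fibre, with 'the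
resultant is a unit on B' in place of 'nonzero'; its proof reduces at once to the statement over a
field given here, which is the case B = Spec k.) -/
theorem result (k : Type u) [Field k] (n : ℕ) (hn : 3 ≤ n)
    (q : Fin 3 → k) (ξ : Fin (n + 1) → k) (hqξ : q ≠ 0 ∨ ξ ≠ 0) :
    (Algebra.Smooth k (MvPolynomial (Fin 2) k ⧸ Ideal.span ({(∑ i : Fin 3, MvPolynomial.C (q i) * MvPolynomial.X 0 ^ (i : ℕ)) + (∑ j : Fin (n + 1), MvPolynomial.C (ξ j) * MvPolynomial.X 0 ^ (j : ℕ)) * MvPolynomial.X 1} : Set (MvPolynomial (Fin 2) k))) ∧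
      Algebra.Smooth k (MvPolynomial (Fin 2) k ⧸ Ideal.span ({(∑ i : Fin 3, MvPolynomial.C (q i) * MvPolynomial.X 0 ^ (i : ℕ)) * MvPolynomial.X 1 + (∑ j : Fin (n + 1), MvPolynomial.C (ξ j) * MvPolynomial.X 0 ^ (j : ℕ))} : Set (MvPolynomial (Fin 2) k))) ∧
      Algebra.Smooth k (MvPolynomial (Fin 2) k ⧸ Ideal.span ({(∑ i : Fin 3, MvPolynomial.C (q i) * MvPolynomial.X 0 ^ (2 - (i : ℕ))) + (∑ j : Fin (n + 1), MvPolynomial.C (ξ j) * MvPolynomial.X 0 ^ (n - (j : ℕ))) * MvPolynomial.X 1} : Set (MvPolynomial (Fin 2) k))) ∧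
      Algebra.Smooth k (MvPolynomial (Fin 2) k ⧸ Ideal.span ({(∑ i : Fin 3, MvPolynomial.C (q i) * MvPolynomial.X 0 ^ (2 - (i : ℕ))) * MvPolynomial.X 1 + (∑ j : Fin (n + 1), MvPolynomial.C (ξ j) * MvPolynomial.X 0 ^ (n - (j : ℕ)))} : Set (MvPolynomial (Fin 2) k)))) ↔
    Polynomial.resultant (∑ i : Fin 3, Polynomial.C (q i) * Polynomial.X ^ (i : ℕ))
      (∑ j : Fin (n + 1), Polynomial.C (ξ j) * Polynomial.X ^ (j : ℕ)) 2 n ≠ 0 := by
  have e1 := inc_sum 2 q (fun i => (i : ℕ))
  have e2 := inc_sum n ξ (fun j => (j : ℕ))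
  have e3 := inc_sum 2 q (fun i => 2 - (i : ℕ))
  have e4 := inc_sum n ξ (fun j => n - (j : ℕ))
  rw [← reflect_sum 2 q] at e3
  rw [← reflect_sum n ξ] at e4
  have s1 := smooth_congr (k := k) _ _ (show (∑ i : Fin 3, MvPolynomial.C (q i) * MvPolynomial.X 0 ^ (i : ℕ)) + (∑ j : Fin (n + 1), MvPolynomial.C (ξ j) * MvPolynomial.X 0 ^ (j : ℕ)) * MvPolynomial.X 1 = chart _ _ by
    rw [e1, e2]; rfl)
  have s2 := smooth_congr (k := k) _ _ (show (∑ i : Fin 3, MvPolynomial.C (q i) * MvPolynomial.X 0 ^ (i : ℕ)) * MvPolynomial.X 1 + (∑ j : Fin (n + 1), MvPolynomial.C (ξ j) * MvPolynomial.X 0 ^ (j : ℕ)) = chart _ _ by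
    rw [e1, e2, add_comm]; rfl)
  have s3 := smooth_congr (k := k) _ _ (show (∑ i : Fin 3, MvPolynomial.C (q i) * MvPolynomial.X 0 ^ (2 - (i : ℕ))) + (∑ j : Fin (n + 1), MvPolynomial.C (ξ j) * MvPolynomial.X 0 ^ (n - (j : ℕ))) * MvPolynomial.X 1 = chart _ _ by
    rw [e3, e4]; rfl)
  have s4 := smooth_congr (k := k) _ _ (show (∑ i : Fin 3, MvPolynomial.C (q i) * MvPolynomial.X 0 ^ (2 - (i : ℕ))) * MvPolynomial.X 1 + (∑ j : Fin (n + 1), MvPolynomial.C (ξ j) * MvPolynomial.X 0 ^ (n - (j : ℕ))) = chart _ _ by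
    rw [e3, e4, add_comm]; rfl)
  refine Iff.trans (and_congr s1 (and_congr s2 (and_congr s3 s4))) ?_
  refine main _ _ n (by omega) (natDegree_sum_le 2 q) (natDegree_sum_le n ξ) ?_
  rcases hqξ with h | h
  · exact Or.inl (fun h' => h ((sum_eq_zero_iff 2 q).mp h'))
  · exact Or.inr (fun h' => h ((sum_eq_zero_iff n ξ).mp h'))

end Groth.Agent.S19185
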