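import Groth.Statements.S5958
import Groth.Agent.Lib.R2H3PullInd
import Groth.Agent.Lib.R2H3PnChart
import Groth.Agent.Lib.Helper13ModBasis

set_option autoImplicit false
universe u
open CategoryTheory CategoryTheory.Limits AlgebraicGeometry TopologicalSpace Opposite
open Nrm16

namespace Groth.Agent.S5958

open Groth.Agent.Lib.R2H3 Groth.Agent.Lib.R2H3.PnChart

namespace Aux

variable {X S : Scheme.{u}} (f : X ⟶ S) (F G : X.Modules) (n : ℕ)

theorem thetaU_surjective (U : X.Opens) : Function.Surjective (thetaU f n U) := by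
  have hsurj : Function.Surjective
      ((pullbackUnitHom (PrinPart.pr2 f n)).app (PrinPart.pr1 f n ⁻¹ᵁ U)) :=
    (ConcreteCategory.bijective_of_isIso
      ((pullbackUnitHom (PrinPart.pr2 f n)).app (PrinPart.pr1 f n ⁻¹ᵁ U))).2
  intro z
  obtain ⟨y, hy⟩ := hsurj z
  exact ⟨y, hy⟩

/-- a section which is locally zero is zero -/
theorem eq_zero_of_locally {U : X.Opens} (γ : Γ(G, U))
    (H : ∀ x ∈ U, ∃ (V : X.Opens) (e : V ≤ U), x ∈ V ∧ G.presheaf.map (homOfLE e).op γ = 0) :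
    γ = 0 := by
  choose V e hxV hV using H
  refine TopCat.Sheaf.eq_of_locally_eq' ⟨G.presheaf, G.isSheaf⟩
    (fun x : {x : X // x ∈ U} => V x.1 x.2) U (fun x => homOfLE (e x.1 x.2)) ?_ γ 0 (fun x => ?_)
  · intro x hx
    exact Opens.mem_iSup.mpr ⟨⟨x, hx⟩, hxV x hx⟩
  · have h0 : G.presheaf.map (homOfLE (e x.1 x.2)).op (0 : Γ(G, U)) = 0 := map_zero _
    exact (hV x.1 x.2).trans h0.symm

/-- `d^n (s • t) = p₂♯ s • d^n t` -/
theorem dP_smul (U : X.Opens) (s : Γ(X, U)) (t : Γ(F, U)) :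
    PrinPart.dP f n F U (s • t) =
      ((PrinPart.pr2 f n).appLE U (PrinPart.pr1 f n ⁻¹ᵁ U) (PrinPart.preimage_pr1 f n U).le s) •
        (show Γ((Scheme.Modules.pullback (PrinPart.pr2 f n)).obj F, PrinPart.pr1 f n ⁻¹ᵁ U) from
          PrinPart.dP f n F U t) := by
  rw [PrinPart.dP_apply, PrinPart.dP_apply, OmegaSh.pullSect_smul, Scheme.Modules.map_smul]
  rfl

/-- scalar multiplication on `P^n(F) = p₁_* p₂^* F` through `p₁♯` -/
theorem smul_PMod (U : X.Opens) (x : Γ(X, U))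
    (m : Γ((Scheme.Modules.pullback (PrinPart.pr2 f n)).obj F, PrinPart.pr1 f n ⁻¹ᵁ U)) :
    (show Γ(PrinPart.PMod f n F, U) from ((PrinPart.pr1 f n).app U x • m)) =
      x • (show Γ(PrinPart.PMod f n F, U) from m) := rfl

variable {F G}

/-- the key vanishing over a good affine open -/
theorem key_affine (c : PrinPart.PMod f n F ⟶ G)
    (hc : ∀ (U : X.Opens) (t : Γ(F, U)), c.app U (PrinPart.dP f n F U t) = 0)
    {U : X.Opens} {T : S.Opens} (hU : IsAffineOpen U) (hT : IsAffineOpen T) (hUT : U ≤ f ⁻¹ᵁ T)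
    (t : Γ(F, U)) (y : Γ(PrinPart.P f n, U)) :
    c.app U (show Γ(PrinPart.PMod f n F, U) from
      (thetaU f n U y • (show Γ((Scheme.Modules.pullback (PrinPart.pr2 f n)).obj F,
        PrinPart.pr1 f n ⁻¹ᵁ U) from PrinPart.dP f n F U t))) = 0 := by
  have hy : y ∈ Submodule.span Γ(X, U) (Set.range (PrinPart.dn f n U)) := by
    rw [span_dn_eq_top f hU hT hUT n]; trivial
  induction hy using Submodule.span_induction with
  | mem y hy =>
    obtain ⟨s, rfl⟩ := hy
    rw [thetaU_dn, ← dP_smul]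
    exact hc U (s • t)
  | zero => rw [map_zero, zero_smul]; exact map_zero _
  | add y y' _ _ hy hy' =>
    rw [map_add, add_smul]
    refine (map_add _ _ _).trans ?_
    rw [hy, hy', add_zero]
  | smul x y _ hy =>
    rw [thetaU_smul, mul_smul, smul_PMod, Scheme.Modules.Hom.app_smul, hy, smul_zero]

/-- the key vanishing over any open -/
theorem key_all (c : PrinPart.PMod f n F ⟶ G)
    (hc : ∀ (U : X.Opens) (t : Γ(F, U)), c.app U (PrinPart.dP f n F U t) = 0)
    (U : X.Opens) (t : Γ(F, U)) (z : Γ(PrinPart.nbhd f n, PrinPart.pr1 f n ⁻¹ᵁ U)) :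
    c.app U (show Γ(PrinPart.PMod f n F, U) from
      (z • (show Γ((Scheme.Modules.pullback (PrinPart.pr2 f n)).obj F,
        PrinPart.pr1 f n ⁻¹ᵁ U) from PrinPart.dP f n F U t))) = 0 := by
  apply eq_zero_of_locally
  intro x hx
  obtain ⟨_, ⟨T, hT, rfl⟩, hxT, -⟩ :=
    S.isBasis_affineOpens.exists_subset_of_mem_open (Set.mem_univ (f x)) isOpen_univ
  have hx2 : x ∈ U ⊓ f ⁻¹ᵁ T := ⟨hx, hxT⟩
  obtain ⟨_, ⟨U', hU', rfl⟩, hxU', hle⟩ :=
    X.isBasis_affineOpens.exists_subset_of_mem_open hx2 (U ⊓ f ⁻¹ᵁ T).isOpen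
  have e : U' ≤ U := fun y hy => (hle hy).1
  have hUT : U' ≤ f ⁻¹ᵁ T := fun y hy => (hle hy).2
  refine ⟨U', e, hxU', ?_⟩
  rw [← app_naturality]
  change c.app U' (show Γ(PrinPart.PMod f n F, U') from
    (((Scheme.Modules.pullback (PrinPart.pr2 f n)).obj F).presheaf.map
      (homOfLE ((PrinPart.pr1 f n).preimage_mono e)).op
      (z • (show Γ((Scheme.Modules.pullback (PrinPart.pr2 f n)).obj F,
        PrinPart.pr1 f n ⁻¹ᵁ U) from PrinPart.dP f n F U t)))) = 0
  rw [Scheme.Modules.map_smul]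
  have hd := PrinPart.dP_map f n F e t
  change _ = ((Scheme.Modules.pullback (PrinPart.pr2 f n)).obj F).presheaf.map
      (homOfLE ((PrinPart.pr1 f n).preimage_mono e)).op (PrinPart.dP f n F U t) at hd
  rw [← hd]
  obtain ⟨y, hy⟩ := thetaU_surjective f n U'
    ((PrinPart.nbhd f n).presheaf.map (homOfLE ((PrinPart.pr1 f n).preimage_mono e)).op z)
  rw [← hy]
  exact key_affine f n c hc hU' hT hUT _ y

theorem pr1_toNbhd (x : X) : PrinPart.pr1 f n (PrinPart.toNbhd f n x) = x := by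
  rw [← Scheme.Hom.comp_apply, PrinPart.toNbhd_pr1]
  rfl

theorem pr2_toNbhd (x : X) : PrinPart.pr2 f n (PrinPart.toNbhd f n x) = x := by
  rw [← Scheme.Hom.comp_apply, PrinPart.toNbhd_pr2]
  rfl

theorem toNbhd_pr1_apply (z : PrinPart.nbhd f n) :
    PrinPart.toNbhd f n (PrinPart.pr1 f n z) = z := by
  obtain ⟨y, rfl⟩ := PrinPart.toInfNbhd_surjective (PrinPart.diagCl f) n z
  rw [pr1_toNbhd]

/-- the predicate: the map `c` kills all multiples of the section -/
def Pred (c : PrinPart.PMod f n F ⟶ G) (W : (PrinPart.nbhd f n).Opens)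
    (σ : Γ((Scheme.Modules.pullback (PrinPart.pr2 f n)).obj F, W)) : Prop :=
  ∀ (U : X.Opens) (hU : PrinPart.pr1 f n ⁻¹ᵁ U ≤ W)
    (z : Γ(PrinPart.nbhd f n, PrinPart.pr1 f n ⁻¹ᵁ U)),
    c.app U (show Γ(PrinPart.PMod f n F, U) from
      (z • ((Scheme.Modules.pullback (PrinPart.pr2 f n)).obj F).presheaf.map (homOfLE hU).op σ)) = 0

theorem isSubsheafPred (c : PrinPart.PMod f n F ⟶ G) :
    PullInd.IsSubsheafPred ((Scheme.Modules.pullback (PrinPart.pr2 f n)).obj F) (Pred f n c) where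
  zero := by
    intro W U hU z
    rw [map_zero, smul_zero]
    exact map_zero _
  add := by
    intro W s t hs ht U hU z
    rw [map_add, smul_add]
    refine (map_add _ _ _).trans ?_
    rw [hs U hU z, ht U hU z, add_zero]
  smul := by
    intro W r s hs U hU z
    rw [Scheme.Modules.map_smul, smul_smul]
    exact hs U hU _
  res := by
    intro W W' i s hs U hU z
    rw [OmegaSh.resM_resM]
    exact hs U (hU.trans i.le) z
  loc := by
    intro W σ hloc U hU z
    apply eq_zero_of_locally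
    intro x hx
    have hτx : PrinPart.toNbhd f n x ∈ PrinPart.pr1 f n ⁻¹ᵁ U := by
      change PrinPart.pr1 f n (PrinPart.toNbhd f n x) ∈ U
      rw [pr1_toNbhd]; exact hx
    obtain ⟨W', i, hzW', hP'⟩ := hloc _ (hU hτx)
    let V : X.Opens := PrinPart.toNbhd f n ⁻¹ᵁ (W' ⊓ PrinPart.pr1 f n ⁻¹ᵁ U)
    have hxV : x ∈ V := ⟨hzW', hτx⟩
    have hVU : V ≤ U := by
      intro y hy
      have h1 : PrinPart.pr1 f n (PrinPart.toNbhd f n y) ∈ U := hy.2
      rwa [pr1_toNbhd] at h1
    have hVW' : PrinPart.pr1 f n ⁻¹ᵁ V ≤ W' := by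
      intro z' hz'
      have h1 : PrinPart.toNbhd f n (PrinPart.pr1 f n z') ∈ W' := hz'.1
      rwa [toNbhd_pr1_apply] at h1
    refine ⟨V, hVU, hxV, ?_⟩
    rw [← app_naturality]
    change c.app V (show Γ(PrinPart.PMod f n F, V) from
      (((Scheme.Modules.pullback (PrinPart.pr2 f n)).obj F).presheaf.map
        (homOfLE ((PrinPart.pr1 f n).preimage_mono hVU)).op
        (z • ((Scheme.Modules.pullback (PrinPart.pr2 f n)).obj F).presheaf.map
          (homOfLE hU).op σ))) = 0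
    rw [Scheme.Modules.map_smul, OmegaSh.resM_resM]
    have h2 := hP' V hVW'
      ((PrinPart.nbhd f n).presheaf.map (homOfLE ((PrinPart.pr1 f n).preimage_mono hVU)).op z)
    rw [OmegaSh.resM_resM] at h2
    exact h2

theorem pred_pull (c : PrinPart.PMod f n F ⟶ G)
    (hc : ∀ (U : X.Opens) (t : Γ(F, U)), c.app U (PrinPart.dP f n F U t) = 0)
    (V : X.Opens) (t : Γ(F, V)) :
    Pred f n c (PrinPart.pr2 f n ⁻¹ᵁ V) (OmegaSh.pullSect (PrinPart.pr2 f n) F V t) := by
  intro U hU z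
  have hUV : U ≤ V := by
    intro x hx
    have h1 : PrinPart.toNbhd f n x ∈ PrinPart.pr1 f n ⁻¹ᵁ U := by
      change PrinPart.pr1 f n (PrinPart.toNbhd f n x) ∈ U
      rw [pr1_toNbhd]; exact hx
    have h2 : PrinPart.pr2 f n (PrinPart.toNbhd f n x) ∈ V := hU h1
    rwa [pr2_toNbhd] at h2
  have hd : ((Scheme.Modules.pullback (PrinPart.pr2 f n)).obj F).presheaf.map (homOfLE hU).op
      (OmegaSh.pullSect (PrinPart.pr2 f n) F V t) =
      PrinPart.dP f n F U (F.presheaf.map (homOfLE hUV).op t) := by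
    rw [PrinPart.dP_apply, OmegaSh.pullSect_map, OmegaSh.resM_resM]
    rfl
  rw [hd]
  exact key_all f n c hc U _ z

end Aux

/-- Let f : X ⟶ S be a morphism of schemes, F an O_X-module and n a natural number. The left O_X-module
P^n_{X/S}(F) of principal parts of order n of F is generated by the image of the canonical operator
d^n : F ⟶ P^n_{X/S}(F): two O_X-linear maps out of P^n_{X/S}(F) into any O_X-module that agree on
d^n t for every local section t of F coincide. -/
theorem result {X S : Scheme.{u}} (f : X ⟶ S) (F G : X.Modules) (n : ℕ)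
    (a b : PrinPart.PMod f n F ⟶ G)
    (h : ∀ (U : X.Opens) (t : Γ(F, U)), a.app U (PrinPart.dP f n F U t) = b.app U (PrinPart.dP f n F U t)) :
    a = b := by
  rw [← sub_eq_zero]
  have hc : ∀ (U : X.Opens) (t : Γ(F, U)), (a - b).app U (PrinPart.dP f n F U t) = 0 := by
    intro U t
    rw [Scheme.Modules.Hom.sub_app]
    change a.app U (PrinPart.dP f n F U t) - b.app U (PrinPart.dP f n F U t) = 0
    rw [h U t, sub_self]
  apply Scheme.Modules.hom_ext
  intro U
  ext σ
  have hB : Opens.IsBasis (Set.range (fun V : X.Opens => V)) := by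
    rw [Opens.isBasis_iff_nbhd]
    intro V x hx
    exact ⟨V, ⟨V, rfl⟩, hx, le_rfl⟩
  have hP := PullInd.pullback_induction (PrinPart.pr2 f n) F (Aux.Pred f n (a - b))
    (Aux.isSubsheafPred f n (a - b)) (fun V : X.Opens => V) hB (Aux.pred_pull f n (a - b) hc)
    (PrinPart.pr1 f n ⁻¹ᵁ U) σ U le_rfl 1
  rw [one_smul] at hP
  have hid : ((Scheme.Modules.pullback (PrinPart.pr2 f n)).obj F).presheaf.map
      (homOfLE (le_refl (PrinPart.pr1 f n ⁻¹ᵁ U))).op σ = σ := by
    have : (homOfLE (le_refl (PrinPart.pr1 f n ⁻¹ᵁ U))).op = 𝟙 _ := rfl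
    rw [this, CategoryTheory.Functor.map_id]
    rfl
  rw [hid] at hP
  exact hP

end Groth.Agent.S5958
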