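import Groth.Statements.S18675
import Mathlib
-- import your own Groth.Agent.* helpers here

set_option autoImplicit false
open GLat

namespace Groth.Agent.S18675


section Perm

variable {G : Type} [Group G] {X : Type} [MulAction G X]

/-- the permutation representation on `X →₀ ℤ` -/
noncomputable def perm (G : Type) [Group G] (X : Type) [MulAction G X] :
    Representation ℤ G (X →₀ ℤ) where
  toFun g := Finsupp.lmapDomain ℤ ℤ (fun x => g • x)
  map_one' := by
    ext x
    simp
  map_mul' g h := by
    ext x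
    simp [mul_smul]

lemma perm_single (g : G) (x : X) (r : ℤ) :
    perm G X g (Finsupp.single x r) = Finsupp.single (g • x) r := by
  simp [perm]

lemma perm_apply (g : G) (m : X →₀ ℤ) (x : X) : perm G X g m x = m (g⁻¹ • x) := by
  have h : perm G X g m = Finsupp.mapDomain (fun x => g • x) m := rfl
  rw [h]
  conv_lhs => rw [← smul_inv_smul g x]
  exact Finsupp.mapDomain_apply (MulAction.injective g) m (g⁻¹ • x)

lemma perm_H1 [Finite G] [Finite X] (H : Subgroup G) (f : H → (X →₀ ℤ))
    (hf : ∀ a b : H, f (a * b) = f a + perm G X (a : G) (f b)) :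
    ∃ m : X →₀ ℤ, ∀ a : H, f a = perm G X (a : G) m - m := by
  classical
  have hF : ∀ (a b : H) (x : X), f (a * b) x = f a x + f b ((a : G)⁻¹ • x) := by
    intro a b x
    rw [hf a b, Finsupp.add_apply, perm_apply]
  have h1 : ∀ x, f 1 x = 0 := by
    intro x
    have := hF 1 1 x
    simp only [mul_one, OneMemClass.coe_one, inv_one, one_smul] at this
    linarith
  have hpow : ∀ (k : H) (y : X), (k : G) • y = y → ∀ n : ℕ, f (k ^ n) y = n * f k y := by
    intro k y hk n
    induction n with
    | zero => simp [h1]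
    | succ n ih =>
      have hky : (k : G)⁻¹ • y = y := by rw [inv_smul_eq_iff, hk]
      rw [pow_succ', hF, hky, ih]
      push_cast
      ring
  have hstab : ∀ (k : H) (y : X), (k : G) • y = y → f k y = 0 := by
    intro k y hk
    have hn := hpow k y hk (orderOf k)
    rw [pow_orderOf_eq_one, h1] at hn
    have hpos : 0 < orderOf k := orderOf_pos k
    have hne : (orderOf k : ℤ) ≠ 0 := by exact_mod_cast hpos.ne'
    exact (mul_eq_zero.mp hn.symm).resolve_left hne
  have hwd : ∀ (a b : H) (x : X), (a : G)⁻¹ • x = (b : G)⁻¹ • x → f a x = f b x := by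
    intro a b x hab
    have hk : ((a⁻¹ * b : H) : G) • ((a : G)⁻¹ • x) = (a : G)⁻¹ • x := by
      rw [hab]
      simpa [mul_smul] using hab
    have h2 := hF a (a⁻¹ * b) x
    rw [mul_inv_cancel_left] at h2
    rw [h2, hstab _ _ hk, add_zero]
  -- orbit representatives
  let r : X → X := fun x => (Quotient.mk (MulAction.orbitRel H X) x).out
  have hr : ∀ x, ∃ h : H, (h : G) • x = r x := by
    intro x
    have h1 : (MulAction.orbitRel H X) (r x) x := Quotient.mk_out (s := MulAction.orbitRel H X) x
    rw [MulAction.orbitRel_apply, MulAction.mem_orbit_iff] at h1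
    obtain ⟨h, hh⟩ := h1
    exact ⟨h, hh⟩
  choose hh hhspec using hr
  have hrinv : ∀ (a : H) (x : X), r ((a : G)⁻¹ • x) = r x := by
    intro a x
    simp only [r]
    congr 1
    apply Quotient.sound
    show (MulAction.orbitRel H X) _ _
    rw [MulAction.orbitRel_apply]
    exact ⟨a⁻¹, rfl⟩
  let m : X → ℤ := fun x => f (hh x) (r x)
  have hm : ∀ (a : H) (x : X), f a x = m ((a : G)⁻¹ • x) - m x := by
    intro a x
    have hx : ((hh x : H) : G)⁻¹ • r x = x := by
      rw [inv_smul_eq_iff, hhspec]
    have e1 := hF (hh x) a (r x)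
    rw [hx] at e1
    have e2 : f (hh x * a) (r x) = f (hh ((a : G)⁻¹ • x)) (r x) := by
      apply hwd
      have hy : ((hh ((a : G)⁻¹ • x) : H) : G)⁻¹ • r x = (a : G)⁻¹ • x := by
        rw [inv_smul_eq_iff, hhspec, hrinv]
      rw [hy, Subgroup.coe_mul, mul_inv_rev, mul_smul, hx]
    simp only [m]
    rw [hrinv a x, ← e2, e1]
    ring
  refine ⟨Finsupp.equivFunOnFinite.symm m, fun a => ?_⟩
  ext x
  rw [Finsupp.sub_apply, perm_apply]
  rw [Finsupp.coe_equivFunOnFinite_symm]
  exact hm a x

end Perm

section Construct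

variable {G : Type} [Group G] {A : Type} [AddCommGroup A] (ρ : Representation ℤ G A)

/-- action on a stable subset -/
@[reducible] def stableAction (X : Set A) (hX : ∀ (g : G) (a : A), a ∈ X → ρ g a ∈ X) : MulAction G X where
  smul g x := ⟨ρ g x.1, hX g x.1 x.2⟩
  one_smul x := Subtype.ext (by show ρ 1 x.1 = x.1; simp)
  mul_smul g h x := Subtype.ext (by show ρ (g * h) x.1 = ρ g (ρ h x.1); simp)

theorem construct [Finite G] [Module.Finite ℤ A]
    (X : Set A) (hXfin : X.Finite) (hX : ∀ (g : G) (a : A), a ∈ X → ρ g a ∈ X)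
    (hspan : ∀ (H : Subgroup G) (a : A), (∀ h ∈ H, ρ h a = a) →
      a ∈ Submodule.span ℤ {x | x ∈ X ∧ ∀ h ∈ H, ρ h x = x}) :
    ∃ (Q : Type) (_ : AddCommGroup Q) (P : Type) (_ : AddCommGroup P)
      (_ : Module.Finite ℤ Q) (_ : Module.Free ℤ Q) (_ : Module.Finite ℤ P) (_ : Module.Free ℤ P)
      (σ : Representation ℤ G Q) (τ : Representation ℤ G P) (i : Q →ₗ[ℤ] P) (π : P →ₗ[ℤ] A),
      GLat.IsEquivariant σ τ i ∧ GLat.IsEquivariant τ ρ π ∧ Function.Injective i ∧
      Function.Surjective π ∧
      LinearMap.range i = LinearMap.ker π ∧ GLat.IsPermutation τ ∧ GLat.IsCoflasque σ := by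
  classical
  let _ : MulAction G X := stableAction ρ X hX
  have : Finite X := hXfin.to_subtype
  have hsmul : ∀ (g : G) (x : X), ((g • x : X) : A) = ρ g x := fun _ _ => rfl
  let τ := perm G X
  let π : (X →₀ ℤ) →ₗ[ℤ] A := Finsupp.linearCombination ℤ (Subtype.val : X → A)
  have hπsingle : ∀ (x : X) (r : ℤ), π (Finsupp.single x r) = r • (x : A) := by
    intro x r
    simp [π, Finsupp.linearCombination_single]
  have hπeq : GLat.IsEquivariant τ ρ π := by
    intro g m
    induction m using Finsupp.induction_linear with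
    | zero => simp
    | add m₁ m₂ h₁ h₂ => simp only [map_add, h₁, h₂]
    | single x r => rw [perm_single, hπsingle, hπsingle, hsmul, map_smul]
  let K : Submodule ℤ (X →₀ ℤ) := LinearMap.ker π
  have hKstable : ∀ (g : G) (q : X →₀ ℤ), q ∈ K → τ g q ∈ K := by
    intro g q hq
    rw [LinearMap.mem_ker] at hq ⊢
    rw [hπeq g q, hq, map_zero]
  let σ : Representation ℤ G K :=
    { toFun := fun g => (τ g).restrict (hKstable g)
      map_one' := by
        ext q
        simp
      map_mul' := fun g h => by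
        ext q
        simp [map_mul] }
  refine ⟨K, inferInstance, X →₀ ℤ, inferInstance, inferInstance, inferInstance, inferInstance,
    inferInstance, σ, τ, K.subtype, π, ?_, hπeq, Subtype.val_injective, ?_, ?_, ?_, ?_⟩
  · intro g q
    rfl
  · rw [← LinearMap.range_eq_top, eq_top_iff]
    intro a _
    have h1 := hspan ⊥ a (by
      intro h hh
      rw [Subgroup.mem_bot] at hh
      rw [hh, map_one]
      rfl)
    refine Submodule.span_le.mpr ?_ h1
    rintro x ⟨hxX, -⟩
    exact ⟨Finsupp.single ⟨x, hxX⟩ 1, by rw [hπsingle]; simp⟩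
  · exact Submodule.range_subtype K
  · refine ⟨X, Finsupp.basisSingleOne, fun g x => ⟨g • x, ?_⟩⟩
    rw [Finsupp.coe_basisSingleOne]
    exact perm_single g x 1
  · intro H f hf
    let f' : H → (X →₀ ℤ) := fun a => (f a : X →₀ ℤ)
    have hf' : ∀ a b : H, f' (a * b) = f' a + τ (a : G) (f' b) := by
      intro a b
      simp only [f']
      rw [hf a b]
      rfl
    obtain ⟨p, hp⟩ := perm_H1 H f' hf'
    have hπp : ∀ h ∈ H, ρ h (π p) = π p := by
      intro h hh
      have h1 := hp ⟨h, hh⟩
      have h0 : π (f' ⟨h, hh⟩) = 0 := (f ⟨h, hh⟩).2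
      rw [h1, map_sub, hπeq] at h0
      exact sub_eq_zero.mp h0
    obtain ⟨p', hp'inv, hp'π⟩ : ∃ p' : X →₀ ℤ, (∀ h ∈ H, τ h p' = p') ∧ π p' = π p := by
      have h1 := hspan H (π p) hπp
      refine Submodule.span_induction
        (p := fun a _ => ∃ p' : X →₀ ℤ, (∀ h ∈ H, τ h p' = p') ∧ π p' = a) ?_ ?_ ?_ ?_ h1
      · rintro x ⟨hxX, hxinv⟩
        refine ⟨Finsupp.single ⟨x, hxX⟩ 1, fun h hh => ?_, by rw [hπsingle]; simp⟩
        show perm G X h _ = _
        rw [perm_single]
        congr 1
        exact Subtype.ext (hxinv h hh)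
      · exact ⟨0, by simp, by simp⟩
      · rintro a b _ _ ⟨pa, ha1, ha2⟩ ⟨pb, hb1, hb2⟩
        exact ⟨pa + pb, fun h hh => by rw [map_add, ha1 h hh, hb1 h hh], by rw [map_add, ha2, hb2]⟩
      · rintro c a _ ⟨pa, ha1, ha2⟩
        exact ⟨c • pa, fun h hh => by rw [map_smul, ha1 h hh], by rw [map_smul, ha2]⟩
    refine ⟨⟨p - p', by rw [LinearMap.mem_ker, map_sub, hp'π, sub_self]⟩, fun a => ?_⟩
    apply Subtype.ext
    show (f a : X →₀ ℤ) = τ a (p - p') - (p - p')
    have h2 := hp a
    simp only [f'] at h2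
    rw [map_sub, hp'inv a a.2, h2]
    abel

end Construct


/-- For a finite group G and a finitely generated G-module A there is an exact sequence 0 → Q → P → A →
0 of finitely generated G-modules with P a permutation lattice and Q a coflasque lattice; here
rendered by equivariant ℤ-linear maps i : Q → P injective, π : P → A surjective, with range i = ker
π. -/
theorem result (G : Type) [Group G] [Finite G]
    (A : Type) [AddCommGroup A] [Module.Finite ℤ A] (ρ : Representation ℤ G A) :
    ∃ (Q : Type) (_ : AddCommGroup Q) (P : Type) (_ : AddCommGroup P)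
      (_ : Module.Finite ℤ Q) (_ : Module.Free ℤ Q) (_ : Module.Finite ℤ P) (_ : Module.Free ℤ P)
      (σ : Representation ℤ G Q) (τ : Representation ℤ G P) (i : Q →ₗ[ℤ] P) (π : P →ₗ[ℤ] A),
      GLat.IsEquivariant σ τ i ∧ GLat.IsEquivariant τ ρ π ∧ Function.Injective i ∧ Function.Surjective π ∧
      LinearMap.range i = LinearMap.ker π ∧ GLat.IsPermutation τ ∧ GLat.IsCoflasque σ := by
  classical
  -- invariants
  let Inv : Subgroup G → Submodule ℤ A := fun H =>
    { carrier := {a | ∀ h ∈ H, ρ h a = a}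
      add_mem' := by
        intro a b ha hb h hh
        rw [map_add, ha h hh, hb h hh]
      zero_mem' := by
        intro h _
        simp
      smul_mem' := by
        intro c a ha h hh
        rw [map_smul, ha h hh] }
  have hfg : ∀ H, (Inv H).FG := fun H => IsNoetherian.noetherian _
  choose S hS using hfg
  let X : Set A := ⋃ (H : Subgroup G), ⋃ s ∈ S H, Set.range (fun g : G => ρ g s)
  have hXfin : X.Finite :=
    Set.finite_iUnion fun H => Set.Finite.biUnion (S H).finite_toSet fun s _ => Set.finite_range _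
  have hXmem : ∀ a, a ∈ X ↔ ∃ (H : Subgroup G) (s : A), s ∈ S H ∧ ∃ g : G, ρ g s = a := by
    intro a
    simp [X]
  refine construct ρ X hXfin ?_ ?_
  · intro g a ha
    rw [hXmem] at ha ⊢
    obtain ⟨H, s, hs, g', rfl⟩ := ha
    exact ⟨H, s, hs, g * g', by rw [map_mul]; rfl⟩
  · intro H a ha
    have h1 : a ∈ Inv H := ha
    rw [← hS H] at h1
    refine Submodule.span_mono ?_ h1
    intro s hs
    refine ⟨(hXmem s).mpr ⟨H, s, hs, 1, by simp⟩, ?_⟩
    have h2 : s ∈ Inv H := by
      rw [← hS H]
      exact Submodule.subset_span hs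
    exact h2

end Groth.Agent.S18675
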