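import Groth.Statements.S18686
import Mathlib
import Groth.Agent.S18675
-- import your own Groth.Agent.* helpers here

set_option autoImplicit false
open GLat

namespace Groth.Agent.S18686


open Groth.Agent.S18675

section Perm

variable {G : Type} [Group G] {X : Type} [MulAction G X]

/-- `Ĥ⁻¹` of a permutation module vanishes. -/
lemma perm_Hm1 [Finite G] (H : Subgroup G) [Fintype H] (p : X →₀ ℤ)
    (hp : ∑ h : H, perm G X (h : G) p = 0) :
    p ∈ Submodule.span ℤ {x : X →₀ ℤ | ∃ (h : H) (z : X →₀ ℤ), x = perm G X (h : G) z - z} := by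
  classical
  -- orbit representatives
  let r : X → X := fun x => (Quotient.mk (MulAction.orbitRel H X) x).out
  have hr : ∀ x, ∃ h : H, (h : G) • x = r x := by
    intro x
    have h1 : (MulAction.orbitRel H X) (r x) x := Quotient.mk_out (s := MulAction.orbitRel H X) x
    rw [MulAction.orbitRel_apply, MulAction.mem_orbit_iff] at h1
    obtain ⟨h, hh⟩ := h1
    exact ⟨h, hh⟩
  have hrinv : ∀ (a : H) (x : X), r ((a : G) • x) = r x := by
    intro a x
    simp only [r]
    congr 1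
    apply Quotient.sound
    show (MulAction.orbitRel H X) _ _
    rw [MulAction.orbitRel_apply]
    exact ⟨a, rfl⟩
  set S := Submodule.span ℤ {x : X →₀ ℤ | ∃ (h : H) (z : X →₀ ℤ), x = perm G X (h : G) z - z}
    with hS
  -- p - mapDomain r p ∈ S
  have h1 : ∀ p : X →₀ ℤ, p - Finsupp.mapDomain r p ∈ S := by
    intro p
    induction p using Finsupp.induction_linear with
    | zero => simp
    | add p₁ p₂ h₁ h₂ =>
      have : p₁ + p₂ - Finsupp.mapDomain r (p₁ + p₂) =
          (p₁ - Finsupp.mapDomain r p₁) + (p₂ - Finsupp.mapDomain r p₂) := by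
        rw [Finsupp.mapDomain_add]
        abel
      rw [this]
      exact S.add_mem h₁ h₂
    | single x c =>
      obtain ⟨h, hh⟩ := hr x
      rw [Finsupp.mapDomain_single]
      have : Finsupp.single x c - Finsupp.single (r x) c =
          -(perm G X (h : G) (Finsupp.single x c) - Finsupp.single x c) := by
        rw [perm_single, hh]
        abel
      rw [this]
      exact S.neg_mem (Submodule.subset_span ⟨h, _, rfl⟩)
  -- mapDomain r p = 0
  have h2 : ∀ (a : H) (p : X →₀ ℤ), Finsupp.mapDomain r (perm G X (a : G) p) =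
      Finsupp.mapDomain r p := by
    intro a p
    have : perm G X (a : G) p = Finsupp.mapDomain (fun x => (a : G) • x) p := rfl
    rw [this, ← Finsupp.mapDomain_comp]
    congr 1
    funext x
    exact hrinv a x
  have h3 : Finsupp.mapDomain r p = 0 := by
    have := congrArg (Finsupp.mapDomain r) hp
    rw [Finsupp.mapDomain_zero, Finsupp.mapDomain_finsetSum] at this
    simp only [h2] at this
    rw [Finset.sum_const, Finset.card_univ] at this
    have hcard : (Fintype.card H) ≠ 0 := Fintype.card_ne_zero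
    exact (smul_eq_zero.mp this).resolve_left hcard
  have := h1 p
  rwa [h3, sub_zero] at this

end Perm

section Construct2

variable {G : Type} [Group G] {A : Type} [AddCommGroup A] (ρ : Representation ℤ G A)

/-- contragredient action on a stable set of functionals -/
@[reducible] def dualAction (X : Set (A →ₗ[ℤ] ℤ))
    (hX : ∀ (g : G) (φ : A →ₗ[ℤ] ℤ), φ ∈ X → φ ∘ₗ ρ g⁻¹ ∈ X) : MulAction G X where
  smul g φ := ⟨φ.1 ∘ₗ ρ g⁻¹, hX g φ.1 φ.2⟩
  one_smul φ := Subtype.ext (by
    show φ.1 ∘ₗ ρ (1 : G)⁻¹ = φ.1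
    ext a
    simp)
  mul_smul g h φ := Subtype.ext (by
    show φ.1 ∘ₗ ρ (g * h)⁻¹ = (φ.1 ∘ₗ ρ h⁻¹) ∘ₗ ρ g⁻¹
    ext a
    simp [mul_inv_rev, map_mul])

theorem construct2 [Finite G] [Module.Finite ℤ A] [Module.Free ℤ A]
    (X : Set (A →ₗ[ℤ] ℤ)) (hXfin : X.Finite)
    (hX : ∀ (g : G) (φ : A →ₗ[ℤ] ℤ), φ ∈ X → φ ∘ₗ ρ g⁻¹ ∈ X)
    (hX1 : ∀ (a : A) (m : ℤ), (∀ φ ∈ X, m ∣ φ a) → ∃ a', a = m • a')
    (hX2 : ∀ (H : Subgroup G) [Fintype H] (a : A), (∀ h ∈ H, ρ h a = a) →
      (∀ φ ∈ X, (∀ h ∈ H, φ ∘ₗ ρ h = φ) → ((Fintype.card H : ℤ) ∣ φ a)) →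
      ∃ b, a = ∑ h : H, ρ (h : G) b) :
    ∃ (P : Type) (_ : AddCommGroup P) (F : Type) (_ : AddCommGroup F)
      (_ : Module.Finite ℤ P) (_ : Module.Free ℤ P) (_ : Module.Finite ℤ F) (_ : Module.Free ℤ F)
      (σ : Representation ℤ G P) (τ : Representation ℤ G F) (i : A →ₗ[ℤ] P) (π : P →ₗ[ℤ] F),
      GLat.IsEquivariant ρ σ i ∧ GLat.IsEquivariant σ τ π ∧ Function.Injective i ∧
      Function.Surjective π ∧
      LinearMap.range i = LinearMap.ker π ∧ GLat.IsPermutation σ ∧ GLat.IsFlasque τ := by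
  classical
  let _ : MulAction G X := dualAction ρ X hX
  have : Finite X := hXfin.to_subtype
  have hsmul : ∀ (g : G) (φ : X), ((g • φ : X) : A →ₗ[ℤ] ℤ) = φ.1 ∘ₗ ρ g⁻¹ := fun _ _ => rfl
  let σ := perm G X
  let i : A →ₗ[ℤ] (X →₀ ℤ) :=
    (Finsupp.linearEquivFunOnFinite ℤ ℤ X).symm.toLinearMap ∘ₗ LinearMap.pi (fun φ : X => φ.1)
  have hi : ∀ (a : A) (φ : X), i a φ = φ.1 a := fun a φ => rfl
  have hieq : GLat.IsEquivariant ρ σ i := by
    intro g a
    ext φ
    rw [hi, perm_apply, hi, hsmul]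
    simp
  have hiinj : Function.Injective i := by
    rw [← LinearMap.ker_eq_bot, Submodule.eq_bot_iff]
    intro a ha
    rw [LinearMap.mem_ker] at ha
    obtain ⟨a', ha'⟩ := hX1 a 0 (fun φ hφ => by
      have := DFunLike.congr_fun ha (⟨φ, hφ⟩ : X)
      rw [hi] at this
      simp [this])
    rw [ha', zero_smul]
  let K : Submodule ℤ (X →₀ ℤ) := LinearMap.range i
  have hKstable : ∀ g : G, K ≤ K.comap (σ g) := by
    rintro g _ ⟨a, rfl⟩
    exact ⟨ρ g a, hieq g a⟩
  let τ : Representation ℤ G ((X →₀ ℤ) ⧸ K) :=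
    { toFun := fun g => K.mapQ K (σ g) (hKstable g)
      map_one' := by
        apply Submodule.linearMap_qext
        ext x
        simp
      map_mul' := fun g h => by
        apply Submodule.linearMap_qext
        ext x
        simp [map_mul] }
  have hτ : ∀ (g : G) (p : X →₀ ℤ), τ g (K.mkQ p) = K.mkQ (σ g p) := fun g p => rfl
  have htf : Module.IsTorsionFree ℤ ((X →₀ ℤ) ⧸ K) := by
    apply Module.IsTorsionFree.of_smul_eq_zero
    intro m y hy
    by_cases hm : m = 0
    · exact Or.inl hm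
    right
    obtain ⟨p, rfl⟩ := K.mkQ_surjective y
    rw [← map_smul, Submodule.mkQ_apply, Submodule.Quotient.mk_eq_zero] at hy
    obtain ⟨a, ha⟩ := hy
    obtain ⟨a', ha'⟩ := hX1 a m (fun φ hφ => by
      have := DFunLike.congr_fun ha (⟨φ, hφ⟩ : X)
      rw [hi] at this
      rw [this]
      simp)
    have hp : p = i a' := by
      have h1 : m • p = m • i a' := by rw [← ha, ha', map_smul]
      exact smul_right_injective _ hm h1
    rw [Submodule.mkQ_apply, Submodule.Quotient.mk_eq_zero, hp]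
    exact ⟨a', rfl⟩
  refine ⟨X →₀ ℤ, inferInstance, (X →₀ ℤ) ⧸ K, inferInstance, inferInstance, inferInstance,
    inferInstance, inferInstance, σ, τ, i, K.mkQ, hieq, fun g p => (hτ g p).symm ▸ rfl, hiinj,
    K.mkQ_surjective, (Submodule.ker_mkQ K).symm, ?_, ?_⟩
  · refine ⟨X, Finsupp.basisSingleOne, fun g x => ⟨g • x, ?_⟩⟩
    rw [Finsupp.coe_basisSingleOne]
    exact perm_single g x 1
  · intro H y hy
    have : Fintype H := Fintype.ofFinite H
    rw [finsum_eq_sum_of_fintype] at hy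
    obtain ⟨p, rfl⟩ := K.mkQ_surjective y
    have hNp : ∑ h : H, σ (h : G) p ∈ K := by
      rw [← Submodule.Quotient.mk_eq_zero, ← Submodule.mkQ_apply, map_sum]
      exact (Finset.sum_congr rfl fun (h : H) _ => (hτ (h : G) p).symm).trans hy
    obtain ⟨a, ha⟩ := hNp
    -- a is invariant
    have hainv : ∀ h ∈ H, ρ h a = a := by
      intro h hh
      apply hiinj
      rw [hieq h a, ha, map_sum]
      rw [← Equiv.sum_comp (Equiv.mulLeft (⟨h, hh⟩ : H)) (fun x : H => σ (x : G) p)]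
      refine Finset.sum_congr rfl fun x _ => ?_
      simp only [Equiv.coe_mulLeft, Subgroup.coe_mul, map_mul]
      rfl
    obtain ⟨b, hb⟩ := hX2 H a hainv (fun φ hφ hφinv => by
      have h1 : φ a = ∑ h : H, (σ (h : G) p) (⟨φ, hφ⟩ : X) := by
        rw [← hi a ⟨φ, hφ⟩, ha, Finsupp.finsetSum_apply]
      have h2 : ∀ h : H, (σ (h : G) p) (⟨φ, hφ⟩ : X) = p ⟨φ, hφ⟩ := by
        intro h
        rw [perm_apply]
        congr 1
        apply Subtype.ext
        rw [hsmul, inv_inv]
        exact hφinv h h.2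
      rw [h1]
      simp only [h2, Finset.sum_const, Finset.card_univ, nsmul_eq_mul]
      exact Dvd.intro _ rfl)
    -- p' = p - i b has norm zero
    have hp' : ∑ h : H, σ (h : G) (p - i b) = 0 := by
      simp only [map_sub, Finset.sum_sub_distrib]
      rw [← ha, sub_eq_zero, hb, map_sum]
      refine Finset.sum_congr rfl fun h _ => ?_
      exact hieq h b
    have hmem := perm_Hm1 H (p - i b) hp'
    have hy' : K.mkQ p = K.mkQ (p - i b) := by
      rw [map_sub]
      have : K.mkQ (i b) = 0 := by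
        rw [Submodule.mkQ_apply, Submodule.Quotient.mk_eq_zero]
        exact ⟨b, rfl⟩
      rw [this, sub_zero]
    rw [hy']
    have hmap := Submodule.mem_map_of_mem (f := K.mkQ) hmem
    rw [Submodule.map_span] at hmap
    refine Submodule.span_mono ?_ hmap
    rintro _ ⟨_, ⟨h, z, rfl⟩, rfl⟩
    exact ⟨h, K.mkQ z, by rw [map_sub, hτ]⟩

end Construct2

section Build

variable {G : Type} [Group G] {A : Type} [AddCommGroup A] (ρ : Representation ℤ G A)

/-- the augmentation submodule -/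
def IH (H : Subgroup G) : Submodule ℤ A :=
  Submodule.span ℤ {x : A | ∃ (h : H) (y : A), x = ρ (h : G) y - y}

/-- its saturation -/
def TH (H : Subgroup G) : Submodule ℤ A where
  carrier := {x | ∃ n : ℤ, n ≠ 0 ∧ n • x ∈ IH ρ H}
  add_mem' := by
    rintro x y ⟨n, hn, hx⟩ ⟨m, hm, hy⟩
    refine ⟨n * m, mul_ne_zero hn hm, ?_⟩
    rw [smul_add]
    refine (IH ρ H).add_mem ?_ ?_
    · rw [mul_comm, mul_smul]
      exact (IH ρ H).smul_mem m hx
    · rw [mul_smul]
      exact (IH ρ H).smul_mem n hy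
  zero_mem' := ⟨1, one_ne_zero, by simp⟩
  smul_mem' := by
    rintro c x ⟨n, hn, hx⟩
    exact ⟨n, hn, by rw [smul_comm]; exact (IH ρ H).smul_mem c hx⟩

lemma mem_TH (H : Subgroup G) (x : A) : x ∈ TH ρ H ↔ ∃ n : ℤ, n ≠ 0 ∧ n • x ∈ IH ρ H := Iff.rfl

lemma IH_le_TH (H : Subgroup G) : IH ρ H ≤ TH ρ H := fun x hx => ⟨1, one_ne_zero, by simpa using hx⟩

instance torsionFree_quot (H : Subgroup G) : Module.IsTorsionFree ℤ (A ⧸ TH ρ H) := by
  apply Module.IsTorsionFree.of_smul_eq_zero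
  intro m y hy
  by_cases hm : m = 0
  · exact Or.inl hm
  right
  obtain ⟨x, rfl⟩ := (TH ρ H).mkQ_surjective y
  rw [← map_smul, Submodule.mkQ_apply, Submodule.Quotient.mk_eq_zero] at hy
  obtain ⟨n, hn, hx⟩ := hy
  rw [Submodule.mkQ_apply, Submodule.Quotient.mk_eq_zero]
  exact ⟨n * m, mul_ne_zero hn hm, by rwa [mul_smul]⟩

/-- the norm kills the augmentation submodule -/
lemma norm_IH (H : Subgroup G) [Fintype H] (x : A) (hx : x ∈ IH ρ H) :
    ∑ h : H, ρ (h : G) x = 0 := by
  refine Submodule.span_induction ?_ ?_ ?_ ?_ hx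
  · rintro _ ⟨h, y, rfl⟩
    simp only [map_sub, Finset.sum_sub_distrib]
    rw [sub_eq_zero]
    rw [← Equiv.sum_comp (Equiv.mulRight (h : H)) (fun x : H => ρ (x : G) y)]
    refine Finset.sum_congr rfl fun x _ => ?_
    simp only [Equiv.coe_mulRight, Subgroup.coe_mul, map_mul]
    rfl
  · simp
  · intro x y _ _ hx hy
    simp only [map_add, Finset.sum_add_distrib, hx, hy, add_zero]
  · intro c x _ hx
    simp only [map_smul]
    rw [← Finset.smul_sum, hx, smul_zero]

end Build


/-- For a finite group G and a G-lattice A (finitely generated and free over ℤ) there is an exact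
sequence 0 → A → P → F → 0 of G-lattices with P a permutation lattice and F flasque (a flasque
resolution of A); rendered by equivariant ℤ-linear maps i : A → P injective, π : P → F surjective,
with range i = ker π. -/
theorem result (G : Type) [Group G] [Finite G]
    (A : Type) [AddCommGroup A] [Module.Finite ℤ A] [Module.Free ℤ A] (ρ : Representation ℤ G A) :
    ∃ (P : Type) (_ : AddCommGroup P) (F : Type) (_ : AddCommGroup F)
      (_ : Module.Finite ℤ P) (_ : Module.Free ℤ P) (_ : Module.Finite ℤ F) (_ : Module.Free ℤ F)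
      (σ : Representation ℤ G P) (τ : Representation ℤ G F) (i : A →ₗ[ℤ] P) (π : P →ₗ[ℤ] F),
      GLat.IsEquivariant ρ σ i ∧ GLat.IsEquivariant σ τ π ∧ Function.Injective i ∧ Function.Surjective π ∧
      LinearMap.range i = LinearMap.ker π ∧ GLat.IsPermutation σ ∧ GLat.IsFlasque τ := by
  classical
  let b₀ := Module.Free.chooseBasis ℤ A
  let e := fun H : Subgroup G => Module.Free.chooseBasis ℤ (A ⧸ TH ρ H)
  let φ := fun (H : Subgroup G) (j : Module.Free.ChooseBasisIndex ℤ (A ⧸ TH ρ H)) =>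
    ((e H).coord j) ∘ₗ (TH ρ H).mkQ
  let X₀ : Set (A →ₗ[ℤ] ℤ) := Set.range (fun i => b₀.coord i) ∪ ⋃ H, Set.range (φ H)
  have hX₀fin : X₀.Finite :=
    (Set.finite_range _).union (Set.finite_iUnion fun H => Set.finite_range _)
  let X : Set (A →ₗ[ℤ] ℤ) := ⋃ g : G, (fun ψ : A →ₗ[ℤ] ℤ => ψ ∘ₗ ρ g⁻¹) '' X₀
  have hXfin : X.Finite := Set.finite_iUnion fun g => hX₀fin.image _
  have hXmem : ∀ ψ, ψ ∈ X ↔ ∃ g : G, ∃ ψ₀ ∈ X₀, ψ₀ ∘ₗ ρ g⁻¹ = ψ := by
    intro ψ
    simp [X]
  have hX₀X : X₀ ⊆ X := by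
    intro ψ hψ
    rw [hXmem]
    refine ⟨1, ψ, hψ, ?_⟩
    ext a
    simp
  refine construct2 ρ X hXfin ?_ ?_ ?_
  · intro g ψ hψ
    rw [hXmem] at hψ ⊢
    obtain ⟨g', ψ₀, hψ₀, rfl⟩ := hψ
    refine ⟨g * g', ψ₀, hψ₀, ?_⟩
    ext a
    simp [mul_inv_rev, map_mul]
  · intro a m hm
    have h1 : ∀ i, m ∣ b₀.repr a i := fun i => by
      have := hm (b₀.coord i) (hX₀X (Or.inl ⟨i, rfl⟩))
      simpa using this
    choose d hd using h1
    refine ⟨∑ i, d i • b₀ i, ?_⟩
    rw [Finset.smul_sum]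
    conv_lhs => rw [← b₀.sum_repr a]
    refine Finset.sum_congr rfl fun i _ => ?_
    rw [hd i, mul_smul]
  · intro H _ a hainv hdiv
    -- invariance of φ H j
    have hφinv : ∀ j, ∀ h ∈ H, φ H j ∘ₗ ρ h = φ H j := by
      intro j h hh
      ext y
      simp only [φ, LinearMap.comp_apply]
      congr 1
      rw [Submodule.mkQ_apply, Submodule.mkQ_apply, Submodule.Quotient.eq]
      exact IH_le_TH ρ H (Submodule.subset_span ⟨⟨h, hh⟩, y, rfl⟩)
    have h1 : ∀ j, ((Fintype.card H : ℤ)) ∣ (e H).repr ((TH ρ H).mkQ a) j := fun j => by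
      have := hdiv (φ H j) (hX₀X (Or.inr (Set.mem_iUnion.mpr ⟨H, j, rfl⟩))) (hφinv j)
      simpa [φ] using this
    choose d hd using h1
    obtain ⟨b, hb⟩ := (TH ρ H).mkQ_surjective (∑ j, d j • (e H) j)
    have ht : a - (Fintype.card H : ℤ) • b ∈ TH ρ H := by
      rw [← Submodule.Quotient.mk_eq_zero, ← Submodule.mkQ_apply, map_sub, map_smul, hb,
        sub_eq_zero, Finset.smul_sum]
      conv_lhs => rw [← (e H).sum_repr ((TH ρ H).mkQ a)]
      refine Finset.sum_congr rfl fun j _ => ?_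
      rw [hd j, mul_smul]
    obtain ⟨n, hn, hnt⟩ := ht
    have hNt : ∑ h : H, ρ (h : G) (a - (Fintype.card H : ℤ) • b) = 0 := by
      have h2 := norm_IH ρ H _ hnt
      simp only [map_smul] at h2
      rw [← Finset.smul_sum] at h2
      exact (smul_eq_zero.mp h2).resolve_left hn
    have hNa : ∑ h : H, ρ (h : G) a = (Fintype.card H : ℤ) • a := by
      rw [Finset.sum_congr rfl (fun (h : H) _ => hainv h h.2), Finset.sum_const, Finset.card_univ,
        natCast_zsmul]
    refine ⟨b, ?_⟩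
    simp only [map_sub, map_smul, Finset.sum_sub_distrib] at hNt
    rw [hNa, ← Finset.smul_sum, sub_eq_zero] at hNt
    have hcard : (Fintype.card H : ℤ) ≠ 0 := by exact_mod_cast Fintype.card_ne_zero
    exact smul_right_injective _ hcard hNt

end Groth.Agent.S18686
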