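import Groth.Statements.S18436
import Mathlib

set_option autoImplicit false
universe u
open SpinCurv

namespace Groth.Agent.S18436

universe v

namespace P1
open MvPolynomial SpinCurv

variable (R : Type u) [CommRing R] (π : R)

/-- normal-form map on polynomials -/
noncomputable def N : MvPolynomial (Fin 2) R →ₗ[R] (ℤ →₀ R) :=
  (MvPolynomial.basisMonomials (Fin 2) R).constr R
    (fun d => Finsupp.single ((d 0 : ℤ) - d 1) (π ^ min (d 0) (d 1)))

lemma N_monomial (d : Fin 2 →₀ ℕ) (r : R) :
    N R π (monomial d r) = Finsupp.single ((d 0 : ℤ) - d 1) (r * π ^ min (d 0) (d 1)) := by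
  have h1 : (monomial d r : MvPolynomial (Fin 2) R) = r • MvPolynomial.basisMonomials (Fin 2) R d := by
    rw [coe_basisMonomials, smul_monomial, smul_eq_mul, mul_one]
  rw [h1, map_smul, N, Module.Basis.constr_basis, Finsupp.smul_single, smul_eq_mul]

lemma N_rel_mul (f : MvPolynomial (Fin 2) R) :
    N R π ((X 0 * X 1 - C π) * f) = 0 := by
  induction f using MvPolynomial.induction_on' with
  | monomial d r =>
    have e1 : (X 0 * X 1 - C π) * monomial d r =
        monomial (Finsupp.single 0 1 + Finsupp.single 1 1 + d) r - monomial d (π * r) := by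
      rw [sub_mul, C_mul_monomial, X, X, monomial_mul, monomial_mul, one_mul, one_mul]
    rw [e1, map_sub, N_monomial, N_monomial]
    have h0 : (Finsupp.single (0 : Fin 2) 1 + Finsupp.single 1 1 + d : Fin 2 →₀ ℕ) 0 = d 0 + 1 := by
      simp [Finsupp.add_apply, add_comm]
    have h1 : (Finsupp.single (0 : Fin 2) 1 + Finsupp.single 1 1 + d : Fin 2 →₀ ℕ) 1 = d 1 + 1 := by
      simp [Finsupp.add_apply, add_comm]
    rw [h0, h1, Nat.add_min_add_right, pow_succ]
    have : ((d 0 + 1 : ℕ) : ℤ) - ((d 1 + 1 : ℕ) : ℤ) = (d 0 : ℤ) - d 1 := by push_cast; ring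
    rw [this, sub_eq_zero]
    congr 1
    ring
  | add p q hp hq => rw [mul_add, map_add, hp, hq, add_zero]


/-- the exponent vector of the normal-form monomial of index `m` -/
noncomputable def ex (m : ℤ) : Fin 2 →₀ ℕ := Finsupp.single 0 m.toNat + Finsupp.single 1 (-m).toNat

lemma ex_zero (m : ℤ) : ex m 0 = m.toNat := by simp [ex, Finsupp.add_apply]
lemma ex_one (m : ℤ) : ex m 1 = (-m).toNat := by simp [ex, Finsupp.add_apply]

/-- normal-form monomials as polynomials -/
noncomputable def mon (m : ℤ) : MvPolynomial (Fin 2) R := monomial (ex m) 1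

lemma mon_eq (m : ℤ) : mon R m = X 0 ^ m.toNat * X 1 ^ (-m).toNat := by
  rw [mon, ex, X_pow_eq_monomial, X_pow_eq_monomial, monomial_mul, one_mul]

lemma N_mon (m : ℤ) : N R π (mon R m) = Finsupp.single m 1 := by
  rw [mon, N_monomial, ex_zero, ex_one, one_mul]
  have h1 : ((m.toNat : ℕ) : ℤ) - ((-m).toNat : ℕ) = m := Int.toNat_sub_toNat_neg m
  have h2 : min m.toNat (-m).toNat = 0 := by
    rcases le_total 0 m with h | h
    · rw [Int.toNat_eq_zero.mpr (by omega : -m ≤ 0)]; exact Nat.min_zero _
    · rw [Int.toNat_eq_zero.mpr h]; exact Nat.zero_min _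
  rw [h1, h2, pow_zero]

/-- the inverse map on polynomial level -/
noncomputable def M₀ : (ℤ →₀ R) →ₗ[R] MvPolynomial (Fin 2) R := Finsupp.linearCombination R (mon R)

lemma N_M₀ (c : ℤ →₀ R) : N R π (M₀ R c) = c := by
  induction c using Finsupp.induction_linear with
  | zero => simp
  | add f g hf hg => rw [map_add, map_add, hf, hg]
  | single m r =>
    rw [M₀, Finsupp.linearCombination_single, map_smul, N_mon, Finsupp.smul_single, smul_eq_mul,
      mul_one]

/-- the normal-form map to the node ring -/
noncomputable def M : (ℤ →₀ R) →ₗ[R] PolyNodeRing R π :=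
  (Ideal.Quotient.mkₐ R _).toLinearMap ∘ₗ M₀ R

lemma M_single (m : ℤ) (r : R) :
    M R π (Finsupp.single m r) =
      r • (PolyNodeRing.x R π ^ m.toNat * PolyNodeRing.y R π ^ (-m).toNat) := by
  rw [M, LinearMap.comp_apply, M₀, Finsupp.linearCombination_single, map_smul, mon_eq]
  rfl

lemma M_injective : Function.Injective (M R π) := by
  rw [← LinearMap.ker_eq_bot, LinearMap.ker_eq_bot']
  intro c hc
  have h1 : M₀ R c ∈ Ideal.span {(X 0 * X 1 - C π : MvPolynomial (Fin 2) R)} :=
    Ideal.Quotient.eq_zero_iff_mem.mp hc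
  obtain ⟨a, ha⟩ := Ideal.mem_span_singleton'.mp h1
  rw [← N_M₀ R π c, ← ha, mul_comm, N_rel_mul]

lemma xy_eq : PolyNodeRing.x R π * PolyNodeRing.y R π = algebraMap R _ π := by
  have : (Ideal.Quotient.mk (Ideal.span {(X 0 * X 1 - C π : MvPolynomial (Fin 2) R)}))
      (X 0 * X 1 - C π) = 0 :=
    Ideal.Quotient.eq_zero_iff_mem.mpr (Ideal.subset_span rfl)
  rw [map_sub, sub_eq_zero] at this
  rw [← map_mul, this]
  rfl

lemma M_surjective : Function.Surjective (M R π) := by
  intro z
  obtain ⟨f, rfl⟩ := Ideal.Quotient.mk_surjective z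
  induction f using MvPolynomial.induction_on' with
  | monomial d r =>
    set a := d 0 with ha
    set b := d 1 with hb
    refine ⟨Finsupp.single ((a : ℤ) - b) (r * π ^ min a b), ?_⟩
    rw [M_single]
    have hd : (monomial d r : MvPolynomial (Fin 2) R) = C r * (X 0 ^ a * X 1 ^ b) := by
      rw [monomial_eq]
      congr 1
      rw [Finsupp.prod_fintype _ _ (fun i => pow_zero _), Fin.prod_univ_two]
    rw [hd, map_mul, map_mul, map_pow, map_pow]
    have h1 : ((a : ℤ) - b).toNat = a - b := by omega
    have h2 : (-((a : ℤ) - b)).toNat = b - a := by omega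
    rw [h1, h2]
    have ea : a = min a b + (a - b) := by omega
    have eb : b = min a b + (b - a) := by omega
    change _ = algebraMap R (PolyNodeRing R π) r * (PolyNodeRing.x R π ^ a * PolyNodeRing.y R π ^ b)
    have key : PolyNodeRing.x R π ^ a * PolyNodeRing.y R π ^ b =
        PolyNodeRing.x R π ^ (min a b + (a - b)) * PolyNodeRing.y R π ^ (min a b + (b - a)) := by
      rw [← ea, ← eb]
    rw [key, pow_add, pow_add]
    have : PolyNodeRing.x R π ^ min a b * PolyNodeRing.x R π ^ (a - b) *
        (PolyNodeRing.y R π ^ min a b * PolyNodeRing.y R π ^ (b - a)) =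
        (PolyNodeRing.x R π * PolyNodeRing.y R π) ^ min a b *
          (PolyNodeRing.x R π ^ (a - b) * PolyNodeRing.y R π ^ (b - a)) := by ring
    rw [this, xy_eq]
    refine (Algebra.smul_def (R := R) (A := PolyNodeRing R π) _ _).trans ?_
    rw [map_mul, map_pow]
    ring
  | add p q hp hq =>
    obtain ⟨c1, h1⟩ := hp
    obtain ⟨c2, h2⟩ := hq
    exact ⟨c1 + c2, by rw [map_add, h1, h2, map_add]⟩

/-- the normal form iso -/
noncomputable def Miso : (ℤ →₀ R) ≃ₗ[R] PolyNodeRing R π :=
  LinearEquiv.ofBijective (M R π) ⟨M_injective R π, M_surjective R π⟩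

lemma Miso_single (m : ℤ) (r : R) :
    Miso R π (Finsupp.single m r) =
      r • (PolyNodeRing.x R π ^ m.toNat * PolyNodeRing.y R π ^ (-m).toNat) :=
  M_single R π m r

end P1

namespace P2

variable {R : Type u} [CommRing R] {ι : Type v}

/-- diagonal scaling on finitely supported functions -/
noncomputable def D (a : ι → R) : (ι →₀ R) →ₗ[R] (ι →₀ R) where
  toFun c := Finsupp.onFinset c.support (fun i => a i * c i) (fun i hi => by
    rw [Finsupp.mem_support_iff]
    intro h
    exact hi (by rw [h, mul_zero]))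
  map_add' c d := by
    ext i
    simp [mul_add]
  map_smul' r c := by
    ext i
    simp [mul_left_comm]

@[simp] lemma D_apply (a : ι → R) (c : ι →₀ R) (i : ι) : D a c i = a i * c i := rfl

lemma D_single (a : ι → R) (i : ι) (r : R) : D a (Finsupp.single i r) = Finsupp.single i (a i * r) := by
  classical
  ext j
  rw [D_apply, Finsupp.single_apply, Finsupp.single_apply]
  split_ifs with h
  · rw [h]
  · rw [mul_zero]

/-- the two-sided diagonal relation module -/
noncomputable def Psi (a b : ι → R) : (ι →₀ R) × (ι →₀ R) →ₗ[R] (ι →₀ R) :=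
  D a ∘ₗ LinearMap.fst R _ _ - D b ∘ₗ LinearMap.snd R _ _

lemma mem_ker_Psi (a b : ι → R) (x : (ι →₀ R) × (ι →₀ R)) :
    x ∈ LinearMap.ker (Psi a b) ↔ ∀ i, a i * x.1 i = b i * x.2 i := by
  rw [LinearMap.mem_ker, Psi, LinearMap.sub_apply, sub_eq_zero]
  constructor
  · intro h i
    exact DFunLike.congr_fun h i
  · intro h
    ext i
    exact h i

open Classical in
theorem free_ker_Psi (a b : ι → R) (h : ∀ i, a i = 1 ∨ b i = 1) :
    Module.Free R (LinearMap.ker (Psi a b)) := by
  let u : ι → R := fun i => if a i = 1 then b i else 1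
  let v : ι → R := fun i => if a i = 1 then 1 else a i
  let s : ι → R := fun i => if a i = 1 then 0 else 1
  let t : ι → R := fun i => if a i = 1 then 1 else 0
  let Θ : (ι →₀ R) →ₗ[R] LinearMap.ker (Psi a b) :=
    LinearMap.codRestrict _ (LinearMap.prod (D u) (D v)) (fun c => by
      rw [mem_ker_Psi]
      intro i
      simp only [LinearMap.prod_apply, Pi.prod, D_apply, u, v]
      by_cases hi : a i = 1
      · simp [hi]
      · have hb := (h i).resolve_left hi
        simp [hi, hb])
  let Ξ : LinearMap.ker (Psi a b) →ₗ[R] (ι →₀ R) :=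
    (D s ∘ₗ LinearMap.fst R _ _ + D t ∘ₗ LinearMap.snd R _ _) ∘ₗ (LinearMap.ker (Psi a b)).subtype
  have h1 : Ξ ∘ₗ Θ = LinearMap.id := by
    ext j i
    simp only [LinearMap.comp_apply, Finsupp.lsingle_apply, LinearMap.id_apply, Ξ, Θ,
      LinearMap.add_apply, Submodule.subtype_apply, LinearMap.codRestrict_apply,
      LinearMap.prod_apply, Pi.prod, LinearMap.fst_apply, LinearMap.snd_apply, Finsupp.add_apply,
      D_apply, s, t, u, v]
    by_cases hi : a i = 1
    · simp [hi]
    · simp [hi]
  have h2 : Θ ∘ₗ Ξ = LinearMap.id := by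
    ext ⟨⟨g, f⟩, hx⟩ i
    · have hx' := (mem_ker_Psi a b _).mp hx i
      simp only at hx'
      simp only [LinearMap.comp_apply, LinearMap.id_apply, Ξ, Θ,
        LinearMap.add_apply, Submodule.subtype_apply, LinearMap.codRestrict_apply,
        LinearMap.prod_apply, Pi.prod, LinearMap.fst_apply, LinearMap.snd_apply, Finsupp.add_apply,
        D_apply, s, t, u, v]
      by_cases hi : a i = 1
      · rw [hi, one_mul] at hx'
        simp [hi, hx']
      · simp [hi]
    · have hx' := (mem_ker_Psi a b _).mp hx i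
      simp only at hx'
      simp only [LinearMap.comp_apply, LinearMap.id_apply, Ξ, Θ,
        LinearMap.add_apply, Submodule.subtype_apply, LinearMap.codRestrict_apply,
        LinearMap.prod_apply, Pi.prod, LinearMap.fst_apply, LinearMap.snd_apply, Finsupp.add_apply,
        D_apply, s, t, u, v]
      by_cases hi : a i = 1
      · simp [hi]
      · have hb := (h i).resolve_left hi
        rw [hb, one_mul] at hx'
        simp [hi, hx']
  exact Module.Free.of_equiv (LinearEquiv.ofLinear Θ Ξ h2 h1)

end P2

namespace P3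
open P1 P2 SpinCurv LaurentPolynomial

variable (R : Type u) [CommRing R]

/-- coefficient equivalence -/
noncomputable def cE : LaurentPolynomial R ≃ₗ[R] (ℤ →₀ R) := AddMonoidAlgebra.coeffLinearEquiv R

lemma cE_C_mul_T (s : R) (j : ℤ) : cE R (C s * T j) = Finsupp.single j s := by
  rw [← single_eq_C_mul_T]
  rfl

lemma pow_formula (s : R) (e : ℤ) (k l : ℕ) :
    (T e : LaurentPolynomial R) ^ k * (C s * T (-e)) ^ l = C (s ^ l) * T (e * ((k : ℤ) - l)) := by
  rw [mul_pow, T_pow, T_pow, ← map_pow, mul_left_comm, ← T_add]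
  congr 2
  ring

section Main

variable (p q : R)
  (gU : PolyNodeRing R q →ₐ[R] LaurentPolynomial R)
  (hgUs : gU (PolyNodeRing.x R q) = T 1)
  (hgUy : gU (PolyNodeRing.y R q) = C q * T (-1))
  (gV : PolyNodeRing R p →ₐ[R] LaurentPolynomial R)
  (hgVt : gV (PolyNodeRing.x R p) = T (-1))
  (hgVx : gV (PolyNodeRing.y R p) = C p * T 1)
  (n : ℤ)

include hgUs hgUy in
lemma gU_Miso' (m : ℤ) (r : R) :
    gU (Miso R q (Finsupp.single m r)) = r • (C (q ^ (-m).toNat) * T m) := by
  rw [Miso_single, map_smul, map_mul, map_pow, map_pow, hgUs, hgUy, pow_formula]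
  congr 3
  have := Int.toNat_sub_toNat_neg m
  omega

include hgUs hgUy in
lemma gU_Miso (m : ℤ) (r : R) :
    cE R (gU (Miso R q (Finsupp.single m r))) = Finsupp.single m (q ^ (-m).toNat * r) := by
  rw [gU_Miso' R q gU hgUs hgUy, map_smul, cE_C_mul_T, Finsupp.smul_single, smul_eq_mul, mul_comm r]

include hgVt hgVx in
lemma gV_Miso' (j : ℤ) (r : R) :
    gV (Miso R p (Finsupp.single j r)) = r • (C (p ^ (-j).toNat) * T (-j)) := by
  have h1 : (C p * T 1 : LaurentPolynomial R) = C p * T (-(-1)) := by rw [neg_neg]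
  rw [Miso_single, map_smul, map_mul, map_pow, map_pow, hgVt, hgVx, h1, pow_formula]
  congr 3
  have := Int.toNat_sub_toNat_neg j
  omega

include hgVt hgVx in
lemma gV_Miso (j : ℤ) (r : R) :
    cE R (T n * gV (Miso R p (Finsupp.single j r))) =
      Finsupp.single (n - j) (p ^ (-j).toNat * r) := by
  rw [gV_Miso' R p gV hgVt hgVx, mul_smul_comm, mul_left_comm, ← T_add, map_smul,
    cE_C_mul_T, Finsupp.smul_single, smul_eq_mul, mul_comm r, sub_eq_add_neg]

/-- the twisted-sections map -/
noncomputable def PsiA : PolyNodeRing R q × PolyNodeRing R p →ₗ[R] LaurentPolynomial R :=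
  gU.toLinearMap.comp (LinearMap.fst R (PolyNodeRing R q) (PolyNodeRing R p)) -
    (LinearMap.mulLeft R (T n)).comp
      (gV.toLinearMap.comp (LinearMap.snd R (PolyNodeRing R q) (PolyNodeRing R p)))

/-- the comparison equivalence -/
noncomputable def eps : ((ℤ →₀ R) × (ℤ →₀ R)) ≃ₗ[R] PolyNodeRing R q × PolyNodeRing R p :=
  LinearEquiv.prodCongr (Miso R q) ((Finsupp.domLCongr (Equiv.subLeft n)).trans (Miso R p))

include hgUs hgUy hgVt hgVx in
lemma comp_eq :
    (cE R).toLinearMap ∘ₗ PsiA R p q gU gV n ∘ₗ (eps R p q n).toLinearMap =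
      Psi (fun m : ℤ => q ^ (-m).toNat) (fun m : ℤ => p ^ (-(n - m)).toNat) := by
  apply LinearMap.prod_ext
  · apply Finsupp.lhom_ext
    intro m r
    simp only [LinearMap.comp_apply, LinearMap.inl_apply, LinearEquiv.coe_coe, eps,
      LinearEquiv.prodCongr_apply, PsiA, LinearMap.sub_apply, LinearMap.fst_apply,
      LinearMap.snd_apply, AlgHom.toLinearMap_apply, map_zero, mul_zero, sub_zero, Psi,
      LinearMap.mulLeft_apply]
    rw [gU_Miso R q gU hgUs hgUy, D_single]
  · apply Finsupp.lhom_ext
    intro m r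
    simp only [LinearMap.comp_apply, LinearMap.inr_apply, LinearEquiv.coe_coe, eps,
      LinearEquiv.prodCongr_apply, PsiA, LinearMap.sub_apply, LinearMap.fst_apply,
      LinearMap.snd_apply, AlgHom.toLinearMap_apply, map_zero, zero_sub, Psi,
      LinearMap.mulLeft_apply, LinearEquiv.trans_apply, Finsupp.domLCongr_single,
      Equiv.subLeft_apply, map_neg]
    rw [gV_Miso R p gV hgVt hgVx, D_single]
    simp

include hgUs hgUy hgVt hgVx in
theorem main (hn : -1 ≤ n) : Module.Free R (LinearMap.ker (PsiA R p q gU gV n)) := by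
  have hfree : Module.Free R (LinearMap.ker
      (Psi (fun m : ℤ => q ^ (-m).toNat) (fun m : ℤ => p ^ (-(n - m)).toNat))) := by
    apply free_ker_Psi
    intro m
    rcases le_or_gt 0 m with h | h
    · left
      have : (-m).toNat = 0 := Int.toNat_eq_zero.mpr (by omega)
      simp only [this, pow_zero]
    · right
      have : (-(n - m)).toNat = 0 := Int.toNat_eq_zero.mpr (by omega)
      simp only [this, pow_zero]
  rw [← comp_eq R p q gU hgUs hgUy gV hgVt hgVx n] at hfree
  rw [LinearEquiv.ker_comp] at hfree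
  set Φ := PsiA R p q gU gV n with hΦ
  have hmap : (LinearMap.ker (Φ ∘ₗ (eps R p q n).toLinearMap)).map (eps R p q n).toLinearMap =
      LinearMap.ker Φ := by
    rw [LinearMap.ker_comp, Submodule.map_comap_eq_of_surjective (eps R p q n).surjective]
  exact Module.Free.of_equiv (LinearEquiv.ofSubmodules (eps R p q n) _ _ hmap)

end Main

end P3

/-- Let R be a commutative ring and p, q ∈ R, and consider the two affine charts U = Spec R[s, y]/(sy -
q) and V = Spec R[t, x]/(xt - p) of the curve obtained from the node xy = pq by the (p,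
q)-construction, glued along R[s, s⁻¹] by t = s⁻¹ (so y = q s⁻¹ on U and x = p s on V). For an
integer n ≥ -1 the global sections of the twisting sheaf O(n) (equal to vⁿ O on U and to ξⁿ O on V,
ξ = s v) are the pairs (g, f) of functions on U and V with g = sⁿ f on U ∩ V. This R-module, written
as the kernel of the R-linear map (g, f) ↦ g|_{U ∩ V} - sⁿ · f|_{U ∩ V} into R[s, s⁻¹], is free over
R (hence the direct image of O(n) on the node is flat over R). Both chart rings are written as the
quotient of the polynomial ring in two variables by (first variable)·(second variable) - constant,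
and the two restriction homomorphisms to R[s, s⁻¹] are R-algebra maps pinned by their values on
generators. (The published setting has R complete local and p, q in the maximal ideal; the printed
computation uses neither.) -/
theorem result (R : Type u) [CommRing R] (p q : R)
    (gU : SpinCurv.PolyNodeRing R q →ₐ[R] LaurentPolynomial R)
    (hgUs : gU (SpinCurv.PolyNodeRing.x R q) = LaurentPolynomial.T 1)
    (hgUy : gU (SpinCurv.PolyNodeRing.y R q) = LaurentPolynomial.C q * LaurentPolynomial.T (-1))
    (gV : SpinCurv.PolyNodeRing R p →ₐ[R] LaurentPolynomial R)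
    (hgVt : gV (SpinCurv.PolyNodeRing.x R p) = LaurentPolynomial.T (-1))
    (hgVx : gV (SpinCurv.PolyNodeRing.y R p) = LaurentPolynomial.C p * LaurentPolynomial.T 1)
    (n : ℤ) (hn : -1 ≤ n) :
    Module.Free R (LinearMap.ker
      (gU.toLinearMap.comp (LinearMap.fst R (SpinCurv.PolyNodeRing R q) (SpinCurv.PolyNodeRing R p)) -
        (LinearMap.mulLeft R (LaurentPolynomial.T n)).comp
          (gV.toLinearMap.comp (LinearMap.snd R (SpinCurv.PolyNodeRing R q) (SpinCurv.PolyNodeRing R p))))) := by
  exact P3.main R p q gU hgUs hgUy gV hgVt hgVx n hn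

end Groth.Agent.S18436
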