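import Groth.Statements.S19530
import Mathlib
import Groth.Agent.Lib.R2LeadValChain
import Groth.Agent.Lib.Helper10SubtrVal2

set_option autoImplicit false
universe u
open CategoryTheory CategoryTheory.Limits AlgebraicGeometry
open Subtr

namespace Groth.Agent.S19530

/-- Let f : X ⟶ Y be a morphism of schemes such that every base change of f has the lifting property for
ordered pairs of points (every point together with a specialization of it is the image of such a
pair). Then every finite chain of points y_0, y_1, …, y_n of Y, in which y_j is a specialization of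
y_i whenever i ≤ j, lifts to a chain in X: there are points x_0, …, x_n of X with x_j a
specialization of x_i for i ≤ j and f(x_i) = y_i for every i. (The published statement is for
universally subtrusive f, which adds submersiveness for the constructible topologies, and for
arbitrary chains having a lower bound in Y; this row keeps the pair-lifting property alone and
finite chains, whose most special member is a lower bound.) -/
theorem result {X Y : Scheme.{u}} (f : X ⟶ Y)
    (hf : Subtr.UnivSSubtrusive f) (n : ℕ) (y : Fin (n + 1) → Y)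
    (hy : ∀ i j : Fin (n + 1), i ≤ j → y i ⤳ y j) :
    ∃ x : Fin (n + 1) → X, (∀ i j : Fin (n + 1), i ≤ j → x i ⤳ x j) ∧ ∀ i, f (x i) = y i := by
  classical
  -- an affine open neighbourhood of the most special point
  obtain ⟨_, ⟨U, hU, rfl⟩, hyU, -⟩ := Y.isBasis_affineOpens.exists_subset_of_mem_open
    (Set.mem_univ (y (Fin.last n))) isOpen_univ
  have hU : IsAffineOpen U := hU
  have hyi : ∀ i, y i ∈ U := fun i =>
    (hy i (Fin.last n) (Fin.le_last i)).mem_open U.isOpen hyU
  let p : Fin (n + 1) → PrimeSpectrum Γ(Y, U) := fun i => hU.primeIdealOf ⟨y i, hyi i⟩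
  have hp : Monotone p := by
    intro i j hij
    rw [PrimeSpectrum.le_iff_specializes]
    have h1 : (⟨y i, hyi i⟩ : U) ⤳ ⟨y j, hyi j⟩ := (subtype_specializes_iff _ _).mpr (hy i j hij)
    exact h1.map hU.isoSpec.hom.continuous
  obtain ⟨V, _, _, _, φ, q, hq, hqp⟩ :=
    Groth.Agent.Lib.R2Lead.ValChain.exists_valuationRing_chain n p hp
  let g : Spec (CommRingCat.of V) ⟶ Y := Spec.map (CommRingCat.ofHom φ) ≫ hU.fromSpec
  have hg : ∀ i, g (q i) = y i := by
    intro i
    have h1 : Spec.map (CommRingCat.ofHom φ) (q i) = p i := hqp i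
    change hU.fromSpec (Spec.map (CommRingCat.ofHom φ) (q i)) = y i
    rw [h1]
    exact hU.fromSpec_primeIdealOf ⟨y i, hyi i⟩
  obtain ⟨V', _, _, _, a, b, hb, hab⟩ :=
    (Groth.Agent.Lib.Helper10.SubtrVal.main2 f).mp hf V g
  choose σ hσ using hb.surj
  have hab' : ∀ z, f (a z) = g (b z) := fun z =>
    congrArg (fun m : Spec (CommRingCat.of V') ⟶ Y => m z) hab
  refine ⟨fun i => a (σ (q i)), ?_, ?_⟩
  · intro i j hij
    have hqij : q i ≤ q j := hq hij
    suffices h : σ (q i) ⤳ σ (q j) from h.map a.continuous
    rcases le_total (σ (q i) : PrimeSpectrum V').asIdeal (σ (q j) : PrimeSpectrum V').asIdeal with h | h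
    · exact (PrimeSpectrum.le_iff_specializes _ _).mp h
    · have h1 : σ (q j) ⤳ σ (q i) := (PrimeSpectrum.le_iff_specializes _ _).mp h
      have h2 : b (σ (q j)) ⤳ b (σ (q i)) := h1.map b.continuous
      rw [hσ, hσ] at h2
      have h3 : q j ≤ q i := (PrimeSpectrum.le_iff_specializes _ _).mpr h2
      have h4 : q i = q j := le_antisymm hqij h3
      rw [h4]
  · intro i
    rw [hab', hσ, hg]

end Groth.Agent.S19530
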