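import Groth.Statements.S14783
import Mathlib
import Groth.Agent.Lib.R2LeadProConsSpec
import Groth.Agent.S19530

set_option autoImplicit false
universe u
open CategoryTheory CategoryTheory.Limits AlgebraicGeometry
open Subtr

namespace Groth.Agent.S14783

namespace Aux

/-- closure of the image of a retrocompact locally closed subset of a quasi-compact scheme in an
affine scheme consists of specializations of image points -/
theorem exists_specializes_of_mem_closure_image {X : Scheme.{u}} {A : CommRingCat.{u}}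
    [CompactSpace X] (f : X ⟶ Spec A) (T : Set X) (hT : IsLocallyClosed T)
    (hTr : IsRetrocompact T) (z : Spec A) (hz : z ∈ closure (f '' T)) :
    ∃ e ∈ f '' T, e ⤳ z := by
  classical
  let 𝒱 := X.affineOpenCover
  have hcov : (Set.univ : Set X) ⊆ ⋃ j, Set.range (𝒱.f j) := by
    intro x _
    obtain ⟨j, y, hy⟩ := 𝒱.openCover.exists_eq x
    exact Set.mem_iUnion.mpr ⟨j, y, hy⟩
  obtain ⟨t, ht⟩ := isCompact_univ.elim_finite_subcover (fun j => Set.range (𝒱.f j))
    (fun j => (𝒱.f j).isOpenEmbedding.isOpen_range) hcov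
  have hTeq : f '' T = ⋃ j ∈ t, (𝒱.f j ≫ f) '' ((𝒱.f j) ⁻¹' T) := by
    apply Set.Subset.antisymm
    · rintro _ ⟨x, hx, rfl⟩
      obtain ⟨j, hj, y, rfl⟩ := Set.mem_iUnion₂.mp (ht (Set.mem_univ x))
      exact Set.mem_iUnion₂.mpr ⟨j, hj, y, hx, rfl⟩
    · intro w hw
      obtain ⟨j, hj, y, hy, rfl⟩ := Set.mem_iUnion₂.mp hw
      exact ⟨𝒱.f j y, hy, rfl⟩
  rw [hTeq, Finset.closure_biUnion] at hz
  obtain ⟨j, hj, hzj⟩ := Set.mem_iUnion₂.mp hz
  obtain ⟨φ, hφ⟩ := Spec.map_surjective (𝒱.f j ≫ f)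
  have hTj : IsLocallyClosed ((𝒱.f j) ⁻¹' T) := hT.preimage (𝒱.f j).continuous
  have hTjc : IsCompact ((𝒱.f j) ⁻¹' T) :=
    (hTr.preimage_of_isOpenEmbedding (𝒱.f j).isOpenEmbedding).isCompact
  have hfun : ∀ S : Set (Spec (𝒱.X j)), (𝒱.f j ≫ f) '' S = PrimeSpectrum.comap φ.hom '' S := by
    intro S
    rw [← hφ]
    rfl
  rw [hfun] at hzj
  obtain ⟨e, he, hez⟩ := Groth.Agent.Lib.R2Lead.ProConsSpec.exists_specializes_of_mem_closure_image
    φ.hom ((𝒱.f j) ⁻¹' T) hTj hTjc z hzj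
  refine ⟨e, ?_, hez⟩
  rw [hTeq]
  refine Set.mem_iUnion₂.mpr ⟨j, hj, ?_⟩
  rw [hfun]
  exact he

theorem isLocallyClosed_of_preimage_affine {X : Scheme.{u}} {A : CommRingCat.{u}}
    (f : X ⟶ Spec A) [QuasiCompact f] (hf : Subtr.UnivSSubtrusive f) (E : Set (Spec A))
    (hE : IsLocallyClosed (f ⁻¹' E)) (hEr : IsRetrocompact (f ⁻¹' E)) :
    IsLocallyClosed E := by
  haveI : CompactSpace X := QuasiCompact.compactSpace_of_compactSpace f
  -- chain lifting
  have hchain : ∀ y₀ y₁ y₂ : Spec A, y₀ ⤳ y₁ → y₁ ⤳ y₂ →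
      ∃ x₀ x₁ x₂ : X, x₀ ⤳ x₁ ∧ x₁ ⤳ x₂ ∧ f x₀ = y₀ ∧ f x₁ = y₁ ∧ f x₂ = y₂ := by
    intro y₀ y₁ y₂ h01 h12
    obtain ⟨x, hx, hfx⟩ := Groth.Agent.S19530.result f hf 2 ![y₀, y₁, y₂] (by
      intro i j hij
      fin_cases i <;> fin_cases j <;> simp at hij ⊢ <;>
        first | exact h01 | exact h12 | exact h01.trans h12 | exact specializes_rfl | omega)
    refine ⟨x 0, x 1, x 2, hx 0 1 (by decide), hx 1 2 (by decide), ?_, ?_, ?_⟩
    · simpa using hfx 0
    · simpa using hfx 1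
    · simpa using hfx 2
  have hsurj : ∀ y : Spec A, ∃ x : X, f x = y := by
    intro y
    obtain ⟨x, _, _, _, _, h, _, _⟩ := hchain y y y specializes_rfl specializes_rfl
    exact ⟨x, h⟩
  set E' := f ⁻¹' E with hE'
  have himgE : f '' E' = E := Set.image_preimage_eq_of_subset (fun y _ => hsurj y)
  set D' := closure E' \ E' with hD'
  have hD'closed : IsClosed D' := by
    have := hE.isOpen_coborder
    rw [coborder] at this
    exact isOpen_compl_iff.mp this
  set D := f '' D' with hD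
  -- Claim 0
  have hcl0 : ∀ z ∈ closure E, ∃ e ∈ E, e ⤳ z := by
    intro z hz
    rw [← himgE] at hz
    obtain ⟨e, he, hez⟩ := exists_specializes_of_mem_closure_image f E' hE hEr z hz
    rw [himgE] at he
    exact ⟨e, he, hez⟩
  -- D avoids E
  have hDE : ∀ d ∈ D, d ∉ E := by
    rintro _ ⟨d', hd', rfl⟩ hd
    exact hd'.2 hd
  -- closure E \ E ⊆ D
  have hsub : ∀ z ∈ closure E, z ∉ E → z ∈ D := by
    intro z hz hzE
    obtain ⟨e, he, hez⟩ := hcl0 z hz
    obtain ⟨x₀, x₁, _, h01, _, hf0, hf1, _⟩ := hchain e z z hez specializes_rfl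
    have hx0 : x₀ ∈ E' := by
      show f x₀ ∈ E
      rw [hf0]; exact he
    have hx1 : x₁ ∈ closure E' := h01.mem_closed isClosed_closure (subset_closure hx0)
    have hx1' : x₁ ∉ E' := by
      intro h
      apply hzE
      have : f x₁ ∈ E := h
      rwa [hf1] at this
    exact ⟨x₁, ⟨hx1, hx1'⟩, hf1⟩
  -- D is closed
  have hDclosed : IsClosed D := by
    have hspec : ∀ z ∈ closure D, ∃ d ∈ D, d ⤳ z := fun z hz =>
      exists_specializes_of_mem_closure_image f D' hD'closed.isLocallyClosed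
        (by
          intro U hU hUo
          exact (hU.inter_left hD'closed)) z hz
    rw [← closure_subset_iff_isClosed]
    intro z hz
    obtain ⟨d, hd, hdz⟩ := hspec z hz
    -- d ∈ closure E
    have hdcl : d ∈ closure E := by
      obtain ⟨d', hd', rfl⟩ := hd
      have : f d' ∈ f '' closure E' := ⟨d', hd'.1, rfl⟩
      have h2 := image_closure_subset_closure_image f.continuous this
      rwa [himgE] at h2
    have hzcl : z ∈ closure E := hdz.mem_closed isClosed_closure hdcl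
    by_contra hzD
    have hzE : z ∈ E := by
      by_contra h
      exact hzD (hsub z hzcl h)
    obtain ⟨e, he, hed⟩ := hcl0 d hdcl
    obtain ⟨x₀, x₁, x₂, h01, h12, hf0, hf1, hf2⟩ := hchain e d z hed hdz
    have hx0 : x₀ ∈ E' := by
      show f x₀ ∈ E
      rw [hf0]; exact he
    have hx1 : x₁ ∈ D' := by
      refine ⟨h01.mem_closed isClosed_closure (subset_closure hx0), ?_⟩
      intro h
      have : f x₁ ∈ E := h
      rw [hf1] at this
      exact hDE d hd this
    have hx2 : x₂ ∈ D' := h12.mem_closed hD'closed hx1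
    have : f x₂ ∉ E := fun h => hx2.2 h
    rw [hf2] at this
    exact this hzE
  have hEeq : E = closure E ∩ Dᶜ := by
    apply Set.Subset.antisymm
    · intro e he
      exact ⟨subset_closure he, fun hd => hDE e hd he⟩
    · rintro z ⟨hz, hzD⟩
      by_contra h
      exact hzD (hsub z hz h)
  rw [hEeq]
  exact isClosed_closure.isLocallyClosed.inter hDclosed.isOpen_compl.isLocallyClosed


theorem isRetrocompact_preimage {S' S : Scheme.{u}} (f : S' ⟶ S) (E : Set S)
    (hE : IsLocallyClosed E) (hEr : IsRetrocompact E) : IsRetrocompact (f ⁻¹' E) := by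
  classical
  intro W hW hWo
  obtain ⟨O, C, hO, hC, rfl⟩ := hE
  have hloc : ∀ x ∈ W, ∃ V : S'.Opens, x ∈ V ∧ (V : Set S') ⊆ W ∧
      IsCompact (f ⁻¹' (O ∩ C) ∩ V) := by
    intro x hx
    obtain ⟨_, ⟨U, hU, rfl⟩, hfxU, -⟩ := S.isBasis_affineOpens.exists_subset_of_mem_open
      (Set.mem_univ (f x)) isOpen_univ
    have hU' : IsAffineOpen U := hU
    have hopen : IsOpen ((f ⁻¹ᵁ U : Set S') ∩ W) := (f ⁻¹ᵁ U).2.inter hWo
    obtain ⟨_, ⟨V, hV, rfl⟩, hxV, hVsub⟩ := S'.isBasis_affineOpens.exists_subset_of_mem_open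
      (⟨hfxU, hx⟩ : x ∈ (f ⁻¹ᵁ U : Set S') ∩ W) hopen
    have hV' : IsAffineOpen V := hV
    have hVU : V ≤ f ⁻¹ᵁ U := fun y hy => (hVsub hy).1
    refine ⟨V, hxV, fun y hy => (hVsub hy).2, ?_⟩
    have hEU : IsCompact (O ∩ C ∩ U) := hEr hU'.isCompact U.2
    obtain ⟨K, hKc, hKo, hEK, hKsub⟩ := PrespectralSpace.exists_isCompact_and_isOpen_between hEU
      (hO.inter U.2) (by intro y hy; exact ⟨hy.1.1, hy.2⟩)
    have hKV : IsCompact (f ⁻¹' K ∩ V) := by
      haveI : IsAffine ↑V := hV'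
      haveI : IsAffine ↑U := hU'
      let g := f.resLE U V hVU
      have hg : g ≫ (Scheme.Opens.ι U) = (Scheme.Opens.ι V) ≫ f := Scheme.Hom.resLE_comp_ι f hVU
      have hg' : ∀ y, (Scheme.Opens.ι U) (g y) = f ((Scheme.Opens.ι V) y) := fun y =>
        congrArg (fun m : (↑V : Scheme) ⟶ S => m y) hg
      have hK0 : IsCompact ((Scheme.Opens.ι U) ⁻¹' K) :=
        ((Scheme.Opens.ι U).isOpenEmbedding.isInducing.isCompact_preimage_iff (by
          rw [Scheme.Opens.range_ι]; exact fun y hy => (hKsub hy).2)).mpr hKc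
      have h1 : IsCompact (g ⁻¹' ((Scheme.Opens.ι U) ⁻¹' K)) :=
        QuasiCompact.isCompact_preimage (f := g) _ (hKo.preimage (Scheme.Opens.ι U).continuous) hK0
      have h2 : (Scheme.Opens.ι V) '' (g ⁻¹' ((Scheme.Opens.ι U) ⁻¹' K)) = f ⁻¹' K ∩ V := by
        apply Set.Subset.antisymm
        · rintro _ ⟨y, hy, rfl⟩
          refine ⟨?_, y.2⟩
          show f ((Scheme.Opens.ι V) y) ∈ K
          rw [← hg']
          exact hy
        · rintro y ⟨hyK, hyV⟩
          refine ⟨⟨y, hyV⟩, ?_, rfl⟩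
          show (Scheme.Opens.ι U) (g ⟨y, hyV⟩) ∈ K
          rw [hg']
          exact hyK
      rw [← h2]
      exact h1.image (Scheme.Opens.ι V).continuous
    have heq : f ⁻¹' (O ∩ C) ∩ V = f ⁻¹' C ∩ (f ⁻¹' K ∩ V) := by
      ext y
      constructor
      · rintro ⟨⟨hyO, hyC⟩, hyV⟩
        exact ⟨hyC, hEK ⟨⟨hyO, hyC⟩, hVU hyV⟩, hyV⟩
      · rintro ⟨hyC, hyK, hyV⟩
        exact ⟨⟨(hKsub hyK).1, hyC⟩, hyV⟩
    rw [heq]
    exact hKV.inter_left (hC.preimage f.continuous)
  choose! V hxV hVW hVc using hloc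
  obtain ⟨t, ht, htcov⟩ := hW.elim_nhds_subcover (fun x => (V x : Set S'))
    (fun x hx => (V x).2.mem_nhds (hxV x hx))
  have heq : f ⁻¹' (O ∩ C) ∩ W = ⋃ x ∈ t, f ⁻¹' (O ∩ C) ∩ (V x : Set S') := by
    apply Set.Subset.antisymm
    · rintro y ⟨hyE, hyW⟩
      obtain ⟨x, hx, hyx⟩ := Set.mem_iUnion₂.mp (htcov hyW)
      exact Set.mem_iUnion₂.mpr ⟨x, hx, hyE, hyx⟩
    · intro y hy
      obtain ⟨x, hx, hyE, hyx⟩ := Set.mem_iUnion₂.mp hy
      exact ⟨hyE, hVW x (ht x hx) hyx⟩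
  rw [heq]
  exact t.isCompact_biUnion (fun x hx => hVc x (ht x hx))

end Aux

/-- Let f : S' ⟶ S be a quasi-compact morphism of schemes every base change of which has the lifting
property for ordered pairs of points, and E ⊆ S any subset. For E to be both locally closed and
retrocompact it is necessary and sufficient that f⁻¹(E) be both. -/
theorem result {S' S : Scheme.{u}} (f : S' ⟶ S)
    [QuasiCompact f] (hf : Subtr.UnivSSubtrusive f) (E : Set S) :
    (IsLocallyClosed E ∧ IsRetrocompact E) ↔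
      (IsLocallyClosed (f ⁻¹' E) ∧ IsRetrocompact (f ⁻¹' E)) := by
  constructor
  · rintro ⟨hE, hEr⟩
    exact ⟨hE.preimage f.continuous, Aux.isRetrocompact_preimage f E hE hEr⟩
  · rintro ⟨hE, hEr⟩
    have hsurj : ∀ y : S, ∃ x : S', f x = y := by
      intro y
      obtain ⟨x, _, hx⟩ := Groth.Agent.S19530.result f hf 0 (fun _ => y)
        (fun _ _ _ => specializes_rfl)
      exact ⟨x 0, hx 0⟩
    constructor
    · -- locally closed
      have key : IsLocallyClosed E ↔ ∀ x ∈ E, ∃ U, x ∈ U ∧ IsOpen U ∧ U ∩ closure E ⊆ E :=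
        (isLocallyClosed_tfae E).out 0 3
      rw [key]
      intro x hx
      let 𝒲 := S.affineOpenCover
      obtain ⟨j, x₀, hx₀⟩ := 𝒲.openCover.exists_eq x
      let ι : Spec (𝒲.X j) ⟶ S := 𝒲.f j
      have hfj : Subtr.UnivSSubtrusive (pullback.snd f ι) :=
        MorphismProperty.pullback_snd
          (P := MorphismProperty.universally fun _ _ f => Subtr.IsSSubtrusive f) f ι hf
      have hpre : (pullback.snd f ι) ⁻¹' (ι ⁻¹' E) = (pullback.fst f ι) ⁻¹' (f ⁻¹' E) := by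
        ext w
        have : ι ((pullback.snd f ι) w) = f ((pullback.fst f ι) w) :=
          (congrArg (fun m : pullback f ι ⟶ S => m w) pullback.condition).symm
        show ι ((pullback.snd f ι) w) ∈ E ↔ f ((pullback.fst f ι) w) ∈ E
        rw [this]
      have h1 : IsLocallyClosed ((pullback.snd f ι) ⁻¹' (ι ⁻¹' E)) := by
        rw [hpre]
        exact hE.preimage (pullback.fst f ι).continuous
      have h2 : IsRetrocompact ((pullback.snd f ι) ⁻¹' (ι ⁻¹' E)) := by
        rw [hpre]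
        exact hEr.preimage_of_isOpenEmbedding (pullback.fst f ι).isOpenEmbedding
      have hEj : IsLocallyClosed (ι ⁻¹' E) :=
        Aux.isLocallyClosed_of_preimage_affine (pullback.snd f ι) hfj _ h1 h2
      have key' : IsLocallyClosed (ι ⁻¹' E) ↔
          ∀ x ∈ ι ⁻¹' E, ∃ U, x ∈ U ∧ IsOpen U ∧ U ∩ closure (ι ⁻¹' E) ⊆ ι ⁻¹' E :=
        (isLocallyClosed_tfae (ι ⁻¹' E)).out 0 3
      obtain ⟨U₀, hx₀U, hU₀, hsub⟩ := key'.mp hEj x₀
        (by
          have h0 : ι x₀ = x := hx₀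
          show ι x₀ ∈ E
          rw [h0]; exact hx)
      refine ⟨ι '' U₀, ⟨x₀, hx₀U, (hx₀ : ι x₀ = x)⟩, ι.isOpenEmbedding.isOpenMap _ hU₀, ?_⟩
      rintro _ ⟨⟨y₀, hy₀, rfl⟩, hycl⟩
      have : y₀ ∈ closure (ι ⁻¹' E) :=
        ι.isOpenEmbedding.isOpenMap.preimage_closure_subset_closure_preimage hycl
      exact hsub ⟨hy₀, this⟩
    · -- retrocompact
      intro W hW hWo
      have h1 : IsCompact (f ⁻¹' W) := QuasiCompact.isCompact_preimage (f := f) W hWo hW
      have h2 : IsCompact (f ⁻¹' E ∩ f ⁻¹' W) := hEr h1 (hWo.preimage f.continuous)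
      have h3 : f '' (f ⁻¹' E ∩ f ⁻¹' W) = E ∩ W := by
        rw [← Set.preimage_inter]
        exact Set.image_preimage_eq_of_subset (fun y _ => hsurj y)
      rw [← h3]
      exact h2.image f.continuous

end Groth.Agent.S14783
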