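import Groth.Statements.S0642
import Groth.Agent.Lib.Helper8UnivInjEssImage

set_option autoImplicit false
open CategoryTheory CategoryTheory.Limits AlgebraicGeometry Opposite
universe u
open EtCore

namespace Groth.Agent.S0642

/-- Let X_0 -> X be integral, universally injective and surjective (a universal homeomorphism). Then for
every abelian sheaf F on the small etale site of X and every q the pullback map from H^q(X, F) to
H^q(X_0, F|_{X_0}) is bijective. (Exactness of pullback of abelian sheaves, which always holds, is
carried as an instance hypothesis.) -/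
theorem result {X₀ X : Scheme.{u}} (i : X₀ ⟶ X) [IsIntegralHom i]
    [UniversallyInjective i] [Surjective i] [PreservesFiniteLimits (EtCoh.pull i)] (F : EtCoh.Ab X) (q : ℕ) :
    Function.Bijective (EtCore.Hpull i F q) := by
  haveI := Groth.Agent.Lib.Helper8UnivInjPush.full_push i
  haveI := Groth.Agent.Lib.Helper8UnivInjPush.faithful_push i
  haveI : (EtCoh.push i).EssSurj := ⟨fun G =>
    (Groth.Agent.Lib.Helper8UnivInjEssImage.essImage_iff i G).2
      (fun y _ => (Surjective.surj (f := i) y))⟩
  haveI : (EtCoh.push i).IsEquivalence := { }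
  haveI : (EtCoh.pull i).IsEquivalence :=
    (EtCoh.pullPushAdj i).isEquivalence_left_of_isEquivalence_right
  have hb := Functor.mapExt_bijective_of_preservesInjectiveObjects (EtCoh.pull i)
    (EtCoh.const X ℤ) F q
  have hpre : Function.Bijective
      (fun e : Abelian.Ext ((EtCoh.pull i).obj (EtCoh.const X ℤ)) ((EtCoh.pull i).obj F) q =>
        (Abelian.Ext.mk₀ (EtCore.pullConst i ℤ).inv).comp e (zero_add q)) := by
    refine ⟨fun a b h => ?_, fun c =>
      ⟨(Abelian.Ext.mk₀ (EtCore.pullConst i ℤ).hom).comp c (zero_add q), ?_⟩⟩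
    · have h' := congrArg
        (fun e => (Abelian.Ext.mk₀ (EtCore.pullConst i ℤ).hom).comp e (zero_add q)) h
      simp only [Abelian.Ext.mk₀_comp_mk₀_assoc, Iso.hom_inv_id, Abelian.Ext.mk₀_id_comp] at h'
      exact h'
    · simp only [Abelian.Ext.mk₀_comp_mk₀_assoc, Iso.inv_hom_id, Abelian.Ext.mk₀_id_comp]
  exact hpre.comp hb

end Groth.Agent.S0642
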