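import Groth.Statements.S0129
import Groth.Agent.Lib.Helper8EtConstr

set_option autoImplicit false
universe u
open CategoryTheory CategoryTheory.Limits AlgebraicGeometry Opposite
open EtPBC

namespace Groth.Agent.S0129

/-- Abelian case: if X is covered by opens U_i and the restriction of F to each U_i is constructible,
then F is constructible. -/
theorem result {X : Scheme.{u}} (F : EtCoh.Ab X) {ι : Type u} (U : ι → X.Opens)
    (hU : ⨆ i, U i = ⊤) [∀ i, EtCoh.BCCont (U i).ι]
    (h : ∀ i, EtPBC.IsConstructible ((EtCoh.pull (U i).ι).obj F)) :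
    EtPBC.IsConstructible F := by
  open Groth.Agent.Lib.Helper8EtConstr in
  rw [isConstructible_iff]
  intro V hV
  haveI : IsAffine (V : Scheme.{u}) := hV
  haveI : QuasiSeparatedSpace ↥(V : Set X) := inferInstanceAs (QuasiSeparatedSpace (V : Scheme.{u}))
  obtain ⟨m, W, hW, hVW⟩ := exists_finite_affine_cover V hV.isCompact
    (fun W => ∃ i, W ≤ U i) (fun x hx => by
      have hx' : x ∈ ((⨆ i, U i : X.Opens) : Set X) := by rw [hU]; trivial
      obtain ⟨i, hi⟩ := TopologicalSpace.Opens.mem_iSup.mp hx'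
      obtain ⟨W, ⟨W', hW', rfl⟩, hxW, hWU⟩ :=
        (X.isBasis_affineOpens).exists_subset_of_mem_open
          (show x ∈ ((V ⊓ U i : X.Opens) : Set X) from ⟨hx, hi⟩) (V ⊓ U i).isOpen
      exact ⟨W', hW', hxW, fun y hy => (hWU hy).1, i, fun y hy => (hWU hy).2⟩)
  refine Strat.glue _ W (V : Set X) hVW (fun k => ?_) (fun k => ?_)
  · exact isRetrocompact_val_preimage (W k).isOpen (hW k).1.isCompact (hW k).2.1
  · obtain ⟨i, hWi⟩ := (hW k).2.2
    have haff : IsAffineOpen ((U i).ι ⁻¹ᵁ W k) :=
      (hW k).1.preimage_of_isOpenImmersion (U i).ι (by simpa using hWi)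
    have h1 := (isConstructible_iff _).mp (h i) _ haff
    have h2 := Strat.pushOpen F (U i) ((U i).ι ⁻¹ᵁ W k) h1
    have hr : Set.range (((U i).ι ⁻¹ᵁ W k).ι ≫ (U i).ι) = (W k : Set X) := by
      rw [range_comp']
      simp only [Scheme.Opens.range_ι, TopologicalSpace.Opens.map_coe]
      rw [Set.image_preimage_eq_inter_range, Scheme.Opens.range_ι]
      exact Set.inter_eq_left.mpr hWi
    rw [hr] at h2
    exact h2

end Groth.Agent.S0129
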