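import Groth.Statements.S0127
import Groth.Agent.Lib.Helper8EtConstr

set_option autoImplicit false
universe u
open CategoryTheory CategoryTheory.Limits AlgebraicGeometry Opposite
open EtPBC

namespace Groth.Agent.S0127

/-- Abelian case: if F is a constructible abelian sheaf on Y_et and f : X -> Y is any morphism of
schemes, then f^* F is constructible on X_et. -/
theorem result {X Y : Scheme.{u}} (f : X ⟶ Y) [EtCoh.BCCont f]
    (F : EtCoh.Ab Y) (hF : EtPBC.IsConstructible F) :
    EtPBC.IsConstructible ((EtCoh.pull f).obj F) := by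
  open Groth.Agent.Lib.Helper8EtConstr in
  rw [isConstructible_iff] at hF ⊢
  intro U hU
  haveI : IsAffine (U : Scheme.{u}) := hU
  haveI : QuasiSeparatedSpace ↥(U : Set X) := inferInstanceAs (QuasiSeparatedSpace (U : Scheme.{u}))
  obtain ⟨m, W, hW, hUW⟩ := exists_finite_affine_cover U hU.isCompact
    (fun W => ∃ V : Y.Opens, IsAffineOpen V ∧ W ≤ f ⁻¹ᵁ V) (fun x hx => by
      obtain ⟨V, ⟨V', hV', rfl⟩, hxV, -⟩ :=
        (Y.isBasis_affineOpens).exists_subset_of_mem_open (Set.mem_univ (f x)) isOpen_univ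
      obtain ⟨W, ⟨W', hW', rfl⟩, hxW, hWU⟩ :=
        (X.isBasis_affineOpens).exists_subset_of_mem_open
          (show x ∈ ((U ⊓ f ⁻¹ᵁ V' : X.Opens) : Set X) from ⟨hx, hxV⟩) (U ⊓ f ⁻¹ᵁ V').isOpen
      exact ⟨W', hW', hxW, fun y hy => (hWU hy).1, V', hV', fun y hy => (hWU hy).2⟩)
  refine Strat.glue _ W (U : Set X) hUW (fun k => ?_) (fun k => ?_)
  · exact isRetrocompact_val_preimage (W k).isOpen (hW k).1.isCompact (hW k).2.1
  · obtain ⟨V, hV, hWV⟩ := (hW k).2.2
    exact Strat.pullback f F (W k) V (hW k).1 hV hWV (hF V hV)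

end Groth.Agent.S0127
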