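import Groth.Statements.S0132
import Groth.Agent.Lib.Helper8EtConstr
import Groth.Agent.Lib.Helper8EtFLCExt

set_option autoImplicit false
universe u
open CategoryTheory CategoryTheory.Limits AlgebraicGeometry Opposite
open EtPBC

namespace Groth.Agent.S0132

/-- Let X be a scheme and n > 0 an integer. In a short exact sequence of abelian sheaves on X_ét whose
middle term is killed by n (so that it is a short exact sequence of sheaves of Z/n-modules) and
whose outer terms are constructible, the middle term is constructible. (The analogous statement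
without the torsion hypothesis on the middle term is not asserted here.) -/
theorem result {X : Scheme.{u}} (S : ShortComplex (EtCoh.Ab X)) (hS : S.ShortExact)
    (n : ℕ) (hn : 0 < n) (h2n : EtCoh.KilledBy n S.X₂)
    (h1 : EtPBC.IsConstructible S.X₁) (h3 : EtPBC.IsConstructible S.X₃) :
    EtPBC.IsConstructible S.X₂ := by
  open Groth.Agent.Lib.Helper8EtConstr Groth.Agent.Lib.Helper8EtFLCCrit
    Groth.Agent.Lib.Helper8EtFLCExt in
  rw [isConstructible_iff] at h1 h3 ⊢
  intro U hU
  obtain ⟨ι, hι, T, g, p1, p2, p3, p4, p5⟩ := Strat.common S.X₁ S.X₃ _ (h1 U hU) (h3 U hU)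
  refine ⟨ι, hι, T, g, p1, p2, p3, p4, fun i => ?_⟩
  haveI : PreservesFiniteLimits (EtCoh.pull (g i)) := Groth.Agent.S0101.result (g i)
  haveI : PreservesColimitsOfSize.{0, 0} (EtCoh.pull (g i)) :=
    (EtCoh.pullPushAdj (g i)).leftAdjoint_preservesColimits
  haveI : PreservesFiniteColimits (EtCoh.pull (g i)) := inferInstance
  haveI : (EtCoh.pull (g i)).PreservesZeroMorphisms :=
    haveI : (EtCoh.pull (g i)).IsLeftAdjoint := (EtCoh.pullPushAdj (g i)).isLeftAdjoint
    inferInstance
  exact FLC.extension (S.map (EtCoh.pull (g i))) (hS.map_of_exact (EtCoh.pull (g i)))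
    (p5 i).1 (p5 i).2

end Groth.Agent.S0132
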