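import Groth.Statements.S7225
import Groth.Agent.Lib.R2H3CotLoc

set_option autoImplicit false
universe u
open CategoryTheory CategoryTheory.Limits TensorProduct
attribute [local instance] HasDerivedCategory.standard
open FlatMor

namespace Groth.Agent.S7225


open Algebra in
/-- `CotangentSpace.map` of the same-variables morphism sends the canonical basis to the canonical basis. -/
lemma cotangentSpace_map_basis {A A' B : Type u} [CommRing A] [CommRing A'] [CommRing B]
    [Algebra A A'] [Algebra A' B] [Algebra A B] [IsScalarTower A A' B]
    {ι : Type u} (G : Algebra.Generators A B ι) (G' : Algebra.Generators A' B ι)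
    (h : ∀ i, G'.val i = algebraMap B B (G.val i)) (i : ι) :
    Algebra.Extension.CotangentSpace.map (NLCx.sameVarsHom (S' := B) G G' h).toExtensionHom
      (G.cotangentSpaceBasis i) = G'.cotangentSpaceBasis i := by
  classical
  apply G'.cotangentSpaceBasis.repr.injective
  ext j
  rw [Algebra.Generators.repr_CotangentSpaceMap]
  simp only [NLCx.sameVarsHom, MvPolynomial.pderiv_X, Module.Basis.repr_self]
  rw [Finsupp.single_apply, Pi.single_apply]
  by_cases hij : i = j
  · subst hij
    simp
  · simp [hij]

lemma cotangentSpace_map_bijective {A A' B : Type u} [CommRing A] [CommRing A'] [CommRing B]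
    [Algebra A A'] [Algebra A' B] [Algebra A B] [IsScalarTower A A' B]
    {ι : Type u} (G : Algebra.Generators A B ι) (G' : Algebra.Generators A' B ι)
    (h : ∀ i, G'.val i = algebraMap B B (G.val i)) :
    Function.Bijective
      (Algebra.Extension.CotangentSpace.map (NLCx.sameVarsHom (S' := B) G G' h).toExtensionHom) := by
  have : Algebra.Extension.CotangentSpace.map (NLCx.sameVarsHom (S' := B) G G' h).toExtensionHom =
      (G.cotangentSpaceBasis.equiv G'.cotangentSpaceBasis (Equiv.refl ι)).toLinearMap := by
    apply G.cotangentSpaceBasis.ext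
    intro i
    rw [cotangentSpace_map_basis]
    simp
  rw [this]
  exact LinearEquiv.bijective _


lemma cotangent_map_bijective (A A' B : Type u) [CommRing A] [CommRing A'] [CommRing B]
    [Algebra A A'] (M : Submonoid A) [IsLocalization M A'] [Algebra A' B] [Algebra A B] [IsScalarTower A A' B]
    {ι : Type u} (G : Algebra.Generators A B ι) (G' : Algebra.Generators A' B ι)
    (h : ∀ i, G'.val i = algebraMap B B (G.val i)) :
    Function.Bijective
      (Algebra.Extension.Cotangent.map (NLCx.sameVarsHom (S' := B) G G' h).toExtensionHom) := by
  letI alg : Algebra (MvPolynomial ι A) (MvPolynomial ι A') := MvPolynomial.algebraMvPolynomial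
  haveI loc : IsLocalization (M.map (MvPolynomial.C (σ := ι))) (MvPolynomial ι A') :=
    MvPolynomial.isLocalization M A'
  letI alg' : Algebra G.toExtension.Ring G'.toExtension.Ring := alg
  haveI loc' : @IsLocalization G.toExtension.Ring _ (M.map (MvPolynomial.C (σ := ι)))
    G'.toExtension.Ring _ alg' := loc
  refine Groth.Agent.Lib.R2H3.CotLoc.cotangent_map_bijective
    (NLCx.sameVarsHom (S' := B) G G' h).toExtensionHom (M.map (MvPolynomial.C (σ := ι))) ?_
  intro x
  change MvPolynomial.map (algebraMap A A') x = MvPolynomial.aeval (fun i => MvPolynomial.X i) x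
  induction x using MvPolynomial.induction_on with
  | C a => simp
  | add p q hp hq => simp [hp, hq]
  | mul_X p i hp => simp [hp]

lemma isIso_of_isZero' {C : Type*} [Category C] [HasZeroMorphisms C] {X Y : C} (f : X ⟶ Y)
    (hX : IsZero X) (hY : IsZero Y) : IsIso f :=
  ⟨⟨0, hX.eq_of_src _ _, hY.eq_of_src _ _⟩⟩

/-- Let A be a ring, M a submonoid of A, A' a localization of A at M and B an A'-algebra, viewed also as
an A-algebra. Let G be a presentation of B over A by a polynomial algebra and G' the presentation of
B over A' with the same generators (G'(i) = G(i), written through the identity algebra map of B).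
Then the canonical chain map NL(G) → NL(G') from the naive cotangent complex of the presentation
over A to that of the presentation over A' is an isomorphism of complexes (so that NL_{B/A} →
NL_{B/A'} is a homotopy equivalence). -/
theorem result (A A' B : Type u) [CommRing A] [CommRing A'] [CommRing B]
    [Algebra A A'] (M : Submonoid A) [IsLocalization M A'] [Algebra A' B] [Algebra A B] [IsScalarTower A A' B]
    {ι : Type u} (G : Algebra.Generators A B ι) (G' : Algebra.Generators A' B ι) (h : ∀ i, G'.val i = algebraMap B B (G.val i)) :
    IsIso (NLCx.map (NLCx.sameVarsHom (S' := B) G G' h).toExtensionHom) := by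
  have h1 := cotangent_map_bijective A A' B M G G' h
  have h2 := cotangentSpace_map_bijective G G' h
  have i1 : IsIso (ModuleCat.ofHom (Algebra.Extension.Cotangent.map
      (NLCx.sameVarsHom (S' := B) G G' h).toExtensionHom)) :=
    (ConcreteCategory.isIso_iff_bijective _).mpr h1
  have i2 : IsIso (ModuleCat.ofHom (Algebra.Extension.CotangentSpace.map
      (NLCx.sameVarsHom (S' := B) G G' h).toExtensionHom)) :=
    (ConcreteCategory.isIso_iff_bijective _).mpr h2
  have : ∀ n : ℤ, IsIso ((NLCx.map (NLCx.sameVarsHom (S' := B) G G' h).toExtensionHom).f n) := by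
    intro n
    by_cases hn0 : n = -1
    · subst hn0
      dsimp only [NLCx.map]
      erw [HomologicalComplex.mkHomFromDouble_f₀]
      exact @IsIso.comp_isIso _ _ _ _ _ _ _ (Iso.isIso_hom _)
        (@IsIso.comp_isIso _ _ _ _ _ _ _ i1 (Iso.isIso_inv _))
    · by_cases hn1 : n = 0
      · subst hn1
        dsimp only [NLCx.map]
        erw [HomologicalComplex.mkHomFromDouble_f₁]
        exact @IsIso.comp_isIso _ _ _ _ _ _ _ (Iso.isIso_hom _)
          (@IsIso.comp_isIso _ _ _ _ _ _ _ i2 (Iso.isIso_inv _))
      · exact isIso_of_isZero' _ (HomologicalComplex.isZero_double_X _ _ n hn0 hn1)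
          (HomologicalComplex.isZero_double_X _ _ n hn0 hn1)
  exact HomologicalComplex.Hom.isIso_of_components _

end Groth.Agent.S7225
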