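import Groth.Statements.S19433
import Mathlib
import Groth.Agent.Lib.R2LeadKRR2

set_option autoImplicit false
universe u
open KRR

namespace Groth.Agent.S19433

open CategoryTheory CategoryTheory.Limits AlgebraicGeometry in
/-- Let T be any scheme, p : P^n_T ⟶ T the projection, and 0 ⟶ F' ⟶ F ⟶ F'' ⟶ 0 a short exact sequence
of quasi-coherent O-modules on P^n_T; 'regular' means regular relative to p in the sense of
Castelnuovo and Mumford, R^i p_*(G(-i)) = 0 for all i ≥ 1 (higher direct images of the underlying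
abelian sheaves), and G(d) = O(d) ⊗ G. If F(1) and F'' are regular and the induced map p_* F ⟶ p_*
F'' is an epimorphism of O_T-modules, then F'(1) is regular. The source states this for m-regularity
of the twists F(n+1), F''(n), F'(n+1), with p_*(F(n)) ⟶ p_*(F''(n)) onto, over the projective bundle
of any vector bundle; stated here for m = 0, n = 0 and P^n_T. -/
theorem result (n : ℕ) (T : Scheme.{u}) (S : ShortComplex (KRR.PY n T).Modules)
    (hS : S.ShortExact) (h₁ : Coh.IsQCoh S.X₁) (h₂ : Coh.IsQCoh S.X₂) (h₃ : Coh.IsQCoh S.X₃)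
    (hreg₂ : KRR.IsRegSheaf n T (KRR.twF n T 1 S.X₂)) (hreg₃ : KRR.IsRegSheaf n T S.X₃)
    (hepi : Epi ((Scheme.Modules.pushforward (KRR.pr n T)).map S.g)) :
    KRR.IsRegSheaf n T (KRR.twF n T 1 S.X₁) := by
  intro i hi
  have hS1 : (S.map (Groth.Agent.Lib.R2Lead.KRR.twFun n T 1)).ShortExact :=
    Groth.Agent.Lib.R2Lead.TensorExact.shortExact_map_tensorBi_of_isInvertible _
      (Groth.Agent.Lib.R2Lead.KRR.isInvertible_twistOver n T 1) S hS
  obtain ⟨j, rfl⟩ : ∃ j, i = j + 1 := ⟨i - 1, by omega⟩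
  have h2 := Groth.Agent.Lib.R2Lead.KRR.shortExact_toAb_twFun n T (-(((j + 1 : ℕ)) : ℤ)) _ hS1
  rcases Nat.eq_zero_or_pos j with rfl | hj
  · exact Groth.Agent.Lib.R2Lead.KRR2.isZero_rd_succ_X₁_of_epi (Coh.pushAb (KRR.pr n T)) _ h2 0
      (Groth.Agent.Lib.R2Lead.KRR2.epi_rightDerived_zero_twist n T S.g hepi) (hreg₂ (0 + 1) le_rfl)
  · obtain ⟨e⟩ := Groth.Agent.Lib.R2Lead.KRR.nonempty_twFun_comp_iso n T (-(((j + 1 : ℕ)) : ℤ)) 1
    have hcast : (-(((j + 1 : ℕ)) : ℤ) + 1) = -(j : ℤ) := by push_cast; ring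
    rw [hcast] at e
    have hz := hreg₃ j hj
    have hz' : CategoryTheory.Limits.IsZero ((Coh.RpushAb (KRR.pr n T) j).obj
        (Coh.toAb ((Groth.Agent.Lib.R2Lead.KRR.twFun n T (-(((j + 1 : ℕ)) : ℤ))).obj
          ((Groth.Agent.Lib.R2Lead.KRR.twFun n T 1).obj S.X₃)))) :=
      CategoryTheory.Limits.IsZero.of_iso hz
        ((Coh.RpushAb (KRR.pr n T) j).mapIso
          ((Groth.Agent.Lib.Helper23.QCohLocal.toAbF (KRR.PY n T)).mapIso (e.app S.X₃)))
    exact Groth.Agent.Lib.Helper17.DS.isZero_rd_X₁ (Coh.pushAb (KRR.pr n T)) _ h2 j hz'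
      (hreg₂ (j + 1) (by omega))

end Groth.Agent.S19433
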