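import Groth.Statements.S5744
import Groth.Agent.Lib.Helper23QCohSum

set_option autoImplicit false
universe u
open Coherent

namespace Groth.Agent.S5744

open CategoryTheory CategoryTheory.Limits AlgebraicGeometry TopologicalSpace Opposite

attribute [local instance] Abelian.hasFiniteBiproducts

theorem isQCoh_piObj {X : Scheme.{u}} {J : Type u} [Finite J] (G : J → X.Modules) [HasProduct G]
    (h : ∀ j, (G j).IsQuasicoherent) : (∏ᶜ G).IsQuasicoherent := by
  obtain ⟨n, ⟨e⟩⟩ := Finite.exists_equiv_fin J
  haveI : HasProduct (G ∘ e.symm) := inferInstance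
  have e1 : ∏ᶜ (G ∘ e.symm) ≅ ∏ᶜ G := Pi.reindex e.symm G
  have e2 : ⨁ (G ∘ e.symm) ≅ ∏ᶜ (G ∘ e.symm) := biproduct.isoProduct _
  have h3 := Groth.Agent.Lib.Helper23.QCohLocal.isQuasicoherent_biproduct (G ∘ e.symm) (fun k => h _)
  exact (SheafOfModules.isQuasicoherent X.ringCatSheaf).prop_of_iso (e2 ≪≫ e1) h3

theorem quasiCompact_ι_of_isAffineOpen {X : Scheme.{u}} [X.IsSeparated] {W : X.Opens}
    (hW : IsAffineOpen W) : QuasiCompact W.ι := by
  haveI : IsAffine W := hW
  haveI : IsAffineHom (W.ι ≫ terminal.from X) := by rw [terminal.comp_from]; infer_instance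
  haveI : IsAffineHom W.ι := IsAffineHom.of_comp W.ι (terminal.from X)
  infer_instance

theorem isQCoh_pushRestr {X : Scheme.{u}} (W : X.Opens) [QuasiCompact W.ι] (F : X.Modules)
    [F.IsQuasicoherent] : ((CechOX.pushRestr W).obj F).IsQuasicoherent := by
  haveI : ((Scheme.Modules.restrictFunctor W.ι).obj F).IsQuasicoherent :=
    Scheme.Modules.isQuasicoherent_restrictFunctor W.ι F
  exact Groth.Agent.Lib.Helper23.QCohLocal.isQuasicoherent_pushforward W.ι _

theorem isAffineOpen_piObj {X : Scheme.{u}} [X.IsSeparated] {J : Type} [Finite J] [Nonempty J]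
    (V : J → X.Opens) (hV : ∀ j, IsAffineOpen (V j)) : IsAffineOpen (∏ᶜ V) := by
  have e : ∏ᶜ V = ⨅ j, V j :=
    le_antisymm (le_iInf fun j => (Pi.π V j).le) (Pi.lift (fun j => homOfLE (iInf_le V j))).le
  rw [e]
  exact IsAffineOpen.iInf hV


open AlgebraicGeometry CategoryTheory in
/-- For the Čech complex of sheaves indexed by all ordered tuples with products as terms; over a finite
index type these terms are finite direct sums. Let X be a separated scheme, (U_i)_{i ∈ ι} a finite
family of affine opens covering X, and F a quasi-coherent O_X-module. Then for every p the degree-p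
term of the Čech complex of sheaves 𝔠(𝒰, F), the product over ordered (p+1)-tuples of the direct
images (j_{i_0…i_p})_*(F|_{U_{i_0…i_p}}), is a quasi-coherent O_X-module. -/
theorem result {X : Scheme.{u}} [X.IsSeparated] {ι : Type u}
    [Finite ι] (𝒰 : ι → X.Opens) (h𝒰 : ∀ i, IsAffineOpen (𝒰 i)) (hcov : ⨆ i, 𝒰 i = ⊤)
    (F : X.Modules) [Coh.IsQCoh F] (p : ℕ) :
    Coh.IsQCoh (((CechOX.cechSh 𝒰).obj F).X p) := by
  dsimp only [CechOX.cechSh, cechComplexFunctor, Functor.comp_obj]
  rw [FormalCoproduct.cochainComplexFunctor_obj_X]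
  dsimp only [FormalCoproduct.cech, FormalCoproduct.power]
  haveI : Finite (ToType (SimplexCategory.mk p) → ι) := by
    change Finite (Fin (p + 1) → ι)
    infer_instance
  refine isQCoh_piObj _ (fun i => ?_)
  haveI : Nonempty (ToType (SimplexCategory.mk p)) := by
    change Nonempty (Fin (p + 1))
    infer_instance
  haveI : Finite (ToType (SimplexCategory.mk p)) := by
    change Finite (Fin (p + 1))
    infer_instance
  haveI := quasiCompact_ι_of_isAffineOpen (isAffineOpen_piObj (𝒰 ∘ i) (fun a => h𝒰 _))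
  exact isQCoh_pushRestr _ F

end Groth.Agent.S5744
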