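import Groth.Statements.S2128
import Groth.Agent.Lib.R2H3FPColim

set_option autoImplicit false
universe u
open CategoryTheory AlgebraicGeometry
open Mor

namespace Groth.Agent.S2128

/-- Let `X` be quasi-compact and quasi-separated and `F` a quasi-coherent `O_X`-module. Then `F` is the
colimit of a filtered diagram of finitely presented `O_X`-modules: there are a small filtered
category `I`, a diagram of finitely presented modules and a colimit cocone with vertex `F`. -/
theorem result (X : Scheme.{u}) [CompactSpace X] [QuasiSeparatedSpace X] (F : X.Modules)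
    (hF : Coh.IsQCoh F) :
    ∃ (I : Type u) (_ : SmallCategory I) (_ : IsFiltered I) (D : I ⥤ X.Modules) (c : Limits.Cocone D)
      (_ : Limits.IsColimit c), (∀ i, CohB1.IsFP (D.obj i)) ∧ c.pt = F := by
  classical
  have hFq : F.IsQuasicoherent := hF
  have : IsGrothendieckAbelian.{u} X.Modules := Groth.Agent.S0484.result _ X.ringCatSheaf
  have : WellPowered.{u} X.Modules := IsGrothendieckAbelian.wellPowered _
  -- a family of finitely presented modules hitting every section over an affine open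
  have key : ∀ σ : (Sigma fun V : X.affineOpens => Γ(F, V.1)), ∃ (G : X.Modules) (φ : G ⟶ F),
      G.IsQuasicoherent ∧ SheafOfModules.IsFinitePresentation (R := X.ringCatSheaf) G ∧
      ∃ b : Γ(G, σ.1.1), φ.app σ.1.1 b = σ.2 := by
    intro σ
    obtain ⟨G', i, hi, hq, hf, a', ha'⟩ := Groth.Agent.S9819.result F σ.1 σ.2
    have hq' : G'.IsQuasicoherent := hq
    have hf' : SheafOfModules.IsFiniteType (R := X.ringCatSheaf) G' := hf
    obtain ⟨G, φ₀, hGq, hGf, hepi⟩ := Groth.Agent.Lib.R2H3.FPQuot.exists_fp_epi G'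
    have := hGq
    have := hepi
    obtain ⟨b, hb⟩ := Groth.Agent.Lib.Helper23.FinType.surjective_app_of_epi φ₀ σ.1.2 a'
    refine ⟨G, φ₀ ≫ i, hGq, hGf, b, ?_⟩
    change i.app σ.1.1 (φ₀.app σ.1.1 b) = σ.2
    rw [hb]
    exact ha'
  choose G φ hGq hGf b hb using key
  have hsec : ∀ (V : X.Opens), IsAffineOpen V → ∀ a : Γ(F, V),
      ∃ (s : Sigma fun V : X.affineOpens => Γ(F, V.1)) (b' : Γ(G s, V)), (φ s).app V b' = a :=
    fun V hV a => ⟨⟨⟨V, hV⟩, a⟩, b ⟨⟨V, hV⟩, a⟩, hb ⟨⟨V, hV⟩, a⟩⟩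
  -- the index set is small
  let α : Type (u + 1) := Groth.Agent.Lib.R2H3.FPColim.Idx G φ
  let β : Type (u + 1) := Sigma fun T : Finset (Sigma fun V : X.affineOpens => Γ(F, V.1)) =>
    {B : Subobject (Limits.kernel (Groth.Agent.Lib.R2H3.FPColim.φT G φ T) : X.Modules) //
      Groth.Agent.Lib.R2H3.FPDirected.FTSub (Limits.kernel (Groth.Agent.Lib.R2H3.FPColim.φT G φ T) : X.Modules) B}
  have : Small.{u} β := inferInstance
  let f : α → β := fun x => ⟨x.T, ⟨x.B, x.hB⟩⟩
  have hf : Function.Injective f := by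
    rintro ⟨T, B, hB⟩ ⟨T', B', hB'⟩ h
    cases h
    rfl
  have : Small.{u} α := small_of_injective hf
  let e : Shrink.{u} α → α := (equivShrink α).symm
  let _ : Preorder (Shrink.{u} α) :=
    { le := fun j j' => Groth.Agent.Lib.R2H3.FPColim.Idx.le (e j) (e j')
      le_refl := fun j => Groth.Agent.Lib.R2H3.FPColim.Idx.le_refl _
      le_trans := fun _ _ _ h₁ h₂ => Groth.Agent.Lib.R2H3.FPColim.Idx.le_trans h₁ h₂ }
  have hcof : ∀ x : α, ∃ j : Shrink.{u} α, Groth.Agent.Lib.R2H3.FPColim.Idx.le x (e j) := fun x =>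
    ⟨equivShrink α x, by
      have : e (equivShrink α x) = x := Equiv.symm_apply_apply _ _
      rw [this]
      exact Groth.Agent.Lib.R2H3.FPColim.Idx.le_refl x⟩
  obtain ⟨hdir, hne, D, ι, ⟨hcol⟩, hfp⟩ := Groth.Agent.Lib.R2H3.FPColim.exists_colimit_of_family
    (G := G) (φ := φ) hGq hGf hsec (Shrink.{u} α) e (fun _ _ => Iff.rfl) hcof
  exact ⟨Shrink.{u} α, inferInstance, isFiltered_of_directed_le_nonempty _, D, Limits.Cocone.mk F ι, hcol, hfp, rfl⟩

end Groth.Agent.S2128
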