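import Groth.Statements.S5952
import Groth.Agent.Lib.R2H3PullGen
import Groth.Agent.Lib.R2H3ComapPow
import Groth.Agent.Lib.R2H3IdealModFin
import Groth.Agent.Lib.Helper20EffCartier

set_option autoImplicit false
universe u
open CategoryTheory CategoryTheory.Limits AlgebraicGeometry TopologicalSpace Opposite
open Nrm16

namespace Groth.Agent.S5952

open Groth.Agent.Lib.R2H3

/-- the closed subscheme of a pulled back ideal maps to the closed subscheme of the ideal -/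
theorem exists_subscheme_map {X' X : Scheme.{u}} (v : X' ⟶ X) (K : X.IdealSheafData)
    (K' : X'.IdealSheafData) (hK : K' = K.comap v) :
    ∃ w : K'.subscheme ⟶ K.subscheme, w ≫ K.subschemeι = K'.subschemeι ≫ v := by
  subst hK
  refine ⟨(K.comapIso v).hom ≫ pullback.snd _ _, ?_⟩
  rw [Category.assoc, ← pullback.condition, Scheme.IdealSheafData.comapIso_hom_fst_assoc]

theorem app_eq_zero_of_eq {A B : Scheme.{u}} (g g' : A ⟶ B) (e : g = g') (U : B.Opens) (a : Γ(B, U))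
    (h : g'.app U a = 0) : g.app U a = 0 := by
  subst e; exact h

/-- sections of an ideal pull back to sections of the pulled back ideal -/
theorem exists_idealSect_pull {X' X : Scheme.{u}} (v : X' ⟶ X) (K : X.IdealSheafData)
    (K' : X'.IdealSheafData) (hK : K' = K.comap v) (U : X.Opens) (s' : Γ(ClSub.idealMod K, U)) :
    ∃ s : Γ(ClSub.idealMod K', v ⁻¹ᵁ U),
      OmegaSh.idealSect K' (v ⁻¹ᵁ U) s = v.app U (OmegaSh.idealSect K U s') := by
  obtain ⟨w, hw⟩ := exists_subscheme_map v K K' hK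
  have h0 : (K.subschemeι.app U).hom (OmegaSh.idealSect K U s') = 0 :=
    Groth.Agent.Lib.Helper20.IdealModSec.ι_toSubscheme K U s'
  refine Groth.Agent.Lib.Helper20.IdealModSec.exists_eq_ι K' (v ⁻¹ᵁ U)
    (v.app U (OmegaSh.idealSect K U s')) ?_
  rw [Groth.Agent.Lib.Helper20.IdealModSec.toSubscheme_app]
  change ((K'.subschemeι ≫ v).app U) (OmegaSh.idealSect K U s') = 0
  refine app_eq_zero_of_eq _ _ hw.symm U _ ?_
  change (w.app _) ((K.subschemeι.app U).hom (OmegaSh.idealSect K U s')) = 0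
  rw [h0, map_zero]

theorem result {Y X Y' X' : Scheme.{u}} (f : Y ⟶ X) [IsClosedImmersion f]
    (v : X' ⟶ X) (u : Y' ⟶ Y) (f' : Y' ⟶ X') (hsq : IsPullback u f' f v) (n : ℕ)
    (φ : (Scheme.Modules.pullback u).obj (PrinPart.grMod f n) ⟶ PrinPart.grMod f' n)
    (hφ : PrinPart.IsGrMap f' f v u n φ) :
    Epi φ := by
  obtain ⟨hw, hφ⟩ := hφ
  have hK : f'.ker ^ n = (f.ker ^ n).comap v := by
    rw [ComapPow.comap_pow, ComapPow.ker_eq_comap_of_isPullback f v u f' hsq]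
  let ι : Type u := { p : X'.affineOpens × X.affineOpens // p.1.1 ≤ v ⁻¹ᵁ p.2.1 }
  let B : ι → X'.Opens := fun p => p.1.1.1
  have hB : Opens.IsBasis (Set.range B) := by
    rw [Opens.isBasis_iff_nbhd]
    intro V x hx
    obtain ⟨_, ⟨U', hU', rfl⟩, hxU', -⟩ :=
      X.isBasis_affineOpens.exists_subset_of_mem_open (Set.mem_univ (v x)) isOpen_univ
    have hx2 : x ∈ V ⊓ v ⁻¹ᵁ U' := ⟨hx, hxU'⟩
    obtain ⟨_, ⟨W, hW, rfl⟩, hxW, hWle⟩ :=
      X'.isBasis_affineOpens.exists_subset_of_mem_open hx2 (V ⊓ v ⁻¹ᵁ U').isOpen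
    exact ⟨W, ⟨⟨(⟨W, hW⟩, ⟨U', hU'⟩), fun y hy => (hWle hy).2⟩, rfl⟩, hxW, fun y hy => (hWle hy).1⟩
  refine PullGen.epi_of_pullSect_mem_range f' (ClSub.idealMod (f'.ker ^ n)) B hB φ ?_
  rintro ⟨⟨⟨W, hW⟩, ⟨U', hU'⟩⟩, hWU⟩ t
  change ∃ s : Γ((Scheme.Modules.pullback u).obj (PrinPart.grMod f n), f' ⁻¹ᵁ W),
    φ.app (f' ⁻¹ᵁ W) s = OmegaSh.pullSect f' (ClSub.idealMod (f'.ker ^ n)) W t
  change W ≤ v ⁻¹ᵁ U' at hWU
  change Γ(ClSub.idealMod (f'.ker ^ n), W) at t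
  have hideal : (f'.ker ^ n).ideal ⟨W, hW⟩ =
      ((f.ker ^ n).ideal ⟨U', hU'⟩).map (v.appLE U' W hWU).hom := by
    rw [hK]
    exact Groth.Agent.Lib.Helper20.EffCartier.ideal_comap_eq_map v (f.ker ^ n) hW hU' hWU
  have hmem : OmegaSh.idealSect (f'.ker ^ n) W t ∈
      ((f.ker ^ n).ideal ⟨U', hU'⟩).map (v.appLE U' W hWU).hom := by
    rw [← hideal]
    exact IdealModFin.idealSect_mem (f'.ker ^ n) ⟨W, hW⟩ t
  have e : u ⁻¹ᵁ (f ⁻¹ᵁ U') = f' ⁻¹ᵁ (v ⁻¹ᵁ U') := by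
    change (u ≫ f) ⁻¹ᵁ U' = (f' ≫ v) ⁻¹ᵁ U'
    rw [hw]
  have h₂ : f' ⁻¹ᵁ W ≤ f' ⁻¹ᵁ (v ⁻¹ᵁ U') := f'.preimage_mono hWU
  have h₁ : f' ⁻¹ᵁ W ≤ u ⁻¹ᵁ (f ⁻¹ᵁ U') := h₂.trans e.ge
  have key : ∀ x ∈ Submodule.span Γ(X', W)
      ((v.appLE U' W hWU).hom '' (((f.ker ^ n).ideal ⟨U', hU'⟩ : Ideal Γ(X, U')) : Set Γ(X, U'))),
      ∀ t : Γ(ClSub.idealMod (f'.ker ^ n), W), OmegaSh.idealSect (f'.ker ^ n) W t = x →
        ∃ s : Γ((Scheme.Modules.pullback u).obj (PrinPart.grMod f n), f' ⁻¹ᵁ W),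
          φ.app (f' ⁻¹ᵁ W) s = OmegaSh.pullSect f' (ClSub.idealMod (f'.ker ^ n)) W t := by
    intro x hx
    induction hx using Submodule.span_induction with
    | mem y hy =>
      obtain ⟨a, ha, rfl⟩ := hy
      obtain ⟨s', hs'⟩ := IdealModFin.exists_idealSect_eq (f.ker ^ n) ⟨U', hU'⟩ a ha
      obtain ⟨s0, hs0⟩ := exists_idealSect_pull v (f.ker ^ n) (f'.ker ^ n) hK U' s'
      intro t ht
      have ht' : t = (ClSub.idealMod (f'.ker ^ n)).presheaf.map (homOfLE hWU).op s0 := by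
        apply Groth.Agent.Helper18OmLS.idealSect_injective
        rw [ht, Groth.Agent.Helper18OmLS.idealSect_res, hs0, hs']
        rfl
      have hk := hφ U' s' s0 hs0 (f' ⁻¹ᵁ W) h₁ h₂
      refine ⟨((Scheme.Modules.pullback u).obj (PrinPart.grMod f n)).presheaf.map (homOfLE h₁).op
        (OmegaSh.pullSect u (PrinPart.grMod f n) (f ⁻¹ᵁ U') (PrinPart.grSect f n U' s')), ?_⟩
      rw [PnChart.app_naturality, hk, ht', OmegaSh.pullSect_map]
      rfl
    | zero =>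
      intro t ht
      have ht' : t = 0 := by
        apply Groth.Agent.Helper18OmLS.idealSect_injective
        rw [ht, map_zero]
      refine ⟨0, ?_⟩
      rw [map_zero, ht', map_zero]
      rfl
    | add y z hy hz ihy ihz =>
      intro t ht
      obtain ⟨ty, hty⟩ := IdealModFin.exists_idealSect_eq (f'.ker ^ n) ⟨W, hW⟩ y (by rw [hideal]; exact hy)
      obtain ⟨tz, htz⟩ := IdealModFin.exists_idealSect_eq (f'.ker ^ n) ⟨W, hW⟩ z (by rw [hideal]; exact hz)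
      have ht' : t = ty + tz := by
        apply Groth.Agent.Helper18OmLS.idealSect_injective
        rw [ht, map_add, hty, htz]
      obtain ⟨sy, hsy⟩ := ihy ty hty
      obtain ⟨sz, hsz⟩ := ihz tz htz
      refine ⟨sy + sz, ?_⟩
      rw [map_add, hsy, hsz, ht', map_add]
      rfl
    | smul c y hy ihy =>
      intro t ht
      obtain ⟨ty, hty⟩ := IdealModFin.exists_idealSect_eq (f'.ker ^ n) ⟨W, hW⟩ y (by rw [hideal]; exact hy)
      have ht' : t = c • ty := by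
        apply Groth.Agent.Helper18OmLS.idealSect_injective
        rw [ht, Groth.Agent.Helper18OmLS.idealSect_smul, hty]
        rfl
      obtain ⟨sy, hsy⟩ := ihy ty hty
      refine ⟨f'.app W c • sy, ?_⟩
      rw [Scheme.Modules.Hom.app_smul, hsy, ht', OmegaSh.pullSect_smul]
      rfl
  exact key _ hmem t rfl

end Groth.Agent.S5952
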