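import Groth.Statements.S7194
import Groth.Agent.Lib.R2H3WeilBase
import Groth.Agent.S17079

set_option autoImplicit false
universe u
open CategoryTheory CategoryTheory.Limits AlgebraicGeometry
open FlatMor

namespace Groth.Agent.S7194

/-- For a finite locally free morphism Z → S and an affine morphism X → S, the functor on S-schemes
sending T to the set of S-morphisms T ×_S Z → X is represented by an S-scheme W whose structure
morphism W → S is affine. -/
theorem result {Z X S : Scheme.{u}} (g : Z ⟶ S) (f : X ⟶ S) (hg : Mor2.IsFinLocFree g) [IsAffineHom f] :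
    ∃ W : Over S, IsAffineHom W.hom ∧ Nonempty ((Flatn.morS g f).RepresentableBy W) := by
  obtain ⟨h1, h2, h3⟩ := hg
  have := h1
  have := h2
  have := h3
  -- finite subsets of fibres of an affine morphism lie in affine opens
  have hAF : ∀ (s : S) (d : ℕ) (x : Fin d → ↥X), (∀ k, f (x k) = s) →
      ∃ U : X.Opens, IsAffineOpen U ∧ ∀ k, x k ∈ U := by
    intro s d x hx
    obtain ⟨_, ⟨V, hV, rfl⟩, hsV, -⟩ := S.isBasis_affineOpens.exists_subset_of_mem_open
      (Set.mem_univ s) isOpen_univ
    refine ⟨f ⁻¹ᵁ V, IsAffineOpen.preimage hV f, fun k => ?_⟩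
    change f (x k) ∈ V
    rw [hx k]
    exact hsV
  obtain ⟨W, ⟨r⟩⟩ := (Groth.Agent.Lib.R2H3.WeilBase.weil_general g f hAF).has_representation
  refine ⟨W, ⟨fun V hV => ?_⟩, ⟨r⟩⟩
  have : IsAffine V.toScheme := hV
  have : IsAffine (pullback g V.ι) := isAffine_of_isAffineHom (pullback.snd g V.ι)
  have : IsAffine (pullback f V.ι) := isAffine_of_isAffineHom (pullback.snd f V.ι)
  obtain ⟨r₁⟩ := Groth.Agent.S17079.result g f V.ι W r
  obtain ⟨W₂, hW₂, ⟨r₂⟩⟩ := Groth.Agent.Lib.R2H3.WeilAffP.weil_affine_proj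
    (pullback.snd g V.ι) (pullback.snd f V.ι)
    (Groth.Agent.Lib.R2H3.WeilAffP.finite_projective_appTop (pullback.snd g V.ι))
  let e : Over.mk (pullback.snd W.hom V.ι) ≅ W₂ := r₁.uniqueUpToIso r₂
  let e' : pullback W.hom V.ι ≅ W₂.left := (Over.forget _).mapIso e
  have : IsAffine (pullback W.hom V.ι) := IsAffine.of_isIso e'.hom
  exact IsAffine.of_isIso (pullbackRestrictIsoRestrict W.hom V).inv

end Groth.Agent.S7194
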