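import Groth.Statements.S7174
import Groth.Agent.Lib.R2H3TorLoc

set_option autoImplicit false
set_option linter.style.haveILetI false
set_option linter.unusedVariables false
universe u
attribute [local instance] HasDerivedCategory.standard
open FlatMor

namespace Groth.Agent.S7174


open AlgebraicGeometry CategoryTheory Limits Groth.Agent.Lib.R2H3.TorLoc in
/-- tor dimension of the stalk map vs. the localized ring map on affine charts -/
lemma stalk_iff_localization {X S : Scheme.{u}} (f : X ⟶ S) (x : X) (V : S.Opens)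
    (hV : IsAffineOpen V) (U : X.Opens) (hU : IsAffineOpen U) (hUV : U ≤ f ⁻¹ᵁ V) (hx : x ∈ U)
    (hpq : (hV.primeIdealOf ⟨f x, hUV hx⟩).asIdeal =
      (hU.primeIdealOf ⟨x, hx⟩).asIdeal.comap (f.appLE V U hUV).hom) (d : ℕ) :
    (letI := (f.stalkMap x).hom.toAlgebra
     DRing.HasTorDimLE ↑(S.presheaf.stalk (f x)) d ↑(X.presheaf.stalk x)) ↔
    (letI := (Localization.localRingHom (hV.primeIdealOf ⟨f x, hUV hx⟩).asIdeal
        (hU.primeIdealOf ⟨x, hx⟩).asIdeal (f.appLE V U hUV).hom hpq).toAlgebra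
     DRing.HasTorDimLE (Localization.AtPrime (hV.primeIdealOf ⟨f x, hUV hx⟩).asIdeal) d
       (Localization.AtPrime (hU.primeIdealOf ⟨x, hx⟩).asIdeal)) := by
  let e := IsAffineOpen.arrowStalkMapIso f V hV U hU hUV hx
  let e₁ : ↑(S.presheaf.stalk (f x)) ≃+*
      Localization.AtPrime (hV.primeIdealOf ⟨f x, hUV hx⟩).asIdeal :=
    (Arrow.leftFunc.mapIso e).commRingCatIsoToRingEquiv
  let e₂ : ↑(X.presheaf.stalk x) ≃+* Localization.AtPrime (hU.primeIdealOf ⟨x, hx⟩).asIdeal :=
    (Arrow.rightFunc.mapIso e).commRingCatIsoToRingEquiv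
  have hw := e.hom.w
  have hcomm : ∀ r, e₂ ((f.stalkMap x).hom r) =
      (Localization.localRingHom (hV.primeIdealOf ⟨f x, hUV hx⟩).asIdeal
        (hU.primeIdealOf ⟨x, hx⟩).asIdeal (f.appLE V U hUV).hom hpq) (e₁ r) := by
    intro r
    have := congrArg (fun φ => φ.hom r) hw
    exact this.symm
  constructor
  · intro h
    exact hasTorDimLE_of_ringEquiv _ _ e₁ e₂ hcomm d h
  · intro h
    refine hasTorDimLE_of_ringEquiv _ _ e₁.symm e₂.symm (fun r => ?_) d h
    apply e₂.injective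
    rw [RingEquiv.apply_symm_apply, hcomm, RingEquiv.apply_symm_apply]

open AlgebraicGeometry CategoryTheory Limits in
/-- (1) ⇔ (3): for a pseudo-coherent f : X → S, f is perfect exactly when, at every point x of X, the
stalk O_{X,x}, viewed as a module over O_{S,f(x)} through the stalk map, is of finite tor dimension.
(The intermediate condition on the structure sheaf as a sheaf of f⁻¹O_S-modules is not restated.) -/
theorem result {X S : Scheme.{u}} (f : X ⟶ S) (hf : MoreMor.IsPseudoCoherentMor f) :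
    MoreMor.IsPerfectMor f ↔ ∀ x : X,
      (letI := (f.stalkMap x).hom.toAlgebra
       DRing.HasFiniteTorDim ↑(S.presheaf.stalk (f x)) ↑(X.presheaf.stalk x)) := by
  constructor
  · intro hperf x
    obtain ⟨_, ⟨V : S.Opens, hV, rfl⟩, hxV, -⟩ := S.isBasis_affineOpens.exists_subset_of_mem_open
      (Set.mem_univ (f x)) isOpen_univ
    obtain ⟨_, ⟨U : X.Opens, hU, rfl⟩, hxU, hUV'⟩ :=
      X.isBasis_affineOpens.exists_subset_of_mem_open (show x ∈ ((f ⁻¹ᵁ V : X.Opens) : Set X) from hxV)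
        (f ⁻¹ᵁ V).2
    have hUV : U ≤ f ⁻¹ᵁ V := hUV'
    have hpq : (hV.primeIdealOf ⟨f x, hUV hxU⟩).asIdeal =
        (hU.primeIdealOf ⟨x, hxU⟩).asIdeal.comap (f.appLE V U hUV).hom :=
      congr($(IsAffineOpen.comap_primeIdealOf_appLE V hV U hU hUV hxU).1).symm
    obtain ⟨d, hd⟩ := (hperf U V hU hV hUV).2
    refine ⟨d, (stalk_iff_localization f x V hV U hU hUV hxU hpq d).2 ?_⟩
    letI := (f.appLE V U hUV).hom.toAlgebra
    exact Groth.Agent.Lib.R2H3.TorLoc.hasTorDimLE_localization d hd _ _ hpq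
  · intro hst U V hU hV hUV
    refine ⟨hf U V hU hV hUV, ?_⟩
    letI := (f.appLE V U hUV).hom.toAlgebra
    obtain ⟨n, φ, hφ, hpc⟩ := hf U V hU hV hUV
    refine Groth.Agent.Lib.R2H3.TorLoc.hasFiniteTorDim_of_forall_localization φ hφ hpc
      (fun q _ => ?_)
    let y : PrimeSpectrum Γ(X, U) := ⟨q, inferInstance⟩
    let x0 : ↥U := hU.isoSpec.inv y
    have hy : hU.primeIdealOf ⟨x0.1, x0.2⟩ = y := by
      show hU.isoSpec.hom (hU.isoSpec.inv y) = y
      rw [← Scheme.Hom.comp_apply, Iso.inv_hom_id]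
      rfl
    have hpq : (hV.primeIdealOf ⟨f x0.1, hUV x0.2⟩).asIdeal =
        (hU.primeIdealOf ⟨x0.1, x0.2⟩).asIdeal.comap (f.appLE V U hUV).hom :=
      congr($(IsAffineOpen.comap_primeIdealOf_appLE V hV U hU hUV x0.2).1).symm
    obtain ⟨d, hd⟩ := hst x0.1
    have h1 := (stalk_iff_localization f x0.1 V hV U hU hUV x0.2 hpq d).1 hd
    have key : ∀ (y' : PrimeSpectrum Γ(X, U)) (p : Ideal Γ(S, V)) [p.IsPrime]
        (hp : p = y'.asIdeal.comap (f.appLE V U hUV).hom),
        (letI := (Localization.localRingHom p y'.asIdeal (f.appLE V U hUV).hom hp).toAlgebra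
         DRing.HasTorDimLE (Localization.AtPrime p) d (Localization.AtPrime y'.asIdeal)) →
        (letI := (Localization.localRingHom (y'.asIdeal.comap (algebraMap Γ(S, V) Γ(X, U)))
          y'.asIdeal (algebraMap Γ(S, V) Γ(X, U)) rfl).toAlgebra
         DRing.HasTorDimLE (Localization.AtPrime (y'.asIdeal.comap (algebraMap Γ(S, V) Γ(X, U)))) d
           (Localization.AtPrime y'.asIdeal)) := by
      intro y' p _ hp h
      subst hp
      exact h
    have h2 := key (hU.primeIdealOf ⟨x0.1, x0.2⟩) _ hpq h1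
    rw [hy] at h2
    exact ⟨d, h2⟩

end Groth.Agent.S7174
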