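import Groth.Statements.S1026
import Groth.Agent.Lib.R2H2LocalCBC5
import Groth.Agent.Lib.R2H2EulerQ

set_option autoImplicit false
universe u
open CategoryTheory AlgebraicGeometry
open Perf

namespace Groth.Agent.S1026

/-- Let f : X ⟶ S be proper and of finite presentation and F an O_X-module of finite presentation which
is flat over S. Then the Euler characteristic s ↦ χ(X_s, F_s) = Σᵢ (-1)ⁱ dim_{κ(s)} Hⁱ(X_s, F_s) is
a locally constant function on S. (The source adds that its formation commutes with base change.) -/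
theorem result {X S : Scheme.{u}} (f : X ⟶ S) [IsProper f] [LocallyOfFinitePresentation f]
    (F : X.Modules) (hF : CohB1.IsFP F) (hflat : FlatMod.IsFlatOver f F) :
    IsLocallyConstant (fun s : S => PerfAux.eulerChar f F s) := by
  haveI : F.IsQuasicoherent := Groth.Agent.Helper18Strict.isQCoh_of_isFP F hF
  haveI := Groth.Agent.Lib.R2H3.RpushRestrict.hasInjectiveResolutions_modules X
  have hb' : ∀ (t : S) (i : ℕ), PerfAux.betti f F t i = CohIII.fiberRank f F i t := fun t i => rfl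
  rw [IsLocallyConstant.iff_exists_open]
  intro s
  obtain ⟨V₁, hs, A, _, _, Q, γ, b, hQz, hγ, hQ, hQv, hrank, -⟩ :=
    Groth.Agent.Lib.R2H2.LocalCBC.local_main' f F hF hflat s
  have hχ : ∀ (t : S) (ht : t ∈ V₁),
      PerfAux.eulerChar f F t = Groth.Agent.Lib.R2H2.EulerQ.eulerQ Q b (γ ⟨t, ht⟩) := by
    intro t ht
    unfold PerfAux.eulerChar Groth.Agent.Lib.R2H2.EulerQ.eulerQ
    rw [finsum_eq_sum_of_support_subset (s := Finset.range b)]
    · refine Finset.sum_congr rfl (fun p _ => ?_)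
      rw [hb', hrank p t ht]
    · intro p hp
      rw [Function.mem_support] at hp
      by_contra hpb
      apply hp
      have hbp : b ≤ p := by simpa using hpb
      rw [hb', hrank p t ht, Groth.Agent.Lib.R2H2.EulerQ.dRank_eq_zero_of_isZero Q
        (fun i => (hQ i).1) _ (hQz _ (by omega)) (hQz _ (by omega))]
      simp
  have hlc := Groth.Agent.Lib.R2H2.EulerQ.isLocallyConstant_eulerQ Q hQ (hQv 1 one_pos) b hQz
  have hO : IsOpen {y | Groth.Agent.Lib.R2H2.EulerQ.eulerQ Q b y =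
      Groth.Agent.Lib.R2H2.EulerQ.eulerQ Q b (γ ⟨s, hs⟩)} := hlc.isOpen_fiber _
  refine ⟨Subtype.val '' (γ ⁻¹' {y | Groth.Agent.Lib.R2H2.EulerQ.eulerQ Q b y =
      Groth.Agent.Lib.R2H2.EulerQ.eulerQ Q b (γ ⟨s, hs⟩)}),
    V₁.2.isOpenMap_subtype_val _ (hO.preimage hγ), ⟨⟨s, hs⟩, rfl, rfl⟩, ?_⟩
  rintro _ ⟨z, hz, rfl⟩
  rw [hχ z.1 z.2, hχ s hs]
  exact hz

end Groth.Agent.S1026
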