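import Groth.Statements.S6829
import Mathlib

set_option autoImplicit false
universe u
open Smoothing

namespace Groth.Agent.S6829

section helpers

open TensorProduct MvPolynomial

variable {R A : Type u} (R' : Type u) [CommRing R] [CommRing A] [Algebra R A] [CommRing R']
  [Algebra R R']

/-- the base-changed evaluation map -/
noncomputable def bcHom (P : Smoothing.MarkedPresentation R A) :
    MvPolynomial (Fin P.n) R' →ₐ[R'] R' ⊗[R] A :=
  MvPolynomial.aeval (fun i => (1 : R') ⊗ₜ[R] P.hom (X i))

theorem bcHom_map (P : Smoothing.MarkedPresentation R A) (p : MvPolynomial (Fin P.n) R) :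
    bcHom R' P (MvPolynomial.map (algebraMap R R') p) = (1 : R') ⊗ₜ[R] P.hom p := by
  have h : (bcHom R' P).toRingHom.comp (MvPolynomial.map (algebraMap R R')) =
      (Algebra.TensorProduct.includeRight (R := R) (A := R') (B := A)).toRingHom.comp
        P.hom.toRingHom := by
    apply MvPolynomial.ringHom_ext
    · intro r
      change bcHom R' P (MvPolynomial.map (algebraMap R R') (C r)) = (1 : R') ⊗ₜ[R] P.hom (C r)
      have h1 : P.hom (C r) = algebraMap R A r := P.hom.commutes r
      have h2 : bcHom R' P (C (algebraMap R R' r)) =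
          algebraMap R' (R' ⊗[R] A) (algebraMap R R' r) := (bcHom R' P).commutes _
      have h3 : (algebraMap R R' r) ⊗ₜ[R] (1 : A) = (1 : R') ⊗ₜ[R] (algebraMap R A r) := by
        rw [Algebra.algebraMap_eq_smul_one, Algebra.algebraMap_eq_smul_one, TensorProduct.smul_tmul]
      rw [MvPolynomial.map_C, h1, h2, Algebra.TensorProduct.algebraMap_apply]
      exact h3
    · intro i
      change bcHom R' P (MvPolynomial.map (algebraMap R R') (X i)) = (1 : R') ⊗ₜ[R] P.hom (X i)
      rw [MvPolynomial.map_X, bcHom, MvPolynomial.aeval_X]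
  exact congr($h p)

/-- the Mathlib presentation underlying a marked presentation -/
noncomputable def toPres (P : Smoothing.MarkedPresentation R A) :
    Algebra.Presentation R A (Fin P.n) (Fin P.m) where
  toGenerators := Algebra.Generators.ofSurjective (fun i => P.hom (X i)) (by
    have h : (aeval (fun i => P.hom (X i)) : MvPolynomial (Fin P.n) R →ₐ[R] A) = P.hom := by
      apply MvPolynomial.algHom_ext
      intro i
      simp
    rw [h]
    exact P.surj)
  relation := P.rel
  span_range_relation_eq_ker := by
    have h : (aeval (fun i => P.hom (X i)) : MvPolynomial (Fin P.n) R →ₐ[R] A) = P.hom := by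
      apply MvPolynomial.algHom_ext
      intro i
      simp
    have h' : RingHom.ker (aeval (fun i => P.hom (X i)) : MvPolynomial (Fin P.n) R →ₐ[R] A) =
        RingHom.ker P.hom.toRingHom := by
      rw [h]
      rfl
    rw [Algebra.Generators.ker_eq_ker_aeval_val]
    exact P.ker_eq.symm.trans h'.symm

/-- base change of a marked presentation -/
noncomputable abbrev bcPres (P : Smoothing.MarkedPresentation R A) :
    Smoothing.MarkedPresentation R' (R' ⊗[R] A) where
  n := P.n
  m := P.m
  c := P.c
  hcn := P.hcn
  hcm := P.hcm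
  rel := fun j => MvPolynomial.map (algebraMap R R') (P.rel j)
  hom := bcHom R' P
  surj := by
    have h := ((toPres P).baseChange R').algebraMap_surjective
    intro x
    obtain ⟨y, hy⟩ := h x
    refine ⟨y, ?_⟩
    rw [Algebra.Generators.algebraMap_apply] at hy
    exact hy
  ker_eq := by
    have h := ((toPres P).baseChange R').span_range_relation_eq_ker
    rw [Algebra.Generators.ker_eq_ker_aeval_val] at h
    exact h.symm

theorem jacobianMinor_map {n m c : ℕ} (rel : Fin m → MvPolynomial (Fin n) R) (rows : Fin c → Fin m)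
    (cols : Fin c → Fin n) :
    Smoothing.jacobianMinor (fun j => MvPolynomial.map (algebraMap R R') (rel j)) rows cols =
      MvPolynomial.map (algebraMap R R') (Smoothing.jacobianMinor rel rows cols) := by
  unfold Smoothing.jacobianMinor
  rw [RingHom.map_det]
  congr 1
  ext j k
  simp [MvPolynomial.pderiv_map]

theorem bcPres_hom_jac (P : Smoothing.MarkedPresentation R A) (rows : Fin P.c → Fin P.m)
    (cols : Fin P.c → Fin P.n) :
    (bcPres R' P).hom (Smoothing.jacobianMinor (bcPres R' P).rel rows cols) =
      (1 : R') ⊗ₜ[R] P.hom (Smoothing.jacobianMinor P.rel rows cols) := by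
  change bcHom R' P (Smoothing.jacobianMinor
    (fun j => MvPolynomial.map (algebraMap R R') (P.rel j)) rows cols) = _
  rw [jacobianMinor_map, bcHom_map]

theorem killsTail_bc (P : Smoothing.MarkedPresentation R A) (a : A) (h : Smoothing.KillsTail P a) :
    Smoothing.KillsTail (bcPres R' P) ((1 : R') ⊗ₜ[R] a) := by
  intro a'' ha'' j hj
  obtain ⟨a', ha'⟩ := P.surj a
  have h1 := h a' ha' j hj
  have h2 : MvPolynomial.map (algebraMap R R') (a' * P.rel j) ∈
      Ideal.span ((bcPres R' P).rel '' {j' : Fin P.m | (j' : ℕ) < P.c}) ⊔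
        Ideal.span (Set.range (bcPres R' P).rel) ^ 2 := by
    have := Ideal.mem_map_of_mem (MvPolynomial.map (algebraMap R R')) h1
    rw [Ideal.map_sup, Ideal.map_pow, Ideal.map_span, Ideal.map_span, ← Set.image_comp,
      ← Set.range_comp] at this
    exact this
  have h3 : a'' - MvPolynomial.map (algebraMap R R') a' ∈
      Ideal.span (Set.range (bcPres R' P).rel) := by
    rw [← (bcPres R' P).ker_eq, RingHom.mem_ker]
    change (bcPres R' P).hom (a'' - MvPolynomial.map (algebraMap R R') a') = 0
    rw [map_sub, ha'']
    change _ - bcHom R' P (MvPolynomial.map (algebraMap R R') a') = 0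
    rw [bcHom_map, ha', sub_self]
  have h4 : a'' * (bcPres R' P).rel j = MvPolynomial.map (algebraMap R R') (a' * P.rel j) +
      (a'' - MvPolynomial.map (algebraMap R R') a') * (bcPres R' P).rel j := by
    rw [map_mul]
    change _ = _ + (a'' - _) * MvPolynomial.map (algebraMap R R') (P.rel j)
    change a'' * MvPolynomial.map (algebraMap R R') (P.rel j) = _
    ring
  rw [h4]
  refine Ideal.add_mem _ h2 (Ideal.mem_sup_right ?_)
  rw [pow_two]
  exact Ideal.mul_mem_mul h3 (Ideal.subset_span ⟨j, rfl⟩)

end helpers

open TensorProduct in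
/-- Let A be a finitely presented R-algebra, R → R' a ring map and a ∈ A. If a is elementary standard,
resp. strictly standard, in A over R, then a ⊗ 1 is elementary standard, resp. strictly standard, in
A ⊗_R R' over R' (written here as 1 ⊗ a in R' ⊗_R A). -/
theorem result {R A R' : Type u} [CommRing R] [CommRing A] [Algebra R A]
    [Algebra.FinitePresentation R A] [CommRing R'] [Algebra R R'] (a : A) :
    (Smoothing.IsElementaryStandard R A a →
        Smoothing.IsElementaryStandard R' (R' ⊗[R] A) ((1 : R') ⊗ₜ[R] a)) ∧
      (Smoothing.IsStrictlyStandard R A a →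
        Smoothing.IsStrictlyStandard R' (R' ⊗[R] A) ((1 : R') ⊗ₜ[R] a)) := by
  constructor
  · rintro ⟨P, ⟨a', ha'⟩, hk⟩
    refine ⟨bcPres R' P, ⟨(1 : R') ⊗ₜ[R] a', ?_⟩, killsTail_bc R' P a hk⟩
    rw [bcPres_hom_jac, Algebra.TensorProduct.tmul_mul_tmul, one_mul, ha']
  · rintro ⟨P, hmem, hk⟩
    refine ⟨bcPres R' P, ?_, killsTail_bc R' P a hk⟩
    have h1 := Ideal.mem_map_of_mem
      (Algebra.TensorProduct.includeRight (R := R) (A := R') (B := A)).toRingHom hmem
    rw [Ideal.map_span, ← Set.range_comp] at h1
    have h2 : ((Algebra.TensorProduct.includeRight (R := R) (A := R') (B := A)).toRingHom ∘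
        fun cols : Fin P.c → Fin P.n =>
          P.hom (jacobianMinor P.rel (Fin.castLE P.hcm) cols)) =
        fun cols : Fin (bcPres R' P).c → Fin (bcPres R' P).n =>
          (bcPres R' P).hom (jacobianMinor (bcPres R' P).rel (Fin.castLE (bcPres R' P).hcm) cols) := by
      funext cols
      rw [bcPres_hom_jac]
      rfl
    rw [h2] at h1
    exact h1

end Groth.Agent.S6829
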