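import Groth.Statements.S7462
import Mathlib
import Groth.Agent.Lib.R2H4GrpdClosure

set_option autoImplicit false
universe u
open CategoryTheory CategoryTheory.Limits AlgebraicGeometry
open Grpd

namespace Groth.Agent.S7462

/-- Consider two groupoid schemes (U, R_1, s_1, t_1, c_1) and (U, R_2, s_2, t_2, c_2) over S, where U is
the spectrum of a field, together with a map a : R_1 -> R_2 respecting source, target and
composition (in the Lean: a morphism of groupoid schemes whose object-scheme component is an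
isomorphism). Write Z for the closure in R_2 of the image of a. Then, as a map of sets, c_2 sends Z
x_(s_2,U,t_2) Z into Z: any point of R_2 x_(s_2,U,t_2) R_2 with both projections in Z has its
c_2-image in Z. (Here a groupoid scheme over S consists of U, R, s, t, c, e, i satisfying the
groupoid axioms on T-points; c lives on the fibre product of s and t and takes a pair (a, b) with
s(a) = t(b) to the composite of a with b.) -/
theorem result (S : Scheme.{u}) (G₁ G₂ : Grpd.GroupoidScheme S) (f : Grpd.GroupoidScheme.Hom G₁ G₂) [IsIso f.fU] (k : Type u) [Field k] (eU : G₂.U ≅ Spec (CommRingCat.of k)) (p : ↑(pullback G₂.s G₂.t)) (h₁ : pullback.fst G₂.s G₂.t p ∈ closure (Set.range ⇑f.fR)) (h₂ : pullback.snd G₂.s G₂.t p ∈ closure (Set.range ⇑f.fR)) : G₂.c p ∈ closure (Set.range ⇑f.fR) := by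
  have hp := Groth.Agent.Lib.R2H4.GrpdClosure.mem_closure_prod eU G₂.s G₂.t (Set.range f.fR)
    (Set.range f.fR) p h₁ h₂
  have h3 : G₂.c p ∈ G₂.c '' closure (pullback.fst G₂.s G₂.t ⁻¹' Set.range f.fR ∩
      pullback.snd G₂.s G₂.t ⁻¹' Set.range f.fR) := ⟨p, hp, rfl⟩
  refine closure_mono ?_ (image_closure_subset_closure_image G₂.c.continuous h3)
  rintro _ ⟨q, ⟨⟨r, hr⟩, ⟨r', hr'⟩⟩, rfl⟩
  obtain ⟨q', hq'⟩ := Groth.Agent.Lib.R2H4.GrpdClosure.exists_preimage_map (G₁.s ≫ f.fU)
    (G₁.t ≫ f.fU) G₂.s G₂.t f.fR f.fR f.comm_s f.comm_t q r r' hr hr'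
  have hαβ : pullback.fst (G₁.s ≫ f.fU) (G₁.t ≫ f.fU) ≫ G₁.s =
      pullback.snd (G₁.s ≫ f.fU) (G₁.t ≫ f.fU) ≫ G₁.t := by
    rw [← cancel_mono f.fU, Category.assoc, Category.assoc]
    exact pullback.condition
  have hc := f.comm_c _ _ hαβ
  have hmap : pullback.lift (pullback.fst (G₁.s ≫ f.fU) (G₁.t ≫ f.fU) ≫ f.fR)
      (pullback.snd (G₁.s ≫ f.fU) (G₁.t ≫ f.fU) ≫ f.fR)
      (by rw [Category.assoc, Category.assoc, f.comm_s, f.comm_t, ← Category.assoc,
        ← Category.assoc, hαβ]) =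
      pullback.map (G₁.s ≫ f.fU) (G₁.t ≫ f.fU) G₂.s G₂.t f.fR f.fR (𝟙 _)
        (by rw [Category.comp_id, f.comm_s]) (by rw [Category.comp_id, f.comm_t]) := by
    rfl
  rw [hmap] at hc
  refine ⟨G₁.c (pullback.lift _ _ hαβ q'), ?_⟩
  have h4 := congrArg (fun m => m.base q') hc
  simp only [Scheme.Hom.comp_base, TopCat.comp_app] at h4
  rw [← hq']
  exact h4

end Groth.Agent.S7462
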