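import Groth.Statements.S18468
import Mathlib

set_option autoImplicit false
universe u
open OortTate

namespace Groth.Agent.S18468

section Helpers


open WithConv

variable {R : Type u} [CommRing R] {A : Type u} [CommRing A] [HopfAlgebra R A]

lemma comp_convOne {B : Type u} [CommRing B] [Algebra R B] (h : A →ₐ[R] B) :
    h.comp (1 : WithConv (A →ₐ[R] A)).ofConv = (1 : WithConv (A →ₐ[R] B)).ofConv := by
  ext x
  simp [AlgHom.convOne_def]

lemma comp_convPow {B : Type u} [CommRing B] [Algebra R B] (h : A →ₐ[R] B)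
    (f : WithConv (A →ₐ[R] A)) (n : ℕ) :
    h.comp (f ^ n).ofConv = (toConv (h.comp f.ofConv) ^ n).ofConv := by
  induction n with
  | zero => rw [pow_zero, pow_zero, comp_convOne]
  | succ n ih =>
    rw [pow_succ, pow_succ, AlgHom.comp_convMul_distrib, ih]

variable (R A)

/-- the power map -/
noncomputable abbrev P (n : ℕ) : A →ₐ[R] A := SGA3b.powConv R A n

lemma P_def (n : ℕ) : P R A n = ofConv ((toConv (AlgHom.id R A)) ^ n) := rfl

lemma P_one : P R A 1 = AlgHom.id R A := by
  rw [P_def, pow_one]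

lemma P_comp (a b : ℕ) : (P R A a).comp (P R A b) = P R A (a * b) := by
  rw [P_def R A b, comp_convPow]
  have : toConv ((P R A a).comp (toConv (AlgHom.id R A)).ofConv) = (toConv (AlgHom.id R A)) ^ a := by
    rw [P_def]
    rfl
  rw [this, ← pow_mul]
  rfl

lemma counit_comp_P (n : ℕ) :
    (Bialgebra.counitAlgHom R A).comp (P R A n) = Bialgebra.counitAlgHom R A := by
  rw [P_def, comp_convPow]
  have h1 : toConv ((Bialgebra.counitAlgHom R A).comp (toConv (AlgHom.id R A)).ofConv) =
      (1 : WithConv (A →ₐ[R] R)) := by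
    rw [AlgHom.convOne_def]
    congr 1
  rw [h1, one_pow, AlgHom.convOne_def]
  ext x
  simp

lemma counit_P (n : ℕ) (x : A) : Coalgebra.counit (R := R) (P R A n x) = Coalgebra.counit (R := R) x := by
  have := congrArg (fun f => f x) (counit_comp_P R A n)
  simpa using this

variable {R A}

lemma P_mod (p : ℕ) (hp : (toConv (AlgHom.id R A)) ^ p = 1) (a : ℕ) :
    P R A a = P R A (a % p) := by
  rw [P_def, P_def]
  conv_lhs => rw [← Nat.mod_add_div a p, pow_add, pow_mul, hp, one_pow, mul_one]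

section Rep

variable (p : ℕ) [Fact p.Prime] (u : R) (hu : u * ((p - 1 : ℕ) : R) = 1)
  (χ : (ZMod p)ˣ →* Rˣ) (hχ : ∀ m : (ZMod p)ˣ, m ≠ 1 → IsUnit ((χ m : R) - 1))
  (hp : (toConv (AlgHom.id R A)) ^ p = 1)

include hp in
lemma P_units_mul (m n : (ZMod p)ˣ) :
    P R A ((m * n : (ZMod p)ˣ) : ZMod p).val =
      (P R A (m : ZMod p).val).comp (P R A (n : ZMod p).val) := by
  rw [P_comp, Units.val_mul, ZMod.val_mul, ← P_mod p hp]

lemma P_units_one : P R A ((1 : (ZMod p)ˣ) : ZMod p).val = AlgHom.id R A := by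
  rw [Units.val_one, ZMod.val_one, P_one]

lemma proj_apply (i : ℕ) (x : A) :
    OortTate.proj R A p u χ i x =
      u • ∑ m : (ZMod p)ˣ, (((χ m⁻¹ : Rˣ) : R) ^ i) • P R A (m : ZMod p).val x := by
  simp [OortTate.proj, LinearMap.smul_apply, LinearMap.sum_apply]

include hp in
lemma P_proj (i : ℕ) (n : (ZMod p)ˣ) (x : A) :
    P R A (n : ZMod p).val (OortTate.proj R A p u χ i x) =
      (((χ n : Rˣ) : R) ^ i) • OortTate.proj R A p u χ i x := by
  rw [proj_apply]
  have h1 : P R A (n : ZMod p).val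
      (u • ∑ m : (ZMod p)ˣ, (((χ m⁻¹ : Rˣ) : R) ^ i) • P R A (m : ZMod p).val x) =
      u • ∑ m : (ZMod p)ˣ, (((χ m⁻¹ : Rˣ) : R) ^ i) • P R A ((n * m : (ZMod p)ˣ) : ZMod p).val x := by
    rw [map_smul, map_sum]
    congr 1
    refine Finset.sum_congr rfl fun m _ => ?_
    rw [map_smul, P_units_mul p hp, AlgHom.comp_apply]
  rw [h1, smul_comm (((χ n : Rˣ) : R) ^ i) u]
  congr 1
  rw [Finset.smul_sum]
  refine Fintype.sum_equiv (Equiv.mulLeft n) _ _ fun m => ?_
  rw [Equiv.coe_mulLeft, smul_smul]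
  congr 1
  rw [← mul_pow]
  congr 1
  have : χ m⁻¹ = χ n * χ (n * m)⁻¹ := by
    rw [← map_mul]
    congr 1
    rw [mul_inv_rev, mul_comm m⁻¹, mul_inv_cancel_left]
  rw [this, Units.val_mul]

include hχ in
lemma orth (i j : ℕ) (hi : i < p - 1) (hj : j < p - 1) (hij : i ≠ j) :
    ∑ m : (ZMod p)ˣ, ((χ m⁻¹ : Rˣ) : R) ^ j * ((χ m : Rˣ) : R) ^ i = 0 := by
  obtain ⟨g, hg⟩ := IsCyclic.exists_generator (α := (ZMod p)ˣ)
  have hord : orderOf g = p - 1 := by
    rw [orderOf_eq_card_of_forall_mem_zpowers hg, Nat.card_eq_fintype_card, ZMod.card_units]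
  set h : (ZMod p)ˣ := g⁻¹ ^ j * g ^ i with hh
  have hne : h ≠ 1 := by
    intro h1
    have : g ^ i = g ^ j := by
      rw [hh, inv_pow, inv_mul_eq_one] at h1
      exact h1.symm
    rw [pow_eq_pow_iff_modEq, hord] at this
    exact hij (Nat.ModEq.eq_of_lt_of_lt this hi hj)
  have hunit := hχ h hne
  set ψ : (ZMod p)ˣ → R := fun m => ((χ m⁻¹ : Rˣ) : R) ^ j * ((χ m : Rˣ) : R) ^ i with hψ
  have hψmul : ∀ a m, ψ (a * m) = ψ a * ψ m := by
    intro a m
    simp only [hψ, mul_inv_rev, map_mul, Units.val_mul]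
    ring
  have hψg : ψ g = ((χ h : Rˣ) : R) := by
    simp only [hψ, hh, map_mul, map_pow, Units.val_mul, Units.val_pow_eq_pow_val]
  have hS : (((χ h : Rˣ) : R) - 1) * ∑ m : (ZMod p)ˣ, ψ m = 0 := by
    rw [sub_mul, one_mul, sub_eq_zero, Finset.mul_sum, ← hψg]
    refine Fintype.sum_equiv (Equiv.mulLeft g) _ _ fun m => ?_
    rw [Equiv.coe_mulLeft, hψmul]
  exact (hunit.mul_right_eq_zero).mp hS

lemma diag_sum (i : ℕ) :
    ∑ m : (ZMod p)ˣ, ((χ m⁻¹ : Rˣ) : R) ^ i * ((χ m : Rˣ) : R) ^ i = ((p - 1 : ℕ) : R) := by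
  have : ∀ m : (ZMod p)ˣ, ((χ m⁻¹ : Rˣ) : R) ^ i * ((χ m : Rˣ) : R) ^ i = 1 := by
    intro m
    rw [← mul_pow, ← Units.val_mul, ← map_mul, inv_mul_cancel, map_one, Units.val_one, one_pow]
  simp only [this, Finset.sum_const, Finset.card_univ, ZMod.card_units, nsmul_eq_mul, mul_one]

lemma mem_eigenAug (i : ℕ) (f : A) :
    f ∈ OortTate.eigenAug R A p χ i ↔
      Coalgebra.counit (R := R) f = 0 ∧
        ∀ m : (ZMod p)ˣ, P R A (m : ZMod p).val f = (((χ m : Rˣ) : R) ^ i) • f := by
  simp only [OortTate.eigenAug, Submodule.mem_inf, LinearMap.mem_ker, Submodule.mem_iInf,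
    Module.End.mem_eigenspace_iff, AlgHom.toLinearMap_apply, Bialgebra.counitAlgHom_apply]

lemma proj_of_eigen (i j : ℕ) (f : A)
    (hf : ∀ m : (ZMod p)ˣ, P R A (m : ZMod p).val f = (((χ m : Rˣ) : R) ^ i) • f) :
    OortTate.proj R A p u χ j f =
      (u * ∑ m : (ZMod p)ˣ, ((χ m⁻¹ : Rˣ) : R) ^ j * ((χ m : Rˣ) : R) ^ i) • f := by
  rw [proj_apply, ← smul_smul, Finset.sum_smul]
  congr 1
  refine Finset.sum_congr rfl fun m _ => ?_
  rw [hf m, smul_smul]

include hu in
lemma proj_of_eigen_self (i : ℕ) (f : A)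
    (hf : ∀ m : (ZMod p)ˣ, P R A (m : ZMod p).val f = (((χ m : Rˣ) : R) ^ i) • f) :
    OortTate.proj R A p u χ i f = f := by
  rw [proj_of_eigen p u χ i i f hf, diag_sum, hu, one_smul]

include hχ in
lemma proj_of_eigen_ne (i j : ℕ) (hi : i < p - 1) (hj : j < p - 1) (hij : i ≠ j) (f : A)
    (hf : ∀ m : (ZMod p)ˣ, P R A (m : ZMod p).val f = (((χ m : Rˣ) : R) ^ i) • f) :
    OortTate.proj R A p u χ j f = 0 := by
  rw [proj_of_eigen p u χ i j f hf, orth p χ hχ i j hi hj hij, mul_zero, zero_smul]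

include hu hχ in
lemma sum_proj (x : A) :
    ∑ i : Fin (p - 1), OortTate.proj R A p u χ (i : ℕ) x = x := by
  have hgeom : ∀ m : (ZMod p)ˣ, ∑ i : Fin (p - 1), ((χ m⁻¹ : Rˣ) : R) ^ (i : ℕ) =
      if m = 1 then ((p - 1 : ℕ) : R) else 0 := by
    intro m
    rw [Fin.sum_univ_eq_sum_range (fun i => ((χ m⁻¹ : Rˣ) : R) ^ i)]
    split_ifs with hm
    · subst hm
      simp
    · have hm' : m⁻¹ ≠ 1 := by simpa using hm
      have hunit := hχ m⁻¹ hm'
      have hpow : ((χ m⁻¹ : Rˣ) : R) ^ (p - 1) = 1 := by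
        rw [← Units.val_pow_eq_pow_val, ← map_pow, ZMod.units_pow_card_sub_one_eq_one, map_one,
          Units.val_one]
      have := mul_geom_sum ((χ m⁻¹ : Rˣ) : R) (p - 1)
      rw [hpow, sub_self] at this
      exact (hunit.mul_right_eq_zero).mp this
  simp only [proj_apply]
  rw [← Finset.smul_sum, Finset.sum_comm]
  simp only [← Finset.sum_smul, hgeom]
  rw [Finset.sum_eq_single (1 : (ZMod p)ˣ)]
  · rw [if_pos rfl, P_units_one, AlgHom.id_apply, smul_smul, hu, one_smul]
  · intro m _ hm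
    rw [if_neg hm, zero_smul]
  · intro h
    exact absurd (Finset.mem_univ _) h

end Rep


end Helpers


/-- Let p be a prime, R a commutative ring containing u with u(p − 1) = 1, and χ a homomorphism from the
units of ℤ/p to the units of R such that χ(m) − 1 is a unit for every m ≠ 1 (the situation of an
algebra over the subring Λ_p of the p-adic integers generated by the Teichmüller values and 1/(p(p −
1)), with χ the Teichmüller character, which is the published setting). Let A be a commutative Hopf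
algebra over R such that the p-th convolution power of the identity of A is the neutral element ε
followed by the unit (the affine group G = Spec A is killed by p), so that for a unit m of ℤ/p the
power map [m] of A depends only on m. For 0 ≤ i < p − 1 let I_i ⊆ A be the submodule of those f with
ε(f) = 0 and [m]f = χ(m)^i f for every m. Then the augmentation ideal ker ε is the internal direct
sum of the I_i (the family is independent and its supremum is ker ε), and each I_i is the image of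
ker ε under the averaging operator u Σ_m χ(m)^{−i}[m]. (The published statement is for the Hopf
algebra of a group scheme of order p over a Λ_p-algebra, which is commutative and killed by p; the
hypotheses here are what the argument uses.) -/
theorem result
    (p : ℕ) [Fact p.Prime] (R : Type u) [CommRing R] (u : R) (hu : u * ((p - 1 : ℕ) : R) = 1)
    (χ : (ZMod p)ˣ →* Rˣ) (hχ : ∀ m : (ZMod p)ˣ, m ≠ 1 → IsUnit ((χ m : R) - 1))
    (A : Type u) [CommRing A] [HopfAlgebra R A]
    (hp : (WithConv.toConv (AlgHom.id R A)) ^ p = 1) :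
    iSupIndep (fun i : Fin (p - 1) => OortTate.eigenAug R A p χ (i : ℕ)) ∧
      (⨆ i : Fin (p - 1), OortTate.eigenAug R A p χ (i : ℕ)) =
        LinearMap.ker (Bialgebra.counitAlgHom R A).toLinearMap ∧
      ∀ i : Fin (p - 1), OortTate.eigenAug R A p χ (i : ℕ) =
        Submodule.map (OortTate.proj R A p u χ (i : ℕ))
          (LinearMap.ker (Bialgebra.counitAlgHom R A).toLinearMap) := by
  have hK : ∀ i : Fin (p - 1), ∀ f : A, Coalgebra.counit (R := R) f = 0 →
      OortTate.proj R A p u χ (i : ℕ) f ∈ OortTate.eigenAug R A p χ (i : ℕ) := by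
    intro i f hf
    rw [mem_eigenAug]
    refine ⟨?_, fun m => P_proj p u χ hp (i : ℕ) m f⟩
    rw [proj_apply, map_smul, map_sum]
    simp only [map_smul, counit_P, hf, smul_zero, Finset.sum_const_zero]
  have hC3 : ∀ i : Fin (p - 1), OortTate.eigenAug R A p χ (i : ℕ) =
      Submodule.map (OortTate.proj R A p u χ (i : ℕ))
        (LinearMap.ker (Bialgebra.counitAlgHom R A).toLinearMap) := by
    intro i
    apply le_antisymm
    · intro f hf
      have hf' := (mem_eigenAug p χ (i : ℕ) f).mp hf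
      refine ⟨f, ?_, proj_of_eigen_self p u hu χ (i : ℕ) f hf'.2⟩
      simpa using hf'.1
    · rintro _ ⟨f, hf, rfl⟩
      exact hK i f (by simpa using hf)
  refine ⟨?_, ?_, hC3⟩
  · rw [iSupIndep_def]
    intro i
    rw [Submodule.disjoint_def]
    intro x hx1 hx2
    have hx1' := (mem_eigenAug p χ (i : ℕ) x).mp hx1
    have h1 : OortTate.proj R A p u χ (i : ℕ) x = x := proj_of_eigen_self p u hu χ (i : ℕ) x hx1'.2
    have h2 : (⨆ j, ⨆ (_ : j ≠ i), OortTate.eigenAug R A p χ ((j : Fin (p - 1)) : ℕ)) ≤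
        LinearMap.ker (OortTate.proj R A p u χ (i : ℕ)) := by
      refine iSup_le fun j => iSup_le fun hji => ?_
      intro y hy
      have hy' := (mem_eigenAug p χ (j : ℕ) y).mp hy
      rw [LinearMap.mem_ker]
      refine proj_of_eigen_ne p u χ hχ (j : ℕ) (i : ℕ) j.2 i.2 ?_ y hy'.2
      exact fun h => hji (Fin.ext h)
    have h3 := h2 hx2
    rw [LinearMap.mem_ker, h1] at h3
    exact h3
  · apply le_antisymm
    · refine iSup_le fun i => ?_
      unfold OortTate.eigenAug
      exact inf_le_left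
    · intro f hf
      have hf' : Coalgebra.counit (R := R) f = 0 := by simpa using hf
      rw [← sum_proj p u hu χ hχ f]
      refine Submodule.sum_mem _ fun i _ => ?_
      exact Submodule.mem_iSup_of_mem i (hK i f hf')

end Groth.Agent.S18468
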