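import Groth.Statements.S18471
import Mathlib
import Groth.Agent.S18468

set_option autoImplicit false
universe u
open OortTate

namespace Groth.Agent.S18471

section Helpers

open OortTate WithConv TensorProduct


open CartDual

section Transpose

variable {R : Type u} [CommRing R] {A : Type u} [CommRing A] [HopfAlgebra R A]
  [Module.Finite R A] [Module.Projective R A]

/-- general transposition lemma -/
theorem ofConv_mul'_rTensor (F : D R A →ₗ[R] D R A) (f : A →ₗ[R] A)
    (hF : ∀ ψ : D R A, (F ψ).ofConv = ψ.ofConv ∘ₗ f) (y : D R A ⊗[R] D R A) :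
    (LinearMap.mul' R (D R A) (F.rTensor (D R A) y)).ofConv =
      ev₂ R A y ∘ₗ f.rTensor A ∘ₗ Coalgebra.comul := by
  induction y using TensorProduct.induction_on with
  | zero => simp
  | add y₁ y₂ h₁ h₂ => simp only [map_add, WithConv.ofConv_add, h₁, h₂, LinearMap.add_comp]
  | tmul x z =>
    rw [LinearMap.rTensor_tmul, LinearMap.mul'_apply, LinearMap.convMul_def, WithConv.ofConv_toConv,
      hF, ev₂_tmul_eq', LinearMap.comp_assoc]
    congr 1
    apply LinearMap.ext; intro a
    simp only [LinearMap.coe_comp, Function.comp_apply]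
    generalize Coalgebra.comul (R := R) a = t
    induction t using TensorProduct.induction_on with
    | zero => simp only [map_zero]
    | tmul b c => rfl
    | add t t' ht ht' => simp only [map_add, ht, ht']

/-- linear convolution power of the identity -/
noncomputable def L (B : Type u) [Ring B] [Bialgebra R B] (n : ℕ) : B →ₗ[R] B :=
  ofConv ((toConv (LinearMap.id : B →ₗ[R] B)) ^ n)

theorem L_transpose (n : ℕ) (φ : D R A) :
    (L (R := R) (D R A) n φ).ofConv = φ.ofConv ∘ₗ L (R := R) A n := by
  induction n generalizing φ with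
  | zero =>
    apply LinearMap.ext; intro a
    simp [L, LinearMap.convOne_def, coe_apply, Algebra.algebraMap_eq_smul_one, mul_comm]
  | succ n ih =>
    have h1 : L (R := R) (D R A) (n + 1) φ =
        LinearMap.mul' R (D R A) ((L (R := R) (D R A) n).rTensor (D R A)
          (Coalgebra.comul (R := R) φ)) := by
      simp only [L, pow_succ, LinearMap.convMul_def, WithConv.ofConv_toConv]
      rfl
    rw [h1, ofConv_mul'_rTensor _ _ ih, comul_def, ev₂_comul]
    simp only [L, pow_succ, LinearMap.convMul_def, WithConv.ofConv_toConv]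
    rfl

lemma P_toLinearMap (B : Type u) [CommRing B] [HopfAlgebra R B] (n : ℕ) :
    (Groth.Agent.S18468.P R B n).toLinearMap = L (R := R) B n := by
  have h := AlgHom.toLinearMap_convPow (toConv (AlgHom.id R B)) n
  have h2 := congrArg WithConv.ofConv h
  rw [WithConv.ofConv_toConv] at h2
  exact h2

variable [Coalgebra.IsCocomm R A]

theorem P_transpose (n : ℕ) (φ : D R A) (a : A) :
    (Groth.Agent.S18468.P R (D R A) n φ) a = φ (Groth.Agent.S18468.P R A n a) := by
  have h1 : Groth.Agent.S18468.P R (D R A) n φ = L (R := R) (D R A) n φ := by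
    rw [← P_toLinearMap]; rfl
  have h2 : Groth.Agent.S18468.P R A n a = L (R := R) A n a := by
    rw [← P_toLinearMap]; rfl
  rw [h1, h2, coe_apply, L_transpose]
  rfl

end Transpose


section Main

open Groth.Agent.S18468

variable (p : ℕ) [Fact p.Prime] {R : Type u} [CommRing R] (u : R)
  (hu : u * ((p - 1 : ℕ) : R) = 1) (χ : (ZMod p)ˣ →* Rˣ)
  {A : Type u} [CommRing A] [HopfAlgebra R A]
  (hp : (toConv (AlgHom.id R A)) ^ p = 1) (i : ℕ)

/-- the projection onto the eigen-part of the augmentation ideal -/
noncomputable def b : A →ₗ[R] A :=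
  OortTate.proj R A p u χ i -
    (Algebra.linearMap R A) ∘ₗ (Coalgebra.counit (R := R) (A := A)) ∘ₗ OortTate.proj R A p u χ i

lemma b_apply (a : A) : b p u χ i a = OortTate.proj R A p u χ i a -
    algebraMap R A (Coalgebra.counit (R := R) (OortTate.proj R A p u χ i a)) := rfl

include hp in
lemma counit_proj_eq (m : (ZMod p)ˣ) (a : A) :
    Coalgebra.counit (R := R) (OortTate.proj R A p u χ i a) =
      ((χ m : Rˣ) : R) ^ i * Coalgebra.counit (R := R) (OortTate.proj R A p u χ i a) := by
  conv_lhs => rw [← counit_P R A (m : ZMod p).val, P_proj p u χ hp i m a, map_smul, smul_eq_mul]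

include hp in
lemma b_mem (a : A) : b p u χ i a ∈ OortTate.eigenAug R A p χ i := by
  rw [mem_eigenAug]
  constructor
  · rw [b_apply, map_sub, Bialgebra.counit_algebraMap, sub_self]
  · intro m
    rw [b_apply, map_sub, P_proj p u χ hp i m a, AlgHom.commutes, smul_sub]
    congr 1
    rw [Algebra.smul_def, ← map_mul, ← counit_proj_eq p u χ hp i m a]

include hu in
lemma b_of_mem (x : A) (hx : x ∈ OortTate.eigenAug R A p χ i) : b p u χ i x = x := by
  rw [mem_eigenAug] at hx
  rw [b_apply, proj_of_eigen_self p u hu χ i x hx.2, hx.1, map_zero, sub_zero]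

lemma P_comm (m n : ℕ) (a : A) : P R A m (P R A n a) = P R A n (P R A m a) := by
  have h1 : P R A m (P R A n a) = ((P R A m).comp (P R A n)) a := rfl
  have h2 : P R A n (P R A m a) = ((P R A n).comp (P R A m)) a := rfl
  rw [h1, h2, P_comp, P_comp, mul_comm]

include hp in
lemma proj_P (m : (ZMod p)ˣ) (a : A) :
    OortTate.proj R A p u χ i (P R A (m : ZMod p).val a) =
      (((χ m : Rˣ) : R) ^ i) • OortTate.proj R A p u χ i a := by
  rw [← P_proj p u χ hp i m a, proj_apply, proj_apply, map_smul, map_sum]
  congr 1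
  refine Finset.sum_congr rfl fun n _ => ?_
  rw [map_smul, P_comm]

include hp in
lemma b_P (m : (ZMod p)ˣ) (a : A) :
    b p u χ i (P R A (m : ZMod p).val a) = (((χ m : Rˣ) : R) ^ i) • b p u χ i a := by
  rw [b_apply, b_apply, proj_P p u χ hp i m a, smul_sub, map_smul, smul_eq_mul, map_mul,
    Algebra.smul_def, Algebra.smul_def]

lemma b_one : b p u χ i (1 : A) = 0 := by
  have h1 : OortTate.proj R A p u χ i (1 : A) =
      algebraMap R A (u * ∑ m : (ZMod p)ˣ, (((χ m⁻¹ : Rˣ) : R) ^ i)) := by
    rw [proj_apply]
    simp only [map_one]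
    rw [← Finset.sum_smul, smul_smul, Algebra.algebraMap_eq_smul_one]
  rw [b_apply, h1, Bialgebra.counit_algebraMap, sub_self]

end Main

section Dual

open Groth.Agent.S18468

variable (p : ℕ) [Fact p.Prime] {R : Type u} [CommRing R] (u : R)
  (hu : u * ((p - 1 : ℕ) : R) = 1) (χ : (ZMod p)ˣ →* Rˣ)
  {A : Type u} [CommRing A] [HopfAlgebra R A] [Coalgebra.IsCocomm R A]
  [Module.Finite R A] [Module.Projective R A]
  (hp : (toConv (AlgHom.id R A)) ^ p = 1) (i : ℕ)

lemma memD (φ : D R A) : φ ∈ OortTate.eigenAug R (D R A) p χ i ↔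
    φ (1 : A) = 0 ∧ ∀ (m : (ZMod p)ˣ) (a : A),
      φ (P R A (m : ZMod p).val a) = ((χ m : Rˣ) : R) ^ i * φ a := by
  rw [mem_eigenAug]
  constructor
  · rintro ⟨h1, h2⟩
    refine ⟨h1, fun m a => ?_⟩
    rw [← P_transpose, h2 m]
    rfl
  · rintro ⟨h1, h2⟩
    refine ⟨h1, fun m => ?_⟩
    apply WithConv.ext
    apply LinearMap.ext
    intro a
    have := P_transpose (R := R) (A := A) (m : ZMod p).val φ a
    rw [coe_apply] at this
    rw [this, h2 m a]
    rfl

include hu in
lemma phi_proj (φ : D R A) (hφ : φ ∈ OortTate.eigenAug R (D R A) p χ i) (a : A) :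
    φ (OortTate.proj R A p u χ i a) = φ a := by
  rw [memD] at hφ
  rw [proj_apply, coe_apply, map_smul, map_sum]
  have : ∀ m : (ZMod p)ˣ, φ.ofConv ((((χ m⁻¹ : Rˣ) : R) ^ i) • P R A (m : ZMod p).val a) =
      (((χ m⁻¹ : Rˣ) : R) ^ i * ((χ m : Rˣ) : R) ^ i) * φ a := by
    intro m
    rw [map_smul, ← coe_apply, hφ.2 m a, smul_eq_mul, mul_assoc]
  simp only [this]
  rw [← Finset.sum_mul, diag_sum, smul_eq_mul, ← mul_assoc, hu, one_mul]

include hu in
lemma phi_b (φ : D R A) (hφ : φ ∈ OortTate.eigenAug R (D R A) p χ i) (a : A) :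
    φ (b p u χ i a) = φ a := by
  have h1 := (memD p χ i φ).1 hφ
  have h2 := phi_proj p u hu χ i φ hφ a
  rw [coe_apply] at h2
  have h3 := h1.1
  rw [coe_apply] at h3
  rw [b_apply, coe_apply, map_sub, h2, Algebra.algebraMap_eq_smul_one, map_smul, h3, smul_zero,
    sub_zero]

include hu hp in
theorem main : Function.Bijective (fun f : OortTate.eigenAug R (CartDual.D R A) p χ i =>
      ((CartDual.toDual R A) (f : CartDual.D R A)).comp (OortTate.eigenAug R A p χ i).subtype) := by
  constructor
  · intro f g hfg
    apply Subtype.ext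
    apply WithConv.ext
    apply LinearMap.ext
    intro a
    have hf := phi_b p u hu χ i f.1 f.2 a
    have hg := phi_b p u hu χ i g.1 g.2 a
    have h3 := congrArg (fun F => F ⟨b p u χ i a, b_mem p u χ hp i a⟩) hfg
    simp only [LinearMap.comp_apply, Submodule.subtype_apply, toDual_apply] at h3
    rw [coe_apply] at hf hg
    rw [← hf, ← hg]
    exact h3
  · intro ψ
    let φ : D R A := toConv (ψ ∘ₗ (b p u χ i).codRestrict (OortTate.eigenAug R A p χ i)
      (b_mem p u χ hp i))
    have hφ : ∀ a : A, φ a = ψ ⟨b p u χ i a, b_mem p u χ hp i a⟩ := fun a => rfl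
    refine ⟨⟨φ, ?_⟩, ?_⟩
    · rw [memD]
      refine ⟨?_, fun m a => ?_⟩
      · rw [hφ]
        have : (⟨b p u χ i 1, b_mem p u χ hp i 1⟩ : OortTate.eigenAug R A p χ i) = 0 :=
          Subtype.ext (b_one p u χ i)
        rw [this, map_zero]
      · rw [hφ, hφ]
        have : (⟨b p u χ i (P R A (m : ZMod p).val a), b_mem p u χ hp i _⟩ :
            OortTate.eigenAug R A p χ i) =
            (((χ m : Rˣ) : R) ^ i) • ⟨b p u χ i a, b_mem p u χ hp i a⟩ :=
          Subtype.ext (b_P p u χ hp i m a)
        rw [this, map_smul, smul_eq_mul]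
    · apply LinearMap.ext
      intro x
      simp only [LinearMap.comp_apply, Submodule.subtype_apply, toDual_apply]
      change φ (x : A) = ψ x
      rw [hφ]
      congr 1
      exact Subtype.ext (b_of_mem p u hu χ i x.1 x.2)

end Dual


end Helpers

/-- Let p be a prime, R a commutative ring containing u with u(p − 1) = 1, and χ a homomorphism from the
units of ℤ/p to the units of R such that χ(m) − 1 is a unit for every m ≠ 1 (the situation of an
algebra over the subring Λ_p of the p-adic integers generated by the Teichmüller values and 1/(p(p −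
1)), with χ the Teichmüller character, which is the published setting). Let A be a commutative and
cocommutative Hopf algebra over R, finitely generated and projective as an R-module, such that the
p-th convolution power of the identity of A is the neutral element (a finite locally free
commutative group killed by p), and let A^D = Hom_R(A, R) be its dual Hopf algebra (the Cartier
dual). For i ≥ 0 let I_i(A) ⊆ A and I_i(A^D) ⊆ A^D be the submodules of elements f of the respective
augmentation ideals with [m]f = χ(m)^i f for every unit m of ℤ/p, [m] the power map. Then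
restriction of linear forms to I_i(A) is a bijection from I_i(A^D) onto the dual module
Hom_R(I_i(A), R). (The published statement is for a group scheme of order p over a Λ_p-algebra and
asserts an isomorphism of R-modules; the map here is the one its proof uses.) -/
theorem result
    (p : ℕ) [Fact p.Prime] (R : Type u) [CommRing R] (u : R) (hu : u * ((p - 1 : ℕ) : R) = 1)
    (χ : (ZMod p)ˣ →* Rˣ) (hχ : ∀ m : (ZMod p)ˣ, m ≠ 1 → IsUnit ((χ m : R) - 1))
    (A : Type u) [CommRing A] [HopfAlgebra R A] [Coalgebra.IsCocomm R A]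
    [Module.Finite R A] [Module.Projective R A]
    (hp : (WithConv.toConv (AlgHom.id R A)) ^ p = 1) (i : ℕ) :
    Function.Bijective (fun f : OortTate.eigenAug R (CartDual.D R A) p χ i =>
      ((CartDual.toDual R A) (f : CartDual.D R A)).comp (OortTate.eigenAug R A p χ i).subtype) := by
  exact main p u hu χ hp i

end Groth.Agent.S18471
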