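import Groth.Statements.S18473
import Mathlib
import Groth.Agent.S18468
import Groth.Agent.Lib.H9Jacobi

set_option autoImplicit false
universe u
open OortTate

namespace Groth.Agent.S18473

section Helpers


open WithConv Groth.Agent.S18468

variable (R : Type u) [CommRing R] (p : ℕ) [Fact p.Prime]

/-- the group -/
abbrev G := Multiplicative (ZMod p)

/-- the group algebra -/
abbrev Amu := MonoidAlgebra R (Multiplicative (ZMod p))

/-- the basis elements -/
noncomputable def Tp (a : ZMod p) : Amu R p := MonoidAlgebra.single (Multiplicative.ofAdd a) 1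

lemma Tp_zero : Tp R p 0 = 1 := rfl

lemma Tp_add (a b : ZMod p) : Tp R p (a + b) = Tp R p a * Tp R p b := by
  unfold Tp
  rw [MonoidAlgebra.single_mul_single, mul_one, ofAdd_add]

lemma Tp_pow (a : ZMod p) (n : ℕ) : Tp R p a ^ n = Tp R p (n • a) := by
  induction n with
  | zero => simp [Tp_zero]
  | succ n ih => rw [pow_succ, ih, ← Tp_add, succ_nsmul]

lemma muT_eq : OortTate.muT R p = Tp R p 1 := rfl

lemma convPow_Tp (n : ℕ) (a : ZMod p) :
    ((toConv (AlgHom.id R (Amu R p))) ^ n) (Tp R p a) = Tp R p a ^ n := by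
  induction n with
  | zero =>
    rw [pow_zero, pow_zero]
    simp [Tp, AlgHom.convOne_apply]
    rfl
  | succ n ih =>
    rw [pow_succ, pow_succ]
    unfold Tp at ih ⊢
    rw [MonoidAlgebra.convMul_algHom_single_one, ih]
    rfl

lemma P_Tp (n : ℕ) (a : ZMod p) : P R (Amu R p) n (Tp R p a) = Tp R p (n • a) := by
  rw [← Tp_pow]
  exact convPow_Tp R p n a

lemma hp_mu : (toConv (AlgHom.id R (Amu R p))) ^ p = 1 := by
  apply WithConv.ofConv_injective
  refine MonoidAlgebra.algHom_ext (fun m => ?_) (Subsingleton.elim _ _)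
  have h1 := convPow_Tp R p p (Multiplicative.toAdd m)
  have h2 : Tp R p (Multiplicative.toAdd m) = MonoidAlgebra.single m 1 := rfl
  rw [h2] at h1
  change ((toConv (AlgHom.id R (Amu R p))) ^ p) (MonoidAlgebra.single m 1) = _
  rw [h1, ← h2, Tp_pow]
  have h3 : p • (Multiplicative.toAdd m : ZMod p) = 0 := by
    rw [nsmul_eq_mul, ZMod.natCast_self, zero_mul]
  rw [h3, Tp_zero]
  change _ = (1 : WithConv (Amu R p →ₐ[R] Amu R p)) (MonoidAlgebra.single m 1)
  rw [AlgHom.convOne_apply]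
  simp
  rfl

/-- coefficient functional -/
noncomputable def cf (a : ZMod p) : Amu R p →ₗ[R] R :=
  (Finsupp.lapply (Multiplicative.ofAdd a)) ∘ₗ (MonoidAlgebra.coeffLinearEquiv R).toLinearMap

lemma cf_apply (a : ZMod p) (x : Amu R p) : cf R p a x = x.coeff (Multiplicative.ofAdd a) := rfl

lemma cf_Tp (a b : ZMod p) : cf R p a (Tp R p b) = if b = a then 1 else 0 := by
  classical
  rw [cf_apply, Tp, MonoidAlgebra.coeff_single, Finsupp.single_apply]
  simp only [EmbeddingLike.apply_eq_iff_eq]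

lemma cf_one (a : ZMod p) : cf R p a (1 : Amu R p) = if (0 : ZMod p) = a then 1 else 0 := by
  rw [← Tp_zero, cf_Tp]

lemma decomp (x : Amu R p) : x = ∑ a : ZMod p, cf R p a x • Tp R p a := by
  classical
  apply MonoidAlgebra.coeff_injective
  ext g
  rw [MonoidAlgebra.coeff_sum, Finsupp.finsetSum_apply]
  simp only [MonoidAlgebra.coeff_smul, Finsupp.smul_apply, smul_eq_mul]
  have : ∀ a : ZMod p, cf R p a x * (Tp R p a).coeff g =
      if a = Multiplicative.toAdd g then x.coeff g else 0 := by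
    intro a
    have h1 : (Tp R p a).coeff g = cf R p (Multiplicative.toAdd g) (Tp R p a) := rfl
    rw [h1, cf_Tp]
    split_ifs with h
    · subst h
      rw [mul_one]
      rfl
    · rw [mul_zero]
  simp only [this]
  rw [Finset.sum_ite_eq' Finset.univ (Multiplicative.toAdd g)]
  simp

lemma counit_Tp (a : ZMod p) : Coalgebra.counit (R := R) (Tp R p a) = 1 := by
  rw [Tp, MonoidAlgebra.counit_single]
  rfl

lemma counit_eq_sum (x : Amu R p) : Coalgebra.counit (R := R) x = ∑ a : ZMod p, cf R p a x := by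
  conv_lhs => rw [decomp R p x]
  rw [map_sum]
  refine Finset.sum_congr rfl fun a _ => ?_
  rw [map_smul, counit_Tp, smul_eq_mul, mul_one]

lemma decomp_ker (x : Amu R p) (hx : Coalgebra.counit (R := R) x = 0) :
    x = ∑ a : ZMod p, cf R p a x • (Tp R p a - 1) := by
  simp only [smul_sub]
  rw [Finset.sum_sub_distrib, ← decomp, ← Finset.sum_smul, ← counit_eq_sum, hx, zero_smul, sub_zero]

lemma sum_zmod_eq_sum_units {M : Type*} [AddCommMonoid M] (f : ZMod p → M) (h0 : f 0 = 0) :
    ∑ a : ZMod p, f a = ∑ m : (ZMod p)ˣ, f (m : ZMod p) := by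
  classical
  let φ : (ZMod p)ˣ ↪ ZMod p := ⟨fun x ↦ x, Units.val_injective⟩
  have hmap : Finset.univ.map φ = Finset.univ.filter (fun a : ZMod p => a ≠ 0) := by
    ext x
    simp only [Finset.mem_map, Finset.mem_univ, true_and, Finset.mem_filter]
    constructor
    · rintro ⟨m, rfl⟩
      exact m.ne_zero
    · intro hx
      exact ⟨Units.mk0 x hx, rfl⟩
  have h1 : ∑ m : (ZMod p)ˣ, f (m : ZMod p) = ∑ a ∈ Finset.univ.map φ, f a := by
    rw [Finset.sum_map]
    rfl
  rw [h1, hmap, Finset.sum_filter]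
  refine Finset.sum_congr rfl fun a _ => ?_
  split_ifs with h
  · rfl
  · push Not at h
    rw [h, h0]

lemma P_unit_Tp (m : (ZMod p)ˣ) (a : ZMod p) :
    P R (Amu R p) (m : ZMod p).val (Tp R p a) = Tp R p ((m : ZMod p) * a) := by
  rw [P_Tp, nsmul_eq_mul, ZMod.natCast_zmod_val]

variable (u : R) (χ : (ZMod p)ˣ →* Rˣ)

lemma ygen_eq (i : ℕ) :
    OortTate.ygen R p u χ i =
      u • ∑ m : (ZMod p)ˣ, (((χ m⁻¹ : Rˣ) : R) ^ i) • (Tp R p (m : ZMod p) - 1) := by
  unfold OortTate.ygen
  rw [proj_apply, muT_eq]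
  congr 1
  refine Finset.sum_congr rfl fun m _ => ?_
  rw [map_sub, map_one, P_unit_Tp, mul_one]

lemma cf_ygen_unit (i : ℕ) (m' : (ZMod p)ˣ) :
    cf R p (m' : ZMod p) (OortTate.ygen R p u χ i) = u * ((χ m'⁻¹ : Rˣ) : R) ^ i := by
  classical
  rw [ygen_eq, map_smul, map_sum, smul_eq_mul]
  congr 1
  rw [Finset.sum_eq_single m']
  · rw [map_smul, map_sub, cf_Tp, cf_one, if_pos rfl, if_neg m'.ne_zero.symm, sub_zero, smul_eq_mul,
      mul_one]
  · intro m _ hm
    rw [map_smul, map_sub, cf_Tp, cf_one, if_neg m'.ne_zero.symm,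
      if_neg (fun h => hm (Units.ext h)), sub_zero, smul_zero]
  · intro h
    exact absurd (Finset.mem_univ _) h

lemma cf_ygen_zero (i : ℕ) :
    cf R p 0 (OortTate.ygen R p u χ i) = - (u * ∑ m : (ZMod p)ˣ, ((χ m⁻¹ : Rˣ) : R) ^ i) := by
  classical
  rw [ygen_eq, map_smul, map_sum, smul_eq_mul, ← mul_neg, ← Finset.sum_neg_distrib]
  congr 1
  refine Finset.sum_congr rfl fun m _ => ?_
  rw [map_smul, map_sub, cf_Tp, cf_one, if_pos rfl, if_neg m.ne_zero, zero_sub, smul_eq_mul, mul_neg,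
    mul_one]

lemma P_comm (a b : ℕ) (x : Amu R p) :
    P R (Amu R p) a (P R (Amu R p) b x) = P R (Amu R p) b (P R (Amu R p) a x) := by
  rw [← AlgHom.comp_apply, ← AlgHom.comp_apply, P_comp, P_comp, mul_comm]

lemma P_comm_proj (n i : ℕ) (x : Amu R p) :
    P R (Amu R p) n (OortTate.proj R (Amu R p) p u χ i x) =
      OortTate.proj R (Amu R p) p u χ i (P R (Amu R p) n x) := by
  rw [proj_apply, proj_apply, map_smul, map_sum]
  congr 1
  refine Finset.sum_congr rfl fun m _ => ?_
  rw [map_smul, P_comm]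

lemma ygen_eigen (i : ℕ) (m : (ZMod p)ˣ) :
    P R (Amu R p) (m : ZMod p).val (OortTate.ygen R p u χ i) =
      (((χ m : Rˣ) : R) ^ i) • OortTate.ygen R p u χ i :=
  P_proj p u χ (hp_mu R p) i m _

lemma counit_proj (i : ℕ) (x : Amu R p) (hx : Coalgebra.counit (R := R) x = 0) :
    Coalgebra.counit (R := R) (OortTate.proj R (Amu R p) p u χ i x) = 0 := by
  rw [proj_apply, map_smul, map_sum]
  simp only [map_smul, counit_P, hx, smul_zero, Finset.sum_const_zero]

lemma counit_T_sub_one : Coalgebra.counit (R := R) (Tp R p 1 - 1) = 0 := by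
  rw [map_sub, counit_Tp, ← Tp_zero, counit_Tp, sub_self]

lemma counit_ygen (i : ℕ) : Coalgebra.counit (R := R) (OortTate.ygen R p u χ i) = 0 :=
  counit_proj R p u χ i _ (counit_T_sub_one R p)

section Hyp

variable (hu : u * ((p - 1 : ℕ) : R) = 1)
  (hχ : ∀ m : (ZMod p)ˣ, m ≠ 1 → IsUnit ((χ m : R) - 1))

include hu hχ in
lemma Tp_unit_sub_one (m : (ZMod p)ˣ) :
    Tp R p (m : ZMod p) - 1 =
      ∑ i : Fin (p - 1), (((χ m : Rˣ) : R) ^ (i : ℕ)) • OortTate.ygen R p u χ (i : ℕ) := by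
  have h1 := sum_proj p u hu χ hχ (Tp R p 1 - 1)
  have h2 := congrArg (P R (Amu R p) (m : ZMod p).val) h1
  rw [map_sum, map_sub, map_one, P_unit_Tp, mul_one] at h2
  rw [← h2]
  refine Finset.sum_congr rfl fun i _ => ?_
  exact ygen_eigen R p u χ (i : ℕ) m

include hu in
/-- an element of the augmentation ideal on which the power maps act through `χ^i` is a multiple
of `y_i` -/
lemma eigen_eq_smul_ygen (i : ℕ) (f : Amu R p) (hf0 : Coalgebra.counit (R := R) f = 0)
    (hf : ∀ m : (ZMod p)ˣ, P R (Amu R p) (m : ZMod p).val f = (((χ m : Rˣ) : R) ^ i) • f) :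
    ∃ c : R, f = c • OortTate.ygen R p u χ i := by
  have h1 : OortTate.proj R (Amu R p) p u χ i f = f := proj_of_eigen_self p u hu χ i f hf
  have h2 : f = ∑ m : (ZMod p)ˣ, cf R p (m : ZMod p) f • (Tp R p (m : ZMod p) - 1) := by
    conv_lhs => rw [decomp_ker R p f hf0]
    rw [sum_zmod_eq_sum_units p (fun a => cf R p a f • (Tp R p a - 1))]
    rw [Tp_zero, sub_self, smul_zero]
  refine ⟨∑ m : (ZMod p)ˣ, cf R p (m : ZMod p) f * ((χ m : Rˣ) : R) ^ i, ?_⟩
  conv_lhs => rw [← h1, h2, map_sum]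
  rw [Finset.sum_smul]
  refine Finset.sum_congr rfl fun m _ => ?_
  rw [map_smul, ← smul_smul]
  congr 1
  have h3 : Tp R p (m : ZMod p) - 1 = P R (Amu R p) (m : ZMod p).val (Tp R p 1 - 1) := by
    rw [map_sub, map_one, P_unit_Tp, mul_one]
  rw [h3, ← P_comm_proj]
  exact ygen_eigen R p u χ i m

include hu hχ in
lemma span_ygen :
    Submodule.span R (Set.range (fun i : Fin (p - 1) => OortTate.ygen R p u χ (i : ℕ))) =
      LinearMap.ker (Bialgebra.counitAlgHom R (Amu R p)).toLinearMap := by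
  apply le_antisymm
  · rw [Submodule.span_le]
    rintro _ ⟨i, rfl⟩
    simp only [SetLike.mem_coe, LinearMap.mem_ker, AlgHom.toLinearMap_apply,
      Bialgebra.counitAlgHom_apply]
    exact counit_ygen R p u χ (i : ℕ)
  · intro f hf
    have hf0 : Coalgebra.counit (R := R) f = 0 := by simpa using hf
    have h2 : f = ∑ m : (ZMod p)ˣ, cf R p (m : ZMod p) f • (Tp R p (m : ZMod p) - 1) := by
      conv_lhs => rw [decomp_ker R p f hf0]
      rw [sum_zmod_eq_sum_units p (fun a => cf R p a f • (Tp R p a - 1))]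
      rw [Tp_zero, sub_self, smul_zero]
    rw [h2]
    refine Submodule.sum_mem _ fun m _ => Submodule.smul_mem _ _ ?_
    rw [Tp_unit_sub_one R p u χ hu hχ m]
    refine Submodule.sum_mem _ fun i _ => Submodule.smul_mem _ _ ?_
    exact Submodule.subset_span ⟨i, rfl⟩

lemma cf_one_ygen (i : ℕ) : cf R p 1 (OortTate.ygen R p u χ i) = u := by
  have := cf_ygen_unit R p u χ i 1
  simpa using this

include hu in
lemma u_mul_cancel (a : R) (h : a * u = 0) : a = 0 := by
  have : a = a * u * ((p - 1 : ℕ) : R) := by rw [mul_assoc, hu, mul_one]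
  rw [this, h, zero_mul]

include hu hχ in
lemma linIndep_ygen :
    LinearIndependent R (fun i : Fin (p - 1) => OortTate.ygen R p u χ (i : ℕ)) := by
  rw [Fintype.linearIndependent_iff]
  intro g hg j
  have h1 := congrArg (OortTate.proj R (Amu R p) p u χ (j : ℕ)) hg
  rw [map_sum, map_zero, Finset.sum_eq_single j] at h1
  · rw [map_smul, proj_of_eigen_self p u hu χ (j : ℕ) _ (ygen_eigen R p u χ (j : ℕ))] at h1
    have h2 := congrArg (cf R p 1) h1
    rw [map_smul, cf_one_ygen, map_zero, smul_eq_mul] at h2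
    exact u_mul_cancel R p u hu _ h2
  · intro i _ hij
    rw [map_smul, proj_of_eigen_ne p u χ hχ (i : ℕ) (j : ℕ) i.2 j.2
      (fun h => hij (Fin.ext h)) _ (ygen_eigen R p u χ (i : ℕ)), smul_zero]
  · intro h
    exact absurd (Finset.mem_univ _) h

include hu in
lemma pow_prime_ygen :
    ∃! w : R, OortTate.ygen R p u χ 1 ^ p = w • OortTate.ygen R p u χ 1 := by
  have hp0 : p ≠ 0 := (Fact.out : p.Prime).ne_zero
  have hex : ∃ c : R, OortTate.ygen R p u χ 1 ^ p = c • OortTate.ygen R p u χ 1 := by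
    apply eigen_eq_smul_ygen R p u χ hu 1
    · have : Coalgebra.counit (R := R) (OortTate.ygen R p u χ 1 ^ p) =
          (Bialgebra.counitAlgHom R (Amu R p)) (OortTate.ygen R p u χ 1 ^ p) := rfl
      rw [this, map_pow, Bialgebra.counitAlgHom_apply, counit_ygen, zero_pow hp0]
    · intro m
      rw [map_pow, ygen_eigen, smul_pow]
      congr 1
      have h1 : ((χ m : Rˣ) : R) ^ (p - 1) = 1 := by
        rw [← Units.val_pow_eq_pow_val, ← map_pow, ZMod.units_pow_card_sub_one_eq_one, map_one,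
          Units.val_one]
      have h2 : (p - 1) + 1 = p := by
        have := (Fact.out : p.Prime).two_le
        omega
      have h3 : ∀ x : R, x ^ (p - 1) = 1 → (x ^ 1) ^ p = x ^ 1 := by
        intro x hx
        rw [pow_one]
        calc x ^ p = x ^ ((p - 1) + 1) := by rw [h2]
          _ = x := by rw [pow_succ, hx, one_mul]
      exact h3 _ h1
  obtain ⟨c, hc⟩ := hex
  refine ⟨c, hc, fun w hw => ?_⟩
  have h1 : (w - c) • OortTate.ygen R p u χ 1 = 0 := by
    rw [sub_smul, ← hw, ← hc, sub_self]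
  have h2 := congrArg (cf R p 1) h1
  rw [map_smul, cf_one_ygen, map_zero, smul_eq_mul] at h2
  exact sub_eq_zero.mp (u_mul_cancel R p u hu _ h2)

end Hyp

lemma cf_mul (c : ZMod p) (x y : Amu R p) :
    cf R p c (x * y) = ∑ a : ZMod p, cf R p a x * cf R p (c - a) y := by
  conv_lhs => rw [decomp R p x, Finset.sum_mul, map_sum]
  refine Finset.sum_congr rfl fun a _ => ?_
  rw [smul_mul_assoc, map_smul, smul_eq_mul]
  congr 1
  rw [cf_apply, Tp, MonoidAlgebra.coeff_single_mul_apply, one_mul, cf_apply]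
  congr 1
  rw [← ofAdd_neg, ← ofAdd_add, neg_add_eq_sub]

section Char

variable (hu : u * ((p - 1 : ℕ) : R) = 1)
  (hχ : ∀ m : (ZMod p)ˣ, m ≠ 1 → IsUnit ((χ m : R) - 1))

/-- the character `χ` extended by zero -/
noncomputable abbrev Xc : MulChar (ZMod p) R := MulChar.ofUnitHom χ

lemma Xc_inv_pow_unit (i : ℕ) (m : (ZMod p)ˣ) :
    ((Xc R p χ)⁻¹ ^ i) (m : ZMod p) = ((χ m⁻¹ : Rˣ) : R) ^ i := by
  rw [MulChar.pow_apply_coe, MulChar.inv_apply', ← Units.val_inv_eq_inv_val, MulChar.ofUnitHom_coe]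

include hχ in
lemma sum_Xc_inv_pow (i : ℕ) (hi0 : 0 < i) (hi : i < p - 1) :
    ∑ a : ZMod p, ((Xc R p χ)⁻¹ ^ i) a = 0 := by
  rw [sum_zmod_eq_sum_units p _ (MulChar.map_zero _)]
  simp only [Xc_inv_pow_unit]
  have := orth p χ hχ 0 i (by omega) hi (by omega)
  simpa using this

include hχ in
lemma cf_ygen_eq (i : ℕ) (hi0 : 0 < i) (hi : i < p - 1) (a : ZMod p) :
    cf R p a (OortTate.ygen R p u χ i) = u * ((Xc R p χ)⁻¹ ^ i) a := by
  by_cases ha : a = 0
  · subst ha
    rw [cf_ygen_zero, MulChar.map_zero, mul_zero]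
    have := orth p χ hχ 0 i (by omega) hi (by omega)
    simp only [pow_zero, mul_one] at this
    rw [this, mul_zero, neg_zero]
  · have h1 := cf_ygen_unit R p u χ i (Units.mk0 a ha)
    have h2 := Xc_inv_pow_unit R p χ i (Units.mk0 a ha)
    rw [Units.val_mk0] at h1 h2
    rw [h1, h2]

include hχ in
lemma cf_one_mul_ygen (k : ℕ) (hk1 : 1 ≤ k) (hk2 : k ≤ p - 2) (hp3 : 3 ≤ p) :
    cf R p 1 (OortTate.ygen R p u χ 1 * OortTate.ygen R p u χ k) =
      u * u * jacobiSum (Xc R p χ)⁻¹ ((Xc R p χ)⁻¹ ^ k) := by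
  rw [cf_mul, jacobiSum, Finset.mul_sum]
  refine Finset.sum_congr rfl fun a _ => ?_
  rw [cf_ygen_eq R p u χ hχ 1 (by omega) (by omega), cf_ygen_eq R p u χ hχ k (by omega) (by omega),
    pow_one]
  ring

variable (hχp : ∀ m : (ZMod p)ˣ,
  ((χ m : Rˣ) : R) - (((m : ZMod p).val : ℕ) : R) ∈ Ideal.span ({(p : R)} : Set R))

include hχp in
lemma Xc_congr (b : ZMod p) :
    Xc R p χ b - ((b.val : ℕ) : R) ∈ Ideal.span ({(p : R)} : Set R) := by
  by_cases hb : b = 0
  · subst hb
    rw [MulChar.map_zero, ZMod.val_zero, Nat.cast_zero, sub_zero]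
    exact Ideal.zero_mem _
  · have h1 := hχp (Units.mk0 b hb)
    have h2 : Xc R p χ ((Units.mk0 b hb : (ZMod p)ˣ) : ZMod p) = χ (Units.mk0 b hb) :=
      MulChar.ofUnitHom_coe χ _
    rw [Units.val_mk0] at h1 h2
    rw [h2]
    exact h1

include hu hχ hχp in
lemma ygen_succ_mem (k : ℕ) (hk1 : 1 ≤ k) (hk2 : k ≤ p - 2) (hp3 : 3 ≤ p)
    (hk : OortTate.ygen R p u χ k ∈ Algebra.adjoin R ({OortTate.ygen R p u χ 1} : Set (Amu R p))) :
    OortTate.ygen R p u χ (k + 1) ∈
      Algebra.adjoin R ({OortTate.ygen R p u χ 1} : Set (Amu R p)) := by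
  have h1mem : OortTate.ygen R p u χ 1 ∈
      Algebra.adjoin R ({OortTate.ygen R p u χ 1} : Set (Amu R p)) :=
    Algebra.subset_adjoin rfl
  obtain ⟨c, hc⟩ := eigen_eq_smul_ygen R p u χ hu (k + 1)
    (OortTate.ygen R p u χ 1 * OortTate.ygen R p u χ k)
    (by
      have : Coalgebra.counit (R := R) (OortTate.ygen R p u χ 1 * OortTate.ygen R p u χ k) =
          (Bialgebra.counitAlgHom R (Amu R p))
            (OortTate.ygen R p u χ 1 * OortTate.ygen R p u χ k) := rfl
      rw [this, map_mul, Bialgebra.counitAlgHom_apply, counit_ygen, zero_mul])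
    (by
      intro m
      rw [map_mul, ygen_eigen, ygen_eigen, smul_mul_smul_comm, pow_one, pow_succ, mul_comm])
  have hJ := Groth.Agent.H9Jacobi.jacobi_isUnit (Xc R p χ) (Xc_congr R p χ hχp)
    (fun i hi0 hi => sum_Xc_inv_pow R p χ hχ i hi0 hi) hp3 k hk1 hk2
  have h2 := congrArg (cf R p 1) hc
  rw [cf_one_mul_ygen R p u χ hχ k hk1 hk2 hp3, map_smul, cf_one_ygen, smul_eq_mul] at h2
  have hcu : c = u * jacobiSum (Xc R p χ)⁻¹ ((Xc R p χ)⁻¹ ^ k) := by
    have h3 : (c - u * jacobiSum (Xc R p χ)⁻¹ ((Xc R p χ)⁻¹ ^ k)) * u = 0 := by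
      linear_combination -h2
    exact sub_eq_zero.mp (u_mul_cancel R p u hu _ h3)
  have huu : IsUnit u := IsUnit.of_mul_eq_one _ hu
  have hcunit : IsUnit c := by
    rw [hcu]
    exact huu.mul hJ
  obtain ⟨c', hc'⟩ := hcunit
  have h4 : OortTate.ygen R p u χ (k + 1) =
      ((c'⁻¹ : Rˣ) : R) • (OortTate.ygen R p u χ 1 * OortTate.ygen R p u χ k) := by
    rw [hc, smul_smul, ← hc', Units.inv_mul, one_smul]
  rw [h4]
  exact Subalgebra.smul_mem _ (Subalgebra.mul_mem _ h1mem hk) _

include hu hχ hχp in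
lemma ygen_mem (k : ℕ) (hk1 : 1 ≤ k) (hk : k ≤ p - 1) :
    OortTate.ygen R p u χ k ∈ Algebra.adjoin R ({OortTate.ygen R p u χ 1} : Set (Amu R p)) := by
  induction k, hk1 using Nat.le_induction with
  | base => exact Algebra.subset_adjoin rfl
  | succ k hk1 ih =>
    exact ygen_succ_mem R p u χ hu hχ hχp k hk1 (by omega) (by omega) (ih (by omega))

lemma ygen_period : OortTate.ygen R p u χ (p - 1) = OortTate.ygen R p u χ 0 := by
  rw [ygen_eq, ygen_eq]
  congr 1
  refine Finset.sum_congr rfl fun m _ => ?_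
  congr 1
  rw [← Units.val_pow_eq_pow_val, ← map_pow, ZMod.units_pow_card_sub_one_eq_one, map_one,
    Units.val_one, pow_zero]

include hu hχ hχp in
lemma adjoin_ygen_eq_top :
    Algebra.adjoin R ({OortTate.ygen R p u χ 1} : Set (Amu R p)) = ⊤ := by
  have hp2 : 2 ≤ p := (Fact.out : p.Prime).two_le
  have hT1 : Tp R p 1 - 1 ∈ Algebra.adjoin R ({OortTate.ygen R p u χ 1} : Set (Amu R p)) := by
    have h1 := sum_proj p u hu χ hχ (Tp R p 1 - 1)
    rw [← h1]
    refine Subalgebra.sum_mem _ fun i _ => ?_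
    by_cases hi : (i : ℕ) = 0
    · have h2 : OortTate.proj R (Amu R p) p u χ (i : ℕ) (Tp R p 1 - 1) =
          OortTate.ygen R p u χ (p - 1) := by
        rw [ygen_period, hi]
        rfl
      rw [h2]
      exact ygen_mem R p u χ hu hχ hχp (p - 1) (by omega) le_rfl
    · exact ygen_mem R p u χ hu hχ hχp (i : ℕ) (by omega) (by have := i.2; omega)
  have hT : Tp R p 1 ∈ Algebra.adjoin R ({OortTate.ygen R p u χ 1} : Set (Amu R p)) := by
    have := Subalgebra.add_mem _ hT1 (Subalgebra.one_mem _)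
    simpa using this
  rw [eq_top_iff]
  intro x _
  rw [decomp R p x]
  refine Subalgebra.sum_mem _ fun a _ => Subalgebra.smul_mem _ ?_ _
  have h3 : Tp R p a = Tp R p 1 ^ a.val := by
    rw [Tp_pow, nsmul_eq_mul, mul_one, ZMod.natCast_zmod_val]
  rw [h3]
  exact Subalgebra.pow_mem _ hT _

end Char


end Helpers


/-- With the preceding computation: let p be a prime, R a commutative ring containing u with u(p − 1) =
1, and χ a homomorphism from the units of ℤ/p to the units of R such that χ(m) − 1 is a unit for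
every m ≠ 1 (the situation of an algebra over the subring Λ_p of the p-adic integers generated by
the Teichmüller values and 1/(p(p − 1)), with χ the Teichmüller character, which is the published
setting); assume moreover χ(m) ≡ m modulo pR for every m. In the group algebra over R of the cyclic
group of order p, written R[T]/(T^p − 1) with T group-like (the Hopf algebra of μ_p, on which the
power map [m] sends T to T^m), put y_i = u Σ_m χ(m)^{−i}(T^m − 1), the average of T − 1 for the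
character χ^i. Then the elements y_0, …, y_{p−2} are a basis of the augmentation ideal (they are
linearly independent and span the kernel of the counit), the R-algebra is generated by y_1 alone,
and y_1^p = w·y_1 for a unique w ∈ R (the constant w_p of the classification). -/
theorem result
    (p : ℕ) [Fact p.Prime] (R : Type u) [CommRing R] (u : R) (hu : u * ((p - 1 : ℕ) : R) = 1)
    (χ : (ZMod p)ˣ →* Rˣ) (hχ : ∀ m : (ZMod p)ˣ, m ≠ 1 → IsUnit ((χ m : R) - 1))
    (hχp : ∀ m : (ZMod p)ˣ, ((χ m : Rˣ) : R) - (((m : ZMod p).val : ℕ) : R) ∈ Ideal.span ({(p : R)} : Set R)) :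
    LinearIndependent R (fun i : Fin (p - 1) => OortTate.ygen R p u χ (i : ℕ)) ∧
      Submodule.span R (Set.range (fun i : Fin (p - 1) => OortTate.ygen R p u χ (i : ℕ))) =
        LinearMap.ker (Bialgebra.counitAlgHom R (MonoidAlgebra R (Multiplicative (ZMod p)))).toLinearMap ∧
      Algebra.adjoin R ({OortTate.ygen R p u χ 1} : Set (MonoidAlgebra R (Multiplicative (ZMod p)))) = ⊤ ∧
      ∃! w : R, OortTate.ygen R p u χ 1 ^ p = w • OortTate.ygen R p u χ 1 := by
  exact ⟨linIndep_ygen R p u χ hu hχ, span_ygen R p u χ hu hχ,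
    adjoin_ygen_eq_top R p u χ hu hχ hχp, pow_prime_ygen R p u χ hu⟩

end Groth.Agent.S18473
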