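import Groth.Statements.S9552
import Groth.Agent.S9530

set_option autoImplicit false
universe u
open CategoryTheory CategoryTheory.Limits AlgebraicGeometry Opposite
open Algz

namespace Groth.Agent.S9552

/-- For the ideal sheaf I O_X of an ideal I of a base ring A and a Noetherian scheme X over Spec A, two
objects of Coh(X, I O_X) which are pro-isomorphic are isomorphic as inverse systems (existence of an
isomorphism; positions shifted by one). -/
theorem result (A : Type u) [CommRing A] (I : Ideal A) (X : Scheme.{u})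
    [X.Over (Spec (CommRingCat.of A))] [IsNoetherian X] (F G : ℕᵒᵖ ⥤ X.Modules)
    (hF : Formal.IsCohFormal I F) (hG : Formal.IsCohFormal I G) (h : Algz.IsProIsomorphic F G) :
    Nonempty (F ≅ G) := by
  obtain ⟨m, hm, hle, a, ha⟩ := h
  -- the canonical projection `F ∘ m ⟶ F`
  let π : DerCA.reindex F hm ⟶ F :=
    { app := fun n => F.map (homOfLE (hle n.unop)).op
      naturality := fun n n' f => by
        change F.map _ ≫ F.map _ = F.map _ ≫ F.map _
        rw [← F.map_comp, ← F.map_comp]
        exact congrArg F.map (Subsingleton.elim _ _) }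
  obtain ⟨β, hβ, -⟩ := Groth.Agent.S9530.result A I X F G hF hG m hm hle π (fun n => rfl) a
  have hβn : ∀ n : ℕ, F.map (homOfLE (hle n)).op ≫ β.app (op n) = a.app (op n) := fun n =>
    congrArg (fun t => t.app (op n)) hβ
  have hiso : ∀ n : ℕ, IsIso (β.app (op n)) := by
    intro n
    obtain ⟨M, hnM, b, hb1, hb2⟩ := ha n
    -- restate with explicit types
    let bF : G.obj (op M) ⟶ F.obj (op (m n)) := b
    let aM : F.obj (op (m M)) ⟶ G.obj (op M) := a.app (op M)
    let an : F.obj (op (m n)) ⟶ G.obj (op n) := a.app (op n)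
    have hb1' : aM ≫ bF = F.map (homOfLE (hm hnM)).op := hb1
    have hb2' : bF ≫ an = G.map (homOfLE hnM).op := hb2
    have han : F.map (homOfLE (hle n)).op ≫ β.app (op n) = an := hβn n
    have haM : F.map (homOfLE (hle M)).op ≫ β.app (op M) = aM := hβn M
    -- `b' : G_M ⟶ F_n`
    let b' : G.obj (op M) ⟶ F.obj (op n) := bF ≫ F.map (homOfLE (hle n)).op
    have hkill : ∀ r ∈ I ^ (n + 1), Formal.smulMod A (G.obj (op M)) r ≫ b' = 0 := by
      intro r hr
      rw [Groth.Agent.S9530.smulMod_comp, hF.2.1 n r hr, comp_zero]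
    obtain ⟨γ, hγ⟩ := Groth.Agent.S9530.exists_factor hG n M hnM (F.obj (op n)) b' hkill
    haveI : Epi (G.map (homOfLE hnM).op) := Groth.Agent.S9530.epi_le hG n M hnM
    have hnmM : n ≤ m M := hnM.trans (hle M)
    haveI : Epi (F.map (homOfLE hnmM).op) := Groth.Agent.S9530.epi_le hF n (m M) hnmM
    have hFF : ∀ {p q r : ℕ} (h1 : p ≤ q) (h2 : q ≤ r),
        F.map (homOfLE h2).op ≫ F.map (homOfLE h1).op = F.map (homOfLE (h1.trans h2)).op := by
      intro p q r h1 h2
      rw [← F.map_comp]
      rfl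
    refine ⟨γ, ?_, ?_⟩
    · -- `β_n ≫ γ = 𝟙`
      rw [← cancel_epi (F.map (homOfLE hnmM).op), Category.comp_id]
      have h1 : F.map (homOfLE hnmM).op ≫ β.app (op n) = aM ≫ G.map (homOfLE hnM).op := by
        rw [← haM, Category.assoc, ← β.naturality, ← Category.assoc, hFF]
      rw [← Category.assoc, h1, Category.assoc, hγ]
      change aM ≫ bF ≫ F.map (homOfLE (hle n)).op = _
      rw [← Category.assoc, hb1', hFF]
    · -- `γ ≫ β_n = 𝟙`
      rw [← cancel_epi (G.map (homOfLE hnM).op), ← Category.assoc, hγ, Category.comp_id]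
      change (bF ≫ F.map (homOfLE (hle n)).op) ≫ β.app (op n) = _
      rw [Category.assoc, han]
      exact hb2'
  haveI : ∀ n : ℕᵒᵖ, IsIso (β.app n) := fun n => hiso n.unop
  haveI : IsIso β := NatIso.isIso_of_isIso_app β
  exact ⟨asIso β⟩


end Groth.Agent.S9552
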