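import Groth.Statements.S7163
import Mathlib
import Groth.Agent.Lib.Helper24SummandCrit

set_option autoImplicit false
universe u
open CAlg

namespace Groth.Agent.S7163

namespace Aux

open Groth.Agent.Lib.Helper24SummandCrit

section general

theorem li_snoc_add {K V : Type*} [Field K] [AddCommGroup V] [Module K V] {h : ℕ}
    (σ : Fin h → V) (p q : V) (c : K)
    (hli : LinearIndependent K (Fin.snoc (Fin.snoc σ p : Fin (h + 1) → V) q : Fin (h + 1 + 1) → V)) :
    LinearIndependent K (Fin.snoc σ (p + c • q) : Fin (h + 1) → V) := by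
  rw [linearIndependent_finSnoc] at hli ⊢
  obtain ⟨h1, hq⟩ := hli
  have h1' := h1
  rw [linearIndependent_finSnoc] at h1'
  obtain ⟨hσ, hp⟩ := h1'
  refine ⟨hσ, fun hmem => ?_⟩
  have hsub : Submodule.span K (Set.range σ) ≤
      Submodule.span K (Set.range (Fin.snoc σ p : Fin (h + 1) → V)) := by
    apply Submodule.span_mono
    rintro _ ⟨i, rfl⟩
    exact ⟨i.castSucc, by simp⟩
  have hpm : p ∈ Submodule.span K (Set.range (Fin.snoc σ p : Fin (h + 1) → V)) :=
    Submodule.subset_span ⟨Fin.last h, by simp⟩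
  by_cases hc : c = 0
  · rw [hc, zero_smul, add_zero] at hmem
    exact hp hmem
  · apply hq
    have hqe : q = c⁻¹ • ((p + c • q) - p) := by
      rw [add_sub_cancel_left, smul_smul, inv_mul_cancel₀ hc, one_smul]
    rw [hqe]
    exact Submodule.smul_mem _ _ (Submodule.sub_mem _ (hsub hmem) hpm)

theorem exists_finset_points {α : Type*} (𝒮 : Set (Set α)) (h𝒮 : 𝒮.Finite) (A : Set α) :
    ∃ Ty : Finset α, (∀ y ∈ Ty, y ∉ A ∧ ∃ C ∈ 𝒮, y ∈ C) ∧
      ∀ C ∈ 𝒮, ¬ C ⊆ A → ∃ y ∈ Ty, y ∈ C := by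
  classical
  have hex : ∀ C : {C // C ∈ 𝒮 ∧ ¬ C ⊆ A}, ∃ y, y ∈ C.1 ∧ y ∉ A :=
    fun C => Set.not_subset.mp C.2.2
  choose y hy using hex
  haveI : Finite {C // C ∈ 𝒮 ∧ ¬ C ⊆ A} :=
    (h𝒮.subset (fun C (hC : C ∈ {C | C ∈ 𝒮 ∧ ¬ C ⊆ A}) => hC.1)).to_subtype
  refine ⟨(Set.finite_range y).toFinset, ?_, ?_⟩
  · intro z hz
    rw [Set.Finite.mem_toFinset] at hz
    obtain ⟨C, rfl⟩ := hz
    exact ⟨(hy C).2, C.1, C.2.1, (hy C).1⟩
  · intro C hC hCA
    refine ⟨y ⟨C, hC, hCA⟩, ?_, (hy ⟨C, hC, hCA⟩).1⟩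
    rw [Set.Finite.mem_toFinset]
    exact ⟨_, rfl⟩

theorem irr_subset_of_finite_cover {α : Type*} [TopologicalSpace α] {E : Set α}
    (hE : IsIrreducible E) (𝒞 : Set (Set α)) (hfin : 𝒞.Finite) (hcl : ∀ C ∈ 𝒞, IsClosed C)
    (hcov : E ⊆ ⋃₀ 𝒞) : ∃ C ∈ 𝒞, E ⊆ C := by
  classical
  obtain ⟨C, hC, hEC⟩ := isIrreducible_iff_sUnion_isClosed.mp hE hfin.toFinset
    (fun z hz => hcl z (hfin.mem_toFinset.mp hz)) (by rwa [Set.Finite.coe_toFinset])
  exact ⟨C, hfin.mem_toFinset.mp hC, hEC⟩

end general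

variable (R : Type u) [CommRing R] (M : Type u) [AddCommGroup M] [Module R M]

/-- `B(x)` -/
def Bq (x : MaximalSpectrum R) :
    Submodule (R ⧸ x.asIdeal) (M ⧸ (x.asIdeal • ⊤ : Submodule R M)) :=
  Submodule.span (R ⧸ x.asIdeal)
    ((x.asIdeal • ⊤ : Submodule R M).mkQ '' {m : M | ∀ φ : M →ₗ[R] R, φ m ∈ x.asIdeal})

/-- the image of `m` in `V(x)` -/
def img (x : MaximalSpectrum R) (m : M) : (M ⧸ (x.asIdeal • ⊤ : Submodule R M)) ⧸ Bq R M x :=
  (Bq R M x).mkQ ((x.asIdeal • ⊤ : Submodule R M).mkQ m)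

theorem img_add (x : MaximalSpectrum R) (m m' : M) :
    img R M x (m + m') = img R M x m + img R M x m' := by
  simp only [img, map_add]

theorem img_sub (x : MaximalSpectrum R) (m m' : M) :
    img R M x (m - m') = img R M x m - img R M x m' := by
  simp only [img, map_sub]

theorem img_zero (x : MaximalSpectrum R) : img R M x 0 = 0 := by
  simp only [img, map_zero]

theorem img_smul (x : MaximalSpectrum R) (a : R) (m : M) :
    img R M x (a • m) = Ideal.Quotient.mk x.asIdeal a • img R M x m := by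
  unfold img
  rw [map_smul, ← mk_smul R M x.asIdeal a, map_smul]

theorem img_sum (x : MaximalSpectrum R) {ι : Type*} (t : Finset ι) (a : ι → R) (s : ι → M) :
    img R M x (∑ i ∈ t, a i • s i) =
      ∑ i ∈ t, Ideal.Quotient.mk x.asIdeal (a i) • img R M x (s i) := by
  classical
  induction t using Finset.induction_on with
  | empty => simp [img_zero]
  | insert i t hi ih => rw [Finset.sum_insert hi, Finset.sum_insert hi, img_add, img_smul, ih]

theorem img_eq_zero_iff (x : MaximalSpectrum R) (m : M) :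
    img R M x m = 0 ↔ ∀ φ : M →ₗ[R] R, φ m ∈ x.asIdeal := by
  unfold img
  rw [Submodule.mkQ_apply, Submodule.Quotient.mk_eq_zero]
  exact mem_span_iff R M x.asIdeal m

theorem img_eq_of_sub_mem (x : MaximalSpectrum R) {m m' : M}
    (hmm : m - m' ∈ (x.asIdeal • ⊤ : Submodule R M)) : img R M x m = img R M x m' := by
  unfold img
  congr 1
  rw [Submodule.mkQ_apply, Submodule.mkQ_apply]
  exact (Submodule.Quotient.eq _).mpr hmm

theorem img_surjective (x : MaximalSpectrum R) : Function.Surjective (img R M x) := by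
  intro w
  obtain ⟨y, rfl⟩ := Submodule.mkQ_surjective (Bq R M x) w
  obtain ⟨m, rfl⟩ := Submodule.mkQ_surjective (x.asIdeal • ⊤ : Submodule R M) y
  exact ⟨m, rfl⟩

theorem img_snoc (x : MaximalSpectrum R) {h : ℕ} (s : Fin h → M) (t : M) :
    (fun i => img R M x ((Fin.snoc s t : Fin (h + 1) → M) i)) =
      (Fin.snoc (fun i => img R M x (s i)) (img R M x t) : Fin (h + 1) → _) := by
  funext i
  refine Fin.lastCases ?_ (fun j => ?_) i
  · simp
  · simp

theorem li_of_det (x : MaximalSpectrum R) (r : ℕ) (s : Fin r → M)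
    (φ : Fin r → (M →ₗ[R] R))
    (hdet : (Matrix.of fun j i => φ j (s i)).det ∉ x.asIdeal) :
    LinearIndependent (R ⧸ x.asIdeal) (fun i => img R M x (s i)) := by
  classical
  rw [Fintype.linearIndependent_iff]
  intro c hc
  choose a ha using fun i => Ideal.Quotient.mk_surjective (c i)
  have h1 : ∑ i, c i • img R M x (s i) = img R M x (∑ i, a i • s i) := by
    rw [img_sum]
    refine Finset.sum_congr rfl fun i _ => ?_
    rw [ha i]
  rw [h1, img_eq_zero_iff] at hc
  set P : Matrix (Fin r) (Fin r) R := Matrix.of fun j i => φ j (s i) with hPdef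
  have hP : (P.map (Ideal.Quotient.mk x.asIdeal)).det ≠ 0 := by
    rw [← RingHom.mapMatrix_apply, ← RingHom.map_det, Ne, Ideal.Quotient.eq_zero_iff_mem]
    exact hdet
  have hmv : (P.map (Ideal.Quotient.mk x.asIdeal)).mulVec c = 0 := by
    funext j
    have hj := hc (φ j)
    rw [← Ideal.Quotient.eq_zero_iff_mem, map_sum, map_sum] at hj
    show ∑ i, Ideal.Quotient.mk x.asIdeal (φ j (s i)) * c i = 0
    rw [← hj]
    refine Finset.sum_congr rfl fun i _ => ?_
    rw [map_smul, smul_eq_mul, map_mul, ha i, mul_comm]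
  have hzero := Matrix.eq_zero_of_mulVec_eq_zero hP hmv
  intro i
  exact congrFun hzero i

theorem exists_det_of_li (x : MaximalSpectrum R) (r : ℕ) (s : Fin r → M)
    (hli : LinearIndependent (R ⧸ x.asIdeal) (fun i => img R M x (s i))) :
    ∃ φ : Fin r → (M →ₗ[R] R), (Matrix.of fun j i => φ j (s i)).det ∉ x.asIdeal := by
  classical
  let T : (M →ₗ[R] R) →ₗ[R] (Fin r → R ⧸ x.asIdeal) :=
    { toFun := fun φ i => Ideal.Quotient.mk x.asIdeal (φ (s i))
      map_add' := fun φ ψ => by
        funext i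
        simp only [LinearMap.add_apply, map_add, Pi.add_apply]
      map_smul' := fun a φ => by
        funext i
        simp only [LinearMap.smul_apply, smul_eq_mul, map_mul, RingHom.id_apply, Pi.smul_apply]
        rfl }
  have hTapp : ∀ φ i, T φ i = Ideal.Quotient.mk x.asIdeal (φ (s i)) := fun φ i => rfl
  have hT : LinearMap.range T = ⊤ := by
    by_contra hne
    set W' : Submodule (R ⧸ x.asIdeal) (Fin r → R ⧸ x.asIdeal) :=
      Submodule.span (R ⧸ x.asIdeal) (LinearMap.range T : Set (Fin r → R ⧸ x.asIdeal)) with hW'def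
    have hW' : W'.restrictScalars R = LinearMap.range T := by
      rw [hW'def, Submodule.restrictScalars_span R (R ⧸ x.asIdeal) Ideal.Quotient.mk_surjective,
        Submodule.span_eq]
    have hlt : W' < ⊤ := by
      rw [lt_top_iff_ne_top]
      intro h
      apply hne
      rw [← hW', h]
      rfl
    letI := Ideal.Quotient.field x.asIdeal
    obtain ⟨F, hF0, hF⟩ := Submodule.exists_le_ker_of_lt_top (K := R ⧸ x.asIdeal) W' hlt
    choose a ha using fun i => Ideal.Quotient.mk_surjective (F (Pi.single i 1))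
    have hFy : ∀ y : Fin r → R ⧸ x.asIdeal,
        F y = ∑ i, y i * Ideal.Quotient.mk x.asIdeal (a i) := by
      intro y
      rw [LinearMap.pi_apply_eq_sum_univ F y]
      refine Finset.sum_congr rfl fun i _ => ?_
      rw [ha i, smul_eq_mul]
      congr 2
      funext j
      rw [Pi.single_apply]
      simp only [eq_comm]
    have hm : ∀ φ : M →ₗ[R] R, φ (∑ i, a i • s i) ∈ x.asIdeal := by
      intro φ
      have h1 : T φ ∈ W' := Submodule.subset_span ⟨φ, rfl⟩
      have h2 : F (T φ) = 0 := hF h1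
      rw [hFy] at h2
      rw [← Ideal.Quotient.eq_zero_iff_mem, map_sum, map_sum, ← h2]
      refine Finset.sum_congr rfl fun i _ => ?_
      rw [map_smul, smul_eq_mul, map_mul, hTapp, mul_comm]
    have h4 : ∑ i, Ideal.Quotient.mk x.asIdeal (a i) • img R M x (s i) = 0 := by
      rw [← img_sum, img_eq_zero_iff]
      exact hm
    have h5 := Fintype.linearIndependent_iff.1 hli _ h4
    apply hF0
    apply LinearMap.ext
    intro y
    rw [hFy, LinearMap.zero_apply]
    refine Finset.sum_eq_zero fun i _ => ?_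
    rw [h5 i, mul_zero]
  choose φ hφ using fun j : Fin r =>
    LinearMap.range_eq_top.1 hT (Pi.single j (1 : R ⧸ x.asIdeal))
  refine ⟨φ, ?_⟩
  set P : Matrix (Fin r) (Fin r) R := Matrix.of fun j i => φ j (s i) with hPdef
  have hP1 : P.map (Ideal.Quotient.mk x.asIdeal) = 1 := by
    ext j i
    change Ideal.Quotient.mk x.asIdeal (φ j (s i)) = _
    rw [← hTapp, hφ j, Pi.single_apply, Matrix.one_apply]
    simp only [eq_comm]
  have hdet : Ideal.Quotient.mk x.asIdeal P.det = 1 := by
    rw [RingHom.map_det, RingHom.mapMatrix_apply, hP1, Matrix.det_one]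
  intro h
  rw [← Ideal.Quotient.eq_zero_iff_mem, hdet] at h
  exact one_ne_zero h

theorem isClosed_Z (r : ℕ) (s : Fin r → M) :
    IsClosed {x : MaximalSpectrum R |
      ¬ LinearIndependent (R ⧸ x.asIdeal) (fun i => img R M x (s i))} := by
  have hset : {x : MaximalSpectrum R |
      ¬ LinearIndependent (R ⧸ x.asIdeal) (fun i => img R M x (s i))} =
      MaximalSpectrum.toPrimeSpectrum ⁻¹' PrimeSpectrum.zeroLocus
        {d : R | ∃ φ : Fin r → (M →ₗ[R] R), d = (Matrix.of fun j i => φ j (s i)).det} := by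
    ext x
    rw [Set.mem_setOf_eq, Set.mem_preimage, PrimeSpectrum.mem_zeroLocus]
    constructor
    · rintro h d ⟨φ, rfl⟩
      by_contra hdx
      exact h (li_of_det R M x r s φ hdx)
    · intro h hli
      obtain ⟨φ, hφ⟩ := exists_det_of_li R M x r s hli
      exact hφ (h ⟨φ, rfl⟩)
  rw [hset]
  exact (PrimeSpectrum.isClosed_zeroLocus _).preimage MaximalSpectrum.toPrimeSpectrum_continuous

theorem isClosed_Z_snoc (h : ℕ) (s : Fin h → M) (t : M) :
    IsClosed {x : MaximalSpectrum R | ¬ LinearIndependent (R ⧸ x.asIdeal)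
      (Fin.snoc (fun i => img R M x (s i)) (img R M x t) : Fin (h + 1) → _)} := by
  have e : {x : MaximalSpectrum R | ¬ LinearIndependent (R ⧸ x.asIdeal)
      (Fin.snoc (fun i => img R M x (s i)) (img R M x t) : Fin (h + 1) → _)} =
      {x : MaximalSpectrum R | ¬ LinearIndependent (R ⧸ x.asIdeal)
        (fun i => img R M x ((Fin.snoc s t : Fin (h + 1) → M) i))} := by
    ext x
    simp only [Set.mem_setOf_eq]
    rw [img_snoc]
  rw [e]
  exact isClosed_Z R M (h + 1) _

theorem crt_ring (T : Finset (MaximalSpectrum R)) (r : MaximalSpectrum R → R) :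
    ∃ a : R, ∀ x ∈ T, a - r x ∈ x.asIdeal := by
  classical
  have hI : Pairwise (Function.onFun IsCoprime (fun i : T => (i.1).asIdeal)) := by
    intro i j hij
    exact Ideal.isCoprime_of_isMaximal (fun h => hij (Subtype.ext (MaximalSpectrum.ext h)))
  obtain ⟨a, ha⟩ := Ideal.exists_forall_sub_mem_ideal hI (fun i => r i.1)
  exact ⟨a, fun x hx => ha ⟨x, hx⟩⟩

theorem crt_module (T : Finset (MaximalSpectrum R)) (v : MaximalSpectrum R → M) :
    ∃ m : M, ∀ x ∈ T, m - v x ∈ (x.asIdeal • ⊤ : Submodule R M) := by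
  classical
  have key : ∀ y : MaximalSpectrum R, ∃ e : R, ∀ x ∈ T,
      e - (if x = y then 1 else 0) ∈ x.asIdeal := fun y => crt_ring R T _
  choose e he using key
  refine ⟨∑ y ∈ T, e y • v y, fun x hx => ?_⟩
  have hsum : ∑ y ∈ T, e y • v y - v x = ∑ y ∈ T, (e y - (if x = y then 1 else 0)) • v y := by
    simp only [sub_smul, Finset.sum_sub_distrib, ite_smul, one_smul, zero_smul]
    rw [Finset.sum_ite_eq T x]
    simp [hx]
  rw [hsum]
  exact Submodule.sum_mem _ fun y _ => Submodule.smul_mem_smul (he y x hx) Submodule.mem_top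

theorem exists_snoc (x : MaximalSpectrum R) {h : ℕ} (s : Fin h → M)
    (hli : LinearIndependent (R ⧸ x.asIdeal) (fun i => img R M x (s i)))
    (hrank : h + 1 ≤ Module.finrank (R ⧸ x.asIdeal)
      ((M ⧸ (x.asIdeal • ⊤ : Submodule R M)) ⧸ Bq R M x)) :
    ∃ u : M, LinearIndependent (R ⧸ x.asIdeal)
      (Fin.snoc (fun i => img R M x (s i)) (img R M x u) : Fin (h + 1) → _) := by
  letI := Ideal.Quotient.field x.asIdeal
  obtain ⟨w, hw⟩ := exists_linearIndependent_snoc_of_lt_finrank hli (by omega)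
  obtain ⟨u, rfl⟩ := img_surjective R M x w
  exact ⟨u, hw⟩

theorem main [TopologicalSpace.NoetherianSpace (MaximalSpectrum R)] (k : ℕ) :
    ∀ (h : ℕ) (s : Fin h → M) (F : Set (MaximalSpectrum R)) (_hF : IsClosed F)
      (T : Finset (MaximalSpectrum R)) (_hT : ∀ x ∈ T, x ∈ F) (v : MaximalSpectrum R → M),
      (∀ x : MaximalSpectrum R, h + k ≤ Module.finrank (R ⧸ x.asIdeal)
        ((M ⧸ (x.asIdeal • ⊤ : Submodule R M)) ⧸ Bq R M x)) →
      (∀ x : MaximalSpectrum R,
        ¬ LinearIndependent (R ⧸ x.asIdeal) (fun i => img R M x (s i)) → x ∈ F) →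
      ∃ (t : M) (F' : Set (MaximalSpectrum R)), IsClosed F' ∧
        (∀ x ∈ T, img R M x t = img R M x (v x)) ∧
        (∀ x : MaximalSpectrum R, ¬ LinearIndependent (R ⧸ x.asIdeal)
          (Fin.snoc (fun i => img R M x (s i)) (img R M x t) : Fin (h + 1) → _) → x ∈ F ∪ F') ∧
        ∀ Z : TopologicalSpace.IrreducibleCloseds (MaximalSpectrum R),
          (Z : Set (MaximalSpectrum R)) ⊆ F' → (k : ℕ∞) ≤ Order.coheight Z := by
  induction k with
  | zero =>
    intro h s F hF T hT v hrank hZ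
    obtain ⟨t, ht⟩ := crt_module R M T v
    refine ⟨t, Set.univ, isClosed_univ, fun x hx => img_eq_of_sub_mem R M x (ht x hx),
      fun x _ => Or.inr trivial, fun Z _ => ?_⟩
    simp
  | succ k ih =>
    intro h s F hF T hT v hrank hZ
    classical
    -- first application of the induction hypothesis
    obtain ⟨s', F'', hF''c, ha', hb', hc'⟩ :=
      ih h s F hF T hT v (fun x => by have := hrank x; omega) hZ
    obtain ⟨𝒮, h𝒮fin, h𝒮cl, h𝒮irr, h𝒮U⟩ :=
      TopologicalSpace.NoetherianSpace.exists_finite_set_isClosed_irreducible hF''c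
    obtain ⟨Ty, hTy1, hTy2⟩ := exists_finset_points 𝒮 h𝒮fin F
    have hTyF'' : ∀ y ∈ Ty, y ∈ F'' := by
      intro y hy
      obtain ⟨_, C, hC, hyC⟩ := hTy1 y hy
      rw [h𝒮U]
      exact ⟨C, hC, hyC⟩
    have hu : ∀ y : MaximalSpectrum R, ∃ u : M, y ∉ F →
        LinearIndependent (R ⧸ y.asIdeal)
          (Fin.snoc (fun i => img R M y (s i)) (img R M y u) : Fin (h + 1) → _) := by
      intro y
      by_cases hyF : y ∈ F
      · exact ⟨0, fun hn => absurd hyF hn⟩
      · have hli : LinearIndependent (R ⧸ y.asIdeal) (fun i => img R M y (s i)) := by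
          by_contra hn
          exact hyF (hZ y hn)
        obtain ⟨u, hu⟩ := exists_snoc R M y s hli (by have := hrank y; omega)
        exact ⟨u, fun _ => hu⟩
    choose u hu using hu
    -- second application
    let v2 : MaximalSpectrum R → M := fun x => if x ∈ F then 0 else u x - s'
    obtain ⟨t, G, hGc, ha2, hb2, hc2⟩ :=
      ih (h + 1) (Fin.snoc s s' : Fin (h + 1) → M) (F ∪ F'') (hF.union hF''c) (T ∪ Ty)
        (by
          intro x hx
          rcases Finset.mem_union.mp hx with hx | hx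
          · exact Or.inl (hT x hx)
          · exact Or.inr (hTyF'' x hx)) v2
        (fun x => by have := hrank x; omega)
        (by
          intro x hx
          apply hb' x
          rwa [img_snoc] at hx)
    obtain ⟨𝒢, h𝒢fin, h𝒢cl, h𝒢irr, h𝒢U⟩ :=
      TopologicalSpace.NoetherianSpace.exists_finite_set_isClosed_irreducible hGc
    obtain ⟨Tz, hTz1, hTz2⟩ := exists_finset_points 𝒢 h𝒢fin (F ∪ F'')
    obtain ⟨a, ha⟩ := crt_ring R (Ty ∪ Tz) (fun x => if x ∈ F'' then 1 else 0)
    have haY : ∀ y ∈ Ty, Ideal.Quotient.mk y.asIdeal a = 1 := by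
      intro y hy
      have hmem := ha y (Finset.mem_union_left _ hy)
      rw [if_pos (hTyF'' y hy)] at hmem
      rw [← map_one (Ideal.Quotient.mk y.asIdeal)]
      exact Ideal.Quotient.eq.mpr hmem
    have haZ : ∀ z ∈ Tz, Ideal.Quotient.mk z.asIdeal a = 0 := by
      intro z hz
      have hmem := ha z (Finset.mem_union_right _ hz)
      rw [if_neg (fun hzF => (hTz1 z hz).1 (Or.inr hzF)), sub_zero] at hmem
      exact Ideal.Quotient.eq_zero_iff_mem.mpr hmem
    have himg : ∀ x : MaximalSpectrum R, img R M x (s' + a • t) =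
        img R M x s' + Ideal.Quotient.mk x.asIdeal a • img R M x t := by
      intro x
      rw [img_add, img_smul]
    -- the bad locus of the new section
    have hZbc := isClosed_Z_snoc R M h s (s' + a • t)
    set Zb : Set (MaximalSpectrum R) := {x : MaximalSpectrum R |
      ¬ LinearIndependent (R ⧸ x.asIdeal)
        (Fin.snoc (fun i => img R M x (s i)) (img R M x (s' + a • t)) : Fin (h + 1) → _)}
      with hZb
    have hZbsub : Zb ⊆ (F ∪ F'') ∪ G := by
      intro x hx
      by_contra hnot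
      apply hx
      have hli2 : LinearIndependent (R ⧸ x.asIdeal)
          (Fin.snoc (fun i => img R M x ((Fin.snoc s s' : Fin (h + 1) → M) i)) (img R M x t) :
            Fin (h + 1 + 1) → _) := by
        by_contra hn
        exact hnot (hb2 x hn)
      rw [img_snoc] at hli2
      letI := Ideal.Quotient.field x.asIdeal
      have hfin := li_snoc_add _ _ _ (Ideal.Quotient.mk x.asIdeal a) hli2
      rw [himg]
      exact hfin
    have hYgood : ∀ y ∈ Ty, y ∉ Zb := by
      intro y hy hyZ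
      apply hyZ
      have hyF : y ∉ F := (hTy1 y hy).1
      have h1 : img R M y t = img R M y (u y) - img R M y s' := by
        rw [ha2 y (Finset.mem_union_right _ hy)]
        show img R M y (if y ∈ F then 0 else u y - s') = _
        rw [if_neg hyF, img_sub]
      rw [himg, haY y hy, one_smul, h1, add_sub_cancel]
      exact hu y hyF
    have hZgood : ∀ z ∈ Tz, z ∉ Zb := by
      intro z hz hzZ
      apply hzZ
      rw [himg, haZ z hz, zero_smul, add_zero]
      by_contra hn
      exact (hTz1 z hz).1 (hb' z hn)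
    obtain ⟨ℰ, hℰfin, hℰcl, hℰirr, hℰU⟩ :=
      TopologicalSpace.NoetherianSpace.exists_finite_set_isClosed_irreducible hZbc
    have hℰ'fin : {E | E ∈ ℰ ∧ ¬ E ⊆ F}.Finite := hℰfin.subset (fun E hE => hE.1)
    refine ⟨s' + a • t, ⋃₀ {E | E ∈ ℰ ∧ ¬ E ⊆ F}, ?_, ?_, ?_, ?_⟩
    · rw [Set.sUnion_eq_biUnion]
      exact hℰ'fin.isClosed_biUnion (fun E hE => hℰcl E hE.1)
    · intro x hx
      have hxF : x ∈ F := hT x hx
      have h1 : img R M x t = 0 := by
        rw [ha2 x (Finset.mem_union_left _ hx)]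
        show img R M x (if x ∈ F then 0 else u x - s') = _
        rw [if_pos hxF, img_zero]
      rw [himg, h1, smul_zero, add_zero]
      exact ha' x hx
    · intro x hx
      have hxZ : x ∈ Zb := hx
      rw [hℰU] at hxZ
      obtain ⟨E, hE, hxE⟩ := hxZ
      by_cases hEF : E ⊆ F
      · exact Or.inl (hEF hxE)
      · exact Or.inr ⟨E, ⟨hE, hEF⟩, hxE⟩
    · intro Zi hZi
      obtain ⟨E, ⟨hE, hEF⟩, hZiE⟩ := irr_subset_of_finite_cover Zi.isIrreducible' _ hℰ'fin
        (fun E hE => hℰcl E hE.1) hZi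
      have hEZb : E ⊆ Zb := by
        rw [hℰU]
        exact Set.subset_sUnion_of_mem hE
      have h𝒢'fin : {D | D ∈ 𝒢 ∧ ¬ D ⊆ F ∪ F''}.Finite := h𝒢fin.subset (fun D hD => hD.1)
      have hcov : E ⊆ ⋃₀ (({F} ∪ 𝒮) ∪ {D | D ∈ 𝒢 ∧ ¬ D ⊆ F ∪ F''}) := by
        intro x hxE
        have hcaseS : x ∈ F'' → x ∈ ⋃₀ (({F} ∪ 𝒮) ∪ {D | D ∈ 𝒢 ∧ ¬ D ⊆ F ∪ F''}) := by
          intro hxF''
          rw [h𝒮U] at hxF''
          obtain ⟨C, hC, hxC⟩ := hxF''
          exact ⟨C, Or.inl (Or.inr hC), hxC⟩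
        rcases hZbsub (hEZb hxE) with (hxF | hxF'') | hxG
        · exact ⟨F, Or.inl (Or.inl rfl), hxF⟩
        · exact hcaseS hxF''
        · rw [h𝒢U] at hxG
          obtain ⟨D, hD, hxD⟩ := hxG
          by_cases hDs : D ⊆ F ∪ F''
          · rcases hDs hxD with hxF | hxF''
            · exact ⟨F, Or.inl (Or.inl rfl), hxF⟩
            · exact hcaseS hxF''
          · exact ⟨D, Or.inr ⟨hD, hDs⟩, hxD⟩
      obtain ⟨W, hW, hEW⟩ := irr_subset_of_finite_cover (hℰirr E hE) _
        (((Set.finite_singleton F).union h𝒮fin).union h𝒢'fin)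
        (by
          rintro C ((hC | hC) | hC)
          · rw [Set.mem_singleton_iff.mp hC]; exact hF
          · exact h𝒮cl C hC
          · exact h𝒢cl C hC.1) hcov
      have key : ∃ Wi : TopologicalSpace.IrreducibleCloseds (MaximalSpectrum R),
          (k : ℕ∞) ≤ Order.coheight Wi ∧ Zi < Wi := by
        rcases hW with (hWF | hWS) | ⟨hWG, hWn⟩
        · exact absurd ((Set.mem_singleton_iff.mp hWF) ▸ hEW) hEF
        · have hWnF : ¬ W ⊆ F := fun hWF => hEF (hEW.trans hWF)
          obtain ⟨y, hyT, hyW⟩ := hTy2 W hWS hWnF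
          refine ⟨⟨W, h𝒮irr W hWS, h𝒮cl W hWS⟩, hc' _ ?_, ?_⟩
          · show W ⊆ F''
            rw [h𝒮U]
            exact Set.subset_sUnion_of_mem hWS
          · rw [SetLike.lt_iff_le_and_exists]
            exact ⟨fun p hp => hEW (hZiE hp), y, hyW,
              fun hyZ => hYgood y hyT (hEZb (hZiE hyZ))⟩
        · obtain ⟨z, hzT, hzW⟩ := hTz2 W hWG hWn
          refine ⟨⟨W, h𝒢irr W hWG, h𝒢cl W hWG⟩, hc2 _ ?_, ?_⟩
          · show W ⊆ G
            rw [h𝒢U]
            exact Set.subset_sUnion_of_mem hWG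
          · rw [SetLike.lt_iff_le_and_exists]
            exact ⟨fun p hp => hEW (hZiE hp), z, hzW,
              fun hzZ => hZgood z hzT (hEZb (hZiE hzZ))⟩
      obtain ⟨Wi, hWk, hlt⟩ := key
      calc ((k + 1 : ℕ) : ℕ∞) = (k : ℕ∞) + 1 := by push_cast; rfl
        _ ≤ Order.coheight Wi + 1 := by gcongr
        _ ≤ Order.coheight Zi := Order.coheight_add_one_le hlt

end Aux

/-- Let R be a ring whose set Ω of closed points of Spec R is a Noetherian topological space and M a
finitely presented R-module; for x in Ω write M(x) = M/xM, B(x) for the classes of elements m with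
φ(m) in x for every linear form φ, and V(x) = M(x)/B(x). Let s_1, ..., s_h be elements of M, F ⊆ Ω a
closed subset containing the set Z(s_1, ..., s_h) of points where the images of the s_i in V(x) are
linearly dependent, x_1, ..., x_n pairwise distinct points of F, v_i elements of M(x_i), and k ≥ 0
an integer with h + k ≤ dim V(x) for all x in Ω. Then there are s in M and a closed F' ⊆ Ω such that
(a) s(x_i) and v_i have the same image in V(x_i), (b) Z(s_1, ..., s_h, s) ⊆ F ∪ F', and (c) each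
irreducible component of F′ is of codimension at least k in Ω (equivalently, so is each irreducible
closed subset of Ω lying in F′). -/
theorem result (R : Type u) [CommRing R] [TopologicalSpace.NoetherianSpace (MaximalSpectrum R)]
    (M : Type u) [AddCommGroup M] [Module R M] [Module.FinitePresentation R M]
    (h : ℕ) (s : Fin h → M) (F : Set (MaximalSpectrum R)) (hF : IsClosed F)
    (n : ℕ) (xs : Fin n → MaximalSpectrum R) (hxs : Function.Injective xs) (hxF : ∀ i, xs i ∈ F)
    (v : ∀ i : Fin n, M ⧸ ((xs i).asIdeal • ⊤ : Submodule R M)) (k : ℕ) :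
    let Bq : ∀ x : MaximalSpectrum R, Submodule (R ⧸ x.asIdeal) (M ⧸ (x.asIdeal • ⊤ : Submodule R M)) :=
      fun x => Submodule.span (R ⧸ x.asIdeal)
        ((x.asIdeal • ⊤ : Submodule R M).mkQ '' {m : M | ∀ φ : M →ₗ[R] R, φ m ∈ x.asIdeal})
    let img : ∀ x : MaximalSpectrum R, M → (M ⧸ (x.asIdeal • ⊤ : Submodule R M)) ⧸ Bq x :=
      fun x m => (Bq x).mkQ ((x.asIdeal • ⊤ : Submodule R M).mkQ m)
    (∀ x : MaximalSpectrum R, h + k ≤ Module.finrank (R ⧸ x.asIdeal) ((M ⧸ (x.asIdeal • ⊤ : Submodule R M)) ⧸ Bq x)) →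
    (∀ x : MaximalSpectrum R, ¬ LinearIndependent (R ⧸ x.asIdeal) (fun i => img x (s i)) → x ∈ F) →
    ∃ (t : M) (F' : Set (MaximalSpectrum R)), IsClosed F' ∧
      (∀ i : Fin n, img (xs i) t = (Bq (xs i)).mkQ (v i)) ∧
      (∀ x : MaximalSpectrum R,
        ¬ LinearIndependent (R ⧸ x.asIdeal) (Fin.snoc (fun i => img x (s i)) (img x t)) → x ∈ F ∪ F') ∧
      ∀ Z : TopologicalSpace.IrreducibleCloseds (MaximalSpectrum R), (Z : Set (MaximalSpectrum R)) ⊆ F' →
        (k : ℕ∞) ≤ Order.coheight Z := by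
  intro Bq img hrank hZ
  classical
  choose mv hmv using fun i =>
    Submodule.mkQ_surjective ((xs i).asIdeal • ⊤ : Submodule R M) (v i)
  let vM : MaximalSpectrum R → M := fun x => if hx : ∃ i, xs i = x then mv hx.choose else 0
  have hvM : ∀ i, vM (xs i) = mv i := by
    intro i
    have hx : ∃ j, xs j = xs i := ⟨i, rfl⟩
    simp only [vM, dif_pos hx]
    rw [hxs hx.choose_spec]
  obtain ⟨t, F', hF'c, ha, hb, hc⟩ := Aux.main R M k h s F hF (Finset.univ.image xs)
    (by
      intro x hx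
      obtain ⟨i, _, rfl⟩ := Finset.mem_image.mp hx
      exact hxF i) vM hrank hZ
  refine ⟨t, F', hF'c, fun i => ?_, hb, hc⟩
  have hi := ha (xs i) (Finset.mem_image_of_mem xs (Finset.mem_univ i))
  rw [hvM i] at hi
  show Aux.img R M (xs i) t = (Aux.Bq R M (xs i)).mkQ (v i)
  rw [hi, ← hmv i]
  rfl

end Groth.Agent.S7163
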