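import Groth.Statements.S7113
import Mathlib
import Groth.Agent.S7163

set_option autoImplicit false
universe u
open CAlg

namespace Groth.Agent.S7113

namespace Aux

open Groth.Agent.S7163.Aux

variable (R : Type u) [CommRing R] (M : Type u) [AddCommGroup M] [Module R M]

theorem finite_V [Module.Finite R M] (x : MaximalSpectrum R) :
    Module.Finite (R ⧸ x.asIdeal) ((M ⧸ (x.asIdeal • ⊤ : Submodule R M)) ⧸ Bq R M x) := by
  haveI : RingHomSurjective (Ideal.Quotient.mk x.asIdeal) := ⟨Ideal.Quotient.mk_surjective⟩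
  let l : M →ₛₗ[Ideal.Quotient.mk x.asIdeal]
      ((M ⧸ (x.asIdeal • ⊤ : Submodule R M)) ⧸ Bq R M x) :=
    { toFun := img R M x
      map_add' := img_add R M x
      map_smul' := fun a m => img_smul R M x a m }
  exact Module.Finite.of_surjective l (img_surjective R M x)

theorem rank_bound [Module.FinitePresentation R M] (x : MaximalSpectrum R) (r : ℕ)
    (f : (Fin r → Localization.AtPrime x.asIdeal) →ₗ[Localization.AtPrime x.asIdeal]
      LocalizedModule x.asIdeal.primeCompl M)
    (g : LocalizedModule x.asIdeal.primeCompl M →ₗ[Localization.AtPrime x.asIdeal]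
      (Fin r → Localization.AtPrime x.asIdeal))
    (hgf : g ∘ₗ f = LinearMap.id) :
    r ≤ Module.finrank (R ⧸ x.asIdeal) ((M ⧸ (x.asIdeal • ⊤ : Submodule R M)) ⧸ Bq R M x) := by
  classical
  have hsurj : ∀ j : Fin r, ∃ (m : M) (u : x.asIdeal.primeCompl),
      u • f (Pi.single j 1) = LocalizedModule.mkLinearMap x.asIdeal.primeCompl M m := by
    intro j
    obtain ⟨⟨m, u⟩, hmu⟩ := IsLocalizedModule.surj x.asIdeal.primeCompl
      (LocalizedModule.mkLinearMap x.asIdeal.primeCompl M) (f (Pi.single j 1))
    exact ⟨m, u, hmu⟩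
  choose m u hmu using hsurj
  have hfun : ∀ i : Fin r, ∃ (φ : M →ₗ[R] R) (t : x.asIdeal.primeCompl), ∀ j,
      algebraMap R (Localization.AtPrime x.asIdeal) (φ (m j)) =
        algebraMap R (Localization.AtPrime x.asIdeal)
          ((t : R) * (u j : R) * (if i = j then 1 else 0)) := by
    intro i
    let γ : M →ₗ[R] Localization.AtPrime x.asIdeal :=
      ((LinearMap.proj i ∘ₗ g).restrictScalars R) ∘ₗ
        LocalizedModule.mkLinearMap x.asIdeal.primeCompl M
    obtain ⟨φ, t, ht⟩ := Module.FinitePresentation.exists_lift_of_isLocalizedModule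
      x.asIdeal.primeCompl (Algebra.linearMap R (Localization.AtPrime x.asIdeal)) γ
    refine ⟨φ, t, fun j => ?_⟩
    have h1 := LinearMap.congr_fun ht (m j)
    have h2 : γ (m j) = (u j : R) • (if i = j then (1 : Localization.AtPrime x.asIdeal) else 0) := by
      change (g (LocalizedModule.mkLinearMap x.asIdeal.primeCompl M (m j))) i = _
      rw [← hmu j, Submonoid.smul_def]
      have hsm : g (((u j : x.asIdeal.primeCompl) : R) • f (Pi.single j 1)) =
          ((u j : x.asIdeal.primeCompl) : R) • g (f (Pi.single j 1)) :=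
        (g.restrictScalars R).map_smul _ _
      rw [hsm, Pi.smul_apply]
      have hgf' : g (f (Pi.single j 1)) = Pi.single j 1 := LinearMap.congr_fun hgf _
      rw [hgf', Pi.single_apply]
    rw [LinearMap.comp_apply, Algebra.linearMap_apply, LinearMap.smul_apply, h2] at h1
    rw [h1, Submonoid.smul_def, Algebra.smul_def, Algebra.smul_def, map_mul, map_mul]
    split_ifs <;> simp
  choose φ t hφ using hfun
  have hmod : ∀ i j, Ideal.Quotient.mk x.asIdeal (φ i (m j)) =
      if i = j then Ideal.Quotient.mk x.asIdeal ((t i : R) * (u j : R)) else 0 := by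
    intro i j
    obtain ⟨c, hc⟩ := (IsLocalization.eq_iff_exists x.asIdeal.primeCompl _).1 (hφ i j)
    have hc' : Ideal.Quotient.mk x.asIdeal (c : R) ≠ 0 := by
      rw [Ne, Ideal.Quotient.eq_zero_iff_mem]
      exact c.2
    have h4 := congrArg (Ideal.Quotient.mk x.asIdeal) hc
    rw [map_mul, map_mul] at h4
    have h5 := mul_left_cancel₀ hc' h4
    rw [h5]
    split_ifs <;> simp
  set P : Matrix (Fin r) (Fin r) R := Matrix.of fun i j => φ i (m j) with hPdef
  have hPmap : P.map (Ideal.Quotient.mk x.asIdeal) =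
      Matrix.diagonal (fun i => Ideal.Quotient.mk x.asIdeal ((t i : R) * (u i : R))) := by
    ext i j
    rw [Matrix.map_apply, hPdef, Matrix.of_apply, hmod i j, Matrix.diagonal_apply]
    split_ifs with hij
    · rw [hij]
    · rfl
  have hdet : P.det ∉ x.asIdeal := by
    intro hmem
    have h0 : Ideal.Quotient.mk x.asIdeal P.det = 0 := Ideal.Quotient.eq_zero_iff_mem.mpr hmem
    rw [RingHom.map_det, RingHom.mapMatrix_apply, hPmap, Matrix.det_diagonal,
      Finset.prod_eq_zero_iff] at h0
    obtain ⟨i, _, hi⟩ := h0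
    rw [Ideal.Quotient.eq_zero_iff_mem] at hi
    exact (t i * u i).2 hi
  have hli := li_of_det R M x r m φ hdet
  haveI := finite_V R M x
  have hcard := hli.fintype_card_le_finrank
  simpa using hcard

end Aux

/-- Let R be a ring whose set of maximal ideals, with the Zariski topology, is a Noetherian topological
space of Krull dimension at most d, and let M be an R-module of finite presentation whose
localization M_m at each maximal ideal m contains a free direct summand of rank d + 1. Then M is
isomorphic to R ⊕ M' for some M': there are s in M and a linear form φ on M with φ(s) = 1. (The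
published statement takes the dimension equal to d; a space of smaller dimension satisfies the
hypothesis for a smaller d, so the bound form is equivalent.) -/
theorem result (R : Type u) [CommRing R] (d : ℕ)
    [TopologicalSpace.NoetherianSpace (MaximalSpectrum R)]
    (hdim : topologicalKrullDim (MaximalSpectrum R) ≤ d)
    (M : Type u) [AddCommGroup M] [Module R M] [Module.FinitePresentation R M]
    (hM : ∀ (m : Ideal R) [m.IsMaximal],
      ∃ (f : (Fin (d + 1) → Localization.AtPrime m) →ₗ[Localization.AtPrime m] LocalizedModule m.primeCompl M)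
        (g : LocalizedModule m.primeCompl M →ₗ[Localization.AtPrime m] (Fin (d + 1) → Localization.AtPrime m)),
        g ∘ₗ f = LinearMap.id) :
    ∃ (s : M) (φ : M →ₗ[R] R), φ s = 1 := by
  classical
  have hrank : ∀ x : MaximalSpectrum R, 0 + (d + 1) ≤ Module.finrank (R ⧸ x.asIdeal)
      ((M ⧸ (x.asIdeal • ⊤ : Submodule R M)) ⧸ Groth.Agent.S7163.Aux.Bq R M x) := by
    intro x
    obtain ⟨f, g, hgf⟩ := hM x.asIdeal
    rw [zero_add]
    exact Aux.rank_bound R M x (d + 1) f g hgf
  obtain ⟨t, F', hF'c, -, hb, hc⟩ := Groth.Agent.S7163.Aux.main R M (d + 1) 0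
    (Fin.elim0 : Fin 0 → M) ∅ isClosed_empty ∅ (by simp) (fun _ => 0) hrank
    (fun x hx => absurd linearIndependent_empty_type hx)
  have hF'e : ∀ x, x ∉ F' := by
    intro x hx
    let Zx : TopologicalSpace.IrreducibleCloseds (MaximalSpectrum R) :=
      ⟨{x}, isIrreducible_singleton, isClosed_singleton⟩
    have h1 := hc Zx (by
      intro y hy
      rw [Set.mem_singleton_iff.mp hy]
      exact hx)
    have h2 : (Order.coheight Zx : WithBot ℕ∞) ≤ topologicalKrullDim (MaximalSpectrum R) :=
      Order.coheight_le_krullDim Zx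
    have h3 : (Order.coheight Zx : WithBot ℕ∞) ≤ ((d : ℕ∞) : WithBot ℕ∞) := by
      simpa using h2.trans hdim
    have h4 : ((d + 1 : ℕ) : ℕ∞) ≤ (d : ℕ∞) := h1.trans (WithBot.coe_le_coe.mp h3)
    have h5 : (d + 1 : ℕ) ≤ d := by exact_mod_cast h4
    omega
  have hne : ∀ x : MaximalSpectrum R, ∃ φ : M →ₗ[R] R, φ t ∉ x.asIdeal := by
    intro x
    have hli : LinearIndependent (R ⧸ x.asIdeal)
        (Fin.snoc (fun i => Groth.Agent.S7163.Aux.img R M x ((Fin.elim0 : Fin 0 → M) i))
          (Groth.Agent.S7163.Aux.img R M x t) : Fin (0 + 1) → _) := by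
      by_contra hn
      rcases hb x hn with h | h
      · exact h
      · exact hF'e x h
    letI := Ideal.Quotient.field x.asIdeal
    have h0 := hli.ne_zero (Fin.last 0)
    rw [Fin.snoc_last] at h0
    by_contra hall
    push Not at hall
    exact h0 ((Groth.Agent.S7163.Aux.img_eq_zero_iff R M x t).mpr hall)
  -- the ideal of values
  let I : Ideal R := LinearMap.range (LinearMap.applyₗ t : (M →ₗ[R] R) →ₗ[R] R)
  have hI : I = ⊤ := by
    by_contra hIne
    obtain ⟨mx, hmx, hImx⟩ := Ideal.exists_le_maximal I hIne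
    obtain ⟨φ, hφ⟩ := hne ⟨mx, hmx⟩
    exact hφ (hImx ⟨φ, rfl⟩)
  have h1 : (1 : R) ∈ I := by rw [hI]; exact Submodule.mem_top
  obtain ⟨φ, hφ⟩ := h1
  exact ⟨t, φ, hφ⟩

end Groth.Agent.S7113
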