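import Groth.Statements.S19544
import Mathlib
import Groth.Agent.S7113

set_option autoImplicit false
universe u
open CAlg

namespace Groth.Agent.S19544

namespace Aux

theorem compl_of_equiv {R : Type*} [CommRing R] {P A B : Type*} [AddCommGroup P] [Module R P]
    [AddCommGroup A] [Module R A] [AddCommGroup B] [Module R B] (e : P ≃ₗ[R] (A × B)) :
    ∃ P₀ Q : Submodule R P, IsCompl P₀ Q ∧ Nonempty (Q ≃ₗ[R] B) := by
  refine ⟨LinearMap.range (e.symm.toLinearMap ∘ₗ LinearMap.inl R A B),
    LinearMap.range (e.symm.toLinearMap ∘ₗ LinearMap.inr R A B), ⟨?_, ?_⟩,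
    ⟨(LinearEquiv.ofInjective _ ?_).symm⟩⟩
  · rw [Submodule.disjoint_def]
    rintro p ⟨a, rfl⟩ ⟨b, hb⟩
    simp only [LinearMap.comp_apply, LinearEquiv.coe_coe, LinearMap.inl_apply,
      LinearMap.inr_apply] at hb ⊢
    have h2 := e.symm.injective hb
    have ha : a = 0 := (congrArg Prod.fst h2).symm
    rw [ha]
    simp
  · rw [codisjoint_iff, eq_top_iff]
    intro p _
    rw [Submodule.mem_sup]
    refine ⟨e.symm ((e p).1, 0), ⟨(e p).1, rfl⟩, e.symm (0, (e p).2), ⟨(e p).2, rfl⟩, ?_⟩
    rw [← map_add]
    simp
  · exact e.symm.injective.comp LinearMap.inr_injective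

theorem local_split (R : Type u) [CommRing R] (P : Type u) [AddCommGroup P] [Module R P]
    [Module.Finite R P] [Module.Projective R P] (n d : ℕ)
    (hrk : ∀ p : PrimeSpectrum R, Module.rankAtStalk (R := R) P p = n) (hle : d + 1 ≤ n)
    (m : Ideal R) [m.IsMaximal] :
    ∃ (f : (Fin (d + 1) → Localization.AtPrime m) →ₗ[Localization.AtPrime m]
        LocalizedModule m.primeCompl P)
      (g : LocalizedModule m.primeCompl P →ₗ[Localization.AtPrime m]
        (Fin (d + 1) → Localization.AtPrime m)),
      g ∘ₗ f = LinearMap.id := by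
  haveI hfree : Module.Free (Localization.AtPrime m) (LocalizedModule m.primeCompl P) := by
    have hmem : (⟨m, inferInstance⟩ : PrimeSpectrum R) ∈ Module.freeLocus R P := by
      rw [Module.freeLocus_eq_univ]
      trivial
    exact hmem
  have hfr : Module.finrank (Localization.AtPrime m) (LocalizedModule m.primeCompl P) = n :=
    hrk ⟨m, inferInstance⟩
  let b := Module.finBasisOfFinrankEq (Localization.AtPrime m)
    (LocalizedModule m.primeCompl P) hfr
  refine ⟨b.equivFun.symm.toLinearMap ∘ₗ
      Function.ExtendByZero.linearMap (Localization.AtPrime m) (Fin.castLE hle),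
    (LinearMap.funLeft (Localization.AtPrime m) (Localization.AtPrime m) (Fin.castLE hle)) ∘ₗ
      b.equivFun.toLinearMap, ?_⟩
  apply LinearMap.ext
  intro c
  funext i
  simp only [LinearMap.comp_apply, LinearEquiv.coe_coe, LinearEquiv.apply_symm_apply,
    LinearMap.funLeft_apply, Function.ExtendByZero.linearMap_apply, LinearMap.id_apply]
  exact (Fin.castLE_injective hle).extend_apply c 0 i

theorem claim (R : Type u) [CommRing R] [Nontrivial R] (d : ℕ)
    [TopologicalSpace.NoetherianSpace (MaximalSpectrum R)]
    (hdim : topologicalKrullDim (MaximalSpectrum R) ≤ d) (j : ℕ) :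
    ∀ (P : Type u) [AddCommGroup P] [Module R P] [Module.Finite R P] [Module.Projective R P]
      (n : ℕ), (∀ p : PrimeSpectrum R, Module.rankAtStalk (R := R) P p = n) → d + j ≤ n →
      ∃ (A : Type u) (_ : AddCommGroup A) (_ : Module R A),
        Nonempty (P ≃ₗ[R] (A × (Fin j → R))) := by
  induction j with
  | zero =>
    intro P _ _ _ _ n _ _
    exact ⟨P, inferInstance, inferInstance, ⟨(LinearEquiv.prodUnique).symm⟩⟩
  | succ j ih =>
    intro P _ _ _ _ n hrk hn
    haveI : Module.FinitePresentation R P := Module.finitePresentation_of_projective R P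
    obtain ⟨s, φ, hφs⟩ := Groth.Agent.S7113.result R d hdim P
      (fun m _ => local_split R P n d hrk (by omega) m)
    have hmem : ∀ p : P, p - φ p • s ∈ LinearMap.ker φ := by
      intro p
      rw [LinearMap.mem_ker, map_sub, map_smul, hφs, smul_eq_mul, mul_one, sub_self]
    let fK : P →ₗ[R] LinearMap.ker φ :=
      LinearMap.codRestrict (LinearMap.ker φ)
        (LinearMap.id - (LinearMap.toSpanSingleton R P s).comp φ) (fun p => by
          show p - (LinearMap.toSpanSingleton R P s) (φ p) ∈ LinearMap.ker φ
          rw [LinearMap.toSpanSingleton_apply]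
          exact hmem p)
    have hfK : ∀ p : P, ((fK p : LinearMap.ker φ) : P) = p - φ p • s := by
      intro p
      show p - (LinearMap.toSpanSingleton R P s) (φ p) = _
      rw [LinearMap.toSpanSingleton_apply]
    let e₁ : P ≃ₗ[R] (LinearMap.ker φ × R) :=
      LinearEquiv.ofLinear (LinearMap.prod fK φ)
        (LinearMap.coprod (LinearMap.ker φ).subtype (LinearMap.toSpanSingleton R P s))
        (by
          apply LinearMap.ext
          rintro ⟨k, a⟩
          have hk : φ (k : P) = 0 := k.2
          have hφ2 : φ ((k : P) + a • s) = a := by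
            rw [map_add, map_smul, hk, hφs, smul_eq_mul, mul_one, zero_add]
          apply Prod.ext
          · apply Subtype.ext
            show ((fK ((k : P) + a • s) : LinearMap.ker φ) : P) = (k : P)
            rw [hfK, hφ2, add_sub_cancel_right]
          · show φ ((k : P) + a • s) = a
            exact hφ2)
        (by
          apply LinearMap.ext
          intro p
          show ((fK p : LinearMap.ker φ) : P) + φ p • s = p
          rw [hfK, sub_add_cancel])
    haveI : Module.Finite R (LinearMap.ker φ × R) := Module.Finite.equiv e₁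
    haveI : Module.Finite R (LinearMap.ker φ) :=
      Module.Finite.of_surjective (LinearMap.fst R (LinearMap.ker φ) R) LinearMap.fst_surjective
    haveI : Module.Projective R (LinearMap.ker φ × R) := Module.Projective.of_equiv e₁
    haveI : Module.Projective R (LinearMap.ker φ) :=
      Module.Projective.of_split (LinearMap.inl R (LinearMap.ker φ) R)
        (LinearMap.fst R (LinearMap.ker φ) R) (LinearMap.fst_comp_inl R (LinearMap.ker φ) R)
    have hrkK : ∀ p : PrimeSpectrum R,
        Module.rankAtStalk (R := R) (LinearMap.ker φ) p = n - 1 := by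
      intro p
      have h1 := congrFun (Module.rankAtStalk_eq_of_equiv e₁) p
      have h2 := congrFun (Module.rankAtStalk_prod (R := R) (LinearMap.ker φ) R) p
      have h3 := congrFun (Module.rankAtStalk_self (R := R)) p
      rw [hrk p, h2, Pi.add_apply, h3, Pi.one_apply] at h1
      omega
    obtain ⟨A, _, _, ⟨e₂⟩⟩ := ih (LinearMap.ker φ) (n - 1) hrkK (by omega)
    exact ⟨A, inferInstance, inferInstance, ⟨e₁.trans
      ((LinearEquiv.prodCongr e₂ (LinearEquiv.refl R R)).trans
        ((LinearEquiv.prodAssoc R A (Fin j → R) R).trans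
          (LinearEquiv.prodCongr (LinearEquiv.refl R A)
            ((LinearEquiv.prodComm R (Fin j → R) R).trans
              (Fin.consLinearEquiv R (fun _ : Fin (j + 1) => R))))))⟩⟩

end Aux

/-- Let R be a Noetherian ring of Krull dimension d and P a finitely generated projective R-module of
constant rank n at every prime of R, with n > d. Then P is isomorphic to P₀ ⊕ R^(n-d) for some
module P₀; concretely, P has complementary submodules P₀ and Q with Q free of rank n - d. -/
theorem result (R : Type u) [CommRing R]
    [IsNoetherianRing R] (d n : ℕ) (hdim : ringKrullDim R = d)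
    (P : Type u) [AddCommGroup P] [Module R P] [Module.Finite R P] [Module.Projective R P]
    (hrk : ∀ p : PrimeSpectrum R, Module.rankAtStalk (R := R) P p = n) (hnd : d < n) :
    ∃ (P₀ Q : Submodule R P), IsCompl P₀ Q ∧ Nonempty (Q ≃ₗ[R] (Fin (n - d) → R)) := by
  haveI : Nontrivial R := by
    by_contra hnt
    rw [not_nontrivial_iff_subsingleton] at hnt
    have hb := ringKrullDim_eq_bot_of_subsingleton (R := R)
    rw [hdim] at hb
    exact absurd hb (by simp)
  haveI : TopologicalSpace.NoetherianSpace (MaximalSpectrum R) :=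
    Topology.IsInducing.noetherianSpace (i := MaximalSpectrum.toPrimeSpectrum) ⟨rfl⟩
  have hdim' : topologicalKrullDim (MaximalSpectrum R) ≤ d := by
    have h1 := Topology.IsInducing.topologicalKrullDim_le
      (f := (MaximalSpectrum.toPrimeSpectrum : MaximalSpectrum R → PrimeSpectrum R)) ⟨rfl⟩
    rw [PrimeSpectrum.topologicalKrullDim_eq_ringKrullDim, hdim] at h1
    exact h1
  obtain ⟨A, _, _, ⟨e⟩⟩ := Aux.claim R d hdim' (n - d) P n hrk (by omega)
  exact Aux.compl_of_equiv e

end Groth.Agent.S19544
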