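import Groth.Statements.S7110
import Mathlib
import Groth.Agent.Lib.R2LeadBigProj

set_option autoImplicit false
universe u
open CAlg

namespace Groth.Agent.S7110

/-- Let R be a ring whose quotient by its Jacobson radical is Noetherian, P a projective R-module such
that for every maximal ideal m the localization P_m is not finitely generated over R_m (P has
infinite rank everywhere), s an element of P and M a submodule with Rs + M = P. Then for some m in M
the element s + m spans a free direct summand of P of rank one: there is a linear form φ on P with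
φ(s + m) = 1. (Rank one is meant: the zero submodule does not count.) -/
theorem result (R : Type u) [CommRing R]
    [IsNoetherianRing (R ⧸ (⊥ : Ideal R).jacobson)]
    (P : Type u) [AddCommGroup P] [Module R P] [Module.Projective R P]
    (hP : ∀ (m : Ideal R) [m.IsMaximal],
      ¬ Module.Finite (Localization.AtPrime m) (LocalizedModule m.primeCompl P))
    (s : P) (M : Submodule R P) (hM : Submodule.span R {s} ⊔ M = ⊤) :
    ∃ m ∈ M, ∃ φ : P →ₗ[R] R, φ (s + m) = 1 := by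
  classical
  obtain ⟨Jac, hJac⟩ : ∃ Jac : Ideal R, Jac = (⊥ : Ideal R).jacobson := ⟨_, rfl⟩
  haveI : IsNoetherianRing (R ⧸ Jac) := by rw [hJac]; infer_instance
  let 𝒮 : Set (Ideal (R ⧸ Jac)) := {𝔠 | ∃ m ∈ M,
    𝔠 = (Groth.Agent.Lib.R2Lead.BigProj.ordI R P (s + m)).map (Ideal.Quotient.mk Jac)}
  have hne : 𝒮.Nonempty := ⟨_, 0, M.zero_mem, rfl⟩
  obtain ⟨𝔠₀, ⟨m₀, hm₀, rfl⟩, hmax⟩ := set_has_maximal_iff_noetherian.mpr
    (inferInstance : IsNoetherian (R ⧸ Jac) (R ⧸ Jac)) 𝒮 hne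
  refine ⟨m₀, hm₀, ?_⟩
  by_contra hno
  obtain ⟨t₀, ht₀⟩ : ∃ t₀ : P, t₀ = s + m₀ := ⟨_, rfl⟩
  rw [← ht₀] at hno hmax
  have hI : Groth.Agent.Lib.R2Lead.BigProj.ordI R P t₀ ≠ ⊤ := by
    intro htop
    apply hno
    have h1 : (1 : R) ∈ Groth.Agent.Lib.R2Lead.BigProj.ordI R P t₀ := by
      rw [htop]
      exact Submodule.mem_top
    exact Groth.Agent.Lib.R2Lead.BigProj.exists_of_mem_ordI R P h1
  obtain ⟨y, hy, hIy⟩ := Ideal.exists_le_maximal _ hI
  haveI := hy
  have hJy : Jac ≤ y := by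
    rw [hJac]
    exact sInf_le ⟨bot_le, hy⟩
  obtain ⟨A, φ, ht⟩ := Groth.Agent.Lib.R2Lead.BigProj.dual_basis R P t₀
  have hM' : Submodule.span R {s} ⊔ (M ⊔ Jac • ⊤) = ⊤ := by
    rw [← sup_assoc, hM, top_sup_eq]
  obtain ⟨G, hG⟩ := Groth.Agent.Lib.R2Lead.BigProj.exists_cofinite R P Jac
    (M ⊔ Jac • ⊤) s hM' φ A
  obtain ⟨w₀, hw₀L, ψ, hψ⟩ := Groth.Agent.Lib.R2Lead.BigProj.exists_not_mem_of_cofinite R P y
    (hP y) _ G hG
  obtain ⟨hw₀M, hw₀K⟩ := Submodule.mem_inf.mp hw₀L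
  obtain ⟨w, hwM, q, hq, rfl⟩ := Submodule.mem_sup.mp hw₀M
  have hfunJ : ∀ χ : P →ₗ[R] R, χ q ∈ Jac :=
    Groth.Agent.Lib.R2Lead.BigProj.map_mem_of_mem_smul_top R P Jac q hq
  have hψw : ψ w ∉ y := by
    intro h
    apply hψ
    rw [map_add]
    exact y.add_mem h (hJy (hfunJ ψ))
  have hφw : ∀ q' ∈ A, φ q' w ∈ Jac := by
    intro q' hq'
    have h1 : φ q' (w + q) ∈ Jac := by
      have h2 := hw₀K
      rw [Submodule.mem_iInf] at h2
      have h3 := h2 q'
      rw [Submodule.mem_iInf] at h3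
      exact h3 hq'
    have h4 : φ q' w = φ q' (w + q) - φ q' q := by
      rw [map_add]
      ring
    rw [h4]
    exact Jac.sub_mem h1 (hfunJ _)
  have hlt : (Groth.Agent.Lib.R2Lead.BigProj.ordI R P t₀).map (Ideal.Quotient.mk Jac) <
      (Groth.Agent.Lib.R2Lead.BigProj.ordI R P (t₀ + w)).map (Ideal.Quotient.mk Jac) := by
    rw [lt_iff_le_and_ne]
    constructor
    · rw [Ideal.map_le_iff_le_comap]
      intro a ha
      obtain ⟨χ, rfl⟩ := Groth.Agent.Lib.R2Lead.BigProj.exists_of_mem_ordI R P ha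
      rw [Ideal.mem_comap]
      have hexp : χ t₀ = ∑ q' ∈ A, φ q' t₀ * χ q' := by
        calc χ t₀ = χ (∑ q' ∈ A, φ q' t₀ • q') := congrArg χ ht
          _ = ∑ q' ∈ A, φ q' t₀ * χ q' := by
            rw [map_sum]
            exact Finset.sum_congr rfl fun q' _ => by rw [map_smul, smul_eq_mul]
      rw [hexp, map_sum]
      refine Ideal.sum_mem _ fun q' hq' => ?_
      rw [map_mul]
      refine Ideal.mul_mem_right _ _ ?_
      have heq : Ideal.Quotient.mk Jac (φ q' t₀) = Ideal.Quotient.mk Jac (φ q' (t₀ + w)) := by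
        rw [Ideal.Quotient.eq]
        have h5 : φ q' t₀ - φ q' (t₀ + w) = -(φ q' w) := by
          rw [map_add]
          ring
        rw [h5]
        exact Jac.neg_mem (hφw q' hq')
      rw [heq]
      exact Ideal.mem_map_of_mem _ (Groth.Agent.Lib.R2Lead.BigProj.mem_ordI R P _ (φ q'))
    · intro heq
      have h1 : Ideal.Quotient.mk Jac (ψ (t₀ + w)) ∈
          (Groth.Agent.Lib.R2Lead.BigProj.ordI R P t₀).map (Ideal.Quotient.mk Jac) := by
        rw [heq]
        exact Ideal.mem_map_of_mem _ (Groth.Agent.Lib.R2Lead.BigProj.mem_ordI R P _ ψ)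
      have h2 : (Groth.Agent.Lib.R2Lead.BigProj.ordI R P t₀).map (Ideal.Quotient.mk Jac) ≤
          y.map (Ideal.Quotient.mk Jac) := Ideal.map_mono hIy
      obtain ⟨y', hy', hy'eq⟩ :=
        (Ideal.mem_map_iff_of_surjective _ Ideal.Quotient.mk_surjective).mp (h2 h1)
      have h3 : ψ (t₀ + w) ∈ y := by
        have h6 : ψ (t₀ + w) - y' ∈ Jac := Ideal.Quotient.eq.mp hy'eq.symm
        have h7 := y.add_mem (hJy h6) hy'
        rwa [sub_add_cancel] at h7
      apply hψw
      have h4 : ψ t₀ ∈ y := hIy (Groth.Agent.Lib.R2Lead.BigProj.mem_ordI R P _ ψ)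
      have h8 : ψ w = ψ (t₀ + w) - ψ t₀ := by
        rw [map_add]
        ring
      rw [h8]
      exact y.sub_mem h3 h4
  exact hmax _ ⟨m₀ + w, M.add_mem hm₀ hwM, by rw [ht₀, add_assoc]⟩ hlt

end Groth.Agent.S7110
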