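import Groth.Statements.S0051
import Groth.Agent.Lib.R2H3AmpleOfVanish
import Groth.Agent.Lib.Helper23FinType

set_option autoImplicit false
universe u
open Coherent

namespace Groth.Agent.S0051

open AlgebraicGeometry CategoryTheory in
/-- Let R be Noetherian, X → Spec R proper and L invertible on X. Then L is ample if and only if for
every coherent F there is n₀ with H^p(X, F ⊗ L^{⊗n}) = 0 for all n ≥ n₀ and p > 0. -/
theorem result (R : Type u) [CommRing R] [IsNoetherianRing R]
    (X : Scheme.{u}) (f : X ⟶ Spec (CommRingCat.of R)) [IsProper f] (L : X.Modules)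
    (hL : PicF.IsInvertible L) :
    CohB1.IsAmple L ↔ ∀ (M : X.Modules), Coh.IsCoh M → ∃ n₀ : ℕ, ∀ n : ℕ, n₀ ≤ n → ∀ p : ℕ, 0 < p →
      Subsingleton (Coh.HH X (CohB1.tensorMod M (CohB1.tensorPow L n)) p) := by
  constructor
  · intro hamp M hM
    exact Groth.Agent.Lib.R2H3.AmpleSV.serre_vanishing_ample R f L hamp M hM
  · intro hv
    have hcX : CompactSpace X := QuasiCompact.compactSpace_of_compactSpace f
    have hlN : IsLocallyNoetherian X := LocallyOfFiniteType.isLocallyNoetherian f
    refine Groth.Agent.Lib.R2H3.AmpleOfVanish.isAmple_of_hypL L hL ?_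
    intro I i hi hI
    have := hi
    have i1 : I.IsQuasicoherent := hI
    have i2 : (Coh.structureModule X).IsQuasicoherent :=
      Groth.Agent.Lib.Helper23.Serre.isQuasicoherent_structureModule' X
    have i3 : SheafOfModules.IsFiniteType (R := X.ringCatSheaf) (Coh.structureModule X) :=
      Groth.Agent.Lib.R2H2.PnFinite.isFiniteType_of_isInvertible _
        (Groth.Agent.Lib.Helper23.TensorUnit.isInvertible_structureModule X)
    have hft : SheafOfModules.IsFiniteType (R := X.ringCatSheaf) I :=
      Groth.Agent.Lib.Helper23.FinType.isFiniteType_of_mono i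
    obtain ⟨n₀, hn₀⟩ := hv I ⟨hI, hft⟩
    exact ⟨n₀, hn₀ (n₀ + 1) (Nat.le_succ _) 1 Nat.one_pos⟩

end Groth.Agent.S0051
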