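import Groth.Statements.S0699
import Mathlib

set_option autoImplicit false
open CategoryTheory CategoryTheory.Limits AlgebraicGeometry Opposite Topology
universe u
open ProEtW

namespace Groth.Agent.S0699

namespace Aux

variable {A : Type u} [CommRing A]

lemma exists_sq_mul (J : Ideal A) (hrad : J.IsRadical)
    (hJ : ∀ p : Ideal A, p.IsPrime → J ≤ p → p.IsMaximal) (a : A) :
    ∃ b, a - a ^ 2 * b ∈ J := by
  let M : Submonoid A :=
    { carrier := {x | ∃ (n : ℕ) (r : A), x = a ^ n * (1 + a * r)}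
      one_mem' := ⟨0, 0, by ring⟩
      mul_mem' := by
        rintro x y ⟨n, r, rfl⟩ ⟨m, s, rfl⟩
        exact ⟨n + m, r + s + a * r * s, by ring⟩ }
  by_cases h0 : ∃ x, x ∈ J ∧ x ∈ M
  · obtain ⟨x, hxJ, n, r, rfl⟩ := h0
    have h1 : (a * (1 + a * r)) ^ (n + 1) ∈ J := by
      have : (a * (1 + a * r)) ^ (n + 1) = (a ^ n * (1 + a * r)) * (a * (1 + a * r) ^ n) := by
        rw [mul_pow]; ring
      rw [this]
      exact J.mul_mem_right _ hxJ
    have h2 : a * (1 + a * r) ∈ J := hrad ⟨n + 1, h1⟩
    refine ⟨-r, ?_⟩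
    have : a - a ^ 2 * -r = a * (1 + a * r) := by ring
    rw [this]; exact h2
  · exfalso
    have hdisj : Disjoint (J : Set A) (M : Set A) := by
      rw [Set.disjoint_left]
      intro x hx hxM
      exact h0 ⟨x, hx, hxM⟩
    obtain ⟨p, hp, hJp, hpM⟩ := Ideal.exists_le_prime_disjoint J M hdisj
    have hmax := hJ p hp hJp
    have ha : a ∉ p := fun h => Set.disjoint_left.mp hpM h ⟨1, 0, by ring⟩
    obtain ⟨y, i, hi, hyi⟩ := hmax.exists_inv ha
    refine Set.disjoint_left.mp hpM hi ⟨0, -y, ?_⟩
    rw [← hyi]; ring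

lemma isClosed_aux (huniq : ∀ x : PrimeSpectrum A, ∃! y : PrimeSpectrum A,
      IsClosed ({y} : Set (PrimeSpectrum A)) ∧ x ⤳ y) (t : A) :
    IsClosed {p : PrimeSpectrum A | ∃ y : PrimeSpectrum A, y.asIdeal.IsMaximal ∧
      p.asIdeal ≤ y.asIdeal ∧ t ∈ y.asIdeal} := by
  let I : Ideal A := Ideal.span {t}
  let M : Submonoid A :=
    { carrier := {m | m - 1 ∈ I}
      one_mem' := by simp
      mul_mem' := by
        intro m n hm hn
        have : m * n - 1 = m * (n - 1) + (m - 1) := by ring
        show m * n - 1 ∈ I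
        rw [this]; exact I.add_mem (I.mul_mem_left _ hn) hm }
  have hZ : {p : PrimeSpectrum A | ∃ y : PrimeSpectrum A, y.asIdeal.IsMaximal ∧
      p.asIdeal ≤ y.asIdeal ∧ t ∈ y.asIdeal} =
      Set.range (PrimeSpectrum.comap (algebraMap A (Localization M))) := by
    rw [PrimeSpectrum.localization_comap_range (Localization M) M]
    ext p
    simp only [Set.mem_setOf_eq]
    constructor
    · rintro ⟨y, hy, hpy, hty⟩
      rw [Set.disjoint_left]
      intro m hmM hmp
      have hIy : I ≤ y.asIdeal := (Ideal.span_singleton_le_iff_mem _).mpr hty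
      have hmM' : m - 1 ∈ I := hmM
      have h1 : m - 1 ∈ y.asIdeal := hIy hmM'
      have h2 : m ∈ y.asIdeal := hpy hmp
      have : (1 : A) ∈ y.asIdeal := by
        have := y.asIdeal.sub_mem h2 h1
        simpa using this
      exact hy.ne_top ((Ideal.eq_top_iff_one _).mpr this)
    · intro hdisj
      have hne : p.asIdeal ⊔ I ≠ ⊤ := by
        intro htop
        have h1 : (1 : A) ∈ p.asIdeal ⊔ I := htop ▸ Submodule.mem_top
        obtain ⟨m, hm, i, hi, hmi⟩ := Submodule.mem_sup.mp h1
        have hmM : m ∈ M := by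
          show m - 1 ∈ I
          have : m - 1 = -i := by rw [← hmi]; ring
          rw [this]; exact I.neg_mem hi
        exact Set.disjoint_left.mp hdisj hmM hm
      obtain ⟨y, hy, hle⟩ := Ideal.exists_le_maximal _ hne
      exact ⟨⟨y, hy.isPrime⟩, hy, le_sup_left.trans hle,
        hle (Ideal.mem_sup_right (Ideal.subset_span rfl))⟩
  rw [hZ]
  apply PrimeSpectrum.isClosed_range_of_stableUnderSpecialization
  rw [← hZ]
  intro p p' hpp' hp
  obtain ⟨y, hy, hpy, hty⟩ := hp
  have hle : p.asIdeal ≤ p'.asIdeal := (PrimeSpectrum.le_iff_specializes p p').mpr hpp'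
  obtain ⟨y', hy', hp'y'⟩ := Ideal.exists_le_maximal p'.asIdeal p'.2.ne_top
  have e1 : IsClosed ({y} : Set (PrimeSpectrum A)) ∧ p ⤳ y :=
    ⟨(PrimeSpectrum.isClosed_singleton_iff_isMaximal y).mpr hy,
      (PrimeSpectrum.le_iff_specializes p y).mp hpy⟩
  have e2 : IsClosed ({(⟨y', hy'.isPrime⟩ : PrimeSpectrum A)} : Set (PrimeSpectrum A)) ∧
      p ⤳ (⟨y', hy'.isPrime⟩ : PrimeSpectrum A) :=
    ⟨(PrimeSpectrum.isClosed_singleton_iff_isMaximal _).mpr hy',
      (PrimeSpectrum.le_iff_specializes p _).mp (hle.trans hp'y')⟩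
  have huy := (huniq p).unique e1 e2
  refine ⟨y, hy, ?_, hty⟩
  rw [huy]
  exact hp'y'

lemma crux (hA : ProEtW.IsWLocal (PrimeSpectrum A))
    (x x' : PrimeSpectrum A) (hx : x.asIdeal.IsMaximal) (hx' : x'.asIdeal.IsMaximal)
    (h : x' ∈ connectedComponent x) : x = x' := by
  by_contra hne
  obtain ⟨-, hC, huniq⟩ := hA
  set C : Set (PrimeSpectrum A) := {y | IsClosed ({y} : Set (PrimeSpectrum A))} with hCdef
  set J : Ideal A := PrimeSpectrum.vanishingIdeal C with hJdef
  have hJle : ∀ y : PrimeSpectrum A, y.asIdeal.IsMaximal → J ≤ y.asIdeal := by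
    intro y hy a ha
    exact (PrimeSpectrum.mem_vanishingIdeal _ _).mp ha y
      ((PrimeSpectrum.isClosed_singleton_iff_isMaximal y).mpr hy)
  have hJmax : ∀ p : Ideal A, p.IsPrime → J ≤ p → p.IsMaximal := by
    intro p hp hJp
    have : (⟨p, hp⟩ : PrimeSpectrum A) ∈ PrimeSpectrum.zeroLocus (J : Set A) := hJp
    rw [hJdef, PrimeSpectrum.zeroLocus_vanishingIdeal_eq_closure, hC.closure_eq] at this
    exact (PrimeSpectrum.isClosed_singleton_iff_isMaximal _).mp this
  have hrad : J.IsRadical := PrimeSpectrum.isRadical_vanishingIdeal _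
  obtain ⟨a, hax, hax'⟩ : ∃ a, a ∈ x.asIdeal ∧ a ∉ x'.asIdeal := by
    by_contra hcon
    push Not at hcon
    have hle : x.asIdeal ≤ x'.asIdeal := fun a ha => hcon a ha
    have := hx.eq_of_le hx'.ne_top hle
    exact hne (PrimeSpectrum.ext this)
  obtain ⟨b, hb⟩ := exists_sq_mul J hrad hJmax a
  set e := a * b with he
  have hee : e * (1 - e) ∈ J := by
    have : e * (1 - e) = b * (a - a ^ 2 * b) := by rw [he]; ring
    rw [this]; exact J.mul_mem_left _ hb
  have hex : e ∈ x.asIdeal := x.asIdeal.mul_mem_right _ hax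
  have hex' : e ∉ x'.asIdeal := by
    intro hmem
    apply hax'
    have h1 : a - a ^ 2 * b ∈ x'.asIdeal := hJle x' hx' hb
    have h2 : a = (a - a ^ 2 * b) + a * e := by rw [he]; ring
    rw [h2]
    exact x'.asIdeal.add_mem h1 (x'.asIdeal.mul_mem_left _ hmem)
  have hZc := isClosed_aux huniq e
  have hZ'c := isClosed_aux huniq (1 - e)
  set Z : Set (PrimeSpectrum A) := {p : PrimeSpectrum A | ∃ y : PrimeSpectrum A,
    y.asIdeal.IsMaximal ∧ p.asIdeal ≤ y.asIdeal ∧ e ∈ y.asIdeal} with hZdef
  set Z' : Set (PrimeSpectrum A) := {p : PrimeSpectrum A | ∃ y : PrimeSpectrum A,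
    y.asIdeal.IsMaximal ∧ p.asIdeal ≤ y.asIdeal ∧ (1 - e) ∈ y.asIdeal} with hZ'def
  have hcompl : Z = Z'ᶜ := by
    ext p
    simp only [Set.mem_compl_iff]
    constructor
    · rintro ⟨y, hy, hpy, hey⟩ ⟨y', hy', hpy', hey'⟩
      have e1 : IsClosed ({y} : Set (PrimeSpectrum A)) ∧ p ⤳ y :=
        ⟨(PrimeSpectrum.isClosed_singleton_iff_isMaximal y).mpr hy,
          (PrimeSpectrum.le_iff_specializes p y).mp hpy⟩
      have e2 : IsClosed ({y'} : Set (PrimeSpectrum A)) ∧ p ⤳ y' :=
        ⟨(PrimeSpectrum.isClosed_singleton_iff_isMaximal y').mpr hy',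
          (PrimeSpectrum.le_iff_specializes p y').mp hpy'⟩
      have huy := (huniq p).unique e1 e2
      rw [← huy] at hey'
      have : (1 : A) ∈ y.asIdeal := by
        have := y.asIdeal.add_mem hey hey'
        simpa using this
      exact hy.ne_top ((Ideal.eq_top_iff_one _).mpr this)
    · intro hp
      obtain ⟨y, hy, hpy⟩ := Ideal.exists_le_maximal p.asIdeal p.2.ne_top
      have hmem : e * (1 - e) ∈ y := hJle ⟨y, hy.isPrime⟩ hy hee
      rcases hy.isPrime.mem_or_mem hmem with h1 | h1
      · exact ⟨⟨y, hy.isPrime⟩, hy, hpy, h1⟩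
      · exact absurd ⟨⟨y, hy.isPrime⟩, hy, hpy, h1⟩ hp
  have hclopen : IsClopen Z := ⟨hZc, by rw [hcompl]; exact hZ'c.isOpen_compl⟩
  have hxZ : x ∈ Z := ⟨x, hx, le_rfl, hex⟩
  have hx'Z : x' ∉ Z := by
    rintro ⟨y, hy, hx'y, hey⟩
    have := hx'.eq_of_le hy.ne_top hx'y
    rw [← this] at hey
    exact hex' hey
  exact hx'Z (hclopen.connectedComponent_subset hxZ h)

lemma mem_connectedComponent_of_specializes {X : Type u} [TopologicalSpace X] {y n : X}
    (h : y ⤳ n) : n ∈ connectedComponent y := by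
  have h1 : n ∈ closure ({y} : Set X) := specializes_iff_mem_closure.mp h
  have hpre : IsPreconnected (closure ({y} : Set X)) := isPreconnected_singleton.closure
  exact hpre.subset_connectedComponent (subset_closure rfl) h1

theorem main (A B : Type u) [CommRing A] [CommRing B]
    [Algebra A B] (h1 : EtPBC.IdentifiesLocalRings A B) (h2 : ProEtW.IsWLocal (PrimeSpectrum A))
    (h3 : ProEtW.IsWLocal (PrimeSpectrum B))
    (h4 : ProEtW.IsWLocalMap (PrimeSpectrum.comap (algebraMap A B)))
    (h5 : Function.Bijective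
      (PrimeSpectrum.continuous_comap (algebraMap A B)).connectedComponentsMap) :
    Function.Bijective (algebraMap A B) := by
  have hcont : Continuous (PrimeSpectrum.comap (algebraMap A B)) :=
    PrimeSpectrum.continuous_comap (algebraMap A B)
  -- (b) injectivity on closed points
  have hinj : ∀ n n' : PrimeSpectrum B, n.asIdeal.IsMaximal → n'.asIdeal.IsMaximal →
      PrimeSpectrum.comap (algebraMap A B) n = PrimeSpectrum.comap (algebraMap A B) n' →
      n = n' := by
    intro n n' hn hn' hnn'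
    have e1 : (PrimeSpectrum.continuous_comap (algebraMap A B)).connectedComponentsMap
        (n : _root_.ConnectedComponents (PrimeSpectrum B)) =
        (PrimeSpectrum.continuous_comap (algebraMap A B)).connectedComponentsMap
        (n' : _root_.ConnectedComponents (PrimeSpectrum B)) := by
      show ((PrimeSpectrum.comap (algebraMap A B) n : PrimeSpectrum A) :
        _root_.ConnectedComponents (PrimeSpectrum A)) = ((PrimeSpectrum.comap (algebraMap A B) n' :
          PrimeSpectrum A) : _root_.ConnectedComponents (PrimeSpectrum A))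
      rw [hnn']
    have e2 := h5.1 e1
    have e3 : n ∈ connectedComponent n' := ConnectedComponents.coe_eq_coe'.mp e2
    exact (crux h3 n' n hn' hn e3).symm
  -- (a) surjectivity on closed points
  have hsurj : ∀ x : PrimeSpectrum A, x.asIdeal.IsMaximal → ∃ n : PrimeSpectrum B,
      n.asIdeal.IsMaximal ∧ PrimeSpectrum.comap (algebraMap A B) n = x := by
    intro x hx
    obtain ⟨c, hc⟩ := h5.2 (x : _root_.ConnectedComponents (PrimeSpectrum A))
    obtain ⟨y, rfl⟩ := ConnectedComponents.surjective_coe c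
    have e1 : ((PrimeSpectrum.comap (algebraMap A B) y : PrimeSpectrum A) :
        _root_.ConnectedComponents (PrimeSpectrum A)) = (x : _root_.ConnectedComponents (PrimeSpectrum A)) := hc
    have e2 : PrimeSpectrum.comap (algebraMap A B) y ∈ connectedComponent x :=
      ConnectedComponents.coe_eq_coe'.mp e1
    obtain ⟨n, ⟨hncl, hyn⟩, -⟩ := h3.2.2 y
    have hfn : PrimeSpectrum.comap (algebraMap A B) y ⤳ PrimeSpectrum.comap (algebraMap A B) n :=
      hyn.map hcont
    have e3 : PrimeSpectrum.comap (algebraMap A B) n ∈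
        connectedComponent (PrimeSpectrum.comap (algebraMap A B) y) :=
      mem_connectedComponent_of_specializes hfn
    rw [← connectedComponent_eq e2] at e3
    have hfncl := h4.2 n hncl
    refine ⟨n, (PrimeSpectrum.isClosed_singleton_iff_isMaximal n).mp hncl, ?_⟩
    exact (crux h2 x _ hx ((PrimeSpectrum.isClosed_singleton_iff_isMaximal _).mp hfncl) e3).symm
  -- Lemma 4
  have hbelow : ∀ (q n : PrimeSpectrum B), n.asIdeal.IsMaximal →
      (PrimeSpectrum.comap (algebraMap A B) n).asIdeal.IsMaximal →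
      (PrimeSpectrum.comap (algebraMap A B) q).asIdeal ≤
        (PrimeSpectrum.comap (algebraMap A B) n).asIdeal → q.asIdeal ≤ n.asIdeal := by
    intro q n hn hfn hle
    obtain ⟨n', ⟨hn'cl, hqn'⟩, -⟩ := h3.2.2 q
    have hfn'cl := h4.2 n' hn'cl
    have hs1 : PrimeSpectrum.comap (algebraMap A B) q ⤳ PrimeSpectrum.comap (algebraMap A B) n' :=
      hqn'.map hcont
    have hs2 : PrimeSpectrum.comap (algebraMap A B) q ⤳ PrimeSpectrum.comap (algebraMap A B) n :=
      (PrimeSpectrum.le_iff_specializes _ _).mp hle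
    have huy := (h2.2.2 (PrimeSpectrum.comap (algebraMap A B) q)).unique
      ⟨hfn'cl, hs1⟩ ⟨(PrimeSpectrum.isClosed_singleton_iff_isMaximal _).mpr hfn, hs2⟩
    have := hinj n' n ((PrimeSpectrum.isClosed_singleton_iff_isMaximal n').mp hn'cl) hn huy
    rw [← this]
    exact (PrimeSpectrum.le_iff_specializes q n').mpr hqn'
  -- unit lemma
  have hunit : ∀ (n : PrimeSpectrum B), n.asIdeal.IsMaximal →
      (PrimeSpectrum.comap (algebraMap A B) n).asIdeal.IsMaximal → ∀ t : B, t ∉ n.asIdeal →
      ∃ (t' : B) (s' : A), s' ∉ (PrimeSpectrum.comap (algebraMap A B) n).asIdeal ∧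
        t * t' = algebraMap A B s' := by
    intro n hn hfn t ht
    by_contra hcon
    push Not at hcon
    let S' : Submonoid B :=
      Submonoid.map (algebraMap A B) (PrimeSpectrum.comap (algebraMap A B) n).asIdeal.primeCompl
    have hdisj : Disjoint ((Ideal.span {t} : Ideal B) : Set B) (S' : Set B) := by
      rw [Set.disjoint_left]
      rintro k hk ⟨s', hs', rfl⟩
      obtain ⟨c, hc⟩ := Ideal.mem_span_singleton'.mp hk
      exact hcon c s' hs' (by rw [← hc]; ring)
    obtain ⟨q, hq, hKq, hqS⟩ := Ideal.exists_le_prime_disjoint _ S' hdisj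
    have hle : (PrimeSpectrum.comap (algebraMap A B) ⟨q, hq⟩).asIdeal ≤
        (PrimeSpectrum.comap (algebraMap A B) n).asIdeal := by
      intro a ha
      by_contra han
      exact Set.disjoint_left.mp hqS ha ⟨a, han, rfl⟩
    have := hbelow ⟨q, hq⟩ n hn hfn hle
    exact ht (this (hKq (Ideal.subset_span rfl)))
  constructor
  · rw [injective_iff_map_eq_zero]
    intro a ha
    apply eq_zero_of_localization
    intro m hm
    obtain ⟨n, hn, hfn⟩ := hsurj ⟨m, hm.isPrime⟩ hm
    have hcomap : n.asIdeal.comap (algebraMap A B) = m := congrArg PrimeSpectrum.asIdeal hfn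
    subst hcomap
    apply (h1 n).1
    rw [Localization.localRingHom_to_map, ha, map_zero, map_zero]
  · intro b
    let I : Ideal A :=
      { carrier := {s | ∃ a : A, algebraMap A B a = algebraMap A B s * b}
        add_mem' := by
          rintro s t ⟨a, ha⟩ ⟨a', ha'⟩
          exact ⟨a + a', by rw [map_add, map_add, add_mul, ha, ha']⟩
        zero_mem' := ⟨0, by simp⟩
        smul_mem' := by
          rintro c s ⟨a, ha⟩
          exact ⟨c * a, by rw [smul_eq_mul, map_mul, map_mul, ha, mul_assoc]⟩ }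
    by_cases hI : I = ⊤
    · have : (1 : A) ∈ I := hI ▸ Submodule.mem_top
      obtain ⟨a, ha⟩ := this
      exact ⟨a, by simpa using ha⟩
    · exfalso
      obtain ⟨m, hm, hIm⟩ := Ideal.exists_le_maximal I hI
      obtain ⟨n, hn, hfn⟩ := hsurj ⟨m, hm.isPrime⟩ hm
      have hcomap : n.asIdeal.comap (algebraMap A B) = m := congrArg PrimeSpectrum.asIdeal hfn
      subst hcomap
      obtain ⟨z, hz⟩ := (h1 n).2 (algebraMap B (Localization.AtPrime n.asIdeal) b)
      obtain ⟨a, s, rfl⟩ := IsLocalization.exists_mk'_eq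
        (n.asIdeal.comap (algebraMap A B)).primeCompl z
      rw [Localization.localRingHom_mk'] at hz
      have h2' : algebraMap B (Localization.AtPrime n.asIdeal) (algebraMap A B a) =
          algebraMap B _ (algebraMap A B s * b) := by
        rw [IsLocalization.mk'_eq_iff_eq_mul] at hz
        rw [hz, map_mul, mul_comm]
      obtain ⟨⟨t, ht⟩, hts⟩ := (IsLocalization.eq_iff_exists n.asIdeal.primeCompl _).mp h2'
      obtain ⟨t', s', hs', htt'⟩ := hunit n hn hm t ht
      have hmem : (s' * s : A) ∈ I := ⟨s' * a, by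
        rw [map_mul, map_mul, ← htt']
        simp only at hts
        linear_combination t' * hts⟩
      have hmem' := hIm hmem
      exact (hm.isPrime.mem_or_mem hmem').elim hs' s.2

end Aux

/-- Let A -> B identify local rings, with Spec A and Spec B w-local, Spec B -> Spec A w-local, and
pi_0(Spec B) -> pi_0(Spec A) bijective. Then A -> B is bijective. -/
theorem result (A B : Type u) [CommRing A] [CommRing B]
    [Algebra A B] (h1 : EtPBC.IdentifiesLocalRings A B) (h2 : ProEtW.IsWLocal (PrimeSpectrum A))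
    (h3 : ProEtW.IsWLocal (PrimeSpectrum B))
    (h4 : ProEtW.IsWLocalMap (PrimeSpectrum.comap (algebraMap A B)))
    (h5 : Function.Bijective
      (PrimeSpectrum.continuous_comap (algebraMap A B)).connectedComponentsMap) :
    Function.Bijective (algebraMap A B) := by
  exact Aux.main A B h1 h2 h3 h4 h5

end Groth.Agent.S0699
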