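import Groth.Statements.S7072
import Groth.Agent.Lib.R2H3NLHtpy
import Groth.Agent.Lib.R2H3KzCotProj

set_option linter.style.haveILetI false
set_option linter.unusedVariables false
set_option linter.unusedSectionVars false

set_option autoImplicit false
universe u
attribute [local instance] HasDerivedCategory.standard
open LCI

namespace Groth.Agent.S7072

open CategoryTheory CategoryTheory.Limits Algebra Groth.Agent.Lib.R2H3

/-- the kernel of the extension attached to a surjection from a polynomial ring -/
lemma ker_ofAlgHom {A B : Type u} [CommRing A] [CommRing B] [Algebra A B] {n : ℕ}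
    (f : MvPolynomial (Fin n) A →ₐ[A] B) (hf : Function.Surjective f) :
    (Generators.ofAlgHom f hf).toExtension.ker = RingHom.ker f.toRingHom := by
  have : (MvPolynomial.aeval (Generators.ofAlgHom f hf).val : MvPolynomial (Fin n) A →ₐ[A] B) = f := by
    ext i
    simp [Generators.ofAlgHom]
  ext x
  change algebraMap (Generators.ofAlgHom f hf).Ring B x = 0 ↔ f x = 0
  rw [Generators.algebraMap_apply, this]

/-- a two-term naive cotangent complex with finite projective conormal module has finite projective
terms -/
lemma termwise {A B : Type u} [CommRing A] [CommRing B] [Algebra A B] {n : ℕ}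
    (G : Generators A B (Fin n))
    (h : Module.Finite B G.toExtension.Cotangent ∧ Module.Projective B G.toExtension.Cotangent)
    (i : ℤ) : Module.Finite B ((NLCx.cx G.toExtension).X i) ∧
      Module.Projective B ((NLCx.cx G.toExtension).X i) := by
  by_cases h0 : i = -1
  · subst h0
    obtain ⟨h1, h2⟩ := h
    let e := (NLHtpy.iso₀ G.toExtension).toLinearEquiv
    exact ⟨Module.Finite.equiv e.symm, Module.Projective.of_equiv e.symm⟩
  · by_cases h1 : i = 0
    · subst h1
      let e := (NLHtpy.iso₁ G.toExtension).toLinearEquiv
      haveI : Module.Free B G.toExtension.CotangentSpace :=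
        Module.Free.of_basis G.cotangentSpaceBasis
      haveI : Module.Finite B G.toExtension.CotangentSpace :=
        Module.Finite.of_basis G.cotangentSpaceBasis
      exact ⟨Module.Finite.equiv e.symm, Module.Projective.of_equiv e.symm⟩
    · have hz := NLHtpy.isZero_cx_X G.toExtension i h0 h1
      haveI : Subsingleton ((NLCx.cx G.toExtension).X i) := ModuleCat.subsingleton_of_isZero hz
      exact ⟨inferInstance, inferInstance⟩

/-- For a local complete intersection homomorphism of commutative rings A → B, the naive cotangent
complex NL_{B/A} is a perfect object of D(B) and has tor amplitude in [-1, 0]. -/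
theorem result {A B : Type u} [CommRing A] [CommRing B] [Algebra A B]
    (h : LCI.IsLCI A B) :
    DRing.IsPerfect B (LCI.NL A B) ∧ DRing.HasTorAmplitudeIn B (-1) 0 (LCI.NL A B) := by
  obtain ⟨hft, n, f, hf, hK⟩ := h
  set G := Generators.ofAlgHom f hf with hG
  have hK' : LCI.IsKoszulRegularIdeal G.toExtension.ker := by
    rw [hG, ker_ofAlgHom]; exact hK
  have hcot := KzCotProj.cotangent_finite_projective G.toExtension hK'
  have hvan : DRing.VanishesOutside (NLCx.cx G.toExtension) (-1) 0 := by
    intro i hi
    exact NLHtpy.isZero_cx_X G.toExtension i (by omega) (by omega)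
  refine ⟨⟨NLCx.cx G.toExtension, -1, 0, hvan, fun i => termwise G hcot i,
      ⟨NLHtpy.isoNL₀ G⟩⟩,
    ⟨NLCx.cx G.toExtension, hvan, fun i => ?_, ⟨NLHtpy.isoNL₀ G⟩⟩⟩
  obtain ⟨h1, h2⟩ := termwise G hcot i
  infer_instance

end Groth.Agent.S7072
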