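import Groth.Statements.S0027
import Groth.Agent.Lib.R2H2DevI

set_option autoImplicit false
universe u
open Coherent

namespace Groth.Agent.S0027

open AlgebraicGeometry CategoryTheory CategoryTheory.Limits in
/-- Let X be a nonempty Noetherian scheme and P an isomorphism-invariant property of O_X-modules such
that (1) in a short exact sequence of coherent modules, P for the two outer terms implies P for the
middle term, and (2) P holds for the direct image of every quasi-coherent ideal sheaf of every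
integral closed subscheme of X. Then P holds for every coherent O_X-module. (Nonemptiness of X is
needed for the zero module; the published statement leaves it implicit.) -/
theorem result (X : Scheme.{u}) [IsNoetherian X] [Nonempty X]
    (P : X.Modules → Prop) (hP : ∀ M N : X.Modules, Nonempty (M ≅ N) → P M → P N)
    (h₁ : ∀ S : ShortComplex X.Modules, S.ShortExact → Coh.IsCoh S.X₁ → Coh.IsCoh S.X₂ →
      Coh.IsCoh S.X₃ → P S.X₁ → P S.X₃ → P S.X₂)
    (h₂ : ∀ (Z : Scheme.{u}) (i : Z ⟶ X), IsClosedImmersion i → IsIntegral Z →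
      ∀ (I : Z.Modules) (ι : I ⟶ Coh.structureModule Z), Mono ι → Coh.IsQCoh I →
        P ((Coh.push i).obj I))
    (M : X.Modules) (hM : Coh.IsCoh M) : P M := by
  classical
  obtain ⟨x₀⟩ := ‹Nonempty X›
  obtain ⟨W₀, i₀, hi₀, hW₀, -, -⟩ := Groth.Agent.Lib.R2H2.DevD.exists_integral_closed
    (closure {x₀}) isClosed_closure isIrreducible_singleton.closure x₀ rfl
  have h0 : ∀ M : X.Modules, IsZero M → P M := by
    intro M hM
    obtain ⟨Z0, hz⟩ : ∃ Z0 : W₀.Modules, IsZero Z0 := HasZeroObject.zero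
    have h := h₂ W₀ i₀ hi₀ hW₀ Z0 0 ⟨fun u v _ => hz.eq_of_tgt u v⟩
      (Groth.Agent.Lib.R2H2.KcohLoc.isCoh_of_isZero hz).1
    exact hP _ _ ⟨((Coh.push i₀).map_isZero hz).iso hM⟩ h
  have hext : ∀ S : ShortComplex X.Modules, S.ShortExact → Coh.IsCoh S.X₁ → Coh.IsCoh S.X₂ →
      Coh.IsCoh S.X₃ → CohB1.support S.X₂ ⊆ Set.univ → P S.X₁ → P S.X₃ → P S.X₂ :=
    fun S hS c₁ c₂ c₃ _ => h₁ S hS c₁ c₂ c₃
  refine Groth.Agent.Lib.R2H2.DevG.core2 P h0 Set.univ hext ?_ ⟨Set.univ, isClosed_univ⟩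
    (Set.subset_univ _) M hM (Set.subset_univ _)
  intro Y _ hne _ F hF hs hk
  obtain ⟨y, V, hV, hyY, hyV, hYV⟩ :=
    Groth.Agent.Lib.R2H2.DevA.exists_generic_component (Y : Set X) Y.2 hne
  obtain ⟨W, i, hi, hW, hrange, hgen⟩ := Groth.Agent.Lib.R2H2.DevD.exists_integral_closed
    (closure {y}) isClosed_closure isIrreducible_singleton.closure y rfl
  subst hgen
  have cG := Groth.Agent.Lib.R2H2.DevE.isCoh_pushO i
  obtain ⟨eN⟩ := Groth.Agent.Lib.R2H2.DevI.nonempty_stalk_pushO_equiv' i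
  haveI := Groth.Agent.Lib.R2H2.DevA.finite_stalk F hF (i (genericPoint W))
  obtain ⟨r, ⟨e⟩⟩ := Groth.Agent.Lib.R2H2.ResField.exists_equiv_pow_one
    (F.presheaf.stalk (i (genericPoint W))) _
    (Groth.Agent.Lib.R2H2.DevA.stalk_smul_eq_zero Y F hk _ V hV hyV hYV) eN
  obtain ⟨D, hyD, ⟨iso⟩⟩ := Groth.Agent.Lib.R2H2.DevA.exists_local_iso F _ hF cG
    (i (genericPoint W)) r 1
    (LinearEquiv.funUnique (Fin 1) (X.presheaf.stalk (i (genericPoint W))) _ ≪≫ₗ e)
  have cF1 := Groth.Agent.Lib.R2H2.StalkPow.isCoh_pow F hF 1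
  obtain ⟨T, a, b, cT, ha, hb, hia, -⟩ := Groth.Agent.Lib.R2H2.DevG.exists_mono_graph _ _ cF1
    (Groth.Agent.Lib.R2H2.StalkPow.isCoh_pow _ cG r) D iso
  have hsub : ∀ (Q : X.Modules) (q : Q ⟶ (Coh.push i).obj (Coh.structureModule W)), Mono q →
      Coh.IsCoh Q → P Q := by
    intro Q q hq cQ
    haveI := hq
    haveI : Q.IsQuasicoherent := cQ.1
    obtain ⟨I, ι, hι, hI, ⟨eQ⟩⟩ := Groth.Agent.Lib.R2H2.DevH.exists_ideal_of_mono_pushO i Q q
    exact hP _ _ ⟨eQ.symm⟩ (h₂ W i hi hW I ι hι hI)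
  have PT : P T := Groth.Agent.Lib.R2H2.DevG.prop_of_mono_pow P h0 Set.univ hext _ cG
    (Set.subset_univ _) hsub r T b hb cT
  exact ⟨_, T, a, D, cF1, cT, ha, (Groth.Agent.Lib.R2H2.DevA.support_pow F 1).trans hs, PT,
    fun h => hP _ _ ⟨Groth.Agent.Lib.R2H2.StalkPow.powOneIso F⟩ h, ⟨_, hyD, hyY⟩, hia⟩

end Groth.Agent.S0027
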