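import Groth.Statements.S0055
import Groth.Agent.Lib.R2H3AmpleSV
import Groth.Agent.Lib.R2H3RpushRestrict
import Groth.Agent.Lib.R2H2ProperCoh
import Groth.Agent.Lib.Helper23ModLocal
import Groth.Agent.Lib.Helper23ModAbBridge
import Groth.Agent.Lib.Helper23FinTypeLocal
import Groth.Agent.Lib.R2H2LerayAff

set_option autoImplicit false
universe u
open Coherent

namespace Groth.Agent.S0055

open AlgebraicGeometry CategoryTheory in
/-- Let S be Noetherian, f : X → S proper, F coherent on X and L invertible on X, ample on f⁻¹(W) for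
every affine open W of S (relatively ample). Then there is n₀ with R^p f_*(F ⊗ L^{⊗n}) = 0 for all n
≥ n₀ and p > 0. -/
theorem result {X S : Scheme.{u}} (f : X ⟶ S) [IsProper f]
    [IsNoetherian S] (L : X.Modules) (hL : PicF.IsInvertible L)
    (ha : ∀ W : S.Opens, IsAffineOpen W → CohB1.IsAmple (L.restrict (f ⁻¹ᵁ W).ι))
    (M : X.Modules) (hM : Coh.IsCoh M) :
    ∃ n₀ : ℕ, ∀ n : ℕ, n₀ ≤ n → ∀ p : ℕ, 0 < p →
      Limits.IsZero ((Coh.RpushAb f p).obj (Coh.toAb (CohB1.tensorMod M (CohB1.tensorPow L n)))) := by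
  classical
  have hinjX := Groth.Agent.Lib.R2H3.RpushRestrict.hasInjectiveResolutions_modules X
  -- local bounds
  have hloc : ∀ s : S, ∃ (W : S.Opens) (_ : IsAffineOpen W) (_ : s ∈ W) (n₀ : ℕ), ∀ n : ℕ, n₀ ≤ n → ∀ p : ℕ, 0 < p →
      Subsingleton (Coh.HH (f ⁻¹ᵁ W).toScheme
        ((CohB1.tensorMod M (CohB1.tensorPow L n)).restrict (f ⁻¹ᵁ W).ι) p) := by
    intro s
    obtain ⟨W, hW, hsW, -⟩ := exists_isAffineOpen_mem_and_subset (X := S) (x := s) (U := ⊤) trivial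
    have : IsAffine W.toScheme := hW
    have : IsLocallyNoetherian W.toScheme := isLocallyNoetherian_of_isOpenImmersion W.ι
    have : AlgebraicGeometry.IsNoetherian W.toScheme := {}
    have hamp := ha W hW
    have hMr : Coh.IsCoh (M.restrict (f ⁻¹ᵁ W).ι) := by
      have i1 : M.IsQuasicoherent := hM.1
      have i2 : SheafOfModules.IsFiniteType (R := X.ringCatSheaf) M := hM.2
      exact ⟨inferInstance, Groth.Agent.Lib.Helper23.FinType.isFiniteType_restrict _ M⟩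
    obtain ⟨n₀, hn₀⟩ := Groth.Agent.Lib.R2H3.AmpleSV.serre_vanishing_ample_of_isAffine (f ∣_ W) _ hamp _ hMr
    refine ⟨W, hW, hsW, n₀, fun n hn p hp => ?_⟩
    obtain ⟨Φ⟩ := Groth.Agent.Lib.R2H3.AmpleSV.nonempty_restrict_twist_iso M L hL (f ⁻¹ᵁ W) n
    exact Groth.Agent.Lib.R2H2.PnSerre.subsingleton_HH_of_iso Φ.symm p (hn₀ n hn p hp)
  choose W hW hsW n₀ hn₀ using hloc
  obtain ⟨T, hT⟩ : ∃ T : Finset S, ∀ y : S, ∃ s ∈ T, y ∈ W s := by
    obtain ⟨T, hT⟩ := isCompact_univ.elim_finite_subcover (fun s : S => ((W s : S.Opens) : Set S))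
      (fun s => (W s).2) (fun s _ => Set.mem_iUnion.2 ⟨s, hsW s⟩)
    refine ⟨T, fun y => ?_⟩
    have := hT (Set.mem_univ y)
    simp only [Set.mem_iUnion] at this
    obtain ⟨s, hs, hy⟩ := this
    exact ⟨s, hs, hy⟩
  refine ⟨T.sup n₀, fun n hn p hp => ?_⟩
  set F := CohB1.tensorMod M (CohB1.tensorPow L n) with hF
  have hFq : F.IsQuasicoherent :=
    (Groth.Agent.Lib.R2H3.AmpleSV.isCoh_tensorMod_invertible M _ hM
      (Groth.Agent.Lib.Helper23.SecTw.isInvertible_tensorPow hL n)).1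
  obtain ⟨e⟩ := Groth.Agent.Lib.Helper23.ModAbBridge.nonempty_toAb_Rpush_iso f F p
  refine Limits.IsZero.of_iso ?_ e.symm
  apply Groth.Agent.Lib.R2H2.LerayAff.isZero_toAb_of_isZero
  refine Groth.Agent.Lib.Helper23.ModLocal.isZero_of_isZero_restrict (ι := T) (fun s => (W s.1).toScheme)
    (fun s => (W s.1).ι) (fun y => ?_) (fun s => ?_)
  · obtain ⟨s, hs, hy⟩ := hT y
    exact ⟨⟨s, hs⟩, ⟨y, hy⟩, rfl⟩
  · have hinjW := Groth.Agent.Lib.R2H3.RpushRestrict.hasInjectiveResolutions_modules (f ⁻¹ᵁ W s.1).toScheme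
    obtain ⟨e2⟩ := Groth.Agent.Lib.R2H3.RpushRestrict.nonempty_Rpush_restrict_iso f (W s.1) F p
    refine Limits.IsZero.of_iso ?_ e2
    have : IsAffine (W s.1).toScheme := hW s.1
    have hFr : (F.restrict (f ⁻¹ᵁ W s.1).ι).IsQuasicoherent := inferInstance
    exact Groth.Agent.Lib.R2H2.ProperCoh.isZero_Rpush_of_subsingleton_HH (f ∣_ W s.1) _ p
      (hn₀ s.1 n ((Finset.le_sup s.2).trans hn) p hp)

end Groth.Agent.S0055
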