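import Groth.Statements.S0072
import Groth.Agent.Lib.Helper8FinPushStalk

set_option autoImplicit false
open CategoryTheory CategoryTheory.Limits AlgebraicGeometry Opposite
universe u
open EtBase

namespace Groth.Agent.S0072

/-- Let f : X → Y be a finite morphism of schemes, F an abelian sheaf on X_ét, and η : Spec Ω → Y a
geometric point with Ω algebraically closed. Then the stalk (f_*F)_η is isomorphic to the direct sum
of the stalks F_ξ over the geometric points ξ : Spec Ω → X lying over η (those with f ∘ ξ = η). Only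
the existence of an isomorphism is asserted; the published statement gives a canonical
identification. -/
theorem result {X Y : Scheme.{u}} (f : X ⟶ Y) [IsFinite f] [EtCoh.BCCont f]
    (F : EtCoh.Ab X) {Ω : Type u} [Field Ω] [IsAlgClosed Ω] (η : Spec (CommRingCat.of Ω) ⟶ Y) :
    Nonempty ((EtCoh.stalk η).obj ((EtCoh.push f).obj F) ≅
      ∐ fun ξ : {ξ : Spec (CommRingCat.of Ω) ⟶ X // ξ ≫ f = η} => (EtCoh.stalk ξ.1).obj F) := by
  classical
  haveI : Finite {ξ : Spec (CommRingCat.of Ω) ⟶ X // ξ ≫ f = η} :=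
    Groth.Agent.Lib.Helper8FinGeomPt.finite_geomPts f η
  have hFs : Presieve.IsSheaf X.smallEtaleTopology (F.obj ⋙ forget AddCommGrpCat) :=
    (isSheaf_iff_isSheaf_of_type _ _).mp
      ((Presheaf.isSheaf_iff_isSheaf_forget _ _ (forget AddCommGrpCat)).mp F.property)
  let c : ∀ ξ : {ξ : Spec (CommRingCat.of Ω) ⟶ X // ξ ≫ f = η},
      (EtCoh.stalk η).obj ((EtCoh.push f).obj F) ⟶ (EtCoh.stalk ξ.1).obj F :=
    fun ξ => Groth.Agent.Lib.Helper8FinPushStalk.cmp ξ F.obj
  have hbij : Function.Bijective (Pi.lift c) := by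
    constructor
    · intro x y hxy
      apply Groth.Agent.Lib.Helper8FinPushStalk.cmp_jointly_injective F.obj hFs x y
      intro ξ
      have h1 := congrArg (Pi.π (fun ξ : {ξ : Spec (CommRingCat.of Ω) ⟶ X // ξ ≫ f = η} =>
        (EtCoh.stalk ξ.1).obj F) ξ) hxy
      rw [← ConcreteCategory.comp_apply, ← ConcreteCategory.comp_apply, Pi.lift_π] at h1
      exact h1
    · intro z
      obtain ⟨x, hx⟩ := Groth.Agent.Lib.Helper8FinPushStalk.cmp_jointly_surjective F.obj hFs
        (fun ξ => Pi.π (fun ξ : {ξ : Spec (CommRingCat.of Ω) ⟶ X // ξ ≫ f = η} =>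
          (EtCoh.stalk ξ.1).obj F) ξ z)
      refine ⟨x, ?_⟩
      apply Concrete.limit_ext
      rintro ⟨ξ⟩
      have h1 := hx ξ
      rw [← h1, ← ConcreteCategory.comp_apply]
      exact congrArg (fun m => m x) (Pi.lift_π c ξ)
  haveI : IsIso (Pi.lift c) := (ConcreteCategory.isIso_iff_bijective _).mpr hbij
  exact ⟨asIso (Pi.lift c) ≪≫ (biproduct.isoProduct _).symm ≪≫ biproduct.isoCoproduct _⟩

end Groth.Agent.S0072
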