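import Groth.Statements.S0074
import Groth.Agent.Lib.R2H3TwConstF
import Groth.Agent.Lib.Helper16EtStalk

set_option autoImplicit false
open CategoryTheory CategoryTheory.Limits AlgebraicGeometry Opposite
universe u
open EtBase

namespace Groth.Agent.S0074

/-- On the spectrum of a strictly henselian local ring, global sections of an abelian étale sheaf map
bijectively onto the stalk at the geometric closed point. -/
theorem result (R : Type u) [CommRing R] [HenselianLocalRing R]
    [IsSepClosed (IsLocalRing.ResidueField R)] (F : EtCoh.Ab (Spec (CommRingCat.of R))) :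
    Function.Bijective ((Scheme.pointSmallEtale
      (Spec.map (CommRingCat.ofHom (IsLocalRing.residue R)))).toPresheafFiber
        (EtCoh.top (Spec (CommRingCat.of R)))
        (Over.homMk (Spec.map (CommRingCat.ofHom (IsLocalRing.residue R))) (Category.comp_id _)) F.obj) := by
  classical
  let S := Spec (CommRingCat.of R)
  let s : Spec (CommRingCat.of (IsLocalRing.ResidueField R)) ⟶ S :=
    Spec.map (CommRingCat.ofHom (IsLocalRing.residue R))
  let Φ := Scheme.pointSmallEtale s
  let x₀ : Φ.fiber.obj (EtCoh.top S) := Over.homMk s (Category.comp_id _)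
  -- key: every étale neighbourhood receives a section from the top
  have key : ∀ (U : S.Etale) (x : Φ.fiber.obj U),
      ∃ e : EtCoh.top S ⟶ U, Φ.fiber.map e x₀ = x := by
    intro U x
    have hx : (x.left : Spec (CommRingCat.of (IsLocalRing.ResidueField R)) ⟶ U.left) ≫ U.hom = s :=
      Over.w x
    obtain ⟨σ, hσ1, hσ2⟩ := Groth.Agent.Lib.R2H3.TwConst.exists_section_lift R U.hom x.left hx
    refine ⟨MorphismProperty.Over.homMk σ (hσ1.trans rfl), ?_⟩
    apply Over.OverMorphism.ext
    exact hσ2
  constructor
  · intro z₁ z₂ h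
    obtain ⟨Y, f, y, hy, hf⟩ := (Φ.toPresheafFiber_eq_iff' (EtCoh.top S) x₀ z₁ z₂).mp h
    obtain ⟨e, he⟩ := key Y y
    have hef : e ≫ f = 𝟙 (EtCoh.top S) := by
      apply MorphismProperty.Over.Hom.ext
      have := MorphismProperty.Over.w (e ≫ f)
      exact (Category.comp_id _).symm.trans this
    have h1 := congrArg (F.obj.map e.op) hf
    rw [← ConcreteCategory.comp_apply, ← ConcreteCategory.comp_apply, ← F.obj.map_comp,
      ← op_comp, hef] at h1
    simpa using h1
  · intro p
    obtain ⟨U, x, z, rfl⟩ := Φ.toPresheafFiber_jointly_surjective (P := F.obj) p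
    obtain ⟨e, he⟩ := key U x
    refine ⟨F.obj.map e.op z, ?_⟩
    have := Φ.toPresheafFiber_w_apply e x₀ F.obj z
    rw [he] at this
    exact this

end Groth.Agent.S0074
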