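import Groth.Statements.S0105
import Groth.Agent.Lib.Helper8EtFLC

set_option autoImplicit false
open CategoryTheory CategoryTheory.Limits AlgebraicGeometry Opposite
universe u
open EtBase

namespace Groth.Agent.S0105

/-- On a connected scheme X, a finite locally constant abelian sheaf F on the small étale site is, étale
locally, constant with one and the same finite group everywhere: there are a finite abelian group M
and an étale covering (U_i) of X such that the restriction of F to every U_i is isomorphic to the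
constant sheaf with value M. (The published statement covers arbitrary locally constant sheaves of
modules; stated here for finite locally constant abelian sheaves.) -/
theorem result {X : Scheme.{u}} [ConnectedSpace X] (F : EtCoh.Ab X) (h : EtCoh.IsFiniteLocallyConstant F) :
    ∃ (M : Type) (_ : AddCommGroup M) (_ : Finite M) (ι : Type u) (U : ι → X.Etale), EtCoh.Covers U ∧
      ∀ i, Nonempty (EtCoh.restr F (U i) ≅
        (constantSheaf (X.smallEtaleTopology.over (U i)) AddCommGrpCat.{u + 1}).obj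
          (AddCommGrpCat.of (ULift.{u + 1} M))) := by
  classical
  obtain ⟨ι, U, hcov, hU⟩ := h
  choose M hM hfin e using hU
  have K : ∀ (i j : ι) (p : (U i).left) (q : (U j).left),
      (U i).hom.base p = (U j).hom.base q → Nonempty (M i ≃+ M j) := by
    intro i j p q hpq
    obtain ⟨ei⟩ := e i
    obtain ⟨ej⟩ := e j
    exact Groth.Agent.Lib.Helper8EtFLC.addEquiv_of_common_point F (U i) (U j) (M i) (M j)
      ei ej p q hpq
  choose ix px hpx using hcov
  obtain ⟨x₀⟩ : Nonempty X := inferInstance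
  let S : Set X := {y | Nonempty (M (ix y) ≃+ M (ix x₀))}
  have hloc : ∀ y : X, ∃ N : Set X, IsOpen N ∧ y ∈ N ∧
      ∀ y' ∈ N, Nonempty (M (ix y') ≃+ M (ix y)) := by
    intro y
    haveI : Etale (U (ix y)).hom := (U (ix y)).prop
    refine ⟨Set.range (U (ix y)).hom.base, (U (ix y)).hom.isOpenMap.isOpen_range,
      ⟨px y, hpx y⟩, ?_⟩
    rintro y' ⟨q, rfl⟩
    exact K (ix _) (ix y) (px _) q (hpx _)
  have hSopen : IsOpen S := by
    rw [isOpen_iff_forall_mem_open]
    intro y hy
    obtain ⟨N, hN, hyN, hN'⟩ := hloc y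
    refine ⟨N, ?_, hN, hyN⟩
    intro y' hy'
    obtain ⟨a⟩ := hN' y' hy'
    obtain ⟨b⟩ := hy
    exact ⟨a.trans b⟩
  have hScopen : IsOpen Sᶜ := by
    rw [isOpen_iff_forall_mem_open]
    intro y hy
    obtain ⟨N, hN, hyN, hN'⟩ := hloc y
    refine ⟨N, ?_, hN, hyN⟩
    intro y' hy' hy'S
    obtain ⟨a⟩ := hN' y' hy'
    obtain ⟨b⟩ := hy'S
    exact hy ⟨a.symm.trans b⟩
  have hSuniv : S = Set.univ := by
    have hclopen : IsClopen S := ⟨⟨hScopen⟩, hSopen⟩
    rcases isClopen_iff.mp hclopen with h0 | h1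
    · exfalso
      have hx : x₀ ∈ S := ⟨AddEquiv.refl _⟩
      rw [h0] at hx
      exact hx
    · exact h1
  refine ⟨M (ix x₀), hM _, hfin _, {i : ι // Nonempty (U i).left}, fun i => U i.1, ?_, ?_⟩
  · intro x
    exact ⟨⟨ix x, ⟨px x⟩⟩, px x, hpx x⟩
  · rintro ⟨i, ⟨p⟩⟩
    obtain ⟨ei⟩ := e i
    obtain ⟨a⟩ := K i (ix _) p (px ((U i).hom.base p)) (hpx _).symm
    have hb : (U i).hom.base p ∈ S := by rw [hSuniv]; trivial
    obtain ⟨b⟩ := hb
    let c' : AddCommGrpCat.of (ULift.{u + 1} (M i)) ≅
        AddCommGrpCat.of (ULift.{u + 1} (M (ix x₀))) :=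
      (AddEquiv.ulift.trans ((a.trans b).trans AddEquiv.ulift.symm)).toAddCommGrpIso
    exact ⟨ei ≪≫ (constantSheaf _ _).mapIso c'⟩

end Groth.Agent.S0105
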