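import Groth.Statements.S0118
import Mathlib
import Groth.Agent.Lib.H5bEtThickC

set_option autoImplicit false
open CategoryTheory CategoryTheory.Limits AlgebraicGeometry Opposite
universe u
open EtBase

namespace Groth.Agent.S0118

set_option linter.style.haveILetI false
open Groth.Agent.Lib.H5bEtThick

/-- Base change to a closed subscheme with the same underlying space is an equivalence between the
categories of étale schemes over the two. -/
theorem result {S S₀ : Scheme.{u}} (i : S₀ ⟶ S) [IsClosedImmersion i] [Surjective i] :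
    (EtCoh.bc i).IsEquivalence := by
  have hmap : ∀ {A B : S.Etale} (f : A ⟶ B),
      (Scheme.Etale.forget S₀).map ((EtCoh.bc i).map f) =
        (Over.pullback i).map ((Scheme.Etale.forget S).map f) := fun f => rfl
  haveI : (EtCoh.bc i).Faithful := ⟨fun {A B} f g h => by
    apply (Scheme.Etale.forget S).map_injective
    haveI : Etale ((Scheme.Etale.forget S).obj B).hom := B.prop
    apply pb_map_injective i ((Scheme.Etale.forget S).obj B) ((Scheme.Etale.forget S).obj A)
    change (Over.pullback i).map _ = (Over.pullback i).map _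
    rw [← hmap, ← hmap, h]⟩
  haveI : (EtCoh.bc i).Full := ⟨fun {A B} h => by
    haveI : Etale ((Scheme.Etale.forget S).obj B).hom := B.prop
    obtain ⟨φ, hφ⟩ := pb_map_surjective i ((Scheme.Etale.forget S).obj B)
      ((Scheme.Etale.forget S).obj A) ((Scheme.Etale.forget S₀).map h)
    refine ⟨(Scheme.Etale.forget S).preimage φ, ?_⟩
    apply (Scheme.Etale.forget S₀).map_injective
    rw [hmap, Functor.map_preimage]
    exact hφ⟩
  haveI : (EtCoh.bc i).EssSurj := ⟨fun V₀' => by
    haveI : Etale ((Scheme.Etale.forget S₀).obj V₀').hom := V₀'.prop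
    obtain ⟨V, ε, hV, hε⟩ := exists_lift i ((Scheme.Etale.forget S₀).obj V₀')
    haveI := hV
    let εi : (Over.pullback i).obj V ≅ (Scheme.Etale.forget S₀).obj V₀' := @asIso _ _ _ _ ε hε
    exact ⟨Scheme.Etale.mk V.hom, ⟨(Scheme.Etale.forget S₀).preimageIso εi⟩⟩⟩
  exact {}

end Groth.Agent.S0118
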