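import Groth.Statements.S0128
import Groth.Agent.Lib.Helper8EtConstr

set_option autoImplicit false
universe u
open CategoryTheory CategoryTheory.Limits AlgebraicGeometry Opposite
open EtPBC

namespace Groth.Agent.S0128

/-- (1) iff (3), abelian case: for X quasi-compact and quasi-separated, F is constructible iff X itself
admits a finite partition into constructible locally closed strata along which F becomes finite
locally constant. -/
theorem result (X : Scheme.{u}) [CompactSpace X] [QuasiSeparatedSpace X]
    (F : EtCoh.Ab X) :
    EtPBC.IsConstructible F ↔ EtPBC.AdaptedStrata F (Set.univ : Set X) := by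
  open Groth.Agent.Lib.Helper8EtConstr in
  rw [adaptedStrata_iff]
  have htop : ((⊤ : X.Opens) : Set X) = Set.univ := rfl
  constructor
  · intro hF
    haveI : QuasiSeparatedSpace ((⊤ : X.Opens) : Set X) := by
      rw [htop]
      exact (Homeomorph.Set.univ X).isOpenEmbedding.quasiSeparatedSpace
    have h := strat_of_isConstructible F hF ⊤ (by rw [htop]; exact isCompact_univ)
    rw [htop] at h
    exact h
  · intro h
    rw [isConstructible_iff]
    intro U _
    exact Strat.restrictOpen F Set.univ U (Set.subset_univ _) h

end Groth.Agent.S0128
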