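import Groth.Statements.S0131
import Groth.Agent.Lib.Helper8EtConstr
import Groth.Agent.Lib.Helper8EtFLCKer

set_option autoImplicit false
universe u
open CategoryTheory CategoryTheory.Limits AlgebraicGeometry Opposite
open EtPBC

namespace Groth.Agent.S0131

/-- Part (3): with Λ = Z/n: for a morphism of constructible abelian sheaves on X_et both killed by n > 0
(that is, a map of constructible sheaves of Z/n-modules), kernel and cokernel are constructible.
(The source writes the proof for modules over a Noetherian ring; the plain abelian case (2) is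
marked omitted there, hence the n-torsion hypotheses.) -/
theorem result {X : Scheme.{u}} {F G : EtCoh.Ab X} (φ : F ⟶ G)
    (n : ℕ) (hn : 0 < n) (hFn : EtCoh.KilledBy n F) (hGn : EtCoh.KilledBy n G)
    (hF : EtPBC.IsConstructible F) (hG : EtPBC.IsConstructible G) :
    EtPBC.IsConstructible (kernel φ) ∧ EtPBC.IsConstructible (cokernel φ) := by
  open Groth.Agent.Lib.Helper8EtConstr Groth.Agent.Lib.Helper8EtFLCCrit
    Groth.Agent.Lib.Helper8EtFLCKer in
  rw [isConstructible_iff] at hF hG
  constructor
  · rw [isConstructible_iff]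
    intro U hU
    obtain ⟨ι, hι, T, g, h1, h2, h3, h4, h5⟩ := Strat.common F G _ (hF U hU) (hG U hU)
    refine ⟨ι, hι, T, g, h1, h2, h3, h4, fun i => ?_⟩
    haveI : PreservesFiniteLimits (EtCoh.pull (g i)) := Groth.Agent.S0101.result (g i)
    exact FLC.of_iso (PreservesKernel.iso (EtCoh.pull (g i)) φ).symm
      (FLC.kernel _ (h5 i).1 (h5 i).2)
  · rw [isConstructible_iff]
    intro U hU
    obtain ⟨ι, hι, T, g, h1, h2, h3, h4, h5⟩ := Strat.common F G _ (hF U hU) (hG U hU)
    refine ⟨ι, hι, T, g, h1, h2, h3, h4, fun i => ?_⟩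
    haveI : PreservesColimitsOfSize.{0, 0} (EtCoh.pull (g i)) :=
      (EtCoh.pullPushAdj (g i)).leftAdjoint_preservesColimits
    exact FLC.of_iso (PreservesCokernel.iso (EtCoh.pull (g i)) φ).symm
      (FLC.cokernel _ (h5 i).1 (h5 i).2)

end Groth.Agent.S0131
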