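import Groth.Statements.S0223
import Groth.Agent.S0034
import Groth.Agent.Lib.R2H1SkyDecomp
import Groth.Agent.Lib.R2H1GenusLe
import Groth.Agent.Lib.Helper23PB

set_option autoImplicit false
universe u
open CategoryTheory CategoryTheory.Limits AlgebraicGeometry
open Curves

namespace Groth.Agent.S0223

/-- For a proper one-dimensional scheme X over a field k with only constant global functions, base
change to a field extension k' keeps the global functions equal to the constants and keeps the genus
dim H^1(X, O_X). The base change is given as any pullback square. -/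
theorem result (k : Type u) [Field k] (X : Scheme.{u}) [X.Over (Spec (CommRingCat.of k))]
    [IsProper (X ↘ Spec (CommRingCat.of k))] (hdim : topologicalKrullDim X = 1)
    (h0 : Module.finrank k (Coh.HH X (Coh.structureModule X) 0) = 1)
    (k' : Type u) [Field k'] [Algebra k k'] (X' : Scheme.{u}) [X'.Over (Spec (CommRingCat.of k'))]
    (g : X' ⟶ X)
    (hpb : IsPullback g (X' ↘ Spec (CommRingCat.of k')) (X ↘ Spec (CommRingCat.of k))
      (Spec.map (CommRingCat.ofHom (algebraMap k k')))) :
    Module.finrank k' (Coh.HH X' (Coh.structureModule X') 0) = 1 ∧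
      Module.finrank k' (Coh.HH X' (Coh.structureModule X') 1) =
        Module.finrank k (Coh.HH X (Coh.structureModule X) 1) := by
  haveI : CompactSpace X :=
    QuasiCompact.compactSpace_of_compactSpace (X ↘ Spec (CommRingCat.of k))
  haveI : QuasiSeparatedSpace X :=
    quasiSeparatedSpace_of_quasiSeparated (X ↘ Spec (CommRingCat.of k))
  haveI hO : Coh.IsQCoh (Coh.structureModule X) :=
    (Groth.Agent.Lib.R2H1.GenusLe.isCoh_structureModule X).1
  have key : ∀ i : ℕ, Module.finrank k' (Coh.HH X' (Coh.structureModule X') i) =
      Module.finrank k (Coh.HH X (Coh.structureModule X) i) := by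
    intro i
    obtain ⟨e1⟩ := Groth.Agent.S0034.result k k' X X' g hpb (Coh.structureModule X) i
    have e2 := Groth.Agent.Lib.R2H1.SkyDecomp.HHEquivOfIso k'
      (Groth.Agent.Lib.Helper23.PB.pullbackUnitIso g) i
    rw [← e2.finrank_eq, ← e1.finrank_eq, Module.finrank_baseChange]
  exact ⟨(key 0).trans h0, key 1⟩

end Groth.Agent.S0223
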