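import Groth.Statements.S0232
import Mathlib
import Groth.Agent.Lib.R2H4FFPic
import Groth.Agent.Lib.R2H4PicGen
import Groth.Agent.Lib.R2H4ModSym
import Groth.Agent.Lib.R2H4PicDeg

set_option autoImplicit false
universe u
open CategoryTheory CategoryTheory.Limits AlgebraicGeometry
open Curves

namespace Groth.Agent.S0232

/-- For a quasi-compact quasi-separated scheme X over a field k with finite-dimensional H^0(X, O_X), an
invertible module on X that becomes trivial after base change to a field extension k' is already
trivial (injectivity of Pic(X) → Pic(X_{k'}), stated on classes without a group structure). The base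
change is given as any pullback square. -/
theorem result (k : Type u) [Field k] (X : Scheme.{u}) [X.Over (Spec (CommRingCat.of k))]
    [CompactSpace X] [QuasiSeparatedSpace X]
    (hfin : Module.Finite k (Coh.HH X (Coh.structureModule X) 0))
    (k' : Type u) [Field k'] [Algebra k k'] (X' : Scheme.{u}) (g : X' ⟶ X) (q : X' ⟶ Spec (CommRingCat.of k'))
    (hpb : IsPullback g q (X ↘ Spec (CommRingCat.of k)) (Spec.map (CommRingCat.ofHom (algebraMap k k'))))
    (L : X.Modules) (hL : PicF.IsInvertible L) (htriv : PicF.IsTrivialCl (PicF.pullCl g (PicF.cl L))) :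
    PicF.IsTrivialCl (PicF.cl L) := by
  -- the pull-back of `L` along `g` is trivial
  have hε : Nonempty ((Scheme.Modules.pullback g).obj L ≅ Coh.structureModule X') :=
    Groth.Agent.Lib.R2H4PicDeg.nonempty_iso_of_cl_eq htriv
  -- transfer to the standard pull-back square
  have h1 : Nonempty ((Scheme.Modules.pullback
      (pullback.fst (X ↘ Spec (CommRingCat.of k))
        (Spec.map (CommRingCat.ofHom (algebraMap k k'))))).obj L ≅
      Coh.structureModule (pullback (X ↘ Spec (CommRingCat.of k))
        (Spec.map (CommRingCat.ofHom (algebraMap k k'))))) :=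
    Groth.Agent.Lib.R2H4PicGen.nonempty_pullback_iso_of_comp g hpb.isoPullback.inv
      (pullback.fst _ _) hpb.isoPullback_inv_fst L hε
  -- `Γ(X, O_X)` is a finite `k`-algebra, hence Artinian, hence semi-local
  haveI hfinG : Module.Finite k (Groth.Agent.Lib.R2H4ModSym.GF k (X ↘ Spec (CommRingCat.of k))) :=
    Module.Finite.equiv (Groth.Agent.Lib.R2H4ModSym.h0LinEquiv k X)
  haveI : IsArtinianRing (Groth.Agent.Lib.R2H4ModSym.GF k (X ↘ Spec (CommRingCat.of k))) :=
    IsArtinianRing.of_finite k _
  have hsl : Finite (MaximalSpectrum Γ(X, ⊤)) :=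
    inferInstanceAs (Finite (MaximalSpectrum
      (Groth.Agent.Lib.R2H4ModSym.GF k (X ↘ Spec (CommRingCat.of k)))))
  obtain ⟨e⟩ := Groth.Agent.Lib.R2H4FFPic.main k k' X (X ↘ Spec (CommRingCat.of k)) hsl L hL h1
  exact Quot.sound ⟨e⟩

end Groth.Agent.S0232
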