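import Groth.Statements.S0376
import Groth.Agent.S11185
import Groth.Agent.Lib.Helper19CohenStructure
import Groth.Agent.Lib.Helper28RegPow
import Groth.Agent.Lib.H6xBidJ

set_option autoImplicit false
universe u v
open CategoryTheory
attribute [local instance] HasDerivedCategory.standard
open Dual

namespace Groth.Agent.S0376

/-- A complete Noetherian local ring has a dualizing complex. -/
theorem result (A : Type u) [CommRing A] [IsLocalRing A] [IsNoetherianRing A] [IsAdicComplete (IsLocalRing.maximalIdeal A) A] : ∃ ω : Dual.D A, Dual.IsDualizing A ω := by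
  have hfg : (IsLocalRing.maximalIdeal A).FG := IsNoetherian.noetherian _
  obtain ⟨Λ, instΛ, n, f, hΛ, hf⟩ :=
    Groth.Agent.Lib.Helper19.CohenStructure.exists_surjective_mvPowerSeries_of_complete_local A hfg
  haveI hreg : IsRegularRing Λ := by
    rcases hΛ with hΛ | hΛ
    · letI := hΛ.toField
      infer_instance
    · obtain ⟨hd, hdvr, -⟩ := hΛ
      infer_instance
  haveI hlocΛ : IsLocalRing Λ := by
    rcases hΛ with hΛ | hΛ
    · letI := hΛ.toField
      infer_instance
    · obtain ⟨hd, hdvr, -⟩ := hΛ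
      infer_instance
  haveI hR : IsRegularRing (MvPowerSeries (Fin n) Λ) :=
    Groth.Agent.Lib.Helper28.isRegularRing_mvPowerSeries_fin Λ n
  haveI : IsNoetherianRing (MvPowerSeries (Fin n) Λ) := inferInstance
  have hdim : ringKrullDim (MvPowerSeries (Fin n) Λ) < ⊤ := ringKrullDim_lt_top
  have h1 : Dual.IsDualizing (MvPowerSeries (Fin n) Λ) (Dual.inD _ (MvPowerSeries (Fin n) Λ)) :=
    Groth.Agent.S11185.result _ (fun p => inferInstance) hdim
  letI : Algebra (MvPowerSeries (Fin n) Λ) A := f.toAlgebra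
  haveI : Module.Finite (MvPowerSeries (Fin n) Λ) A :=
    Module.Finite.of_surjective (Algebra.linearMap (MvPowerSeries (Fin n) Λ) A) hf
  obtain ⟨RG, ⟨adj⟩⟩ := Groth.Agent.Lib.H6xCoext.exists_rightAdjoint
    (algebraMap (MvPowerSeries (Fin n) Λ) A)
  exact ⟨_, Groth.Agent.Lib.H6xBid.isDualizing_rightAdjoint _ A RG adj _ h1⟩

end Groth.Agent.S0376
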