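import Groth.Statements.S0382
import Mathlib
import Groth.Agent.Lib.H9InfPtJ
import Groth.Agent.S1488
import Groth.Agent.S1489
import Groth.Agent.S7795

set_option autoImplicit false
universe u v
open CategoryTheory MonoidalCategory CartesianMonoidalCategory MonObj GrpObj AlgebraicGeometry
open GrpSch

namespace Groth.Agent.S0382

/-- On an abelian variety of positive dimension over a field K (a proper, geometrically integral group
scheme over K), multiplication by an integer d is étale exactly when d is nonzero in K.
Multiplication by d is written as the d-th power of the identity morphism in the group Hom(A, A),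
whose multiplication is pointwise, induced by the group structure of A. -/
theorem result (K : Type u) [Field K] (A : Over (Spec (CommRingCat.of K))) [GrpObj A] [IsProper A.hom] [GeometricallyIntegral A.hom] (hA : 0 < topologicalKrullDim A.left) (d : ℤ) : Etale ((𝟙 A ^ d).left) ↔ ((d : K) ≠ 0) := by
  have : IsCommMonObj A := isCommMonObj_of_isProper_of_geometricallyIntegral A
  have : IsLocallyNoetherian A.left := LocallyOfFiniteType.isLocallyNoetherian A.hom
  have : IsIntegral A.left := GeometricallyIntegral.isIntegral_of_subsingleton A.hom
  have hw : (𝟙 A ^ d).left ≫ A.hom = A.hom := Over.w _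
  have : LocallyOfFiniteType ((𝟙 A ^ d).left ≫ A.hom) := by rw [hw]; infer_instance
  have : LocallyOfFiniteType ((𝟙 A ^ d).left) := locallyOfFiniteType_of_comp _ A.hom
  have hlfp : LocallyOfFinitePresentation ((𝟙 A ^ d).left) := inferInstance
  constructor
  · intro het hd
    have hfe := ((Groth.Agent.S1489.result _).1 het).2
    obtain ⟨U, W, hU, hηU, hW, hηW, hW1, hW2, hWμ⟩ := Groth.Agent.Lib.H9InfPtH.exists_opens A
    have hm := Groth.Agent.Lib.H9InfPtI.ker_le_sq A d hd hfe hU hηU hW hηW hW1 hW2 hWμ
    have hsub := Groth.Agent.Lib.H9InfPtJ.subsingleton_of_ker_le_sq A hU hηU hm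
    have hle : topologicalKrullDim A.left ≤ 0 := topologicalKrullDim_zero_of_discreteTopology _
    exact absurd hA (not_lt.2 hle)
  · intro hd
    rw [Groth.Agent.S1489.result]
    refine ⟨hlfp, ?_⟩
    have hsmooth : Smooth A.hom := Groth.Agent.S7795.result A
    have hfs := ((Groth.Agent.S1488.result A.hom).1 hsmooth).2
    exact Groth.Agent.Lib.H9InfPtH.isFormallyEtaleHom_zpow A hfs d (Ne.isUnit hd)

end Groth.Agent.S0382
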