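import Groth.Statements.S0414
import Mathlib
import Groth.Agent.Lib.R2LeadGenFreeRed3

set_option autoImplicit false
universe u
open FlatMor

namespace Groth.Agent.S0414

namespace Aux
open AlgebraicGeometry CategoryTheory Limits TopologicalSpace Groth.Agent.Lib.R2Lead.GenFreeRed

/-- pointwise goodness of `f` over an open `T` of the base. -/
def GoodT {X S : Scheme.{u}} (f : X ⟶ S) (T : S.Opens) : Prop :=
  ∀ x : X, f x ∈ T → ∃ (U : S.affineOpens) (V : X.affineOpens), x ∈ V.1 ∧ U.1 ≤ T ∧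
    ∃ e : V.1 ≤ f ⁻¹ᵁ U.1, (f.appLE U.1 V.1 e).hom.Flat ∧
      (f.appLE U.1 V.1 e).hom.FinitePresentation

theorem restrict_of_pointwise {X S : Scheme.{u}} (f : X ⟶ S) (T : S.Opens)
    {P : MorphismProperty Scheme.{u}}
    {Q : ∀ {R S : Type u} [CommRing R] [CommRing S], (R →+* S) → Prop} [HasRingHomProperty P Q]
    (hQ : RingHom.StableUnderCompositionWithLocalizationAwaySource Q)
    (h : ∀ x : X, f x ∈ T → ∃ (U : S.affineOpens) (V : X.affineOpens), x ∈ V.1 ∧ U.1 ≤ T ∧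
      ∃ e : V.1 ≤ f ⁻¹ᵁ U.1, Q (f.appLE U.1 V.1 e).hom) : P (f ∣_ T) := by
  rw [HasRingHomProperty.iff_exists_appLE (P := P) hQ]
  intro x
  obtain ⟨U, V, hxV, hUT, e, hq⟩ := h x.1 x.2
  have hVT : V.1 ≤ f ⁻¹ᵁ T := e.trans (f.preimage_mono hUT)
  have hU'img : T.ι ''ᵁ (T.ι ⁻¹ᵁ U.1) = U.1 := by
    rw [Scheme.Hom.image_preimage_eq_opensRange_inf, Scheme.Opens.opensRange_ι]
    exact inf_eq_right.mpr hUT
  have hV'img : (f ⁻¹ᵁ T).ι ''ᵁ ((f ⁻¹ᵁ T).ι ⁻¹ᵁ V.1) = V.1 := by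
    rw [Scheme.Hom.image_preimage_eq_opensRange_inf, Scheme.Opens.opensRange_ι]
    exact inf_eq_right.mpr hVT
  have hU'aff : IsAffineOpen (T.ι ⁻¹ᵁ U.1) := by
    rw [← T.ι.isAffineOpen_iff_of_isOpenImmersion, hU'img]; exact U.2
  have hV'aff : IsAffineOpen ((f ⁻¹ᵁ T).ι ⁻¹ᵁ V.1) := by
    rw [← (f ⁻¹ᵁ T).ι.isAffineOpen_iff_of_isOpenImmersion, hV'img]; exact V.2
  have e' : (f ⁻¹ᵁ T).ι ⁻¹ᵁ V.1 ≤ (f ∣_ T) ⁻¹ᵁ (T.ι ⁻¹ᵁ U.1) := by
    intro y hy
    have hy' : y.1 ∈ V.1 := hy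
    show ((f ∣_ T) y).1 ∈ U.1
    rw [morphismRestrict_base_coe]
    exact e hy'
  refine ⟨⟨T.ι ⁻¹ᵁ U.1, hU'aff⟩, ⟨(f ⁻¹ᵁ T).ι ⁻¹ᵁ V.1, hV'aff⟩, hxV, e', ?_⟩
  rw [morphismRestrict_appLE]
  have key : ∀ (A : S.Opens) (B : X.Opens) (hA : A = U.1) (hB : B = V.1) (e'' : B ≤ f ⁻¹ᵁ A),
      Q (f.appLE A B e'').hom := by
    rintro _ _ rfl rfl _
    exact hq
  exact key _ _ hU'img hV'img _

theorem exists_good {X S : Scheme.{u}} (f : X ⟶ S) [IsReduced S] [LocallyOfFiniteType f]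
    [QuasiCompact f] (W : S.affineOpens) (h1 : (1 : Γ(S, W.1)) ≠ 0) :
    ∃ F : Γ(S, W.1), F ≠ 0 ∧ GoodT f (S.basicOpen F) := by
  classical
  have hcomp : IsCompact ((f ⁻¹ᵁ W.1 : X.Opens) : Set X) := f.isCompact_preimage W.2.isCompact
  obtain ⟨s, hsfin, hs⟩ := (isCompact_and_isOpen_iff_finite_and_eq_biUnion_affineOpens).mp
    ⟨hcomp, (f ⁻¹ᵁ W.1).isOpen⟩
  have hle : ∀ V ∈ s, (V : X.affineOpens).1 ≤ f ⁻¹ᵁ W.1 := by
    intro V hV x hx
    have : x ∈ ((f ⁻¹ᵁ W.1 : X.Opens) : Set X) := by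
      rw [hs]; exact Set.mem_biUnion hV hx
    exact this
  haveI := hsfin.fintype
  obtain ⟨F, -, hF0, hgood⟩ := exists_goodAt_family (R := Γ(S, W.1)) (Finset.univ : Finset s)
    (fun V => Γ(X, V.1.1)) (fun V => (f.appLE W.1 V.1.1 (hle V.1 V.2)).hom)
    (fun V _ => HasRingHomProperty.appLE @LocallyOfFiniteType f inferInstance W V.1 _) 1 h1
  refine ⟨F, hF0, ?_⟩
  intro x hx
  have hxW : x ∈ f ⁻¹ᵁ W.1 := (S.basicOpen_le F) hx
  have hx' : x ∈ ⋃ i ∈ s, ((i : X.affineOpens).1 : Set X) := by rw [← hs]; exact hxW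
  obtain ⟨V, hVs, hxV⟩ := Set.mem_iUnion₂.mp hx'
  have hg := hgood ⟨V, hVs⟩ (Finset.mem_univ _) F dvd_rfl
  haveI := W.2.isLocalization_basicOpen F
  haveI := V.2.isLocalization_basicOpen (f.appLE W.1 V.1 (hle V hVs) F)
  have hQ := hg Γ(S, S.basicOpen F) Γ(X, X.basicOpen (f.appLE W.1 V.1 (hle V hVs) F))
  have e₁ : X.basicOpen (f.appLE W.1 V.1 (hle V hVs) F) ≤ f ⁻¹ᵁ (S.basicOpen F) := by
    rw [Scheme.basicOpen_appLE]; exact inf_le_right
  have hmem : x ∈ X.basicOpen (f.appLE W.1 V.1 (hle V hVs) F) := by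
    rw [Scheme.basicOpen_appLE]; exact ⟨hxV, hx⟩
  refine ⟨⟨S.basicOpen F, W.2.basicOpen F⟩,
    ⟨X.basicOpen (f.appLE W.1 V.1 (hle V hVs) F), V.2.basicOpen _⟩, hmem, le_rfl, e₁, ?_⟩
  have heq := IsAffineOpen.appLE_eq_away_map f W.2 V.2 (hle V hVs) F
  show (f.appLE (S.basicOpen F) (X.basicOpen (f.appLE W.1 V.1 (hle V hVs) F)) e₁).hom.Flat ∧
    (f.appLE (S.basicOpen F) (X.basicOpen (f.appLE W.1 V.1 (hle V hVs) F)) e₁).hom.FinitePresentation
  rw [heq]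
  exact hQ

end Aux

open AlgebraicGeometry CategoryTheory Limits in
/-- Generic flatness: a morphism X → S of finite type with S reduced is flat and locally of finite
presentation over some dense open subscheme of S. (Stated for the structure sheaf; the published
statement also treats a quasi-coherent O_X-module of finite type.) -/
theorem result {X S : Scheme.{u}} (f : X ⟶ S) [IsReduced S] [LocallyOfFiniteType f] [QuasiCompact f] :
    ∃ U : S.Opens, Dense (U : Set ↑S) ∧ Flat (f ∣_ U) ∧ LocallyOfFinitePresentation (f ∣_ U) := by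
  classical
  let U₀ : S.Opens := sSup {T | Aux.GoodT f T}
  have hU₀ : Aux.GoodT f U₀ := by
    intro x hx
    obtain ⟨T, hT, hxT⟩ := TopologicalSpace.Opens.mem_sSup.mp hx
    obtain ⟨U, V, hxV, hUT, e, h1, h2⟩ := hT x hxT
    exact ⟨U, V, hxV, hUT.trans (le_sSup hT), e, h1, h2⟩
  refine ⟨U₀, ?_, ?_, ?_⟩
  · rw [dense_iff_inter_open]
    intro O hO hOne
    obtain ⟨s, hs⟩ := hOne
    obtain ⟨W, hW, hsW, hWO⟩ := TopologicalSpace.Opens.isBasis_iff_nbhd.mp S.isBasis_affineOpens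
      (show s ∈ (⟨O, hO⟩ : S.Opens) from hs)
    have h1 : (1 : Γ(S, W)) ≠ 0 := by
      intro h10
      have h2 : S.basicOpen (1 : Γ(S, W)) = W := S.basicOpen_of_isUnit isUnit_one
      rw [h10, Scheme.basicOpen_zero] at h2
      rw [← h2] at hsW
      exact hsW
    obtain ⟨F, hF0, hgood⟩ := Aux.exists_good f ⟨W, hW⟩ h1
    have hne : S.basicOpen F ≠ ⊥ := fun h => hF0 ((basicOpen_eq_bot_iff F).mp h)
    obtain ⟨y, hy⟩ := (TopologicalSpace.Opens.ne_bot_iff_nonempty _).mp hne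
    exact ⟨y, hWO (S.basicOpen_le F hy), (le_sSup hgood : S.basicOpen F ≤ U₀) hy⟩
  · refine Aux.restrict_of_pointwise f U₀ (P := @Flat)
      (RingHom.Flat.stableUnderComposition.stableUnderCompositionWithLocalizationAway
        RingHom.Flat.holdsForLocalizationAway).left (fun x hx => ?_)
    obtain ⟨U, V, hxV, hUT, e, h1, h2⟩ := hU₀ x hx
    exact ⟨U, V, hxV, hUT, e, h1⟩
  · refine Aux.restrict_of_pointwise f U₀ (P := @LocallyOfFinitePresentation)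
      (RingHom.finitePresentation_stableUnderComposition.stableUnderCompositionWithLocalizationAway
        RingHom.finitePresentation_holdsForLocalizationAway).left (fun x hx => ?_)
    obtain ⟨U, V, hxV, hUT, e, h1, h2⟩ := hU₀ x hx
    exact ⟨U, V, hxV, hUT, e, h2⟩

end Groth.Agent.S0414
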