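import Groth.Statements.S0628
import Groth.Agent.S0626
import Groth.Agent.S0101
import Groth.Agent.Lib.Helper8EtGeomPtPush
import Groth.Agent.Lib.Helper23DerCompAcyclic
import Groth.Agent.Lib.Helper21DerPost

set_option autoImplicit false
open CategoryTheory CategoryTheory.Limits AlgebraicGeometry Opposite
universe u
open EtCore

namespace Groth.Agent.S0628

/-- Let f : X -> Y be a morphism of schemes with X integral and normal and with separably closed
function field. Then the higher direct images R^q f_* of a constant sheaf vanish for q > 0. -/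
theorem result {X Y : Scheme.{u}} (f : X ⟶ Y) [IsIntegral X]
    (hN : ∀ x : X, IsIntegrallyClosed (X.presheaf.stalk x)) [IsSepClosed X.functionField]
    (M : Type) [AddCommGroup M] (q : ℕ) (hq : 1 ≤ q) :
    IsZero ((EtCoh.Rpush f q).obj (EtCoh.const X M)) := by
  classical
  obtain ⟨g, hg⟩ : ∃ g : Spec (X.presheaf.stalk (genericPoint X)) ⟶ X,
      g = X.fromSpecStalk (genericPoint X) := ⟨_, rfl⟩
  have hunit : IsIso ((EtCoh.pullPushAdj g).unit.app (EtCoh.const X M)) := by
    rw [hg]
    exact Groth.Agent.S0626.result X hN M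
  have e0 : EtCoh.const X M ≅ (EtCoh.push g).obj ((EtCoh.pull g).obj (EtCoh.const X M)) :=
    @asIso _ _ _ _ _ hunit
  refine IsZero.of_iso ?_ ((EtCoh.Rpush f q).mapIso e0)
  haveI : PreservesFiniteLimits (EtCoh.pull g) := Groth.Agent.S0101.result g
  haveI : (EtCoh.pull g).PreservesMonomorphisms := inferInstance
  haveI : (EtCoh.push g).PreservesInjectiveObjects :=
    Functor.preservesInjectiveObjects_of_adjunction_of_preservesMonomorphisms (EtCoh.pullPushAdj g)
  haveI : PreservesFiniteLimits (EtCoh.push g) := by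
    haveI := (EtCoh.pullPushAdj g).rightAdjoint_preservesLimits
    infer_instance
  have eΩ : Spec (CommRingCat.of X.functionField) ≅ Spec (X.presheaf.stalk (genericPoint X)) :=
    Iso.refl _
  have hR : ∀ n : ℕ, IsZero (((EtCoh.push g).rightDerived (n + 1)).obj
      ((EtCoh.pull g).obj (EtCoh.const X M))) := fun n =>
    Groth.Agent.Lib.Helper8EtGeomPtPush.isZero_Rpush eΩ g _ (n + 1) (by omega)
  refine IsZero.of_iso ?_
    (Groth.Agent.Lib.Helper23DerCompAcyclic.compIsoOfAcyclic (EtCoh.push g) (EtCoh.push f) hR q).symm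
  refine IsZero.of_iso ?_
    ((Groth.Agent.Lib.Helper21.DerPost.natIsoRightDerived (EtCoh.pushComp f g) q).app _)
  exact Groth.Agent.Lib.Helper8EtGeomPtPush.isZero_Rpush eΩ (g ≫ f) _ q hq

end Groth.Agent.S0628
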