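import Groth.Statements.S0632
import Groth.Agent.Lib.Helper8EtLift

set_option autoImplicit false
open CategoryTheory CategoryTheory.Limits AlgebraicGeometry Opposite
universe u
open EtCore

namespace Groth.Agent.S0632

/-- Let X -> Y be a closed immersion and U_i -> X (i in ι) a jointly surjective family of etale
morphisms. Then one can find a jointly surjective family of etale Y-schemes V_j each of which either
has empty preimage over X or, after base change to X, maps into one of the U_i over X. -/
theorem result {X Y : Scheme.{u}} (f : X ⟶ Y) [IsClosedImmersion f]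
    {ι : Type u} (U : ι → X.Etale) (hU : EtCoh.Covers U) :
    ∃ (κ : Type u) (V : κ → Y.Etale), EtCoh.Covers V ∧
      ∀ j, IsEmpty ↥(pullback (V j).hom f) ∨
        ∃ (i : ι) (h : pullback (V j).hom f ⟶ (U i).left), h ≫ (U i).hom = pullback.snd (V j).hom f := by
  have key : ∀ (i : ι) (x : (U i).left), ∃ (B B₀ : Scheme.{u}) (c : B ⟶ Y) (k : B₀ ⟶ B)
      (r : B₀ ⟶ (U i).left),
      IsAffine B ∧ AlgebraicGeometry.Etale c ∧ IsOpenImmersion r ∧
      IsPullback k (r ≫ (U i).hom) c f ∧ x ∈ Set.range r := fun i x =>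
    haveI : AlgebraicGeometry.Etale (U i).hom := (U i).prop
    Groth.Agent.Lib.Helper8EtLift.exists_etale_lift_closed f (U i).hom x
  choose B B₀ c k r hB hc hr sq hx using key
  let W : Y.Opens := ⟨(Set.range f)ᶜ, f.isClosedEmbedding.isClosed_range.isOpen_compl⟩
  refine ⟨Option (Σ i : ι, (U i).left),
    fun j => j.elim (Scheme.Etale.mk W.ι)
      (fun p => @Scheme.Etale.mk Y (B p.1 p.2) (c p.1 p.2) (hc p.1 p.2)), ?_, ?_⟩
  · intro y
    by_cases hy : y ∈ Set.range f
    · obtain ⟨x₀, rfl⟩ := hy
      obtain ⟨i, u, hu⟩ := hU x₀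
      obtain ⟨b, hb⟩ := hx i u
      refine ⟨some ⟨i, u⟩, k i u b, ?_⟩
      change (k i u ≫ c i u) b = f x₀
      rw [(sq i u).w]
      change f ((U i).hom (r i u b)) = f x₀
      rw [hb]
      exact congrArg f hu
    · exact ⟨none, (⟨y, hy⟩ : W), rfl⟩
  · intro j
    cases j with
    | none =>
      left
      constructor
      intro z
      have h1 : W.ι (pullback.fst W.ι f z) = f (pullback.snd W.ι f z) := by
        change (pullback.fst W.ι f ≫ W.ι) z = (pullback.snd W.ι f ≫ f) z
        rw [pullback.condition]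
      exact (pullback.fst W.ι f z).2 ⟨_, h1.symm⟩
    | some p =>
      right
      refine ⟨p.1, (sq p.1 p.2).isoPullback.inv ≫ r p.1 p.2, ?_⟩
      rw [Category.assoc]
      exact (sq p.1 p.2).isoPullback_inv_snd

end Groth.Agent.S0632
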