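import Groth.Statements.S0633
import Groth.Agent.Lib.Helper8EtLift

set_option autoImplicit false
open CategoryTheory CategoryTheory.Limits AlgebraicGeometry Opposite
universe u
open EtCore

namespace Groth.Agent.S0633

/-- Let X -> Y be a closed immersion and U -> X etale. Then there exist etale morphisms V_i -> Y and
X-morphisms V_i x_Y X -> U which are open immersions whose images cover U. -/
theorem result {X Y : Scheme.{u}} (f : X ⟶ Y) [IsClosedImmersion f]
    (U : X.Etale) :
    ∃ (κ : Type u) (V : κ → Y.Etale) (h : ∀ j, pullback (V j).hom f ⟶ U.left),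
      (∀ j, h j ≫ U.hom = pullback.snd (V j).hom f) ∧ (∀ j, IsOpenImmersion (h j)) ∧
      ∀ x : U.left, ∃ (j : κ) (y : ↥(pullback (V j).hom f)), (h j).base y = x := by
  have key : ∀ x : U.left, ∃ (B B₀ : Scheme.{u}) (c : B ⟶ Y) (k : B₀ ⟶ B) (r : B₀ ⟶ U.left),
      IsAffine B ∧ AlgebraicGeometry.Etale c ∧ IsOpenImmersion r ∧ IsPullback k (r ≫ U.hom) c f ∧
      x ∈ Set.range r := fun x =>
    haveI : AlgebraicGeometry.Etale U.hom := U.prop
    Groth.Agent.Lib.Helper8EtLift.exists_etale_lift_closed f U.hom x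
  choose B B₀ c k r hB hc hr sq hx using key
  refine ⟨U.left, fun x => @Scheme.Etale.mk Y (B x) (c x) (hc x),
    fun x => (sq x).isoPullback.inv ≫ r x, ?_, ?_, ?_⟩
  · intro x
    rw [Category.assoc]
    exact (sq x).isoPullback_inv_snd
  · intro x
    haveI := hr x
    infer_instance
  · intro x
    obtain ⟨b, hb⟩ := hx x
    refine ⟨x, (sq x).isoPullback.hom b, ?_⟩
    change ((sq x).isoPullback.hom ≫ (sq x).isoPullback.inv ≫ r x) b = x
    rw [Iso.hom_inv_id_assoc]
    exact hb

end Groth.Agent.S0633
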