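import Groth.Statements.S0660
import Groth.Agent.Lib.Helper8EtGraph
import Groth.Agent.Lib.Helper16SmallEtale

set_option autoImplicit false
open CategoryTheory CategoryTheory.Limits AlgebraicGeometry Opposite
universe u
open EtCore

namespace Groth.Agent.S0660

/-- Let i : Z -> X be a closed immersion, U and U' schemes etale over X, and h a Z-morphism from U x_X Z
to U' x_X Z. Then there are an etale X-scheme W and X-morphisms a : W -> U, b : W -> U' such that
the base change of a to Z is an isomorphism and h is the base change of b composed with the inverse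
of the base change of a. -/
theorem result {Z X : Scheme.{u}} (i : Z ⟶ X) [IsClosedImmersion i] (U U' : X.Etale)
    (h : (EtCoh.bc i).obj U ⟶ (EtCoh.bc i).obj U') :
    ∃ (W : X.Etale) (a : W ⟶ U) (b : W ⟶ U'), IsIso ((EtCoh.bc i).map a) ∧ (EtCoh.bc i).map a ≫ h = (EtCoh.bc i).map b := by
  obtain ⟨W₀, hW⟩ := Groth.Agent.Lib.Helper8EtGraph.exists_graph_open i U.hom U'.hom h.left
    (Over.w h.hom)
  let W : X.Etale := Scheme.Etale.mk (W₀.ι ≫ pullback.fst U.hom U'.hom ≫ U.hom)
  let a : W ⟶ U := MorphismProperty.Over.homMk (W₀.ι ≫ pullback.fst U.hom U'.hom)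
    (Category.assoc _ _ _)
  let b : W ⟶ U' := MorphismProperty.Over.homMk (W₀.ι ≫ pullback.snd U.hom U'.hom)
    (by
      change (W₀.ι ≫ pullback.snd U.hom U'.hom) ≫ U'.hom =
        W₀.ι ≫ pullback.fst U.hom U'.hom ≫ U.hom
      rw [Category.assoc, pullback.condition])
  obtain ⟨hiso, heq⟩ := hW ((EtCoh.bc i).map a).left ((EtCoh.bc i).map b).left
    (Groth.Agent.Lib.Helper16.SmallEtale.bc_map_left_fst i a)
    (Groth.Agent.Lib.Helper16.SmallEtale.bc_map_left_snd i a)
    (Groth.Agent.Lib.Helper16.SmallEtale.bc_map_left_fst i b)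
    (Groth.Agent.Lib.Helper16.SmallEtale.bc_map_left_snd i b)
  refine ⟨W, a, b, ?_, ?_⟩
  · haveI : IsIso ((Scheme.Etale.forget Z ⋙ Over.forget Z).map ((EtCoh.bc i).map a)) := hiso
    exact isIso_of_reflects_iso _ (Scheme.Etale.forget Z ⋙ Over.forget Z)
  · apply (Scheme.Etale.forget Z).map_injective
    apply Over.OverMorphism.ext
    exact heq

end Groth.Agent.S0660
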