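import Groth.Statements.S0686
import Groth.Agent.Lib.Helper8ShriekOpen

set_option autoImplicit false
open CategoryTheory CategoryTheory.Limits AlgebraicGeometry Opposite
universe u
open EtShriek

namespace Groth.Agent.S0686

/-- Let j : X -> Xbar be an open immersion and fbar : Xbar -> Y proper, f = fbar o j. Then f_! is
isomorphic to fbar_* o j_! as functors on abelian etale sheaves. (The source's isomorphism is
canonical; here existence.) -/
theorem result {X Xb Y : Scheme.{u}} (j : X ⟶ Xb) [IsOpenImmersion j]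
    (fb : Xb ⟶ Y) [IsProper fb] (f : X ⟶ Y) (hf : f = j ≫ fb) [EtShriek.JCont j] :
    Nonempty (EtShriek.lowerShriek f ≅ EtShriek.extZero j ⋙ EtCoh.push fb) := by
  subst hf
  obtain ⟨φ, -, -⟩ := Groth.Agent.Lib.Helper8ShriekComp.main j fb
  exact ⟨φ ≪≫ Functor.isoWhiskerRight (Groth.Agent.Lib.Helper8ShriekOpen.openIso j)
    (EtShriek.lowerShriek fb) ≪≫
    Functor.isoWhiskerLeft (EtShriek.extZero j) (Groth.Agent.Lib.Helper8ShriekOpen.properIso fb)⟩

end Groth.Agent.S0686
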