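import Groth.Statements.S0687
import Groth.Agent.Lib.Helper8ShriekH0c
import Groth.Agent.S0686

set_option autoImplicit false
open CategoryTheory CategoryTheory.Limits AlgebraicGeometry Opposite
universe u
open EtShriek

namespace Groth.Agent.S0687

/-- Let k be a field, j : X → X' an open immersion into a scheme X' proper over k, and p : X → Spec k
the composite of j with the structure morphism of X', with p separated and locally of finite type.
Then for every abelian sheaf F on X_ét the group H^0_c(X, F) of sections with compact support (the
global sections of F whose support is proper over k) is isomorphic to the group of global sections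
H^0(X', j_!F) of the extension by zero of F. (Only the existence of an isomorphism of groups is
asserted; the published statement gives a canonical one.) -/
theorem result {k : Type u} [Field k] {X Xb : Scheme.{u}} (j : X ⟶ Xb)
    [IsOpenImmersion j] (pb : Xb ⟶ Spec (CommRingCat.of k)) [IsProper pb]
    (p : X ⟶ Spec (CommRingCat.of k)) (hp : p = j ≫ pb) [IsSeparated p] [LocallyOfFiniteType p]
    [EtShriek.JCont j] (F : EtCoh.Ab X) :
    Nonempty ((EtShriek.H0c p F) ≃+ EtCoh.sect ((EtShriek.extZero j).obj F) (EtCoh.top Xb)) := by
  obtain ⟨φ⟩ := Groth.Agent.S0686.result j pb p hp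
  exact ⟨(Groth.Agent.Lib.Helper8ShriekH0c.H0cEquiv p F).trans
    ((Groth.Agent.Lib.Helper8ShriekH0c.secEquiv F p _).trans
      ((Groth.Agent.Lib.Helper8ShriekH0c.sectionsEquiv (φ.app F) _).trans
        (Groth.Agent.Lib.Helper8ShriekH0c.objEquiv ((EtShriek.extZero j).obj F)
          (Groth.Agent.Lib.Helper8ShriekH0c.topIso pb))))⟩

end Groth.Agent.S0687
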