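import Groth.Statements.S0792
import Groth.Agent.Lib.Helper18Ann2
import Groth.Agent.Lib.Helper1ProperOver
import Groth.Agent.Lib.Helper2PullbackSec
import Groth.Agent.Lib.Helper20FormalPull
import Groth.Agent.Lib.H6xSuppPush
import Groth.Agent.Lib.R2H2DevE

set_option autoImplicit false
universe u
open Coherent

namespace Groth.Agent.S0792

open CategoryTheory AlgebraicGeometry in
/-- Let f : X → S be locally of finite type and F a quasi-coherent O_X-module of finite type. The
support of F is proper over S if and only if there are a closed subscheme i : Z → X with Z proper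
over S and a quasi-coherent O_Z-module G of finite type with i_* G isomorphic to F. (The published
statement also gives a further equivalent condition, that the scheme-theoretic support of F is
proper over S; it is not used here.) -/
theorem result {X S : Scheme.{u}} (f : X ⟶ S) [LocallyOfFiniteType f]
    (F : X.Modules) (hq : Coh.IsQCoh F) (hft : CohB1.IsFT F) :
    ClSub.IsProperOver f (CohB1.support F) ↔
      ∃ (Z : Scheme.{u}) (i : Z ⟶ X), IsClosedImmersion i ∧ IsProper (i ≫ f) ∧
        ∃ G : Z.Modules, Coh.IsQCoh G ∧ CohB1.IsFT G ∧
          Nonempty ((Scheme.Modules.pushforward i).obj G ≅ F) := by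
  haveI : F.IsQuasicoherent := hq
  haveI : SheafOfModules.IsFiniteType (R := X.ringCatSheaf) F := hft
  obtain ⟨J, -, hiso, -, hsupp⟩ := Groth.Agent.Helper18Ann.main_S9377 F hft
  constructor
  · intro hp
    have hrange : Set.range J.subschemeι = CohB1.support F := by
      rw [Scheme.IdealSheafData.range_subschemeι, hsupp]
    have hprop : IsProper (J.subschemeι ≫ f) :=
      (Groth.Agent.Lib.Helper1.isProperOver_iff_isProper_comp f J.subschemeι _ hrange).1 hp
    haveI := hiso
    exact ⟨J.subscheme, J.subschemeι, inferInstance, hprop,
      (Scheme.Modules.pullback J.subschemeι).obj F,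
      Groth.Agent.Lib.Helper2.PullbackSec.isQuasicoherent_pullback J.subschemeι F,
      Groth.Agent.Lib.Helper20.FormalPull.isFiniteType_pullback J.subschemeι F,
      ⟨(asIso ((Scheme.Modules.pullbackPushforwardAdjunction J.subschemeι).unit.app F)).symm⟩⟩
  · rintro ⟨Z, i, hi, hprop, G, hGq, hGft, ⟨e⟩⟩
    haveI := hi
    have hcl : IsClosed (CohB1.support F) := by
      rw [← hsupp]
      exact J.support.isClosed
    have hsub : CohB1.support F ⊆ Set.range i := by
      rw [← Groth.Agent.Lib.H6xSuppPush.support_eq_of_iso e]
      exact Groth.Agent.Lib.R2H2.DevE.support_push_subset i G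
    refine ⟨hcl, ?_⟩
    have h1 : (Scheme.IdealSheafData.vanishingIdeal ⟨CohB1.support F, hcl⟩).subschemeι ≫ f =
        Groth.Agent.Lib.Helper1.redLift i (CohB1.support F) hcl hsub ≫ (i ≫ f) := by
      rw [← Category.assoc, Groth.Agent.Lib.Helper1.redLift_fac]
    rw [h1]
    infer_instance

end Groth.Agent.S0792
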