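import Groth.Statements.S0819
import Groth.Agent.Lib.R2H2DevE

set_option autoImplicit false
universe u
open Coherent

namespace Groth.Agent.S0819

open CategoryTheory AlgebraicGeometry in
/-- Let X be a Noetherian scheme, Z₀ ⊆ X an irreducible closed subset with generic point ξ, and P an
isomorphism-invariant property of O_X-modules such that: (1) in every short exact sequence of
coherent modules supported in Z₀, P for two of the terms implies P for the third; (2) P holds for
i_* I whenever i : Z → X is an integral closed subscheme with i(Z) a proper subset of Z₀ and I ⊆ O_Z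
is a quasi-coherent ideal sheaf; (3) there is a coherent G with support exactly Z₀, stalk at ξ
isomorphic to the residue field over the local ring, and P(G). Then P holds for every coherent
module whose support is contained in Z₀. -/
theorem result (X : Scheme.{u}) [IsNoetherian X]
    (Z₀ : Set X) (hZ₀ : IsClosed Z₀) (hirr : IsIrreducible Z₀) (ξ : X) (hξ : ξ ∈ Z₀ ∧ closure {ξ} = Z₀)
    (P : X.Modules → Prop) (hP : ∀ M N : X.Modules, Nonempty (M ≅ N) → P M → P N)
    (h₁ : ∀ S : ShortComplex X.Modules, S.ShortExact → Coh.IsCoh S.X₁ → Coh.IsCoh S.X₂ → Coh.IsCoh S.X₃ →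
      CohB1.support S.X₂ ⊆ Z₀ →
      (P S.X₁ → P S.X₂ → P S.X₃) ∧ (P S.X₁ → P S.X₃ → P S.X₂) ∧ (P S.X₂ → P S.X₃ → P S.X₁))
    (h₂ : ∀ (Z : Scheme.{u}) (i : Z ⟶ X), IsClosedImmersion i → IsIntegral Z →
      Set.range ⇑i ⊆ Z₀ → Set.range ⇑i ≠ Z₀ →
      ∀ (I : Z.Modules) (ι : I ⟶ Coh.structureModule Z), Mono ι → Coh.IsQCoh I →
        P ((Coh.push i).obj I))
    (h₃ : ∃ G : X.Modules, Coh.IsCoh G ∧ CohB1.support G = Z₀ ∧
      Nonempty (↑(G.presheaf.stalk ξ) ≃ₗ[X.presheaf.stalk ξ] IsLocalRing.ResidueField (X.presheaf.stalk ξ)) ∧ P G)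
    (M : X.Modules) (hM : Coh.IsCoh M) (hsupp : CohB1.support M ⊆ Z₀) : P M := by
  classical
  obtain ⟨G₃, cG₃, sG₃, ⟨e₃⟩, PG₃⟩ := h₃
  have h0 : ∀ M : X.Modules, CategoryTheory.Limits.IsZero M → P M := by
    intro M hM
    let S : ShortComplex X.Modules := ShortComplex.mk (𝟙 G₃) (0 : G₃ ⟶ M) (by simp)
    have hS : S.ShortExact :=
      (ShortComplex.Splitting.ofIsIsoOfIsZero S (inferInstanceAs (IsIso (𝟙 G₃))) hM).shortExact
    exact (h₁ S hS cG₃ cG₃ (Groth.Agent.Lib.R2H2.KcohLoc.isCoh_of_isZero hM)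
      (by change CohB1.support G₃ ⊆ Z₀; rw [sG₃])).1 PG₃ PG₃
  refine Groth.Agent.Lib.R2H2.DevC.devissage P h0 Z₀ hZ₀ (fun s => s = 1) h₁ ?_ ?_ M hM hsupp
  · intro F s _ hs hPF
    subst hs
    exact hP _ _ ⟨Groth.Agent.Lib.R2H2.StalkPow.powOneIso F⟩ hPF
  · intro Z hZ hirrZ hZZ₀ y hy
    by_cases hZeq : Z = Z₀
    · have hyξ : y = ξ := by
        have h1 : IsGenericPoint y Z₀ := by rw [← hZeq]; exact hy
        have h2 : IsGenericPoint ξ Z₀ := hξ.2
        exact h1.eq h2
      subst hyξ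
      refine ⟨G₃, cG₃, PG₃, by rw [sG₃, hZeq], ?_⟩
      intro N _ _ _ hN
      obtain ⟨r, ⟨e⟩⟩ := Groth.Agent.Lib.R2H2.ResField.exists_equiv_pow_one N
        (G₃.presheaf.stalk y) hN e₃
      exact ⟨r, 1, rfl, ⟨LinearEquiv.funUnique (Fin 1) (X.presheaf.stalk y) N ≪≫ₗ e⟩⟩
    · obtain ⟨W, i, hi, hW, hrange, hgen⟩ :=
        Groth.Agent.Lib.R2H2.DevD.exists_integral_closed Z hZ hirrZ y hy
      subst hgen
      have PG : P ((Coh.push i).obj (Coh.structureModule W)) :=
        h₂ W i hi hW (by rw [hrange]; exact hZZ₀) (by rw [hrange]; exact hZeq)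
          (Coh.structureModule W) (𝟙 _) inferInstance inferInstance
      have cG := Groth.Agent.Lib.R2H2.DevE.isCoh_pushO i
      have sG : CohB1.support ((Coh.push i).obj (Coh.structureModule W)) ⊆ Z := by
        rw [← hrange]
        exact Groth.Agent.Lib.R2H2.DevE.support_push_subset i _
      have hker : i.ker = Scheme.IdealSheafData.vanishingIdeal ⟨Z, hZ⟩ := by
        rw [Groth.Agent.Lib.Helper10.RedInd.ker_eq_vanishingIdeal_of_isReduced i]
        congr 1
        apply TopologicalSpace.Closeds.ext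
        change closure (Set.range ⇑i) = Z
        rw [hrange, hZ.closure_eq]
      have hk := Groth.Agent.Lib.R2H2.DevA.stalk_smul_eq_zero ⟨Z, hZ⟩
        ((Coh.push i).obj (Coh.structureModule W))
        (hker ▸ Groth.Agent.Lib.R2H2.DevE.killed_push i (Coh.structureModule W))
        (i (genericPoint W)) Set.univ isOpen_univ trivial (fun x hx => by rw [hy]; exact hx.1)
      obtain ⟨eN⟩ := Groth.Agent.Lib.R2H2.DevE.nonempty_stalk_pushO_equiv i (genericPoint W) hk
      refine ⟨_, cG, PG, sG, ?_⟩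
      intro N _ _ _ hN
      obtain ⟨r, ⟨e⟩⟩ := Groth.Agent.Lib.R2H2.ResField.exists_equiv_pow_one N _ hN eN
      exact ⟨r, 1, rfl,
        ⟨LinearEquiv.funUnique (Fin 1) (X.presheaf.stalk (i (genericPoint W))) N ≪≫ₗ e⟩⟩

end Groth.Agent.S0819
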