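import Groth.Statements.S0828
import Groth.Agent.S0605
import Groth.Agent.Lib.H9FreeFib
import Groth.Agent.Lib.Helper2FibreCrit2
import Groth.Agent.Lib.Helper2RankLoc
import Groth.Agent.Lib.Helper23FinPres
import Groth.Agent.Lib.Helper28DepthSk
import Groth.Agent.Lib.Helper5RLR3
import Groth.Agent.Lib.Helper5RLR
import Groth.Agent.Lib.Helper5CM
import Groth.Agent.Lib.Helper20ZClos14

set_option autoImplicit false
universe u
open Coherent

namespace Groth.Agent.S0828

/-- A nontrivial finite free module over a regular local ring is Cohen-Macaulay. -/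
theorem isCM_of_free (R : Type u) [CommRing R] [IsRegularLocalRing R]
    (M : Type u) [AddCommGroup M] [Module R M] [Module.Finite R M] [Module.Free R M]
    [Nontrivial M] : LocCoh.IsCohenMacaulayModule R M := by
  have hNoeth : IsNoetherianRing R := inferInstance
  have hCM := Groth.Agent.Lib.Helper5.isCohenMacaulayLocalRing_of_isRegularLocalRing R
  have hdepthR : ((LocCoh.depth R R : ℕ∞) : WithBot ℕ∞) = ringKrullDim R := by
    rw [← hCM.supportDim_eq_depth, Module.supportDim_self_eq_ringKrullDim]
  have h1 : ((LocCoh.depth R M : ℕ∞) : WithBot ℕ∞) ≤ Module.supportDim R M :=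
    Groth.Agent.Lib.Helper5.depth_le_supportDim
  have h2 : Module.supportDim R M ≤ ringKrullDim R := Module.supportDim_le_ringKrullDim R M
  have e : M ≃ₗ[R] (Fin (Module.finrank R M) → R) :=
    (Module.finBasis R M).equivFun
  have h3 : LocCoh.depth R R ≤ LocCoh.depth R M := by
    have h4 : LocCoh.depth R M = LocCoh.depth R (Fin (Module.finrank R M) → R) :=
      Groth.Agent.Lib.Helper28.idealDepth_congr e (IsLocalRing.maximalIdeal R)
    rw [h4]
    exact Groth.Agent.Lib.Helper28.idealDepth_le_idealDepth_pi_fin (IsLocalRing.maximalIdeal R) R _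
  have h3' : ((LocCoh.depth R R : ℕ∞) : WithBot ℕ∞) ≤ ((LocCoh.depth R M : ℕ∞) : WithBot ℕ∞) :=
    WithBot.coe_le_coe.2 h3
  exact le_antisymm (h2.trans (hdepthR ▸ h3')) h1

open CategoryTheory AlgebraicGeometry in
/-- Let X be a regular scheme (locally Noetherian with regular local rings) and F a coherent O_X-module.
Then F has support all of X and Cohen–Macaulay stalks if and only if F is finite locally free of
positive rank near every point. -/
theorem result (X : Scheme.{u}) [IsLocallyNoetherian X]
    (hreg : ∀ x : X, IsRegularLocalRing (X.presheaf.stalk x)) (F : X.Modules) (hF : Coh.IsCoh F) :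
    (CohB1.support F = Set.univ ∧
        ∀ x : X, LocCoh.IsCohenMacaulayModule (X.presheaf.stalk x) ↑(F.presheaf.stalk x)) ↔
      ∀ x : X, ∃ (U : X.Opens) (n : ℕ), x ∈ U ∧ 0 < n ∧
        Nonempty (F.restrict U.ι ≅ FlatMod.freeMod (↑U) n) := by
  have hq : F.IsQuasicoherent := hF.1
  have hft : SheafOfModules.IsFiniteType (R := X.ringCatSheaf) F := hF.2
  have hfp : SheafOfModules.IsFinitePresentation (R := X.ringCatSheaf) F :=
    Groth.Agent.Lib.Helper23.FinType.isFinitePresentation_of_isFiniteType F
  have hfin : ∀ x : ↥X, Module.Finite (X.presheaf.stalk x) (F.presheaf.stalk x) :=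
    fun x => Groth.Agent.Lib.Helper2.FibreCrit.finite_stalk F x
  -- rank zero means trivial stalk
  have hrank : ∀ (x : ↥X) (U : X.Opens) (n : ℕ) (hxU : x ∈ U)
      (e : F.restrict U.ι ≅ FlatMod.freeMod (↑U) n),
      Module.Free (X.presheaf.stalk x) (F.presheaf.stalk x) ∧
        (n = 0 ↔ Subsingleton (F.presheaf.stalk x)) := by
    intro x U n hxU e
    have := hreg x
    have := hfin x
    have hdom : IsDomain (X.presheaf.stalk x) :=
      Groth.Agent.Lib.Helper5.isDomain_of_isRegularLocalRing _
    obtain ⟨hfree, hrk⟩ :=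
      Groth.Agent.Lib.Helper2.RankLoc.fibreRank_eq_of_restrict_iso_freeMod U.ι F e ⟨x, hxU⟩
    change Module.Free (X.presheaf.stalk x) (F.presheaf.stalk x) at hfree
    change Groth.Agent.Lib.Helper2.RankLoc.fibreRank F x = n at hrk
    refine ⟨hfree, ?_⟩
    have h1 : Module.finrank (X.presheaf.stalk x) (F.presheaf.stalk x) = n := by
      rw [← hrk]
      exact (Module.finrank_baseChange (R := IsLocalRing.ResidueField (X.presheaf.stalk x))
        (S := X.presheaf.stalk x) (M' := F.presheaf.stalk x)).symm
    rw [← h1]
    exact Module.finrank_zero_iff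
  constructor
  · rintro ⟨hs, hCM⟩
    have hnt : ∀ x : ↥X, Nontrivial (F.presheaf.stalk x) := by
      intro x
      have hx : x ∈ CohB1.support F := by rw [hs]; trivial
      exact not_subsingleton_iff_nontrivial.1 hx
    have hfree : ∀ x : ↥X, Module.Free (X.presheaf.stalk x) (F.presheaf.stalk x) := by
      intro x
      have := hreg x
      have := hfin x
      apply Groth.Agent.S0605.result
      have hsupp := Groth.Agent.Lib.Helper20.ZClosLib.support_stalk_eq_univ F hnt x
      have hsd : Module.supportDim (X.presheaf.stalk x) (F.presheaf.stalk x) =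
          ringKrullDim (X.presheaf.stalk x) := by
        unfold Module.supportDim ringKrullDim
        rw [hsupp]
        exact Order.krullDim_eq_of_orderIso OrderIso.Set.univ
      rw [← hsd]
      exact (hCM x).symm
    have hflf := (Groth.Agent.Lib.H9FreeFib.isFinLocFree_iff_forall_free F).2 hfree
    intro x
    obtain ⟨U, n, hxU, ⟨e⟩⟩ := hflf x
    refine ⟨U, n, hxU, ?_, ⟨e⟩⟩
    rcases Nat.eq_zero_or_pos n with h0 | h0
    · have := ((hrank x U n hxU e).2).1 h0
      exact absurd this (not_subsingleton_iff_nontrivial.2 (hnt x))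
    · exact h0
  · intro h
    have key : ∀ x : ↥X, Module.Free (X.presheaf.stalk x) (F.presheaf.stalk x) ∧
        Nontrivial (F.presheaf.stalk x) := by
      intro x
      obtain ⟨U, n, hxU, hn, ⟨e⟩⟩ := h x
      obtain ⟨hfree, hiff⟩ := hrank x U n hxU e
      refine ⟨hfree, not_subsingleton_iff_nontrivial.1 (fun hsub => ?_)⟩
      have := hiff.2 hsub
      omega
    constructor
    · rw [Set.eq_univ_iff_forall]
      intro x
      exact not_subsingleton_iff_nontrivial.2 (key x).2
    · intro x
      have := hreg x
      have := hfin x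
      have := (key x).1
      have := (key x).2
      exact isCM_of_free (X.presheaf.stalk x) (F.presheaf.stalk x)

end Groth.Agent.S0828
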