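import Groth.Statements.S0868
import Groth.Agent.Lib.H6xBasisCohB
import Groth.Agent.S0875
import Groth.Agent.Lib.Helper17KInjD1
import Groth.Agent.Lib.Helper17Hyp6

set_option autoImplicit false
universe u
open CategoryTheory
open CohTop

namespace Groth.Agent.S0868

open TopologicalSpace Opposite in
/-- Let K be an object of the derived category of abelian sheaves on X and B a basis of opens such that
H^p(U, H^q(K)) = 0 for all p > 0, all q and all U in B. Then for U in B and every q, H^q(U, K) (maps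
from the free abelian sheaf on U to K[q]) is isomorphic to the sections of the cohomology sheaf
H^q(K) over U. -/
theorem result {X : TopCat.{u}}
    [HasDerivedCategory.{u} (CohTop.Ab X)] (K : DerivedCategory (CohTop.Ab X))
    (B : Set (Opens X)) (hB : Opens.IsBasis B)
    (h : ∀ U ∈ B, ∀ (p : ℕ) (q : ℤ), Subsingleton (CohTop.HU (CohCx.HD K q) (p + 1) U))
    (U : Opens X) (hU : U ∈ B) (q : ℤ) :
    Nonempty (CohCx.HDU K q U ≃+ (CohCx.HD K q).obj.obj (op U)) := by
  haveI : Limits.HasLimitsOfShape (Discrete ℕ) (DerivedCategory (CohTop.Ab X)) := by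
    haveI : Limits.HasProducts.{u} (DerivedCategory (CohTop.Ab X)) :=
      Groth.Agent.Lib.Helper17.KInj.hasProducts_derivedCategory
    haveI : Limits.HasLimitsOfShape (Discrete (ULift.{u} ℕ)) (DerivedCategory (CohTop.Ab X)) :=
      inferInstance
    exact Limits.hasLimitsOfShape_of_equivalence (Discrete.equivalence Equiv.ulift.{u, 0})
  have hL := Groth.Agent.S0875.result K (fun x => ⟨fun _ => 0, fun V hxV => by
    obtain ⟨W, hWB, hxW, hWV⟩ := Opens.isBasis_iff_nbhd.1 hB hxV
    refine ⟨W, hxW, hWV, fun m k hk => ?_⟩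
    have hk' : (0 : ℤ) < (k : ℤ) := hk
    obtain ⟨p, rfl⟩ : ∃ p : ℕ, k = p + 1 := ⟨k - 1, by omega⟩
    exact h W hWB p _⟩)
  have hcm := Groth.Agent.Lib.H6xBasisCoh.cm_bijective_of_isRlimVia
    (CohCx.freeSheaf (Opens.grothendieckTopology X) U) K hL q (fun j k hk => by
      obtain ⟨p, rfl⟩ : ∃ p : ℕ, k = p + 1 := ⟨k - 1, by omega⟩
      exact @Equiv.subsingleton _ _ (Abelian.Ext.homEquiv
        (X := CohCx.freeSheaf (Opens.grothendieckTopology X) U)
        (Y := CohCx.HD K j) (n := p + 1)).symm (h U hU p j))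
  refine ⟨AddEquiv.ofBijective (Groth.Agent.Lib.Helper17.Hyp.canonU K q U) ?_⟩
  exact (CohFree.homEquivSect (Opens.grothendieckTopology X) U (CohCx.HD K q)).bijective.comp hcm

end Groth.Agent.S0868
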