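import Groth.Statements.S0878
import Groth.Agent.Lib.H6xDerLimC

set_option autoImplicit false
universe u
open CategoryTheory
open CohSite

namespace Groth.Agent.S0878

open Opposite CategoryTheory.Limits in
/-- Let (K_n) be an inverse system in the derived category of abelian sheaves on a site with a derived
limit L, and B a class of objects such that every object is covered by members of B and, for U in B
and all q, H^p(U, H^q(K_n)) = 0 for p > 0 and the system of sections H^q(K_n)(U) has vanishing R^1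
lim. Then H^q(L) is isomorphic to lim_n H^q(K_n) for every q. -/
theorem result {C : Type u} [SmallCategory C]
    {J : GrothendieckTopology C} [HasDerivedCategory.{u} (Sheaf J AddCommGrpCat.{u})]
    (K : ℕ → DerivedCategory (Sheaf J AddCommGrpCat.{u})) (t : ∀ n, K (n + 1) ⟶ K n) [HasProduct K]
    (L : DerivedCategory (Sheaf J AddCommGrpCat.{u})) (hL : DCoh.IsRlim K t L) (B : Set C)
    (hB : ∀ U : C, ∃ (ι : Type u) (Y : ι → C) (f : ∀ i, Y i ⟶ U), Sieve.ofArrows Y f ∈ J U ∧ ∀ i, Y i ∈ B)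
    (h1 : ∀ U ∈ B, ∀ (p : ℕ) (q : ℤ) (n : ℕ), Subsingleton (CohSite.HU (CohCx.HD (K n) q) (p + 1) U))
    (h2 : ∀ U ∈ B, ∀ (q : ℤ), CohCx.LimOneIsZero (fun n => (CohCx.HD (K n) q).obj.obj (op U))
      (fun n => (((DerivedCategory.homologyFunctor _ q).map (t n)).hom.app (op U)).hom))
    (q : ℤ) :
    Nonempty (CohCx.HD L q ≅ limit (CohCx.opSequence (fun n => CohCx.HD (K n) q)
      (fun n => (DerivedCategory.homologyFunctor _ q).map (t n)))) := by
  obtain ⟨a, c, hc⟩ := hL
  have hL' : CohCx.IsRlimVia K t L (fun n => a ≫ Limits.Pi.π K n) := by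
    refine ⟨c, ?_⟩
    have : Limits.Pi.lift (fun n => a ≫ Limits.Pi.π K n) = a :=
      Limits.Pi.hom_ext _ _ (fun n => by rw [Limits.Pi.lift_π])
    rw [this]
    exact hc
  have hfr := Groth.Agent.Lib.Helper17.Hyp.locFr_frSh J
  have hB' : ∀ U : C, ∃ R : Presieve U, Sieve.generate R ∈ J U ∧
      ∀ ⦃V : C⦄ (g : V ⟶ U), R g → V ∈ B := by
    intro U
    obtain ⟨ι, Y, f, hcov, hYB⟩ := hB U
    refine ⟨Presieve.ofArrows Y f, hcov, ?_⟩
    rintro V g ⟨i⟩
    exact hYB i
  have hcm : ∀ U ∈ B, ∀ (m : ℤ) (n : ℕ), Function.Bijective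
      (Groth.Agent.Lib.Helper17.Hyp.cm (P := CohCx.freeSheaf J U) (K := K n) (m := m)) :=
    fun U hU m n => Groth.Agent.Lib.H6xDerLim.cm_bijective_of_acyOn (K n) B hB
      (fun U' hU' p q' => h1 U' hU' p q' n) U hU m
  haveI := Groth.Agent.Lib.H6xDerLim.isIso_towerLift_homology
    (fr := Groth.Agent.Lib.Helper17.Hyp.frSh J) hfr hL' q B hB'
    (fun U hU n => hcm U hU q n)
    (fun U hU => Groth.Agent.Lib.H6xDerLim.limOneIsZero_hom K t U (q - 1)
      (fun n => hcm U hU (q - 1) n) (h2 U hU (q - 1)))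
  exact ⟨asIso (Groth.Agent.Lib.H6xDerLim.towerLift
    (fun n => (DerivedCategory.homologyFunctor _ q).map (t n))
    (fun n => (DerivedCategory.homologyFunctor _ q).map (a ≫ Limits.Pi.π K n))
    (fun n => by
      rw [← Functor.map_comp, Groth.Agent.Lib.Helper17.Hyp.isRlimVia_comp_t hL']))⟩

end Groth.Agent.S0878
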