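import Groth.Statements.S0877
import Groth.Agent.Lib.H6xBasisCohB
import Groth.Agent.S0881
import Groth.Agent.Lib.Helper17KInjD1
import Groth.Agent.Lib.Helper17Hyp6

set_option autoImplicit false
universe u
open CategoryTheory
open CohSite

namespace Groth.Agent.S0877

open Opposite in
/-- Let K be an object of the derived category of abelian sheaves on a site and B a class of objects
such that every object has a covering by members of B and H^p(U, H^q(K)) = 0 for all p > 0, all q
and all U in B. Then for U in B and all q, H^q(U, K) is isomorphic to the group of sections of the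
cohomology sheaf H^q(K) over U. -/
theorem result {C : Type u} [SmallCategory C]
    {J : GrothendieckTopology C} [HasDerivedCategory.{u} (Sheaf J AddCommGrpCat.{u})]
    (K : DerivedCategory (Sheaf J AddCommGrpCat.{u})) (B : Set C)
    (hB : ∀ U : C, ∃ (ι : Type u) (Y : ι → C) (f : ∀ i, Y i ⟶ U), Sieve.ofArrows Y f ∈ J U ∧ ∀ i, Y i ∈ B)
    (h : ∀ U ∈ B, ∀ (p : ℕ) (q : ℤ), Subsingleton (CohSite.HU (CohCx.HD K q) (p + 1) U))
    (U : C) (hU : U ∈ B) (q : ℤ) :
    Nonempty (CohCx.HDU K q U ≃+ (CohCx.HD K q).obj.obj (op U)) := by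
  haveI : Limits.HasLimitsOfShape (Discrete ℕ) (DerivedCategory (Sheaf J AddCommGrpCat.{u})) := by
    haveI : Limits.HasProducts.{u} (DerivedCategory (Sheaf J AddCommGrpCat.{u})) :=
      Groth.Agent.Lib.Helper17.KInj.hasProducts_derivedCategory
    haveI : Limits.HasLimitsOfShape (Discrete (ULift.{u} ℕ))
        (DerivedCategory (Sheaf J AddCommGrpCat.{u})) := inferInstance
    exact Limits.hasLimitsOfShape_of_equivalence (Discrete.equivalence Equiv.ulift.{u, 0})
  choose ιB YB fB hcovB hYB using hB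
  have hL := Groth.Agent.S0881.result K B (fun U => ⟨ιB U, YB U, fB U, hcovB U, hYB U⟩)
    (fun V _ => ⟨fun _ => 0, fun T hT => by
      let ι : Type u := Σ (W : C), Σ (g : {g : W ⟶ V // T.arrows g}), ιB W
      refine ⟨ι, fun i => YB i.1 i.2.2, fun i => fB i.1 i.2.2 ≫ i.2.1.1, ?_, ?_, ?_⟩
      · intro i
        exact T.downward_closed i.2.1.2 _
      · refine J.superset_covering ?_
          (J.bind_covering hT (fun W g _ => hcovB W))
        rintro Z _ ⟨W, k, g, hg, ⟨Z', l, _, ⟨i⟩, rfl⟩, rfl⟩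
        rw [Category.assoc]
        exact Sieve.downward_closed _ (Sieve.ofArrows_mk (fun i : ι => YB i.1 i.2.2)
          (fun i : ι => fB i.1 i.2.2 ≫ i.2.1.1) (⟨W, ⟨g, hg⟩, i⟩ : ι)) l
      · intro i m k hk
        have hk' : (0 : ℤ) < (k : ℤ) := hk
        obtain ⟨p, rfl⟩ : ∃ p : ℕ, k = p + 1 := ⟨k - 1, by omega⟩
        exact h _ (hYB i.1 i.2.2) p _⟩)
  have hcm := Groth.Agent.Lib.H6xBasisCoh.cm_bijective_of_isRlimVia
    (CohCx.freeSheaf J U) K hL q (fun j k hk => by
      obtain ⟨p, rfl⟩ : ∃ p : ℕ, k = p + 1 := ⟨k - 1, by omega⟩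
      exact @Equiv.subsingleton _ _ (Abelian.Ext.homEquiv
        (X := CohCx.freeSheaf J U)
        (Y := CohCx.HD K j) (n := p + 1)).symm (h U hU p j))
  refine ⟨AddEquiv.ofBijective (Groth.Agent.Lib.Helper17.Hyp.canonU K q U) ?_⟩
  exact (CohFree.homEquivSect J U (CohCx.HD K q)).bijective.comp hcm

end Groth.Agent.S0877
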