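import Groth.Statements.S0923
import Groth.Agent.Lib.H6xPerfLoc

set_option autoImplicit false
universe u
open CategoryTheory
attribute [local instance] HasDerivedCategory.standard
open DCoh

namespace Groth.Agent.S0923

open AlgebraicGeometry CategoryTheory.Limits in
/-- On a scheme X, an object E of D(𝒪_X) is perfect if and only if every point has an open neighbourhood
V such that the restriction to V of any complex representing E is isomorphic in D(𝒪_V) to a bounded
complex each of whose terms is isomorphic to a finite free 𝒪_V-module. (The published statement is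
for ringed spaces whose stalks are local rings and lists further equivalent conditions; here X is a
scheme and only this equivalence is stated.) -/
theorem result {X : Scheme.{u}} (E : DCoh.D X) :
    DCoh.IsPerfect E ↔ ∀ x : X, ∃ V : X.Opens, x ∈ V ∧
      ∀ F : CochainComplex X.Modules ℤ, Nonempty (DCoh.toD X F ≅ E) →
        ∃ (P : CochainComplex (V : Scheme.{u}).Modules ℤ) (a b : ℤ), DCoh.VanishesOutside P a b ∧
          (∀ i : ℤ, ∃ n : ℕ, Nonempty (P.X i ≅ FlatMod.freeMod (V : Scheme.{u}) n)) ∧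
          Nonempty (DerivedCategory.Q.obj ((DCoh.restrictCx V).obj F) ≅ DerivedCategory.Q.obj P) := by
  constructor
  · intro hE x
    obtain ⟨V, hxV, hV⟩ := hE x
    obtain ⟨E'₀, ⟨⟨a, b, hab⟩, hflf⟩, ⟨e'₀⟩⟩ := hV ((DerivedCategory.Q : _ ⥤ DCoh.D X).objPreimage E)
      ⟨DerivedCategory.Q.objObjPreimageIso E⟩
    obtain ⟨x', hx'⟩ : ∃ x' : (V : Scheme.{u}), V.ι.base x' = x := ⟨⟨x, hxV⟩, rfl⟩
    choose Uc n hxU eU using fun i => hflf i x'
    have hxW : ∀ s : Finset ℤ, x' ∈ (s.inf Uc : (V : Scheme.{u}).Opens) := by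
      intro s
      induction s using Finset.induction_on with
      | empty => simp
      | insert i s _ ih => rw [Finset.inf_insert]; exact ⟨hxU i, ih⟩
    obtain ⟨W, hW⟩ : ∃ W : (V : Scheme.{u}).Opens, W = (Finset.Icc a b).inf Uc := ⟨_, rfl⟩
    have hxW' : x' ∈ W := hW ▸ hxW _
    have hWle : ∀ i ∈ Finset.Icc a b, W ≤ Uc i := fun i hi => hW ▸ Finset.inf_le hi
    obtain ⟨g, hgdef⟩ : ∃ g : (V.ι ''ᵁ W : X.Opens).toScheme ⟶ (V : Scheme.{u}),
        g = (V.ι.isoImage W).inv ≫ W.ι := ⟨_, rfl⟩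
    haveI : IsOpenImmersion g := by rw [hgdef]; infer_instance
    have hg : g ≫ V.ι = (V.ι ''ᵁ W).ι := by
      rw [hgdef, Category.assoc]; exact V.ι.isoImage_inv_ι _
    have hrange : ∀ i ∈ Finset.Icc a b,
        Set.range g.base ⊆ ((Uc i : (V : Scheme.{u}).Opens) : Set (V : Scheme.{u})) := by
      intro i hi
      rintro _ ⟨w, rfl⟩
      have h1 : g.base w ∈ ((W : (V : Scheme.{u}).Opens) : Set (V : Scheme.{u})) := by
        rw [← Scheme.Opens.range_ι, hgdef]; exact ⟨_, rfl⟩
      exact hWle i hi h1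
    refine ⟨V.ι ''ᵁ W, ⟨x', hxW', hx'⟩, fun F ⟨eF⟩ => ?_⟩
    obtain ⟨e2⟩ := Groth.Agent.Lib.H6xPerfLoc.nonempty_Q_restrict_iso g V.ι
      (V.ι ''ᵁ W).ι hg _ E'₀ e'₀
    refine ⟨((Scheme.Modules.restrictFunctor g).mapHomologicalComplex (ComplexShape.up ℤ)).obj E'₀,
      a, b, fun i hi => (Scheme.Modules.restrictFunctor g).map_isZero (hab i hi),
      fun i => ?_, ⟨?_⟩⟩
    · by_cases hi : i ∈ Finset.Icc a b
      · exact ⟨n i, Groth.Agent.Lib.H6xPerfLoc.nonempty_restrict_iso_freeMod_of_range_le g _ (Uc i)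
          (eU i).some (hrange i hi)⟩
      · refine ⟨0, ⟨CategoryTheory.Limits.IsZero.iso ?_ ?_⟩⟩
        · refine (Scheme.Modules.restrictFunctor g).map_isZero (hab i ?_)
          rw [Finset.mem_Icc] at hi
          omega
        · rw [CategoryTheory.Limits.IsZero.iff_id_eq_zero]
          exact CategoryTheory.Limits.Sigma.hom_ext _ _ (fun i => i.elim0)
    · exact ((Scheme.Modules.restrictFunctor _).mapDerivedCategoryFactors.app F).symm ≪≫
        (DCoh.restrictD _).mapIso (eF ≪≫ (DerivedCategory.Q.objObjPreimageIso E).symm) ≪≫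
        (Scheme.Modules.restrictFunctor _).mapDerivedCategoryFactors.app _ ≪≫ e2
  · intro h x
    obtain ⟨V, hxV, hV⟩ := h x
    refine ⟨V, hxV, fun F hF => ?_⟩
    obtain ⟨P, a, b, hvan, hfree, hiso⟩ := hV F hF
    refine ⟨P, ⟨⟨a, b, hvan⟩, fun i => ?_⟩, hiso⟩
    obtain ⟨m, ⟨e⟩⟩ := hfree i
    exact Groth.Agent.Lib.Helper2.LocFree.isFinLocFree_of_iso_freeMod _ e

end Groth.Agent.S0923
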