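import Groth.Statements.S0964
import Groth.Agent.Lib.H6xTensAssoc

set_option autoImplicit false
universe u
open CategoryTheory
attribute [local instance] HasDerivedCategory.standard
open DCoh

namespace Groth.Agent.S0964

open AlgebraicGeometry in
/-- Schemes; K, L given by complexes with L K-flat, so that K ⊗^L L is the total tensor complex K ⊗ L:
for every M in D(O_X) there is an isomorphism RHom(K, RHom(L, M)) ≅ RHom(K ⊗ L, M). The derived
tensor functors – ⊗^L K, – ⊗^L L, – ⊗^L (K ⊗ L) and their right adjoints RHom are taken under their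
existence binders; the assertion is the existence of an isomorphism for each M. -/
theorem result {X : Scheme.{u}} (K L : CochainComplex X.Modules ℤ) (hL : DCoh.IsKFlat L)
    [DCoh.HasLTensorCx K] [DCoh.HasRSheafHom K] [DCoh.HasLTensorCx L] [DCoh.HasRSheafHom L]
    [DCoh.HasLTensorCx ((DCoh.tensorCx.obj K).obj L)] [DCoh.HasRSheafHom ((DCoh.tensorCx.obj K).obj L)] (M : DCoh.D X) :
    Nonempty ((DCoh.RSheafHom K).obj ((DCoh.RSheafHom L).obj M) ≅ (DCoh.RSheafHom ((DCoh.tensorCx.obj K).obj L)).obj M) := by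
  haveI hI1 : ModSite.HasLTensorCx (O := X.sheaf) K := (inferInstance : DCoh.HasLTensorCx K)
  haveI hI2 : ModSite.HasLTensorCx (O := X.sheaf) L := (inferInstance : DCoh.HasLTensorCx L)
  haveI hI3 : ModSite.HasLTensorCx (O := X.sheaf) (((ModSite.tensorCx X.sheaf).obj K).obj L) :=
    (inferInstance : DCoh.HasLTensorCx ((DCoh.tensorCx.obj K).obj L))
  obtain ⟨c⟩ : Nonempty (DCoh.LTensorCx K ⋙ DCoh.LTensorCx L ≅
      DCoh.LTensorCx ((DCoh.tensorCx.obj K).obj L)) :=
    Groth.Agent.Lib.H6xTensAssoc.nonempty_LTensorCx_comp_iso (O := X.sheaf) K L hL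
  have adj₁ : DCoh.LTensorCx K ⋙ DCoh.LTensorCx L ⊣ DCoh.RSheafHom L ⋙ DCoh.RSheafHom K :=
    (DCoh.RSheafHomAdj K).comp (DCoh.RSheafHomAdj L)
  have adj₂ : DCoh.LTensorCx K ⋙ DCoh.LTensorCx L ⊣
      DCoh.RSheafHom ((DCoh.tensorCx.obj K).obj L) :=
    (DCoh.RSheafHomAdj ((DCoh.tensorCx.obj K).obj L)).ofNatIsoLeft c.symm
  exact ⟨(adj₁.rightAdjointUniq adj₂).app M⟩

end Groth.Agent.S0964
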