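import Groth.Statements.S0983


set_option autoImplicit false
universe v u
open CategoryTheory
open CohDer

namespace Groth.Agent.S0983

open CategoryTheory.Pretriangulated in
/-- In a triangulated category, a commutative square f ≫ v = u ≫ f' (with f : X ⟶ Y, f' : X' ⟶ Y', u : X
⟶ X', v : Y ⟶ Y') extends to a diagram with three distinguished rows (X, Y, Z), (X', Y', Z'), (X'',
Y'', Z'') and three distinguished columns (X, X', X''), (Y, Y', Y''), (Z, Z', Z''), in which all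
squares commute except the one formed by the third morphisms of the last row and last column, which
anticommutes; the fourth row and column are the shifts of the first ones. -/
theorem result {D : Type u} [Category.{v} D] [Preadditive D] [Limits.HasZeroObject D] [HasShift D ℤ]
    [∀ n : ℤ, (shiftFunctor D n).Additive] [Pretriangulated D] [IsTriangulated D]
    {X Y X' Y' : D} (f : X ⟶ Y) (f' : X' ⟶ Y') (u : X ⟶ X') (v : Y ⟶ Y') (comm : f ≫ v = u ≫ f') :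
    ∃ (Z Z' X'' Y'' Z'' : D) (g : Y ⟶ Z) (h : Z ⟶ (shiftFunctor D (1 : ℤ)).obj X)
      (g' : Y' ⟶ Z') (h' : Z' ⟶ (shiftFunctor D (1 : ℤ)).obj X')
      (f'' : X'' ⟶ Y'') (g'' : Y'' ⟶ Z'') (h'' : Z'' ⟶ (shiftFunctor D (1 : ℤ)).obj X'')
      (u' : X' ⟶ X'') (u'' : X'' ⟶ (shiftFunctor D (1 : ℤ)).obj X)
      (v' : Y' ⟶ Y'') (v'' : Y'' ⟶ (shiftFunctor D (1 : ℤ)).obj Y)
      (w : Z ⟶ Z') (w' : Z' ⟶ Z'') (w'' : Z'' ⟶ (shiftFunctor D (1 : ℤ)).obj Z),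
      Triangle.mk f g h ∈ distinguishedTriangles ∧ Triangle.mk f' g' h' ∈ distinguishedTriangles ∧
      Triangle.mk f'' g'' h'' ∈ distinguishedTriangles ∧
      Triangle.mk u u' u'' ∈ distinguishedTriangles ∧ Triangle.mk v v' v'' ∈ distinguishedTriangles ∧
      Triangle.mk w w' w'' ∈ distinguishedTriangles ∧
      g ≫ w = v ≫ g' ∧ h ≫ (shiftFunctor D (1 : ℤ)).map u = w ≫ h' ∧
      f' ≫ v' = u' ≫ f'' ∧ g' ≫ w' = v' ≫ g'' ∧ h' ≫ (shiftFunctor D (1 : ℤ)).map u' = w' ≫ h'' ∧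
      f'' ≫ v'' = u'' ≫ (shiftFunctor D (1 : ℤ)).map f ∧ g'' ≫ w'' = v'' ≫ (shiftFunctor D (1 : ℤ)).map g ∧
      h'' ≫ (shiftFunctor D (1 : ℤ)).map u'' = -(w'' ≫ (shiftFunctor D (1 : ℤ)).map h) := by
  obtain ⟨Z, g, h, hT₁⟩ := Pretriangulated.distinguished_cocone_triangle f
  obtain ⟨Z', g', h', hT₂⟩ := Pretriangulated.distinguished_cocone_triangle f'
  obtain ⟨X'', u', u'', hC₁⟩ := Pretriangulated.distinguished_cocone_triangle u
  obtain ⟨Y'', v', v'', hC₂⟩ := Pretriangulated.distinguished_cocone_triangle v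
  obtain ⟨A, b, c, hD⟩ := Pretriangulated.distinguished_cocone_triangle (f ≫ v)
  -- first octahedron: `X ⟶ Y ⟶ Y'`
  obtain ⟨α, β, h1a, h1b, h1c, h1d, h1e⟩ : ∃ (α : Z ⟶ A) (β : A ⟶ Y''),
      g ≫ α = v ≫ b ∧ α ≫ c = h ∧ b ≫ β = v' ∧
      c ≫ (shiftFunctor D (1 : ℤ)).map f = β ≫ v'' ∧
      Triangle.mk α β (v'' ≫ (shiftFunctor D (1 : ℤ)).map g) ∈ distinguishedTriangles :=
    let o₁ := Triangulated.someOctahedron (rfl : f ≫ v = f ≫ v) hT₁ hC₂ hD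
    ⟨o₁.m₁, o₁.m₃, o₁.comm₁, o₁.comm₂, o₁.comm₃, o₁.comm₄, o₁.mem⟩
  -- second octahedron: `X ⟶ X' ⟶ Y'`
  obtain ⟨α', β', h2a, h2b, h2c, h2d, h2e⟩ : ∃ (α' : X'' ⟶ A) (β' : A ⟶ Z'),
      u' ≫ α' = f' ≫ b ∧ α' ≫ c = u'' ∧ b ≫ β' = g' ∧
      c ≫ (shiftFunctor D (1 : ℤ)).map u = β' ≫ h' ∧
      Triangle.mk α' β' (h' ≫ (shiftFunctor D (1 : ℤ)).map u') ∈ distinguishedTriangles :=
    let o₂ := Triangulated.someOctahedron comm.symm hC₁ hT₂ hD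
    ⟨o₂.m₁, o₂.m₃, o₂.comm₁, o₂.comm₂, o₂.comm₃, o₂.comm₄, o₂.mem⟩
  -- the triangle on `f'' = α' ≫ β`
  obtain ⟨Z'', g'', h'', hT₃⟩ := Pretriangulated.distinguished_cocone_triangle (α' ≫ β)
  -- third octahedron: `X'' ⟶ A ⟶ Y''`
  have hrot : Triangle.mk β (v'' ≫ (shiftFunctor D (1 : ℤ)).map g)
      (-(shiftFunctor D (1 : ℤ)).map α) ∈ distinguishedTriangles :=
    Pretriangulated.rot_of_distTriang _ h1e
  obtain ⟨w', δ, h3a, h3b, h3c, h3d, h3e⟩ : ∃ (w' : Z' ⟶ Z'')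
      (δ : Z'' ⟶ (shiftFunctor D (1 : ℤ)).obj Z),
      β' ≫ w' = β ≫ g'' ∧ w' ≫ h'' = h' ≫ (shiftFunctor D (1 : ℤ)).map u' ∧
      g'' ≫ δ = v'' ≫ (shiftFunctor D (1 : ℤ)).map g ∧
      h'' ≫ (shiftFunctor D (1 : ℤ)).map α' = δ ≫ (-(shiftFunctor D (1 : ℤ)).map α) ∧
      Triangle.mk w' δ ((-(shiftFunctor D (1 : ℤ)).map α) ≫ (shiftFunctor D (1 : ℤ)).map β') ∈
        distinguishedTriangles :=
    let o₃ := Triangulated.someOctahedron (rfl : α' ≫ β = α' ≫ β) h2e hrot hT₃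
    ⟨o₃.m₁, o₃.m₃, o₃.comm₁, o₃.comm₂, o₃.comm₃, o₃.comm₄, o₃.mem⟩
  have hcol : Triangle.mk (α ≫ β') w' δ ∈ distinguishedTriangles := by
    rw [Pretriangulated.rotate_distinguished_triangle]
    have e : (-(shiftFunctor D (1 : ℤ)).map α) ≫ (shiftFunctor D (1 : ℤ)).map β' =
        -(shiftFunctor D (1 : ℤ)).map (α ≫ β') := by
      rw [Functor.map_comp, Preadditive.neg_comp]
    rw [e] at h3e
    exact h3e
  refine ⟨Z, Z', X'', Y'', Z'', g, h, g', h', α' ≫ β, g'', h'', u', u'', v', v'',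
    α ≫ β', w', δ, hT₁, hT₂, hT₃, hC₁, hC₂, hcol, ?_, ?_, ?_, ?_, ?_, ?_, ?_, ?_⟩
  · -- g ≫ w = v ≫ g'
    rw [← Category.assoc, h1a, Category.assoc, h2c]
  · -- h ≫ u[1] = w ≫ h'
    rw [Category.assoc, ← h2d, ← Category.assoc, h1b]
  · -- f' ≫ v' = u' ≫ f''
    rw [← Category.assoc, h2a, Category.assoc, h1c]
  · -- g' ≫ w' = v' ≫ g''
    rw [← h2c, Category.assoc, h3a, ← Category.assoc, h1c]
  · -- h' ≫ u'[1] = w' ≫ h''
    exact h3b.symm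
  · -- f'' ≫ v'' = u'' ≫ f[1]
    rw [Category.assoc, ← h1d, ← Category.assoc, h2b]
  · -- g'' ≫ w'' = v'' ≫ g[1]
    exact h3c
  · -- h'' ≫ u''[1] = -(w'' ≫ h[1])
    rw [← h2b, ← h1b, Functor.map_comp, Functor.map_comp, ← Category.assoc, h3d,
      Category.assoc, Preadditive.neg_comp, Preadditive.comp_neg]

end Groth.Agent.S0983
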