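import Groth.Statements.S10000
import Mathlib
import Groth.Agent.Lib.H5bFieldEmb
import Groth.Agent.Lib.H9ArtLiftD
import Groth.Agent.Lib.Helper9SpPoint6
import Groth.Agent.S10176
import Groth.Agent.S10177

set_option autoImplicit false
set_option linter.style.haveILetI false
universe u
open CategoryTheory CategoryTheory.Limits AlgebraicGeometry
open AlgSp

namespace Groth.Agent.S10000

open Cardinal

/-- a morphism from the spectrum of a field factors through the residue field of its image point. -/
lemma exists_residueField_hom {V : Scheme.{u}} {K : Type u} [Field K]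
    (l : Spec (CommRingCat.of K) ⟶ V) (v : V) (hv : l (IsLocalRing.closedPoint K) = v) :
    ∃ ψ : V.residueField v ⟶ CommRingCat.of K, Spec.map ψ ≫ V.fromSpecResidueField v = l := by
  subst hv
  exact ⟨V.descResidueField (Scheme.stalkClosedPointTo l),
    Scheme.descResidueField_stalkClosedPointTo_fromSpecResidueField K V l⟩

/-- lifting a point with values in a big algebraically closed field to a point above it with small
residue field. -/
lemma exists_lift_point {W V : Scheme.{u}} (pr : W ⟶ V) {k : Type u} [Field k] [IsAlgClosed k]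
    (l : Spec (CommRingCat.of k) ⟶ V) (w' : W) (hw : l (IsLocalRing.closedPoint k) = pr w')
    (hc : #(W.residueField w') < #k) :
    ∃ m : Spec (CommRingCat.of k) ⟶ W, m ≫ pr = l ∧ m (IsLocalRing.closedPoint k) = w' := by
  obtain ⟨ψ, hψ⟩ := exists_residueField_hom l (pr w') hw
  obtain ⟨χ, hχ⟩ := Groth.Agent.Lib.H5bFieldEmb.exists_ringHom_of_card_lt
    (pr.residueFieldMap w').hom ψ.hom hc
  refine ⟨Spec.map (CommRingCat.ofHom χ) ≫ W.fromSpecResidueField w', ?_, ?_⟩
  · have h1 : pr.residueFieldMap w' ≫ CommRingCat.ofHom χ = ψ := by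
      ext r
      exact congrArg (fun g => g r) hχ
    rw [Category.assoc, ← Scheme.Hom.SpecMap_residueFieldMap_fromSpecResidueField,
      ← Category.assoc, ← Spec.map_comp]
    exact (congrArg (fun g => Spec.map g ≫ V.fromSpecResidueField (pr w')) h1).trans hψ
  · rw [Scheme.Hom.comp_apply, Scheme.fromSpecResidueField_apply]

/-- For a morphism X ⟶ Y of algebraic spaces and an algebraically closed field k over S that is large
compared with X, X(k) surjects onto |X| ×_{|Y|} Y(k): every pair of a point x of |X| and a k-valued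
point of Y with the same image in |Y| comes from a k-valued point of X. (The published statement
measures largeness by a cardinal attached to X that bounds the residue fields of an etale atlas;
this row asks directly that every residue field of one surjective etale chart U of X have
cardinality smaller than that of k, which is how the bound enters the argument.) -/
theorem result {S : Scheme.{u}} {X Y : AlgSp.Space S} (f : X ⟶ Y)
    {U : Over S} (a : (AlgSp.yon S).obj U ⟶ X.obj) (ha : AlgSp.RepWith @Etale a) (has : AlgSp.RepWith @Surjective a)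
    (ybar : AlgSp.FieldPt Y.obj) (hy : ybar.IsGeometric)
    (hk : ∀ u : ↥U.left, Cardinal.mk ↥(U.left.residueField u) < Cardinal.mk ybar.K)
    (x : AlgSp.Points X.obj) (hx : AlgSp.Points.map f.hom x = AlgSp.Points.mk ybar) :
    ∃ xbar : (AlgSp.yon S).obj ybar.pt ⟶ X.obj, xbar ≫ f.hom = ybar.toHom ∧
      AlgSp.Points.ofPt xbar (IsLocalRing.closedPoint ybar.K) = x := by
  haveI : IsAlgClosed ybar.K := hy
  obtain ⟨V, q, hqe, hqs⟩ := Y.property.atlas
  obtain ⟨u, hu⟩ := Groth.Agent.S10177.surjective_ofPt a has x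
  obtain ⟨v₀, hv₀⟩ := Groth.Agent.S10177.surjective_ofPt q hqs (AlgSp.Points.mk ybar)
  obtain ⟨⟨lV, hlV⟩⟩ := Groth.Agent.Lib.Helper9.SpPoint.exists_lift_of_ofPt_eq_mk ybar hy
    (AlgSp.EtOver.mk q hqe) v₀ hv₀
  obtain ⟨W, w, pr', sq⟩ := hqe.1 (a ≫ f.hom)
  obtain ⟨pr, rfl⟩ := (AlgSp.yon S).map_surjective pr'
  haveI : Etale w.left := hqe.2 _ _ w sq
  let v₁ : V.left := lV.left (IsLocalRing.closedPoint ybar.K)
  have h1 : AlgSp.Points.ofPt q v₁ = AlgSp.Points.ofPt (a ≫ f.hom) u := by
    rw [← Groth.Agent.S10176.ofPt_map_comp lV q, ← AlgSp.Points.map_ofPt a f.hom, hu, hx]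
    have h2 : (AlgSp.yon S).map lV ≫ q = ybar.toHom := hlV
    rw [h2]
    exact Groth.Agent.S10177.ofPt_closedPoint ybar
  obtain ⟨w', hw1, hw2⟩ := Groth.Agent.S10176.exists_point_of_isPullback_yon sq v₁ u h1
  have hinf : ℵ₀ ≤ #ybar.K := Cardinal.aleph0_le_mk _
  have hc : #(W.left.residueField w') < #ybar.K :=
    Groth.Agent.Lib.H5bFieldEmb.card_lt_of_finite (w.left.residueFieldMap w').hom
      (Q4.finite_residueFieldMap w.left w') hinf (hk (w.left w'))
  obtain ⟨m, hm1, hm2⟩ := exists_lift_point pr.left lV.left w' hw1.symm hc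
  have hmw : (m ≫ w.left) ≫ U.hom = ybar.str := by
    rw [Category.assoc, Over.w w, ← Over.w pr, ← Category.assoc, hm1]
    exact Over.w lV
  let mO : ybar.pt ⟶ U := Over.homMk (m ≫ w.left) hmw
  have hmW : m ≫ W.hom = ybar.str := by
    rw [← Over.w pr, ← Category.assoc, hm1]
    exact Over.w lV
  let mW : ybar.pt ⟶ W := Over.homMk m hmW
  have hmO : mO = mW ≫ w := Over.OverMorphism.ext rfl
  have hmV : mW ≫ pr = lV := Over.OverMorphism.ext hm1
  refine ⟨(AlgSp.yon S).map mO ≫ a, ?_, ?_⟩
  · rw [hmO, CategoryTheory.Functor.map_comp, Category.assoc, Category.assoc, ← sq.w,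
      ← Category.assoc, ← CategoryTheory.Functor.map_comp, hmV]
    exact hlV
  · rw [Groth.Agent.S10176.ofPt_map_comp]
    have h3 : mO.left (IsLocalRing.closedPoint ybar.K) = u := by
      change (m ≫ w.left) (IsLocalRing.closedPoint ybar.K) = u
      rw [Scheme.Hom.comp_apply, hm2, hw2]
    rw [h3, hu]

end Groth.Agent.S10000
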