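import Groth.Statements.S9989
import Mathlib
import Groth.Agent.Lib.Helper8Factor

set_option autoImplicit false
universe u
open CategoryTheory CategoryTheory.Limits AlgebraicGeometry Opposite
open AlgSp

namespace Groth.Agent.S9989

/-- For closed subspaces i : Z ⟶ X and i' : Z' ⟶ X of an algebraic space cut out by sheaves of ideals I
and I', one has I ≤ I' exactly when i' factors through i. -/
theorem result {S : Scheme.{u}} {X Z Z' : AlgSp.Space S} (i : Z ⟶ X) (i' : Z' ⟶ X)
    (I I' : AlgSp.IdealEt X.obj) (h : AlgSp.IsCutOutBy I i.hom) (h' : AlgSp.IsCutOutBy I' i'.hom) :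
    I ≤ I' ↔ ∃ k : Z' ⟶ Z, k ≫ i = i' := by
  obtain ⟨hi, rfl⟩ := h
  obtain ⟨hi', rfl⟩ := h'
  constructor
  · intro hle
    have hP := IsPullback.of_hasPullback i.hom i'.hom
    set pfst := pullback.fst i.hom i'.hom
    set psnd := pullback.snd i.hom i'.hom
    have hrep : AlgSp.RepWith (MorphismProperty.isomorphisms Scheme.{u}) psnd := by
      refine ⟨?_, ?_⟩
      · intro T a
        obtain ⟨ZT, snd, fst, sq⟩ := hi.1 (a ≫ i'.hom)
        have hl : fst ≫ i.hom = ((AlgSp.yon S).map snd ≫ a) ≫ i'.hom := by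
          rw [sq.w, Category.assoc]
        have h1 : hP.lift _ _ hl ≫ pfst = fst := hP.lift_fst _ _ _
        have h2 : hP.lift _ _ hl ≫ psnd = (AlgSp.yon S).map snd ≫ a := hP.lift_snd _ _ _
        have big : IsPullback (hP.lift _ _ hl ≫ pfst) ((AlgSp.yon S).map snd) i.hom
            (a ≫ i'.hom) := by rw [h1]; exact sq
        exact ⟨ZT, snd, hP.lift _ _ hl, IsPullback.of_right big h2 hP⟩
      · intro T W a fst snd sq
        have big : IsPullback (fst ≫ pfst) ((AlgSp.yon S).map snd) i.hom (a ≫ i'.hom) :=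
          sq.paste_horiz hP
        have hh' : AlgSp.Representable (a ≫ i'.hom) := X.property.representable_from_yon _
        have hle2 : AlgSp.idealOfRep hi'.1 ≤ AlgSp.idealOfRep hh' :=
          Groth.Agent.Lib.Helper8Factor.idealOfRep_le_of_factor hi'.1 hh' a rfl
        have hle' : AlgSp.idealOfRep hi.1 ≤ AlgSp.idealOfRep hh' :=
          fun E hE => (hle E hE).trans (hle2 E hE)
        exact Groth.Agent.Lib.Helper8Factor.isIso_of_le X.property hi (a ≫ i'.hom) hh' hle' big
    haveI : IsIso psnd := Groth.Agent.Lib.Helper8Factor.isIso_of_repWith_iso psnd hrep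
    refine ⟨ObjectProperty.homMk (inv psnd ≫ pfst), ?_⟩
    apply ObjectProperty.hom_ext
    change (inv psnd ≫ pfst) ≫ i.hom = i'.hom
    rw [Category.assoc, hP.w, IsIso.inv_hom_id_assoc]
  · rintro ⟨k, hk⟩
    exact Groth.Agent.Lib.Helper8Factor.idealOfRep_le_of_factor hi.1 hi'.1 k.hom
      (congrArg (fun m => m.hom) hk)

end Groth.Agent.S9989
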