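import Groth.Statements.S10003
import Mathlib
import Groth.Agent.Lib.H5bSchIm
import Groth.Agent.Lib.H5bSchImImm
import Groth.Agent.Lib.H5bKerFlat
import Groth.Agent.Lib.Helper8CutOut
import Groth.Agent.S9989
import Groth.Agent.S9912

set_option autoImplicit false
set_option linter.style.haveILetI false
universe u
open CategoryTheory CategoryTheory.Limits AlgebraicGeometry Opposite
open AlgSp

namespace Groth.Agent.S10003

open Groth.Agent.Lib.H5bKerId Groth.Agent.Lib.H5bClosedSub Groth.Agent.Lib.H5bSchIm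
  Groth.Agent.Lib.H5bKerFlat Groth.Agent.Lib.Helper8CutOut

/-- the ideal family of a quasi-compact representable morphism agrees with that of the closed
subspace of its kernel ideal on a chart. -/
lemma idealOfRep_incl_eq {S : Scheme.{u}} {X Y : AlgSp.Sp S} {f : X ⟶ Y}
    (hf : AlgSp.Representable f) (hqc : AlgSp.IsQuasiCompactMor f)
    (hqcrep : AlgSp.RepWith @QuasiCompact f) {U : Over S} {q : (AlgSp.yon S).obj U ⟶ Y}
    (hqe : AlgSp.RepWith @Etale q) (hqs : AlgSp.RepWith @Surjective q)
    (hcl : AlgSp.RepWith @IsClosedImmersion (incl q (Kc f q))) :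
    AlgSp.idealOfRep hcl.1 = AlgSp.idealOfRep hf := by
  apply AlgSp.IdealEt.ext
  funext E hE
  haveI : IsAffine E.obj.left.left := hE
  have ha : AlgSp.RepWith @Etale E.obj.hom := E.property
  have sqX := hf.isPullback E.obj.hom
  haveI : QuasiCompact (hf.snd E.obj.hom).left := hqcrep.2 E.obj.hom _ _ sqX
  have hKE : Kc f E.obj.hom = (hf.snd E.obj.hom).left.ker :=
    Kc_eq_ker_of_isPullback f E.obj.hom sqX
  obtain ⟨W, p, w', sq⟩ := hqe.1 E.obj.hom
  obtain ⟨w₀, rfl⟩ := (AlgSp.yon S).map_surjective w'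
  haveI : Etale p.left := hqe.2 E.obj.hom _ p sq
  haveI : Surjective p.left := hqs.2 E.obj.hom _ p sq
  haveI : Etale w₀.left := ha.2 q _ w₀ sq.flip
  have hJ : (Kc f E.obj.hom).comap p.left = (Kc f q).comap w₀.left := by
    rw [← Kc_comap_of_flat f E.obj.hom (qcOver_of_isQuasiCompactMor hqc) p,
      ← Kc_comap_of_flat f q (qcOver_of_isQuasiCompactMor hqc) w₀, sq.w]
  obtain ⟨fst, sqK⟩ := exists_isPullback q (Kc f q) E.obj.hom p w₀ sq (Kc f E.obj.hom) hJ
  have h1 := idealOfRep_ideal_eq_ker hcl.1 E.obj.hom ha sqK hE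
  have h2 : RingHom.ker (ιo (Kc f E.obj.hom)).left.appTop.hom =
      (Kc f E.obj.hom).ideal ⟨⊤, isAffineOpen_top _⟩ :=
    Scheme.IdealSheafData.ker_subschemeι_app (Kc f E.obj.hom) ⟨⊤, isAffineOpen_top _⟩
  have h3 : (hf.snd E.obj.hom).left.ker.ideal ⟨⊤, isAffineOpen_top _⟩ =
      RingHom.ker ((hf.snd E.obj.hom).left.app ⊤).hom :=
    Scheme.Hom.ker_apply (hf.snd E.obj.hom).left ⟨⊤, isAffineOpen_top _⟩
  exact (h1.trans h2).trans
    ((congrArg (fun K : E.obj.left.left.IdealSheafData => K.ideal ⟨⊤, isAffineOpen_top _⟩) hKE).trans h3)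

/-- For a quasi-compact morphism f : X ⟶ Y of algebraic spaces that is representable by schemes, the
sheaf of ideals Ker(O_Y ⟶ f_* O_X) (the kernel family on affine etale charts of Y) is
quasi-coherent, and the scheme theoretic image of f is exactly the closed subspace it cuts out. (The
published statement is for an arbitrary quasi-compact morphism of algebraic spaces; f_* O_X on the
small etale site with scheme charts is available only for representable f, the case stated.) -/
theorem result {S : Scheme.{u}} {X Y : AlgSp.Space S} (f : X ⟶ Y)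
    (hf : AlgSp.Representable f.hom) (hqc : AlgSp.IsQuasiCompactMor f.hom) :
    (AlgSp.idealOfRep hf).IsQCoh ∧
      ∀ (Z : AlgSp.Space S) (i : Z ⟶ Y), AlgSp.IsSchImage f.hom i.hom ↔ AlgSp.IsCutOutBy (AlgSp.idealOfRep hf) i.hom := by
  have hqcrep : AlgSp.RepWith @QuasiCompact f.hom := (Groth.Agent.S9912.result f hf).2 hqc
  refine ⟨?_, ?_⟩
  · intro E E' g hE hE'
    haveI : IsAffine E.obj.left.left := hE
    haveI : IsAffine E'.obj.left.left := hE'
    haveI : Etale g.hom.left.left := AlgSp.EtOver.etale_left g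
    have H := AlgSp.EtOver.isPullback_bcMap_left hf g
    haveI : QuasiCompact (hf.snd E.obj.hom).left :=
      hqcrep.2 E.obj.hom _ _ (hf.isPullback E.obj.hom)
    have hc : IsCompact (((hf.snd E.obj.hom).left ⁻¹ᵁ ⊤ : (hf.pullback E.obj.hom).left.Opens) :
        Set (hf.pullback E.obj.hom).left) :=
      QuasiCompact.isCompact_preimage (f := (hf.snd E.obj.hom).left) _ isOpen_univ
        (isCompact_univ)
    have key := ker_app_eq_map_of_flat H (isAffineOpen_top _) (isAffineOpen_top _)
      (le_top : (⊤ : E'.obj.left.left.Opens) ≤ g.hom.left.left ⁻¹ᵁ ⊤) hc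
    have hl : g.hom.left.left.appLE ⊤ ⊤ le_top = g.hom.left.left.appTop := by
      simp [Scheme.Hom.appLE]
    rw [hl] at key
    exact key.le
  · intro Z i
    obtain ⟨U, q, hqe, hqs⟩ := Y.property.atlas
    have h2 := isSchImage_incl hqe hqs hqc (f := f.hom) (q := q)
    have hZsh : AlgSp.IsAlgSpace (Zsh q (Kc f.hom q)) :=
      Groth.Agent.S10129.isAlgSpace_of_representable Y.property (incl q (Kc f.hom q)) h2.1.rep
    let Z₂ : AlgSp.Space S := ⟨Zsh q (Kc f.hom q), hZsh⟩
    let i₂ : Z₂ ⟶ Y := ObjectProperty.homMk (incl q (Kc f.hom q))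
    have hcut : AlgSp.IsCutOutBy (AlgSp.idealOfRep hf) i₂.hom :=
      ⟨h2.1, idealOfRep_incl_eq hf hqc hqcrep hqe hqs h2.1⟩
    constructor
    · intro hI
      obtain ⟨e, he⟩ := exists_iso_of_isSchImage Z.property hZsh hI h2
      have hi : AlgSp.RepWith @IsClosedImmersion i.hom := hI.1
      have hcuti : AlgSp.IsCutOutBy (AlgSp.idealOfRep hi.1) i.hom := ⟨hi, rfl⟩
      refine ⟨hi, ?_⟩
      have hle1 : AlgSp.idealOfRep hi.1 ≤ AlgSp.idealOfRep hf :=
        (Groth.Agent.S9989.result i i₂ _ _ hcuti hcut).2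
          ⟨ObjectProperty.homMk e.inv, ObjectProperty.hom_ext _ (by
            change e.inv ≫ i.hom = incl q (Kc f.hom q)
            rw [← he, Iso.inv_hom_id_assoc])⟩
      have hle2 : AlgSp.idealOfRep hf ≤ AlgSp.idealOfRep hi.1 :=
        (Groth.Agent.S9989.result i₂ i _ _ hcut hcuti).2
          ⟨ObjectProperty.homMk e.hom, ObjectProperty.hom_ext _ he⟩
      apply AlgSp.IdealEt.ext
      funext E hE
      exact le_antisymm (hle1 E hE) (hle2 E hE)
    · intro hcutI
      have hle : AlgSp.idealOfRep hf ≤ AlgSp.idealOfRep hf := fun E hE => le_rfl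
      obtain ⟨k, hk⟩ := (Groth.Agent.S9989.result i i₂ _ _ hcutI hcut).1 hle
      obtain ⟨k', hk'⟩ := (Groth.Agent.S9989.result i₂ i _ _ hcut hcutI).1 hle
      have hk1 : k.hom ≫ i.hom = incl q (Kc f.hom q) := congrArg (fun m => m.hom) hk
      have hk2 : k'.hom ≫ incl q (Kc f.hom q) = i.hom := congrArg (fun m => m.hom) hk'
      haveI := mono_of_closed i.hom hcutI.1
      let e : Zsh q (Kc f.hom q) ≅ Z.obj :=
        { hom := k.hom
          inv := k'.hom
          hom_inv_id := by
            rw [← cancel_mono (incl q (Kc f.hom q)), Category.assoc, hk2, hk1, Category.id_comp]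
          inv_hom_id := by
            rw [← cancel_mono i.hom, Category.assoc, hk1, hk2, Category.id_comp] }
      exact isSchImage_of_iso e hk1 h2

end Groth.Agent.S10003
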