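import Groth.Statements.S10005
import Mathlib
import Groth.Agent.Lib.H5bLimSepC

set_option autoImplicit false
universe u
open CategoryTheory CategoryTheory.Limits AlgebraicGeometry
open AlgSp

namespace Groth.Agent.S10005

/-- separatedness over `S` is separatedness of the map to a terminal object. -/
lemma isSeparatedSp_iff {S : Scheme.{u}} {Tm : AlgSp.Sp S} (hT : IsTerminal Tm) (F : AlgSp.Sp S) :
    AlgSp.IsSeparatedSp F ↔ AlgSp.IsSeparatedMor (hT.from F) := by
  obtain ⟨e, hehom⟩ : ∃ e : pullback (hT.from F) (hT.from F) ≅ F ⨯ F,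
      e.hom = prod.lift (pullback.fst _ _) (pullback.snd _ _) := ⟨
    { hom := prod.lift (pullback.fst _ _) (pullback.snd _ _)
      inv := pullback.lift prod.fst prod.snd (hT.hom_ext _ _)
      hom_inv_id := by
        apply pullback.hom_ext
        · rw [Category.assoc, pullback.lift_fst, prod.lift_fst, Category.id_comp]
        · rw [Category.assoc, pullback.lift_snd, prod.lift_snd, Category.id_comp]
      inv_hom_id := by
        apply Limits.prod.hom_ext
        · rw [Category.assoc, prod.lift_fst, pullback.lift_fst, Category.id_comp]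
        · rw [Category.assoc, prod.lift_snd, pullback.lift_snd, Category.id_comp] }, rfl⟩
  have he : pullback.diagonal (hT.from F) ≫ e.hom = Limits.diag F := by
    rw [hehom]
    apply Limits.prod.hom_ext
    · rw [Category.assoc, prod.lift_fst, pullback.diagonal_fst, prod.lift_fst]
    · rw [Category.assoc, prod.lift_snd, pullback.diagonal_snd, prod.lift_snd]
  show AlgSp.RepWith @IsClosedImmersion (Limits.diag F) ↔
    AlgSp.RepWith @IsClosedImmersion (pullback.diagonal (hT.from F))
  rw [← he]
  exact (AlgSp.RepWith @IsClosedImmersion).cancel_right_of_respectsIso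
    (pullback.diagonal (hT.from F)) e.hom

/-- Let `S` be a quasi-separated scheme and `X` the limit, in fppf sheaves over `S`, of a cofiltered
system `(X_i)` of quasi-compact algebraic spaces over `S`, each quasi-separated over `S`, whose
transition maps are affine. If `X` is separated over `S`, then `X_i` is separated over `S` for some
`i`. (The published statement uses absolute separatedness and quasi-separatedness and puts no
condition on `S`; this row assumes `S` quasi-separated and takes both notions over `S`, which gives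
the same quasi-separatedness and, when `S` is separated, the same separatedness.) -/
theorem result (S : Scheme.{u}) [QuasiSeparatedSpace S] {I : Type u} [SmallCategory I] [IsCofiltered I]
    (D : I ⥤ AlgSp.Sp S) (hD : ∀ i, AlgSp.IsAlgSpace (D.obj i))
    (hDa : ∀ (i j : I) (φ : i ⟶ j), AlgSp.IsAffineMor (D.map φ))
    (hqc : ∀ i, AlgSp.IsQuasiCompactSp (D.obj i)) (hqs : ∀ i, AlgSp.IsQuasiSeparatedSp (D.obj i))
    (c : Cone D) (hc : IsLimit c)
    (hX : AlgSp.IsSeparatedSp c.pt) : ∃ i, AlgSp.IsSeparatedSp (D.obj i) := by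
  let T : Over S := Over.mk (𝟙 S)
  have hT : IsTerminal ((AlgSp.yon S).obj T) :=
    IsTerminal.isTerminalObj (AlgSp.yon S) T Over.mkIdTerminal
  let Y : AlgSp.Space S := ⟨(AlgSp.yon S).obj T, AlgSp.IsAlgSpace.yon_obj T⟩
  have hYqs : AlgSp.IsQuasiSeparatedSp Y.obj :=
    (AlgSp.repWith_diag_yon_iff @QuasiCompact T).2
      ((quasiSeparated_iff (𝟙 S)).1 inferInstance)
  obtain ⟨i₀, h⟩ := Groth.Agent.Lib.H5bLimSep.eventually_isSeparatedMor S Y D hD
    (fun i => hT.from (D.obj i)) (fun φ => hT.hom_ext _ _) hDa c hc (hT.from c.pt)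
    (fun i => hT.hom_ext _ _) hqc hqs hYqs ((isSeparatedSp_iff hT c.pt).1 hX)
  exact ⟨i₀, (isSeparatedSp_iff hT (D.obj i₀)).2 (h i₀ (𝟙 i₀))⟩

end Groth.Agent.S10005
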