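import Groth.Statements.S10008
import Mathlib
import Groth.Agent.Lib.H5bLimSp2
import Groth.Agent.S10004
import Groth.Agent.S9917
import Groth.Agent.S10175

set_option autoImplicit false
set_option linter.style.haveILetI false
universe u
open CategoryTheory CategoryTheory.Limits AlgebraicGeometry
open AlgSp

namespace Groth.Agent.S10008

open Groth.Agent.Lib.H5bLimSp

/-- Let `X` be the limit, in fppf sheaves over `S`, of a cofiltered system `(X_i)` of algebraic spaces
over `S` whose transition maps are affine. If every `X_i` is quasi-compact and has at least one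
point, then `X` has a point. -/
theorem result (S : Scheme.{u}) {I : Type u} [SmallCategory I] [IsCofiltered I]
    (D : I ⥤ AlgSp.Sp S) (hD : ∀ i, AlgSp.IsAlgSpace (D.obj i))
    (hDa : ∀ (i j : I) (φ : i ⟶ j), AlgSp.IsAffineMor (D.map φ))
    (c : Cone D) (hc : IsLimit c)
    (hqc : ∀ i, AlgSp.IsQuasiCompactSp (D.obj i)) (hne : ∀ i, Nonempty (AlgSp.Points (D.obj i))) :
    Nonempty (AlgSp.Points c.pt) := by
  classical
  obtain ⟨i₀⟩ := IsCofiltered.nonempty (C := I)
  obtain ⟨ι, hfin, T, ca, hTaff, hsurj⟩ := Groth.Agent.S9917.exists_finite_affine_cover (hqc i₀)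
  have haff := (Groth.Agent.S10004.result S D hD hDa c hc).2
  have hex : ∀ (a : ι) (k : Over i₀), ∃ (W : Over S) (w : W ⟶ T a)
      (fst : (AlgSp.yon S).obj W ⟶ D.obj k.left),
      IsPullback fst ((AlgSp.yon S).map w) (D.map k.hom) (ca a) ∧ IsAffine W.left :=
    fun a k => hDa _ _ k.hom (hTaff a) (ca a)
  choose W w fst sqk hW using hex
  let P : ∀ a, PbSystem D i₀ (ca a) := fun a => ⟨W a, w a, fst a, sqk a⟩
  have hkey : ∀ k : Over i₀, ∃ a, Nonempty (W a k).left := by
    intro k
    obtain ⟨x⟩ := hne k.left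
    obtain ⟨a, t, ht⟩ := hsurj (AlgSp.Points.map (D.map k.hom) x)
    obtain ⟨p, -, -⟩ := Groth.Agent.S10175.exists_point_of_isPullback (sqk a k) x t ht.symm
    exact ⟨a, ⟨(AlgSp.Points.schemeHomeo (W a k)).symm p⟩⟩
  have hpig : ∃ a, ∀ k, Nonempty (W a k).left := by
    by_contra h
    push Not at h
    choose ka hka using h
    haveI : Fintype ι := Fintype.ofFinite ι
    obtain ⟨k, hk⟩ := IsCofiltered.inf_objs_exists (Finset.univ.image ka)
    obtain ⟨a, ⟨y⟩⟩ := hkey k
    obtain ⟨ψ⟩ := hk (Finset.mem_image_of_mem ka (Finset.mem_univ a))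
    exact (hka a).false (((P a).trans ψ).left.base y)
  obtain ⟨a, ha⟩ := hpig
  obtain ⟨Wl, wl, fstl, sql, -⟩ := haff i₀ (hTaff a) (ca a)
  obtain ⟨y⟩ := (P a).nonempty_of_isPullback hc (hW a) ha wl fstl sql
  exact ⟨AlgSp.Points.map fstl (AlgSp.Points.schemeHomeo Wl y)⟩

end Groth.Agent.S10008
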