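import Groth.Statements.S10009
import Mathlib
import Groth.Agent.Lib.H5bLimCIA
import Groth.Agent.Lib.H5bLimSp
import Groth.Agent.Lib.H5bUnrLocus
import Groth.Agent.Lib.H5bBootC
import Groth.Agent.Lib.Helper12LocPCases
import Groth.Agent.S2076
import Groth.Agent.S10534
import Groth.Agent.S10505
import Groth.Agent.S10180
import Groth.Agent.S10177

set_option autoImplicit false
universe u
open CategoryTheory CategoryTheory.Limits AlgebraicGeometry
open AlgSp

namespace Groth.Agent.S10009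

open Groth.Agent.Lib.H5bLimSp Groth.Agent.Lib.H5bLimCI Groth.Agent.Lib.Helper12.LocPCases in
set_option linter.unusedVariables false in
/-- a single étale surjective chart is an fpqc covering. -/
lemma isFpqcCover_chart {S : Scheme.{u}} {X : AlgSp.Sp S} (hX : AlgSp.IsAlgSpace X) {W : Over S}
    (g : (AlgSp.yon S).obj W ⟶ X) (hge : AlgSp.RepWith @Etale g)
    (hgs : AlgSp.RepWith @Surjective g) :
    AlgSp.IsFpqcCover (fun _ : PUnit.{u + 1} => (AlgSp.yon S).obj W) (fun _ => g) := by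
  refine Groth.Agent.S10505.result (X := ⟨X, hX⟩)
    (fun _ : PUnit.{u + 1} => ⟨(AlgSp.yon S).obj W, AlgSp.IsAlgSpace.yon_obj W⟩)
    (fun _ => ObjectProperty.homMk g) ⟨fun _ => ⟨?_, ?_⟩, fun x => ?_⟩
  · exact Groth.Agent.Lib.H5bBoot.locP_of_repWith good_flat _
      (⟨hge.1, fun _ _ ξ fst snd sq => by
        haveI : Etale snd.left := hge.2 ξ fst snd sq
        exact (inferInstance : Flat snd.left)⟩)
  · exact Groth.Agent.Lib.H5bBoot.locP_of_repWith good_lfp _
      (⟨hge.1, fun _ _ ξ fst snd sq => by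
        haveI : Etale snd.left := hge.2 ξ fst snd sq
        exact (inferInstance : LocallyOfFinitePresentation snd.left)⟩)
  · obtain ⟨v, hv⟩ := Groth.Agent.S10177.surjective_ofPt g hgs x
    refine ⟨PUnit.unit, AlgSp.Points.ofScheme W v, ?_⟩
    rw [← hv]
    exact (AlgSp.Points.ofPt_eq_map_ofScheme g v).symm

/-- Let `B` be an algebraic space over the scheme `S` and `X` the limit, in fppf sheaves, of a
cofiltered system `(X_i)` of quasi-compact algebraic spaces over `B` whose transition maps are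
affine; let `y : Y ⟶ X` be a closed immersion from an algebraic space `Y` whose structure map to `B`
is locally of finite type. Then, for all `i` mapping to some `i₀`, the composite `Y ⟶ X ⟶ X_i` is a
closed immersion. -/
theorem result (S : Scheme.{u}) {I : Type u} [SmallCategory I] [IsCofiltered I]
    (B : AlgSp.Space S) (D : I ⥤ AlgSp.Sp S) (hD : ∀ i, AlgSp.IsAlgSpace (D.obj i))
    (t : D ⟶ (Functor.const I).obj B.obj)
    (hDa : ∀ (i j : I) (φ : i ⟶ j), AlgSp.IsAffineMor (D.map φ))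
    (c : Cone D) (hc : IsLimit c)
    (hqc : ∀ i, AlgSp.IsQuasiCompactSp (D.obj i))
    (Y : AlgSp.Space S) (y : Y.obj ⟶ c.pt) (hy : AlgSp.RepWith @IsClosedImmersion y) (i₁ : I)
    (hYB : AlgSp.LocP @LocallyOfFiniteType (y ≫ c.π.app i₁ ≫ t.app i₁)) :
    ∃ i₀ : I, ∀ (i : I) (_ : i ⟶ i₀), AlgSp.RepWith @IsClosedImmersion (y ≫ c.π.app i) := by
  -- an affine chart of `X_{i₁}`
  obtain ⟨U₁, u, hU₁, hue, hus⟩ := Groth.Agent.S10180.exists_affine_chart (hqc i₁)
  haveI : IsAffine U₁.left := hU₁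
  have hex : ∀ k : Over i₁, ∃ (W : Over S) (w : W ⟶ U₁)
      (fst : (AlgSp.yon S).obj W ⟶ D.obj k.left),
      IsPullback fst ((AlgSp.yon S).map w) (D.map k.hom) u ∧ IsAffine W.left :=
    fun k => hDa _ _ k.hom hU₁ u
  choose W w fst sqk hW using hex
  let Pb : Groth.Agent.Lib.H5bLimSp.PbSystem D i₁ u := ⟨W, w, fst, sqk⟩
  obtain ⟨L, ⟨hL⟩, hLaff⟩ := Groth.Agent.Lib.H5bLimSp.exists_limit_affine Pb.functor hW
  obtain ⟨fstL, iW, hpb, hiW, hfstL⟩ := Pb.isPullback_of_isLimit hc L hL
  -- the closed subscheme `V = Y ×_X L`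
  obtain ⟨V, p, q, sq⟩ := hy.1 fstL
  haveI hp : IsClosedImmersion p.left := hy.2 fstL q p sq
  have hfstLe : AlgSp.RepWith @Etale fstL :=
    MorphismProperty.of_isPullback (P := AlgSp.RepWith @Etale) hpb.flip hue
  have hqe : AlgSp.RepWith @Etale q :=
    MorphismProperty.of_isPullback (P := AlgSp.RepWith @Etale) sq.flip hfstLe
  -- `V ⟶ U₁` is locally of finite type
  have hlft : AlgSp.LocP @LocallyOfFiniteType (y ≫ c.π.app i₁) :=
    Groth.Agent.Lib.H5bUnrLocus.locP_lft_of_comp (X := Y) (Y := ⟨D.obj i₁, hD i₁⟩) (Z := B)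
      (ObjectProperty.homMk (y ≫ c.π.app i₁)) (ObjectProperty.homMk (t.app i₁))
      (by
        show AlgSp.LocP @LocallyOfFiniteType ((y ≫ c.π.app i₁) ≫ t.app i₁)
        rw [Category.assoc]; exact hYB)
  have hcomm : q ≫ (y ≫ c.π.app i₁) = (AlgSp.yon S).map (p ≫ iW) ≫ u := by
    rw [← Category.assoc, sq.w, Category.assoc, hpb.w, Functor.map_comp, Category.assoc]
  haveI hVlft : LocallyOfFiniteType (p ≫ iW).left := hlft q u (p ≫ iW) hqe hue hcomm
  -- the scheme-level statement over `U₁`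
  have htr : ∀ {k k' : Over i₁} (ψ : k ⟶ k'), Pb.functor.map ψ ≫ w k' = w k :=
    fun ψ => Pb.trans_w ψ
  haveI : Nonempty (Over i₁) := ⟨Over.mk (𝟙 i₁)⟩
  obtain ⟨hlim⟩ := Groth.Agent.Lib.H5bLimCI.nonempty_isLimit_liftCone Pb.functor U₁ w htr L iW hiW hL
  have inst1 : ∀ (k k' : Over i₁) (ψ : k ⟶ k'),
      IsAffineHom ((Groth.Agent.Lib.H5bLimCI.liftOver Pb.functor U₁ w htr).map ψ).left := by
    intro k k' ψ
    haveI : IsAffine (W k).left := hW k
    haveI : IsAffine (W k').left := hW k'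
    show IsAffineHom (Pb.functor.map ψ).left
    infer_instance
  have inst2 : ∀ k : Over i₁,
      CompactSpace ((Groth.Agent.Lib.H5bLimCI.liftOver Pb.functor U₁ w htr).obj k).left := by
    intro k
    haveI : IsAffine (W k).left := hW k
    show CompactSpace (W k).left
    infer_instance
  obtain ⟨k, hk⟩ := @Groth.Agent.S2076.result (Over i₁) _ _ U₁.left
    (Groth.Agent.Lib.H5bLimCI.liftOver Pb.functor U₁ w htr)
    (Groth.Agent.Lib.H5bLimCI.liftCone Pb.functor U₁ w htr L iW hiW) hlim inst1 inst2 V.left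
    p.left hp hVlft
  have hk' : IsClosedImmersion (p.left ≫ (L.π.app k).left) := hk
  refine ⟨k.left, ?_⟩
  intro i φ
  let k' : Over i₁ := Over.mk (φ ≫ k.hom)
  let ψ : k' ⟶ k := Over.homMk φ rfl
  -- `V ⟶ W k'` is a closed immersion
  haveI : IsAffine (W k).left := hW k
  haveI : IsAffine (W k').left := hW k'
  have hcl : IsClosedImmersion (p ≫ L.π.app k').left := by
    have e : (p ≫ L.π.app k').left ≫ (Pb.functor.map ψ).left = p.left ≫ (L.π.app k).left := by
      rw [← Over.comp_left, Category.assoc, L.w ψ, Over.comp_left]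
    haveI : IsClosedImmersion ((p ≫ L.π.app k').left ≫ (Pb.functor.map ψ).left) := by
      rw [e]; exact hk'
    exact IsClosedImmersion.of_comp (p ≫ L.π.app k').left (Pb.functor.map ψ).left
  -- the chart square of `y ≫ c.π.app i`
  have big : IsPullback q ((AlgSp.yon S).map p ≫ (AlgSp.yon S).map iW) (y ≫ c.π.app i₁) u :=
    sq.paste_vert hpb
  have e1 : (AlgSp.yon S).map (p ≫ L.π.app k') ≫ (AlgSp.yon S).map (w k') =
      (AlgSp.yon S).map p ≫ (AlgSp.yon S).map iW := by
    rw [← Functor.map_comp, ← Functor.map_comp, Category.assoc, hiW k']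
  have e2 : (y ≫ c.π.app i) ≫ D.map k'.hom = y ≫ c.π.app i₁ := by
    rw [Category.assoc]
    exact congrArg (fun m => y ≫ m) (c.w k'.hom)
  have e3 : q ≫ (y ≫ c.π.app i) = (AlgSp.yon S).map (p ≫ L.π.app k') ≫ fst k' := by
    rw [← Category.assoc, sq.w, Category.assoc, Functor.map_comp, Category.assoc]
    exact congrArg (fun m => (AlgSp.yon S).map p ≫ m) (hfstL k')
  have sqi : IsPullback q ((AlgSp.yon S).map (p ≫ L.π.app k')) (y ≫ c.π.app i) (fst k') := by
    refine IsPullback.of_bot ?_ e3 (sqk k')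
    rw [e1, e2]
    exact big
  -- descent along the chart
  have hfe : AlgSp.RepWith @Etale (fst k') :=
    MorphismProperty.of_isPullback (P := AlgSp.RepWith @Etale) (sqk k').flip hue
  have hfs : AlgSp.RepWith @Surjective (fst k') :=
    MorphismProperty.of_isPullback (P := AlgSp.RepWith @Surjective) (sqk k').flip hus
  have hcov := isFpqcCover_chart (hD i) (fst k') hfe hfs
  refine ((Groth.Agent.S10534.result S) (fun _ : PUnit.{u + 1} => (AlgSp.yon S).obj (W k'))
    (fun _ => fst k') (hD i) (fun _ => AlgSp.IsAlgSpace.yon_obj _) hcov (y ≫ c.π.app i) Y.property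
    (fun _ => (AlgSp.yon S).obj V) (fun _ => (AlgSp.yon S).map (p ≫ L.π.app k')) (fun _ => q)
    (fun _ => AlgSp.IsAlgSpace.yon_obj V) (fun _ => sqi)).2 ?_
  intro _
  exact (AlgSp.repWith_yon_map_iff @IsClosedImmersion (p ≫ L.π.app k')).2 hcl

end Groth.Agent.S10009
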