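import Groth.Statements.S10010
import Mathlib
import Groth.Agent.Lib.H5bLimBC
import Groth.Agent.Lib.H5bLimImmA
import Groth.Agent.Lib.H5bLimImmB
import Groth.Agent.S10009
import Groth.Agent.S9874

set_option autoImplicit false
universe u
open CategoryTheory CategoryTheory.Limits AlgebraicGeometry
open AlgSp

namespace Groth.Agent.S10010

open Groth.Agent.Lib.H5bLimBC Groth.Agent.Lib.H5bLimImmA Groth.Agent.Lib.H5bLimImmB

/-- Let `S` be a quasi-separated scheme, `B` an algebraic space over `S`, and `X` the limit, in fppf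
sheaves, of a cofiltered system `(X_i)` of algebraic spaces over `B`, each quasi-separated over `S`,
whose transition maps are affine; let `y : Y ⟶ X` be an immersion from a quasi-compact algebraic
space `Y` whose structure map to `B` is locally of finite type. Then, for all `i` mapping to some
`i₀`, the composite `Y ⟶ X ⟶ X_i` is an immersion. (The published statement allows any base scheme
and uses absolute quasi-separatedness; this row assumes the base quasi-separated, over which
quasi-separatedness relative to the base is the absolute notion.) -/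
theorem result (S : Scheme.{u}) [QuasiSeparatedSpace S] {I : Type u} [SmallCategory I] [IsCofiltered I]
    (B : AlgSp.Space S) (D : I ⥤ AlgSp.Sp S) (hD : ∀ i, AlgSp.IsAlgSpace (D.obj i))
    (t : D ⟶ (Functor.const I).obj B.obj)
    (hDa : ∀ (i j : I) (φ : i ⟶ j), AlgSp.IsAffineMor (D.map φ))
    (c : Cone D) (hc : IsLimit c)
    (hqs : ∀ i, AlgSp.IsQuasiSeparatedSp (D.obj i))
    (Y : AlgSp.Space S) (hYqc : AlgSp.IsQuasiCompactSp Y.obj) (y : Y.obj ⟶ c.pt) (hy : AlgSp.RepWith @IsImmersion y) (i₁ : I)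
    (hYB : AlgSp.LocP @LocallyOfFiniteType (y ≫ c.π.app i₁ ≫ t.app i₁)) :
    ∃ i₀ : I, ∀ (i : I) (_ : i ⟶ i₀), AlgSp.RepWith @IsImmersion (y ≫ c.π.app i) := by
  obtain ⟨hXa, -⟩ := Groth.Agent.S10004.result S D hD hDa c hc
  have hRc : IsCompact (Set.range (AlgSp.Points.map y)) := by
    haveI : CompactSpace (AlgSp.Points Y.obj) :=
      (Groth.Agent.S10174.isQuasiCompactSp_iff Y.property).1 hYqc
    exact isCompact_range (AlgSp.Points.continuous_map y)
  have hOo := isOpen_coborder_range hXa y hy
  obtain ⟨U', j, hj, hU'qc, hRU, hUO⟩ :=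
    exists_qc_open ⟨c.pt, hXa⟩ _ _ hRc hOo subset_coborder
  obtain ⟨k, Uk, jk, hjk, hUkqc, hkey⟩ :=
    descend_open S D hD hDa hqs c hc U'.obj j.hom hj hU'qc i₁
  -- the inverse image of `U_k` in the limit
  have sqX : IsPullback (pullback.fst (c.π.app k.left) jk) (pullback.snd (c.π.app k.left) jk)
      (c.π.app k.left) jk := IsPullback.of_hasPullback _ _
  have hj' : AlgSp.RepWith @IsOpenImmersion (pullback.fst (c.π.app k.left) jk) :=
    MorphismProperty.of_isPullback (P := AlgSp.RepWith @IsOpenImmersion) sqX.flip hjk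
  have hr : Set.range (AlgSp.Points.map (pullback.fst (c.π.app k.left) jk)) =
      Set.range (AlgSp.Points.map j.hom) := by
    ext x
    rw [hkey x]
    constructor
    · rintro ⟨z, rfl⟩
      rw [← AlgSp.Points.map_comp, sqX.w, AlgSp.Points.map_comp]
      exact ⟨_, rfl⟩
    · rintro ⟨u, hu⟩
      obtain ⟨z, hz1, -⟩ := Groth.Agent.S10175.exists_point_of_isPullback sqX x u hu.symm
      exact ⟨z, hz1⟩
  obtain ⟨y', hy'j, hy'c⟩ := exists_closedImmersion_factor y hy
    (pullback.fst (c.π.app k.left) jk) hj' (by rw [hr]; exact hRU) (by rw [hr]; exact hUO)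
  -- the base-changed system
  obtain ⟨hc'⟩ := nonempty_isLimit_bcCone (D := D) (k := k.left) (c := c) jk hc
  have hD' : ∀ o, AlgSp.IsAlgSpace ((bcFunctor D k.left jk).obj o) := fun o =>
    Groth.Agent.S9874.isAlgSpace_of_isPullback (hD k.left).diag (hD o.left) Uk.property
      (IsPullback.of_hasPullback (D.map o.hom) jk)
  have hDa' : ∀ (o o' : Over k.left) (ψ : o ⟶ o'),
      AlgSp.IsAffineMor ((bcFunctor D k.left jk).map ψ) := fun o o' ψ =>
    isAffineMor_of_isPullback (isPullback_bcFunctor_map D k.left jk ψ).flip (hDa _ _ ψ.left)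
  have hqc' : ∀ o, AlgSp.IsQuasiCompactSp ((bcFunctor D k.left jk).obj o) := fun o =>
    isQuasiCompactSp_of_isAffineMor (pullback.snd (D.map o.hom) jk)
      (isAffineMor_of_isPullback (IsPullback.of_hasPullback (D.map o.hom) jk) (hDa _ _ o.hom))
      hUkqc
  have hYB' : AlgSp.LocP @LocallyOfFiniteType
      (y' ≫ (bcCone D k.left c jk).π.app (Over.mk (𝟙 k.left)) ≫
        (bcTrans D k.left jk t).app (Over.mk (𝟙 k.left))) := by
    have e := bcCone_comp_trans D k.left c jk t y' (Over.mk (𝟙 k.left))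
    rw [hy'j] at e
    have h2 : D.map k.hom ≫ t.app i₁ = t.app k.left := by
      have := t.naturality k.hom
      simpa using this
    have h3 : c.π.app k.left ≫ D.map k.hom = c.π.app i₁ := c.w k.hom
    have e2 : y ≫ c.π.app k.left ≫ t.app k.left = y ≫ c.π.app i₁ ≫ t.app i₁ := by
      rw [← h3, ← h2, Category.assoc]
    rw [e]
    exact e2 ▸ hYB
  obtain ⟨o₀, H⟩ := Groth.Agent.S10009.result S B (bcFunctor D k.left jk) hD'
    (bcTrans D k.left jk t) hDa'
    (bcCone D k.left c jk) hc' hqc' Y y' hy'c (Over.mk (𝟙 k.left)) hYB'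
  refine ⟨o₀.left, fun i φ => ?_⟩
  have h := H (Over.mk (φ ≫ o₀.hom)) (Over.homMk φ rfl)
  have e := bcCone_comp_fst D k.left c jk y' (Over.mk (φ ≫ o₀.hom))
  rw [hy'j] at e
  have key : AlgSp.RepWith @IsImmersion
      ((y' ≫ (bcCone D k.left c jk).π.app (Over.mk (φ ≫ o₀.hom))) ≫
        pullback.fst (D.map (Over.mk (φ ≫ o₀.hom)).hom) jk) := by
    refine MorphismProperty.comp_mem _ _ _ ?_ ?_
    · exact Groth.Agent.Lib.Helper12.OpenSub.repWith_mono
        (fun _ _ g hg => by haveI : IsClosedImmersion g := hg; infer_instance) h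
    · have h4 : AlgSp.RepWith @IsOpenImmersion
          (pullback.fst (D.map (Over.mk (φ ≫ o₀.hom)).hom) jk) :=
        MorphismProperty.of_isPullback (P := AlgSp.RepWith @IsOpenImmersion)
          (IsPullback.of_hasPullback (D.map (Over.mk (φ ≫ o₀.hom)).hom) jk).flip hjk
      exact Groth.Agent.Lib.Helper12.OpenSub.repWith_mono
        (fun _ _ g hg => by haveI : IsOpenImmersion g := hg; infer_instance) h4
  rw [e] at key
  exact key

end Groth.Agent.S10010
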