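import Groth.Statements.S10012
import Mathlib
import Groth.Agent.Lib.H5bLimMonoA
import Groth.Agent.Lib.H5bLimDescF
import Groth.Agent.Lib.H5bUnrLocus
import Groth.Agent.Lib.Helper12Proper
import Groth.Agent.Lib.Helper12OpenSub2
import Groth.Agent.Lib.Helper12SrcLocal
import Groth.Agent.S10011
import Groth.Agent.S9941
import Groth.Agent.S9905
import Groth.Agent.S9920

set_option autoImplicit false
universe u
open CategoryTheory CategoryTheory.Limits AlgebraicGeometry
open AlgSp

namespace Groth.Agent.S10012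

open Groth.Agent.Lib.H5bLimMono in
set_option linter.unusedVariables false in
/-- the composite `X ⟶ X_i ⟶ B` does not depend on `i`. -/
lemma comp_t_eq {C : Type*} [Category C] {I : Type*} [Category I] [IsCofiltered I] (D : I ⥤ C)
    {B : C} (t : D ⟶ (Functor.const I).obj B) (c : Cone D) (i j : I) :
    c.π.app i ≫ t.app i = c.π.app j ≫ t.app j := by
  have h1 : ∀ {i j : I} (φ : i ⟶ j), c.π.app i ≫ t.app i = c.π.app j ≫ t.app j := by
    intro i j φ
    have hn : D.map φ ≫ t.app j = t.app i :=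
      (t.naturality φ).trans (Category.comp_id (t.app i))
    rw [← hn, ← Category.assoc, c.w]
  exact (h1 (IsCofiltered.minToLeft i j)).symm.trans (h1 (IsCofiltered.minToRight i j))

/-- Let `S` be a quasi-separated scheme, `B` an algebraic space over `S`, and `X` the limit, in fppf
sheaves, of a cofiltered system `(X_i)` of algebraic spaces over `B`, each quasi-separated over `S`,
whose transition maps are affine; let `y : Y ⟶ X` be a monomorphism from a quasi-compact algebraic
space `Y` whose structure map to `B` is locally of finite type. Then, for all `i` mapping to some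
`i₀`, the composite `Y ⟶ X ⟶ X_i` is a monomorphism. (The published statement allows any base scheme
and uses absolute quasi-separatedness; this row assumes the base quasi-separated, over which
quasi-separatedness relative to the base is the absolute notion.) -/
theorem result (S : Scheme.{u}) [QuasiSeparatedSpace S] {I : Type u} [SmallCategory I] [IsCofiltered I]
    (B : AlgSp.Space S) (D : I ⥤ AlgSp.Sp S) (hD : ∀ i, AlgSp.IsAlgSpace (D.obj i))
    (t : D ⟶ (Functor.const I).obj B.obj)
    (hDa : ∀ (i j : I) (φ : i ⟶ j), AlgSp.IsAffineMor (D.map φ))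
    (c : Cone D) (hc : IsLimit c)
    (hqs : ∀ i, AlgSp.IsQuasiSeparatedSp (D.obj i))
    (Y : AlgSp.Space S) (hYqc : AlgSp.IsQuasiCompactSp Y.obj) (y : Y.obj ⟶ c.pt) [Mono y] (i₁ : I)
    (hYB : AlgSp.LocP @LocallyOfFiniteType (y ≫ c.π.app i₁ ≫ t.app i₁)) :
    ∃ i₀ : I, ∀ (i : I) (_ : i ⟶ i₀), Mono (y ≫ c.π.app i) := by
  -- the system of kernel pairs
  have hZ : ∀ i, AlgSp.IsAlgSpace ((Groth.Agent.Lib.H5bLimMono.kpFunctor D c y).obj i) := fun i =>
    Groth.Agent.S9874.isAlgSpace_of_isPullback (hD i).diag Y.property Y.property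
      (IsPullback.of_hasPullback (y ≫ c.π.app i) (y ≫ c.π.app i))
  have hlft : ∀ i, AlgSp.LocP @LocallyOfFiniteType (y ≫ c.π.app i) := by
    intro i
    have e : (y ≫ c.π.app i) ≫ t.app i = y ≫ c.π.app i₁ ≫ t.app i₁ := by
      rw [Category.assoc, comp_t_eq D t c i i₁]
    exact Groth.Agent.Lib.H5bUnrLocus.locP_lft_of_comp (X := Y) (Y := ⟨D.obj i, hD i⟩) (Z := B)
      (ObjectProperty.homMk (y ≫ c.π.app i)) (ObjectProperty.homMk (t.app i))
      (by
        show AlgSp.LocP @LocallyOfFiniteType ((y ≫ c.π.app i) ≫ t.app i)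
        rw [e]; exact hYB)
  have hZc : ∀ (i j : I) (φ : i ⟶ j),
      AlgSp.RepWith @IsClosedImmersion ((Groth.Agent.Lib.H5bLimMono.kpFunctor D c y).map φ) := by
    intro i j φ
    have h1 : AlgSp.RepWith @IsAffineHom (D.map φ) :=
      Groth.Agent.S9941.result (X := ⟨D.obj i, hD i⟩) (Y := ⟨D.obj j, hD j⟩)
        (ObjectProperty.homMk (D.map φ)) (hDa i j φ)
    have h2 : AlgSp.RepWith @IsSeparated (D.map φ) :=
      Groth.Agent.Lib.Helper12.OpenSub.repWith_mono
        (fun _ _ g hg => by haveI : IsAffineHom g := hg; infer_instance) h1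
    have hsep : AlgSp.IsSeparatedMor (D.map φ) :=
      ((Groth.Agent.S9905.result (X := ⟨D.obj i, hD i⟩) (Y := ⟨D.obj j, hD j⟩)
        (ObjectProperty.homMk (D.map φ)) h1.1).1).2 h2
    rw [Groth.Agent.Lib.H5bLimMono.kpFunctor_map_eq]
    exact MorphismProperty.of_isPullback (P := AlgSp.RepWith @IsClosedImmersion)
      (Groth.Agent.Lib.H5bLimMono.diag_bc (y ≫ c.π.app i) (D.map φ) (y ≫ c.π.app j)
        (by rw [Category.assoc, c.w])) hsep
  have hZqc : ∀ i, AlgSp.IsQuasiCompactSp ((Groth.Agent.Lib.H5bLimMono.kpFunctor D c y).obj i) := by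
    intro i
    have hqcm : AlgSp.IsQuasiCompactMor (y ≫ c.π.app i) :=
      Groth.Agent.S9920.isQuasiCompactMor_of_qc_qs Y.property (hD i) (y ≫ c.π.app i) hYqc (hqs i)
    exact hqcm Y.property hYqc (y ≫ c.π.app i) (pullback.fst _ _) (pullback.snd _ _)
      (IsPullback.of_hasPullback _ _)
  have hZft : ∀ i, AlgSp.LocP @LocallyOfFiniteType
      ((Groth.Agent.Lib.H5bLimMono.kpToY D c y).app i) := fun i =>
    Groth.Agent.Lib.Helper12.Proper.locP_lft_baseChange Y.property (hD i) Y.property
      (IsPullback.of_hasPullback (y ≫ c.π.app i) (y ≫ c.π.app i)).flip (hlft i)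
  have hX' : AlgSp.LocP @LocallyOfFinitePresentation
      ((Groth.Agent.Lib.H5bLimMono.kpCone D c y).π.app i₁ ≫
        (Groth.Agent.Lib.H5bLimMono.kpToY D c y).app i₁) := by
    have e : (Groth.Agent.Lib.H5bLimMono.kpCone D c y).π.app i₁ ≫
        (Groth.Agent.Lib.H5bLimMono.kpToY D c y).app i₁ = 𝟙 Y.obj :=
      Groth.Agent.Lib.H5bLimMono.pDiag_pFst D c y i₁
    rw [e]
    intro U V a b h ha hb hc
    haveI : Etale h.left := Groth.Agent.Lib.Helper12.SrcLocal.locP_etale_of_isEtaleMor (𝟙 Y.obj)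
      (Groth.Agent.Lib.H5bLimDesc.isEtaleMor_of_isIso _) a b h ha hb hc
    show LocallyOfFinitePresentation h.left
    infer_instance
  obtain ⟨hlim⟩ := Groth.Agent.Lib.H5bLimMono.nonempty_isLimit_kpCone D c y hc
  obtain ⟨i₀, h⟩ := Groth.Agent.S10011.result S Y (Groth.Agent.Lib.H5bLimMono.kpFunctor D c y) hZ
    (Groth.Agent.Lib.H5bLimMono.kpToY D c y) hZc (Groth.Agent.Lib.H5bLimMono.kpCone D c y) hlim
    hZqc hZft i₁ hX'
  refine ⟨i₀, fun i φ => ?_⟩
  haveI : IsIso (pullback.diagonal (y ≫ c.π.app i)) := h i φ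
  exact (pullback.isIso_diagonal_iff _).1 inferInstance

end Groth.Agent.S10012
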