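import Groth.Statements.S10016
import Mathlib
import Groth.Agent.Lib.H5bLimDescC
import Groth.Agent.Lib.H5bLimDescD
import Groth.Agent.S2581
import Groth.Agent.S9938
import Groth.Agent.S9960
import Groth.Agent.S9921

set_option autoImplicit false
universe u
open CategoryTheory CategoryTheory.Limits AlgebraicGeometry
open AlgSp

namespace Groth.Agent.S10016

/-- Let `S` be a quasi-separated scheme and `B` the limit, in fppf sheaves over `S`, of a cofiltered
system `(B_i)` of algebraic spaces over `S` whose transition maps are affine; fix an index `i₀` such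
that `B_{i₀}` is quasi-compact and quasi-separated over `S`, and a morphism `f₀ : X₀ ⟶ Y₀` of
algebraic spaces over `B_{i₀}` whose source and target are quasi-compact and quasi-separated over
`S`. Write `f_i` (for `i` mapping to `i₀`) and `f` for the base changes of `f₀` to `B_i` and to `B`,
given by pullback squares. If `f` is universally injective and `f₀` locally of finite type, then for
some `i` mapping to `i₀` every such base change `f_i` is universally injective. (The published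
statement allows any base scheme and uses absolute quasi-separatedness; this row assumes the base
quasi-separated, over which quasi-separatedness relative to the base is the absolute notion.) -/
theorem result (S : Scheme.{u}) [QuasiSeparatedSpace S] {I : Type u} [SmallCategory I] [IsCofiltered I]
    (D : I ⥤ AlgSp.Sp S) (hD : ∀ i, AlgSp.IsAlgSpace (D.obj i))
    (hDa : ∀ (i j : I) (φ : i ⟶ j), AlgSp.IsAffineMor (D.map φ))
    (c : Cone D) (hc : IsLimit c) (i₀ : I)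
    (hBqc : AlgSp.IsQuasiCompactSp (D.obj i₀)) (hBqs : AlgSp.IsQuasiSeparatedSp (D.obj i₀))
    (X₀ Y₀ : AlgSp.Space S) (f₀ : X₀.obj ⟶ Y₀.obj) (b₀ : Y₀.obj ⟶ D.obj i₀)
    (hXqc : AlgSp.IsQuasiCompactSp X₀.obj) (hXqs : AlgSp.IsQuasiSeparatedSp X₀.obj)
    (hYqc : AlgSp.IsQuasiCompactSp Y₀.obj) (hYqs : AlgSp.IsQuasiSeparatedSp Y₀.obj)
    (X Y : AlgSp.Sp S) (f : X ⟶ Y) (pY : Y ⟶ Y₀.obj) (qY : Y ⟶ c.pt)
    (hY : IsPullback pY qY b₀ (c.π.app i₀)) (pX : X ⟶ X₀.obj) (hX : IsPullback pX f f₀ pY)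
    (hf : AlgSp.IsUnivInjectiveMor f) (hf₀ : AlgSp.LocP @LocallyOfFiniteType f₀) :
    ∃ (i : I) (φ : i ⟶ i₀), ∀ (Xi Yi : AlgSp.Sp S) (fi : Xi ⟶ Yi) (pYi : Yi ⟶ Y₀.obj) (qYi : Yi ⟶ D.obj i)
      (_ : IsPullback pYi qYi b₀ (D.map φ)) (pXi : Xi ⟶ X₀.obj) (_ : IsPullback pXi fi f₀ pYi),
      AlgSp.IsUnivInjectiveMor fi := by
  -- the fibre square of `f₀`
  have hZ₀ : AlgSp.IsAlgSpace (pullback f₀ f₀) :=
    Groth.Agent.S9874.isAlgSpace_of_isPullback Y₀.property.diag X₀.property X₀.property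
      (IsPullback.of_hasPullback f₀ f₀)
  let Z₀ : AlgSp.Space S := ⟨pullback f₀ f₀, hZ₀⟩
  have hZ₀qcqs : AlgSp.IsQuasiCompactSp Z₀.obj ∧ AlgSp.IsQuasiSeparatedSp Z₀.obj :=
    Groth.Agent.S9921.result (X := X₀) (Y := Y₀) (Z := X₀) (P := Z₀)
      (ObjectProperty.homMk f₀) (ObjectProperty.homMk f₀)
      (ObjectProperty.homMk (pullback.fst f₀ f₀)) (ObjectProperty.homMk (pullback.snd f₀ f₀))
      (IsPullback.of_hasPullback f₀ f₀) ⟨hXqc, hXqs⟩ ⟨hYqc, hYqs⟩ ⟨hXqc, hXqs⟩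
  have hΔ₀ : AlgSp.LocP @LocallyOfFinitePresentation (pullback.diagonal f₀) :=
    (Groth.Agent.S9960.result (X := X₀) (Y := Y₀) (ObjectProperty.homMk f₀) hf₀).1
  -- `X`, `Y` are algebraic spaces
  have hB : AlgSp.IsAlgSpace c.pt := (Groth.Agent.S10004.result S D hD hDa c hc).1
  have hYalg : AlgSp.IsAlgSpace Y :=
    Groth.Agent.S9874.isAlgSpace_of_isPullback (hD i₀).diag Y₀.property hB hY
  have hXalg : AlgSp.IsAlgSpace X :=
    Groth.Agent.S9874.isAlgSpace_of_isPullback Y₀.property.diag X₀.property hYalg hX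
  have hΔ : AlgSp.IsSurjectiveMor (pullback.diagonal f) :=
    (Groth.Agent.S9938.result (X := ⟨X, hXalg⟩) (Y := ⟨Y, hYalg⟩) (ObjectProperty.homMk f)).2.1 hf
  obtain ⟨pZ, sqZ, sqΔ⟩ := Groth.Agent.Lib.H5bLimDesc.diag_squares f₀ b₀ (c.π.app i₀) pY qY hY pX f hX
  obtain ⟨i, φ, h⟩ := Groth.Agent.Lib.H5bLimDesc.descend_surj
    (by
      intro J _ _ D' c' hc' _ j₀ _ X₀' Y₀' f₀' g₀' _ _ _ _ X' Y' f' g' qY' qX' hY' hX' hPf
      haveI : Surjective f' := hPf
      exact Groth.Agent.S2581.result D' c' hc' j₀ f₀' g₀' f' g' qY' qX' hY' hX')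
    S D hD hDa c hc i₀ X₀ Z₀ (pullback.diagonal f₀) ((pullback.snd f₀ f₀ ≫ f₀) ≫ b₀)
    hXqc hZ₀qcqs.1 hZ₀qcqs.2 X (pullback f f) (pullback.diagonal f) pZ
    ((pullback.snd f f ≫ f) ≫ qY) sqZ pX sqΔ hΔ hΔ₀
  refine ⟨i, φ, ?_⟩
  intro Xi Yi fi pYi qYi sqYi pXi sqXi
  obtain ⟨pZi, sqZi, sqΔi⟩ :=
    Groth.Agent.Lib.H5bLimDesc.diag_squares f₀ b₀ (D.map φ) pYi qYi sqYi pXi fi sqXi
  have hs : AlgSp.IsSurjectiveMor (pullback.diagonal fi) :=
    h Xi (pullback fi fi) (pullback.diagonal fi) pZi ((pullback.snd fi fi ≫ fi) ≫ qYi) sqZi pXi sqΔi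
  have hYi : AlgSp.IsAlgSpace Yi :=
    Groth.Agent.S9874.isAlgSpace_of_isPullback (hD i₀).diag Y₀.property (hD i) sqYi
  have hXi : AlgSp.IsAlgSpace Xi :=
    Groth.Agent.S9874.isAlgSpace_of_isPullback Y₀.property.diag X₀.property hYi sqXi
  exact (Groth.Agent.S9938.result (X := ⟨Xi, hXi⟩) (Y := ⟨Yi, hYi⟩)
    (ObjectProperty.homMk fi)).2.2 hs

end Groth.Agent.S10016
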