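import Groth.Statements.S10019
import Mathlib
import Groth.Agent.Lib.H5bLimDescI
import Groth.Agent.Lib.H5bLimDescF
import Groth.Agent.Lib.H5bBootC
import Groth.Agent.Lib.Helper12Proper
import Groth.Agent.S9189
import Groth.Agent.S9192
import Groth.Agent.S2581
import Groth.Agent.S9928
import Groth.Agent.S9920
import Groth.Agent.S10180
import Groth.Agent.S10534
import Groth.Agent.S10653

set_option autoImplicit false
universe u
open CategoryTheory CategoryTheory.Limits AlgebraicGeometry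
open AlgSp

namespace Groth.Agent.S10019

/-- Let `S` be a quasi-separated scheme and `B` the limit, in fppf sheaves over `S`, of a cofiltered
system `(B_i)` of algebraic spaces over `S` whose transition maps are affine; fix an index `i₀` such
that `B_{i₀}` is quasi-compact and quasi-separated over `S`, and a morphism `f₀ : X₀ ⟶ Y₀` of
algebraic spaces over `B_{i₀}` whose source and target are quasi-compact and quasi-separated over
`S`. Write `f_i` (for `i` mapping to `i₀`) and `f` for the base changes of `f₀` to `B_i` and to `B`,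
given by pullback squares. If `f` is a closed immersion and `f₀` locally of finite type, then for
some `i` mapping to `i₀` every such base change `f_i` is a closed immersion. (The published
statement allows any base scheme and uses absolute quasi-separatedness; this row assumes the base
quasi-separated, over which quasi-separatedness relative to the base is the absolute notion.) -/
theorem result (S : Scheme.{u}) [QuasiSeparatedSpace S] {I : Type u} [SmallCategory I] [IsCofiltered I]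
    (D : I ⥤ AlgSp.Sp S) (hD : ∀ i, AlgSp.IsAlgSpace (D.obj i))
    (hDa : ∀ (i j : I) (φ : i ⟶ j), AlgSp.IsAffineMor (D.map φ))
    (c : Cone D) (hc : IsLimit c) (i₀ : I)
    (hBqc : AlgSp.IsQuasiCompactSp (D.obj i₀)) (hBqs : AlgSp.IsQuasiSeparatedSp (D.obj i₀))
    (X₀ Y₀ : AlgSp.Space S) (f₀ : X₀.obj ⟶ Y₀.obj) (b₀ : Y₀.obj ⟶ D.obj i₀)
    (hXqc : AlgSp.IsQuasiCompactSp X₀.obj) (hXqs : AlgSp.IsQuasiSeparatedSp X₀.obj)
    (hYqc : AlgSp.IsQuasiCompactSp Y₀.obj) (hYqs : AlgSp.IsQuasiSeparatedSp Y₀.obj)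
    (X Y : AlgSp.Sp S) (f : X ⟶ Y) (pY : Y ⟶ Y₀.obj) (qY : Y ⟶ c.pt)
    (hY : IsPullback pY qY b₀ (c.π.app i₀)) (pX : X ⟶ X₀.obj) (hX : IsPullback pX f f₀ pY)
    (hf : AlgSp.RepWith @IsClosedImmersion f) (hf₀ : AlgSp.LocP @LocallyOfFiniteType f₀) :
    ∃ (i : I) (φ : i ⟶ i₀), ∀ (Xi Yi : AlgSp.Sp S) (fi : Xi ⟶ Yi) (pYi : Yi ⟶ Y₀.obj) (qYi : Yi ⟶ D.obj i)
      (_ : IsPullback pYi qYi b₀ (D.map φ)) (pXi : Xi ⟶ X₀.obj) (_ : IsPullback pXi fi f₀ pYi),
      AlgSp.RepWith @IsClosedImmersion fi := by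
  -- (a) `f` is a monomorphism, so eventually the base changes are monomorphisms
  haveI : Mono f := Groth.Agent.S9928.mono_of_repWith @IsClosedImmersion
    (fun _ _ g hg => by haveI : IsClosedImmersion g := hg; infer_instance) f hf
  obtain ⟨i₁, φ₁, hmono⟩ := Groth.Agent.Lib.H5bLimDesc.descend_mono
    (by
      intro J _ _ D' c' hc' _ j₀ _ X₀' Y₀' f₀' g₀' _ _ _ _ X' Y' f' g' qY' qX' hY' hX' hPf
      haveI : Surjective f' := hPf
      exact Groth.Agent.S2581.result D' c' hc' j₀ f₀' g₀' f' g' qY' qX' hY' hX')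
    (by
      intro J _ _ D' c' hc' _ j₀ _ _ X₀' Y₀' f₀' g₀' _ _ _ _ _ X' Y' f' g' qY' qX' hY' hX' hPf
      haveI : Etale f' := hPf
      exact Groth.Agent.S9192.result D' c' hc' j₀ f₀' g₀' f' g' qY' qX' hY' hX')
    S D hD hDa c hc i₀ X₀ Y₀ f₀ b₀ hXqc hYqc hYqs X Y f pY qY hY pX hX hXqs hf₀
  -- (b) the stage `i₁`
  obtain ⟨m, hm⟩ : ∃ m : D.obj i₁ ⟶ D.obj i₀, m = D.map φ₁ := ⟨_, rfl⟩
  have hY₁ : AlgSp.IsAlgSpace (pullback b₀ m) :=
    Groth.Agent.S9874.isAlgSpace_of_isPullback (hD i₀).diag Y₀.property (hD i₁)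
      (IsPullback.of_hasPullback b₀ m)
  have hX₁ : AlgSp.IsAlgSpace (pullback f₀ (pullback.fst b₀ m)) :=
    Groth.Agent.S9874.isAlgSpace_of_isPullback Y₀.property.diag X₀.property hY₁
      (IsPullback.of_hasPullback f₀ (pullback.fst b₀ m))
  let Y₁ : AlgSp.Space S := ⟨pullback b₀ m, hY₁⟩
  let X₁ : AlgSp.Space S := ⟨pullback f₀ (pullback.fst b₀ m), hX₁⟩
  obtain ⟨f₁, hf₁⟩ : ∃ f₁ : X₁.obj ⟶ Y₁.obj, f₁ = pullback.snd f₀ (pullback.fst b₀ m) := ⟨_, rfl⟩
  have sqX₁ : IsPullback (pullback.fst f₀ (pullback.fst b₀ m)) f₁ f₀ (pullback.fst b₀ m) := by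
    rw [hf₁]; exact IsPullback.of_hasPullback f₀ (pullback.fst b₀ m)
  have sqY₁ : IsPullback (pullback.fst b₀ m) (pullback.snd b₀ m) b₀ (D.map φ₁) := by
    rw [← hm]; exact IsPullback.of_hasPullback b₀ m
  haveI hf₁m : Mono f₁ := hmono X₁.obj Y₁.obj f₁ (pullback.fst b₀ m) (pullback.snd b₀ m) sqY₁
    (pullback.fst f₀ (pullback.fst b₀ m)) sqX₁
  have hf₁lft : AlgSp.LocP @LocallyOfFiniteType f₁ :=
    Groth.Agent.Lib.Helper12.Proper.locP_lft_baseChange X₀.property Y₀.property hY₁ sqX₁ hf₀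
  haveI : Mono (ObjectProperty.homMk (P := AlgSp.IsAlgSpace) (X := X₁) (Y := Y₁) f₁).hom := hf₁m
  have hrep : AlgSp.Representable f₁ :=
    (Groth.Agent.Lib.H5bBoot.mono_lft_consequences (X := X₁) (Y := Y₁)
      (ObjectProperty.homMk f₁) hf₁lft).1
  -- (c) charts
  obtain ⟨V₀, v₀, hV₀, hv₀e, hv₀s⟩ := Groth.Agent.S10180.exists_affine_chart hYqc
  obtain ⟨W₁, w₁, fstW₁, sqW₁, hW₁⟩ := hDa _ _ φ₁ hV₀ (v₀ ≫ b₀)
  haveI : IsAffine W₁.left := hW₁
  rw [← hm] at sqW₁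
  have hwb : ((AlgSp.yon S).map w₁ ≫ v₀) ≫ b₀ = fstW₁ ≫ m := by
    rw [Category.assoc]; exact sqW₁.w.symm
  obtain ⟨b₁', hb⟩ : ∃ b : (AlgSp.yon S).obj W₁ ⟶ Y₁.obj, b = pullback.lift _ _ hwb := ⟨_, rfl⟩
  have hb1 : b₁' ≫ pullback.fst b₀ m = (AlgSp.yon S).map w₁ ≫ v₀ := by
    rw [hb, pullback.lift_fst]
  have hb2 : b₁' ≫ pullback.snd b₀ m = fstW₁ := by rw [hb, pullback.lift_snd]
  have sqb : IsPullback b₁' ((AlgSp.yon S).map w₁) (pullback.fst b₀ m) v₀ := by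
    refine IsPullback.of_right ?_ hb1 (IsPullback.of_hasPullback b₀ m).flip
    rw [hb2]
    exact sqW₁
  have hb₁e : AlgSp.RepWith @Etale b₁' :=
    MorphismProperty.of_isPullback (P := AlgSp.RepWith @Etale) sqb.flip hv₀e
  have hb₁s : AlgSp.RepWith @Surjective b₁' :=
    MorphismProperty.of_isPullback (P := AlgSp.RepWith @Surjective) sqb.flip hv₀s
  obtain ⟨T₁, h₁, fstT₁, sqT₁⟩ := hrep b₁'
  have hfstT₁e : AlgSp.RepWith @Etale fstT₁ :=
    MorphismProperty.of_isPullback (P := AlgSp.RepWith @Etale) sqT₁.flip hb₁e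
  have hFh₁ : LocallyOfFiniteType h₁.left := hf₁lft fstT₁ b₁' h₁ hfstT₁e hb₁e sqT₁.w
  have hqcm : AlgSp.IsQuasiCompactMor f₀ :=
    Groth.Agent.S9920.isQuasiCompactMor_of_qc_qs X₀.property Y₀.property f₀ hXqc hYqs
  have hTc : CompactSpace T₁.left := by
    refine Groth.Agent.S10653.compactSpace_of_isQuasiCompactSp T₁ ?_
    exact hqcm (AlgSp.IsAlgSpace.yon_obj W₁) (Groth.Agent.Lib.H5bLimDesc.isQuasiCompactSp_yon W₁)
      (b₁' ≫ pullback.fst b₀ m) (fstT₁ ≫ pullback.fst f₀ (pullback.fst b₀ m))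
      ((AlgSp.yon S).map h₁) (sqT₁.paste_horiz sqX₁)
  have hTqs : QuasiSeparatedSpace T₁.left := by
    haveI : Mono ((AlgSp.yon S).map h₁) := sqT₁.mono_snd_of_mono
    haveI : Mono h₁ := (AlgSp.yon S).mono_of_mono_map inferInstance
    haveI : Mono h₁.left := inferInstance
    haveI : QuasiSeparated h₁.left := inferInstance
    exact quasiSeparatedSpace_of_quasiSeparated h₁.left
  -- (d) descent at the stage `i₁`
  have hlim : Groth.Agent.Lib.H5bLimDesc.SchemeDescendsF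
      (@IsClosedImmersion : MorphismProperty Scheme.{u}) @LocallyOfFiniteType := by
    intro J _ _ D' c' hc' _ j₀ _ X₀' Y₀' f₀' g₀' _ _ _ _ hF' X' Y' f' g' qY' qX' hY' hX' hPf
    haveI : LocallyOfFiniteType f₀' := hF'
    haveI : IsClosedImmersion f' := hPf
    exact Groth.Agent.S9189.result D' c' hc' j₀ f₀' g₀' f' g' qY' qX' hY' hX'
  obtain ⟨pY', pX', sq1, sq2⟩ := Groth.Agent.Lib.H5bLimDesc.refactor f₀ b₀ m (c.π.app i₁)
    (c.π.app i₀) (by rw [hm]; exact c.w φ₁) pY qY hY pX f hX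
  rw [← hf₁] at sq2
  obtain ⟨k, ψ, h⟩ := Groth.Agent.Lib.H5bLimDesc.descend_repWith_chart @IsClosedImmersion
    @LocallyOfFiniteType hlim S (Groth.Agent.S10534.result S) D hD hDa c hc i₁ X₁ Y₁ f₁
    (pullback.snd b₀ m) hW₁ b₁' hb₁e hb₁s h₁ fstT₁ sqT₁ hFh₁ hTc hTqs X Y f pY' qY sq1 pX' sq2 hf
  -- (e) conclusion
  refine ⟨k, ψ ≫ φ₁, ?_⟩
  intro Xi Yi fi pYi qYi sqYi pXi sqXi
  obtain ⟨pY'', pX'', sq1', sq2'⟩ := Groth.Agent.Lib.H5bLimDesc.refactor f₀ b₀ m (D.map ψ)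
    (D.map (ψ ≫ φ₁)) (by rw [hm]; exact (D.map_comp ψ φ₁).symm) pYi qYi sqYi pXi fi sqXi
  rw [← hf₁] at sq2'
  exact h Xi Yi fi pY'' qYi sq1' pX'' sq2'

end Groth.Agent.S10019
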