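import Groth.Statements.S10020
import Mathlib
import Groth.Agent.Lib.H5bLimDescH
import Groth.Agent.Lib.H5bLimDescD
import Groth.Agent.Lib.Helper12OpenSub2
import Groth.Agent.S9189
import Groth.Agent.S9900
import Groth.Agent.S9921
import Groth.Agent.S10534

set_option autoImplicit false
universe u
open CategoryTheory CategoryTheory.Limits AlgebraicGeometry
open AlgSp

namespace Groth.Agent.S10020

set_option linter.unusedVariables false in
/-- the relative diagonal of a morphism from a quasi-separated space is quasi-compact. -/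
lemma repWith_qc_diagonal {S : Scheme.{u}} {X₀ Y₀ : AlgSp.Sp S} (f₀ : X₀ ⟶ Y₀)
    (hX : AlgSp.IsQuasiSeparatedSp X₀) : AlgSp.RepWith @QuasiCompact (pullback.diagonal f₀) := by
  let j : pullback f₀ f₀ ⟶ X₀ ⨯ X₀ := prod.lift (pullback.fst f₀ f₀) (pullback.snd f₀ f₀)
  haveI : Mono j := by
    constructor
    intro T a b hab
    apply pullback.hom_ext
    · have h1 : (a ≫ j) ≫ prod.fst = (b ≫ j) ≫ prod.fst := by rw [hab]
      rw [Category.assoc, Category.assoc, prod.lift_fst] at h1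
      exact h1
    · have h1 : (a ≫ j) ≫ prod.snd = (b ≫ j) ≫ prod.snd := by rw [hab]
      rw [Category.assoc, Category.assoc, prod.lift_snd] at h1
      exact h1
  have e : pullback.diagonal f₀ ≫ j = Limits.diag X₀ := by
    apply Limits.prod.hom_ext <;> simp [j]
  have h1 : IsPullback (𝟙 X₀) (pullback.diagonal f₀) (pullback.diagonal f₀)
      (𝟙 (pullback f₀ f₀)) := IsPullback.of_horiz_isIso ⟨by simp⟩
  have h2 : IsPullback (𝟙 (pullback f₀ f₀)) (𝟙 (pullback f₀ f₀)) j j := IsKernelPair.id_of_mono j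
  have sq := h1.paste_vert h2
  rw [Category.comp_id, e] at sq
  exact MorphismProperty.of_isPullback (P := AlgSp.RepWith @QuasiCompact) sq hX

/-- Let `S` be a quasi-separated scheme and `B` the limit, in fppf sheaves over `S`, of a cofiltered
system `(B_i)` of algebraic spaces over `S` whose transition maps are affine; fix an index `i₀` such
that `B_{i₀}` is quasi-compact and quasi-separated over `S`, and a morphism `f₀ : X₀ ⟶ Y₀` of
algebraic spaces over `B_{i₀}` whose source and target are quasi-compact and quasi-separated over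
`S`. Write `f_i` (for `i` mapping to `i₀`) and `f` for the base changes of `f₀` to `B_i` and to `B`,
given by pullback squares. If `f` is separated (no finiteness condition on `f₀`), then for some `i`
mapping to `i₀` every such base change `f_i` is separated. (The published statement allows any base
scheme and uses absolute quasi-separatedness; this row assumes the base quasi-separated, over which
quasi-separatedness relative to the base is the absolute notion.) -/
theorem result (S : Scheme.{u}) [QuasiSeparatedSpace S] {I : Type u} [SmallCategory I] [IsCofiltered I]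
    (D : I ⥤ AlgSp.Sp S) (hD : ∀ i, AlgSp.IsAlgSpace (D.obj i))
    (hDa : ∀ (i j : I) (φ : i ⟶ j), AlgSp.IsAffineMor (D.map φ))
    (c : Cone D) (hc : IsLimit c) (i₀ : I)
    (hBqc : AlgSp.IsQuasiCompactSp (D.obj i₀)) (hBqs : AlgSp.IsQuasiSeparatedSp (D.obj i₀))
    (X₀ Y₀ : AlgSp.Space S) (f₀ : X₀.obj ⟶ Y₀.obj) (b₀ : Y₀.obj ⟶ D.obj i₀)
    (hXqc : AlgSp.IsQuasiCompactSp X₀.obj) (hXqs : AlgSp.IsQuasiSeparatedSp X₀.obj)
    (hYqc : AlgSp.IsQuasiCompactSp Y₀.obj) (hYqs : AlgSp.IsQuasiSeparatedSp Y₀.obj)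
    (X Y : AlgSp.Sp S) (f : X ⟶ Y) (pY : Y ⟶ Y₀.obj) (qY : Y ⟶ c.pt)
    (hY : IsPullback pY qY b₀ (c.π.app i₀)) (pX : X ⟶ X₀.obj) (hX : IsPullback pX f f₀ pY)
    (hf : AlgSp.IsSeparatedMor f) :
    ∃ (i : I) (φ : i ⟶ i₀), ∀ (Xi Yi : AlgSp.Sp S) (fi : Xi ⟶ Yi) (pYi : Yi ⟶ Y₀.obj) (qYi : Yi ⟶ D.obj i)
      (_ : IsPullback pYi qYi b₀ (D.map φ)) (pXi : Xi ⟶ X₀.obj) (_ : IsPullback pXi fi f₀ pYi),
      AlgSp.IsSeparatedMor fi := by
  -- the fibre square of `f₀`
  have hZ₀ : AlgSp.IsAlgSpace (pullback f₀ f₀) :=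
    Groth.Agent.S9874.isAlgSpace_of_isPullback Y₀.property.diag X₀.property X₀.property
      (IsPullback.of_hasPullback f₀ f₀)
  let Z₀ : AlgSp.Space S := ⟨pullback f₀ f₀, hZ₀⟩
  have hZ₀qcqs : AlgSp.IsQuasiCompactSp Z₀.obj ∧ AlgSp.IsQuasiSeparatedSp Z₀.obj :=
    Groth.Agent.S9921.result (X := X₀) (Y := Y₀) (Z := X₀) (P := Z₀)
      (ObjectProperty.homMk f₀) (ObjectProperty.homMk f₀)
      (ObjectProperty.homMk (pullback.fst f₀ f₀)) (ObjectProperty.homMk (pullback.snd f₀ f₀))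
      (IsPullback.of_hasPullback f₀ f₀) ⟨hXqc, hXqs⟩ ⟨hYqc, hYqs⟩ ⟨hXqc, hXqs⟩
  have h9900 := Groth.Agent.S9900.result (X := X₀) (Y := Y₀) (ObjectProperty.homMk f₀)
  have hF : AlgSp.RepWith @LocallyOfFiniteType (pullback.diagonal f₀) := h9900.2.1
  have hqc : AlgSp.RepWith @QuasiCompact (pullback.diagonal f₀) := repWith_qc_diagonal f₀ hXqs
  have hqs : AlgSp.RepWith @QuasiSeparated (pullback.diagonal f₀) :=
    Groth.Agent.Lib.Helper12.OpenSub.repWith_mono
      (fun _ _ g hg => by haveI : Mono g := hg; infer_instance) h9900.2.2.1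
  have hlim : Groth.Agent.Lib.H5bLimDesc.SchemeDescendsF
      (@IsClosedImmersion : MorphismProperty Scheme.{u}) @LocallyOfFiniteType := by
    intro J _ _ D' c' hc' _ j₀ _ X₀' Y₀' f₀' g₀' _ _ _ _ hF' X' Y' f' g' qY' qX' hY' hX' hPf
    haveI : LocallyOfFiniteType f₀' := hF'
    haveI : IsClosedImmersion f' := hPf
    exact Groth.Agent.S9189.result D' c' hc' j₀ f₀' g₀' f' g' qY' qX' hY' hX'
  obtain ⟨pZ, sqZ, sqΔ⟩ := Groth.Agent.Lib.H5bLimDesc.diag_squares f₀ b₀ (c.π.app i₀) pY qY hY pX f hX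
  obtain ⟨i, φ, h⟩ := Groth.Agent.Lib.H5bLimDesc.descend_repWith @IsClosedImmersion
    @LocallyOfFiniteType hlim S (Groth.Agent.S10534.result S) D hD hDa c hc i₀ X₀ Z₀
    (pullback.diagonal f₀) ((pullback.snd f₀ f₀ ≫ f₀) ≫ b₀) hZ₀qcqs.1 hF hqc hqs X (pullback f f)
    (pullback.diagonal f) pZ ((pullback.snd f f ≫ f) ≫ qY) sqZ pX sqΔ hf
  refine ⟨i, φ, ?_⟩
  intro Xi Yi fi pYi qYi sqYi pXi sqXi
  obtain ⟨pZi, sqZi, sqΔi⟩ :=
    Groth.Agent.Lib.H5bLimDesc.diag_squares f₀ b₀ (D.map φ) pYi qYi sqYi pXi fi sqXi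
  exact h Xi (pullback fi fi) (pullback.diagonal fi) pZi ((pullback.snd fi fi ≫ fi) ≫ qYi) sqZi pXi
    sqΔi

end Groth.Agent.S10020
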