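import Groth.Statements.S10053
import Mathlib
import Groth.Agent.Lib.H5bUCAff3
import Groth.Agent.Lib.Helper15LocEss
import Groth.Agent.S9947
import Groth.Agent.S9985

set_option autoImplicit false
set_option linter.style.haveILetI false
universe u
open CategoryTheory CategoryTheory.Limits AlgebraicGeometry
open AlgSp

namespace Groth.Agent.S10053

open Groth.Agent.Lib.H5bUCAff

/-- the projection of an affine space over an étale chart is locally of finite presentation. -/
lemma locP_lfp_affπ {S : Scheme.{u}} (Y : AlgSp.Space S) {V : Over S}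
    (p : (AlgSp.yon S).obj V ⟶ Y.obj) (hpe : AlgSp.RepWith @Etale p) (n : ℕ) :
    AlgSp.LocP @LocallyOfFinitePresentation ((AlgSp.yon S).map (affπ V n) ≫ p) := by
  let A : AlgSp.Space S := ⟨(AlgSp.yon S).obj (AffO V n), AlgSp.IsAlgSpace.yon_obj _⟩
  let B : AlgSp.Space S := ⟨(AlgSp.yon S).obj V, AlgSp.IsAlgSpace.yon_obj _⟩
  let f₁ : A ⟶ B := ObjectProperty.homMk ((AlgSp.yon S).map (affπ V n))
  let g₁ : B ⟶ Y := ObjectProperty.homMk p
  have h1 : AlgSp.LocP @LocallyOfFinitePresentation f₁.hom :=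
    Groth.Agent.Lib.Helper15LocEss.locP_yon_map_of_lfp (affπ V n)
      (inferInstanceAs (LocallyOfFinitePresentation (𝔸(ULift.{u} (Fin n); V.left) ↘ V.left)))
  have h2 : AlgSp.LocP @LocallyOfFinitePresentation g₁.hom :=
    Groth.Agent.S9947.locP_of_repWith_etale @LocallyOfFinitePresentation
      (fun g hg => by haveI : Etale g := hg; infer_instance) p hpe
  exact Groth.Agent.S9985.result @LocallyOfFinitePresentation (Or.inr (Or.inl rfl)) f₁ g₁ h1 h2

/-- For a quasi-compact morphism `f : X ⟶ Y` of algebraic spaces over `S` these conditions are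
equivalent: (1) `f` is universally closed; (2) for every `Z ⟶ Y` locally of finite presentation,
with `Z` an algebraic space, the map `|X ×_Y Z| → |Z|` is closed; (3) for some scheme `V` with a
surjective etale morphism `V ⟶ Y`, the maps `|X ×_Y 𝐀^n_V| → |𝐀^n_V|` are closed for all `n`. Stated
as (1) ↔ (2) and (1) ↔ (3). -/
theorem result (S : Scheme.{u}) {X Y : AlgSp.Space S} (f : X ⟶ Y)
    (hqc : AlgSp.IsQuasiCompactMor f.hom) :
    (AlgSp.IsUnivClosedMor f.hom ↔
      ∀ (Z : AlgSp.Space S) (g : Z ⟶ Y), AlgSp.LocP @LocallyOfFinitePresentation g.hom →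
        ∀ (P : AlgSp.Sp S) (fst : P ⟶ X.obj) (snd : P ⟶ Z.obj), IsPullback fst snd f.hom g.hom →
          IsClosedMap (AlgSp.Points.map snd)) ∧
    (AlgSp.IsUnivClosedMor f.hom ↔
      ∃ (V : Over S) (p : (AlgSp.yon S).obj V ⟶ Y.obj), AlgSp.RepWith @Etale p ∧ AlgSp.RepWith @Surjective p ∧
        ∀ (n : ℕ) (P : AlgSp.Sp S) (fst : P ⟶ X.obj)
          (snd : P ⟶ (AlgSp.yon S).obj (Over.mk ((𝔸(ULift.{u} (Fin n); V.left) ↘ V.left) ≫ V.hom))),
          IsPullback fst snd f.hom ((AlgSp.yon S).map (Over.homMk (𝔸(ULift.{u} (Fin n); V.left) ↘ V.left)) ≫ p) →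
            IsClosedMap (AlgSp.Points.map snd)) := by
  refine ⟨⟨fun h Z g _ P fst snd sq => h Z.property g.hom fst snd sq, fun h2 => ?_⟩,
    ⟨fun h => ?_, ?_⟩⟩
  · obtain ⟨V, p, hpe, hps⟩ := Y.property.atlas
    refine isUnivClosedMor_of_affHyp X.property Y.property hqc hpe hps ?_
    intro n P fst snd sq
    exact h2 ⟨(AlgSp.yon S).obj (AffO V n), AlgSp.IsAlgSpace.yon_obj _⟩
      (ObjectProperty.homMk ((AlgSp.yon S).map (affπ V n) ≫ p)) (locP_lfp_affπ Y p hpe n)
      P fst snd sq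
  · obtain ⟨V, p, hpe, hps⟩ := Y.property.atlas
    exact ⟨V, p, hpe, hps, fun n P fst snd sq => h (AlgSp.IsAlgSpace.yon_obj _) _ fst snd sq⟩
  · rintro ⟨V, p, hpe, hps, H⟩
    exact isUnivClosedMor_of_affHyp X.property Y.property hqc hpe hps H

end Groth.Agent.S10053
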