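import Groth.Statements.S10055
import Mathlib
import Groth.Agent.S13210
import Groth.Agent.S9928

set_option autoImplicit false
universe u
open CategoryTheory CategoryTheory.Limits AlgebraicGeometry
open AlgSp

namespace Groth.Agent.S10055

open Opposite Groth.Agent.S13210

lemma mono_of_closed {S : Scheme.{u}} {A B : AlgSp.Sp S} (i : A ⟶ B)
    (hi : AlgSp.RepWith @IsClosedImmersion i) : Mono i := by
  refine Groth.Agent.S9928.mono_of_repWith @IsClosedImmersion ?_ i hi
  intro X Y g hg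
  haveI : IsClosedImmersion g := hg
  infer_instance

/-- Let `(X_i) ⟶ (Y_i)` be a morphism of cofiltered systems of algebraic spaces over `S`, both with
affine transition morphisms, with every `X_i ⟶ Y_i` a closed immersion. Then the induced morphism of
limits (in fppf sheaves) `lim X_i ⟶ lim Y_i` is a closed immersion. -/
theorem result (S : Scheme.{u}) {I : Type u} [SmallCategory I] [IsCofiltered I]
    (DX DY : I ⥤ AlgSp.Sp S) (hDX : ∀ i, AlgSp.IsAlgSpace (DX.obj i)) (hDY : ∀ i, AlgSp.IsAlgSpace (DY.obj i))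
    (hXa : ∀ (i j : I) (φ : i ⟶ j), AlgSp.IsAffineMor (DX.map φ)) (hYa : ∀ (i j : I) (φ : i ⟶ j), AlgSp.IsAffineMor (DY.map φ))
    (τ : DX ⟶ DY) (hτ : ∀ i, AlgSp.RepWith @IsClosedImmersion (τ.app i))
    (cX : Cone DX) (hcX : IsLimit cX) (cY : Cone DY) (hcY : IsLimit cY)
    (g : cX.pt ⟶ cY.pt) (hg : ∀ i, g ≫ cY.π.app i = cX.π.app i ≫ τ.app i) :
    AlgSp.RepWith @IsClosedImmersion g := by
  haveI hmono : ∀ i, Mono (τ.app i) := fun i => mono_of_closed _ (hτ i)
  apply MorphismProperty.relative.of_exists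
  intro T ξ
  let ξi : ∀ i : I, (AlgSp.yon S).obj T ⟶ DY.obj i := fun i => ξ ≫ cY.π.app i
  let Tc : I → Over S := fun i => (hτ i).rep.pullback (ξi i)
  let sndc : ∀ i : I, Tc i ⟶ T := fun i => (hτ i).rep.snd (ξi i)
  let fstc : ∀ i : I, (AlgSp.yon S).obj (Tc i) ⟶ DX.obj i := fun i => (hτ i).rep.fst (ξi i)
  have sqc : ∀ i : I, IsPullback (fstc i) ((AlgSp.yon S).map (sndc i)) (τ.app i) (ξi i) :=
    fun i => (hτ i).rep.isPullback (ξi i)
  have hcl : ∀ i : I, IsClosedImmersion (sndc i).left := fun i => (hτ i).property_snd (ξi i)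
  let J : T.left.IdealSheafData := ⨆ i : I, (sndc i).left.ker
  let V : Over S := Over.mk (J.subschemeι ≫ T.hom)
  let snd : V ⟶ T := Over.homMk J.subschemeι rfl
  -- the lifts `V ⟶ T_i`
  have hlift : ∀ i : I, ∃ l : V ⟶ Tc i, l ≫ sndc i = snd := by
    intro i
    haveI := hcl i
    have hle : (sndc i).left.ker ≤ J.subschemeι.ker := by
      rw [Scheme.IdealSheafData.ker_subschemeι]
      exact le_iSup (fun i : I => (sndc i).left.ker) i
    let l : V.left ⟶ (Tc i).left := IsClosedImmersion.lift (sndc i).left J.subschemeι hle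
    have hl : l ≫ (sndc i).left = J.subschemeι := IsClosedImmersion.lift_fac _ _ hle
    exact ⟨Over.homMk l (by
      show l ≫ (Tc i).hom = J.subschemeι ≫ T.hom
      rw [← hl, Category.assoc, Over.w (sndc i)]), Over.OverMorphism.ext hl⟩
  choose l hl using hlift
  have hcomp : ∀ i : I, ((AlgSp.yon S).map (l i) ≫ fstc i) ≫ τ.app i =
      (AlgSp.yon S).map snd ≫ ξ ≫ cY.π.app i := by
    intro i
    rw [Category.assoc, (sqc i).w, ← Category.assoc, ← CategoryTheory.Functor.map_comp, hl]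
  let cV : Cone DX :=
    { pt := (AlgSp.yon S).obj V
      π :=
        { app := fun i => (AlgSp.yon S).map (l i) ≫ fstc i
          naturality := by
            intro i j φ
            rw [← cancel_mono (τ.app j)]
            show (𝟙 _ ≫ _) ≫ τ.app j = (((AlgSp.yon S).map (l i) ≫ fstc i) ≫ DX.map φ) ≫ τ.app j
            rw [Category.id_comp, hcomp]
            symm
            calc (((AlgSp.yon S).map (l i) ≫ fstc i) ≫ DX.map φ) ≫ τ.app j
                = ((AlgSp.yon S).map (l i) ≫ fstc i) ≫ (DX.map φ ≫ τ.app j) :=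
                  Category.assoc _ _ _
              _ = ((AlgSp.yon S).map (l i) ≫ fstc i) ≫ (τ.app i ≫ DY.map φ) := by
                  rw [τ.naturality]
              _ = (((AlgSp.yon S).map (l i) ≫ fstc i) ≫ τ.app i) ≫ DY.map φ :=
                  (Category.assoc _ _ _).symm
              _ = ((AlgSp.yon S).map snd ≫ ξ ≫ cY.π.app i) ≫ DY.map φ := by rw [hcomp]
              _ = (AlgSp.yon S).map snd ≫ ξ ≫ cY.π.app i ≫ DY.map φ := by
                  simp only [Category.assoc]
              _ = (AlgSp.yon S).map snd ≫ ξ ≫ cY.π.app j := by rw [cY.w] } }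
  let fst : (AlgSp.yon S).obj V ⟶ cX.pt := hcX.lift cV
  have hfstπ : ∀ i, fst ≫ cX.π.app i = (AlgSp.yon S).map (l i) ≫ fstc i := fun i => hcX.fac cV i
  have hfst : fst ≫ g = (AlgSp.yon S).map snd ≫ ξ := by
    apply hcY.hom_ext
    intro i
    rw [Category.assoc, hg, ← Category.assoc, hfstπ, hcomp, Category.assoc]
  refine ⟨V, fst, snd, ?_, ?_⟩
  swap
  · show IsClosedImmersion J.subschemeι
    infer_instance
  apply isPullback_of_yon hfst
  intro W b c' hbc
  obtain ⟨γ, rfl⟩ := (AlgSp.yon S).map_surjective c'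
  have hJle : J ≤ γ.left.ker := by
    apply iSup_le
    intro i
    have hζ : (b ≫ cX.π.app i) ≫ τ.app i = (AlgSp.yon S).map γ ≫ ξi i := by
      rw [Category.assoc, ← hg, ← Category.assoc, hbc, Category.assoc]
    obtain ⟨δ, hδ⟩ := (AlgSp.yon S).map_surjective ((sqc i).lift _ _ hζ)
    have h1 : δ ≫ sndc i = γ := by
      apply (AlgSp.yon S).map_injective
      rw [CategoryTheory.Functor.map_comp, hδ, (sqc i).lift_snd]
    have h2 : δ.left ≫ (sndc i).left = γ.left := congrArg (fun m => m.left) h1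
    rw [← h2]
    exact Scheme.Hom.le_ker_comp _ _
  have hle : J.subschemeι.ker ≤ γ.left.ker := by
    rw [Scheme.IdealSheafData.ker_subschemeι]
    exact hJle
  let a₀ : W.left ⟶ V.left := IsClosedImmersion.lift J.subschemeι γ.left hle
  have ha₀ : a₀ ≫ J.subschemeι = γ.left := IsClosedImmersion.lift_fac _ _ hle
  let a : W ⟶ V := Over.homMk a₀ (by
    show a₀ ≫ J.subschemeι ≫ T.hom = W.hom
    rw [← Category.assoc, ha₀]
    exact Over.w γ)
  have ha : a ≫ snd = γ := Over.OverMorphism.ext ha₀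
  refine ⟨(AlgSp.yon S).map a, ⟨?_, ?_⟩, ?_⟩
  · apply hcX.hom_ext
    intro i
    rw [← cancel_mono (τ.app i)]
    have e1 : (((AlgSp.yon S).map a ≫ fst) ≫ cX.π.app i) ≫ τ.app i =
        (AlgSp.yon S).map γ ≫ ξ ≫ cY.π.app i := by
      calc (((AlgSp.yon S).map a ≫ fst) ≫ cX.π.app i) ≫ τ.app i
          = (AlgSp.yon S).map a ≫ (fst ≫ (cX.π.app i ≫ τ.app i)) := by
            simp only [Category.assoc]
        _ = (AlgSp.yon S).map a ≫ (fst ≫ (g ≫ cY.π.app i)) := by rw [hg]
        _ = (AlgSp.yon S).map a ≫ ((fst ≫ g) ≫ cY.π.app i) := by rw [Category.assoc]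
        _ = (AlgSp.yon S).map a ≫ (((AlgSp.yon S).map snd ≫ ξ) ≫ cY.π.app i) := by rw [hfst]
        _ = ((AlgSp.yon S).map a ≫ (AlgSp.yon S).map snd) ≫ ξ ≫ cY.π.app i := by
            simp only [Category.assoc]
        _ = (AlgSp.yon S).map γ ≫ ξ ≫ cY.π.app i := by
            rw [← CategoryTheory.Functor.map_comp, ha]
    have e2 : (b ≫ cX.π.app i) ≫ τ.app i = (AlgSp.yon S).map γ ≫ ξ ≫ cY.π.app i := by
      calc (b ≫ cX.π.app i) ≫ τ.app i = b ≫ (cX.π.app i ≫ τ.app i) := Category.assoc _ _ _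
        _ = b ≫ (g ≫ cY.π.app i) := by rw [hg]
        _ = (b ≫ g) ≫ cY.π.app i := (Category.assoc _ _ _).symm
        _ = ((AlgSp.yon S).map γ ≫ ξ) ≫ cY.π.app i := by rw [hbc]
        _ = (AlgSp.yon S).map γ ≫ ξ ≫ cY.π.app i := Category.assoc _ _ _
    exact e1.trans e2.symm
  · rw [← CategoryTheory.Functor.map_comp, ha]
  · intro a₂ ⟨_, e2⟩
    obtain ⟨α, rfl⟩ := (AlgSp.yon S).map_surjective a₂
    have e2' : α ≫ snd = γ := (AlgSp.yon S).map_injective (by
      rw [CategoryTheory.Functor.map_comp]; exact e2)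
    have e2l : α.left ≫ J.subschemeι = γ.left := congrArg (fun m => m.left) e2'
    congr 1
    apply Over.OverMorphism.ext
    show α.left = a₀
    rw [← cancel_mono J.subschemeι, e2l, ha₀]

end Groth.Agent.S10055
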