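import Groth.Statements.S10056
import Mathlib
import Groth.Agent.Lib.H5bLimSp2
import Groth.Agent.Lib.Helper12ZarGlue
import Groth.Agent.Lib.H5bSchDense
import Groth.Agent.S10004

set_option autoImplicit false
set_option linter.style.haveILetI false
universe u
open CategoryTheory CategoryTheory.Limits AlgebraicGeometry
open AlgSp

namespace Groth.Agent.S10056

open Groth.Agent.Lib.H5bLimSp

/-- Let `X` be the limit, in fppf sheaves over `S`, of a cofiltered system `(X_i)` of algebraic spaces
over `S` whose transition maps are affine. If each `X_i` is reduced, then `X` is reduced. (The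
published statement does not restate that the transition morphisms are affine; the limit it refers
to is formed under that assumption, which this row states.) -/
theorem result (S : Scheme.{u}) {I : Type u} [SmallCategory I] [IsCofiltered I]
    (D : I ⥤ AlgSp.Sp S) (hD : ∀ i, AlgSp.IsAlgSpace (D.obj i))
    (hDa : ∀ (i j : I) (φ : i ⟶ j), AlgSp.IsAffineMor (D.map φ))
    (c : Cone D) (hc : IsLimit c)
    (hred : ∀ i, AlgSp.IsReducedSp (D.obj i)) : AlgSp.IsReducedSp c.pt := by
  obtain ⟨i₀⟩ := IsCofiltered.nonempty (C := I)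
  obtain ⟨U₀, q₀, hq₀e, hq₀s⟩ := (hD i₀).atlas
  have haff := (Groth.Agent.S10004.result S D hD hDa c hc).2
  have hrep : AlgSp.RepWith @IsAffineHom (c.π.app i₀) := by
    refine Groth.Agent.Lib.Helper12.ZarGlue.repWith_of_affine @IsAffineHom (c.π.app i₀)
      (fun Z hZ g => ?_)
    obtain ⟨W, i, fst, sq, hW⟩ := haff i₀ hZ g
    haveI := hZ
    haveI := hW
    exact ⟨W, i, fst, sq, inferInstance⟩
  obtain ⟨L, ℓ, fstL, sq⟩ := hrep.rep q₀
  refine ⟨L, fstL, MorphismProperty.of_isPullback (P := AlgSp.RepWith @Etale) sq.flip hq₀e,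
    MorphismProperty.of_isPullback (P := AlgSp.RepWith @Surjective) sq.flip hq₀s, ?_⟩
  have hpiece : ∀ a : U₀.left.affineCover.I₀,
      IsReduced (pullback ℓ.left (U₀.left.affineCover.f a)) := by
    intro a
    let A : Over S := Over.mk (U₀.left.affineCover.f a ≫ U₀.hom)
    let jA : A ⟶ U₀ := Over.homMk (U₀.left.affineCover.f a) rfl
    have hA : IsAffine A.left := inferInstanceAs (IsAffine (U₀.left.affineCover.X a))
    have sqa : IsPullback ((AlgSp.yon S).map (pullback.fst ℓ jA))
        ((AlgSp.yon S).map (pullback.snd ℓ jA)) ((AlgSp.yon S).map ℓ) ((AlgSp.yon S).map jA) :=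
      (IsPullback.of_hasPullback ℓ jA).map (AlgSp.yon S)
    have sqb := sqa.paste_horiz sq
    have hjA : AlgSp.RepWith @Etale ((AlgSp.yon S).map jA) :=
      (AlgSp.repWith_yon_map_iff @Etale jA).2 (by
        change Etale (U₀.left.affineCover.f a)
        infer_instance)
    have hge : AlgSp.RepWith @Etale ((AlgSp.yon S).map jA ≫ q₀) :=
      (AlgSp.RepWith @Etale).comp_mem _ _ hjA hq₀e
    have hex : ∀ k : Over i₀, ∃ (W : Over S) (w : W ⟶ A)
        (fst : (AlgSp.yon S).obj W ⟶ D.obj k.left),
        IsPullback fst ((AlgSp.yon S).map w) (D.map k.hom) ((AlgSp.yon S).map jA ≫ q₀) ∧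
          IsAffine W.left :=
      fun k => hDa _ _ k.hom hA ((AlgSp.yon S).map jA ≫ q₀)
    choose W w fst sqk hW using hex
    let P : PbSystem D i₀ ((AlgSp.yon S).map jA ≫ q₀) := ⟨W, w, fst, sqk⟩
    have hWr : ∀ k, IsReduced (W k).left := fun k =>
      Groth.Agent.Lib.H5bSchDense.isReduced_of_etale (hred k.left) (fst k)
        (MorphismProperty.of_isPullback (P := AlgSp.RepWith @Etale) (sqk k).flip hge)
    have hLa : IsReduced (pullback ℓ jA).left :=
      P.isReduced_of_isPullback hc hW hWr (pullback.snd ℓ jA) _ sqb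
    have sqS : IsPullback (pullback.fst ℓ jA).left (pullback.snd ℓ jA).left ℓ.left
        (U₀.left.affineCover.f a) :=
      (IsPullback.of_hasPullback ℓ jA).map (Over.forget S)
    exact isReduced_of_isOpenImmersion sqS.isoPullback.inv
  haveI : ∀ a, IsReduced ((U₀.left.affineCover.pullback₁ ℓ.left).X a) := hpiece
  exact IsReduced.of_openCover _ (U₀.left.affineCover.pullback₁ ℓ.left)

end Groth.Agent.S10056
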