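import Groth.Statements.S10064
import Mathlib
import Groth.Agent.Lib.H5bDvrUC
import Groth.Agent.S10280
import Groth.Agent.S10290
import Groth.Agent.S9960
import Groth.Agent.S9912

set_option autoImplicit false
set_option linter.style.haveILetI false
universe u
open CategoryTheory CategoryTheory.Limits AlgebraicGeometry
open AlgSp

namespace Groth.Agent.S10064

open Groth.Agent.Lib.H5bDvrUC Groth.Agent.Lib.Helper12.Proper

variable {S : Scheme.{u}}

/-- an algebraic space locally of finite type over a locally Noetherian sheaf is locally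
Noetherian. -/
theorem isLocNoethSp_of_locP_lft {X Y : AlgSp.Sp S} (hX : AlgSp.IsAlgSpace X) (f : X ⟶ Y)
    (hf : AlgSp.LocP @LocallyOfFiniteType f) (hY : AlgSp.IsLocNoethSp Y) :
    AlgSp.IsLocNoethSp X := by
  obtain ⟨V, p, hpe, hps, hVN⟩ := hY
  obtain ⟨U, a, hae, has⟩ := hX.atlas
  obtain ⟨W, w, v', sqW⟩ := hpe.1 (a ≫ f)
  obtain ⟨v, rfl⟩ := (AlgSp.yon S).map_surjective v'
  have h1 : Etale w.left := hpe.2 _ _ w sqW
  have h2 : Surjective w.left := hps.2 _ _ w sqW
  have hwe : AlgSp.RepWith @Etale ((AlgSp.yon S).map w ≫ a) :=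
    (AlgSp.RepWith @Etale).comp_mem _ _ ((AlgSp.repWith_yon_map_iff @Etale w).2 h1) hae
  have hws : AlgSp.RepWith @Surjective ((AlgSp.yon S).map w ≫ a) :=
    (AlgSp.RepWith @Surjective).comp_mem _ _ ((AlgSp.repWith_yon_map_iff @Surjective w).2 h2) has
  refine ⟨W, (AlgSp.yon S).map w ≫ a, hwe, hws, ?_⟩
  haveI : LocallyOfFiniteType v.left :=
    hf ((AlgSp.yon S).map w ≫ a) p v hwe hpe (by rw [Category.assoc]; exact sqW.w.symm)
  haveI : IsLocallyNoetherian V.left := hVN
  exact LocallyOfFiniteType.isLocallyNoetherian v.left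

/-- the diagonal has the lifting property as soon as `f` has the uniqueness property. -/
theorem hasLift_diagonal {X Y : AlgSp.Sp S} (f : X ⟶ Y) (sq : AlgSp.ValSq (pullback.diagonal f))
    (huniq : ∀ sq' : AlgSp.ValSq f, IsDiscreteValuationRing sq'.A → sq'.HasUniq)
    (hd : IsDiscreteValuationRing sq.A) : sq.HasLift := by
  obtain ⟨l, hl⟩ : ∃ l, l = sq.bot ≫ pullback.fst f f := ⟨_, rfl⟩
  obtain ⟨l', hl'⟩ : ∃ l', l' = sq.bot ≫ pullback.snd f f := ⟨_, rfl⟩
  have h1 : (AlgSp.yon S).map sq.j ≫ l = sq.top := by
    rw [hl, ← Category.assoc, ← sq.comm, Category.assoc, pullback.diagonal_fst, Category.comp_id]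
  have h1' : (AlgSp.yon S).map sq.j ≫ l' = sq.top := by
    rw [hl', ← Category.assoc, ← sq.comm, Category.assoc, pullback.diagonal_snd, Category.comp_id]
  have h2 : l' ≫ f = l ≫ f := by
    rw [hl, hl', Category.assoc, Category.assoc, pullback.condition]
  let sq' : AlgSp.ValSq f :=
    { A := sq.A, K := sq.K, str := sq.str, top := sq.top, bot := l ≫ f,
      comm := by rw [← Category.assoc, h1] }
  have hll : l = l' := huniq sq' hd l l' h1 rfl h1' h2
  refine ⟨l, h1, ?_⟩
  apply pullback.hom_ext
  · rw [Category.assoc, pullback.diagonal_fst, Category.comp_id, hl]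
  · rw [Category.assoc, pullback.diagonal_snd, Category.comp_id, hll, hl']

/-- Let `f : X ⟶ Y` be quasi-separated and locally of finite type with `Y` locally Noetherian. Then `f`
is separated if and only if every valuative test square for `f` whose valuation ring is a discrete
valuation ring admits at most one dotted arrow. (The published statement also lists the uniqueness
part of the valuative criterion, over arbitrary valuation rings, as an equivalent condition, and a
refinement to squares hitting a codimension-0 point; neither is included in this row.) -/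
theorem result (S : Scheme.{u}) {X Y : AlgSp.Space S} (f : X ⟶ Y)
    (hqs : AlgSp.IsQuasiSeparatedMor f.hom) (hft : AlgSp.LocP @LocallyOfFiniteType f.hom) (hY : AlgSp.IsLocNoethSp Y.obj) :
    AlgSp.IsSeparatedMor f.hom ↔ ∀ sq : AlgSp.ValSq f.hom, IsDiscreteValuationRing sq.A → sq.HasUniq := by
  constructor
  · intro hsep sq _
    exact Groth.Agent.S10290.result f hsep sq
  · intro huniq
    have hXX : AlgSp.IsAlgSpace (pullback f.hom f.hom) :=
      Groth.Agent.S9874.isAlgSpace_of_isPullback Y.property.diag X.property X.property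
        (IsPullback.of_hasPullback _ _)
    let XX : AlgSp.Space S := ⟨pullback f.hom f.hom, hXX⟩
    let Δ : X ⟶ XX := ObjectProperty.homMk (pullback.diagonal f.hom)
    have hΔlfp := (Groth.Agent.S9960.result f hft).1
    have hΔft : AlgSp.IsFiniteTypeMor Δ.hom :=
      ⟨fun U V a b h ha hb e => by
          haveI : LocallyOfFinitePresentation h.left := hΔlfp a b h ha hb e
          infer_instance,
        Groth.Agent.S9912.isQuasiCompactMor_of_repWith X.property hXX.diag _ hqs⟩
    have hXXN : AlgSp.IsLocNoethSp XX.obj :=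
      isLocNoethSp_of_locP_lft hXX (pullback.snd f.hom f.hom ≫ f.hom)
        (locP_lft_comp X.property Y.property _ _
          (locP_lft_baseChange X.property Y.property X.property
            (IsPullback.of_hasPullback f.hom f.hom) hft) hft) hY
    have huc : AlgSp.IsUnivClosedMor Δ.hom :=
      isUnivClosedMor_of_dvr_liftExt Δ hΔft hXXN
        (fun sq hd => hasLiftExt_of_hasLift sq (hasLift_diagonal f.hom sq huniq hd))
    exact Groth.Agent.S10280.isSeparatedMor_of_isUnivClosedMor_diagonal f huc

end Groth.Agent.S10064
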