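import Groth.Statements.S10065
import Mathlib
import Groth.Agent.Lib.H5bDvrLift
import Groth.Agent.Lib.H5bDvrUC
import Groth.Agent.S10064
import Groth.Agent.S10290

set_option autoImplicit false
set_option linter.style.haveILetI false
universe u
open CategoryTheory CategoryTheory.Limits AlgebraicGeometry
open AlgSp

namespace Groth.Agent.S10065

open Groth.Agent.Lib.H5bDvrUC Groth.Agent.Lib.H5bDvrLift Groth.Agent.Lib.Helper12.Proper
open Groth.Agent.Lib.H5bUCAff

variable {S : Scheme.{u}}

/-- a proper morphism has the lifting property for valuative squares over discrete valuation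
rings, without extension. -/
theorem hasLift_of_isProperMor {X Y : AlgSp.Space S} (f : X ⟶ Y) (hf : AlgSp.IsProperMor f.hom)
    (sq : AlgSp.ValSq f.hom) (hd : IsDiscreteValuationRing sq.A) : sq.HasLift := by
  have sqP := IsPullback.of_hasPullback f.hom sq.bot
  have hP : AlgSp.IsAlgSpace (pullback f.hom sq.bot) :=
    Groth.Agent.S9874.isAlgSpace_of_isPullback Y.property.diag X.property
      (AlgSp.IsAlgSpace.yon_obj _) sqP
  obtain ⟨l₀, hl1, hl2⟩ := exists_section (K := sq.K) sq.str (pullback.snd f.hom sq.bot)
    (pullback.lift sq.top ((AlgSp.yon S).map sq.j) sq.comm) hP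
    (isSeparatedMor_baseChange sqP hf.1)
    (locP_lft_baseChange X.property Y.property (AlgSp.IsAlgSpace.yon_obj _) sqP hf.2.1.1)
    (isUnivClosedMor_baseChange sqP hf.2.2) (pullback.lift_snd _ _ _)
  refine ⟨l₀ ≫ pullback.fst f.hom sq.bot, ?_, ?_⟩
  · have h := congrArg (· ≫ pullback.fst f.hom sq.bot) hl2
    simp only [Category.assoc, pullback.lift_fst] at h
    exact h
  · rw [Category.assoc, pullback.condition, ← Category.assoc, hl1, Category.id_comp]

/-- Let `f : X ⟶ Y` be quasi-separated and of finite type with `Y` locally Noetherian. Then `f` is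
proper if and only if every valuative test square for `f` whose valuation ring is a discrete
valuation ring admits exactly one dotted arrow (a lift `Spec A ⟶ X`, with no extension of `A`). (The
published statement also lists as equivalent conditions the valuative criterion and the same
unique-lift condition over arbitrary valuation rings, and a refinement to squares hitting a
codimension-0 point; this row states only the discrete valuation ring form.) -/
theorem result (S : Scheme.{u}) {X Y : AlgSp.Space S} (f : X ⟶ Y)
    (hqs : AlgSp.IsQuasiSeparatedMor f.hom) (hft : AlgSp.IsFiniteTypeMor f.hom) (hY : AlgSp.IsLocNoethSp Y.obj) :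
    AlgSp.IsProperMor f.hom ↔ ∀ sq : AlgSp.ValSq f.hom, IsDiscreteValuationRing sq.A → sq.HasLift ∧ sq.HasUniq := by
  constructor
  · intro hp sq hd
    exact ⟨hasLift_of_isProperMor f hp sq hd, Groth.Agent.S10290.result f hp.1 sq⟩
  · intro h
    refine ⟨(Groth.Agent.S10064.result S f hqs hft.1 hY).2 (fun sq hd => (h sq hd).2), hft, ?_⟩
    exact isUnivClosedMor_of_dvr_liftExt f hft hY
      (fun sq hd => hasLiftExt_of_hasLift sq (h sq hd).1)

end Groth.Agent.S10065
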