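import Groth.Statements.S10100
import Mathlib
import Groth.Agent.Lib.H5bLqfMain
import Groth.Agent.Lib.Helper12Proper

set_option autoImplicit false
universe u
open CategoryTheory CategoryTheory.Limits AlgebraicGeometry
open AlgSp

namespace Groth.Agent.S10100

/-- Let `F` be a presheaf of sets on schemes over `S`, `X` a scheme over `S` and `h_X ⟶ F` a map which
is representable by algebraic spaces and locally quasi-finite. Then `h_X ⟶ F` is representable by
schemes. -/
theorem result (S : Scheme.{u}) (F : AlgSp.PSp S) (X : Over S)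
    (p : (AlgSp.pyon S).obj X ⟶ F)
    (hp : AlgSp.RepBySpWith (AlgSp.LocP (@LocallyQuasiFinite ⊓ @LocallyOfFiniteType)) p) :
    (AlgSp.pyon S).relativelyRepresentable p := by
  intro T g
  have sq := IsPullback.of_hasPullback p g
  obtain ⟨hsh, hAlg, hQ⟩ := hp g (pullback.fst p g) (pullback.snd p g) sq
  let P : AlgSp.Sp S := ⟨pullback p g, hsh⟩
  let fst' : P ⟶ (AlgSp.yon S).obj X := ObjectProperty.homMk (pullback.fst p g)
  let snd' : P ⟶ (AlgSp.yon S).obj T := ObjectProperty.homMk (pullback.snd p g)
  let m : P ⟶ (AlgSp.yon S).obj (X ⨯ T) :=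
    prod.lift fst' snd' ≫ inv (prodComparison (AlgSp.yon S) X T)
  have hm1 : m ≫ (AlgSp.yon S).map prod.fst = fst' := by
    simp only [m, Category.assoc, inv_prodComparison_map_fst, prod.lift_fst]
  have hm2 : m ≫ (AlgSp.yon S).map prod.snd = snd' := by
    simp only [m, Category.assoc, inv_prodComparison_map_snd, prod.lift_snd]
  haveI : Mono m := by
    constructor
    intro Z x y hxy
    have h1 : x ≫ fst' = y ≫ fst' := by rw [← hm1, ← Category.assoc, hxy, Category.assoc]
    have h2 : x ≫ snd' = y ≫ snd' := by rw [← hm2, ← Category.assoc, hxy, Category.assoc]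
    apply (sheafToPresheaf _ _).map_injective
    apply sq.hom_ext
    · exact congrArg (fun k => (sheafToPresheaf _ _).map k) h1
    · exact congrArg (fun k => (sheafToPresheaf _ _).map k) h2
  have hsep : AlgSp.IsSeparatedMor m := Groth.Agent.Lib.Helper12.Proper.isSeparatedMor_of_mono m
  have hqf : AlgSp.LocP (@LocallyQuasiFinite ⊓ @LocallyOfFiniteType) m := by
    intro U V a b h hae hbe hcomm
    obtain ⟨b', rfl⟩ := (AlgSp.yon S).map_surjective b
    have h3 := hQ a (𝟙 _) (h ≫ b' ≫ prod.snd) hae (AlgSp.repWith_id _ T) (by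
      rw [Category.comp_id, Functor.map_comp, Functor.map_comp, ← Category.assoc, ← hcomm,
        Category.assoc, hm2])
    constructor
    · haveI : LocallyQuasiFinite (h.left ≫ (b' ≫ prod.snd).left) := h3.1
      exact LocallyQuasiFinite.of_comp h.left (b' ≫ prod.snd).left
    · haveI : LocallyOfFiniteType (h.left ≫ (b' ≫ prod.snd).left) := h3.2
      exact locallyOfFiniteType_of_comp h.left (b' ≫ prod.snd).left
  have hrep := Groth.Agent.Lib.H5bLqf.isRepresentable_of_lqf_separated (X ⨯ T) ⟨P, hAlg⟩ m hqf hsep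
  obtain ⟨V, ⟨r⟩⟩ := hrep.has_representation
  let e : (AlgSp.pyon S).obj V ≅ pullback p g :=
    (sheafToPresheaf _ _).mapIso (AlgSp.isoOfRepresentableBy (F := P) r)
  obtain ⟨w, hw⟩ := (AlgSp.pyon S).map_surjective (e.hom ≫ pullback.snd p g)
  refine ⟨V, w, e.hom ≫ pullback.fst p g, ?_⟩
  rw [hw]
  exact IsPullback.of_iso sq e.symm (Iso.refl _) (Iso.refl _) (Iso.refl _) (by simp) (by simp)
    (by simp) (by simp)

end Groth.Agent.S10100
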