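import Groth.Statements.S10101
import Mathlib
import Groth.Agent.Lib.H5bBootB
import Groth.Agent.Lib.Helper12SrcLocal
import Groth.Agent.S9906

set_option autoImplicit false
universe u
open CategoryTheory CategoryTheory.Limits AlgebraicGeometry
open AlgSp

namespace Groth.Agent.S10101

/-- Let `F` be an fppf sheaf of sets over `S` and `X ⟶ F` a map from an algebraic space that is
surjective, etale and representable by algebraic spaces. It follows that `F` is an algebraic space.
(The published statement also gives an equivalent set of conditions in which the diagonal of `F` is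
representable by algebraic spaces; this row uses the form with the map representable by algebraic
spaces.) -/
theorem result (S : Scheme.{u}) (F : AlgSp.Sp S) (X : AlgSp.Space S)
    (p : X.obj ⟶ F) (hp : AlgSp.RepBySpWith (AlgSp.IsSurjectiveMor ⊓ AlgSp.IsEtaleMor) p.hom) :
    AlgSp.IsAlgSpace F := by
  have hp' : AlgSp.RepBySpWith (AlgSp.IsSurjectiveMor ⊓ AlgSp.LocP @Flat ⊓
      AlgSp.LocP @LocallyOfFinitePresentation) p.hom := by
    intro T ξ F' fst snd sq
    obtain ⟨hsh, hAlg, hsurj, het⟩ := hp ξ fst snd sq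
    have hloc := Groth.Agent.Lib.Helper12.SrcLocal.locP_etale_of_isEtaleMor _ het
    exact ⟨hsh, hAlg, ⟨hsurj, Groth.Agent.Lib.Helper12.LargestOpen.locP_mono
      (fun _ _ g hg => by haveI : Etale g := hg; infer_instance) hloc⟩,
      Groth.Agent.Lib.Helper12.LargestOpen.locP_mono
      (fun _ _ g hg => by haveI : Etale g := hg; infer_instance) hloc⟩
  have hdiag := Groth.Agent.Lib.H5bBoot.representable_diag_of_fppf_cover F X p hp'
  obtain ⟨U, a, hae, has⟩ := X.property.atlas
  have key : ∀ {T : Over S} (ξ : (AlgSp.yon S).obj T ⟶ F), ∃ (V : Over S)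
      (fst : (AlgSp.yon S).obj V ⟶ (AlgSp.yon S).obj U) (v : V ⟶ T)
      (_ : IsPullback fst ((AlgSp.yon S).map v) (a ≫ p) ξ), Etale v.left ∧ Surjective v.left := by
    intro T ξ
    have hrep : AlgSp.Representable (a ≫ p) :=
      Functor.relativelyRepresentable.of_diag hdiag (a ≫ p)
    obtain ⟨V, v, fst, sqV⟩ := hrep ξ
    have sqX := IsPullback.of_hasPullback p ξ
    obtain ⟨hXT, hsurj, het⟩ :=
      (AlgSp.repBySpWith_hom_iff _ p).1 hp ξ (pullback.fst p ξ) (pullback.snd p ξ) sqX
    let φ : (AlgSp.yon S).obj V ⟶ pullback p ξ :=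
      pullback.lift (fst ≫ a) ((AlgSp.yon S).map v) (by rw [Category.assoc, sqV.w])
    have hφ1 : φ ≫ pullback.fst p ξ = fst ≫ a := pullback.lift_fst _ _ _
    have hφ2 : φ ≫ pullback.snd p ξ = (AlgSp.yon S).map v := pullback.lift_snd _ _ _
    have big : IsPullback (φ ≫ pullback.snd p ξ) fst ξ (a ≫ p) := by
      rw [hφ2]
      exact sqV.flip
    have sqφ : IsPullback φ fst (pullback.fst p ξ) a := IsPullback.of_right big hφ1 sqX.flip
    have hφe : AlgSp.RepWith @Etale φ :=
      MorphismProperty.of_isPullback (P := AlgSp.RepWith @Etale) sqφ.flip hae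
    have hφs : AlgSp.RepWith @Surjective φ :=
      MorphismProperty.of_isPullback (P := AlgSp.RepWith @Surjective) sqφ.flip has
    have hve : AlgSp.RepWith @Etale ((AlgSp.yon S).map v) := by
      rw [← hφ2]
      exact het φ hφe
    refine ⟨V, fst, v, sqV, (AlgSp.repWith_yon_map_iff _ _).1 hve, ⟨fun t => ?_⟩⟩
    obtain ⟨x, hx⟩ := hsurj (AlgSp.Points.schemeHomeo T t)
    obtain ⟨y, hy⟩ := Groth.Agent.S9906.surjective_map_of_repWith φ hφs x
    obtain ⟨v₀, rfl⟩ := (AlgSp.Points.schemeHomeo V).surjective y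
    refine ⟨v₀, ?_⟩
    apply (AlgSp.Points.schemeHomeo T).injective
    rw [← AlgSp.Points.map_yon_map_apply, ← hφ2, AlgSp.Points.map_comp, hy, hx]
  refine ⟨hdiag, U, a ≫ p, ?_, ?_⟩
  · refine MorphismProperty.relative.of_exists (fun T ξ => ?_)
    obtain ⟨V, fst, v, sqV, h1, h2⟩ := key ξ
    exact ⟨V, fst, v, sqV, h1⟩
  · refine MorphismProperty.relative.of_exists (fun T ξ => ?_)
    obtain ⟨V, fst, v, sqV, h1, h2⟩ := key ξ
    exact ⟨V, fst, v, sqV, h2⟩

end Groth.Agent.S10101
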