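import Groth.Statements.S10105
import Mathlib
import Groth.Agent.Lib.H5bBootLoc
import Groth.Agent.Lib.Helper15LocEss

set_option autoImplicit false
universe u
open CategoryTheory CategoryTheory.Limits AlgebraicGeometry
open AlgSp

namespace Groth.Agent.S10105

/-- Let `F` be an fppf sheaf of sets over `S` and `{S_i ⟶ S}` an fppf covering. If every `h_{S_i} × F`
is an algebraic space and the coproduct `∐ h_{S_i} × F` (in sheaves) is an algebraic space, then `F`
is an algebraic space: being an algebraic space is fppf local on the base. -/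
theorem result (S : Scheme.{u}) (F : AlgSp.Sp S) {ι : Type u} (Si : ι → Over S)
    (hfl : ∀ i, Flat (Si i).hom) (hfp : ∀ i, LocallyOfFinitePresentation (Si i).hom)
    (hsurj : ∀ x : ↥S, ∃ (i : ι) (y : ↥(Si i).left), (Si i).hom.base y = x)
    (halg : ∀ i, AlgSp.IsAlgSpace ((AlgSp.yon S).obj (Si i) ⨯ F))
    (c : Cofan (fun i => (AlgSp.yon S).obj (Si i) ⨯ F)) (hc : IsColimit c) (hcop : AlgSp.IsAlgSpace c.pt) :
    AlgSp.IsAlgSpace F := by
  have hpt : IsTerminal ((AlgSp.yon S).obj (Over.mk (𝟙 S))) :=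
    IsTerminal.isTerminalObj (AlgSp.yon S) _ Over.mkIdTerminal
  let X : AlgSp.Space S := ⟨(AlgSp.yon S).obj (Over.mk (𝟙 S)), AlgSp.IsAlgSpace.yon_obj _⟩
  let Xi : ι → AlgSp.Space S := fun i => ⟨(AlgSp.yon S).obj (Si i), AlgSp.IsAlgSpace.yon_obj _⟩
  obtain ⟨gi, hgi⟩ : ∃ gi : ∀ i, Si i ⟶ Over.mk (𝟙 S), ∀ i, (gi i).left = (Si i).hom :=
    ⟨fun i => Over.homMk (Si i).hom, fun i => rfl⟩
  have hcov : AlgSp.IsFppfCover (fun i => (Xi i).obj) (fun i => (AlgSp.yon S).map (gi i)) := by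
    refine ⟨fun i => ⟨Groth.Agent.Lib.Helper15LocEss.locP_yon_map_of_flat (gi i)
      (by rw [hgi]; exact hfl i), Groth.Agent.Lib.Helper15LocEss.locP_yon_map_of_lfp (gi i)
      (by rw [hgi]; exact hfp i)⟩, fun x => ?_⟩
    obtain ⟨i, y, hy⟩ := hsurj (AlgSp.Points.toScheme (Over.mk (𝟙 S)) x)
    refine ⟨i, AlgSp.Points.ofScheme (Si i) y, ?_⟩
    have h1 := Groth.Agent.Lib.Helper15LocEss.points_map_yon_ofScheme (gi i) y
    have h2 : (gi i).left y = AlgSp.Points.toScheme (Over.mk (𝟙 S)) x := by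
      rw [hgi]; exact hy
    rw [h2, AlgSp.Points.ofScheme_toScheme] at h1
    exact h1
  refine Groth.Agent.Lib.H5bBootLoc.isAlgSpace_of_fppf_cover X Xi
    (fun i => (AlgSp.yon S).map (gi i)) hcov F (hpt.from F) (fun i P fst snd sq => ?_)
  have hprod : IsPullback (prod.snd : (AlgSp.yon S).obj (Si i) ⨯ F ⟶ F) prod.fst (hpt.from F)
      ((AlgSp.yon S).map (gi i)) := by
    have h0 : IsPullback (prod.fst : (AlgSp.yon S).obj (Si i) ⨯ F ⟶ _) prod.snd (hpt.from _)
        (hpt.from _) := IsPullback.of_is_product' (prodIsProd _ _) hpt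
    have h1 : (AlgSp.yon S).map (gi i) = hpt.from _ := hpt.hom_ext _ _
    rw [h1]
    exact h0.flip
  exact (halg i).of_iso (sq.isoIsPullback _ _ hprod).symm

end Groth.Agent.S10105
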