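import Groth.Statements.S10108
import Mathlib
import Groth.Agent.Lib.H5bEtFppf
import Groth.Agent.S9868
import Groth.Agent.S9869

set_option autoImplicit false
set_option linter.style.haveILetI false
universe u
open CategoryTheory CategoryTheory.Limits AlgebraicGeometry
open AlgSp

namespace Groth.Agent.S10108

/-- A presheaf of sets on schemes over `S` which is a sheaf for the etale topology, has diagonal
representable by schemes, and receives a representable surjective etale map from a scheme over `S`,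
is an algebraic space (in particular an fppf sheaf): algebraic spaces defined with the etale
topology are the same as with the fppf topology. -/
theorem result (S : Scheme.{u}) (F : AlgSp.PSp S)
    (h1 : Presheaf.IsSheaf (QuotSh.J Scheme.etalePrecoverage S) F)
    (h2 : (AlgSp.pyon S).relativelyRepresentable (Limits.diag F))
    (U : Over S) (p : (AlgSp.pyon S).obj U ⟶ F)
    (h3 : (MorphismProperty.inverseImage @Etale (Over.forget S)).relative (AlgSp.pyon S) p ∧
      (MorphismProperty.inverseImage @Surjective (Over.forget S)).relative (AlgSp.pyon S) p) :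
    AlgSp.IsAlgSpaceP F := by
  obtain ⟨R, s, t', hk⟩ := h3.1.rep p
  obtain ⟨t, rfl⟩ := (AlgSp.pyon S).map_surjective t'
  have hs_et : Etale s.left := h3.1.property _ _ _ hk
  have ht_et : Etale t.left := h3.1.property _ _ _ hk.flip
  have hrel : ∀ (T : Over S) (a b : T ⟶ U), (∃ r : T ⟶ R, r ≫ t = a ∧ r ≫ s = b) ↔
      (AlgSp.pyon S).map a ≫ p = (AlgSp.pyon S).map b ≫ p := by
    intro T a b
    constructor
    · rintro ⟨r, rfl, rfl⟩
      rw [Functor.map_comp, Functor.map_comp, Category.assoc, Category.assoc, hk.w]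
    · intro h
      obtain ⟨r, hr⟩ := (AlgSp.pyon S).map_surjective (hk.lift _ _ h)
      refine ⟨r, (AlgSp.pyon S).map_injective ?_, (AlgSp.pyon S).map_injective ?_⟩
      · rw [Functor.map_comp, hr, hk.lift_fst]
      · rw [Functor.map_comp, hr, hk.lift_snd]
  have heq : AlgSp.IsEtaleEqvRel s t := by
    refine ⟨⟨fun T r r' h_t h_s => ?_, fun T => ⟨fun a => ?_, fun {a b} h => ?_,
      fun {a b c} h h' => ?_⟩⟩, hs_et, ht_et⟩
    · apply (AlgSp.pyon S).map_injective
      apply hk.hom_ext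
      · rw [← Functor.map_comp, ← Functor.map_comp, h_t]
      · rw [← Functor.map_comp, ← Functor.map_comp, h_s]
    · exact (hrel T a a).2 rfl
    · exact (hrel T b a).2 ((hrel T a b).1 h).symm
    · exact (hrel T a c).2 (((hrel T a b).1 h).trans ((hrel T b c).1 h'))
  have hF' := Groth.Agent.S9868.result S s t heq
  have hpres := Groth.Agent.S9869.result S s t heq hF'
  obtain ⟨F', hF'def⟩ : ∃ F' : AlgSp.Sp S, F' = QuotSh.quot Scheme.fppfPrecoverage s t := ⟨_, rfl⟩
  rw [← hF'def] at hF'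
  obtain ⟨π', hπ'⟩ : ∃ π' : (AlgSp.yon S).obj U ⟶ QuotSh.quot Scheme.fppfPrecoverage s t,
      π' = (QuotSh.repIsoUliftYoneda Scheme.fppfPrecoverage U).inv ≫
        QuotSh.quotπ Scheme.fppfPrecoverage s t := ⟨_, rfl⟩
  rw [← hπ'] at hpres
  let Fe : Groth.Agent.Lib.H5bEtFppf.SpE S := ⟨F, h1⟩
  let pe : Groth.Agent.Lib.H5bEtFppf.toEt ((AlgSp.yon S).obj U) ⟶ Fe := ⟨p⟩
  have hkE : IsPullback (Groth.Agent.Lib.H5bEtFppf.toEtMap ((AlgSp.yon S).map t))
      (Groth.Agent.Lib.H5bEtFppf.toEtMap ((AlgSp.yon S).map s)) pe pe := by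
    have hw : Groth.Agent.Lib.H5bEtFppf.toEtMap ((AlgSp.yon S).map t) ≫ pe =
        Groth.Agent.Lib.H5bEtFppf.toEtMap ((AlgSp.yon S).map s) ≫ pe := by
      apply Sheaf.hom_ext
      exact hk.w
    exact IsPullback.of_map (sheafToPresheaf (Groth.Agent.Lib.H5bEtFppf.Je S) (Type (u + 1))) hw hk
  have hkE' := Groth.Agent.Lib.H5bEtFppf.isPullback_toEtMap hpres.isPullback
  haveI : Epi pe := Groth.Agent.Lib.H5bEtFppf.epi_of_lift pe (fun T g => by
    obtain ⟨T', c, l, sq⟩ := h3.1.rep g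
    exact ⟨T', c, l, h3.1.property _ _ _ sq, h3.2.property _ _ _ sq, sq.w⟩)
  haveI : Epi (Groth.Agent.Lib.H5bEtFppf.toEtMap π') :=
    Groth.Agent.Lib.H5bEtFppf.epi_of_lift _ (fun T g => by
      obtain ⟨T', c, l, sq⟩ := hpres.etale.rep
        (⟨g⟩ : (AlgSp.yon S).obj T ⟶ QuotSh.quot Scheme.fppfPrecoverage s t)
      refine ⟨T', c, l.hom, hpres.etale.property _ _ _ sq, hpres.surjective.property _ _ _ sq, ?_⟩
      exact Sheaf.hom_ext_iff.1 sq.w)
  obtain ⟨e, -⟩ := Groth.Agent.Lib.H5bEtFppf.exists_iso_of_kernelPair _ _ pe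
    (Groth.Agent.Lib.H5bEtFppf.toEtMap π') hkE hkE'
  have eP : F ≅ (QuotSh.quot Scheme.fppfPrecoverage s t).obj :=
    (sheafToPresheaf (Groth.Agent.Lib.H5bEtFppf.Je S) (Type (u + 1))).mapIso e
  rw [hF'def] at hF'
  exact AlgSp.IsAlgSpaceP.of_iso ((AlgSp.isAlgSpaceP_obj_iff _).2 hF') eP.symm

end Groth.Agent.S10108
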