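import Groth.Statements.S10112
import Mathlib
import Groth.Agent.S10102
import Groth.Agent.S10107
import Groth.Agent.Lib.H5bFreeQ
import Groth.Agent.Lib.H5bEqvRelSp

set_option autoImplicit false
universe u
open CategoryTheory CategoryTheory.Limits AlgebraicGeometry MonoidalCategory
open AlgSp

namespace Groth.Agent.S10112

lemma isIso_lift_of_isPullback {C : Type*} [Category C] {P X Y Z : C} {f : X ⟶ Z} {g : Y ⟶ Z}
    [HasPullback f g] {fst : P ⟶ X} {snd : P ⟶ Y} (h : IsPullback fst snd f g)
    (w : fst ≫ f = snd ≫ g) : IsIso (pullback.lift fst snd w) := by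
  have h3 : pullback.lift fst snd w = h.isoPullback.hom := by
    apply pullback.hom_ext
    · rw [pullback.lift_fst, IsPullback.isoPullback_hom_fst]
    · rw [pullback.lift_snd, IsPullback.isoPullback_hom_snd]
  rw [h3]
  infer_instance

/-- Let `G` be a group algebraic space over an algebraic space `B`, flat and locally of finite
presentation over `B`, acting freely on an algebraic space `X` over `B`. Then `X/G` is an algebraic
space, the quotient map `X ⟶ X/G` is flat, surjective and locally of finite presentation, and `(g,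
x) ↦ (g x, x)` is an isomorphism `G ×_B X ⟶ X ×_{X/G} X`, so that `X` is an fppf `G`-torsor over
`X/G`. -/
theorem result (S : Scheme.{u}) (B : AlgSp.Sp S) (hB : AlgSp.IsAlgSpace B)
    (G X : Over B) [GrpObj G] (hG : AlgSp.IsAlgSpace G.left) (hX : AlgSp.IsAlgSpace X.left)
    (a : AlgSp.GAction G X) (ha : a.IsFree)
    (hfl : AlgSp.LocP @Flat G.hom ∧ AlgSp.LocP @LocallyOfFinitePresentation G.hom) :
    AlgSp.IsAlgSpace a.quot ∧
      (AlgSp.IsSurjectiveMor a.quotπ ∧ AlgSp.LocP @Flat a.quotπ ∧ AlgSp.LocP @LocallyOfFinitePresentation a.quotπ) ∧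
      IsIso (pullback.lift a.act.left (CartesianMonoidalCategory.snd G X).left
        (AlgSp.quotSp_condition (CartesianMonoidalCategory.snd G X).left a.act.left).symm :
          (G ⊗ X).left ⟶ pullback a.quotπ a.quotπ) := by
  have hE := Groth.Agent.Lib.H5bFreeQ.isEqvRelSp a ha
  have hGX : AlgSp.IsAlgSpace (G ⊗ X).left :=
    Groth.Agent.Lib.H5bFreeQ.isAlgSpace_tensor (G := G) (X := X) hB hG hX
  have hs : AlgSp.LocP @Flat (CartesianMonoidalCategory.snd G X).left ∧
      AlgSp.LocP @LocallyOfFinitePresentation (CartesianMonoidalCategory.snd G X).left :=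
    ⟨Groth.Agent.Lib.H5bFreeQ.locP_snd Groth.Agent.Lib.Helper12.LocPCases.good_flat hB hG hX hfl.1,
      Groth.Agent.Lib.H5bFreeQ.locP_snd Groth.Agent.Lib.Helper12.LocPCases.good_lfp hB hG hX hfl.2⟩
  have ht : AlgSp.LocP @Flat a.act.left ∧ AlgSp.LocP @LocallyOfFinitePresentation a.act.left :=
    ⟨Groth.Agent.Lib.H5bFreeQ.locP_act a Groth.Agent.Lib.Helper12.LocPCases.good_flat hB hG hX hfl.1,
      Groth.Agent.Lib.H5bFreeQ.locP_act a Groth.Agent.Lib.Helper12.LocPCases.good_lfp hB hG hX hfl.2⟩
  have hQ : AlgSp.IsAlgSpace (AlgSp.quotSp (CartesianMonoidalCategory.snd G X).left a.act.left) :=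
    Groth.Agent.S10102.result S _ _ hGX hX _ _ hE hs ht
  refine ⟨hQ, Groth.Agent.S10107.result S _ _ hGX hX _ _ hE hs ht hQ, ?_⟩
  have hk := (Groth.Agent.Lib.H5bEqvRelSp.isKernelPair_quotSpπ hE).flip
  have hk' : IsPullback a.act.left (CartesianMonoidalCategory.snd G X).left a.quotπ a.quotπ := hk
  exact isIso_lift_of_isPullback hk' _

end Groth.Agent.S10112
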