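import Groth.Statements.S10116
import Mathlib
import Groth.Agent.S9902
import Groth.Agent.S9912

set_option autoImplicit false
universe u
open CategoryTheory CategoryTheory.Limits AlgebraicGeometry MonoidalCategory MonObj
open AlgSp

namespace Groth.Agent.S10116

open CartesianMonoidalCategory MonObj in
/-- In a cartesian monoidal category, the diagonal of a group object is the base change of its
unit along the division map. -/
lemma isPullback_diag_div {C : Type*} [Category C] [CartesianMonoidalCategory C] (G : C)
    [GrpObj G] :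
    IsPullback (lift (𝟙 G) (𝟙 G)) (toUnit G) (fst G G * (snd G G)⁻¹) η[G] := by
  have hη : ∀ {T : C} (t : T ⟶ 𝟙_ C), t ≫ η[G] = (1 : T ⟶ G) := by
    intro T t
    rw [CategoryTheory.Hom.one_def]
    congr 1
    exact toUnit_unique _ _
  refine ⟨⟨?_⟩, ⟨PullbackCone.IsLimit.mk _ (fun s => s.fst ≫ fst G G) ?_ ?_ ?_⟩⟩
  · rw [hη, MonObj.comp_mul, GrpObj.comp_inv, lift_fst, lift_snd, mul_inv_cancel]
  · intro s
    have h := s.condition
    rw [hη, MonObj.comp_mul, GrpObj.comp_inv, mul_inv_eq_one] at h
    apply CartesianMonoidalCategory.hom_ext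
    · rw [Category.assoc, lift_fst, Category.comp_id]
    · rw [Category.assoc, lift_snd, Category.comp_id, h]
  · intro s
    exact toUnit_unique _ _
  · intro s m hm _
    rw [← hm, Category.assoc, lift_fst, Category.comp_id]

/-- Let `G` be a group algebraic space over an algebraic space `B` with unit `e : B ⟶ G`. Then `G ⟶ B`
is separated if and only if `e` is a closed immersion, quasi-separated if and only if `e` is
quasi-compact, and if `G ⟶ B` is locally separated then `e` is an immersion. (The published
statement makes the last part an equivalence as well; this row states only that a locally separated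
`G ⟶ B` has `e` an immersion.) -/
theorem result (S : Scheme.{u}) (B : AlgSp.Sp S) (hB : AlgSp.IsAlgSpace B)
    (G : Over B) [GrpObj G] (hG : AlgSp.IsAlgSpace G.left) :
    (AlgSp.IsSeparatedMor G.hom ↔ AlgSp.RepWith @IsClosedImmersion (η[G]).left) ∧
      (AlgSp.IsQuasiSeparatedMor G.hom ↔ AlgSp.IsQuasiCompactMor (η[G]).left) ∧
      (AlgSp.IsLocallySeparatedMor G.hom → AlgSp.RepWith @IsImmersion (η[G]).left) := by
  let B' : AlgSp.Space S := ⟨B, hB⟩
  let G' : AlgSp.Space S := ⟨G.left, hG⟩
  let π : G' ⟶ B' := ObjectProperty.homMk G.hom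
  let e : B' ⟶ G' := ObjectProperty.homMk (η[G]).left
  have hs : e ≫ π = 𝟙 B' := by
    apply ObjectProperty.hom_ext
    exact Over.w η[G]
  obtain ⟨hrep, -, -, -, -, hsep, hqs⟩ := Groth.Agent.S9902.result π e hs
  -- the diagonal is a base change of the unit
  have sq0 := (isPullback_diag_div G).map (Over.forget B)
  have sq : IsPullback G.hom (pullback.diagonal G.hom) (η[G]).left
      (CartesianMonoidalCategory.fst G G * (CartesianMonoidalCategory.snd G G)⁻¹).left := sq0.flip
  refine ⟨⟨hsep, fun h => ?_⟩, ⟨fun h => ?_, fun h => ?_⟩, fun h => ?_⟩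
  · exact MorphismProperty.of_isPullback (P := AlgSp.RepWith @IsClosedImmersion) sq h
  · exact (Groth.Agent.S9912.result e hrep).1 (hqs h)
  · have h2 : AlgSp.RepWith @QuasiCompact (η[G]).left := (Groth.Agent.S9912.result e hrep).2 h
    exact MorphismProperty.of_isPullback (P := AlgSp.RepWith @QuasiCompact) sq h2
  · exact Groth.Agent.S9902.of_section (AlgSp.RepWith @IsImmersion) G.hom (η[G]).left
      (Over.w η[G]) h

end Groth.Agent.S10116
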