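import Groth.Statements.S9955
import Mathlib
import Groth.Agent.Lib.H5bFibDimBC
import Groth.Agent.Lib.H5bResTrdeg
import Groth.Agent.Lib.H5bHasAtMor
import Groth.Agent.Lib.Helper12LocPCases
import Groth.Agent.Lib.Helper3GrpHomQF
import Groth.Agent.S9874
import Groth.Agent.S10175
import Groth.Agent.S10176
import Groth.Agent.S10177
import Groth.Agent.S10678
import Groth.Agent.S5341
import Groth.Agent.Lib.Helper4DimFormulaAP
import Groth.Agent.Lib.Helper4DimFormulaAL

set_option autoImplicit false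
universe u
open CategoryTheory CategoryTheory.Limits AlgebraicGeometry
open AlgSp

namespace Groth.Agent.S9955

open Groth.Agent.Lib.Helper4.DimFormula in
/-- if the residue transcendence degree is constant on an open set `G`, then the local fibre
dimension vanishes on `G`. -/
lemma fibreDimAt_le_zero_of_const {T B : Scheme.{u}} (g : T ⟶ B) [LocallyOfFiniteType g]
    (G : Set ↥T) (hG : IsOpen G)
    (hconst : ∀ t₁ ∈ G, ∀ t₂ ∈ G, Dual3.resTrdeg g t₁ = Dual3.resTrdeg g t₂)
    (t : ↥T) (ht : t ∈ G) : FlatMor.fibreDimAt g t ≤ 0 := by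
  obtain ⟨G0, hG0, htG0, hG0G⟩ : ∃ G0 : T.Opens, IsAffineOpen G0 ∧ t ∈ G0 ∧ (G0 : Set T) ⊆ G := by
    obtain ⟨G0, hG0, htG0, hG0G⟩ :=
      (TopologicalSpace.Opens.isBasis_iff_nbhd.mp T.isBasis_affineOpens)
        (show t ∈ (⟨G, hG⟩ : T.Opens) from ht)
    exact ⟨G0, hG0, htG0, hG0G⟩
  haveI : CompactSpace ↥(G0 : T.Opens) := isCompact_iff_compactSpace.mp hG0.isCompact
  obtain ⟨x0, -, hx0⟩ := IsClosed.exists_closed_singleton (X := ↥(G0 : T.Opens))
    isClosed_univ ⟨⟨t, htG0⟩, trivial⟩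
  have h0 : ptTrdeg (G0.ι ≫ g) x0 = 0 := ptTrdeg_eq_zero_of_isClosed (G0.ι ≫ g) x0 hx0
  have h1 : Dual3.resTrdeg g (G0.ι.base x0) = 0 := by
    have h2 := Groth.Agent.Lib.H5bResTrdeg.resTrdeg_comp G0.ι g x0
    have h5 := Groth.Agent.Lib.H5bResTrdeg.resTrdeg_eq_zero_of_etale G0.ι x0
    have h6 := Groth.Agent.Lib.H5bResTrdeg.resTrdeg_eq_ptTrdeg (G0.ι ≫ g) x0
    rw [h5, add_zero, h6, h0] at h2
    rw [← h2]; simp
  obtain ⟨w', -, hsp, hw'⟩ := exists_ptTrdeg_eq_fibreDimAt g t
  have hw'G : w' ∈ G := hsp.mem_open hG ht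
  have hx0G : G0.ι.base x0 ∈ G := hG0G x0.2
  have h3 : Dual3.resTrdeg g w' = 0 := (hconst w' hw'G _ hx0G).trans h1
  rw [Groth.Agent.Lib.H5bResTrdeg.resTrdeg_eq_ptTrdeg] at h3
  have h4 : ptTrdeg g w' = 0 := by exact_mod_cast h3
  rw [hw', h4]
  simp

/-- A morphism locally of finite type is locally quasi-finite if and only if all its fibres over
field-valued points have discrete spaces of points. -/
theorem result {S : Scheme.{u}} {X Y : AlgSp.Space S} (f : X ⟶ Y)
    (hf : AlgSp.LocP @LocallyOfFiniteType f.hom) :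
    AlgSp.LocP ((@LocallyQuasiFinite : MorphismProperty Scheme.{u}) ⊓ @LocallyOfFiniteType) f.hom ↔
      ∀ (k : Type u) [Field k] (str : Spec (CommRingCat.of k) ⟶ S) (y : (AlgSp.yon S).obj (Over.mk str) ⟶ Y.obj)
        (P : AlgSp.Sp S) (fst : P ⟶ X.obj) (snd : P ⟶ (AlgSp.yon S).obj (Over.mk str)),
        IsPullback fst snd f.hom y → DiscreteTopology (AlgSp.Points P) := by
  constructor
  · intro hlqf k _ str y P fst snd sq
    have hP : AlgSp.IsAlgSpace P :=
      Groth.Agent.S9874.isAlgSpace_of_isPullback Y.property.diag X.property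
        (AlgSp.IsAlgSpace.yon_obj _) sq
    obtain ⟨T, c, hc, hcs⟩ := hP.atlas
    have hsnd : AlgSp.LocP ((@LocallyQuasiFinite : MorphismProperty Scheme.{u}) ⊓
        @LocallyOfFiniteType) snd :=
      Groth.Agent.Lib.Helper12.LocPCases.good_lqf.locP_baseChange X.property Y.property
        (AlgSp.IsAlgSpace.yon_obj _) sq hlqf
    obtain ⟨g, hg⟩ := (AlgSp.yon S).map_surjective (c ≫ snd)
    have hgl := hsnd c (𝟙 _) g hc (AlgSp.repWith_id _ _) (by rw [hg, Category.comp_id])
    haveI : LocallyQuasiFinite g.left := hgl.1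
    haveI : Subsingleton ↥(Over.mk str).left :=
      show Subsingleton ↥(Spec (CommRingCat.of k)) from inferInstance
    have hdT : DiscreteTopology ↥T.left := by
      rw [← isDiscrete_univ_iff]
      obtain ⟨s⟩ : Nonempty ↥(Over.mk str).left :=
        show Nonempty ↥(Spec (CommRingCat.of k)) from inferInstance
      have := g.left.isDiscrete_preimage_singleton s
      convert this
      ext t
      simp only [Set.mem_univ, Set.mem_preimage, Set.mem_singleton_iff, true_iff]
      exact Subsingleton.elim _ _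
    rw [discreteTopology_iff_isOpen_singleton]
    intro z
    obtain ⟨t, rfl⟩ := Groth.Agent.S10177.surjective_ofPt c hcs z
    have := Groth.Agent.S10176.isOpenMap_ofPt c hc {t} (isOpen_discrete _)
    rwa [Set.image_singleton] at this
  · intro H U V a b h ha hb comm
    have hlft : LocallyOfFiniteType h.left := hf a b h ha hb comm
    refine ⟨?_, hlft⟩
    rw [Groth.Agent.Lib.Helper3.GrpHomQF.locallyQuasiFinite_iff_forall_fibreDimAt_le_zero]
    intro u
    -- the field point
    let k : AlgSp.FieldPt Y.obj := AlgSp.FieldPt.ofPt b (h.left.base u)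
    let P : AlgSp.Sp S := pullback f.hom k.toHom
    have sq : IsPullback (pullback.fst f.hom k.toHom) (pullback.snd f.hom k.toHom) f.hom k.toHom :=
      IsPullback.of_hasPullback _ _
    have hdisc : DiscreteTopology (AlgSp.Points P) := H k.K k.str k.toHom P _ _ sq
    have hP : AlgSp.IsAlgSpace P :=
      Groth.Agent.S9874.isAlgSpace_of_isPullback Y.property.diag X.property
        (AlgSp.IsAlgSpace.yon_obj k.pt) sq
    have hsub : Subsingleton ↥k.pt.left :=
      show Subsingleton ↥(Spec (CommRingCat.of k.K)) from inferInstance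
    -- lift the point
    have hx : AlgSp.Points.map f.hom (AlgSp.Points.ofPt a u) = AlgSp.Points.mk k := by
      rw [AlgSp.Points.map_ofPt, comm, Groth.Agent.S10176.ofPt_map_comp]
      rfl
    obtain ⟨s⟩ : Nonempty ↥k.pt.left :=
      show Nonempty ↥(Spec (CommRingCat.of k.K)) from inferInstance
    obtain ⟨z, -, hz⟩ := Groth.Agent.S10175.exists_point_of_isPullback sq.flip
      (AlgSp.Points.ofScheme k.pt s) (AlgSp.Points.ofPt a u)
      (by rw [Groth.Agent.S10678.map_toHom_eq, hx])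
    obtain ⟨T, c, hc, hcs⟩ := hP.atlas
    obtain ⟨t, ht⟩ := Groth.Agent.S10177.surjective_ofPt c hcs z
    -- transfer
    rw [← Groth.Agent.Lib.H5bHasAtMor.hasAtMor_iff_of_chart
      (Groth.Agent.Lib.H5bHasAtMor.etLocalQ_fibreDimAt (fun e => e ≤ 0)) f.hom
      (AlgSp.Points.ofPt a u) a b h ha hb comm u rfl, ← hz, ← ht,
      ← Groth.Agent.Lib.H5bFibDimBC.hasAtMor_fibreDimAt_baseChange_iff X.property Y.property
      (AlgSp.IsAlgSpace.yon_obj k.pt) sq hf (AlgSp.Points.ofPt c t) (fun e => e ≤ 0)]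
    obtain ⟨g, hg⟩ := (AlgSp.yon S).map_surjective (c ≫ pullback.snd f.hom k.toHom)
    have hcomm : c ≫ pullback.snd f.hom k.toHom = (AlgSp.yon S).map g ≫ 𝟙 _ := by
      rw [hg, Category.comp_id]
    rw [Groth.Agent.Lib.H5bHasAtMor.hasAtMor_iff_of_chart
      (Groth.Agent.Lib.H5bHasAtMor.etLocalQ_fibreDimAt (fun e => e ≤ 0)) _
      (AlgSp.Points.ofPt c t) c (𝟙 _) g hc (AlgSp.repWith_id _ _) hcomm t rfl]
    have hsnd : AlgSp.LocP @LocallyOfFiniteType (pullback.snd f.hom k.toHom) :=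
      Groth.Agent.Lib.Helper12.LocPCases.good_lft.locP_baseChange X.property Y.property
        (AlgSp.IsAlgSpace.yon_obj _) sq hf
    haveI : LocallyOfFiniteType g.left := hsnd c (𝟙 _) g hc (AlgSp.repWith_id _ _) hcomm
    show FlatMor.fibreDimAt g.left t ≤ 0
    refine fibreDimAt_le_zero_of_const g.left (AlgSp.Points.ofPt c ⁻¹' {AlgSp.Points.ofPt c t})
      ((isOpen_discrete _).preimage (AlgSp.Points.continuous_ofPt c)) ?_ t rfl
    intro t₁ ht₁ t₂ ht₂
    have e1 := Groth.Agent.Lib.H5bHasAtMor.hasAtMor_iff_of_chart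
      (Groth.Agent.Lib.H5bResTrdeg.etLocalQ_resTrdeg (fun e => e = Dual3.resTrdeg g.left t₂))
      (pullback.snd f.hom k.toHom)
      (AlgSp.Points.ofPt c t) c (𝟙 _) g hc (AlgSp.repWith_id _ _) hcomm t₁ ht₁
    have e2 := Groth.Agent.Lib.H5bHasAtMor.hasAtMor_iff_of_chart
      (Groth.Agent.Lib.H5bResTrdeg.etLocalQ_resTrdeg (fun e => e = Dual3.resTrdeg g.left t₂))
      (pullback.snd f.hom k.toHom)
      (AlgSp.Points.ofPt c t) c (𝟙 _) g hc (AlgSp.repWith_id _ _) hcomm t₂ ht₂
    exact e1.1 (e2.2 rfl)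

end Groth.Agent.S9955
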