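import Groth.Statements.S10118
import Mathlib
import Groth.Agent.S9874
import Groth.Agent.S9902
import Groth.Agent.S9907
import Groth.Agent.S9911
import Groth.Agent.S9955
import Groth.Agent.S9984
import Groth.Agent.S10262
import Groth.Agent.Lib.Helper12TopDescent

set_option autoImplicit false
universe u
open CategoryTheory CategoryTheory.Limits AlgebraicGeometry MonoidalCategory MonObj
open AlgSp AlgSp.GAction

namespace Groth.Agent.S10118

variable {S : Scheme.{u}} {B : AlgSp.Sp S}

open CartesianMonoidalCategory in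
/-- For a pseudo-torsor, the second projection `X ×_B X ⟶ X` is a base change of `G ⟶ B`. -/
lemma isPullback_snd_of_isPseudoTorsor {G X : Over B} [GrpObj G] (a : AlgSp.GAction G X)
    (ha : a.IsPseudoTorsor) :
    ∃ p : pullback X.hom X.hom ⟶ G.left,
      IsPullback p (pullback.snd X.hom X.hom) G.hom X.hom := by
  haveI : IsIso (lift a.act (snd G X)) := ha
  let θ : G ⊗ X ≅ X ⊗ X := asIso (lift a.act (snd G X))
  let θl : pullback G.hom X.hom ≅ pullback X.hom X.hom := (Over.forget B).mapIso θ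
  have h1 : θl.hom ≫ pullback.snd X.hom X.hom = pullback.snd G.hom X.hom := by
    have := congrArg (fun f => f.left) (lift_snd a.act (snd G X))
    exact this
  refine ⟨θl.inv ≫ pullback.fst G.hom X.hom, ?_⟩
  refine IsPullback.of_iso (IsPullback.of_hasPullback G.hom X.hom) θl (Iso.refl _) (Iso.refl _)
    (Iso.refl _) ?_ ?_ ?_ ?_
  · simp
  · simp only [Iso.refl_hom, Category.comp_id]; exact h1.symm
  · simp
  · simp

/-- descent of discreteness of the space of points along the base change of a field extension. -/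
lemma discrete_of_fieldExt {P Q : AlgSp.Sp S} (hP : AlgSp.IsAlgSpace P) {K k : Over S}
    (κ : (AlgSp.yon S).obj K ⟶ (AlgSp.yon S).obj k)
    (hκo : AlgSp.IsUnivOpenMor κ) (hκs : AlgSp.IsSurjectiveMor κ)
    (snd : P ⟶ (AlgSp.yon S).obj k) (ρ : Q ⟶ P) (b : Q ⟶ (AlgSp.yon S).obj K)
    (sq : IsPullback b ρ κ snd) (hQ : DiscreteTopology (AlgSp.Points Q)) :
    DiscreteTopology (AlgSp.Points P) := by
  have hopen : IsOpenMap (AlgSp.Points.map ρ) := hκo hP snd b ρ sq
  let P' : AlgSp.Space S := ⟨P, hP⟩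
  let K' : AlgSp.Space S := ⟨(AlgSp.yon S).obj K, AlgSp.IsAlgSpace.yon_obj K⟩
  let k' : AlgSp.Space S := ⟨(AlgSp.yon S).obj k, AlgSp.IsAlgSpace.yon_obj k⟩
  have hsurj : Function.Surjective (AlgSp.Points.map ρ) :=
    Groth.Agent.S9907.result (X := K') (Y := k') (Y' := P') (ObjectProperty.homMk κ)
      (ObjectProperty.homMk snd) b ρ sq hκs
  rw [discreteTopology_iff_isOpen_singleton]
  intro z
  have : ({z} : Set (AlgSp.Points P)) = AlgSp.Points.map ρ '' (AlgSp.Points.map ρ ⁻¹' {z}) :=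
    (Set.image_preimage_eq _ hsurj).symm
  rw [this]
  exact hopen _ (isOpen_discrete _)

/-- Let `X` be a pseudo-torsor under a group algebraic space `G` over an algebraic space `B`, where both
`G` and `X` are locally of finite type over `B`. Whenever `G ⟶ B` is unramified, `X ⟶ B` is
unramified too; likewise, local quasi-finiteness passes from `G ⟶ B` to `X ⟶ B`. -/
theorem result (S : Scheme.{u}) (B : AlgSp.Sp S) (hB : AlgSp.IsAlgSpace B)
    (G X : Over B) [GrpObj G] (hG : AlgSp.IsAlgSpace G.left) (hX : AlgSp.IsAlgSpace X.left)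
    (a : AlgSp.GAction G X) (ha : a.IsPseudoTorsor)
    (hGt : AlgSp.LocP @LocallyOfFiniteType G.hom) (hXt : AlgSp.LocP @LocallyOfFiniteType X.hom) :
    (AlgSp.LocP (@LocallyOfFiniteType ⊓ @FormallyUnramified) G.hom →
        AlgSp.LocP (@LocallyOfFiniteType ⊓ @FormallyUnramified) X.hom) ∧
      (AlgSp.LocP (@LocallyQuasiFinite ⊓ @LocallyOfFiniteType) G.hom →
        AlgSp.LocP (@LocallyQuasiFinite ⊓ @LocallyOfFiniteType) X.hom) := by
  obtain ⟨p, sq⟩ := isPullback_snd_of_isPseudoTorsor a ha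
  have hXX : AlgSp.IsAlgSpace (pullback X.hom X.hom) :=
    Groth.Agent.S9874.isAlgSpace_of_isPullback hB.diag hX hX (IsPullback.of_hasPullback _ _)
  let B' : AlgSp.Space S := ⟨B, hB⟩
  let G' : AlgSp.Space S := ⟨G.left, hG⟩
  let X' : AlgSp.Space S := ⟨X.left, hX⟩
  let XX' : AlgSp.Space S := ⟨pullback X.hom X.hom, hXX⟩
  let πG : G' ⟶ B' := ObjectProperty.homMk G.hom
  let πX : X' ⟶ B' := ObjectProperty.homMk X.hom
  let pr₂ : XX' ⟶ X' := ObjectProperty.homMk (pullback.snd X.hom X.hom)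
  let p' : XX' ⟶ G' := ObjectProperty.homMk p
  have hsec : pullback.diagonal X.hom ≫ pullback.snd X.hom X.hom = 𝟙 _ := pullback.diagonal_snd _
  constructor
  · intro hGu
    have h1 : AlgSp.LocP (@LocallyOfFiniteType ⊓ @FormallyUnramified) pr₂.hom :=
      Groth.Agent.S9984.result _ (Or.inr (Or.inr (Or.inr (Or.inr (Or.inr (Or.inr
        (fun _ _ _ => Iff.rfl))))))) πG πX p' pr₂ sq hGu
    have h2 := (Groth.Agent.S10262.result pr₂).1 h1
    have h3 : AlgSp.RepWith @IsOpenImmersion (pullback.diagonal X.hom) :=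
      Groth.Agent.S9902.of_section (AlgSp.RepWith @IsOpenImmersion) (pullback.snd X.hom X.hom)
        (pullback.diagonal X.hom) hsec h2
    exact (Groth.Agent.S10262.result πX).2 hXt h3
  · intro hGq
    have h1 : AlgSp.LocP (@LocallyQuasiFinite ⊓ @LocallyOfFiniteType) pr₂.hom :=
      Groth.Agent.S9984.result _ (Or.inr (Or.inr (Or.inr (Or.inr (Or.inr (Or.inl
        (fun _ _ _ => Iff.rfl))))))) πG πX p' pr₂ sq hGq
    have h1t : AlgSp.LocP @LocallyOfFiniteType pr₂.hom :=
      fun _ _ a₀ b₀ h₀ ha₀ hb₀ w₀ => (h1 a₀ b₀ h₀ ha₀ hb₀ w₀).2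
    refine (Groth.Agent.S9955.result πX hXt).2 ?_
    intro k _ str y P fst snd sqP₀
    have sqP : IsPullback fst snd X.hom y := sqP₀
    have hPsp : AlgSp.IsAlgSpace P :=
      Groth.Agent.S9874.isAlgSpace_of_isPullback hB.diag hX (AlgSp.IsAlgSpace.yon_obj _) sqP
    by_cases hne : Nonempty (AlgSp.Points P)
    swap
    · haveI : IsEmpty (AlgSp.Points P) := not_nonempty_iff.1 hne
      exact Subsingleton.discreteTopology
    obtain ⟨z⟩ := hne
    obtain ⟨q, -⟩ := AlgSp.Points.mk_surjective z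
    -- the fibre of the second projection over the point of `X` defined by `q`
    let y' : (AlgSp.yon S).obj q.pt ⟶ X.left := q.toHom ≫ fst
    let Q := pullback (pullback.snd X.hom X.hom) y'
    let a₁ : Q ⟶ pullback X.hom X.hom := pullback.fst _ _
    let b₁ : Q ⟶ (AlgSp.yon S).obj q.pt := pullback.snd _ _
    have sqQ : IsPullback a₁ b₁ (pullback.snd X.hom X.hom) y' := IsPullback.of_hasPullback _ _
    have hQd : DiscreteTopology (AlgSp.Points Q) :=
      (Groth.Agent.S9955.result pr₂ h1t).1 h1 q.K q.str y' Q a₁ b₁ sqQ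
    let κ : (AlgSp.yon S).obj q.pt ⟶ (AlgSp.yon S).obj (Over.mk str) := q.toHom ≫ snd
    -- the outer rectangle
    have sqXX : IsPullback (pullback.fst X.hom X.hom) (pullback.snd X.hom X.hom) X.hom X.hom :=
      IsPullback.of_hasPullback _ _
    have outer : IsPullback (a₁ ≫ pullback.fst X.hom X.hom) b₁ X.hom (y' ≫ X.hom) :=
      sqQ.paste_horiz sqXX
    have hy' : y' ≫ X.hom = κ ≫ y := by
      change (q.toHom ≫ fst) ≫ X.hom = (q.toHom ≫ snd) ≫ y
      rw [Category.assoc, Category.assoc, sqP.w]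
    rw [hy'] at outer
    obtain ⟨ρ, hρ1, hρ2⟩ : ∃ ρ : Q ⟶ P, ρ ≫ fst = a₁ ≫ pullback.fst X.hom X.hom ∧
        ρ ≫ snd = b₁ ≫ κ :=
      ⟨sqP.lift _ _ (by rw [Category.assoc]; exact outer.w), sqP.lift_fst _ _ _,
        sqP.lift_snd _ _ _⟩
    rw [← hρ1] at outer
    have sqρ : IsPullback ρ b₁ snd κ := IsPullback.of_right outer hρ2 sqP
    -- properties of `κ`
    let K' : AlgSp.Space S := ⟨(AlgSp.yon S).obj q.pt, AlgSp.IsAlgSpace.yon_obj _⟩
    have hκo : AlgSp.IsUnivOpenMor κ :=
      Groth.Agent.S9911.result K' str (ObjectProperty.homMk κ)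
    have hκs : AlgSp.IsSurjectiveMor κ := by
      intro w
      haveI : Subsingleton ↥(Over.mk str).left :=
        (inferInstance : Subsingleton (PrimeSpectrum k))
      haveI : Subsingleton (AlgSp.Points ((AlgSp.yon S).obj (Over.mk str))) :=
        (AlgSp.Points.schemeHomeo (Over.mk str)).symm.injective.subsingleton
      exact ⟨AlgSp.Points.ofPt (𝟙 _) (IsLocalRing.closedPoint q.K), Subsingleton.elim _ _⟩
    exact discrete_of_fieldExt hPsp κ hκo hκs snd ρ b₁ sqρ.flip hQd

end Groth.Agent.S10118
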