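import Groth.Statements.S10122
import Mathlib
import Groth.Agent.S9874
import Groth.Agent.S9902
import Groth.Agent.S9912

set_option autoImplicit false
universe u
open CategoryTheory CategoryTheory.Limits AlgebraicGeometry
open AlgSp AlgSp.GroupoidSp

namespace Groth.Agent.S10122

variable {S : Scheme.{u}} {B : AlgSp.Sp S}

lemma lift_congr (G : AlgSp.GroupoidSp B) {T : AlgSp.Sp S} {α α' β β' : T ⟶ G.R} (hα : α = α')
    (hβ : β = β') (h : α ≫ G.s = β ≫ G.t) (h' : α' ≫ G.s = β' ≫ G.t) :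
    pullback.lift α β h = pullback.lift α' β' h' := by
  subst hα hβ
  rfl

lemma comp_lift (G : AlgSp.GroupoidSp B) {T T' : AlgSp.Sp S} (x : T' ⟶ T) (α β : T ⟶ G.R)
    (h : α ≫ G.s = β ≫ G.t) :
    x ≫ pullback.lift α β h = pullback.lift (x ≫ α) (x ≫ β)
      (by rw [Category.assoc, Category.assoc, h]) := by
  apply pullback.hom_ext
  · rw [Category.assoc, pullback.lift_fst, pullback.lift_fst]
  · rw [Category.assoc, pullback.lift_snd, pullback.lift_snd]

/-- left cancellation: `α⁻¹ ∘ β = e` forces `β = α`. -/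
lemma cancel_left_inv (G : AlgSp.GroupoidSp B) {T : AlgSp.Sp S} (α β : T ⟶ G.R)
    (h₂ : (α ≫ G.i) ≫ G.s = β ≫ G.t)
    (h : pullback.lift (α ≫ G.i) β h₂ ≫ G.c = α ≫ G.s ≫ G.e) : β = α := by
  have ht : α ≫ G.t = β ≫ G.t := by rw [← h₂, Category.assoc, G.i_s]
  have h₁ : α ≫ G.s = (α ≫ G.i) ≫ G.t := by rw [Category.assoc, G.i_t]
  have e1 := G.assoc α (α ≫ G.i) β h₁ h₂
  have h3 : (β ≫ G.t ≫ G.e) ≫ G.s = β ≫ G.t := by
    rw [Category.assoc, Category.assoc, G.e_s, Category.comp_id]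
  have e2 : pullback.lift (pullback.lift α (α ≫ G.i) h₁ ≫ G.c) β
      ((G.comp_s α (α ≫ G.i) h₁).trans h₂) = pullback.lift (β ≫ G.t ≫ G.e) β h3 := by
    refine lift_congr G ?_ rfl _ _
    rw [G.comp_i, ← Category.assoc, ht, Category.assoc]
  have h4 : α ≫ G.s = (α ≫ G.s ≫ G.e) ≫ G.t := by
    rw [Category.assoc, Category.assoc, G.e_t, Category.comp_id]
  have e3 : pullback.lift α (pullback.lift (α ≫ G.i) β h₂ ≫ G.c)
      (h₁.trans (G.comp_t (α ≫ G.i) β h₂).symm) = pullback.lift α (α ≫ G.s ≫ G.e) h4 :=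
    lift_congr G rfl h _ _
  rw [e2, G.e_comp, e3, G.comp_e] at e1
  exact e1

lemma pj_t (G : AlgSp.GroupoidSp B) :
    pullback.fst G.j G.j ≫ G.t = pullback.snd G.j G.j ≫ G.t := by
  have h := congrArg (· ≫ pullback.fst G.pU G.pU) (pullback.condition (f := G.j) (g := G.j))
  simpa only [Category.assoc, AlgSp.GroupoidSp.j_fst] using h

lemma pj_s (G : AlgSp.GroupoidSp B) :
    pullback.fst G.j G.j ≫ G.s = pullback.snd G.j G.j ≫ G.s := by
  have h := congrArg (· ≫ pullback.snd G.pU G.pU) (pullback.condition (f := G.j) (g := G.j))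
  simpa only [Category.assoc, AlgSp.GroupoidSp.j_snd] using h

lemma pj_cond (G : AlgSp.GroupoidSp B) :
    (pullback.fst G.j G.j ≫ G.i) ≫ G.s = pullback.snd G.j G.j ≫ G.t := by
  rw [Category.assoc, G.i_s, pj_t]

/-- `(r, r') ↦ r⁻¹ ∘ r'` on `R ×_{U ×_B U} R`, as a map to `R`. -/
noncomputable def δ₀ (G : AlgSp.GroupoidSp B) : pullback G.j G.j ⟶ G.R :=
  pullback.lift (pullback.fst G.j G.j ≫ G.i) (pullback.snd G.j G.j) (pj_cond G) ≫ G.c

lemma δ₀_j (G : AlgSp.GroupoidSp B) :
    δ₀ G ≫ G.j = (pullback.snd G.j G.j ≫ G.s) ≫ G.diag := by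
  apply pullback.hom_ext
  · rw [Category.assoc, AlgSp.GroupoidSp.j_fst, Category.assoc, AlgSp.GroupoidSp.diag,
      pullback.lift_fst, Category.comp_id]
    unfold δ₀
    rw [G.comp_t, Category.assoc, G.i_t, pj_s]
  · rw [Category.assoc, AlgSp.GroupoidSp.j_snd, Category.assoc, AlgSp.GroupoidSp.diag,
      pullback.lift_snd, Category.comp_id]
    unfold δ₀
    rw [G.comp_s]

/-- `(r, r') ↦ r⁻¹ ∘ r'` as a map to the stabilizer. -/
noncomputable def δ (G : AlgSp.GroupoidSp B) : pullback G.j G.j ⟶ G.stabilizer :=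
  pullback.lift (δ₀ G) (pullback.snd G.j G.j ≫ G.s) (δ₀_j G)

lemma δ_ι (G : AlgSp.GroupoidSp B) : δ G ≫ G.stabilizerι = δ₀ G :=
  pullback.lift_fst _ _ _

lemma δ_toU (G : AlgSp.GroupoidSp B) :
    δ G ≫ G.stabilizerToU = pullback.snd G.j G.j ≫ G.s :=
  pullback.lift_snd _ _ _

lemma diag_fst (G : AlgSp.GroupoidSp B) : G.diag ≫ pullback.fst G.pU G.pU = 𝟙 G.U :=
  pullback.lift_fst _ _ _

lemma diag_snd (G : AlgSp.GroupoidSp B) : G.diag ≫ pullback.snd G.pU G.pU = 𝟙 G.U :=
  pullback.lift_snd _ _ _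

lemma diag_mono (G : AlgSp.GroupoidSp B) {T : AlgSp.Sp S} (a b : T ⟶ G.U)
    (h : a ≫ G.diag = b ≫ G.diag) : a = b := by
  have := congrArg (· ≫ pullback.fst G.pU G.pU) h
  simpa only [Category.assoc, diag_fst, Category.comp_id] using this

lemma e_j (G : AlgSp.GroupoidSp B) : G.e ≫ G.j = G.diag := by
  apply pullback.hom_ext
  · rw [Category.assoc, AlgSp.GroupoidSp.j_fst, G.e_t, diag_fst]
  · rw [Category.assoc, AlgSp.GroupoidSp.j_snd, G.e_s, diag_snd]

lemma stab_cond (G : AlgSp.GroupoidSp B) :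
    G.stabilizerι ≫ G.j = G.stabilizerToU ≫ G.diag := pullback.condition

lemma eG_toU (G : AlgSp.GroupoidSp B) (eG : G.U ⟶ G.stabilizer) (heG : eG ≫ G.stabilizerι = G.e) :
    eG ≫ G.stabilizerToU = 𝟙 G.U := by
  apply diag_mono G
  rw [Category.id_comp, Category.assoc, ← stab_cond, ← Category.assoc, heG, e_j]

lemma stab_hom_ext (G : AlgSp.GroupoidSp B) {T : AlgSp.Sp S} (a b : T ⟶ G.stabilizer)
    (h1 : a ≫ G.stabilizerι = b ≫ G.stabilizerι)
    (h2 : a ≫ G.stabilizerToU = b ≫ G.stabilizerToU) : a = b :=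
  pullback.hom_ext h1 h2

lemma diagonal_δ₀ (G : AlgSp.GroupoidSp B) : pullback.diagonal G.j ≫ δ₀ G = G.s ≫ G.e := by
  unfold δ₀
  rw [← Category.assoc, comp_lift]
  have h1 := G.i_comp (𝟙 G.R)
  have h2 : 𝟙 G.R ≫ G.s ≫ G.e = G.s ≫ G.e := Category.id_comp _
  rw [← h2, ← h1]
  refine congrArg (· ≫ G.c) (lift_congr G ?_ ?_ _ _)
  · rw [← Category.assoc, pullback.diagonal_fst]
  · rw [pullback.diagonal_snd]

/-- The diagonal of `j` is the base change of the unit section of the stabilizer. -/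
lemma isPullback_diag_j (G : AlgSp.GroupoidSp B) (eG : G.U ⟶ G.stabilizer)
    (heG : eG ≫ G.stabilizerι = G.e) :
    IsPullback (pullback.diagonal G.j) G.s (δ G) eG := by
  have hw : pullback.diagonal G.j ≫ δ G = G.s ≫ eG := by
    apply stab_hom_ext
    · rw [Category.assoc, Category.assoc, heG, δ_ι, diagonal_δ₀]
    · rw [Category.assoc, Category.assoc, eG_toU G eG heG, Category.comp_id, δ_toU,
        ← Category.assoc, pullback.diagonal_snd, Category.id_comp]
  have hb : ∀ s : PullbackCone (δ G) eG, s.snd = s.fst ≫ pullback.snd G.j G.j ≫ G.s := by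
    intro s
    have h := congrArg (· ≫ G.stabilizerToU) s.condition
    simp only [Category.assoc] at h
    rw [eG_toU G eG heG, Category.comp_id, δ_toU] at h
    exact h.symm
  refine ⟨⟨hw⟩, ⟨PullbackCone.IsLimit.mk _ (fun s => s.fst ≫ pullback.fst G.j G.j) ?_ ?_ ?_⟩⟩
  · intro s
    have h0 := congrArg (· ≫ G.stabilizerι) s.condition
    simp only [Category.assoc] at h0
    rw [heG, δ_ι] at h0
    unfold δ₀ at h0
    rw [← Category.assoc, comp_lift] at h0
    have hcond : ((s.fst ≫ pullback.fst G.j G.j) ≫ G.i) ≫ G.s =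
        (s.fst ≫ pullback.snd G.j G.j) ≫ G.t := by
      rw [Category.assoc, G.i_s, Category.assoc, pj_t, Category.assoc]
    have key : s.fst ≫ pullback.snd G.j G.j = s.fst ≫ pullback.fst G.j G.j := by
      refine cancel_left_inv G _ _ hcond ?_
      calc pullback.lift ((s.fst ≫ pullback.fst G.j G.j) ≫ G.i) (s.fst ≫ pullback.snd G.j G.j)
            hcond ≫ G.c
          = s.snd ≫ G.e := by
            rw [← h0]
            exact congrArg (· ≫ G.c) (lift_congr G (Category.assoc _ _ _) rfl _ _)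
        _ = (s.fst ≫ pullback.fst G.j G.j) ≫ G.s ≫ G.e := by
            rw [hb s, ← pj_s]
            simp only [Category.assoc]
    apply pullback.hom_ext
    · rw [Category.assoc, pullback.diagonal_fst, Category.comp_id]
    · rw [Category.assoc, pullback.diagonal_snd, Category.comp_id, key]
  · intro s
    rw [hb s, Category.assoc, pj_s]
  · intro s m hm _
    rw [← hm, Category.assoc, pullback.diagonal_fst, Category.comp_id]

/-- Let `(U, R, s, t, c)` be a groupoid in algebraic spaces over `B` with stabilizer `G ⟶ U` and unit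
section `e : U ⟶ G`. Then (1) `j : R ⟶ U ×_B U` is separated iff `G ⟶ U` is separated iff `e` is a
closed immersion; (3) `j` is quasi-separated iff `G ⟶ U` is quasi-separated iff `e` is
quasi-compact; (2) if `j` or `G ⟶ U` is locally separated then `e` is an immersion. The unit section
is written as any morphism `U ⟶ G` lifting the identity `e : U ⟶ R` of the groupoid. (The published
part (2) is a three-way equivalence; this row states only that `j` locally separated, or `G ⟶ U`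
locally separated, implies that `e` is an immersion.) -/
theorem result (S : Scheme.{u}) (B : AlgSp.Sp S) (hB : AlgSp.IsAlgSpace B)
    (G : AlgSp.GroupoidSp B) (hU : AlgSp.IsAlgSpace G.U) (hR : AlgSp.IsAlgSpace G.R)
    (eG : G.U ⟶ G.stabilizer) (heG : eG ≫ G.stabilizerι = G.e) :
    ((AlgSp.IsSeparatedMor G.j ↔ AlgSp.IsSeparatedMor G.stabilizerToU) ∧
        (AlgSp.IsSeparatedMor G.j ↔ AlgSp.RepWith @IsClosedImmersion eG)) ∧
      ((AlgSp.IsQuasiSeparatedMor G.j ↔ AlgSp.IsQuasiSeparatedMor G.stabilizerToU) ∧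
        (AlgSp.IsQuasiSeparatedMor G.j ↔ AlgSp.IsQuasiCompactMor eG)) ∧
      ((AlgSp.IsLocallySeparatedMor G.j → AlgSp.RepWith @IsImmersion eG) ∧
        (AlgSp.IsLocallySeparatedMor G.stabilizerToU → AlgSp.RepWith @IsImmersion eG)) := by
  have hUU : AlgSp.IsAlgSpace (pullback G.pU G.pU) :=
    Groth.Agent.S9874.isAlgSpace_of_isPullback hB.diag hU hU (IsPullback.of_hasPullback _ _)
  have hSt : AlgSp.IsAlgSpace G.stabilizer :=
    Groth.Agent.S9874.isAlgSpace_of_isPullback hUU.diag hR hU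
      (IsPullback.of_hasPullback G.j G.diag)
  have sqG : IsPullback G.stabilizerι G.stabilizerToU G.j G.diag :=
    IsPullback.of_hasPullback G.j G.diag
  have sqD := isPullback_diag_j G eG heG
  have hsec := eG_toU G eG heG
  let U' : AlgSp.Space S := ⟨G.U, hU⟩
  let St' : AlgSp.Space S := ⟨G.stabilizer, hSt⟩
  let π : St' ⟶ U' := ObjectProperty.homMk G.stabilizerToU
  let e' : U' ⟶ St' := ObjectProperty.homMk eG
  have hs : e' ≫ π = 𝟙 U' := by
    apply ObjectProperty.hom_ext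
    exact hsec
  obtain ⟨hrep, -, -, -, -, hsep, hqs⟩ := Groth.Agent.S9902.result π e' hs
  -- base change from `j` to the stabilizer
  have bc1 : AlgSp.IsSeparatedMor G.j → AlgSp.IsSeparatedMor G.stabilizerToU := fun h =>
    MorphismProperty.of_isPullback (P := (AlgSp.RepWith @IsClosedImmersion).diagonal) sqG h
  have bc2 : AlgSp.IsQuasiSeparatedMor G.j → AlgSp.IsQuasiSeparatedMor G.stabilizerToU := fun h =>
    MorphismProperty.of_isPullback (P := (AlgSp.RepWith @QuasiCompact).diagonal) sqG h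
  have bc3 : AlgSp.IsLocallySeparatedMor G.j → AlgSp.IsLocallySeparatedMor G.stabilizerToU :=
    fun h => MorphismProperty.of_isPullback (P := (AlgSp.RepWith @IsImmersion).diagonal) sqG h
  -- from the unit to `j`
  have ej1 : AlgSp.RepWith @IsClosedImmersion eG → AlgSp.IsSeparatedMor G.j := fun h =>
    MorphismProperty.of_isPullback (P := AlgSp.RepWith @IsClosedImmersion) sqD.flip h
  have ej2 : AlgSp.RepWith @QuasiCompact eG → AlgSp.IsQuasiSeparatedMor G.j := fun h =>
    MorphismProperty.of_isPullback (P := AlgSp.RepWith @QuasiCompact) sqD.flip h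
  have qc := Groth.Agent.S9912.result e' hrep
  have imm : AlgSp.IsLocallySeparatedMor G.stabilizerToU → AlgSp.RepWith @IsImmersion eG :=
    fun h => Groth.Agent.S9902.of_section (AlgSp.RepWith @IsImmersion) G.stabilizerToU eG hsec h
  refine ⟨⟨⟨bc1, fun h => ej1 (hsep h)⟩, ⟨fun h => hsep (bc1 h), ej1⟩⟩,
    ⟨⟨bc2, fun h => ej2 (hqs h)⟩, ⟨fun h => qc.1 (hqs (bc2 h)), fun h => ej2 (qc.2 h)⟩⟩,
    ⟨fun h => imm (bc3 h), imm⟩⟩

end Groth.Agent.S10122
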