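import Groth.Statements.S10125
import Mathlib
import Groth.Agent.S9874
import Groth.Agent.S9911
import Groth.Agent.S9947
import Groth.Agent.S9984
import Groth.Agent.Lib.Helper12TopDescent

set_option autoImplicit false
universe u
open CategoryTheory CategoryTheory.Limits AlgebraicGeometry MonoidalCategory MonObj
open AlgSp

namespace Groth.Agent.S10125

open CartesianMonoidalCategory MonObj in
/-- In a cartesian monoidal category, the multiplication of a group object is a base change of
the map to the unit object. -/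
lemma isPullback_mul {C : Type*} [Category C] [CartesianMonoidalCategory C] (G : C)
    [GrpObj G] :
    IsPullback (fst G G) μ[G] (toUnit G) (toUnit G) := by
  have hμ : ∀ {T : C} (a b : T ⟶ G), lift a b ≫ μ[G] = a * b := fun a b =>
    (CategoryTheory.Hom.mul_def a b).symm
  have hm : ∀ {T : C} (m : T ⟶ G ⊗ G), m ≫ μ[G] = (m ≫ fst G G) * (m ≫ snd G G) := by
    intro T m
    rw [← hμ]
    congr 1
    apply CartesianMonoidalCategory.hom_ext
    · rw [lift_fst]
    · rw [lift_snd]
  refine ⟨⟨toUnit_unique _ _⟩,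
    ⟨PullbackCone.IsLimit.mk _ (fun s => lift s.fst (s.fst⁻¹ * s.snd)) ?_ ?_ ?_⟩⟩
  · intro s
    rw [lift_fst]
  · intro s
    rw [hμ, mul_inv_cancel_left]
  · intro s m hm1 hm2
    apply CartesianMonoidalCategory.hom_ext
    · rw [lift_fst, hm1]
    · rw [lift_snd, ← hm2, hm, hm1, inv_mul_cancel_left]

/-- For a group algebraic space `G` over a field `k`, the multiplication `m` of `G`, a morphism `G ×_k G
⟶ G`, is both flat and universally open. (The published situation allows any base scheme `S` with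
`k` a field over `S`; this row takes `S = Spec k`.) -/
theorem result (k : Type u) [Field k]
    (G : Over ((AlgSp.yon (Spec (CommRingCat.of k))).obj (Over.mk (𝟙 _)))) [GrpObj G]
    (hG : AlgSp.IsAlgSpace G.left) :
    AlgSp.LocP @Flat (μ[G]).left ∧ AlgSp.IsUnivOpenMor (μ[G]).left := by
  let Sk : Scheme.{u} := Spec (CommRingCat.of k)
  let B : AlgSp.Sp Sk := (AlgSp.yon Sk).obj (Over.mk (𝟙 _))
  have hB : AlgSp.IsAlgSpace B := AlgSp.IsAlgSpace.yon_obj _
  have sq : IsPullback (pullback.fst G.hom G.hom) (μ[G]).left G.hom G.hom :=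
    (isPullback_mul G).map (Over.forget B)
  have hGG : AlgSp.IsAlgSpace (G ⊗ G).left :=
    Groth.Agent.S9874.isAlgSpace_of_isPullback hB.diag hG hG sq
  let G' : AlgSp.Space Sk := ⟨G.left, hG⟩
  let GG' : AlgSp.Space Sk := ⟨(G ⊗ G).left, hGG⟩
  let B' : AlgSp.Space Sk := ⟨B, hB⟩
  let π : G' ⟶ B' := ObjectProperty.homMk G.hom
  let m : GG' ⟶ G' := ObjectProperty.homMk (μ[G]).left
  let pr : GG' ⟶ G' := ObjectProperty.homMk (pullback.fst G.hom G.hom)
  constructor
  · have hπ : AlgSp.LocP @Flat π.hom := by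
      obtain ⟨U, a, ha1, ha2⟩ := hG.atlas
      obtain ⟨h, hh⟩ := (AlgSp.yon Sk).map_surjective (a ≫ G.hom)
      haveI : Subsingleton ↥(Over.mk (𝟙 Sk)).left :=
        (inferInstance : Subsingleton (PrimeSpectrum k))
      haveI : IsIntegral (Over.mk (𝟙 Sk)).left :=
        (inferInstance : IsIntegral (Spec (CommRingCat.of k)))
      refine Groth.Agent.S9947.result @Flat (Or.inr (Or.inr (Or.inl rfl))) π a (𝟙 _) h ha1 ha2
        (AlgSp.repWith_id _ _) ?_ inferInstance
      rw [Category.comp_id, hh]
      rfl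
    exact Groth.Agent.S9984.result @Flat (Or.inr (Or.inr (Or.inl rfl))) π π pr m sq hπ
  · have hπ : AlgSp.IsUnivOpenMor G.hom := Groth.Agent.S9911.result G' (𝟙 _) π
    exact Groth.Agent.Lib.Helper12.TopDescent.univSp_baseChange _ sq hπ

end Groth.Agent.S10125
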