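import Groth.Statements.S10126
import Mathlib
import Groth.Agent.S9874
import Groth.Agent.S9911
import Groth.Agent.S9947
import Groth.Agent.S9984
import Groth.Agent.Lib.Helper12TopDescent

set_option autoImplicit false
universe u
open CategoryTheory CategoryTheory.Limits AlgebraicGeometry
open AlgSp AlgSp.GroupoidSp

namespace Groth.Agent.S10126

variable {S : Scheme.{u}} {B : AlgSp.Sp S}

lemma lift_congr (G : AlgSp.GroupoidSp B) {T : AlgSp.Sp S} {α α' β β' : T ⟶ G.R} (hα : α = α')
    (hβ : β = β') (h : α ≫ G.s = β ≫ G.t) (h' : α' ≫ G.s = β' ≫ G.t) :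
    pullback.lift α β h = pullback.lift α' β' h' := by
  subst hα hβ
  rfl

lemma snd_eq (G : AlgSp.GroupoidSp B) {T : AlgSp.Sp S} (α β γ : T ⟶ G.R)
    (hcond : α ≫ G.s = β ≫ G.t) (hγ : pullback.lift α β hcond ≫ G.c = γ)
    (h1 : (α ≫ G.i) ≫ G.s = γ ≫ G.t) : β = pullback.lift (α ≫ G.i) γ h1 ≫ G.c := by
  have hi : (α ≫ G.i) ≫ G.s = α ≫ G.t := by rw [Category.assoc, G.i_s]
  have e1 := G.assoc (α ≫ G.i) α β hi hcond
  have h3 : (β ≫ G.t ≫ G.e) ≫ G.s = β ≫ G.t := by
    rw [Category.assoc, Category.assoc, G.e_s, Category.comp_id]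
  have e2 : pullback.lift (pullback.lift (α ≫ G.i) α hi ≫ G.c) β
      ((G.comp_s (α ≫ G.i) α hi).trans hcond) = pullback.lift (β ≫ G.t ≫ G.e) β h3 := by
    refine lift_congr G ?_ rfl _ _
    rw [G.i_comp, ← Category.assoc, hcond, Category.assoc]
  rw [e2, G.e_comp] at e1
  rw [e1]
  exact congrArg (· ≫ G.c) (lift_congr G rfl hγ _ _)

/-- In a groupoid, composition is the base change of the target map along itself. -/
lemma isPullback_comp (G : AlgSp.GroupoidSp B) :
    IsPullback (pullback.fst G.s G.t) G.c G.t G.t := by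
  have hc : ∀ {T : AlgSp.Sp S} (m : T ⟶ pullback G.s G.t),
      m = pullback.lift (m ≫ pullback.fst _ _) (m ≫ pullback.snd _ _)
        (by rw [Category.assoc, Category.assoc, pullback.condition]) := by
    intro T m
    apply pullback.hom_ext
    · rw [pullback.lift_fst]
    · rw [pullback.lift_snd]
  refine ⟨⟨?_⟩, ⟨PullbackCone.IsLimit.mk _ ?_ ?_ ?_ ?_⟩⟩
  · have h := G.comp_t (pullback.fst G.s G.t) (pullback.snd G.s G.t) pullback.condition
    have h1 : pullback.lift (pullback.fst G.s G.t) (pullback.snd G.s G.t) pullback.condition =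
        𝟙 _ := by
      apply pullback.hom_ext
      · rw [pullback.lift_fst, Category.id_comp]
      · rw [pullback.lift_snd, Category.id_comp]
    rw [h1, Category.id_comp] at h
    exact h.symm
  · intro s
    have h1 : (s.fst ≫ G.i) ≫ G.s = s.snd ≫ G.t := by
      rw [Category.assoc, G.i_s, s.condition]
    refine pullback.lift s.fst (pullback.lift (s.fst ≫ G.i) s.snd h1 ≫ G.c) ?_
    rw [G.comp_t, Category.assoc, G.i_t]
  · intro s
    exact pullback.lift_fst _ _ _
  · intro s
    have h1 : (s.fst ≫ G.i) ≫ G.s = s.snd ≫ G.t := by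
      rw [Category.assoc, G.i_s, s.condition]
    have h0 : s.fst ≫ G.s = (s.fst ≫ G.i) ≫ G.t := by rw [Category.assoc, G.i_t]
    change pullback.lift s.fst (pullback.lift (s.fst ≫ G.i) s.snd h1 ≫ G.c) _ ≫ G.c = s.snd
    rw [← G.assoc s.fst (s.fst ≫ G.i) s.snd h0 h1]
    have h2 : (s.snd ≫ G.t ≫ G.e) ≫ G.s = s.snd ≫ G.t := by
      rw [Category.assoc, Category.assoc, G.e_s, Category.comp_id]
    rw [lift_congr G (α' := s.snd ≫ G.t ≫ G.e) (β' := s.snd) _ rfl _ h2]
    · exact G.e_comp s.snd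
    · rw [G.comp_i, ← Category.assoc, s.condition, Category.assoc]
  · intro s m hm1 hm2
    have h1 : (s.fst ≫ G.i) ≫ G.s = s.snd ≫ G.t := by
      rw [Category.assoc, G.i_s, s.condition]
    rw [hc m]
    have hcond : (m ≫ pullback.fst G.s G.t) ≫ G.s = (m ≫ pullback.snd G.s G.t) ≫ G.t := by
      rw [Category.assoc, Category.assoc, pullback.condition]
    have hγ : pullback.lift (m ≫ pullback.fst G.s G.t) (m ≫ pullback.snd G.s G.t) hcond ≫ G.c =
        s.snd := by
      rw [← hm2]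
      congr 1
      exact (hc m).symm
    have h1' : ((m ≫ pullback.fst G.s G.t) ≫ G.i) ≫ G.s = s.snd ≫ G.t := by
      rw [hm1]; exact h1
    have key := snd_eq G _ _ _ hcond hγ h1'
    refine lift_congr G hm1 (key.trans ?_) _ _
    exact congrArg (· ≫ G.c) (lift_congr G (by rw [hm1]) rfl _ _)

/-- Let `(U, R, s, t, c)` be a groupoid in algebraic spaces over `B` whose object space is `U = Spec k`,
with `k` a field. Then the composition `c : R ×_{s, U, t} R ⟶ R` is flat and universally open. -/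
theorem result (S : Scheme.{u}) (B : AlgSp.Sp S) (hB : AlgSp.IsAlgSpace B)
    (G : AlgSp.GroupoidSp B) (hR : AlgSp.IsAlgSpace G.R) (k : Type u) [Field k]
    (σ : Spec (CommRingCat.of k) ⟶ S) (eU : G.U ≅ (AlgSp.yon S).obj (Over.mk σ)) :
    AlgSp.LocP @Flat G.c ∧ AlgSp.IsUnivOpenMor G.c := by
  have hU : AlgSp.IsAlgSpace G.U := (AlgSp.IsAlgSpace.yon_obj (Over.mk σ)).of_iso eU.symm
  have sq0 := isPullback_comp G
  have hP : AlgSp.IsAlgSpace (pullback G.s G.t) :=
    Groth.Agent.S9874.isAlgSpace_of_isPullback hU.diag hR hR (IsPullback.of_hasPullback G.s G.t)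
  let tk : G.R ⟶ (AlgSp.yon S).obj (Over.mk σ) := G.t ≫ eU.hom
  have sq : IsPullback (pullback.fst G.s G.t) G.c tk tk :=
    IsPullback.of_iso sq0 (Iso.refl _) (Iso.refl _) (Iso.refl _) eU (by simp) (by simp)
      (by simp [tk]) (by simp [tk])
  let R' : AlgSp.Space S := ⟨G.R, hR⟩
  let P' : AlgSp.Space S := ⟨pullback G.s G.t, hP⟩
  let K' : AlgSp.Space S := ⟨(AlgSp.yon S).obj (Over.mk σ), AlgSp.IsAlgSpace.yon_obj _⟩
  let π : R' ⟶ K' := ObjectProperty.homMk tk
  let m : P' ⟶ R' := ObjectProperty.homMk G.c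
  let pr : P' ⟶ R' := ObjectProperty.homMk (pullback.fst G.s G.t)
  constructor
  · have hπ : AlgSp.LocP @Flat π.hom := by
      obtain ⟨V, a, ha1, ha2⟩ := hR.atlas
      obtain ⟨h, hh⟩ := (AlgSp.yon S).map_surjective (a ≫ tk)
      haveI : Subsingleton ↥(Over.mk σ).left :=
        (inferInstance : Subsingleton (PrimeSpectrum k))
      haveI : IsIntegral (Over.mk σ).left :=
        (inferInstance : IsIntegral (Spec (CommRingCat.of k)))
      refine Groth.Agent.S9947.result @Flat (Or.inr (Or.inr (Or.inl rfl))) π a (𝟙 _) h ha1 ha2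
        (AlgSp.repWith_id _ _) ?_ inferInstance
      rw [Category.comp_id, hh]
      rfl
    exact Groth.Agent.S9984.result @Flat (Or.inr (Or.inr (Or.inl rfl))) π π pr m sq hπ
  · have hπ : AlgSp.IsUnivOpenMor tk := Groth.Agent.S9911.result R' σ π
    exact Groth.Agent.Lib.Helper12.TopDescent.univSp_baseChange _ sq hπ

end Groth.Agent.S10126
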