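import Groth.Statements.S10358
import Mathlib
import Groth.Agent.S10357
import Groth.Agent.S10359
import Groth.Agent.S9928
import Groth.Agent.Lib.Helper12ResidualFactor

set_option autoImplicit false
set_option linter.style.haveILetI false
universe u
open CategoryTheory CategoryTheory.Limits AlgebraicGeometry Topology TopologicalSpace
open AlgSp

namespace Groth.Agent.S10358

open CategoryTheory.Limits Opposite MorphismProperty

variable {S : Scheme.{u}}

/-- Let S be a scheme, X a decent algebraic space over S, and Spec k ⟶ X a morphism over S from the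
spectrum of a field whose image in S is a closed point s with k finite over κ(s) (Spec k ⟶ S written
through a ring map φ : κ(s) → k). Then Spec k ⟶ X is finite; if moreover φ is bijective (k = κ(s))
it is a closed immersion. -/
theorem result {S : Scheme.{u}} (X : AlgSp.Space S)
    (hX : AlgSp.IsDecent X.obj) (s : ↥S) (hs : IsClosed ({s} : Set ↥S)) (k : Type u) [Field k]
    (φ : S.residueField s ⟶ CommRingCat.of k) (hφ : φ.hom.Finite)
    (p : (AlgSp.yon S).obj (Over.mk (Spec.map φ ≫ S.fromSpecResidueField s)) ⟶ X.obj) :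
    AlgSp.RepWith @IsFinite p ∧
      (Function.Bijective φ.hom → AlgSp.RepWith @IsClosedImmersion p) := by
  classical
  have hcl := Groth.Agent.S10357.result X hX s hs k φ hφ.to_isIntegral p (IsLocalRing.closedPoint k)
  obtain ⟨q, hq, hqc⟩ := Groth.Agent.S10359.result X hX _ hcl
  haveI hqm : Mono q.toHom := Groth.Agent.S9928.mono_of_repWith @IsClosedImmersion
    (fun _ _ f hf => by haveI := hf; infer_instance) q.toHom hqc
  let Zq : AlgSp.Space S := ⟨(AlgSp.yon S).obj q.pt, AlgSp.IsAlgSpace.yon_obj _⟩
  let iq : Zq ⟶ X := ObjectProperty.homMk q.toHom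
  haveI : Mono iq.hom := hqm
  have hx1 : AlgSp.Points.ofPt p ((⊥ : PrimeSpectrum k) : ↥(Over.mk (Spec.map φ ≫ S.fromSpecResidueField s)).left) ∈
      Set.range (AlgSp.Points.map iq.hom) := by
    refine ⟨AlgSp.Points.ofScheme q.pt (IsLocalRing.closedPoint q.K), ?_⟩
    rw [← AlgSp.Points.ofPt_eq_map_ofScheme]
    show AlgSp.Points.ofPt q.toHom _ = _
    rw [AlgSp.Points.ofPt_toHom, hq]
    congr 1
    exact (inferInstance : Subsingleton (PrimeSpectrum k)).elim _ _
  obtain ⟨d0, hd0⟩ := Groth.Agent.Lib.Helper12.ResidualFactor.exists_factor_fieldPoint iq k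
    (Spec.map φ ≫ S.fromSpecResidueField s) p hx1
  obtain ⟨d, hd⟩ := (AlgSp.yon S).map_surjective d0
  have hdq : (AlgSp.yon S).map d ≫ q.toHom = p := by rw [hd]; exact hd0
  -- the ring map
  let ψ : CommRingCat.of q.K ⟶ CommRingCat.of k := Spec.preimage d.left
  have hψ : Spec.map ψ = d.left := Spec.map_preimage _
  have hw : d.left ≫ q.str = Spec.map φ ≫ S.fromSpecResidueField s := Over.w d
  let θ := S.descResidueField (Scheme.stalkClosedPointTo q.str)
  have hθ : Spec.map θ ≫ S.fromSpecResidueField (q.str (IsLocalRing.closedPoint q.K)) = q.str :=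
    Scheme.descResidueField_stalkClosedPointTo_fromSpecResidueField q.K S q.str
  have h1 : (Scheme.SpecToEquivOfField k S).symm ⟨_, θ ≫ ψ⟩ = (Scheme.SpecToEquivOfField k S).symm ⟨s, φ⟩ := by
    show Spec.map (θ ≫ ψ) ≫ S.fromSpecResidueField _ = Spec.map φ ≫ S.fromSpecResidueField s
    rw [Spec.map_comp, Category.assoc, hθ, hψ, hw]
  obtain ⟨e, he⟩ := Scheme.SpecToEquivOfField_eq_iff.1 ((Scheme.SpecToEquivOfField k S).symm.injective h1)
  have he' : θ ≫ ψ = (S.residueFieldCongr e).hom ≫ φ := he
  have hfin : ψ.hom.Finite := by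
    have h2 : (θ ≫ ψ).hom.Finite := by
      rw [he']
      show (φ.hom.comp (S.residueFieldCongr e).hom.hom).Finite
      exact RingHom.Finite.comp hφ (RingHom.Finite.of_surjective _
        (ConcreteCategory.bijective_of_isIso (S.residueFieldCongr e).hom).2)
    exact RingHom.Finite.of_comp_finite (f := θ.hom) h2
  haveI hdfin : IsFinite d.left := by
    rw [← hψ, IsFinite.SpecMap_iff]; exact hfin
  refine ⟨?_, fun hbij => ?_⟩
  · rw [← hdq]
    refine (AlgSp.RepWith @IsFinite).comp_mem _ _ ((AlgSp.repWith_yon_map_iff _ d).2 hdfin) ?_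
    refine ⟨hqc.1, fun U V g fst snd sq => ?_⟩
    haveI : IsClosedImmersion snd.left := hqc.2 g fst snd sq
    exact (inferInstance : IsFinite snd.left)
  · have hsurj : Function.Surjective ψ.hom := by
      have h3 : Function.Surjective (θ ≫ ψ).hom := by
        rw [he']
        show Function.Surjective (φ.hom.comp (S.residueFieldCongr e).hom.hom)
        exact hbij.2.comp (ConcreteCategory.bijective_of_isIso (S.residueFieldCongr e).hom).2
      exact Function.Surjective.of_comp h3
    haveI : IsClosedImmersion d.left := by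
      rw [← hψ]; exact IsClosedImmersion.spec_of_surjective ψ hsurj
    rw [← hdq]
    exact (AlgSp.RepWith @IsClosedImmersion).comp_mem _ _
      ((AlgSp.repWith_yon_map_iff _ d).2 inferInstance) hqc

end Groth.Agent.S10358
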