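import Groth.Statements.S10127
import Mathlib
import Groth.Agent.Lib.H5bSepMor
import Groth.Agent.S10358
import Groth.Agent.S10116

set_option autoImplicit false
universe u
open CategoryTheory CategoryTheory.Limits AlgebraicGeometry MonoidalCategory MonObj
open AlgSp

namespace Groth.Agent.S10127

/-- A group algebraic space over a field `k` which is a decent algebraic space is separated. (The
published situation allows any base scheme `S` with `k` a field over `S`; this row takes `S = Spec
k`.) -/
theorem result (k : Type u) [Field k]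
    (G : Over ((AlgSp.yon (Spec (CommRingCat.of k))).obj (Over.mk (𝟙 _)))) [GrpObj G]
    (hG : AlgSp.IsAlgSpace G.left) (hd : AlgSp.IsDecent G.left) : AlgSp.IsSeparatedSp G.left := by
  have hB : AlgSp.IsAlgSpace ((AlgSp.yon (Spec (CommRingCat.of k))).obj (Over.mk (𝟙 _))) :=
    AlgSp.IsAlgSpace.yon_obj _
  obtain ⟨s, φ, heq, hbij⟩ := Groth.Agent.Lib.H5bSepMor.exists_section_residueField k
  have hsub : Subsingleton ↥(Spec (CommRingCat.of k)) :=
    (inferInstance : Subsingleton (PrimeSpectrum k))
  have hs : IsClosed ({s} : Set ↥(Spec (CommRingCat.of k))) := by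
    have : ({s} : Set ↥(Spec (CommRingCat.of k))) = Set.univ := by
      ext x
      simp [Subsingleton.elim x s]
    rw [this]
    exact isClosed_univ
  let jso : Over.mk (Spec.map φ ≫ (Spec (CommRingCat.of k)).fromSpecResidueField s) ≅
      Over.mk (𝟙 (Spec (CommRingCat.of k))) :=
    Over.isoMk (Iso.refl _) (by
      show 𝟙 _ ≫ 𝟙 _ = Spec.map φ ≫ (Spec (CommRingCat.of k)).fromSpecResidueField s
      rw [heq]
      exact Category.id_comp _)
  have hfin : φ.hom.Finite := RingHom.Finite.of_surjective _ hbij.2
  have h1 := (Groth.Agent.S10358.result ⟨G.left, hG⟩ hd s hs k φ hfin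
    ((AlgSp.yon (Spec (CommRingCat.of k))).map jso.hom ≫ (η[G]).left)).2 hbij
  have h2 : AlgSp.RepWith @IsClosedImmersion (η[G]).left :=
    (MorphismProperty.cancel_left_of_respectsIso (AlgSp.RepWith @IsClosedImmersion)
      ((AlgSp.yon (Spec (CommRingCat.of k))).map jso.hom) (η[G]).left).1 h1
  have h3 : AlgSp.IsSeparatedMor G.hom :=
    (Groth.Agent.S10116.result (Spec (CommRingCat.of k)) _ hB G hG).1.2 h2
  refine Groth.Agent.Lib.H5bSepMor.repWith_diag_of_mor @IsClosedImmersion G.hom h3 ?_
  rw [AlgSp.repWith_diag_yon_iff]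
  show IsClosedImmersion (pullback.diagonal (𝟙 (Spec (CommRingCat.of k))))
  infer_instance

end Groth.Agent.S10127
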