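import Groth.Statements.S10128
import Mathlib
import Groth.Agent.Lib.H5bSepMor
import Groth.Agent.Lib.H5bSepMor2
import Groth.Agent.Lib.H5bSecClosed
import Groth.Agent.S10122

set_option autoImplicit false
universe u
open CategoryTheory CategoryTheory.Limits AlgebraicGeometry
open AlgSp AlgSp.GroupoidSp

namespace Groth.Agent.S10128

/-- Let `(U, R, s, t, c)` be a groupoid in algebraic spaces over `B` whose object space is `U = Spec k`,
with `k` a field, and assume `R` is a decent algebraic space. Then `R` is separated over the base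
scheme `S`. (The published statement concludes that `R` is separated in the absolute sense; this row
concludes that `R` is separated over `S`, which the absolute notion implies.) -/
theorem result (S : Scheme.{u}) (B : AlgSp.Sp S) (hB : AlgSp.IsAlgSpace B)
    (G : AlgSp.GroupoidSp B) (hR : AlgSp.IsAlgSpace G.R) (k : Type u) [Field k]
    (σ : Spec (CommRingCat.of k) ⟶ S) (eU : G.U ≅ (AlgSp.yon S).obj (Over.mk σ)) (hd : AlgSp.IsDecent G.R) :
    AlgSp.IsSeparatedSp G.R := by
  have hK : AlgSp.IsAlgSpace ((AlgSp.yon S).obj (Over.mk σ)) := AlgSp.IsAlgSpace.yon_obj _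
  have hU : AlgSp.IsAlgSpace G.U := hK.of_iso eU.symm
  -- the unit section is a closed immersion
  have hpr : (eU.inv ≫ G.e) ≫ (G.s ≫ eU.hom) = 𝟙 _ := by
    rw [Category.assoc, ← Category.assoc G.e, G.e_s, Category.id_comp, eU.inv_hom_id]
  have hcl := Groth.Agent.Lib.H5bSecClosed.closedImmersion_of_section_of_decent ⟨G.R, hR⟩ hd k σ
    (eU.inv ≫ G.e) (G.s ≫ eU.hom) hpr
  have he : AlgSp.RepWith @IsClosedImmersion G.e :=
    (MorphismProperty.cancel_left_of_respectsIso (AlgSp.RepWith @IsClosedImmersion)
      eU.inv G.e).1 hcl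
  have hw : G.e ≫ G.j = 𝟙 G.U ≫ G.diag := by
    apply pullback.hom_ext
    · rw [Category.assoc, G.j_fst, G.e_t, Category.id_comp]
      exact (pullback.lift_fst _ _ _).symm
    · rw [Category.assoc, G.j_snd, G.e_s, Category.id_comp]
      exact (pullback.lift_snd _ _ _).symm
  obtain ⟨eG, heG⟩ : ∃ eG : G.U ⟶ G.stabilizer, eG ≫ G.stabilizerι = G.e :=
    ⟨pullback.lift G.e (𝟙 G.U) hw, pullback.lift_fst _ _ _⟩
  have hmd : Mono G.diag :=
    mono_of_mono_fac (show G.diag ≫ pullback.fst G.pU G.pU = 𝟙 G.U from pullback.lift_fst _ _ _)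
  have hms : Mono G.stabilizerι := inferInstanceAs (Mono (pullback.fst G.j G.diag))
  have heGc : AlgSp.RepWith @IsClosedImmersion eG :=
    Groth.Agent.Lib.H5bSepMor.repWith_of_comp_mono @IsClosedImmersion eG G.stabilizerι
      (heG.symm ▸ he)
  have hj : AlgSp.IsSeparatedMor G.j :=
    ((Groth.Agent.S10122.result S B hB G hU hR eG heG).1.2).2 heGc
  -- the diagonal of `U ×_B U`
  have hsub : Subsingleton ↥(Spec (CommRingCat.of k)) :=
    (inferInstance : Subsingleton (PrimeSpectrum k))
  have hsepσ : IsSeparated σ := isSeparated_of_injective σ (fun x y _ => Subsingleton.elim x y)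
  have hKs : AlgSp.RepWith @IsClosedImmersion (Limits.diag ((AlgSp.yon S).obj (Over.mk σ))) :=
    (AlgSp.repWith_diag_yon_iff @IsClosedImmersion (Over.mk σ)).2
      (IsSeparated.isClosedImmersion_diagonal (f := σ))
  have hZ : AlgSp.RepWith @IsClosedImmersion (Limits.diag (pullback G.pU G.pU)) :=
    Groth.Agent.Lib.H5bSepMor.repWith_diag_of_jointly_mono @IsClosedImmersion
      (pullback.fst G.pU G.pU ≫ eU.hom) (pullback.snd G.pU G.pU ≫ eU.hom)
      (by
        intro T a b h1 h2
        apply pullback.hom_ext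
        · rw [← cancel_mono eU.hom, Category.assoc, Category.assoc]
          exact h1
        · rw [← cancel_mono eU.hom, Category.assoc, Category.assoc]
          exact h2) hKs hKs
  exact Groth.Agent.Lib.H5bSepMor.repWith_diag_of_mor @IsClosedImmersion G.j hj hZ

end Groth.Agent.S10128
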