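import Groth.Statements.S10135
import Mathlib
import Groth.Agent.Lib.H5bFibDimBC
import Groth.Agent.Lib.Helper7TopDim
import Groth.Agent.Lib.Helper12LocPCases
import Groth.Agent.S10142
import Groth.Agent.S10175
import Groth.Agent.S10177
import Groth.Agent.S9874

set_option autoImplicit false
universe u
open CategoryTheory CategoryTheory.Limits AlgebraicGeometry
open AlgSp AlgSp.GroupoidSp

namespace Groth.Agent.S10135

/-- For a groupoid in algebraic spaces `(U, R, s, t, c)` over `B` with `U = Spec k` and `s, t` locally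
of finite type, `dim_r(R) = dim(R)` for every point `r` of `R`. -/
theorem result (S : Scheme.{u}) (B : AlgSp.Sp S) (hB : AlgSp.IsAlgSpace B)
    (G : AlgSp.GroupoidSp B) (hR : AlgSp.IsAlgSpace G.R) (k : Type u) [Field k]
    (σ : Spec (CommRingCat.of k) ⟶ S) (eU : G.U ≅ (AlgSp.yon S).obj (Over.mk σ))
    (hs : AlgSp.LocP @LocallyOfFiniteType G.s) (ht : AlgSp.LocP @LocallyOfFiniteType G.t) (r : AlgSp.Points G.R) :
    AlgSp.HasAt (fun V v => FlatMor.localDim ↥V v = AlgSp.dim G.R) G.R r := by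
  have hK : AlgSp.IsAlgSpace ((AlgSp.yon S).obj (Over.mk σ)) := AlgSp.IsAlgSpace.yon_obj _
  have hU : AlgSp.IsAlgSpace G.U := hK.of_iso eU.symm
  have hsub : Subsingleton ↥(Over.mk σ).left := (inferInstance : Subsingleton (PrimeSpectrum k))
  have hsubK : Subsingleton (AlgSp.Points ((AlgSp.yon S).obj (Over.mk σ))) :=
    (AlgSp.Points.schemeEquiv (Over.mk σ)).symm.subsingleton
  have hsubU : Subsingleton (AlgSp.Points G.U) := by
    refine ⟨fun p q => ?_⟩
    have h1 : AlgSp.Points.map eU.hom p = AlgSp.Points.map eU.hom q := Subsingleton.elim _ _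
    have h2 := congrArg (AlgSp.Points.map eU.inv) h1
    rwa [← AlgSp.Points.map_comp, ← AlgSp.Points.map_comp, eU.hom_inv_id, AlgSp.Points.map_id,
      AlgSp.Points.map_id] at h2
  obtain ⟨sqc, hφ⟩ := Groth.Agent.S10142.result S B hB G hU hR
  have sqp := IsPullback.of_hasPullback G.s G.t
  have hP : AlgSp.IsAlgSpace (pullback G.s G.t) :=
    Groth.Agent.S9874.isAlgSpace_of_isPullback hU.diag hR hR sqp
  -- the shear map
  have w1 : (pullback.fst G.t G.t ≫ G.i) ≫ G.s = pullback.snd G.t G.t ≫ G.t :=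
    (Category.assoc _ _ _).trans ((congrArg (pullback.fst G.t G.t ≫ ·) G.i_s).trans
      pullback.condition)
  have w2 : pullback.fst G.t G.t ≫ G.s =
      (pullback.lift (pullback.fst G.t G.t ≫ G.i) (pullback.snd G.t G.t) w1 ≫ G.c) ≫ G.t := by
    rw [G.comp_t, Category.assoc, G.i_t]
  obtain ⟨-, hφc⟩ := hφ (pullback.lift (pullback.fst G.t G.t)
    (pullback.lift (pullback.fst G.t G.t ≫ G.i) (pullback.snd G.t G.t) w1 ≫ G.c) w2)
    (pullback.lift_fst _ _ _) (pullback.lift_snd _ _ _)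
  -- all points of `R` have the same relative dimension for `s`
  have key : ∀ (Q : WithBot ℕ∞ → Prop) (r r' : AlgSp.Points G.R),
      AlgSp.HasAtMor (fun _ _ h u => Q (FlatMor.fibreDimAt h u)) G.s r →
      AlgSp.HasAtMor (fun _ _ h u => Q (FlatMor.fibreDimAt h u)) G.s r' := by
    intro Q r r' h
    obtain ⟨w, hw1, hw2⟩ := Groth.Agent.S10175.exists_point_of_isPullback
      (IsPullback.of_hasPullback G.t G.t) r r' (Subsingleton.elim _ _)
    let z := AlgSp.Points.map (pullback.lift (pullback.fst G.t G.t)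
      (pullback.lift (pullback.fst G.t G.t ≫ G.i) (pullback.snd G.t G.t) w1 ≫ G.c) w2) w
    have hz1 : AlgSp.Points.map (pullback.fst G.s G.t) z = r := by
      show AlgSp.Points.map _ (AlgSp.Points.map _ w) = r
      rw [← AlgSp.Points.map_comp, pullback.lift_fst, hw1]
    have hz2 : AlgSp.Points.map G.c z = r' := by
      show AlgSp.Points.map _ (AlgSp.Points.map _ w) = r'
      rw [← AlgSp.Points.map_comp, hφc, hw2]
    have e1 := Groth.Agent.Lib.H5bFibDimBC.hasAtMor_fibreDimAt_baseChange_iff hR hU hR sqp hs z Q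
    have e2 := Groth.Agent.Lib.H5bFibDimBC.hasAtMor_fibreDimAt_baseChange_iff hR hU hR sqc hs z Q
    rw [hz1] at e1
    rw [hz2] at e2
    exact e2.1 (e1.2 h)
  -- pass to the one-point base
  have sqe : IsPullback (𝟙 G.R) G.s (G.s ≫ eU.hom) eU.hom :=
    IsPullback.of_horiz_isIso ⟨by rw [Category.id_comp]⟩
  have hse : AlgSp.LocP @LocallyOfFiniteType (G.s ≫ eU.hom) := by
    have sqe' : IsPullback (𝟙 G.R) (G.s ≫ eU.hom) G.s eU.inv :=
      IsPullback.of_horiz_isIso ⟨by rw [Category.id_comp, Category.assoc, eU.hom_inv_id,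
        Category.comp_id]⟩
    exact Groth.Agent.Lib.Helper12.LocPCases.good_lft.locP_baseChange hR hU hK sqe' hs
  have key2 : ∀ (Q : WithBot ℕ∞ → Prop) (r : AlgSp.Points G.R),
      AlgSp.HasAtMor (fun _ _ h u => Q (FlatMor.fibreDimAt h u)) (G.s ≫ eU.hom) r ↔
      AlgSp.HasAtMor (fun _ _ h u => Q (FlatMor.fibreDimAt h u)) G.s r := by
    intro Q r
    have := Groth.Agent.Lib.H5bFibDimBC.hasAtMor_fibreDimAt_baseChange_iff hR hK hU sqe hse r Q
    rw [AlgSp.Points.map_id] at this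
    exact this.symm
  obtain ⟨U₀, a₀, ha₀, ha₀s⟩ := hR.atlas
  obtain ⟨u₀, hu₀⟩ := Groth.Agent.S10177.surjective_ofPt a₀ ha₀s r
  have hd : ∀ (T : Over S) (c : (AlgSp.yon S).obj T ⟶ G.R), AlgSp.RepWith @Etale c →
      ∀ t : ↥T.left, FlatMor.localDim ↥T.left t = FlatMor.localDim ↥U₀.left u₀ := by
    intro T c hc t
    have h0 : AlgSp.HasAtMor (fun _ _ h u => FlatMor.fibreDimAt h u =
        FlatMor.localDim ↥U₀.left u₀) (G.s ≫ eU.hom) (AlgSp.Points.ofPt a₀ u₀) :=
      (Groth.Agent.Lib.H5bFibDimBC.hasAtMor_fibreDimAt_to_field_iff (G.s ≫ eU.hom) a₀ ha₀ u₀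
        (fun e => e = FlatMor.localDim ↥U₀.left u₀)).2 rfl
    exact (Groth.Agent.Lib.H5bFibDimBC.hasAtMor_fibreDimAt_to_field_iff (G.s ≫ eU.hom) c hc t
      (fun e => e = FlatMor.localDim ↥U₀.left u₀)).1
      ((key2 (fun e => e = FlatMor.localDim ↥U₀.left u₀) _).2
        (key (fun e => e = FlatMor.localDim ↥U₀.left u₀) _ _
          ((key2 (fun e => e = FlatMor.localDim ↥U₀.left u₀) _).1 h0)))
  have hdim : AlgSp.dim G.R = FlatMor.localDim ↥U₀.left u₀ := by
    unfold AlgSp.dim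
    apply le_antisymm
    · refine iSup_le fun T => iSup_le fun c => iSup_le fun hc => ?_
      rw [Groth.Agent.Lib.Helper7.TopDim.topologicalKrullDim_eq_iSup_localDim]
      exact iSup_le fun t => (hd T c hc t).le
    · exact le_trans (Groth.Agent.Lib.Helper7.TopDim.localDim_le_dim u₀)
        (le_iSup_of_le U₀ (le_iSup_of_le a₀ (le_iSup_of_le ha₀ le_rfl)))
  exact ⟨U₀, a₀, u₀, ha₀, hu₀, hdim.symm⟩

end Groth.Agent.S10135
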