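import Groth.Statements.S10136
import Mathlib
import Groth.Agent.Lib.H5bGrpTrans
import Groth.Agent.Lib.Helper7TopDim
import Groth.Agent.S10177

set_option autoImplicit false
universe u
open CategoryTheory CategoryTheory.Limits AlgebraicGeometry MonoidalCategory MonObj
open AlgSp

namespace Groth.Agent.S10136

/-- For a group algebraic space `G` locally of finite type over a field `k`, `dim_g(G) = dim(G)` for
every point `g` of `G`. (The published situation allows any base scheme `S` with `k` a field over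
`S`; this row takes `S = Spec k`.) -/
theorem result (k : Type u) [Field k]
    (G : Over ((AlgSp.yon (Spec (CommRingCat.of k))).obj (Over.mk (𝟙 _)))) [GrpObj G] (hG : AlgSp.IsAlgSpace G.left)
    (hlft : AlgSp.LocP @LocallyOfFiniteType G.hom) (g : AlgSp.Points G.left) :
    AlgSp.HasAt (fun V v => FlatMor.localDim ↥V v = AlgSp.dim G.left) G.left g := by
  have hB : AlgSp.IsAlgSpace ((AlgSp.yon (Spec (CommRingCat.of k))).obj (Over.mk (𝟙 _))) :=
    AlgSp.IsAlgSpace.yon_obj _
  haveI hsub : Subsingleton ↥(Over.mk (𝟙 (Spec (CommRingCat.of k)))).left :=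
    (inferInstance : Subsingleton (PrimeSpectrum k))
  have hsubB : Subsingleton (AlgSp.Points ((AlgSp.yon (Spec (CommRingCat.of k))).obj
      (Over.mk (𝟙 _)))) :=
    (AlgSp.Points.schemeEquiv (Over.mk (𝟙 (Spec (CommRingCat.of k))))).symm.subsingleton
  have key : ∀ (R : WithBot ℕ∞ → Prop) (x x' : AlgSp.Points G.left),
      AlgSp.HasAtMor (fun _ _ h u => R (FlatMor.fibreDimAt h u)) G.hom x →
      AlgSp.HasAtMor (fun _ _ h u => R (FlatMor.fibreDimAt h u)) G.hom x' := by
    intro R x x' h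
    rw [Groth.Agent.Lib.H5bGrpTrans.hasAtMor_fibreDimAt_translate hB G hG hlft R] at h ⊢
    rwa [Subsingleton.elim (AlgSp.Points.map G.hom x') (AlgSp.Points.map G.hom x)]
  obtain ⟨U₀, a₀, ha₀, ha₀s⟩ := hG.atlas
  obtain ⟨u₀, hu₀⟩ := Groth.Agent.S10177.surjective_ofPt a₀ ha₀s g
  have hd : ∀ (T : Over (Spec (CommRingCat.of k)))
      (c : (AlgSp.yon (Spec (CommRingCat.of k))).obj T ⟶ G.left), AlgSp.RepWith @Etale c →
      ∀ t : ↥T.left, FlatMor.localDim ↥T.left t = FlatMor.localDim ↥U₀.left u₀ := by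
    intro T c hc t
    have h0 : AlgSp.HasAtMor (fun _ _ h u => FlatMor.fibreDimAt h u =
        FlatMor.localDim ↥U₀.left u₀) G.hom (AlgSp.Points.ofPt a₀ u₀) :=
      (Groth.Agent.Lib.H5bFibDimBC.hasAtMor_fibreDimAt_to_field_iff G.hom a₀ ha₀ u₀
        (fun e => e = FlatMor.localDim ↥U₀.left u₀)).2 rfl
    exact (Groth.Agent.Lib.H5bFibDimBC.hasAtMor_fibreDimAt_to_field_iff G.hom c hc t
      (fun e => e = FlatMor.localDim ↥U₀.left u₀)).1
      (key (fun e => e = FlatMor.localDim ↥U₀.left u₀) _ _ h0)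
  have hdim : AlgSp.dim G.left = FlatMor.localDim ↥U₀.left u₀ := by
    unfold AlgSp.dim
    apply le_antisymm
    · refine iSup_le fun T => iSup_le fun c => iSup_le fun hc => ?_
      rw [Groth.Agent.Lib.Helper7.TopDim.topologicalKrullDim_eq_iSup_localDim]
      exact iSup_le fun t => (hd T c hc t).le
    · exact le_trans (Groth.Agent.Lib.Helper7.TopDim.localDim_le_dim u₀)
        (le_iSup_of_le U₀ (le_iSup_of_le a₀ (le_iSup_of_le ha₀ le_rfl)))
  exact ⟨U₀, a₀, u₀, ha₀, hu₀, hdim.symm⟩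

end Groth.Agent.S10136
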