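import Groth.Statements.S10141
import Mathlib
import Groth.Agent.Lib.H5bGpdOpen

set_option autoImplicit false
universe u
open CategoryTheory CategoryTheory.Limits AlgebraicGeometry
open AlgSp

namespace Groth.Agent.S10141

open Groth.Agent.Lib.H5bGpdOpen in
/-- the strict relation of a groupoid scheme is an equivalence relation on scheme-valued points. -/
lemma gpd_equivalence {S : Scheme.{u}} (G : Grpd.GroupoidScheme S) (T : Over S) :
    _root_.Equivalence (fun a b : T ⟶ Over.mk G.pU =>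
      ∃ ρ : T ⟶ Over.mk G.pR, ρ ≫ (Over.homMk G.s G.s_over : Over.mk G.pR ⟶ Over.mk G.pU) = a ∧
        ρ ≫ (Over.homMk G.t G.t_over : Over.mk G.pR ⟶ Over.mk G.pU) = b) := by
  have hepR : G.e ≫ G.pR = G.pU := by
    rw [← G.s_over, ← Category.assoc, G.e_s, Category.id_comp]
  have hipR : G.i ≫ G.pR = G.pR := by
    calc G.i ≫ G.pR = (G.i ≫ G.s) ≫ G.pU := by rw [Category.assoc, G.s_over]
      _ = G.pR := by rw [G.i_s, G.t_over]
  refine ⟨fun a => ?_, fun {a b} hab => ?_, fun {a b c} hab hbc => ?_⟩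
  · have ha : a.left ≫ G.pU = T.hom := Over.w a
    refine ⟨Over.homMk (a.left ≫ G.e) (by
      show (a.left ≫ G.e) ≫ G.pR = T.hom
      rw [Category.assoc, hepR, ha]), ?_, ?_⟩
    · apply Over.OverMorphism.ext
      show (a.left ≫ G.e) ≫ G.s = a.left
      rw [Category.assoc, G.e_s]
      exact Category.comp_id _
    · apply Over.OverMorphism.ext
      show (a.left ≫ G.e) ≫ G.t = a.left
      rw [Category.assoc, G.e_t]
      exact Category.comp_id _
  · obtain ⟨ρ, rfl, rfl⟩ := hab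
    have hρ : ρ.left ≫ G.pR = T.hom := Over.w ρ
    refine ⟨Over.homMk (ρ.left ≫ G.i) (by
      show (ρ.left ≫ G.i) ≫ G.pR = T.hom
      rw [Category.assoc, hipR, hρ]), ?_, ?_⟩
    · apply Over.OverMorphism.ext
      show (ρ.left ≫ G.i) ≫ G.s = ρ.left ≫ G.t
      rw [Category.assoc, G.i_s]
    · apply Over.OverMorphism.ext
      show (ρ.left ≫ G.i) ≫ G.t = ρ.left ≫ G.s
      rw [Category.assoc, G.i_t]
  · obtain ⟨ρ, rfl, rfl⟩ := hab
    obtain ⟨ρ', h1', rfl⟩ := hbc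
    have hρ : ρ.left ≫ G.pR = T.hom := Over.w ρ
    have h : ρ'.left ≫ G.s = ρ.left ≫ G.t := congrArg (fun m => m.left) h1'
    refine ⟨Over.homMk (pullback.lift ρ'.left ρ.left h ≫ G.c) (by
      show (pullback.lift ρ'.left ρ.left h ≫ G.c) ≫ G.pR = T.hom
      calc (pullback.lift ρ'.left ρ.left h ≫ G.c) ≫ G.pR
          = ((pullback.lift ρ'.left ρ.left h ≫ G.c) ≫ G.s) ≫ G.pU := by
            rw [Category.assoc _ G.s, G.s_over]
        _ = T.hom := by rw [G.comp_s ρ'.left ρ.left h, Category.assoc, G.s_over, hρ]),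
      ?_, ?_⟩
    · apply Over.OverMorphism.ext
      exact G.comp_s ρ'.left ρ.left h
    · apply Over.OverMorphism.ext
      exact G.comp_t ρ'.left ρ.left h

/-- Let `(U, R, s, t, c)` be a groupoid scheme over `S` and `g : U' ⟶ U` a morphism such that the
composite `h : U' ×_{g, U, t} R ⟶ R ⟶ U` of the projection with `s` has open image `W ⊂ U` and `h :
U' ×_{g, U, t} R ⟶ W` is a surjection of fppf sheaves. Then for the restriction `R' = R|_{U'}` the
map of fppf quotient sheaves `U'/R' ⟶ U/R` is representable and an open immersion. -/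
theorem result (S : Scheme.{u}) (G : Grpd.GroupoidScheme S)
    (U' : Scheme.{u}) (g : U' ⟶ G.U) (W : G.U.Opens)
    (hW : (W : Set ↥G.U) = Set.range ⇑(pullback.snd g G.t ≫ G.s))
    (hlift : pullback g G.t ⟶ ↑W) (hh : hlift ≫ W.ι = pullback.snd g G.t ≫ G.s)
    (hsurj : Sheaf.IsLocallySurjective ((AlgSp.yon S).map
      (Over.homMk hlift ((Category.assoc _ _ _).symm.trans (congrArg (· ≫ G.pU) hh)) :
        Over.mk ((pullback.snd g G.t ≫ G.s) ≫ G.pU) ⟶ Over.mk (W.ι ≫ G.pU))))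
    (R' : Over S) (s' t' : R' ⟶ Over.mk (g ≫ G.pU)) (r : R' ⟶ Over.mk G.pR)
    (hsq : IsPullback (prod.lift t' s') r
      (prod.map (Over.homMk g rfl : Over.mk (g ≫ G.pU) ⟶ Over.mk G.pU) (Over.homMk g rfl : Over.mk (g ≫ G.pU) ⟶ Over.mk G.pU))
      (prod.lift (Over.homMk G.t G.t_over : Over.mk G.pR ⟶ Over.mk G.pU) (Over.homMk G.s G.s_over : Over.mk G.pR ⟶ Over.mk G.pU)))
    (ψ : QuotSh.quot Scheme.fppfPrecoverage s' t' ⟶
      QuotSh.quot Scheme.fppfPrecoverage (Over.homMk G.s G.s_over : Over.mk G.pR ⟶ Over.mk G.pU) (Over.homMk G.t G.t_over : Over.mk G.pR ⟶ Over.mk G.pU))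
    (hψ : QuotSh.quotπ Scheme.fppfPrecoverage s' t' ≫ ψ =
      QuotSh.repMap Scheme.fppfPrecoverage (Over.homMk g rfl : Over.mk (g ≫ G.pU) ⟶ Over.mk G.pU) ≫ QuotSh.quotπ Scheme.fppfPrecoverage _ _) :
    AlgSp.RepWith @IsOpenImmersion ψ := by
  classical
  have hc1 : pullback.fst g G.t ≫ g ≫ G.pU = (pullback.snd g G.t ≫ G.s) ≫ G.pU := by
    rw [← Category.assoc, pullback.condition, Category.assoc, Category.assoc, G.t_over, G.s_over]
  have hc2 : pullback.snd g G.t ≫ G.pR = (pullback.snd g G.t ≫ G.s) ≫ G.pU := by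
    rw [Category.assoc, G.s_over]
  let p₁ : Over.mk ((pullback.snd g G.t ≫ G.s) ≫ G.pU) ⟶ Over.mk (g ≫ G.pU) :=
    Over.homMk (pullback.fst g G.t) hc1
  let p₂ : Over.mk ((pullback.snd g G.t ≫ G.s) ≫ G.pU) ⟶ Over.mk G.pR :=
    Over.homMk (pullback.snd g G.t) hc2
  let ι : Over.mk (W.ι ≫ G.pU) ⟶ Over.mk G.pU := Over.homMk W.ι rfl
  have : IsOpenImmersion ι.left := inferInstanceAs (IsOpenImmersion W.ι)
  have : Epi ((AlgSp.yon S).map
      (Over.homMk hlift ((Category.assoc _ _ _).symm.trans (congrArg (· ≫ G.pU) hh)) :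
        Over.mk ((pullback.snd g G.t ≫ G.s) ≫ G.pU) ⟶ Over.mk (W.ι ≫ G.pU))) :=
    (Sheaf.isLocallySurjective_iff_epi _).1 hsurj
  refine Groth.Agent.Lib.H5bGpdOpen.repWith_isOpenImmersion_of_restrict
    (Over.homMk G.s G.s_over : Over.mk G.pR ⟶ Over.mk G.pU)
    (Over.homMk G.t G.t_over : Over.mk G.pR ⟶ Over.mk G.pU)
    (Over.homMk g rfl : Over.mk (g ≫ G.pU) ⟶ Over.mk G.pU) s' t' r hsq (gpd_equivalence G)
    (Groth.Agent.Lib.H5bGpdOpen.qπ _ _) (Groth.Agent.Lib.H5bGpdOpen.qπ_condition _ _)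
    (Groth.Agent.Lib.H5bGpdOpen.isColimit_qπ _ _)
    (Groth.Agent.Lib.H5bGpdOpen.qπ s' t') (Groth.Agent.Lib.H5bGpdOpen.qπ_condition _ _)
    (Groth.Agent.Lib.H5bGpdOpen.isColimit_qπ _ _) ψ ?_ p₁ p₂ ?_ ι
    (Over.homMk hlift ((Category.assoc _ _ _).symm.trans (congrArg (· ≫ G.pU) hh)) :
        Over.mk ((pullback.snd g G.t ≫ G.s) ≫ G.pU) ⟶ Over.mk (W.ι ≫ G.pU)) ?_ ?_
  · unfold Groth.Agent.Lib.H5bGpdOpen.qπ
    rw [Category.assoc, hψ, ← Category.assoc, Groth.Agent.Lib.H5bSl.repIso_inv_comp_repMap,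
      Category.assoc]
  · apply Over.OverMorphism.ext
    exact pullback.condition
  · apply Over.OverMorphism.ext
    exact hh
  · intro u' ρ hu
    obtain ⟨z, hz1, hz2⟩ := Scheme.Pullback.exists_preimage_pullback (f := g) (g := G.t) u' ρ hu
    have h1 : G.s ρ ∈ (W : Set ↥G.U) := by
      rw [hW]
      exact ⟨z, by rw [Scheme.Hom.comp_apply, hz2]⟩
    show G.s ρ ∈ Set.range W.ι
    rw [Scheme.Opens.range_ι]
    exact h1

end Groth.Agent.S10141
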