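import Groth.Statements.S10143
import Mathlib
import Groth.Agent.Lib.H5bGrpTransU
import Groth.Agent.Lib.Helper12OpenSub2
import Groth.Agent.S10129
import Groth.Agent.S10194
import Groth.Agent.S10195

set_option autoImplicit false
universe u
open CategoryTheory CategoryTheory.Limits AlgebraicGeometry MonoidalCategory MonObj
open AlgSp

namespace Groth.Agent.S10143

/-- Let `G` be a group algebraic space over an algebraic space `B` with `G ⟶ B` locally of finite type.
Then there is a largest open subspace `W ⊂ B` such that `G_W ⟶ W` is unramified, and its formation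
commutes with base change along any morphism of algebraic spaces `B' ⟶ B`. -/
theorem result (S : Scheme.{u}) (B : AlgSp.Sp S) (hB : AlgSp.IsAlgSpace B)
    (G : Over B) [GrpObj G] (hG : AlgSp.IsAlgSpace G.left) (hlft : AlgSp.LocP @LocallyOfFiniteType G.hom) :
    ∃ (W : AlgSp.Sp S) (w : W ⟶ B), AlgSp.RepWith @IsOpenImmersion w ∧
      (∀ (W' : AlgSp.Sp S) (w' : W' ⟶ B), AlgSp.RepWith @IsOpenImmersion w' →
        (AlgSp.LocP (@LocallyOfFiniteType ⊓ @FormallyUnramified) (pullback.snd G.hom w') ↔ ∃ k : W' ⟶ W, k ≫ w = w')) ∧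
      (∀ (B' : AlgSp.Sp S), AlgSp.IsAlgSpace B' → ∀ (f : B' ⟶ B) (W'' : AlgSp.Sp S) (w'' : W'' ⟶ B'),
        AlgSp.RepWith @IsOpenImmersion w'' →
        (AlgSp.LocP (@LocallyOfFiniteType ⊓ @FormallyUnramified) (pullback.snd (pullback.snd G.hom f) w'') ↔
          ∃ k : W'' ⟶ pullback w f, k ≫ pullback.snd w f = w'')) := by
  classical
  let L : Set (AlgSp.Points G.left) :=
    {x | AlgSp.HasAtMor Groth.Agent.Lib.H5bUnrLocus.Qunr G.hom x}
  have hLopen : IsOpen L := Groth.Agent.Lib.H5bUnrLocus.isOpen_unrLocus G.hom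
  let WB : Set (AlgSp.Points B) := AlgSp.Points.map (η[G]).left ⁻¹' L
  have hWB : IsOpen WB := hLopen.preimage (AlgSp.Points.continuous_map _)
  obtain ⟨W', w, hw, hrange⟩ := Groth.Agent.S10195.result ⟨B, hB⟩ WB hWB
  refine ⟨W'.obj, w.hom, hw, ?_, ?_⟩
  · intro W'' w' hw'
    have hW'' : AlgSp.IsAlgSpace W'' :=
      Groth.Agent.S10129.isAlgSpace_of_representable hB w' hw'.1
    rw [Groth.Agent.Lib.H5bGrpTrans.locP_unr_baseChange_iff hB G hG hlft hW'' w' _ _
      (IsPullback.of_hasPullback G.hom w'),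
      Groth.Agent.S10194.exists_factor_iff w.hom hw w', hrange]
    constructor
    · rintro H _ ⟨t, rfl⟩
      exact H t
    · intro H t
      exact H ⟨t, rfl⟩
  · intro B' hB' f W'' w'' hw''
    have hW'' : AlgSp.IsAlgSpace W'' :=
      Groth.Agent.S10129.isAlgSpace_of_representable hB' w'' hw''.1
    have sq1 := IsPullback.of_hasPullback G.hom f
    have sq2 := IsPullback.of_hasPullback (pullback.snd G.hom f) w''
    have sq3 : IsPullback (pullback.fst (pullback.snd G.hom f) w'' ≫ pullback.fst G.hom f)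
        (pullback.snd (pullback.snd G.hom f) w'') G.hom (w'' ≫ f) := sq2.paste_horiz sq1
    rw [Groth.Agent.Lib.H5bGrpTrans.locP_unr_baseChange_iff hB G hG hlft hW'' (w'' ≫ f) _ _ sq3]
    have hopen : AlgSp.RepWith @IsOpenImmersion (pullback.snd w.hom f) :=
      MorphismProperty.of_isPullback (P := AlgSp.RepWith @IsOpenImmersion)
        (IsPullback.of_hasPullback w.hom f) hw
    rw [Groth.Agent.S10194.exists_factor_iff (pullback.snd w.hom f) hopen w'']
    have hr : Set.range (AlgSp.Points.map (pullback.snd w.hom f)) = AlgSp.Points.map f ⁻¹' WB := by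
      rw [Groth.Agent.Lib.Helper12.OpenSub.range_map_fst_of_isPullback
        (IsPullback.of_hasPullback w.hom f).flip, hrange]
    rw [hr]
    constructor
    · rintro H _ ⟨t, rfl⟩
      have h1 := H t
      rw [AlgSp.Points.map_comp] at h1
      exact h1
    · intro H t
      rw [AlgSp.Points.map_comp]
      exact H ⟨t, rfl⟩

end Groth.Agent.S10143
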