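import Groth.Statements.S1015
import Groth.Agent.Lib.H6xRpushQcB

set_option autoImplicit false
universe u
open CategoryTheory CategoryTheory.Limits AlgebraicGeometry
attribute [local instance] HasDerivedCategory.standard
open Perf

namespace Groth.Agent.S1015

/-- Let U ⊆ X be an open subscheme whose inclusion is quasi-compact. Every object F of D(O_U) with
quasi-coherent cohomology sheaves is the restriction of such an object on X: there is a complex G of
O_X-modules with quasi-coherent cohomology sheaves whose termwise restriction to U is isomorphic to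
F in D(O_U). -/
theorem result (X : Scheme.{u}) (U : X.Opens) [QuasiCompact U.ι]
    (F : DCoh.D (U : Scheme.{u})) (hF : DCoh.IsQCohD F) :
    ∃ G : CochainComplex X.Modules ℤ, DCoh.IsQCohD (DCoh.toD X G) ∧
      Nonempty (DerivedCategory.Q.obj ((DCoh.restrictCx U).obj G) ≅ F) := by
  obtain ⟨I, hI, -, ⟨eI⟩⟩ := Groth.Agent.Lib.H6xMV.exists_kInjective_iso' F
  refine ⟨((Scheme.Modules.pushforward U.ι).mapHomologicalComplex (ComplexShape.up ℤ)).obj I,
    ?_, ⟨?_⟩⟩
  · have e1 := Groth.Agent.Lib.H6xMV.rdIso (Scheme.Modules.pushforward U.ι) I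
    refine Groth.Agent.Lib.H6xRpushQc.isQCohD_of_iso e1.symm ?_
    exact Groth.Agent.Lib.H6xRpushQc.main U.ι _
      (Groth.Agent.Lib.H6xRpushQc.isQCohD_of_iso eI.symm hF)
  · refine DerivedCategory.Q.mapIso (HomologicalComplex.Hom.isoOfComponents
      (fun n => (Scheme.Modules.restrictFunctorAdjCounitIso U.ι).app (I.X n)) ?_) ≪≫ eI
    intro i j _
    exact ((Scheme.Modules.restrictFunctorAdjCounitIso U.ι).hom.naturality (I.d i j)).symm

end Groth.Agent.S1015
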