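import Groth.Statements.S10190
import Mathlib
import Groth.Agent.S10177

set_option autoImplicit false
universe u
open CategoryTheory CategoryTheory.Limits AlgebraicGeometry Topology TopologicalSpace
open AlgSp

namespace Groth.Agent.S10190

/-- In a scheme, the points whose local ring has dimension zero are dense. -/
theorem dense_setOf_ringKrullDim_stalk_eq_zero (U : Scheme.{u}) :
    Dense {u : U | ringKrullDim (U.presheaf.stalk u) = 0} := by
  rw [dense_iff_inter_open]
  rintro W hW ⟨x, hx⟩
  have hZirr : IsIrreducible (irreducibleComponent x) := isIrreducible_irreducibleComponent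
  have hZcl : IsClosed (irreducibleComponent x) := isClosed_irreducibleComponent
  obtain ⟨η, hη⟩ := QuasiSober.sober hZirr hZcl
  have hηx : η ⤳ x := by
    rw [specializes_iff_mem_closure, hη.def]
    exact mem_irreducibleComponent
  refine ⟨η, hηx.mem_open hW hx, ?_⟩
  show ringKrullDim _ = 0
  rw [ringKrullDim_stalk_eq_coheight]
  have h0 : Order.coheight η = 0 := by
    rw [Order.coheight_eq_zero]
    intro b hb
    have hbη : b ⤳ η := Scheme.le_iff_specializes.mp hb
    rw [Scheme.le_iff_specializes]
    have h1 : irreducibleComponent x ≤ closure {b} := by
      rw [← hη.def]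
      exact closure_minimal (Set.singleton_subset_iff.mpr (specializes_iff_mem_closure.mp hbη))
        isClosed_closure
    have h2 : closure {b} ≤ irreducibleComponent x :=
      (irreducibleComponent_mem_irreducibleComponents x).2 isIrreducible_singleton.closure h1
    rw [specializes_iff_mem_closure, hη.def]
    exact h2 (subset_closure rfl)
  rw [h0]
  rfl

/-- For an algebraic space X over a scheme S, the set of codimension 0 points of X (points x of |X| such
that, for some representable etale h_U ⟶ X from a scheme U and some point u of U mapping to x, the
local ring of U at u has dimension 0) is dense in |X|. -/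
theorem result {S : Scheme.{u}} (X : AlgSp.Space S) :
    Dense {x : AlgSp.Points X.obj |
      AlgSp.HasAt (fun U u => ringKrullDim ↥(U.presheaf.stalk u) = 0) X.obj x} := by
  obtain ⟨U, p, hp1, hp2⟩ := X.property.atlas
  have hd := dense_setOf_ringKrullDim_stalk_eq_zero U.left
  have hcont : Continuous (AlgSp.Points.ofPt p) := AlgSp.Points.continuous_ofPt p
  have hsurj := Groth.Agent.S10177.surjective_ofPt p hp2
  have himg := hsurj.denseRange.dense_image hcont hd
  refine himg.mono ?_
  rintro _ ⟨u, hu, rfl⟩
  exact ⟨U, p, u, hp1, rfl, hu⟩

end Groth.Agent.S10190
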