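import Groth.Statements.S10201
import Mathlib
import Groth.Agent.S10199

set_option autoImplicit false
set_option linter.style.haveILetI false
universe u
open CategoryTheory CategoryTheory.Limits AlgebraicGeometry Topology TopologicalSpace
open AlgSp

namespace Groth.Agent.S10201

open Groth.Agent.Lib.H5bSoberSp

variable {S : Scheme.{u}}

/-- the space of points is spectral as soon as there is a surjective étale chart from a
quasi-compact quasi-separated scheme. -/
theorem spectral_of_chart [QuasiSeparatedSpace ↥S] {X : AlgSp.Sp S} (hX : AlgSp.IsAlgSpace X)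
    (hqs : AlgSp.IsQuasiSeparatedSp X) {W : Over S} [CompactSpace ↥W.left]
    [QuasiSeparatedSpace ↥W.left] (q : (AlgSp.yon S).obj W ⟶ X) (hq : AlgSp.RepWith @Etale q)
    (hs : AlgSp.RepWith @Surjective q) : SpectralSpace (AlgSp.Points X) := by
  obtain ⟨E, eV, eU', sqE⟩ := Functor.relativelyRepresentable.of_diag hX.diag q q
  obtain ⟨eU, rfl⟩ := (AlgSp.yon S).map_surjective eU'
  have hqc : QuasiCompact (prod.lift eU eV).left :=
    Groth.Agent.S9920.property_of_repWith_diag hqs sqE
  haveI : QuasiCompact W.hom := inferInstance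
  haveI : CompactSpace ↥(pullback W.hom W.hom) := inferInstance
  haveI : CompactSpace ↥(W ⨯ W).left :=
    QuasiCompact.compactSpace_of_compactSpace (Over.prodLeftIsoPullback W W).hom
  haveI : CompactSpace ↥E.left :=
    QuasiCompact.compactSpace_of_compactSpace (prod.lift eU eV).left
  have hsurj : Function.Surjective (AlgSp.Points.ofPt q) :=
    Groth.Agent.S10177.surjective_ofPt q hs
  have hrange : Set.range (AlgSp.Points.ofPt q) = Set.univ := hsurj.range_eq
  let e : ↥(Set.range (AlgSp.Points.ofPt q)) ≃ₜ AlgSp.Points X :=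
    (Homeomorph.setCongr hrange).trans (Homeomorph.Set.univ _)
  haveI := quasiSober_range q hq eU eV sqE
  haveI := t0Space_range q hq eU eV sqE
  haveI := prespectralSpace_range q hq eU eV sqE
  haveI := quasiSeparatedSpace_range q hq eU eV sqE
  haveI : CompactSpace ↥(Set.range (AlgSp.Points.ofPt q)) :=
    (pr_surjective q).compactSpace (pr_continuous q)
  haveI : SpectralSpace ↥(Set.range (AlgSp.Points.ofPt q)) := {}
  haveI : CompactSpace (AlgSp.Points X) := e.surjective.compactSpace e.continuous
  exact e.symm.isOpenEmbedding.spectralSpace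

/-- Let S be a quasi-separated scheme and X a quasi-compact algebraic space over S whose diagonal over S
is quasi-compact. Then |X| is a spectral space. (The published statement assumes X quasi-separated
in the absolute sense; over a quasi-separated base that is the same as quasi-separated over S, while
for S quasi-compact and not quasi-separated the space h_S is quasi-compact with quasi-compact
diagonal over S and |h_S| = |S| is not spectral.) -/
theorem result {S : Scheme.{u}} [QuasiSeparatedSpace ↥S]
    (X : AlgSp.Space S) (hqc : AlgSp.IsQuasiCompactSp X.obj) (hqs : AlgSp.IsQuasiSeparatedSp X.obj) :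
    SpectralSpace (AlgSp.Points X.obj) := by
  obtain ⟨U, qU, hUe, hUs, hU⟩ := hqc
  haveI : CompactSpace ↥U.left := hU
  let 𝒰 := U.left.affineCover.finiteSubcover
  haveI : ∀ i, IsAffine (𝒰.X i) := fun i => by
    change IsAffine (U.left.affineCover.X _)
    infer_instance
  let d : (∐ 𝒰.X) ⟶ U.left := Sigma.desc 𝒰.f
  haveI : Etale d := IsZariskiLocalAtSource.sigmaDesc (P := @Etale) (fun i => inferInstance)
  have hd : Surjective d := by
    refine ⟨fun x => ?_⟩
    obtain ⟨i, y, rfl⟩ := 𝒰.exists_eq x
    refine ⟨Sigma.ι 𝒰.X i y, ?_⟩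
    rw [← Scheme.Hom.comp_apply, Sigma.ι_desc]
  let W : Over S := Over.mk (d ≫ U.hom)
  let jO : W ⟶ U := Over.homMk d rfl
  haveI : IsAffine W.left := (inferInstance : IsAffine (∐ 𝒰.X))
  have hq : AlgSp.RepWith @Etale ((AlgSp.yon S).map jO ≫ qU) :=
    (AlgSp.RepWith @Etale).comp_mem _ _
      ((AlgSp.repWith_yon_map_iff @Etale jO).2 (inferInstanceAs (Etale d))) hUe
  have hs : AlgSp.RepWith @Surjective ((AlgSp.yon S).map jO ≫ qU) :=
    (AlgSp.RepWith @Surjective).comp_mem _ _
      ((AlgSp.repWith_yon_map_iff @Surjective jO).2 hd) hUs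
  exact spectral_of_chart X.property hqs _ hq hs

end Groth.Agent.S10201
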