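import Groth.Statements.S10205
import Mathlib
import Groth.Agent.Lib.H5bFQ
import Groth.Agent.S9927
import Groth.Agent.S9920

set_option autoImplicit false
set_option linter.style.haveILetI false
universe u
open CategoryTheory CategoryTheory.Limits AlgebraicGeometry Topology TopologicalSpace
open AlgSp

namespace Groth.Agent.S10205

/-- a morphism from the spectrum of a field is affine. -/
lemma isAffineHom_of_field {S : Scheme.{u}} {k : Type u} [Field k]
    (str : Spec (CommRingCat.of k) ⟶ S) : IsAffineHom str := by
  refine ⟨fun U _ => ?_⟩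
  by_cases h : IsLocalRing.closedPoint k ∈ str ⁻¹ᵁ U
  · have : str ⁻¹ᵁ U = ⊤ := by
      ext x
      have hx : x = IsLocalRing.closedPoint k :=
        (inferInstance : Subsingleton (PrimeSpectrum k)).elim _ _
      simp only [hx, TopologicalSpace.Opens.coe_top, Set.mem_univ, iff_true]
      exact h
    rw [this]
    exact isAffineOpen_top _
  · have : str ⁻¹ᵁ U = ⊥ := by
      ext x
      have hx : x = IsLocalRing.closedPoint k :=
        (inferInstance : Subsingleton (PrimeSpectrum k)).elim _ _
      simp only [hx, TopologicalSpace.Opens.coe_bot, Set.mem_empty_iff_false, iff_false]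
      exact h
    rw [this]
    exact isAffineOpen_bot _

/-- Let X be an algebraic space over a scheme S, k a field with a structure morphism Spec k ⟶ S, and p :
h_{Spec k} ⟶ X a surjective etale map. If the diagonal of X over S is quasi-compact, then X ≅
h_{Spec k'} for a field k' over S, where p corresponds to a finite etale morphism Spec k ⟶ Spec k'
over S (that is, k is a finite separable extension of k'). (The published statement assumes X
quasi-separated in the absolute sense; the argument only uses that Spec k ×_X Spec k is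
quasi-compact, which already follows from quasi-compactness of the diagonal over S since Spec k ×_S
Spec k is affine.) -/
theorem result {S : Scheme.{u}} (X : AlgSp.Space S)
    (hX : AlgSp.IsQuasiSeparatedSp X.obj) (k : Type u) [Field k] (str : Spec (CommRingCat.of k) ⟶ S)
    (p : (AlgSp.yon S).obj (Over.mk str) ⟶ X.obj) (hp : AlgSp.RepWith @Etale p) (hs : AlgSp.RepWith @Surjective p) :
    ∃ (k' : Type u) (_ : Field k') (str' : Spec (CommRingCat.of k') ⟶ S)
      (e : (AlgSp.yon S).obj (Over.mk str') ≅ X.obj) (c : Over.mk str ⟶ Over.mk str'),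
      (AlgSp.yon S).map c ≫ e.hom = p ∧ IsFinite c.left ∧ Etale c.left := by
  let q : AlgSp.FieldPt X.obj := ⟨k, str, (AlgSp.J S).uliftYonedaEquiv p⟩
  have hq : q.toHom = p := Equiv.symm_apply_apply _ _
  have sq0 := IsPullback.of_hasPullback q.toHom q.toHom
  have hpe : AlgSp.RepWith @Etale q.toHom := hq ▸ hp
  have he : AlgSp.RepWith @Etale (pullback.fst q.toHom q.toHom) :=
    MorphismProperty.of_isPullback sq0.flip hpe
  -- quasi-compactness
  have hqc : AlgSp.RepWith @QuasiCompact (pullback.fst q.toHom q.toHom) := by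
    have hrep := he.1
    have sqa := hrep.isPullback (𝟙 _)
    haveI : IsIso (hrep.fst (𝟙 _)) := sqa.isIso_fst_of_isIso
    have hb : (AlgSp.yon S).map (hrep.snd (𝟙 _)) = hrep.fst (𝟙 _) ≫ pullback.fst q.toHom q.toHom := by
      rw [sqa.w, Category.comp_id]
    rw [← MorphismProperty.cancel_left_of_respectsIso (AlgSp.RepWith @QuasiCompact) (hrep.fst (𝟙 _)),
      ← hb, AlgSp.repWith_yon_map_iff]
    obtain ⟨t, ht⟩ := (AlgSp.yon S).map_surjective (hrep.fst (𝟙 _) ≫ pullback.snd q.toHom q.toHom)
    have sq' : IsPullback ((AlgSp.yon S).map t) ((AlgSp.yon S).map (hrep.snd (𝟙 _)))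
        q.toHom q.toHom := by
      refine IsPullback.of_iso sq0.flip (asIso (hrep.fst (𝟙 _))).symm (Iso.refl _) (Iso.refl _)
        (Iso.refl _) ?_ ?_ (by simp) (by simp)
      · rw [Iso.refl_hom, Category.comp_id, Iso.symm_hom, asIso_inv, ht, IsIso.inv_hom_id_assoc]
      · rw [Iso.refl_hom, Category.comp_id, Iso.symm_hom, asIso_inv, hb, IsIso.inv_hom_id_assoc]
    haveI h1 : QuasiCompact (prod.lift t (hrep.snd (𝟙 _))).left :=
      Groth.Agent.S9920.property_of_repWith_diag hX sq'
    haveI := isAffineHom_of_field str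
    haveI : IsAffine (pullback q.pt.hom q.pt.hom) := by
      haveI : IsAffine q.pt.left := (inferInstance : IsAffine (Spec (CommRingCat.of k)))
      haveI : IsAffineHom q.pt.hom := isAffineHom_of_field str
      exact isAffine_of_isAffineHom (pullback.fst q.pt.hom q.pt.hom)
    haveI : IsAffine (q.pt ⨯ q.pt).left := .of_isIso (Over.prodLeftIsoPullback q.pt q.pt).hom
    haveI : CompactSpace ↥(hrep.pullback (𝟙 _)).left :=
      QuasiCompact.compactSpace_of_compactSpace (prod.lift t (hrep.snd (𝟙 _))).left
    haveI : IsAffine q.pt.left := (inferInstance : IsAffine (Spec (CommRingCat.of k)))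
    exact (HasAffineProperty.iff_of_isAffine (P := @QuasiCompact)).mpr ‹_›
  obtain ⟨q', c, h1, h2, h3, h4, h5⟩ :=
    Groth.Agent.Lib.H5bFQ.exists_mono_quotient_of_etale q _ _ sq0 he hqc
  haveI := h1
  haveI : Epi q'.toHom := by
    haveI : Epi ((AlgSp.yon S).map c ≫ q'.toHom) := by
      rw [h2, hq]
      exact Groth.Agent.S9927.epi_of_repWith p hp hs
    exact epi_of_epi ((AlgSp.yon S).map c) q'.toHom
  haveI : IsIso q'.toHom := isIso_of_mono_of_epi _
  exact ⟨q'.K, inferInstance, q'.str, asIso q'.toHom, c, by rw [asIso_hom, h2, hq], h3, h4⟩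

end Groth.Agent.S10205
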