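import Groth.Statements.S10206
import Mathlib
import Groth.Agent.Lib.H5bEtField
import Groth.Agent.Lib.H5bFQ
import Groth.Agent.Lib.H5bFQ3
import Groth.Agent.S10212
import Groth.Agent.S10197
import Groth.Agent.S10194
import Groth.Agent.S9906
import Groth.Agent.S10177
import Groth.Agent.S10176

set_option autoImplicit false
set_option linter.style.haveILetI false
universe u
open CategoryTheory CategoryTheory.Limits AlgebraicGeometry Topology TopologicalSpace
open AlgSp

namespace Groth.Agent.S10206

open CategoryTheory.Limits Opposite MorphismProperty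

variable {S : Scheme.{u}}

/-- the field point defined by a morphism from the spectrum of a field. -/
noncomputable def fpOf {F : AlgSp.Sp S} {K : Type u} [Field K] (str : Spec (CommRingCat.of K) ⟶ S)
    (h : (AlgSp.yon S).obj (Over.mk str) ⟶ F) : AlgSp.FieldPt F :=
  ⟨K, str, (AlgSp.J S).uliftYonedaEquiv h⟩

lemma fpOf_toHom {F : AlgSp.Sp S} {K : Type u} [Field K] (str : Spec (CommRingCat.of K) ⟶ S)
    (h : (AlgSp.yon S).obj (Over.mk str) ⟶ F) : (fpOf str h).toHom = h :=
  Equiv.symm_apply_apply _ _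

/-- a representable étale monomorphism from a scheme is an open immersion. -/
lemma repWith_openImmersion_of_mono_etale {A : Over S} {G : AlgSp.Sp S}
    (f : (AlgSp.yon S).obj A ⟶ G) [Mono f] (h : AlgSp.RepWith @Etale f) :
    AlgSp.RepWith @IsOpenImmersion f := by
  refine ⟨h.1, fun U V g fst snd sq => ?_⟩
  haveI : Etale snd.left := h.2 g fst snd sq
  obtain ⟨c, rfl⟩ := (AlgSp.yon S).map_surjective fst
  haveI : Mono snd.left := Groth.Agent.Lib.H5bFQ3.mono_left_of_sq f g c snd sq
  show IsOpenImmersion snd.left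
  exact IsOpenImmersion.of_flat_of_mono snd.left

/-- the étale field charts of an algebraic space étale over a field, finite over the field, define
points lying in an open subscheme. -/
theorem key (X : AlgSp.Space S) (k : Type u) [Field k] (str : Spec (CommRingCat.of k) ⟶ S)
    (f : X.obj ⟶ (AlgSp.yon S).obj (Over.mk str))
    {K : Type u} [Field K] (strK : Spec (CommRingCat.of K) ⟶ S)
    (h : (AlgSp.yon S).obj (Over.mk strK) ⟶ X.obj) (hh : AlgSp.RepWith @Etale h)
    (m : Over.mk strK ⟶ Over.mk str) (hm : h ≫ f = (AlgSp.yon S).map m) [IsFinite m.left] :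
    ∃ q' : AlgSp.FieldPt X.obj, AlgSp.RepWith @IsOpenImmersion q'.toHom ∧
      AlgSp.Points.mk q' = AlgSp.Points.mk (fpOf strK h) := by
  have hq : (fpOf strK h).toHom = h := fpOf_toHom strK h
  have hrep := hh.1
  have sq := hrep.isPullback' h
  obtain ⟨W, w1, w2, sq⟩ : ∃ (W : Over S) (w1 w2 : W ⟶ Over.mk strK),
      IsPullback ((AlgSp.yon S).map w1) ((AlgSp.yon S).map w2) h h := ⟨_, _, _, sq⟩
  haveI he2 : Etale w2.left := hh.2 _ _ _ sq
  haveI he1 : Etale w1.left := hh.2 _ _ _ sq.flip
  have hw : w1 ≫ m = w2 ≫ m := by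
    apply (AlgSp.yon S).map_injective
    rw [Functor.map_comp, Functor.map_comp, ← hm, ← Category.assoc, ← Category.assoc, sq.w]
  let l : W ⟶ pullback m m := pullback.lift w1 w2 hw
  haveI : Mono l := by
    refine ⟨fun {T} α β hαβ => ?_⟩
    apply (AlgSp.yon S).map_injective
    apply sq.hom_ext
    · rw [← Functor.map_comp, ← Functor.map_comp]
      congr 1
      have := congrArg (· ≫ pullback.fst m m) hαβ
      simp only [Category.assoc, l, pullback.lift_fst] at this
      exact this
    · rw [← Functor.map_comp, ← Functor.map_comp]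
      congr 1
      have := congrArg (· ≫ pullback.snd m m) hαβ
      simp only [Category.assoc, l, pullback.lift_snd] at this
      exact this
  haveI : Mono l.left := inferInstance
  have hsq : IsPullback (pullback.fst m m).left (pullback.snd m m).left m.left m.left :=
    (IsPullback.of_hasPullback m m).map (Over.forget S)
  haveI : IsFinite (pullback.snd m m).left :=
    MorphismProperty.of_isPullback (P := @IsFinite) hsq inferInstance
  haveI : Finite ↥(pullback m m).left :=
    Groth.Agent.Lib.H5bFQ3.finite_of_isFinite_field (k := K) (pullback.snd m m).left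
  haveI : Finite ↥W.left := Finite.of_injective _ l.left.injective
  haveI : CompactSpace ↥W.left := Finite.compactSpace
  haveI : QuasiCompact w1.left := by
    haveI : QuasiSeparatedSpace ↥(Over.mk strK).left :=
      (inferInstance : QuasiSeparatedSpace ↥(Spec (CommRingCat.of K)))
    exact quasiCompact_of_compactSpace _
  have sq' : IsPullback ((AlgSp.yon S).map w1) ((AlgSp.yon S).map w2) (fpOf strK h).toHom
      (fpOf strK h).toHom := by rw [hq]; exact sq
  obtain ⟨q', c, hmono, hfac, hcf, hce, hcs⟩ :=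
    Groth.Agent.Lib.H5bFQ.exists_mono_quotient_of_etale (fpOf strK h)
      ((AlgSp.yon S).map w1) ((AlgSp.yon S).map w2) sq'
      ((AlgSp.repWith_yon_map_iff _ _).2 he1) ((AlgSp.repWith_yon_map_iff _ _).2 ‹QuasiCompact w1.left›)
  refine ⟨q', ?_, Groth.Agent.Lib.H5bFQ.mk_eq_of_factor _ _ c hfac⟩
  haveI := hmono
  haveI := hce
  haveI := hcs
  apply repWith_openImmersion_of_mono_etale
  apply Groth.Agent.S10212.result X c q'.toHom
  rw [hfac, hq]
  exact hh

/-- Let X be an algebraic space over a scheme S and X ⟶ h_{Spec k} an etale morphism of algebraic spaces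
over S, where k is a field and Spec k is given a structure morphism to S. Then X is a scheme (its
underlying sheaf is representable by a scheme over S). -/
theorem result {S : Scheme.{u}} (X : AlgSp.Space S)
    (k : Type u) [Field k] (str : Spec (CommRingCat.of k) ⟶ S)
    (f : X.obj ⟶ (AlgSp.yon S).obj (Over.mk str)) (hf : AlgSp.IsEtaleMor f) :
    X.obj.obj.IsRepresentable := by
  classical
  obtain ⟨j', hX'⟩ : ∃ X' : AlgSp.Space S, ∃ j : X' ⟶ X, AlgSp.RepWith @IsOpenImmersion j.hom ∧
      X'.obj.obj.IsRepresentable ∧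
      ∀ (X'' : AlgSp.Space S) (j'' : X'' ⟶ X), AlgSp.RepWith @IsOpenImmersion j''.hom →
        X''.obj.obj.IsRepresentable → ∃ k : X'' ⟶ X', k ≫ j = j'' := Groth.Agent.S10197.result X
  obtain ⟨j, hj, hrep', hmax⟩ := hX'
  obtain ⟨U, a, hae, has⟩ := X.property.atlas
  have haf : AlgSp.RepWith @Etale (a ≫ f) := hf a hae
  obtain ⟨g, hg⟩ := (AlgSp.yon S).map_surjective (a ≫ f)
  haveI hge : Etale g.left := (AlgSp.repWith_yon_map_iff _ _).1 (hg ▸ haf)
  have hsurj : Function.Surjective (AlgSp.Points.map j.hom) := by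
    intro x
    obtain ⟨u, rfl⟩ := Groth.Agent.S10177.surjective_ofPt a has x
    obtain ⟨K, hK, ι, ⟨t, ht⟩, hι1, hι2⟩ :=
      Groth.Agent.Lib.H5bEtField.exists_field_chart (k := k) g.left u
    let ι' : Over.mk (ι ≫ U.hom) ⟶ U := Over.homMk ι rfl
    let m : Over.mk (ι ≫ U.hom) ⟶ Over.mk str := ι' ≫ g
    haveI : IsFinite m.left := hι2
    haveI : Etale ι'.left := by
      have : Etale (ι'.left ≫ g.left) := hι1
      exact MorphismProperty.of_postcomp (W := @Etale) (W' := @Etale) ι'.left g.left hge this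
    have hh : AlgSp.RepWith @Etale ((AlgSp.yon S).map ι' ≫ a) :=
      (AlgSp.RepWith @Etale).comp_mem _ _ ((AlgSp.repWith_yon_map_iff _ _).2 ‹Etale ι'.left›) hae
    have hm : ((AlgSp.yon S).map ι' ≫ a) ≫ f = (AlgSp.yon S).map m := by
      rw [Category.assoc, ← hg, ← Functor.map_comp]
    obtain ⟨q', hq'o, hq'⟩ := key X k str f (ι ≫ U.hom) ((AlgSp.yon S).map ι' ≫ a) hh m hm
    have hx : AlgSp.Points.ofPt a u = AlgSp.Points.mk q' := by
      rw [hq', ← ht]
      have h1 := Groth.Agent.S10176.ofPt_map_comp ι' a t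
      change AlgSp.Points.ofPt a (ι'.left t) = _
      have h2 := AlgSp.Points.ofPt_toHom (fpOf (ι ≫ U.hom) ((AlgSp.yon S).map ι' ≫ a)) t
      rw [fpOf_toHom] at h2
      rw [← h1]
      exact h2
    rw [hx]
    have hrq : ((AlgSp.yon S).obj q'.pt).obj.IsRepresentable :=
      inferInstanceAs (uliftYoneda.{u + 1}.obj q'.pt).IsRepresentable
    obtain ⟨kk, hkk⟩ := hmax ⟨(AlgSp.yon S).obj q'.pt, AlgSp.IsAlgSpace.yon_obj _⟩
      (ObjectProperty.homMk q'.toHom) hq'o hrq
    have hkk' : kk.hom ≫ j.hom = q'.toHom := congrArg (·.hom) hkk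
    refine ⟨AlgSp.Points.ofPt kk.hom (IsLocalRing.closedPoint q'.K), ?_⟩
    rw [AlgSp.Points.map_ofPt, hkk']
    exact AlgSp.Points.ofPt_toHom _ _
  have hjs : AlgSp.RepWith @Surjective j.hom :=
    Groth.Agent.S9906.repWith_surjective_of_surjective_map j.hom hj.1 hsurj
  haveI : IsIso j.hom := Groth.Agent.S10194.isIso_of_repWith_openImmersion_surjective j.hom hj hjs
  obtain ⟨Xs, ⟨r⟩⟩ := hrep'.has_representation
  exact ⟨Xs, ⟨AlgSp.representableByOfIso (AlgSp.isoOfRepresentableBy r ≪≫ asIso j.hom)⟩⟩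

end Groth.Agent.S10206
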