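import Groth.Statements.S10216
import Mathlib
import Groth.Agent.S10176
import Groth.Agent.S10177

set_option autoImplicit false
universe u
open CategoryTheory CategoryTheory.Limits AlgebraicGeometry Topology TopologicalSpace
open AlgSp

namespace Groth.Agent.S10216

/-- points with values in a separably closed field lift along étale morphisms, through a given
point of the fibre. -/
theorem exists_lift_etale {Ω : Type u} [Field Ω] [IsSepClosed Ω] {S' S : Scheme.{u}} (g : S' ⟶ S)
    [Etale g] (s' : S') (f : Spec (CommRingCat.of Ω) ⟶ S)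
    (hf : f (IsLocalRing.closedPoint Ω) = g s') :
    ∃ f' : Spec (CommRingCat.of Ω) ⟶ S', f' ≫ g = f ∧ f' (IsLocalRing.closedPoint Ω) = s' := by
  obtain ⟨⟨x, a⟩, rfl⟩ := (Scheme.SpecToEquivOfField Ω S).symm.surjective f
  have hx : x = g s' := by
    simpa [Scheme.SpecToEquivOfField] using hf
  subst hx
  algebraize [(g.residueFieldMap s').hom, a.hom]
  let b : S'.residueField s' →ₐ[S.residueField (g s')] Ω := IsSepClosed.lift
  have hfac : g.residueFieldMap s' ≫ CommRingCat.ofHom b.toRingHom = a := by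
    ext1; exact b.comp_algebraMap
  refine ⟨Spec.map (CommRingCat.ofHom b.toRingHom) ≫ S'.fromSpecResidueField s', ?_, ?_⟩
  · simp [Scheme.SpecToEquivOfField, ← hfac]
    rfl
  · rw [Scheme.Hom.comp_apply]
    exact Scheme.fromSpecResidueField_apply _ _

/-- Let φ : U ⟶ X be an etale morphism of algebraic spaces over a scheme S, take a geometric point x̄ :
Spec k ⟶ X of X whose image in |X| is x, and let u ∈ |U| with φ(u) = x. Then there is a geometric
point ū : Spec k ⟶ U (with the same field k) lying over u and with φ ∘ ū = x̄. -/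
theorem result {S : Scheme.{u}} {U X : AlgSp.Space S} (φ : U ⟶ X)
    (hφ : AlgSp.IsEtaleMor φ.hom) (xbar : AlgSp.FieldPt X.obj) (hx : xbar.IsGeometric)
    (u : AlgSp.Points U.obj) (hu : AlgSp.Points.map φ.hom u = AlgSp.Points.mk xbar) :
    ∃ ubar : (AlgSp.yon S).obj xbar.pt ⟶ U.obj,
      ubar ≫ φ.hom = xbar.toHom ∧ AlgSp.Points.ofPt ubar (IsLocalRing.closedPoint xbar.K) = u := by
  haveI : IsAlgClosed xbar.K := hx
  obtain ⟨V, p, hp1, hp2⟩ := U.property.atlas
  obtain ⟨v, hv⟩ := Groth.Agent.S10177.surjective_ofPt p hp2 u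
  have hpφ : AlgSp.RepWith @Etale (p ≫ φ.hom) := hφ p hp1
  obtain ⟨W, snd, fst', sq⟩ := hpφ.1 xbar.toHom
  obtain ⟨fst, rfl⟩ := (AlgSp.yon S).map_surjective fst'
  haveI hsnd : Etale snd.left := hpφ.2 _ _ snd sq
  have hpt : AlgSp.Points.ofPt (p ≫ φ.hom) v =
      AlgSp.Points.ofPt xbar.toHom (IsLocalRing.closedPoint xbar.K) := by
    rw [← AlgSp.Points.map_ofPt, hv, hu, AlgSp.Points.ofPt_toHom]
  obtain ⟨w, hw1, hw2⟩ := Groth.Agent.S10176.exists_point_of_isPullback_yon sq v _ hpt
  have hsub : Subsingleton ↥(Spec (CommRingCat.of xbar.K)) :=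
    (inferInstance : Subsingleton (PrimeSpectrum xbar.K))
  obtain ⟨f', hf'1, hf'2⟩ := exists_lift_etale snd.left w (𝟙 (Spec (CommRingCat.of xbar.K)))
    (hsub.elim _ _)
  have hsecw : f' ≫ W.hom = xbar.pt.hom := by
    rw [← Over.w snd, ← Category.assoc, hf'1, Category.id_comp]
  let sec : xbar.pt ⟶ W := Over.homMk f' hsecw
  have hsec : sec ≫ snd = 𝟙 _ := by
    ext
    rw [Over.comp_left]
    exact hf'1
  refine ⟨(AlgSp.yon S).map (sec ≫ fst) ≫ p, ?_, ?_⟩
  · rw [CategoryTheory.Functor.map_comp, Category.assoc, Category.assoc, sq.w, ← Category.assoc,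
      ← CategoryTheory.Functor.map_comp, hsec, CategoryTheory.Functor.map_id, Category.id_comp]
  · rw [Groth.Agent.S10176.ofPt_map_comp, Over.comp_left, Scheme.Hom.comp_apply]
    change AlgSp.Points.ofPt p (fst.left (f' _)) = u
    rw [hf'2, hw1, hv]

end Groth.Agent.S10216
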