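import Groth.Statements.S10222
import Mathlib
import Groth.Agent.Lib.H5bEtLocal
import Groth.Agent.Lib.Helper12GeomRed

set_option autoImplicit false
universe u
open CategoryTheory CategoryTheory.Limits AlgebraicGeometry Topology TopologicalSpace
open AlgSp

namespace Groth.Agent.S10222

/-- (1) if and only if (2): an algebraic space X over a scheme S is reduced if and only if at each x ∈
|X| the local ring of X is reduced, the latter meaning that for some scheme U, some representable
etale h_U ⟶ X and some point u of U mapping to x, the local ring of U at u is reduced. (The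
assertions about global sections in the published statement are not part of this row.) -/
theorem result {S : Scheme.{u}} (X : AlgSp.Space S) :
    AlgSp.IsReducedSp X.obj ↔
      ∀ x : AlgSp.Points X.obj, AlgSp.HasAt (fun U u => _root_.IsReduced ↥(U.presheaf.stalk u)) X.obj x := by
  have hQ : ∀ {W U : Scheme.{u}} (g : W ⟶ U) [Etale g] (w : W),
      _root_.IsReduced ↥(W.presheaf.stalk w) ↔ _root_.IsReduced ↥(U.presheaf.stalk (g w)) := by
    intro W U g _ w
    exact ⟨Groth.Agent.Lib.Helper12.GeomRed.isReduced_stalk_of_flat g w,
      Groth.Agent.Lib.Helper12.GeomRed.isReduced_stalk_of_smooth g w⟩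
  constructor
  · rintro ⟨U, p, hp1, hp2, hU⟩ x
    obtain ⟨u, hu⟩ := Groth.Agent.S10177.surjective_ofPt p hp2 x
    have : IsReduced U.left := hU
    exact ⟨U, p, u, hp1, hu, inferInstance⟩
  · intro h
    obtain ⟨U, p, hp1, hp2⟩ := X.property.atlas
    refine ⟨U, p, hp1, hp2, ?_⟩
    have hst : ∀ u : ↥U.left, _root_.IsReduced ↥(U.left.presheaf.stalk u) := by
      intro u
      obtain ⟨V, b, v, hb, hv, hq⟩ := h (AlgSp.Points.ofPt p u)
      exact (Groth.Agent.Lib.H5bEtLocal.iff_of_ofPt_eq
        (fun U u => _root_.IsReduced ↥(U.presheaf.stalk u)) hQ b p hb hp1 v u hv).1 hq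
    exact AlgebraicGeometry.isReduced_of_isReduced_stalk U.left

end Groth.Agent.S10222
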