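import Groth.Statements.S10225
import Mathlib
import Groth.Agent.Lib.H5bOEtStalkRed

set_option autoImplicit false
set_option linter.style.haveILetI false
universe u
open CategoryTheory CategoryTheory.Limits AlgebraicGeometry Topology TopologicalSpace
open AlgSp

namespace Groth.Agent.S10225

open Groth.Agent.Lib.H5bOEtStalk Groth.Agent.Lib.H5bOEtStalkPt Groth.Agent.Lib.H5bOEtStalkRed
  Groth.Agent.Lib.Helper8SpLocalRing

/-- Let X be an algebraic space over a scheme S and x̄ a geometric point of X lying over x ∈ |X|. Then
the local ring of X at x is reduced (for some etale chart h_U ⟶ X and some point u of U over x, the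
local ring of U at u is reduced) if and only if the etale local ring of X at x̄ is reduced; in
particular the latter does not depend on the choice of x̄ over x. -/
theorem result {S : Scheme.{u}} (X : AlgSp.Space S) (p : AlgSp.FieldPt X.obj) (hp : p.IsGeometric) :
    AlgSp.HasAt (fun U u => _root_.IsReduced ↥(U.presheaf.stalk u)) X.obj (AlgSp.Points.mk p) ↔
      _root_.IsReduced ↥(AlgSp.OEtStalk p) := by
  constructor
  · rintro ⟨U, a, u, ha, hu, hred⟩
    exact isReduced_Rg_of_chart X p hp a ha u hu hred
  · intro h
    obtain ⟨U₀, p₀, h1, h2⟩ := X.property.atlas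
    obtain ⟨u₀, hu₀⟩ := Groth.Agent.S10177.surjective_ofPt p₀ h2 (AlgSp.Points.mk p)
    obtain ⟨l, hl⟩ := exists_lift_at X p hp p₀ h1 u₀ hu₀
    have h3 := isReduced_stalk_of_isReduced_Rg X p hp (AlgSp.EtOver.mk p₀ h1) l h
    rw [hl] at h3
    exact ⟨U₀, p₀, u₀, h1, hu₀, h3⟩

end Groth.Agent.S10225
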