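import Groth.Statements.S10227
import Mathlib
import Groth.Agent.Lib.H5bOEtStalkPt

set_option autoImplicit false
set_option linter.style.haveILetI false
universe u
open CategoryTheory CategoryTheory.Limits AlgebraicGeometry Topology TopologicalSpace
open AlgSp

namespace Groth.Agent.S10227

open Groth.Agent.Lib.H5bOEtStalk Groth.Agent.Lib.H5bOEtStalkPt Groth.Agent.Lib.H5bElemHz
  Groth.Agent.Lib.Helper8SpLocalRing

/-- (1) ⇔ (4) ⇔ (5): let X be an algebraic space over a scheme S and x ∈ |X|. The following are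
equivalent: for every scheme U, every etale h_U ⟶ X and every point u of U over x, the local ring of
U at u has a unique minimal prime; for every such (U, u), the local ring of U at u is geometrically
unibranch; for every geometric point x̄ over x, the etale local ring of X at x̄ has a unique minimal
prime. -/
theorem result {S : Scheme.{u}} (X : AlgSp.Space S) (x : AlgSp.Points X.obj) :
    ((∀ (U : Over S) (a : (AlgSp.yon S).obj U ⟶ X.obj) (u : ↥U.left),
        AlgSp.RepWith @Etale a → AlgSp.Points.ofPt a u = x → CAlgX.HasUniqueMinimalPrime ↥(U.left.presheaf.stalk u)) ↔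
      (∀ (U : Over S) (a : (AlgSp.yon S).obj U ⟶ X.obj) (u : ↥U.left),
        AlgSp.RepWith @Etale a → AlgSp.Points.ofPt a u = x → CAlg2.IsGeomUnibranch ↥(U.left.presheaf.stalk u))) ∧
    ((∀ (U : Over S) (a : (AlgSp.yon S).obj U ⟶ X.obj) (u : ↥U.left),
        AlgSp.RepWith @Etale a → AlgSp.Points.ofPt a u = x → CAlgX.HasUniqueMinimalPrime ↥(U.left.presheaf.stalk u)) ↔
      ∀ p : AlgSp.FieldPt X.obj, p.IsGeometric → AlgSp.Points.mk p = x →
        CAlgX.HasUniqueMinimalPrime ↥(AlgSp.OEtStalk p)) := by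
  refine ⟨⟨fun H U a u ha hu => ?_, fun H U a u ha hu => ?_⟩,
    ⟨fun H p hp hpx => ?_, fun H U a u ha hu => ?_⟩⟩
  · rw [Groth.Agent.Lib.H5bBranchMain.isGeomUnibranch_iff]
    intro V g v hg hv
    haveI := hg
    obtain ⟨h1, h2⟩ := chart_of_etale a ha u g v hv
    have h3 := H (Over.mk (g ≫ U.hom)) _ v h1 (h2.trans hu)
    exact (hasUniqueMinimalPrime_stalk_iff (U := V) v).1 h3
  · have h1 := (Groth.Agent.Lib.H5bBranchMain.isGeomUnibranch_iff U.left u).1 (H U a u ha hu)
      U.left (𝟙 _) u inferInstance rfl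
    exact (hasUniqueMinimalPrime_stalk_iff u).2 h1
  · rw [hasUniqueMinimalPrime_iff]
    haveI : IsLocalRing ↥(AlgSp.OEtStalk p) := (isStrictlyHenselian_Rg X p hp).1
    apply le_antisymm
    · by_contra hlt
      rw [not_le] at hlt
      have h2 : ((2 : ℕ) : ℕ∞) ≤ (minimalPrimes ↥(AlgSp.OEtStalk p)).encard := by
        have := Order.add_one_le_of_lt hlt
        exact_mod_cast this
      obtain ⟨E, l, hE⟩ := exists_nbhd_of_le_encard X p hp 2 h2
      have hchart := ofPt_ptOf X p E l
      have h3 := H E.obj.left E.obj.hom (ptOf X p E l) E.property (hchart.trans hpx)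
      rw [hasUniqueMinimalPrime_iff] at h3
      rw [h3] at hE
      norm_num at hE
    · rw [Set.one_le_encard_iff_nonempty]
      obtain ⟨P⟩ := Ideal.nonempty_minimalPrimes (I := (⊥ : Ideal ↥(AlgSp.OEtStalk p))) bot_ne_top
      exact ⟨P.1, P.2⟩
  · obtain ⟨q, hq, hqx⟩ := exists_geometric_over X a u
    obtain ⟨l, hl⟩ := exists_lift_at X q hq a ha u hqx.symm
    have h1 := H q hq (hqx.trans hu)
    rw [hasUniqueMinimalPrime_iff] at h1 ⊢
    have h2 := encard_minimalPrimes_stalk_le X q hq (AlgSp.EtOver.mk a ha) l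
    rw [hl] at h2
    apply le_antisymm
    · rw [← h1]; exact h2
    · rw [Set.one_le_encard_iff_nonempty]
      obtain ⟨P⟩ := Ideal.nonempty_minimalPrimes
        (I := (⊥ : Ideal ↥(U.left.presheaf.stalk u))) bot_ne_top
      exact ⟨P.1, P.2⟩

end Groth.Agent.S10227
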