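import Groth.Statements.S10233
import Mathlib
import Groth.Agent.Lib.H5bInvImm

set_option autoImplicit false
set_option linter.style.haveILetI false
universe u
open CategoryTheory CategoryTheory.Limits AlgebraicGeometry Topology TopologicalSpace
open AlgSp

namespace Groth.Agent.S10233

open Groth.Agent.S13210 Groth.Agent.Lib.H5bClosedSub Groth.Agent.Lib.Helper12
open Groth.Agent.Lib.H5bInvImm

/-- the open case. -/
theorem open_case {S : Scheme.{u}} (X : AlgSp.Space S) {R U : Over S} (s t : R ⟶ U)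
    (p : (AlgSp.yon S).obj U ⟶ X.obj) (hp : AlgSp.IsPresentation s t p)
    {Z' R' : Scheme.{u}} (i' : Z' ⟶ U.left) [IsOpenImmersion i'] (k : R' ⟶ R.left)
    (s' t' : R' ⟶ Z')
    (hs : IsPullback k s' s.left i') (ht : IsPullback k t' t.left i') :
    ∃ (Z : AlgSp.Space S) (i : Z ⟶ X) (q : (AlgSp.yon S).obj (Over.mk (i' ≫ U.hom)) ⟶ Z.obj),
      AlgSp.RepWith @IsOpenImmersion i.hom ∧
      IsPullback q ((AlgSp.yon S).map (Over.homMk i' rfl : Over.mk (i' ≫ U.hom) ⟶ U)) i.hom p ∧
      (IsClosedImmersion i' → AlgSp.RepWith @IsClosedImmersion i.hom) := by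
  let U₀ : U.left.Opens := i'.opensRange
  have hinv : s.left ⁻¹' (U₀ : Set U.left) = t.left ⁻¹' (U₀ : Set U.left) := by
    change s.left ⁻¹' Set.range i' = t.left ⁻¹' Set.range i'
    rw [← range_fst_of_isPullback hs, ← range_fst_of_isPullback ht]
  let W : Set (AlgSp.Points X.obj) := AlgSp.Points.ofPt p '' (U₀ : Set U.left)
  have hW : IsOpen W := Groth.Agent.S10176.isOpenMap_ofPt p hp.etale _ U₀.2
  have hpre : AlgSp.Points.ofPt p ⁻¹' W = (U₀ : Set U.left) :=
    preimage_image_of_invariant hp.isPullback _ hinv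
  obtain ⟨a', sq⟩ := exists_isPullback_incl (W := W) p U₀ hpre.symm
  have hZ : AlgSp.IsAlgSpace (OpenSub.obj X.obj W) := OpenSub.isAlgSpace_obj X.property hW
  let e : Over.mk (i' ≫ U.hom) ≅ Over.mk (U₀.ι ≫ U.hom) :=
    Over.isoMk i'.isoOpensRange (by
      change i'.isoOpensRange.hom ≫ U₀.ι ≫ U.hom = i' ≫ U.hom
      rw [← Category.assoc, Scheme.Hom.isoOpensRange_hom_ι])
  have he : e.hom ≫ (Over.homMk U₀.ι rfl : Over.mk (U₀.ι ≫ U.hom) ⟶ U) =
      (Over.homMk i' rfl : Over.mk (i' ≫ U.hom) ⟶ U) :=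
    Over.OverMorphism.ext (Scheme.Hom.isoOpensRange_hom_ι i')
  refine ⟨⟨OpenSub.obj X.obj W, hZ⟩, ObjectProperty.homMk (OpenSub.incl X.obj W),
    (AlgSp.yon S).map e.hom ≫ a', OpenSub.repWith_incl hW, ?_, ?_⟩
  · have h1 : IsPullback ((AlgSp.yon S).map e.hom)
        ((AlgSp.yon S).map (Over.homMk i' rfl : Over.mk (i' ≫ U.hom) ⟶ U))
        ((AlgSp.yon S).map (Over.homMk U₀.ι rfl : Over.mk (U₀.ι ≫ U.hom) ⟶ U))
        (𝟙 ((AlgSp.yon S).obj U)) :=
      IsPullback.of_horiz_isIso ⟨by
        rw [Category.comp_id, ← Functor.map_comp, he]⟩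
    have h2 := h1.paste_horiz sq
    rw [Category.id_comp] at h2
    exact h2
  · intro hc
    have hWc : IsClosed W := by
      rw [← (Groth.Agent.S10177.isQuotientMap_ofPt p hp.etale hp.surjective).isClosed_preimage,
        hpre]
      exact i'.isClosedEmbedding.isClosed_range
    exact repWith_isClosedImmersion_incl hW hWc

/-- Let X be an algebraic space over a scheme S with a presentation (U, R, s, t, p), and let i' : Z' ⟶ U
be an immersion of schemes that is R-invariant, meaning that one locally closed subscheme R' of R is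
at the same time the inverse image of Z' under s and under t. Then Z' descends to a locally closed
subspace of X: there is a morphism of algebraic spaces i : Z ⟶ X representable by immersions
together with a map h_{Z'} ⟶ Z making h_{Z'} the fibre product Z ×_X h_U; moreover i is a closed
(resp. open) immersion when i' is. -/
theorem result {S : Scheme.{u}} (X : AlgSp.Space S) {R U : Over S} (s t : R ⟶ U)
    (p : (AlgSp.yon S).obj U ⟶ X.obj) (hp : AlgSp.IsPresentation s t p)
    {Z' R' : Scheme.{u}} (i' : Z' ⟶ U.left) [IsImmersion i'] (k : R' ⟶ R.left) (s' t' : R' ⟶ Z')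
    (hs : IsPullback k s' s.left i') (ht : IsPullback k t' t.left i') :
    ∃ (Z : AlgSp.Space S) (i : Z ⟶ X) (q : (AlgSp.yon S).obj (Over.mk (i' ≫ U.hom)) ⟶ Z.obj),
      AlgSp.RepWith @IsImmersion i.hom ∧
      IsPullback q ((AlgSp.yon S).map (Over.homMk i' rfl : Over.mk (i' ≫ U.hom) ⟶ U)) i.hom p ∧
      (IsClosedImmersion i' → AlgSp.RepWith @IsClosedImmersion i.hom) ∧
      (IsOpenImmersion i' → AlgSp.RepWith @IsOpenImmersion i.hom) := by
  by_cases hO : IsOpenImmersion i'
  · obtain ⟨Z, i, q, h1, h2, h3⟩ := open_case X s t p hp i' k s' t' hs ht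
    exact ⟨Z, i, q, OpenSub.repWith_mono (fun _ _ g hg => by
      haveI : IsOpenImmersion g := hg; infer_instance) h1, h2, h3, fun _ => h1⟩
  have hso : IsOpenMap s.left := by
    haveI : Etale s.left := hp.eqvRel.etale_left
    exact s.left.isOpenMap
  have hto : IsOpenMap t.left := by
    haveI : Etale t.left := hp.eqvRel.etale_right
    exact t.left.isOpenMap
  let U₀ : U.left.Opens := i'.coborderRange
  have hinv : s.left ⁻¹' (U₀ : Set U.left) = t.left ⁻¹' (U₀ : Set U.left) := by
    change s.left ⁻¹' coborder (Set.range i') = t.left ⁻¹' coborder (Set.range i')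
    rw [← coborder_preimage hso s.left.continuous, ← coborder_preimage hto t.left.continuous,
      ← range_fst_of_isPullback hs, ← range_fst_of_isPullback ht]
  let W₀ : Set (AlgSp.Points X.obj) := AlgSp.Points.ofPt p '' (U₀ : Set U.left)
  have hW₀ : IsOpen W₀ := Groth.Agent.S10176.isOpenMap_ofPt p hp.etale _ U₀.2
  have hpre : AlgSp.Points.ofPt p ⁻¹' W₀ = (U₀ : Set U.left) :=
    preimage_image_of_invariant hp.isPullback _ hinv
  obtain ⟨p₀, sq⟩ := exists_isPullback_incl (W := W₀) p U₀ hpre.symm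
  have hX₀ : AlgSp.IsAlgSpace (OpenSub.obj X.obj W₀) := OpenSub.isAlgSpace_obj X.property hW₀
  let U₀' : Over S := Over.mk (U₀.ι ≫ U.hom)
  let ι₀ : U₀' ⟶ U := Over.homMk U₀.ι rfl
  have hp₀e : AlgSp.RepWith @Etale p₀ :=
    MorphismProperty.of_isPullback (P := AlgSp.RepWith @Etale) sq.flip hp.etale
  have hp₀s : AlgSp.RepWith @Surjective p₀ :=
    MorphismProperty.of_isPullback (P := AlgSp.RepWith @Surjective) sq.flip hp.surjective
  let c' : Z' ⟶ U₀'.left := i'.liftCoborder
  haveI : IsClosedImmersion c' := inferInstanceAs (IsClosedImmersion i'.liftCoborder)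
  have hc' : c' ≫ ι₀.left = i' := i'.liftCoborder_ι
  haveI : Mono ι₀.left := inferInstanceAs (Mono U₀.ι)
  have hs' : IsPullback k s' s.left (c' ≫ ι₀.left) := by rw [hc']; exact hs
  have ht' : IsPullback k t' t.left (c' ≫ ι₀.left) := by rw [hc']; exact ht
  have hI : Invariant p₀ c'.ker :=
    invariant_ker hp.isPullback ι₀ p₀ (OpenSub.incl X.obj W₀) sq.w c' k s' t' hs' ht'
  have hincl := Groth.Agent.Lib.H5bClosedSub.repWith_incl hp₀e hp₀s hI
  have hZ : AlgSp.IsAlgSpace (Zsh p₀ c'.ker) :=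
    Groth.Agent.S10129.isAlgSpace_of_representable hX₀ (Groth.Agent.Lib.H5bClosedSub.incl p₀ c'.ker) hincl.1
  obtain ⟨fstK, sqK⟩ := exists_chart_isPullback hp₀e hp₀s hI
  have sqB := sqK.paste_vert sq
  let e : Over.mk (i' ≫ U.hom) ≅ VI c'.ker :=
    Over.isoMk (asIso c'.toImage) (by
      change c'.toImage ≫ c'.ker.subschemeι ≫ U₀.ι ≫ U.hom = i' ≫ U.hom
      rw [← Category.assoc, ← Category.assoc]
      have h1 : c'.toImage ≫ c'.ker.subschemeι = c' := c'.toImage_imageι
      rw [h1]
      exact congrArg (· ≫ U.hom) hc')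
  have he : e.hom ≫ ιo c'.ker ≫ ι₀ = (Over.homMk i' rfl : Over.mk (i' ≫ U.hom) ⟶ U) := by
    apply Over.OverMorphism.ext
    change c'.toImage ≫ c'.ker.subschemeι ≫ U₀.ι = i'
    rw [← Category.assoc]
    have h1 : c'.toImage ≫ c'.ker.subschemeι = c' := c'.toImage_imageι
    rw [h1]
    exact hc'
  have hjimm : AlgSp.RepWith @IsImmersion (OpenSub.incl X.obj W₀) :=
    OpenSub.repWith_mono (fun _ _ g hg => by
      haveI : IsOpenImmersion g := hg; infer_instance) (OpenSub.repWith_incl hW₀)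
  have hiimm : AlgSp.RepWith @IsImmersion (Groth.Agent.Lib.H5bClosedSub.incl p₀ c'.ker) :=
    OpenSub.repWith_mono (fun _ _ g hg => by
      haveI : IsClosedImmersion g := hg; infer_instance) hincl
  refine ⟨⟨Zsh p₀ c'.ker, hZ⟩,
    ObjectProperty.homMk (Groth.Agent.Lib.H5bClosedSub.incl p₀ c'.ker ≫ OpenSub.incl X.obj W₀),
    (AlgSp.yon S).map e.hom ≫ fstK,
    (AlgSp.RepWith @IsImmersion).comp_mem _ _ hiimm hjimm, ?_, ?_, fun h => absurd h hO⟩
  · have h1 : IsPullback ((AlgSp.yon S).map e.hom)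
        ((AlgSp.yon S).map (Over.homMk i' rfl : Over.mk (i' ≫ U.hom) ⟶ U))
        ((AlgSp.yon S).map (ιo c'.ker) ≫ (AlgSp.yon S).map ι₀)
        (𝟙 ((AlgSp.yon S).obj U)) :=
      IsPullback.of_horiz_isIso ⟨by
        rw [Category.comp_id, ← Functor.map_comp, ← Functor.map_comp, he]⟩
    have h2 := h1.paste_horiz sqB
    rw [Category.id_comp] at h2
    exact h2
  · intro hc
    have hU₀ : (U₀ : Set U.left) = Set.univ := by
      change coborder (Set.range i') = Set.univ
      rw [coborder_eq_univ_iff]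
      exact i'.isClosedEmbedding.isClosed_range
    have hW₀u : W₀ = Set.univ := by
      change AlgSp.Points.ofPt p '' (U₀ : Set U.left) = Set.univ
      rw [hU₀, Set.image_univ]
      exact (Groth.Agent.S10177.surjective_ofPt p hp.surjective).range_eq
    have hjc : AlgSp.RepWith @IsClosedImmersion (OpenSub.incl X.obj W₀) :=
      repWith_isClosedImmersion_incl hW₀ (by rw [hW₀u]; exact isClosed_univ)
    exact (AlgSp.RepWith @IsClosedImmersion).comp_mem _ _ hincl hjc

end Groth.Agent.S10233
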