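import Groth.Statements.S10235
import Mathlib
import Groth.Agent.Lib.H5bGQThm
import Groth.Agent.Lib.Helper12QuotSh

set_option autoImplicit false
universe u
open CategoryTheory CategoryTheory.Limits AlgebraicGeometry Topology TopologicalSpace
open AlgSp

namespace Groth.Agent.S10235

/-- Let (U, R, s, t, c) be a groupoid scheme over a scheme S whose source and target maps s, t : R ⟶ U
are finite locally free and whose map j = (t, s) is an equivalence relation, and suppose that in
each nonempty closed subset of U one can find a point u such that some affine open of U contains the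
whole equivalence class t(s⁻¹{u}) of u. Then there are a scheme M over S and a finite locally free
morphism U ⟶ M over S such that the square with the two maps t, s : R ⟶ U over U ⟶ M is cartesian (R
= U ×_M U) and U ⟶ M exhibits h_M as the quotient of h_U by the pair h_R ⇉ h_U in the category of
fppf sheaves. -/
theorem result {S : Scheme.{u}} (G : Grpd.GroupoidScheme S)
    (hs : Mor2.IsFinLocFree G.s) (ht : Mor2.IsFinLocFree G.t)
    (heq : AlgSp.IsEqvRel (Over.homMk G.s G.s_over : Over.mk G.pR ⟶ Over.mk G.pU) (Over.homMk G.t G.t_over : Over.mk G.pR ⟶ Over.mk G.pU))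
    (h3 : ∀ Z : Set ↥G.U, IsClosed Z → Z.Nonempty →
      ∃ u ∈ Z, ∃ W : G.U.Opens, IsAffineOpen W ∧ ∀ r : ↥G.R, G.s r = u → G.t r ∈ W) :
    ∃ (M : Over S) (m : Over.mk G.pU ⟶ M), Mor2.IsFinLocFree m.left ∧ IsPullback G.t G.s m.left m.left ∧
      QuotSh.IsQuotient Scheme.fppfPrecoverage (Over.homMk G.s G.s_over : Over.mk G.pR ⟶ Over.mk G.pU) (Over.homMk G.t G.t_over : Over.mk G.pR ⟶ Over.mk G.pU) m := by
  obtain ⟨h1, h2, h3'⟩ := hs
  haveI := h1
  haveI := h2
  haveI := h3'
  have hcov := Groth.Agent.Lib.H5bGQ.hcov_of_closed G h3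
  -- `j` is a monomorphism
  have hj : Mono G.j := by
    refine ⟨fun {T} r r' hrr => ?_⟩
    have e1 : r ≫ G.t = r' ≫ G.t := by
      have := congrArg (· ≫ pullback.fst G.pU G.pU) hrr
      simp only [Category.assoc] at this
      unfold Grpd.GroupoidScheme.j at this
      rw [pullback.lift_fst] at this
      exact this
    have e2 : r ≫ G.s = r' ≫ G.s := by
      have := congrArg (· ≫ pullback.snd G.pU G.pU) hrr
      simp only [Category.assoc] at this
      unfold Grpd.GroupoidScheme.j at this
      rw [pullback.lift_snd] at this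
      exact this
    have e3 : r' ≫ G.pR = r ≫ G.pR := by
      rw [← G.t_over, ← Category.assoc, ← e1, Category.assoc]
    let ρ : Over.mk (r ≫ G.pR) ⟶ Over.mk G.pR := Over.homMk r rfl
    let ρ' : Over.mk (r ≫ G.pR) ⟶ Over.mk G.pR := Over.homMk r' e3
    have := heq.injective (Over.mk (r ≫ G.pR)) ρ ρ' (by
      apply Over.OverMorphism.ext
      simp only [Over.comp_left, Over.homMk_left, ρ, ρ']
      exact e1) (by
      apply Over.OverMorphism.ext
      simp only [Over.comp_left, Over.homMk_left, ρ, ρ']
      exact e2)
    have := congrArg (fun φ => φ.left) this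
    exact this
  obtain ⟨Y, p, w, huniv, -, hsurj, -, -, -, -, hmono⟩ := Groth.Agent.Lib.H5bGQ.main G hcov
  obtain ⟨hfin, hflat, hfp, hpb⟩ := hmono hj
  -- the structure morphism of the quotient
  obtain ⟨m, hm, -⟩ := huniv S G.pU (by rw [G.t_over, G.s_over])
  refine ⟨Over.mk m, Over.homMk p hm, ⟨hfin, hflat, hfp⟩, hpb, ?_⟩
  apply Groth.Agent.Lib.Helper12.QuotShLib.isQuotient_of_isKernelPair
  · refine IsPullback.of_map (Over.forget S) ?_ ?_
    · apply Over.OverMorphism.ext
      simp only [Over.comp_left, Over.homMk_left]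
      exact w.symm
    · exact hpb.flip
  · haveI := hflat
    haveI := hfp
    haveI := hsurj
    exact p.singleton_mem_fppfPrecoverage

end Groth.Agent.S10235
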