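import Groth.Statements.S10236
import Mathlib
import Groth.Agent.Lib.Helper12QuotSh
import Groth.Agent.Lib.Helper12Descent

set_option autoImplicit false
set_option linter.style.haveILetI false
universe u
open CategoryTheory CategoryTheory.Limits AlgebraicGeometry Topology TopologicalSpace
open AlgSp

namespace Groth.Agent.S10236

open MorphismProperty in
/-- separation descends along a finite flat surjective morphism. -/
lemma descend_diag {U M Z : Scheme.{u}} (m : U ⟶ M) (g : M ⟶ Z) [Surjective m] [Flat m]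
    [IsFinite m] :
    (QuasiSeparated (m ≫ g) → QuasiSeparated g) ∧ (IsSeparated (m ≫ g) → IsSeparated g) := by
  have sq := pullback_map_diagonal_isPullback m m g
  obtain ⟨j', hj'⟩ : ∃ j' : pullback m m ⟶ pullback (m ≫ g) (m ≫ g),
      j' = pullback.map m m (m ≫ g) (m ≫ g) (𝟙 _) (𝟙 _) g (Category.id_comp _).symm
        (Category.id_comp _).symm := ⟨_, rfl⟩
  obtain ⟨mm, hmm⟩ : ∃ mm : pullback (m ≫ g) (m ≫ g) ⟶ pullback g g,
      mm = pullback.map (m ≫ g) (m ≫ g) g g m m (𝟙 _) (Category.comp_id _)
        (Category.comp_id _) := ⟨_, rfl⟩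
  rw [← hj', ← hmm] at sq
  have hj : j' ≫ pullback.fst (m ≫ g) (m ≫ g) = pullback.fst m m := by
    rw [hj', pullback.lift_fst, Category.comp_id]
  have hQ : (@Surjective ⊓ @Flat ⊓ @QuasiCompact : MorphismProperty Scheme.{u}) mm := by
    rw [hmm]
    exact MorphismProperty.pullbackMap
      (P := (@Surjective ⊓ @Flat ⊓ @QuasiCompact : MorphismProperty Scheme.{u}))
      (f := m ≫ g) (g := m ≫ g) (f' := g) (g' := g) (i₁ := m) (i₂ := m)
      ⟨⟨inferInstance, inferInstance⟩, inferInstance⟩
      ⟨⟨inferInstance, inferInstance⟩, inferInstance⟩ rfl rfl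
  constructor
  · intro h
    have h1 : QuasiCompact j' :=
      MorphismProperty.of_postcomp (W := @QuasiCompact) (W' := @QuasiSeparated) j'
        (pullback.fst (m ≫ g) (m ≫ g)) inferInstance (by rw [hj]; infer_instance)
    haveI := Groth.Agent.Lib.Helper12.descendsAlong_quasiCompact.{u}
    exact ⟨MorphismProperty.of_isPullback_of_descendsAlong
      (Q := @Surjective ⊓ @Flat ⊓ @QuasiCompact) sq.flip hQ h1⟩
  · intro h
    haveI : Mono j' := by
      have : MorphismProperty.monomorphisms Scheme.{u} j' :=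
        MorphismProperty.of_isPullback (P := MorphismProperty.monomorphisms Scheme.{u}) sq
          (MorphismProperty.monomorphisms.infer_property _)
      exact this
    haveI : IsIntegralHom j' :=
      MorphismProperty.of_postcomp (W := @IsIntegralHom) (W' := @IsSeparated) j'
        (pullback.fst (m ≫ g) (m ≫ g)) inferInstance (by rw [hj]; infer_instance)
    haveI : LocallyOfFiniteType (j' ≫ pullback.fst (m ≫ g) (m ≫ g)) := by
      rw [hj]; infer_instance
    haveI : LocallyOfFiniteType j' :=
      locallyOfFiniteType_of_comp j' (pullback.fst (m ≫ g) (m ≫ g))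
    haveI : IsFinite j' := (IsFinite.iff_isIntegralHom_and_locallyOfFiniteType j').2
      ⟨inferInstance, inferInstance⟩
    have h1 : IsClosedImmersion j' :=
      (IsClosedImmersion.iff_isFinite_and_mono j').2 ⟨inferInstance, inferInstance⟩
    haveI := Groth.Agent.Lib.Helper12.descendsAlong_isClosedImmersion.{u}
    exact ⟨MorphismProperty.of_isPullback_of_descendsAlong
      (Q := @Surjective ⊓ @Flat ⊓ @QuasiCompact) sq.flip hQ h1⟩

/-- Let (U, R, s, t, c) be a groupoid scheme over a scheme S with s, t finite locally free and j = (t,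
s) an equivalence relation, such that in each nonempty closed subset of U some point has its whole
equivalence class inside an affine open of U; let U ⟶ M be a finite locally free morphism over S
with R = U ×_M U (the square with t, s cartesian) such that h_M is the quotient of h_U by h_R ⇉ h_U
in fppf sheaves. Then (1) if U ⟶ S is quasi-separated so is M ⟶ S; (2) if U is quasi-separated so is
M; (3) if U ⟶ S is separated so is M ⟶ S; (4) if U is separated so is M. -/
theorem result {S : Scheme.{u}} (G : Grpd.GroupoidScheme S)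
    (hs : Mor2.IsFinLocFree G.s) (ht : Mor2.IsFinLocFree G.t)
    (heq : AlgSp.IsEqvRel (Over.homMk G.s G.s_over : Over.mk G.pR ⟶ Over.mk G.pU) (Over.homMk G.t G.t_over : Over.mk G.pR ⟶ Over.mk G.pU))
    (h3 : ∀ Z : Set ↥G.U, IsClosed Z → Z.Nonempty →
      ∃ u ∈ Z, ∃ W : G.U.Opens, IsAffineOpen W ∧ ∀ r : ↥G.R, G.s r = u → G.t r ∈ W)
    (M : Over S) (m : Over.mk G.pU ⟶ M) (hm : Mor2.IsFinLocFree m.left) (hR : IsPullback G.t G.s m.left m.left)
    (hq : QuotSh.IsQuotient Scheme.fppfPrecoverage (Over.homMk G.s G.s_over : Over.mk G.pR ⟶ Over.mk G.pU) (Over.homMk G.t G.t_over : Over.mk G.pR ⟶ Over.mk G.pU) m) :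
    (QuasiSeparated G.pU → QuasiSeparated M.hom) ∧ (QuasiSeparatedSpace ↥G.U → QuasiSeparatedSpace ↥M.left) ∧
      (IsSeparated G.pU → IsSeparated M.hom) ∧ (G.U.IsSeparated → M.left.IsSeparated) := by
  obtain ⟨hfin, hflat, -⟩ := hm
  haveI := hfin
  haveI := hflat
  haveI : Surjective m.left := by
    obtain ⟨w, hiso⟩ := hq
    have hepi : Epi (QuotSh.repMap Scheme.fppfPrecoverage m) := by
      have hπ : QuotSh.quotπ Scheme.fppfPrecoverage _ _ ≫
          QuotSh.quotDesc Scheme.fppfPrecoverage m w = QuotSh.repMap Scheme.fppfPrecoverage m :=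
        coequalizer.π_desc _ _
      rw [← hπ]
      haveI : Epi (QuotSh.quotπ Scheme.fppfPrecoverage
          (Over.homMk G.s G.s_over : Over.mk G.pR ⟶ Over.mk G.pU)
          (Over.homMk G.t G.t_over : Over.mk G.pR ⟶ Over.mk G.pU)) := coequalizer.π_epi
      infer_instance
    obtain ⟨R', hR', hlift⟩ :=
      Groth.Agent.Lib.Helper12.QuotShLib.exists_cover_of_epi Scheme.fppfPrecoverage m hepi
    obtain ⟨I, Z, φ, rfl⟩ := Presieve.exists_eq_ofArrows R'
    let 𝒰 : Scheme.Cover Scheme.fppfPrecoverage M.left := ⟨⟨I, Z, φ⟩, hR'⟩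
    refine ⟨fun x => ?_⟩
    obtain ⟨j, y, hy⟩ := 𝒰.exists_eq x
    obtain ⟨l, hl⟩ := hlift (φ j) ⟨j⟩
    refine ⟨l.left y, ?_⟩
    rw [← Scheme.Hom.comp_apply, hl]
    exact hy
  have hw : m.left ≫ M.hom = G.pU := Over.w m
  have hterm : m.left ≫ terminal.from M.left = terminal.from G.U := Subsingleton.elim _ _
  refine ⟨fun h => ?_, fun h => ?_, fun h => ?_, fun h => ?_⟩
  · exact (descend_diag m.left M.hom).1 (by rw [hw]; exact h)
  · rw [quasiSeparatedSpace_iff_quasiSeparated] at h ⊢
    exact (descend_diag m.left (terminal.from M.left)).1 (by rw [hterm]; exact h)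
  · exact (descend_diag m.left M.hom).2 (by rw [hw]; exact h)
  · rw [Scheme.isSeparated_iff] at h ⊢
    exact (descend_diag m.left (terminal.from M.left)).2 (by rw [hterm]; exact h)

end Groth.Agent.S10236
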