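import Groth.Statements.S10239
import Mathlib
import Groth.Agent.Lib.H5bOEtStalkPt
import Groth.Agent.S10177

set_option autoImplicit false
set_option linter.style.haveILetI false
universe u
open CategoryTheory CategoryTheory.Limits AlgebraicGeometry Topology TopologicalSpace
open AlgSp

namespace Groth.Agent.S10239

open Groth.Agent.Lib.H5bOEtStalk Groth.Agent.Lib.H5bOEtStalkPt Groth.Agent.Lib.H5bElemHz
  Groth.Agent.Lib.Helper8SpLocalRing

/-- (1) ⇔ (4) ⇔ (5): let X be an algebraic space over a scheme S, x ∈ |X| and n ≥ 1 an integer. The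
following are equivalent: (1) for every scheme U, etale h_U ⟶ X and u ∈ U over x the local ring of U
at u has at most n minimal primes, and for some such (U, u) exactly n; (4) for every such (U, u) the
number of geometric branches of U at u is n; (5) for every geometric point x̄ over x the etale local
ring of X at x̄ has exactly n minimal primes. -/
theorem result {S : Scheme.{u}} (X : AlgSp.Space S) (x : AlgSp.Points X.obj)
    (n : ℕ) (hn : 1 ≤ n) :
    (((∀ (U : Over S) (a : (AlgSp.yon S).obj U ⟶ X.obj) (u : ↥U.left),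
        AlgSp.RepWith @Etale a → AlgSp.Points.ofPt a u = x → (minimalPrimes ↥(U.left.presheaf.stalk u)).encard ≤ n) ∧
        AlgSp.HasAt (fun U u => (minimalPrimes ↥(U.presheaf.stalk u)).encard = n) X.obj x) ↔
      (∀ (U : Over S) (a : (AlgSp.yon S).obj U ⟶ X.obj) (u : ↥U.left),
        AlgSp.RepWith @Etale a → AlgSp.Points.ofPt a u = x → Brnch.numGeomBranchesAt U.left u = n)) ∧
    ((∀ (U : Over S) (a : (AlgSp.yon S).obj U ⟶ X.obj) (u : ↥U.left),
        AlgSp.RepWith @Etale a → AlgSp.Points.ofPt a u = x → Brnch.numGeomBranchesAt U.left u = n) ↔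
      ∀ p : AlgSp.FieldPt X.obj, p.IsGeometric → AlgSp.Points.mk p = x →
        (minimalPrimes ↥(AlgSp.OEtStalk p)).encard = n) := by
  have hn' : ((1 : ℕ) : ℕ∞) ≤ (n : ℕ∞) := by exact_mod_cast hn
  refine ⟨⟨fun H U a u ha hu => ?_, fun H => ⟨fun U a u ha hu => ?_, ?_⟩⟩,
    ⟨fun H p hp hpx => ?_, fun H U a u ha hu => ?_⟩⟩
  · obtain ⟨H1, H2⟩ := H
    apply le_antisymm
    · rw [Groth.Agent.Lib.H5bBranchMain.numGeomBranchesAt_eq_iSup]
      refine iSup_le fun V => iSup_le fun g => iSup_le fun v => iSup_le fun h => ?_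
      obtain ⟨hg, hv⟩ := h
      haveI := hg
      obtain ⟨h1, h2⟩ := chart_of_etale a ha u g v hv
      have h3 := H1 (Over.mk (g ≫ U.hom)) _ v h1 (h2.trans hu)
      rw [encard_components_eq_minimalPrimes]
      exact h3
    · obtain ⟨U₀, a₀, u₀, ha₀, hu₀, hN⟩ := H2
      obtain ⟨W, pr, w, y, hpr, hw, hy1, hy2⟩ :=
        exists_common_chart a ha a₀ ha₀ u u₀ (hu.trans hu₀.symm)
      haveI := hpr
      haveI := hw
      have h1 := encard_minimalPrimes_stalk_le_of_flat w.left y u₀ hy2
      have h2 := encard_minimalPrimes_le_numGeomBranchesAt pr.left y u hy1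
      rw [hN] at h1
      exact h1.trans h2
  · rw [← H U a u ha hu]
    exact encard_minimalPrimes_le_numGeomBranchesAt_self U.left u
  · obtain ⟨U₀, p₀, h1, h2⟩ := X.property.atlas
    obtain ⟨u₀, hu₀⟩ := Groth.Agent.S10177.surjective_ofPt p₀ h2 x
    obtain ⟨V, g, v, hg, hv, hle⟩ := exists_etale_nbhd_of_le_numGeomBranchesAt U₀.left u₀ n hn
      (le_of_eq (H U₀ p₀ u₀ h1 hu₀).symm)
    haveI := hg
    obtain ⟨h3, h4⟩ := chart_of_etale p₀ h1 u₀ g v hv
    refine ⟨Over.mk (g ≫ U₀.hom), _, v, h3, h4.trans hu₀, ?_⟩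
    apply le_antisymm
    · rw [← H (Over.mk (g ≫ U₀.hom)) _ v h3 (h4.trans hu₀)]
      exact encard_minimalPrimes_le_numGeomBranchesAt_self V v
    · exact hle
  · apply le_antisymm
    · by_contra hlt
      rw [not_le] at hlt
      have h2 : ((n + 1 : ℕ) : ℕ∞) ≤ (minimalPrimes ↥(AlgSp.OEtStalk p)).encard := by
        have := Order.add_one_le_of_lt hlt
        exact_mod_cast this
      obtain ⟨E, l, hE⟩ := exists_nbhd_of_le_encard X p hp (n + 1) h2
      have hchart := ofPt_ptOf X p E l
      have h3 := H E.obj.left E.obj.hom (ptOf X p E l) E.property (hchart.trans hpx)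
      have h4 := encard_minimalPrimes_le_numGeomBranchesAt_self E.obj.left.left (ptOf X p E l)
      rw [h3] at h4
      have h5 := hE.trans h4
      have h6 : n + 1 ≤ n := by exact_mod_cast h5
      omega
    · obtain ⟨U₀, p₀, h1, h2⟩ := X.property.atlas
      obtain ⟨u₀, hu₀⟩ := Groth.Agent.S10177.surjective_ofPt p₀ h2 x
      obtain ⟨V, g, v, hg, hv, hle⟩ := exists_etale_nbhd_of_le_numGeomBranchesAt U₀.left u₀ n hn
        (le_of_eq (H U₀ p₀ u₀ h1 hu₀).symm)
      haveI := hg
      obtain ⟨h3, h4⟩ := chart_of_etale p₀ h1 u₀ g v hv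
      obtain ⟨l, hl⟩ := exists_lift_at X p hp _ h3 v ((h4.trans hu₀).trans hpx.symm)
      have h5 := encard_minimalPrimes_stalk_le X p hp (AlgSp.EtOver.mk _ h3) l
      rw [hl] at h5
      exact hle.trans h5
  · obtain ⟨q, hq, hqx⟩ := exists_geometric_over X a u
    have Hq := H q hq (hqx.trans hu)
    apply le_antisymm
    · rw [Groth.Agent.Lib.H5bBranchMain.numGeomBranchesAt_eq_iSup]
      refine iSup_le fun V => iSup_le fun g => iSup_le fun v => iSup_le fun h => ?_
      obtain ⟨hg, hv⟩ := h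
      haveI := hg
      obtain ⟨h1, h2⟩ := chart_of_etale a ha u g v hv
      obtain ⟨l, hl⟩ := exists_lift_at X q hq _ h1 v (h2.trans hqx.symm)
      have h5 := encard_minimalPrimes_stalk_le X q hq (AlgSp.EtOver.mk _ h1) l
      rw [hl] at h5
      rw [encard_components_eq_minimalPrimes, ← Hq]
      exact h5
    · obtain ⟨E, l, hE⟩ := exists_nbhd_of_le_encard X q hq n (le_of_eq Hq.symm)
      obtain ⟨lU, hlU⟩ := exists_lift_at X q hq a ha u hqx.symm
      obtain ⟨V, v, f₁, f₂, hf₁, hf₂⟩ := exists_common X q hq E l (AlgSp.EtOver.mk a ha) lU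
      haveI : Etale f₁.hom.left.left := AlgSp.EtOver.etale_left f₁
      haveI : Etale f₂.hom.left.left := AlgSp.EtOver.etale_left f₂
      have hpt1 : f₁.hom.left.left (ptOf X q V v) = ptOf X q E l := by rw [← hf₁, ptOf_map]
      have hpt2 : f₂.hom.left.left (ptOf X q V v) = u := by
        rw [← hlU, ← hf₂, ptOf_map]
      have h1 := encard_minimalPrimes_stalk_le_of_flat f₁.hom.left.left _ _ hpt1
      have h2 := encard_minimalPrimes_le_numGeomBranchesAt f₂.hom.left.left (ptOf X q V v) u hpt2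
      exact (hE.trans h1).trans h2

end Groth.Agent.S10239
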