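import Groth.Statements.S10242
import Mathlib
import Groth.Agent.Lib.Helper12FieldBC

set_option autoImplicit false
universe u
open CategoryTheory CategoryTheory.Limits AlgebraicGeometry Topology TopologicalSpace
open AlgSp

namespace Groth.Agent.S10242

/-- Let X be a reduced algebraic space over a scheme S. Then the ring of global sections of the
structure sheaf of X (on the small etale site) is reduced, and if a global section f satisfies X =
V(f), meaning that its restriction to every scheme U etale over X has empty non-vanishing locus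
D(f|_U), then f = 0. -/
theorem result {S : Scheme.{u}} (X : AlgSp.Space S) (hX : AlgSp.IsReducedSp X.obj) :
    _root_.IsReduced ↥(AlgSp.gsectEt (AlgSp.OEt X.obj)) ∧
      ∀ f : ↥(AlgSp.gsectEt (AlgSp.OEt X.obj)),
        (∀ E : AlgSp.EtOver X.obj,
            E.obj.left.left.basicOpen ((limit.π (AlgSp.OEt X.obj).obj (Opposite.op E)) f).down = ⊥) →
          f = 0 := by
  classical
  have hred : ∀ E : AlgSp.EtOver X.obj, IsReduced E.obj.left.left := fun E =>
    Groth.Agent.Lib.Helper12.FieldBC.isReduced_of_chart hX E.obj.hom E.property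
  have hext : ∀ x y : ↥(AlgSp.gsectEt (AlgSp.OEt X.obj)),
      (∀ E : AlgSp.EtOver X.obj, (limit.π (AlgSp.OEt X.obj).obj (Opposite.op E)) x =
        (limit.π (AlgSp.OEt X.obj).obj (Opposite.op E)) y) → x = y := by
    intro x y h
    apply Concrete.limit_ext (AlgSp.OEt X.obj).obj x y
    intro j
    exact h j.unop
  constructor
  · constructor
    intro x hx
    obtain ⟨n, hn⟩ := hx
    apply hext
    intro E
    rw [map_zero]
    haveI := hred E
    haveI hR : _root_.IsReduced Γ(E.obj.left.left, ⊤) := inferInstance
    have h1 : ((limit.π (AlgSp.OEt X.obj).obj (Opposite.op E)) x) ^ n = 0 := by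
      rw [← map_pow, hn, map_zero]
    have h2 : ((((limit.π (AlgSp.OEt X.obj).obj (Opposite.op E)) x).down :
        Γ(E.obj.left.left, ⊤))) ^ n = 0 :=
      congrArg ULift.down h1
    have h3 : ((((limit.π (AlgSp.OEt X.obj).obj (Opposite.op E)) x).down :
        Γ(E.obj.left.left, ⊤))) = 0 := hR.eq_zero _ ⟨n, h2⟩
    exact ULift.ext _ _ h3
  · intro f hf
    apply hext
    intro E
    rw [map_zero]
    haveI := hred E
    have h3 : ((((limit.π (AlgSp.OEt X.obj).obj (Opposite.op E)) f).down :
        Γ(E.obj.left.left, ⊤))) = 0 :=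
      (@AlgebraicGeometry.basicOpen_eq_bot_iff E.obj.left.left (hred E) ⊤ _).1 (hf E)
    exact ULift.ext _ _ h3

end Groth.Agent.S10242
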