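import Groth.Statements.S10245
import Mathlib
import Groth.Agent.Lib.H5bActQuot
import Groth.Agent.Lib.Helper12QuotSh

set_option autoImplicit false
universe u
open CategoryTheory CategoryTheory.Limits MonoidalCategory CartesianMonoidalCategory MonObj AlgebraicGeometry Topology TopologicalSpace
open AlgSp

namespace Groth.Agent.S10245

set_option linter.style.haveILetI false in
open Groth.Agent.Lib.H5bAct in
theorem aux {S : Scheme.{u}} (G X : Over S) [GrpObj G]
    (a : AlgGrp.Action G X) [IsFinite G.hom] [Flat G.hom] [LocallyOfFinitePresentation G.hom]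
    (hfree : ∀ (T : Over S) (g : T ⟶ G) (x : T ⟶ X), lift g x ≫ a.act = x → g = toUnit T ≫ η[G])
    (hb : ∀ x : X.left, ∃ V : X.left.Opens, IsAffineOpen V ∧
      ∀ r : (G ⊗ X).left, (snd G X).left r = x → a.act.left r ∈ V) :
    ∃ (M : Over S) (q : X ⟶ M), QuotSh.IsQuotient Scheme.fppfPrecoverage (snd G X) a.act q ∧
      IsPullback a.act.left (snd G X).left q.left q.left ∧
      NonAbH1.IsLocallyTrivialFor Scheme.fppfPrecoverage (Over.mk q.left) := by
  have hcov := Groth.Agent.Lib.H5bGQ.hcov_of_orbit (actGrpd a) hb
  obtain ⟨Y, (p : X.left ⟶ Y), (w : a.act.left ≫ p = (snd G X).left ≫ p), huniv, -,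
    (hsurj : Surjective p), -, -, -, -, hmono⟩ := Groth.Agent.Lib.H5bGQ.main (actGrpd a) hcov
  obtain ⟨-, (hflat : Flat p), (hlofp : LocallyOfFinitePresentation p),
    (hpb : IsPullback a.act.left (snd G X).left p p)⟩ := hmono (mono_j_of_free a hfree)
  obtain ⟨k, (hk : p ≫ k = X.hom), -⟩ := huniv S X.hom (by
    show a.act.left ≫ X.hom = (snd G X).left ≫ X.hom
    rw [Over.w, Over.w])
  let M : Over S := Over.mk k
  let q : X ⟶ M := Over.homMk p hk
  haveI : Flat q.left := hflat
  haveI : LocallyOfFinitePresentation q.left := hlofp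
  haveI : Surjective q.left := hsurj
  have hmem : Presieve.singleton q.left ∈ Scheme.fppfPrecoverage M.left :=
    Scheme.Hom.singleton_mem_fppfPrecoverage q.left
  refine ⟨M, q, ?_, hpb, ?_⟩
  · refine Groth.Agent.Lib.Helper12.QuotShLib.isQuotient_of_isKernelPair _ (snd G X) a.act q ?_ hmem
    refine IsPullback.of_map (Over.forget S) ?_ hpb.flip
    apply Over.OverMorphism.ext
    exact w.symm
  · refine ⟨Presieve.singleton q.left, hmem, ?_⟩
    rintro S' f ⟨⟩
    exact ⟨𝟙 _, Category.id_comp _⟩

/-- Let G ⟶ S be a finite locally free group scheme over a scheme S acting on a scheme X over S by a : G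
×_S X ⟶ X, freely on T-valued points for every S-scheme T. Assume one of the following: the
structure morphism X ⟶ S is affine; X admits an open immersion into some affine scheme; G ⟶ S is
radicial (universally injective). Then the fppf quotient sheaf X/G is a scheme M: there is q : X ⟶ M
over S exhibiting h_M as the quotient of h_X by the projection and the action G ×_S X ⇉ X in fppf
sheaves; moreover the square formed by the action, the projection and q is cartesian (G ×_S X ≅ X
×_M X) and X ⟶ M has sections fppf locally on M, so that X ⟶ X/G is an fppf G-torsor. (The published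
statement also allows X ⟶ S quasi-affine, projective or quasi-projective, or X an open subscheme of
Proj of a graded ring; those cases are not covered by this row.) -/
theorem result {S : Scheme.{u}} (G X : Over S) [GrpObj G]
    (a : AlgGrp.Action G X) (hG : Mor2.IsFinLocFree G.hom)
    (hfree : ∀ (T : Over S) (g : T ⟶ G) (x : T ⟶ X), lift g x ≫ a.act = x → g = toUnit T ≫ η[G])
    (h3 : IsAffineHom X.hom ∨ (∃ (R : CommRingCat.{u}) (i : X.left ⟶ Spec R), IsOpenImmersion i) ∨
      UniversallyInjective G.hom) :
    ∃ (M : Over S) (q : X ⟶ M), QuotSh.IsQuotient Scheme.fppfPrecoverage (snd G X) a.act q ∧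
      IsPullback a.act.left (snd G X).left q.left q.left ∧
      NonAbH1.IsLocallyTrivialFor Scheme.fppfPrecoverage (Over.mk q.left) := by
  obtain ⟨hfin, hflat, hlofp⟩ := hG
  haveI := hfin
  haveI := hflat
  haveI := hlofp
  refine aux G X a hfree (fun x => ?_)
  rcases h3 with h | ⟨R, i, hi⟩ | h
  · haveI := h
    exact Groth.Agent.Lib.H5bAct.orbit_affine_of_isAffineHom a x
  · haveI := hi
    exact Groth.Agent.Lib.H5bAct.orbit_affine_of_open_in_affine a R i x
  · haveI := h
    exact Groth.Agent.Lib.H5bAct.orbit_affine_of_universallyInjective a x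

end Groth.Agent.S10245
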