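import Groth.Statements.S10246
import Mathlib
import Groth.Agent.Lib.H5bAtlasDesc
import Groth.Prelude.Def_AlgSpOX

set_option autoImplicit false
universe u
open CategoryTheory CategoryTheory.Limits AlgebraicGeometry Topology TopologicalSpace
open AlgSp

namespace Groth.Agent.S10246

open Opposite

variable {S : Scheme.{u}} {X : AlgSp.Sp S} {T : Over S}

/-- the ring map to the functions of an object of the small étale site. -/
noncomputable def ψ (φ : Γ(T.left, ⊤) →+* ↥(AlgSp.gsectEt (AlgSp.OEt X))) (E : AlgSp.EtOver X) :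
    Γ(T.left, ⊤) →+* Γ(E.obj.left.left, ⊤) :=
  (ULift.ringEquiv : ULift.{u + 1} Γ(E.obj.left.left, ⊤) ≃+* Γ(E.obj.left.left, ⊤)).toRingHom.comp
    (((limit.π (AlgSp.OEt X).obj (op E)).hom :
      ↥(AlgSp.gsectEt (AlgSp.OEt X)) →+* ULift.{u + 1} Γ(E.obj.left.left, ⊤)).comp φ)

lemma ψ_apply (φ : Γ(T.left, ⊤) →+* ↥(AlgSp.gsectEt (AlgSp.OEt X))) (E : AlgSp.EtOver X)
    (r : Γ(T.left, ⊤)) :
    ψ φ E r = ((limit.π (AlgSp.OEt X).obj (op E)) (φ r)).down := rfl

lemma ψ_map (φ : Γ(T.left, ⊤) →+* ↥(AlgSp.gsectEt (AlgSp.OEt X))) {E E' : AlgSp.EtOver X}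
    (g : E ⟶ E') : ψ φ E = g.hom.left.left.appTop.hom.comp (ψ φ E') := by
  ext r
  have h := limit.w (AlgSp.OEt X).obj g.op
  have h2 := congrArg (fun θ => θ.hom (φ r)) h
  simp only [CommRingCat.hom_comp, RingHom.comp_apply] at h2
  rw [ψ_apply, ← h2]
  rfl

/-- Let X be an algebraic space over a terminal base scheme (so that morphisms over the base are all
morphisms) and T an affine scheme. Then f ↦ f♯ is a bijection from morphisms X ⟶ T to ring maps Γ(T,
O_T) ⟶ Γ(X, O_X), where Γ(X, O_X) is the ring of global sections of the structure sheaf on the small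
etale site and f♯ is characterised by: for every scheme U etale over X, following f♯ by the
restriction Γ(X, O_X) ⟶ Γ(U, O_U) gives the map on global sections of the induced morphism U ⟶ T. -/
theorem result {S : Scheme.{u}} (hS : IsTerminal S) (X : AlgSp.Space S)
    (T : Over S) [IsAffine T.left] (φ : Γ(T.left, ⊤) →+* ↥(AlgSp.gsectEt (AlgSp.OEt X.obj))) :
    ∃! f : X.obj ⟶ (AlgSp.yon S).obj T,
      ∀ (E : AlgSp.EtOver X.obj) (r : Γ(T.left, ⊤)),
        ((limit.π (AlgSp.OEt X.obj).obj (Opposite.op E)) (φ r)).down =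
          ((AlgSp.yon S).preimage (E.obj.hom ≫ f)).left.appTop r := by
  obtain ⟨U, p, hpe, hps⟩ := X.property.atlas
  have mkHom : ∀ (Y : Over S) (θ : Γ(T.left, ⊤) →+* Γ(Y.left, ⊤)),
      ∃ k : Y ⟶ T, k.left.appTop = CommRingCat.ofHom θ := by
    intro Y θ
    obtain ⟨g, hg⟩ := Groth.Agent.Lib.H5bAtlasDesc.exists_hom_appTop (Y := Y.left) (T₀ := T.left)
      (CommRingCat.ofHom θ)
    exact ⟨Over.homMk g (hS.hom_ext _ _), hg⟩
  have homExt : ∀ (Y : Over S) (k k' : Y ⟶ T), k.left.appTop = k'.left.appTop → k = k' :=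
    fun Y k k' h => Over.OverMorphism.ext (ext_of_isAffine h)
  let E₀ : AlgSp.EtOver X.obj := AlgSp.EtOver.mk p hpe
  obtain ⟨e₀, he₀⟩ := mkHom U (ψ φ E₀)
  -- the kernel pair of the atlas
  obtain ⟨R, r₂, r₁', sqR⟩ := hpe.1 p
  obtain ⟨r₁, rfl⟩ := (AlgSp.yon S).map_surjective r₁'
  have hr₂ : Etale r₂.left := hpe.2 _ _ r₂ sqR
  have hRe : AlgSp.RepWith @Etale ((AlgSp.yon S).map r₂ ≫ p) :=
    (AlgSp.repWith_isMultiplicative (S := S) @Etale).comp_mem _ _
      ((AlgSp.repWith_yon_map_iff @Etale r₂).2 hr₂) hpe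
  let ER : AlgSp.EtOver X.obj := AlgSp.EtOver.mk ((AlgSp.yon S).map r₂ ≫ p) hRe
  let g₂ : ER ⟶ E₀ := AlgSp.EtOver.homMk (E := ER) (E' := E₀) r₂ rfl
  let g₁ : ER ⟶ E₀ := AlgSp.EtOver.homMk (E := ER) (E' := E₀) r₁ sqR.w
  have hcomp : ∀ {Y Y' : Over S} (a : Y ⟶ Y') (k : Y' ⟶ T) (θ : Γ(T.left, ⊤) →+* Γ(Y'.left, ⊤)),
      k.left.appTop = CommRingCat.ofHom θ →
      (a ≫ k).left.appTop = CommRingCat.ofHom (a.left.appTop.hom.comp θ) := by
    intro Y Y' a k θ hk
    rw [Over.comp_left, Scheme.Hom.comp_appTop, hk]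
    rfl
  have hker : (AlgSp.yon S).map r₁ ≫ (AlgSp.yon S).map e₀ =
      (AlgSp.yon S).map r₂ ≫ (AlgSp.yon S).map e₀ := by
    rw [← Functor.map_comp, ← Functor.map_comp]
    congr 1
    apply homExt
    rw [hcomp r₁ e₀ _ he₀, hcomp r₂ e₀ _ he₀]
    have h1 := ψ_map φ g₁
    have h2 := ψ_map φ g₂
    exact congrArg CommRingCat.ofHom (h1.symm.trans h2)
  obtain ⟨f, hf⟩ := Groth.Agent.Lib.H5bAtlasDesc.exists_desc_of_atlas' p hpe hps r₁ r₂ sqR
    ((AlgSp.yon S).map e₀) hker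
  haveI := Groth.Agent.Lib.H5bAtlasDesc.epi_of_atlas p hpe hps
  refine ⟨f, ?_, ?_⟩
  · intro E r
    have hk : (AlgSp.yon S).map ((AlgSp.yon S).preimage (E.obj.hom ≫ f)) = E.obj.hom ≫ f :=
      (AlgSp.yon S).map_preimage _
    obtain ⟨W, w₂, w₁', sqW⟩ := hpe.1 E.obj.hom
    obtain ⟨w₁, rfl⟩ := (AlgSp.yon S).map_surjective w₁'
    haveI hw₂ : Etale w₂.left := hpe.2 _ _ w₂ sqW
    haveI hw₂s : Surjective w₂.left := hps.2 _ _ w₂ sqW
    have hWe : AlgSp.RepWith @Etale ((AlgSp.yon S).map w₂ ≫ E.obj.hom) :=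
      (AlgSp.repWith_isMultiplicative (S := S) @Etale).comp_mem _ _
        ((AlgSp.repWith_yon_map_iff @Etale w₂).2 hw₂) E.property
    let EW : AlgSp.EtOver X.obj := AlgSp.EtOver.mk ((AlgSp.yon S).map w₂ ≫ E.obj.hom) hWe
    let gE : EW ⟶ E := AlgSp.EtOver.homMk (E := EW) (E' := E) w₂ rfl
    let g₀ : EW ⟶ E₀ := AlgSp.EtOver.homMk (E := EW) (E' := E₀) w₁ sqW.w
    have key : w₂ ≫ (AlgSp.yon S).preimage (E.obj.hom ≫ f) = w₁ ≫ e₀ := by
      apply (AlgSp.yon S).map_injective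
      rw [Functor.map_comp, Functor.map_comp, hk, ← Category.assoc, ← sqW.w, Category.assoc, hf]
    have h1 : ((AlgSp.yon S).preimage (E.obj.hom ≫ f)).left.appTop ≫ w₂.left.appTop =
        CommRingCat.ofHom (ψ φ E) ≫ w₂.left.appTop := by
      have h2 := congrArg (fun m => m.left.appTop) key
      simp only [Over.comp_left, Scheme.Hom.comp_appTop] at h2
      rw [h2, he₀]
      have h3 := ψ_map φ g₀
      have h4 := ψ_map φ gE
      exact congrArg CommRingCat.ofHom (h3.symm.trans h4)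
    have hinj := Groth.Agent.Lib.H5bAtlasDesc.appTop_injective_of_flat_surjective w₂.left
    have h5 := congrArg (fun θ => θ.hom r) h1
    exact (hinj h5).symm
  · intro f' hf'
    rw [← cancel_epi p, hf]
    have hk : (AlgSp.yon S).map ((AlgSp.yon S).preimage (p ≫ f')) = p ≫ f' :=
      (AlgSp.yon S).map_preimage _
    rw [← hk]
    congr 1
    apply homExt
    rw [he₀]
    ext r
    exact (hf' E₀ r).symm

end Groth.Agent.S10246
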