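import Groth.Statements.S10249
import Mathlib
import Groth.Agent.Lib.H5bEtLocal
import Groth.Agent.Lib.Helper6EtDim

set_option autoImplicit false
universe u
open CategoryTheory CategoryTheory.Limits AlgebraicGeometry Topology TopologicalSpace
open AlgSp

namespace Groth.Agent.S10249

open Groth.Agent.Lib.H5bEtLocal in
/-- an étale-invariant pointed-scheme property transfers along étale morphisms of spaces. -/
theorem hasAt_iff_of_isEtaleMor {S : Scheme.{u}} (Q : ∀ U : Scheme.{u}, ↥U → Prop)
    (hQ : ∀ {W U : Scheme.{u}} (g : W ⟶ U) [Etale g] (w : W), Q W w ↔ Q U (g w))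
    {X Y : AlgSp.Space S} (f : X ⟶ Y) (hf : AlgSp.IsEtaleMor f.hom) (x : AlgSp.Points X.obj) :
    AlgSp.HasAt Q X.obj x ↔ AlgSp.HasAt Q Y.obj (AlgSp.Points.map f.hom x) := by
  constructor
  · rintro ⟨U, a, u, ha, hu, hq⟩
    refine ⟨U, a ≫ f.hom, u, hf a ha, ?_, hq⟩
    rw [← hu, AlgSp.Points.map_ofPt]
  · rintro ⟨V, b, v, hb, hv, hq⟩
    obtain ⟨U, p, hp1, hp2⟩ := X.property.atlas
    obtain ⟨u, hu⟩ := Groth.Agent.S10177.surjective_ofPt p hp2 x
    refine ⟨U, p, u, hp1, hu, ?_⟩
    have h1 : AlgSp.Points.ofPt (p ≫ f.hom) u = AlgSp.Points.ofPt b v := by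
      rw [hv, ← hu, AlgSp.Points.map_ofPt]
    exact (iff_of_ofPt_eq Q hQ (p ≫ f.hom) b (hf p hp1) hb u v h1).2 hq

/-- Let X and Y be algebraic spaces over a scheme S, f : X ⟶ Y an etale morphism and x ∈ |X| with image
y ∈ |Y|. Then (1) X at x and Y at y have the same dimension: for every d, some etale chart h_U ⟶ X
from a scheme U and some point u of U over x have local dimension d (of the topological space U at
u) if and only if the same holds for Y at y; and (2) the local rings of X at x and of Y at y have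
the same Krull dimension, in the same some-chart sense with the Krull dimension of the local ring of
U at u. -/
theorem result {S : Scheme.{u}} {X Y : AlgSp.Space S} (f : X ⟶ Y)
    (hf : AlgSp.IsEtaleMor f.hom) (x : AlgSp.Points X.obj) :
    (∀ d : WithBot ℕ∞,
        AlgSp.HasAt (fun U u => FlatMor.localDim ↥U u = d) X.obj x ↔
          AlgSp.HasAt (fun U u => FlatMor.localDim ↥U u = d) Y.obj (AlgSp.Points.map f.hom x)) ∧
    (∀ d : WithBot ℕ∞,
        AlgSp.HasAt (fun U u => ringKrullDim ↥(U.presheaf.stalk u) = d) X.obj x ↔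
          AlgSp.HasAt (fun U u => ringKrullDim ↥(U.presheaf.stalk u) = d) Y.obj (AlgSp.Points.map f.hom x)) := by
  refine ⟨fun d => ?_, fun d => ?_⟩
  · exact hasAt_iff_of_isEtaleMor (fun U u => FlatMor.localDim ↥U u = d)
      (fun g _ w => by
        show FlatMor.localDim _ _ = d ↔ FlatMor.localDim _ _ = d
        rw [Groth.Agent.Lib.Helper6.EtDim.localDim_eq_of_etale g w]) f hf x
  · exact hasAt_iff_of_isEtaleMor (fun U u => ringKrullDim ↥(U.presheaf.stalk u) = d)
      (fun g _ w => by
        show ringKrullDim _ = d ↔ ringKrullDim _ = d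
        rw [Groth.Agent.Lib.H5bEtLocal.ringKrullDim_stalk_eq_of_etale g w]) f hf x

end Groth.Agent.S10249
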