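import Groth.Statements.S1025
import Groth.Agent.Lib.R2H2LocalCBC5

set_option autoImplicit false
universe u
open CategoryTheory AlgebraicGeometry
open Perf

namespace Groth.Agent.S1025

/-- Let f : X ⟶ S be proper and of finite presentation and F an O_X-module of finite presentation which
is flat over S. For each i the function s ↦ dim_{κ(s)} Hⁱ(X_s, F_s) (cohomology of the pullback of F
to the scheme-theoretic fibre) is upper semicontinuous: for every n the set of points where it is <
n is open. -/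
theorem result {X S : Scheme.{u}} (f : X ⟶ S) [IsProper f] [LocallyOfFinitePresentation f]
    (F : X.Modules) (hF : CohB1.IsFP F) (hflat : FlatMod.IsFlatOver f F) (i n : ℕ) :
    IsOpen {s : S | PerfAux.betti f F s i < n} := by
  haveI : F.IsQuasicoherent := Groth.Agent.Helper18Strict.isQCoh_of_isFP F hF
  haveI := Groth.Agent.Lib.R2H3.RpushRestrict.hasInjectiveResolutions_modules X
  have hb : ∀ t : S, PerfAux.betti f F t i = CohIII.fiberRank f F i t := fun t => rfl
  rw [isOpen_iff_forall_mem_open]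
  intro s hsn
  obtain ⟨V₁, hs, A, _, _, Q, γ, hγ, hQ, hQv, hrank, hmain⟩ :=
    Groth.Agent.Lib.R2H2.LocalCBC.local_main f F hF hflat s
  have hO : IsOpen {y : PrimeSpectrum A | CohIII.dRank Q (-(i : ℤ)) y < n} :=
    Groth.Agent.Lib.R2H2.LocalCBC.isOpen_dRank_lt Q hQ (-(i : ℤ)) n
  have hW : IsOpen (γ ⁻¹' {y : PrimeSpectrum A | CohIII.dRank Q (-(i : ℤ)) y < n}) :=
    hO.preimage hγ
  refine ⟨Subtype.val '' (γ ⁻¹' {y : PrimeSpectrum A | CohIII.dRank Q (-(i : ℤ)) y < n}), ?_,
    V₁.2.isOpenMap_subtype_val _ hW, ?_⟩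
  · rintro _ ⟨z, hz, rfl⟩
    change PerfAux.betti f F z.1 i < n
    rw [hb, hrank i z.1 z.2]
    exact hz
  · refine ⟨⟨s, hs⟩, ?_, rfl⟩
    change CohIII.dRank Q (-(i : ℤ)) (γ ⟨s, hs⟩) < n
    rw [← hrank i s hs, ← hb]
    exact hsn

end Groth.Agent.S1025
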