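import Groth.Statements.S10250
import Mathlib
import Groth.Agent.S10176
import Groth.Agent.S10177
import Groth.Agent.Lib.Helper6EtDim
import Groth.Agent.Lib.Helper7TopDim

set_option autoImplicit false
universe u
open CategoryTheory CategoryTheory.Limits AlgebraicGeometry Topology TopologicalSpace
open AlgSp

namespace Groth.Agent.S10250

/-- an étale surjective morphism of schemes does not lower the dimension. -/
theorem dim_le_of_etale_surjective {W V : Scheme.{u}} (g : W ⟶ V) [Etale g]
    (hs : Function.Surjective g) : topologicalKrullDim V ≤ topologicalKrullDim W := by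
  rw [Groth.Agent.Lib.Helper7.TopDim.topologicalKrullDim_eq_iSup_localDim (X := V)]
  refine iSup_le fun v => ?_
  obtain ⟨w, rfl⟩ := hs v
  rw [← Groth.Agent.Lib.Helper6.EtDim.localDim_eq_of_etale g w]
  exact Groth.Agent.Lib.Helper7.TopDim.localDim_le_dim w

/-- Let f : X ⟶ Y be an etale and surjective morphism of algebraic spaces over a scheme S. Then X and Y
have the same dimension (the dimension of an algebraic space being the supremum of the Krull
dimensions of the schemes etale over it). -/
theorem result {S : Scheme.{u}} {X Y : AlgSp.Space S} (f : X ⟶ Y)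
    (hf : AlgSp.IsEtaleMor f.hom) (hs : AlgSp.IsSurjectiveMor f.hom) :
    AlgSp.dim X.obj = AlgSp.dim Y.obj := by
  apply le_antisymm
  · refine iSup_le fun U => iSup_le fun a => iSup_le fun ha => ?_
    exact le_iSup_of_le U (le_iSup_of_le (a ≫ f.hom) (le_iSup_of_le (hf a ha) le_rfl))
  · refine iSup_le fun V => iSup_le fun b => iSup_le fun hb => ?_
    obtain ⟨U, p, hp1, hp2⟩ := X.property.atlas
    have hpf : AlgSp.RepWith @Etale (p ≫ f.hom) := hf p hp1
    have sq := hpf.rep.isPullback' b
    have h1 : Etale (hpf.rep.snd b).left := hpf.property_snd b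
    have h2 : Etale (hpf.rep.fst' b).left := hb.2 (p ≫ f.hom) _ _ sq.flip
    -- surjectivity onto `V`
    have hsurj : Function.Surjective (hpf.rep.snd b).left := by
      intro v
      obtain ⟨x, hx⟩ := hs (AlgSp.Points.ofPt b v)
      obtain ⟨u, hu⟩ := Groth.Agent.S10177.surjective_ofPt p hp2 x
      have e : AlgSp.Points.ofPt (p ≫ f.hom) u = AlgSp.Points.ofPt b v := by
        rw [← hx, ← hu, AlgSp.Points.map_ofPt]
      obtain ⟨y, -, hy2⟩ := Groth.Agent.S10176.exists_point_of_isPullback_yon sq u v e
      exact ⟨y, hy2⟩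
    have hle1 := dim_le_of_etale_surjective (hpf.rep.snd b).left hsurj
    refine hle1.trans ?_
    -- the chart `W ⟶ U ⟶ X`
    have hchart : AlgSp.RepWith @Etale ((AlgSp.yon S).map (hpf.rep.fst' b) ≫ p) :=
      (AlgSp.RepWith @Etale).comp_mem _ _ ((AlgSp.repWith_yon_map_iff @Etale _).2 h2) hp1
    exact le_iSup_of_le _ (le_iSup_of_le _ (le_iSup_of_le hchart le_rfl))

end Groth.Agent.S10250
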