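import Groth.Statements.S10268
import Mathlib
import Groth.Agent.Lib.H5bSpDescD
import Groth.Agent.Lib.H5bDDGenK
import Groth.Agent.Lib.H5bFppfLocal
import Groth.Agent.Lib.Helper12Descent
import Groth.Agent.Lib.Helper12ZarGlue
import Groth.Agent.S9883

set_option autoImplicit false
set_option linter.style.haveILetI false
universe u
open CategoryTheory CategoryTheory.Limits AlgebraicGeometry
open AlgSp

namespace Groth.Agent.S10268

lemma aux {S : Scheme.{u}} (P : MorphismProperty Scheme.{u}) [P.IsStableUnderBaseChange]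
    [IsZariskiLocalAtTarget P] [P.IsLocalAtTarget Scheme.fppfPrecoverage]
    (hle : ∀ {A B : Scheme.{u}} (g : A ⟶ B), P g → IsAffineHom g)
    {X Y : AlgSp.Space S} (f : X ⟶ Y)
    (V : Over S) (p : (AlgSp.yon S).obj V ⟶ Y.obj) (hp : AlgSp.RepWith @Etale p)
    (hps : AlgSp.RepWith @Surjective p)
    {P₀ : AlgSp.Sp S} (fst : P₀ ⟶ X.obj) (snd : P₀ ⟶ (AlgSp.yon S).obj V)
    (sq : IsPullback fst snd f.hom p)
    (h : ∀ ⦃Z : Over S⦄, IsAffine Z.left → ∀ (g : (AlgSp.yon S).obj Z ⟶ (AlgSp.yon S).obj V),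
      ∃ (W : Over S) (i : W ⟶ Z) (fst' : (AlgSp.yon S).obj W ⟶ P₀),
        IsPullback fst' ((AlgSp.yon S).map i) snd g ∧ IsAffine W.left ∧ P i.left) :
    ∀ ⦃Z : Over S⦄, IsAffine Z.left → ∀ (a : (AlgSp.yon S).obj Z ⟶ Y.obj),
      ∃ (W : Over S) (i : W ⟶ Z) (fst' : (AlgSp.yon S).obj W ⟶ X.obj),
        IsPullback fst' ((AlgSp.yon S).map i) f.hom a ∧ IsAffine W.left ∧ P i.left := by
  have hsnd : AlgSp.RepWith P snd := by
    refine Groth.Agent.Lib.Helper12.ZarGlue.repWith_of_affine P snd (fun Z hZ g => ?_)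
    obtain ⟨W, i, fst', sq', -, hW⟩ := h hZ g
    exact ⟨W, i, fst', sq', hW⟩
  obtain ⟨V₀, g, fst₀, sq₀⟩ := hsnd.1 (𝟙 ((AlgSp.yon S).obj V))
  have hg : P g.left := hsnd.2 _ fst₀ g sq₀
  have sq₁ : IsPullback (fst₀ ≫ fst) ((AlgSp.yon S).map g) f.hom p := by
    have := sq₀.paste_horiz sq
    rwa [Category.id_comp] at this
  have hrep : AlgSp.Representable f.hom :=
    Groth.Agent.Lib.H5bSpDesc.representable_of_chart_of_effective P
      (fun X' S' p hs he D hD => by
        haveI := hs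
        haveI := he
        haveI : IsAffineHom D.obj.hom := hle _ hD
        exact Groth.Agent.Lib.H5bDDGen.effective_of_isAffineHom_fppf p D)
      f.hom p hp hps (fst₀ ≫ fst) g sq₁ hg
  have hRW : AlgSp.RepWith P f.hom :=
    Groth.Agent.S9883.repWith_of_chart f.hom hrep p hp hps (fst₀ ≫ fst) g sq₁ P hg
  intro Z hZ a
  obtain ⟨W, i, fstW, sqW⟩ := hrep a
  have hi : P i.left := hRW.2 a fstW i sqW
  haveI : IsAffineHom i.left := hle _ hi
  haveI := hZ
  exact ⟨W, i, fstW, sqW, isAffine_of_isAffineHom i.left, hi⟩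

/-- (3) ⇒ (2): integrality and finiteness of a morphism of algebraic spaces descend along a surjective
etale base change from a scheme. -/
theorem result {S : Scheme.{u}} {X Y : AlgSp.Space S} (f : X ⟶ Y) (V : Over S)
    (p : (AlgSp.yon S).obj V ⟶ Y.obj) (hp : AlgSp.RepWith @Etale p) (hps : AlgSp.RepWith @Surjective p)
    {P : AlgSp.Sp S} (fst : P ⟶ X.obj) (snd : P ⟶ (AlgSp.yon S).obj V) (sq : IsPullback fst snd f.hom p) :
    (AlgSp.IsIntegralMor snd → AlgSp.IsIntegralMor f.hom) ∧ (AlgSp.IsFiniteMor snd → AlgSp.IsFiniteMor f.hom) := by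
  constructor
  · intro h
    haveI := Groth.Agent.Lib.Helper12.descendsAlong_isIntegralHom.{u}
    haveI : MorphismProperty.IsLocalAtTarget (@IsIntegralHom : MorphismProperty Scheme.{u})
        Scheme.fppfPrecoverage := Groth.Agent.Lib.H5bFppfLocal.isLocalAtTarget_fppf _
    exact aux @IsIntegralHom (fun g hg => by haveI : IsIntegralHom g := hg; infer_instance)
      f V p hp hps fst snd sq h
  · intro h
    haveI := Groth.Agent.Lib.Helper12.descendsAlong_isFinite.{u}
    haveI : MorphismProperty.IsLocalAtTarget (@IsFinite : MorphismProperty Scheme.{u})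
        Scheme.fppfPrecoverage := Groth.Agent.Lib.H5bFppfLocal.isLocalAtTarget_fppf _
    exact aux @IsFinite (fun g hg => by haveI : IsFinite g := hg; infer_instance)
      f V p hp hps fst snd sq h

end Groth.Agent.S10268
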