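import Groth.Statements.S10281
import Mathlib
import Groth.Agent.Lib.H5bSchIm2
import Groth.Agent.Lib.Helper12Proper
import Groth.Agent.S10278
import Groth.Agent.S10279
import Groth.Agent.S9915
import Groth.Agent.S10191

set_option autoImplicit false
universe u
open CategoryTheory CategoryTheory.Limits AlgebraicGeometry
open AlgSp

namespace Groth.Agent.S10281

/-- The scheme theoretic image of a space proper over B in a space separated and locally of finite type
over B is proper over B, and the source surjects onto it. -/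
theorem result {S : Scheme.{u}} {X Y Z B : AlgSp.Space S} (h : X ⟶ Y) (f : X ⟶ B)
    (g : Y ⟶ B) (comm : h ≫ g = f) (hf : AlgSp.IsProperMor f.hom) (hg : AlgSp.IsSeparatedMor g.hom)
    (hg' : AlgSp.LocP @LocallyOfFiniteType g.hom) (i : Z ⟶ Y) (hZ : AlgSp.IsSchImage h.hom i.hom)
    (h' : X ⟶ Z) (fac : h' ≫ i = h) :
    AlgSp.IsProperMor (i ≫ g).hom ∧ AlgSp.IsSurjectiveMor h'.hom := by
  have hh : AlgSp.IsProperMor h.hom := (Groth.Agent.S10278.result h f g comm hg).2 hf
  have hhuc := (Groth.Agent.S10278.result h f g comm hg).1 hf.2.2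
  have hhq : AlgSp.IsQuasiCompactMor h.hom := hh.2.1.2
  have hsub := Groth.Agent.Lib.H5bSchIm.range_subset_closure Y.property Z.property hhq hZ
  rw [hhuc.2.closure_eq] at hsub
  have himm : AlgSp.RepWith @IsImmersion i.hom := by
    refine ⟨hZ.1.1, fun T W g pr w sq => ?_⟩
    haveI : IsClosedImmersion w.left := hZ.1.2 g pr w sq
    change IsImmersion w.left
    infer_instance
  have hinj : Function.Injective (AlgSp.Points.map i.hom) :=
    (Groth.Agent.S10191.result i himm).1.injective
  have fac' : h'.hom ≫ i.hom = h.hom := congrArg (fun m => m.hom) fac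
  have hsurj : AlgSp.IsSurjectiveMor h'.hom := by
    intro z
    obtain ⟨x, hx⟩ := hsub ⟨z, rfl⟩
    refine ⟨x, hinj ?_⟩
    rw [← AlgSp.Points.map_comp, fac', hx]
  have comm' : h' ≫ (i ≫ g) = f := by rw [← Category.assoc, fac, comm]
  haveI : Mono i.hom := Groth.Agent.S9928.mono_of_repWith @IsClosedImmersion
    (fun X Y g hg => by haveI : IsClosedImmersion g := hg; infer_instance) _ hZ.1
  refine ⟨⟨?_, ⟨?_, ?_⟩, ?_⟩, hsurj⟩
  · exact Groth.Agent.Lib.Helper12.Proper.isSeparatedMor_comp i.hom g.hom
      (Groth.Agent.Lib.Helper12.Proper.isSeparatedMor_of_mono i.hom) hg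
  · exact Groth.Agent.Lib.Helper12.Proper.locP_lft_comp Y.property B.property i.hom g.hom
      (Groth.Agent.Lib.Helper12.Proper.locP_lft_of_isClosedImmersion Y.property i.hom hZ.1) hg'
  · exact Groth.Agent.S9915.result h' f (i ≫ g) comm' hsurj hf.2.1.2
  · exact Groth.Agent.S10279.result h' f (i ≫ g) comm' hf.2.2 hsurj

end Groth.Agent.S10281
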