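import Groth.Statements.S10282
import Mathlib
import Groth.Agent.Lib.H5bValSec
import Groth.Agent.Lib.H5bDvrUC

set_option autoImplicit false
set_option linter.style.haveILetI false
universe u
open CategoryTheory CategoryTheory.Limits AlgebraicGeometry
open AlgSp

namespace Groth.Agent.S10282

open AlgSp

variable {S : Scheme.{u}}

/-- for a representable morphism, a lift after a dominating extension gives a lift. -/
theorem hasLift_of_hasLiftExt_of_representable {F G : AlgSp.Sp S} {f : F ⟶ G}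
    (hf : AlgSp.Representable f) (sq : AlgSp.ValSq f) (h : sq.HasLiftExt) : sq.HasLift := by
  obtain ⟨e, l', hl1, hl2⟩ := h
  obtain ⟨T, t, fst, sqP⟩ := hf sq.bot
  have hΨw : Spec.map (CommRingCat.ofHom e.ψ) ≫ sq.ptK.hom = e.ptK'.hom := by
    change Spec.map _ ≫ Spec.map _ ≫ _ = Spec.map _ ≫ Spec.map _ ≫ _
    rw [← Spec.map_comp_assoc, ← Spec.map_comp_assoc, ← CommRingCat.ofHom_comp,
      ← CommRingCat.ofHom_comp, e.comm]
  let Ψ : e.ptK' ⟶ sq.ptK := Over.homMk (Spec.map (CommRingCat.ofHom e.ψ)) hΨw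
  let φ' : e.ptA' ⟶ sq.ptA := Over.homMk (Spec.map (CommRingCat.ofHom e.φ)) rfl
  let kk : e.ptK' ⟶ e.ptA' := Over.homMk (Spec.map (CommRingCat.ofHom (algebraMap e.A' e.K'))) rfl
  have hkφ : kk ≫ φ' = Ψ ≫ sq.j := by
    apply Over.OverMorphism.ext
    show Spec.map (CommRingCat.ofHom (algebraMap e.A' e.K')) ≫ Spec.map (CommRingCat.ofHom e.φ) =
      Spec.map (CommRingCat.ofHom e.ψ) ≫
        Spec.map (CommRingCat.ofHom (algebraMap sq.A sq.K))
    rw [← Spec.map_comp, ← Spec.map_comp, ← CommRingCat.ofHom_comp, ← CommRingCat.ofHom_comp, e.comm]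
  have hl1' : (AlgSp.yon S).map kk ≫ l' = (AlgSp.yon S).map Ψ ≫ sq.top := hl1
  have hl2' : l' ≫ f = (AlgSp.yon S).map φ' ≫ sq.bot := hl2
  obtain ⟨aK, haK⟩ := (AlgSp.yon S).map_surjective (sqP.lift sq.top ((AlgSp.yon S).map sq.j) sq.comm)
  obtain ⟨a', ha'⟩ := (AlgSp.yon S).map_surjective (sqP.lift l' ((AlgSp.yon S).map φ') hl2')
  have haK2 : aK ≫ t = sq.j :=
    (AlgSp.yon S).map_injective (by rw [Functor.map_comp, haK, sqP.lift_snd])
  have ha'2 : a' ≫ t = φ' :=
    (AlgSp.yon S).map_injective (by rw [Functor.map_comp, ha', sqP.lift_snd])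
  have h3 : kk ≫ a' = Ψ ≫ aK := by
    apply (AlgSp.yon S).map_injective
    apply sqP.hom_ext
    · rw [Functor.map_comp, Functor.map_comp, Category.assoc, Category.assoc, ha', haK,
        sqP.lift_fst, sqP.lift_fst, hl1']
    · rw [Functor.map_comp, Functor.map_comp, Category.assoc, Category.assoc, ha', haK,
        sqP.lift_snd, sqP.lift_snd, ← Functor.map_comp, ← Functor.map_comp, hkφ]
  haveI : IsLocalHom e.φ := e.isLocalHom
  obtain ⟨σ, hσ1, hσ2⟩ := Groth.Agent.Lib.H5bValSec.exists_section e.φ e.ψ e.comm t.left aK.left a'.left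
    (congrArg (fun m => m.left) haK2) (congrArg (fun m => m.left) h3)
  have hσw : σ ≫ T.hom = sq.ptA.hom := by
    have : T.hom = t.left ≫ sq.ptA.hom := (Over.w t).symm
    rw [this, ← Category.assoc, hσ1, Category.id_comp]
  let σ' : sq.ptA ⟶ T := Over.homMk σ hσw
  have hσ't : σ' ≫ t = 𝟙 _ := Over.OverMorphism.ext hσ1
  have hjσ' : sq.j ≫ σ' = aK := Over.OverMorphism.ext hσ2
  refine ⟨(AlgSp.yon S).map σ' ≫ fst, ?_, ?_⟩
  · rw [← Category.assoc, ← Functor.map_comp, hjσ', haK, sqP.lift_fst]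
  · rw [Category.assoc, sqP.w, ← Category.assoc, ← Functor.map_comp, hσ't]
    erw [(AlgSp.yon S).map_id, Category.id_comp]

/-- For a representable morphism of algebraic spaces the existence part of the valuative criterion with
extensions allowed is equivalent to the one without extensions. -/
theorem result {S : Scheme.{u}} {X Y : AlgSp.Space S} (f : X ⟶ Y)
    (hf : AlgSp.Representable f.hom) : AlgSp.ExistVC f.hom ↔ AlgSp.ExistVCStrict f.hom := by
  constructor
  · intro h sq
    exact hasLift_of_hasLiftExt_of_representable hf sq (h sq)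
  · intro h sq
    exact Groth.Agent.Lib.H5bDvrUC.hasLiftExt_of_hasLift sq (h sq)

end Groth.Agent.S10282
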