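import Groth.Statements.S10283
import Mathlib
import Groth.Agent.Lib.H5bVCCore

set_option autoImplicit false
set_option linter.style.haveILetI false
universe u
open CategoryTheory CategoryTheory.Limits AlgebraicGeometry
open AlgSp

namespace Groth.Agent.S10283

open Groth.Agent.Lib.H5bUCAff Groth.Agent.Lib.H5bDvrLift Groth.Agent.Lib.H5bDvrExt IsLocalRing
open Groth.Agent.Lib.H5bVCCore

/-- In the existence part of the valuative criterion for a morphism of algebraic spaces one may restrict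
to finite separable extensions of the fraction field. -/
theorem result {S : Scheme.{u}} {X Y : AlgSp.Space S} (f : X ⟶ Y)
    (hf : AlgSp.ExistVC f.hom) (sq : AlgSp.ValSq f.hom) :
    ∃ e : sq.DomExt, (letI := e.ψ.toAlgebra; Module.Finite sq.K e.K' ∧ Algebra.IsSeparable sq.K e.K') ∧
      e.HasLift := by
  obtain ⟨e', l', hl1, hl2⟩ := hf sq
  haveI : IsLocalHom e'.φ := e'.isLocalHom
  have sqP := IsPullback.of_hasPullback f.hom sq.bot
  have hP : AlgSp.IsAlgSpace (pullback f.hom sq.bot) :=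
    Groth.Agent.S9874.isAlgSpace_of_isPullback Y.property.diag X.property
      (AlgSp.IsAlgSpace.yon_obj _) sqP
  obtain ⟨s, hs1, hs2⟩ : ∃ s : (AlgSp.yon S).obj sq.ptK ⟶ pullback f.hom sq.bot,
      s ≫ pullback.fst f.hom sq.bot = sq.top ∧
        s ≫ pullback.snd f.hom sq.bot = (AlgSp.yon S).map sq.j :=
    ⟨pullback.lift sq.top ((AlgSp.yon S).map sq.j) sq.comm, pullback.lift_fst _ _ _,
      pullback.lift_snd _ _ _⟩
  have hΨw : Spec.map (CommRingCat.ofHom e'.ψ) ≫ sq.ptK.hom = e'.ptK'.hom := by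
    change Spec.map _ ≫ Spec.map _ ≫ _ = Spec.map _ ≫ Spec.map _ ≫ _
    rw [← Spec.map_comp_assoc, ← Spec.map_comp_assoc, ← CommRingCat.ofHom_comp,
      ← CommRingCat.ofHom_comp, e'.comm]
  let Ψ : e'.ptK' ⟶ sq.ptK := Over.homMk (Spec.map (CommRingCat.ofHom e'.ψ)) hΨw
  let φ' : e'.ptA' ⟶ sq.ptA := Over.homMk (Spec.map (CommRingCat.ofHom e'.φ)) rfl
  let kk : e'.ptK' ⟶ e'.ptA' :=
    Over.homMk (Spec.map (CommRingCat.ofHom (algebraMap e'.A' e'.K'))) rfl
  have hl1' : (AlgSp.yon S).map kk ≫ l' = (AlgSp.yon S).map Ψ ≫ sq.top := hl1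
  have hl2' : l' ≫ f.hom = (AlgSp.yon S).map φ' ≫ sq.bot := hl2
  obtain ⟨lP, hlP1, hlP2⟩ : ∃ lP : (AlgSp.yon S).obj e'.ptA' ⟶ pullback f.hom sq.bot,
      lP ≫ pullback.fst f.hom sq.bot = l' ∧
        lP ≫ pullback.snd f.hom sq.bot = (AlgSp.yon S).map φ' :=
    ⟨pullback.lift l' ((AlgSp.yon S).map φ') hl2', pullback.lift_fst _ _ _,
      pullback.lift_snd _ _ _⟩
  have hkφ : kk ≫ φ' = Ψ ≫ sq.j := by
    apply Over.OverMorphism.ext
    show Spec.map (CommRingCat.ofHom (algebraMap e'.A' e'.K')) ≫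
        Spec.map (CommRingCat.ofHom e'.φ) =
      Spec.map (CommRingCat.ofHom e'.ψ) ≫ Spec.map (CommRingCat.ofHom (algebraMap sq.A sq.K))
    rw [← Spec.map_comp, ← Spec.map_comp, ← CommRingCat.ofHom_comp, ← CommRingCat.ofHom_comp]
    exact congrArg (fun r => Spec.map (CommRingCat.ofHom r)) e'.comm
  have hm : (AlgSp.yon S).map kk ≫ lP = (AlgSp.yon S).map Ψ ≫ s := by
    apply pullback.hom_ext
    · rw [Category.assoc, hlP1, hl1', Category.assoc, hs1]
    · rw [Category.assoc, hlP2, Category.assoc, hs2, ← Functor.map_comp, ← Functor.map_comp, hkφ]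
  -- chart at the image of the closed point
  obtain ⟨W₀, q₀, w'₀, hW₀, hq₀e, hw'₀⟩ :=
    exists_affine_chart_at hP (AlgSp.Points.ofPt lP (closedPoint e'.A'))
  obtain ⟨T', t, r', sqT⟩ := hq₀e.1 lP
  obtain ⟨r, rfl⟩ := (AlgSp.yon S).map_surjective r'
  haveI : Etale t.left := hq₀e.2 _ _ t sqT
  obtain ⟨t', ht'1, ht'2⟩ := Groth.Agent.S10176.exists_point_of_isPullback_yon sqT w'₀
    (closedPoint e'.A') hw'₀
  have hgen : kk.left (closedPoint e'.K') ⤳ t.left t' := by
    rw [ht'2]; exact specializes_closedPoint _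
  obtain ⟨t₁, ht₁, ht₁η⟩ := (Flat.generalizingMap t.left) hgen
  have hww' : r.left t₁ ⤳ w'₀ := by
    rw [← ht'1]; exact ht₁.map r.left.continuous
  have hw : AlgSp.Points.ofPt q₀ (r.left t₁) = AlgSp.Points.ofPt s (closedPoint sq.K) := by
    rw [← Groth.Agent.S10176.ofPt_map_comp r q₀, sqT.w, Groth.Agent.S10176.ofPt_map_comp t lP,
      ht₁η, ← Groth.Agent.S10176.ofPt_map_comp kk lP, hm, Groth.Agent.S10176.ofPt_map_comp Ψ s]
    congr 1
    exact Subsingleton.elim (α := PrimeSpectrum sq.K) _ _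
  have hx'c : AlgSp.Points.map (pullback.snd f.hom sq.bot) (AlgSp.Points.ofPt q₀ w'₀) =
      AlgSp.Points.schemeHomeo (Over.mk sq.str) (closedPoint sq.A) := by
    rw [hw'₀, AlgSp.Points.map_ofPt, hlP2, ofPt_yon_map]
    congr 1
    exact comap_closedPoint e'.φ
  exact exists_domExt_of_generization f sq q₀ hq₀e s hs1 hs2 _ w'₀ hww' hw hx'c

end Groth.Agent.S10283
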