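import Groth.Statements.S10293
import Mathlib
import Groth.Agent.Lib.H5bSpDescD
import Groth.Agent.Lib.H5bDDGenK
import Groth.Agent.Lib.H5bFppfLocal
import Groth.Agent.Lib.Helper12Descent
import Groth.Agent.Lib.Helper12Torsor
import Groth.Agent.S9883

set_option autoImplicit false
set_option linter.style.haveILetI false
universe u
open CategoryTheory CategoryTheory.Limits AlgebraicGeometry
open AlgSp

namespace Groth.Agent.S10293

lemma finLocFree_eq : (AlgSp.finLocFree.{u}) =
    (@IsFinite ⊓ (@Flat ⊓ @LocallyOfFinitePresentation) : MorphismProperty Scheme.{u}) := by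
  ext X Y f
  exact Iff.rfl

lemma isLocalAtTarget_finLocFree :
    MorphismProperty.IsLocalAtTarget (AlgSp.finLocFree.{u}) Scheme.fppfPrecoverage := by
  haveI := Groth.Agent.Lib.Helper12.descendsAlong_isFinite.{u}
  haveI : MorphismProperty.IsLocalAtTarget (@IsFinite : MorphismProperty Scheme.{u})
      Scheme.fppfPrecoverage := Groth.Agent.Lib.H5bFppfLocal.isLocalAtTarget_fppf _
  haveI := Groth.Agent.Lib.Helper12.descendsAlong_flat.{u}
  haveI : MorphismProperty.IsLocalAtTarget (@Flat : MorphismProperty Scheme.{u})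
      Scheme.fppfPrecoverage := Groth.Agent.Lib.H5bFppfLocal.isLocalAtTarget_fppf _
  rw [finLocFree_eq]
  infer_instance

lemma aux {S : Scheme.{u}} (P : MorphismProperty Scheme.{u}) [P.IsStableUnderBaseChange]
    [P.IsLocalAtTarget Scheme.fppfPrecoverage]
    (hle : ∀ {A B : Scheme.{u}} (g : A ⟶ B), P g → IsAffineHom g)
    {X Y : AlgSp.Space S} (f : X ⟶ Y)
    (V : Over S) (p : (AlgSp.yon S).obj V ⟶ Y.obj) (hp : AlgSp.RepWith @Etale p)
    (hps : AlgSp.RepWith @Surjective p)
    {P₀ : AlgSp.Sp S} (fst : P₀ ⟶ X.obj) (snd : P₀ ⟶ (AlgSp.yon S).obj V)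
    (sq : IsPullback fst snd f.hom p)
    (h : AlgSp.RepWith P snd) : AlgSp.RepWith P f.hom := by
  obtain ⟨V₀, g, fst₀, sq₀⟩ := h.1 (𝟙 ((AlgSp.yon S).obj V))
  have hg : P g.left := h.2 _ fst₀ g sq₀
  have sq₁ : IsPullback (fst₀ ≫ fst) ((AlgSp.yon S).map g) f.hom p := by
    have := sq₀.paste_horiz sq
    rwa [Category.id_comp] at this
  have hrep : AlgSp.Representable f.hom :=
    Groth.Agent.Lib.H5bSpDesc.representable_of_chart_of_effective P
      (fun X' S' p hs he D hD => by
        haveI := hs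
        haveI := he
        haveI : IsAffineHom D.obj.hom := hle _ hD
        exact Groth.Agent.Lib.H5bDDGen.effective_of_isAffineHom_fppf p D)
      f.hom p hp hps (fst₀ ≫ fst) g sq₁ hg
  exact Groth.Agent.S9883.repWith_of_chart f.hom hrep p hp hps (fst₀ ≫ fst) g sq₁ P hg

/-- (3) ⇒ (1): being finite locally free descends along a surjective etale base change from a scheme. -/
theorem result {S : Scheme.{u}} {X Y : AlgSp.Space S} (f : X ⟶ Y) (V : Over S)
    (p : (AlgSp.yon S).obj V ⟶ Y.obj) (hp : AlgSp.RepWith @Etale p) (hps : AlgSp.RepWith @Surjective p)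
    {P : AlgSp.Sp S} (fst : P ⟶ X.obj) (snd : P ⟶ (AlgSp.yon S).obj V) (sq : IsPullback fst snd f.hom p)
    (h : AlgSp.IsFinLocFreeMor snd) : AlgSp.IsFinLocFreeMor f.hom := by
  haveI := isLocalAtTarget_finLocFree.{u}
  exact aux AlgSp.finLocFree (fun g hg => by haveI : IsFinite g := hg.1; infer_instance)
    f V p hp hps fst snd sq h

end Groth.Agent.S10293
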