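import Groth.Statements.S10296
import Mathlib
import Groth.Agent.S10272
import Groth.Agent.S10267
import Groth.Agent.S9905

set_option autoImplicit false
universe u
open CategoryTheory CategoryTheory.Limits AlgebraicGeometry
open AlgSp

namespace Groth.Agent.S10296

lemma isSeparatedMor_of_isIntegralMor {S : Scheme.{u}} {Z X : AlgSp.Space S} (π : Z ⟶ X)
    (hπ : AlgSp.IsIntegralMor π.hom) : AlgSp.IsSeparatedMor π.hom := by
  have hrep : AlgSp.RepWith @IsIntegralHom π.hom := (Groth.Agent.S10267.result π).1.1 hπ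
  refine (Groth.Agent.S9905.result π hrep.1).1.2 ⟨hrep.1, ?_⟩
  intro U V c fst snd sq
  haveI : IsIntegralHom snd.left := hrep.2 c fst snd sq
  change IsSeparated snd.left
  infer_instance

/-- The induced morphism from the normalization of X in Y to any integral Z -> X through which Y -> X
factors is the normalization of Z in Y. -/
theorem result {S : Scheme.{u}} {Y X X' Z : AlgSp.Space S} (f : Y ⟶ X)
    (hqc : AlgSp.IsQuasiCompactMor f.hom) (hqs : AlgSp.IsQuasiSeparatedMor f.hom) (ν : X' ⟶ X) (f' : Y ⟶ X')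
    (hn : AlgSp.IsRelNormalization f.hom ν.hom f'.hom) (π : Z ⟶ X) (hπ : AlgSp.IsIntegralMor π.hom) (g : Y ⟶ Z)
    (hg : g ≫ π = f) (h : X' ⟶ Z) (h1 : f' ≫ h = g) (h2 : h ≫ π = ν) :
    AlgSp.IsRelNormalization g.hom h.hom f'.hom := by
  have hsep : AlgSp.IsSeparatedMor π.hom := isSeparatedMor_of_isIntegralMor π hπ
  have e1 : f'.hom ≫ h.hom = g.hom := congrArg (·.hom) h1
  have e2 : h.hom ≫ π.hom = ν.hom := congrArg (·.hom) h2
  have eg : g.hom ≫ π.hom = f.hom := congrArg (·.hom) hg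
  refine ⟨e1, ?_, ?_⟩
  · refine (Groth.Agent.S10272.result h π hsep).2 ?_
    rw [h2]
    exact hn.2.1
  · intro Z' hZ' π' g' hπ' hg'
    have hint : AlgSp.IsIntegralMor (π' ≫ π.hom) :=
      Groth.Agent.S10272.affTest_comp @IsIntegralHom π' π.hom hπ' hπ
    have hcomp : g' ≫ (π' ≫ π.hom) = f.hom := by
      rw [← Category.assoc, hg', eg]
    obtain ⟨h', ⟨hh1, hh2⟩, huniq⟩ := hn.2.2 hZ' (π' ≫ π.hom) g' hint hcomp
    obtain ⟨h0, _, huniq0⟩ := hn.2.2 Z.property π.hom g.hom hπ eg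
    have a1 : h' ≫ π' = h0 := huniq0 _ ⟨by rw [← Category.assoc, hh1, hg'],
      by rw [Category.assoc, hh2]⟩
    have a2 : h.hom = h0 := huniq0 _ ⟨e1, e2⟩
    refine ⟨h', ⟨hh1, a1.trans a2.symm⟩, ?_⟩
    intro h'' hh''
    refine huniq h'' ⟨hh''.1, ?_⟩
    rw [← Category.assoc, hh''.2, e2]

end Groth.Agent.S10296
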