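import Groth.Statements.S10298
import Mathlib
import Groth.Agent.S10267

set_option autoImplicit false
universe u
open CategoryTheory CategoryTheory.Limits AlgebraicGeometry
open AlgSp

namespace Groth.Agent.S10298

open AlgSp in
/-- an integral morphism from an algebraic space to `h_U` is `h_i` for `i` integral. -/
lemma exists_iso_of_isIntegralMor {S : Scheme.{u}} {U : Over S} {Z : AlgSp.Sp S}
    (hZ : AlgSp.IsAlgSpace Z) (π : Z ⟶ (AlgSp.yon S).obj U) (hπ : AlgSp.IsIntegralMor π) :
    ∃ (W : Over S) (i : W ⟶ U) (θ : (AlgSp.yon S).obj W ⟶ Z), IsIso θ ∧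
      θ ≫ π = (AlgSp.yon S).map i ∧ IsIntegralHom i.left := by
  let Z' : AlgSp.Space S := ⟨Z, hZ⟩
  let U' : AlgSp.Space S := ⟨(AlgSp.yon S).obj U, AlgSp.IsAlgSpace.yon_obj U⟩
  let π' : Z' ⟶ U' := ObjectProperty.homMk π
  have hrep : AlgSp.RepWith @IsIntegralHom π := (Groth.Agent.S10267.result π').1.1 hπ
  obtain ⟨W, i, θ, sq⟩ := hrep.1 (𝟙 ((AlgSp.yon S).obj U))
  have hiso : IsIso θ := sq.flip.isIso_snd_of_isIso
  refine ⟨W, i, θ, hiso, ?_, hrep.2 _ _ _ sq⟩
  rw [sq.w, Category.comp_id]

/-- For a quasi-compact quasi-separated morphism of schemes, the relative normalization of schemes is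
the normalization in the sense of algebraic spaces. -/
theorem result {S : Scheme.{u}} {V U N : Over S} (g : V ⟶ U)
    [QuasiCompact g.left] [QuasiSeparated g.left] (f' : V ⟶ N) (ν : N ⟶ U)
    (e : N.left ≅ g.left.normalization) (he1 : f'.left ≫ e.hom = g.left.toNormalization)
    (he2 : e.hom ≫ g.left.fromNormalization = ν.left) :
    AlgSp.IsRelNormalization ((AlgSp.yon S).map g) ((AlgSp.yon S).map ν) ((AlgSp.yon S).map f') := by
  have hgl : g.left = g.left.toNormalization ≫ g.left.fromNormalization :=
    (Scheme.Hom.toNormalization_fromNormalization g.left).symm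
  have hfν : f' ≫ ν = g := by
    ext
    rw [Over.comp_left, ← he2, ← Category.assoc, he1, ← hgl]
  haveI hνint : IsIntegralHom ν.left := by
    rw [← he2]; infer_instance
  refine ⟨?_, ?_, ?_⟩
  · rw [← CategoryTheory.Functor.map_comp, hfν]
  · let N' : AlgSp.Space S := ⟨(AlgSp.yon S).obj N, AlgSp.IsAlgSpace.yon_obj N⟩
    let U' : AlgSp.Space S := ⟨(AlgSp.yon S).obj U, AlgSp.IsAlgSpace.yon_obj U⟩
    let ν' : N' ⟶ U' := ObjectProperty.homMk ((AlgSp.yon S).map ν)
    exact (Groth.Agent.S10267.result ν').1.2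
      ((AlgSp.repWith_yon_map_iff @IsIntegralHom ν).2 hνint)
  · intro Z hZ π g' hπ hg'
    obtain ⟨W, i, θ, hθ, hθπ, hi⟩ := exists_iso_of_isIntegralMor hZ π hπ
    haveI := hθ
    haveI := hi
    obtain ⟨k, hk⟩ := (AlgSp.yon S).map_surjective (g' ≫ inv θ)
    have hki : k ≫ i = g := by
      apply (AlgSp.yon S).map_injective
      rw [CategoryTheory.Functor.map_comp, hk, ← hθπ, Category.assoc, IsIso.inv_hom_id_assoc, hg']
    have hkil : g.left = k.left ≫ i.left := by rw [← Over.comp_left, hki]
    let d : g.left.normalization ⟶ W.left := g.left.normalizationDesc k.left i.left hkil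
    have hd1 : g.left.toNormalization ≫ d = k.left :=
      Scheme.Hom.toNormalization_normalizationDesc g.left k.left i.left hkil
    have hd2 : d ≫ i.left = g.left.fromNormalization :=
      Scheme.Hom.normalizationDesc_comp g.left k.left i.left hkil
    have hmw : (e.hom ≫ d) ≫ W.hom = N.hom := by
      rw [← Over.w i, Category.assoc, ← Category.assoc d, hd2, ← Category.assoc, he2, Over.w ν]
    let m : N ⟶ W := Over.homMk (e.hom ≫ d) hmw
    have hm1 : f' ≫ m = k := by
      ext
      rw [Over.comp_left]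
      change f'.left ≫ (e.hom ≫ d) = k.left
      rw [← Category.assoc, he1, hd1]
    have hm2 : m ≫ i = ν := by
      ext
      rw [Over.comp_left]
      change (e.hom ≫ d) ≫ i.left = ν.left
      rw [Category.assoc, hd2, he2]
    refine ⟨(AlgSp.yon S).map m ≫ θ, ⟨?_, ?_⟩, ?_⟩
    · rw [← Category.assoc, ← CategoryTheory.Functor.map_comp, hm1, hk, Category.assoc,
        IsIso.inv_hom_id, Category.comp_id]
    · rw [Category.assoc, hθπ, ← CategoryTheory.Functor.map_comp, hm2]
    · intro h'' hh''
      obtain ⟨m'', hm''⟩ := (AlgSp.yon S).map_surjective (h'' ≫ inv θ)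
      have hm''1 : f' ≫ m'' = k := by
        apply (AlgSp.yon S).map_injective
        rw [CategoryTheory.Functor.map_comp, hm'', hk, ← Category.assoc, hh''.1]
      have hm''2 : m'' ≫ i = ν := by
        apply (AlgSp.yon S).map_injective
        rw [CategoryTheory.Functor.map_comp, hm'', ← hθπ, Category.assoc, IsIso.inv_hom_id_assoc,
          hh''.2]
      have hm''1l : f'.left ≫ m''.left = k.left := by rw [← Over.comp_left, hm''1]
      have hm''2l : m''.left ≫ i.left = ν.left := by rw [← Over.comp_left, hm''2]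
      have key : e.inv ≫ m''.left = d := by
        refine Scheme.Hom.normalization.hom_ext g.left _ _ i.left ?_ ?_ hd2
        · rw [hd1, ← he1, Category.assoc, e.hom_inv_id_assoc, hm''1l]
        · rw [Category.assoc, hm''2l, ← he2, e.inv_hom_id_assoc]
      have hmm : m'' = m := by
        ext
        change m''.left = e.hom ≫ d
        rw [← key, e.hom_inv_id_assoc]
      rw [← hmm, hm'', Category.assoc, IsIso.inv_hom_id, Category.comp_id]

end Groth.Agent.S10298
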