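import Groth.Statements.S10302
import Mathlib
import Groth.Agent.Lib.H5bEtLocal

set_option autoImplicit false
universe u
open CategoryTheory CategoryTheory.Limits AlgebraicGeometry
open AlgSp

namespace Groth.Agent.S10302

/-- a flat morphism of schemes does not raise the dimension of the local ring of the base. -/
theorem ringKrullDim_stalk_le_of_flat {W V : Scheme.{u}} (g : W ⟶ V) [Flat g] (w : W) :
    ringKrullDim (V.presheaf.stalk (g w)) ≤ ringKrullDim (W.presheaf.stalk w) := by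
  have hflat : (g.stalkMap w).hom.Flat := AlgebraicGeometry.Flat.stalkMap g w
  algebraize [(g.stalkMap w).hom]
  have hloc : IsLocalHom (algebraMap (V.presheaf.stalk (g w)) (W.presheaf.stalk w)) :=
    inferInstanceAs <| IsLocalHom (g.stalkMap w).hom
  have h := Groth.Agent.Lib.Helper5.height_le_height_of_liesOver_of_hasGoingDown
    (IsLocalRing.maximalIdeal (V.presheaf.stalk (g w)))
    (IsLocalRing.maximalIdeal (W.presheaf.stalk w))
  rw [← IsLocalRing.maximalIdeal_height_eq_ringKrullDim,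
    ← IsLocalRing.maximalIdeal_height_eq_ringKrullDim]
  exact WithBot.coe_le_coe.mpr h

/-- A flat morphism of algebraic spaces maps points of codimension 0 to points of codimension 0. -/
theorem result {S : Scheme.{u}} {X Y : AlgSp.Space S} (f : X ⟶ Y) (hf : AlgSp.LocP @Flat f.hom)
    (x : AlgSp.Points X.obj) (hx : AlgSp.HasAt (fun U u => ringKrullDim ↥(U.presheaf.stalk u) = 0) X.obj x) :
    AlgSp.HasAt (fun U u => ringKrullDim ↥(U.presheaf.stalk u) = 0) Y.obj (AlgSp.Points.map f.hom x) := by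
  obtain ⟨U, a, u, ha, hu, hdim⟩ := hx
  obtain ⟨V, q, hq1, hq2⟩ := Y.property.atlas
  have sq := hq1.rep.isPullback' (a ≫ f.hom)
  have h1 : Etale (hq1.rep.snd (a ≫ f.hom)).left := hq1.property_snd (a ≫ f.hom)
  have h2 : Surjective (hq1.rep.snd (a ≫ f.hom)).left := hq2.2 (a ≫ f.hom) _ _ sq
  obtain ⟨w, hw⟩ := (hq1.rep.snd (a ≫ f.hom)).left.surjective u
  -- the chart of `X` given by `W`
  have ha' : AlgSp.RepWith @Etale ((AlgSp.yon S).map (hq1.rep.snd (a ≫ f.hom)) ≫ a) :=
    (AlgSp.RepWith @Etale).comp_mem _ _ ((AlgSp.repWith_yon_map_iff @Etale _).2 h1) ha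
  have hcomm : ((AlgSp.yon S).map (hq1.rep.snd (a ≫ f.hom)) ≫ a) ≫ f.hom =
      (AlgSp.yon S).map (hq1.rep.fst' (a ≫ f.hom)) ≫ q := by
    rw [Category.assoc]
    exact sq.w.symm
  have hfl : Flat (hq1.rep.fst' (a ≫ f.hom)).left := hf _ q _ ha' hq1 hcomm
  have hdimw : ringKrullDim ↥((hq1.rep.pullback (a ≫ f.hom)).left.presheaf.stalk w) = 0 := by
    rw [Groth.Agent.Lib.H5bEtLocal.ringKrullDim_stalk_eq_of_etale
      (hq1.rep.snd (a ≫ f.hom)).left w, hw]
    exact hdim
  refine ⟨V, q, (hq1.rep.fst' (a ≫ f.hom)).left w, hq1, ?_, ?_⟩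
  · rw [← Groth.Agent.S10176.ofPt_map_comp, ← hcomm, ← AlgSp.Points.map_ofPt,
      Groth.Agent.S10176.ofPt_map_comp, hw, hu]
  · apply le_antisymm
    · have := ringKrullDim_stalk_le_of_flat (hq1.rep.fst' (a ≫ f.hom)).left w
      rw [hdimw] at this
      exact this
    · exact ringKrullDim_nonneg_of_nontrivial

end Groth.Agent.S10302
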