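import Groth.Statements.S10303
import Mathlib
import Groth.Agent.Lib.H5bFinComp
import Groth.Agent.Lib.H5bLqfDim
import Groth.Agent.S10177

set_option autoImplicit false
universe u
open CategoryTheory CategoryTheory.Limits AlgebraicGeometry
open AlgSp

namespace Groth.Agent.S10303

/-- If Y has an etale surjective chart whose quasi-compact opens have finitely many irreducible
components and f : X -> Y is flat and locally of finite type, then X has such a chart too. -/
theorem result {S : Scheme.{u}} {X Y : AlgSp.Space S} (f : X ⟶ Y)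
    (hf : AlgSp.LocP @Flat f.hom) (hf' : AlgSp.LocP @LocallyOfFiniteType f.hom)
    (hY : AlgSp.EtaleLocally (fun U => ∀ W : U.Opens, IsCompact (W : Set ↥U) → (irreducibleComponents ↥W).Finite) Y.obj) :
    AlgSp.EtaleLocally (fun U => ∀ W : U.Opens, IsCompact (W : Set ↥U) → (irreducibleComponents ↥W).Finite) X.obj := by
  obtain ⟨V, b, hb, hbs, hV⟩ := hY
  obtain ⟨U₀, p, hp, hps⟩ := X.property.atlas
  obtain ⟨W, pr, h, hpr, hw, hpt⟩ :=
    Groth.Agent.Lib.H5bLqfDim.exists_chartPullback f.hom p b hb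
  have hsurj : Surjective pr.left := by
    refine ⟨fun u => ?_⟩
    obtain ⟨v, hv⟩ := Groth.Agent.S10177.surjective_ofPt b hbs (AlgSp.Points.ofPt (p ≫ f.hom) u)
    obtain ⟨w, hw1, -⟩ := hpt u v hv.symm
    exact ⟨w, hw1⟩
  have hae : AlgSp.RepWith @Etale ((AlgSp.yon S).map pr ≫ p) :=
    (AlgSp.RepWith @Etale).comp_mem _ _ ((AlgSp.repWith_yon_map_iff @Etale pr).2 hpr) hp
  have has : AlgSp.RepWith @Surjective ((AlgSp.yon S).map pr ≫ p) :=
    (AlgSp.RepWith @Surjective).comp_mem _ _
      ((AlgSp.repWith_yon_map_iff @Surjective pr).2 hsurj) hps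
  haveI : Flat h.left := hf _ b h hae hb hw
  haveI : LocallyOfFiniteType h.left := hf' _ b h hae hb hw
  refine ⟨W, (AlgSp.yon S).map pr ≫ p, hae, has, fun W' hW' => ?_⟩
  rw [Groth.Agent.Lib.H5bFinComp.finite_irreducibleComponents_opens_iff]
  refine Groth.Agent.Lib.H5bFinComp.finite_maxPts_inter_of_flat h.left (fun W'' hW'' => ?_) W' hW'
  rw [← Groth.Agent.Lib.H5bFinComp.finite_irreducibleComponents_opens_iff]
  exact hV W'' hW''

end Groth.Agent.S10303
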