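import Groth.Statements.S10304
import Mathlib
import Groth.Agent.Lib.H5bFinComp2
import Groth.Agent.Lib.H5bFieldSp
import Groth.Agent.Lib.H5bEtLocal
import Groth.Agent.S10177

set_option autoImplicit false
universe u
open CategoryTheory CategoryTheory.Limits AlgebraicGeometry
open AlgSp

namespace Groth.Agent.S10304

open Groth.Agent.Lib.H5bFinComp

/-- the open subscheme `W` of a chart `U` of `X` as an algebraic space étale over `X`. -/
lemma opens_chart {S : Scheme.{u}} (X : AlgSp.Space S) {U : Over S}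
    (a : (AlgSp.yon S).obj U ⟶ X.obj) (ha : AlgSp.RepWith @Etale a) (W : U.left.Opens)
    (hW : IsCompact (W : Set ↥U.left)) :
    ∃ (Y : AlgSp.Space S) (g : Y ⟶ X), AlgSp.IsEtaleMor g.hom ∧ AlgSp.IsQuasiCompactSp Y.obj ∧
      Y.obj = (AlgSp.yon S).obj (Over.mk (W.ι ≫ U.hom)) := by
  let W' : Over S := Over.mk (W.ι ≫ U.hom)
  let j : W' ⟶ U := Over.homMk W.ι rfl
  refine ⟨⟨(AlgSp.yon S).obj W', AlgSp.IsAlgSpace.yon_obj W'⟩,
    ObjectProperty.homMk ((AlgSp.yon S).map j ≫ a), ?_, ?_, rfl⟩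
  · intro T φ hφ
    obtain ⟨φ', rfl⟩ := (AlgSp.yon S).map_surjective φ
    haveI : Etale φ'.left := (AlgSp.repWith_yon_map_iff @Etale φ').1 hφ
    show AlgSp.RepWith @Etale ((AlgSp.yon S).map φ' ≫ (AlgSp.yon S).map j ≫ a)
    rw [← Category.assoc, ← Functor.map_comp]
    refine (AlgSp.RepWith @Etale).comp_mem _ _ ((AlgSp.repWith_yon_map_iff @Etale (φ' ≫ j)).2 ?_) ha
    show Etale (φ'.left ≫ W.ι)
    infer_instance
  · exact ⟨W', 𝟙 _, AlgSp.repWith_id _ _, AlgSp.repWith_id _ _,
      isCompact_iff_compactSpace.mp hW⟩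

/-- Equivalent forms of the condition that the schemes etale over X have locally finitely many
irreducible components: one etale surjective chart, every etale chart, finiteness of codimension-0
points of quasi-compact spaces etale over X, finiteness of irreducible components of such spaces. -/
theorem result {S : Scheme.{u}} (X : AlgSp.Space S) :
    (AlgSp.EtaleLocally (fun U => ∀ W : U.Opens, IsCompact (W : Set ↥U) → (irreducibleComponents ↥W).Finite) X.obj ↔
      ∀ (U : Over S) (a : (AlgSp.yon S).obj U ⟶ X.obj), AlgSp.RepWith @Etale a →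
        ∀ W : U.left.Opens, IsCompact (W : Set ↥U.left) → (irreducibleComponents ↥W).Finite) ∧
    (AlgSp.EtaleLocally (fun U => ∀ W : U.Opens, IsCompact (W : Set ↥U) → (irreducibleComponents ↥W).Finite) X.obj ↔
      ∀ (Y : AlgSp.Space S) (g : Y ⟶ X), AlgSp.IsEtaleMor g.hom → AlgSp.IsQuasiCompactSp Y.obj →
        {y : AlgSp.Points Y.obj |
          AlgSp.HasAt (fun U u => ringKrullDim ↥(U.presheaf.stalk u) = 0) Y.obj y}.Finite) ∧
    (AlgSp.EtaleLocally (fun U => ∀ W : U.Opens, IsCompact (W : Set ↥U) → (irreducibleComponents ↥W).Finite) X.obj ↔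
      ∀ (Y : AlgSp.Space S) (g : Y ⟶ X), AlgSp.IsEtaleMor g.hom → AlgSp.IsQuasiCompactSp Y.obj →
        (irreducibleComponents (AlgSp.Points Y.obj)).Finite) := by
  classical
  -- étale invariance of codimension zero
  have hQ0 : ∀ {W U : Scheme.{u}} (g : W ⟶ U) [Etale g] (w : W),
      (fun (U : Scheme.{u}) (u : ↥U) => ringKrullDim ↥(U.presheaf.stalk u) = 0) W w ↔
      (fun (U : Scheme.{u}) (u : ↥U) => ringKrullDim ↥(U.presheaf.stalk u) = 0) U (g w) := by
    intro W U g _ w
    show ringKrullDim _ = 0 ↔ ringKrullDim _ = 0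
    rw [Groth.Agent.Lib.H5bEtLocal.ringKrullDim_stalk_eq_of_etale g w]
  have hEA : (AlgSp.EtaleLocally (fun U => ∀ W : U.Opens, IsCompact (W : Set ↥U) →
      (irreducibleComponents ↥W).Finite) X.obj ↔
      ∀ (U : Over S) (a : (AlgSp.yon S).obj U ⟶ X.obj), AlgSp.RepWith @Etale a →
        ∀ W : U.left.Opens, IsCompact (W : Set ↥U.left) → (irreducibleComponents ↥W).Finite) := by
    constructor
    · rintro ⟨U₀, a₀, ha₀, ha₀s, h₀⟩ U a ha
      exact (pm_iff _).1 (pm_of_charts a₀ a ha₀ ha₀s ha ((pm_iff _).2 h₀))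
    · intro hA
      obtain ⟨U₀, p, hp, hps⟩ := X.property.atlas
      exact ⟨U₀, p, hp, hps, hA U₀ p hp⟩
  -- a quasi-compact space étale over `X` has a chart with finitely many maximal points
  have hchart : (∀ (U : Over S) (a : (AlgSp.yon S).obj U ⟶ X.obj), AlgSp.RepWith @Etale a →
        ∀ W : U.left.Opens, IsCompact (W : Set ↥U.left) → (irreducibleComponents ↥W).Finite) →
      ∀ (Y : AlgSp.Space S) (g : Y ⟶ X), AlgSp.IsEtaleMor g.hom → AlgSp.IsQuasiCompactSp Y.obj →
      ∃ (V : Over S) (c : (AlgSp.yon S).obj V ⟶ Y.obj), AlgSp.RepWith @Etale c ∧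
        AlgSp.RepWith @Surjective c ∧ (maxPts ↥V.left).Finite := by
    intro hA Y g hg hYq
    obtain ⟨V, c, hc, hcs, hVc⟩ := hYq
    haveI : CompactSpace ↥V.left := hVc
    have hVPm : Pm V.left := (pm_iff _).2 (hA V (c ≫ g.hom) (hg c hc))
    refine ⟨V, c, hc, hcs, ?_⟩
    have := hVPm ⊤ (by simpa using isCompact_univ)
    simpa using this
  -- from finiteness of the maximal points of opens of charts
  have hback : (∀ (U : Over S) (a : (AlgSp.yon S).obj U ⟶ X.obj), AlgSp.RepWith @Etale a →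
      ∀ W : U.left.Opens, IsCompact (W : Set ↥U.left) →
        (maxPts ↥((W : U.left.Opens) : Scheme.{u})).Finite) →
      ∀ (U : Over S) (a : (AlgSp.yon S).obj U ⟶ X.obj), AlgSp.RepWith @Etale a →
        ∀ W : U.left.Opens, IsCompact (W : Set ↥U.left) → (irreducibleComponents ↥W).Finite := by
    intro H U a ha W hW
    rw [finite_irreducibleComponents_opens_iff, maxPts_inter_opens]
    exact (H U a ha W hW).image _
  refine ⟨hEA, hEA.trans ⟨fun hA Y g hg hYq => ?_, fun hB => hback fun U a ha W hW => ?_⟩,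
    hEA.trans ⟨fun hA Y g hg hYq => ?_, fun hC => hback fun U a ha W hW => ?_⟩⟩
  · -- codimension zero points
    obtain ⟨V, c, hc, hcs, hfin⟩ := hchart hA Y g hg hYq
    refine (hfin.image (AlgSp.Points.ofPt c)).subset ?_
    intro y hy
    obtain ⟨v, hv⟩ := Groth.Agent.S10177.surjective_ofPt c hcs y
    refine ⟨v, ?_, hv⟩
    exact (Groth.Agent.Lib.H5bFieldSp.stalk_dim_zero_iff v).1
      ((Groth.Agent.Lib.H5bEtLocal.hasAt_iff_forall _ hQ0 Y.property y).1 hy V c v hc hv)
  · obtain ⟨Y, g, hg, hq, hY⟩ := opens_chart X a ha W hW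
    have h1 := hB Y g hg hq
    obtain ⟨Yo, hYp⟩ := Y
    simp only at hY
    subst hY
    refine Set.Finite.of_injOn (f := AlgSp.Points.ofScheme (Over.mk (W.ι ≫ U.hom))) ?_ ?_ h1
    · intro w hw
      exact ⟨Over.mk (W.ι ≫ U.hom), 𝟙 _, w, AlgSp.repWith_id _ _, rfl,
        (Groth.Agent.Lib.H5bFieldSp.stalk_dim_zero_iff w).2 hw⟩
    · intro w _ w' _ hww'
      have := congrArg (AlgSp.Points.toScheme (Over.mk (W.ι ≫ U.hom))) hww'
      simpa using this
  · -- irreducible components of `|Y|`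
    obtain ⟨V, c, hc, hcs, hfin⟩ := hchart hA Y g hg hYq
    refine (hfin.image (fun v => closure ({AlgSp.Points.ofPt c v} : Set (AlgSp.Points Y.obj)))).subset ?_
    intro Z hZ
    have hcover : Z ⊆ ⋃₀ ↑(hfin.toFinset.image
        (fun v => closure ({AlgSp.Points.ofPt c v} : Set (AlgSp.Points Y.obj)))) := by
      intro z _
      obtain ⟨v, rfl⟩ := Groth.Agent.S10177.surjective_ofPt c hcs z
      obtain ⟨v', hsp, hmax⟩ := Groth.Agent.Lib.H5bCodimOne.exists_maximal_generization v
      refine Set.mem_sUnion.mpr ⟨closure {AlgSp.Points.ofPt c v'}, ?_, ?_⟩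
      · simp only [Finset.coe_image, Set.Finite.coe_toFinset]
        exact ⟨v', hmax, rfl⟩
      · exact (hsp.map (AlgSp.Points.continuous_ofPt c)).mem_closure
    obtain ⟨z, hz, hZz⟩ := isIrreducible_iff_sUnion_isClosed.mp hZ.1 _ (by
      intro z hz
      simp only [Finset.mem_image, Set.Finite.mem_toFinset] at hz
      obtain ⟨v, -, rfl⟩ := hz
      exact isClosed_closure) hcover
    simp only [Finset.mem_image, Set.Finite.mem_toFinset] at hz
    obtain ⟨v, hv, rfl⟩ := hz
    refine ⟨v, hv, ?_⟩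
    exact Set.Subset.antisymm (hZ.2 isIrreducible_singleton.closure hZz) hZz
  · obtain ⟨Y, g, hg, hq, hY⟩ := opens_chart X a ha W hW
    have h1 := hC Y g hg hq
    obtain ⟨Yo, hYp⟩ := Y
    simp only at hY
    subst hY
    let e := AlgSp.Points.schemeHomeo (Over.mk (W.ι ≫ U.hom))
    have eqv := irreducibleComponentsEquivOfIsPreirreducibleFiber e e.continuous e.isOpenMap
      (fun x => (Set.subsingleton_singleton.preimage e.injective).isPreirreducible) e.surjective
    haveI : Finite ↥(irreducibleComponents (AlgSp.Points ((AlgSp.yon S).obj (Over.mk (W.ι ≫ U.hom))))) :=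
      Set.finite_coe_iff.mpr h1
    have h2 : (irreducibleComponents ↥((W : U.left.Opens) : Scheme.{u})).Finite :=
      Set.finite_coe_iff.mp (Finite.of_equiv _ eqv.toEquiv)
    exact (finite_irreducibleComponents_iff _).1 h2

end Groth.Agent.S10304
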