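import Groth.Statements.S10307
import Groth.Agent.Lib.Helper8SpUnivInjPush

set_option autoImplicit false
universe u
open CategoryTheory CategoryTheory.Limits AlgebraicGeometry
open AlgSp

namespace Groth.Agent.S10307

/-- For an integral universally injective morphism f of algebraic spaces, f_* on small etale sites is
fully faithful on sheaves of sets and on abelian sheaves, and the counit from the pullback of the
pushforward to the identity is an isomorphism. (The description of the essential image is not
included here.) -/
theorem result {S : Scheme.{u}} {Y X : AlgSp.Space S} (f : Y ⟶ X)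
    (hi : AlgSp.RepWith @IsIntegralHom f.hom) (hu : AlgSp.IsUnivInjectiveMor f.hom) :
    ((AlgSp.pushEt hi.1 (Type (u + 1))).Full ∧ (AlgSp.pushEt hi.1 (Type (u + 1))).Faithful) ∧
    ((AlgSp.pushEt hi.1 AddCommGrpCat.{u + 1}).Full ∧ (AlgSp.pushEt hi.1 AddCommGrpCat.{u + 1}).Faithful) ∧
    IsIso (AlgSp.pullPushAdjEt hi.1 (Type (u + 1))).counit := by
  have H : Groth.Agent.Lib.Helper8SpUnivInjPush.IntInj hi.1 :=
    Groth.Agent.Lib.Helper8SpUnivInjPush.intInj_of_integral_univInj hi hu
  exact ⟨⟨Groth.Agent.Lib.Helper8SpUnivInjPush.full_pushEt _ X.property H,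
      Groth.Agent.Lib.Helper8SpUnivInjPush.faithful_pushEt _ X.property H⟩,
    ⟨Groth.Agent.Lib.Helper8SpUnivInjPush.full_pushEt _ X.property H,
      Groth.Agent.Lib.Helper8SpUnivInjPush.faithful_pushEt _ X.property H⟩,
    Groth.Agent.Lib.Helper8SpUnivInjPush.isIso_counit_type X.property H⟩

end Groth.Agent.S10307
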