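import Groth.Statements.S10309
import Mathlib
import Groth.Agent.Lib.H5bHasAtMor
import Groth.Agent.S9355

set_option autoImplicit false
universe u
open CategoryTheory CategoryTheory.Limits AlgebraicGeometry
open AlgSp

namespace Groth.Agent.S10309

lemma exists_compact_open_image_eq {T P : Type*} [TopologicalSpace T] [TopologicalSpace P]
    (π : T → P) (hc : Continuous π) (ho : IsOpenMap π) (hs : Function.Surjective π)
    (hB : ∀ t : T, ∀ W : Set T, IsOpen W → t ∈ W →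
      ∃ A : Set T, IsOpen A ∧ IsCompact A ∧ t ∈ A ∧ A ⊆ W)
    (V : Set P) (hV : IsOpen V) (hVc : IsCompact V) :
    ∃ A : Set T, IsOpen A ∧ IsCompact A ∧ π '' A = V := by
  have key : ∀ x : V, ∃ A : Set T, IsOpen A ∧ IsCompact A ∧ x.1 ∈ π '' A ∧ A ⊆ π ⁻¹' V := by
    intro x
    obtain ⟨t, ht⟩ := hs x.1
    obtain ⟨A, hAo, hAc, htA, hAW⟩ := hB t (π ⁻¹' V) (hV.preimage hc)
      (by rw [Set.mem_preimage, ht]; exact x.2)
    exact ⟨A, hAo, hAc, ⟨t, htA, ht⟩, hAW⟩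
  choose A hAo hAc hxA hAV using key
  obtain ⟨s, hs'⟩ := hVc.elim_finite_subcover (fun x : V => π '' A x) (fun x => ho _ (hAo x))
    (fun p hp => Set.mem_iUnion.2 ⟨⟨p, hp⟩, hxA _⟩)
  refine ⟨⋃ x ∈ s, A x, isOpen_biUnion fun x _ => hAo x,
    s.isCompact_biUnion fun x _ => hAc x, ?_⟩
  apply Set.Subset.antisymm
  · rintro _ ⟨t, ht, rfl⟩
    obtain ⟨x, hx, htx⟩ := Set.mem_iUnion₂.1 ht
    exact hAV x htx
  · intro p hp
    obtain ⟨x, hx, t, htx, rfl⟩ := Set.mem_iUnion₂.1 (hs' hp)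
    exact ⟨t, Set.mem_iUnion₂.2 ⟨x, hx, htx⟩, rfl⟩

/-- For f locally of finite presentation, the locus where the relative dimension is at most n is
retrocompact in |X|. -/
theorem result {S : Scheme.{u}} {X Y : AlgSp.Space S} (f : X ⟶ Y)
    (hf : AlgSp.LocP @LocallyOfFinitePresentation f.hom) (n : ℕ) (V : Set (AlgSp.Points X.obj))
    (hV : IsOpen V) (hVc : IsCompact V) :
    IsCompact (V ∩ {x : AlgSp.Points X.obj |
      AlgSp.HasAtMor (fun _ _ h u => FlatMor.fibreDimAt h u ≤ (n : WithBot ℕ∞)) f.hom x}) := by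
  obtain ⟨U, V₀, a, b, h, ha, has, hb, hbs, c⟩ :=
    Groth.Agent.Lib.H5bHasAtMor.exists_atlas_chart X.property Y.property f.hom
  have hlfp : LocallyOfFinitePresentation h.left := hf a b h ha hb c
  have hE : ∀ u : ↥U.left, AlgSp.HasAtMor (fun _ _ h u => FlatMor.fibreDimAt h u ≤ (n : WithBot ℕ∞))
      f.hom (AlgSp.Points.ofPt a u) ↔ FlatMor.fibreDimAt h.left u ≤ n := fun u =>
    Groth.Agent.Lib.H5bHasAtMor.hasAtMor_iff_of_chart
      (Groth.Agent.Lib.H5bHasAtMor.etLocalQ_fibreDimAt (fun d => d ≤ (n : WithBot ℕ∞))) f.hom _ a b h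
      ha hb c u rfl
  obtain ⟨A, hAo, hAc, hAV⟩ := exists_compact_open_image_eq (AlgSp.Points.ofPt a)
    (AlgSp.Points.continuous_ofPt a) (Groth.Agent.S10176.isOpenMap_ofPt a ha)
    (Groth.Agent.S10177.surjective_ofPt a has) (by
      intro t W hW htW
      obtain ⟨_, ⟨A, hA, rfl⟩, htA, hAW⟩ :=
        U.left.isBasis_affineOpens.exists_subset_of_mem_open htW hW
      exact ⟨A, A.isOpen, IsAffineOpen.isCompact hA, htA, hAW⟩) V hV hVc
  have hret := Groth.Agent.S9355.result h.left n hAc hAo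
  have heq : V ∩ {x : AlgSp.Points X.obj |
      AlgSp.HasAtMor (fun _ _ h u => FlatMor.fibreDimAt h u ≤ (n : WithBot ℕ∞)) f.hom x} =
      AlgSp.Points.ofPt a '' ({u : ↥U.left | FlatMor.fibreDimAt h.left u ≤ n} ∩ A) := by
    ext x
    constructor
    · rintro ⟨hxV, hxE⟩
      rw [← hAV] at hxV
      obtain ⟨u, huA, rfl⟩ := hxV
      exact ⟨u, ⟨(hE u).1 hxE, huA⟩, rfl⟩
    · rintro ⟨u, ⟨huE, huA⟩, rfl⟩
      refine ⟨?_, (hE u).2 huE⟩
      rw [← hAV]
      exact ⟨u, huA, rfl⟩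
  rw [heq]
  exact hret.image (AlgSp.Points.continuous_ofPt a)

end Groth.Agent.S10309
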