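import Groth.Statements.S10310
import Mathlib
import Groth.Agent.Lib.H5bHasAtMor
import Groth.Agent.Lib.Helper3GrpHomQF

set_option autoImplicit false
universe u
open CategoryTheory CategoryTheory.Limits AlgebraicGeometry
open AlgSp

namespace Groth.Agent.S10310

/-- A morphism locally of finite type is locally quasi-finite if and only if it has relative dimension 0
at every point. -/
theorem result {S : Scheme.{u}} {X Y : AlgSp.Space S} (f : X ⟶ Y)
    (hf : AlgSp.LocP @LocallyOfFiniteType f.hom) :
    AlgSp.LocP (@LocallyQuasiFinite ⊓ @LocallyOfFiniteType) f.hom ↔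
      ∀ x : AlgSp.Points X.obj, AlgSp.HasAtMor (fun _ _ h u => FlatMor.fibreDimAt h u = 0) f.hom x := by
  constructor
  · intro H x
    obtain ⟨U, V, a, b, h, u, ha, hb, c, hu⟩ :=
      Groth.Agent.Lib.H5bHasAtMor.exists_chart X.property Y.property f.hom x
    refine ⟨U, V, a, b, h, u, ha, hb, c, hu, ?_⟩
    have hlft : LocallyOfFiniteType h.left := hf a b h ha hb c
    have hlqf : LocallyQuasiFinite h.left := (H a b h ha hb c).1
    exact le_antisymm
      ((Groth.Agent.Lib.Helper3.GrpHomQF.locallyQuasiFinite_iff_forall_fibreDimAt_le_zero h.left).1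
        hlqf u)
      (Groth.Agent.Lib.Helper7.TopDim.localDim_nonneg _)
  · intro H U V a b h ha hb c
    have hlft : LocallyOfFiniteType h.left := hf a b h ha hb c
    refine ⟨?_, hlft⟩
    rw [Groth.Agent.Lib.Helper3.GrpHomQF.locallyQuasiFinite_iff_forall_fibreDimAt_le_zero h.left]
    intro u
    have := (Groth.Agent.Lib.H5bHasAtMor.hasAtMor_iff_of_chart
      (Groth.Agent.Lib.H5bHasAtMor.etLocalQ_fibreDimAt (fun d => d = 0)) f.hom _ a b h
      ha hb c u rfl).1 (H _)
    exact this.le

end Groth.Agent.S10310
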