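import Groth.Statements.S10311
import Mathlib
import Groth.Agent.Lib.H5bChartBC
import Groth.Agent.Lib.H5bHasAtMor
import Groth.Agent.Lib.Helper3LocDimBC

set_option autoImplicit false
universe u
open CategoryTheory CategoryTheory.Limits AlgebraicGeometry
open AlgSp

namespace Groth.Agent.S10311

/-- The relative dimension at a point of a morphism locally of finite type is preserved by base change. -/
theorem result {S : Scheme.{u}} {X Y Y' X' : AlgSp.Space S} (f : X ⟶ Y) (g : Y' ⟶ Y)
    (g' : X' ⟶ X) (f' : X' ⟶ Y') (sq : IsPullback g'.hom f'.hom f.hom g.hom)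
    (hf : AlgSp.LocP @LocallyOfFiniteType f.hom) (x' : AlgSp.Points X'.obj) (d : WithBot ℕ∞)
    (hd : AlgSp.HasAtMor (fun _ _ h u => FlatMor.fibreDimAt h u = d) f.hom (AlgSp.Points.map g'.hom x')) :
    AlgSp.HasAtMor (fun _ _ h u => FlatMor.fibreDimAt h u = d) f'.hom x' := by
  obtain ⟨U, V, U', V', a, b, a', b', h, h', pU, pV, ha, hb, ha', ha's, hb', c1, c2, c3, c4, hpb⟩ :=
    Groth.Agent.Lib.H5bChartBC.exists_cartesian_charts X.property Y.property Y'.property sq
  obtain ⟨u', hu'⟩ := Groth.Agent.S10177.surjective_ofPt a' ha's x'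
  have hlft : LocallyOfFiniteType h.left := hf a b h ha hb c1
  have hu : AlgSp.Points.ofPt a (pU.left u') = AlgSp.Points.map g'.hom x' := by
    rw [← Groth.Agent.S10176.ofPt_map_comp, ← c3, ← hu']; rfl
  have e1 : FlatMor.fibreDimAt h.left (pU.left u') = d :=
    (Groth.Agent.Lib.H5bHasAtMor.hasAtMor_iff_of_chart
      (Groth.Agent.Lib.H5bHasAtMor.etLocalQ_fibreDimAt (fun e => e = d)) f.hom _ a b h
      ha hb c1 _ hu).1 hd
  refine ⟨U', V', a', b', h', u', ha', hb', c2, hu', ?_⟩
  show FlatMor.fibreDimAt h'.left u' = d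
  rw [Groth.Agent.Lib.Helper3.LocDimBC.fibreDimAt_eq_of_isPullback h.left pV.left pU.left h'.left
    hpb u', e1]

end Groth.Agent.S10311
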