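import Groth.Statements.S10314
import Mathlib
import Groth.Agent.Lib.H5bHasAtMor
import Groth.Agent.Lib.H5bEtLocal
import Groth.Agent.Lib.Helper3RelDimFlat

set_option autoImplicit false
universe u
open CategoryTheory CategoryTheory.Limits AlgebraicGeometry
open AlgSp

namespace Groth.Agent.S10314

lemma localDim_invariant (e : WithBot ℕ∞) {W U : Scheme.{u}} (g : W ⟶ U) [Etale g] (w : W) :
    FlatMor.localDim ↥W w = e ↔ FlatMor.localDim ↥U (g w) = e := by
  rw [Groth.Agent.Lib.Helper6.EtDim.localDim_eq_of_etale g w]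

/-- For a flat morphism locally of finite type of relative dimension d between locally Noetherian
algebraic spaces, the dimension of X at a point equals the dimension of Y at the image point plus d. -/
theorem result {S : Scheme.{u}} {X Y : AlgSp.Space S} (f : X ⟶ Y)
    (hX : AlgSp.IsLocNoethSp X.obj) (hY : AlgSp.IsLocNoethSp Y.obj) (hf : AlgSp.LocP @Flat f.hom)
    (hf' : AlgSp.LocP @LocallyOfFiniteType f.hom) (d : ℕ)
    (hd : ∀ x : AlgSp.Points X.obj, AlgSp.HasAtMor (fun _ _ h u => FlatMor.fibreDimAt h u = (d : WithBot ℕ∞)) f.hom x)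
    (x : AlgSp.Points X.obj) (dX dY : WithBot ℕ∞) (hx : AlgSp.HasAt (fun U u => FlatMor.localDim ↥U u = dX) X.obj x)
    (hy : AlgSp.HasAt (fun U u => FlatMor.localDim ↥U u = dY) Y.obj (AlgSp.Points.map f.hom x)) :
    dX = dY + (d : WithBot ℕ∞) := by
  obtain ⟨U₀, p₀, hp₀, hp₀s, hU₀⟩ := hX
  obtain ⟨V₀, q₀, hq₀, hq₀s, hV₀⟩ := hY
  obtain ⟨W, pr, h, hpr, hw, hpt⟩ := Groth.Agent.Lib.H5bLqfDim.exists_chartPullback f.hom p₀ q₀ hq₀
  have hc : AlgSp.RepWith @Etale ((AlgSp.yon S).map pr ≫ p₀) :=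
    (AlgSp.RepWith @Etale).comp_mem _ _ ((AlgSp.repWith_yon_map_iff @Etale pr).2 hpr) hp₀
  have hflat : Flat h.left := hf _ _ h hc hq₀ hw
  have hlft : LocallyOfFiniteType h.left := hf' _ _ h hc hq₀ hw
  have hWn : IsLocallyNoetherian W.left := LocallyOfFiniteType.isLocallyNoetherian pr.left
  have hrel : Cyc.HasRelDim h.left d := by
    rw [Groth.Agent.Lib.Helper3.RelDim.hasRelDim_iff_forall_fibreDimAt_eq]
    intro w
    exact (Groth.Agent.Lib.H5bHasAtMor.hasAtMor_iff_of_chart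
      (Groth.Agent.Lib.H5bHasAtMor.etLocalQ_fibreDimAt (fun e => e = (d : WithBot ℕ∞))) f.hom _ _ q₀ h
      hc hq₀ hw w rfl).1 (hd _)
  -- a point of `W` over `x`
  obtain ⟨u₀, hu₀⟩ := Groth.Agent.S10177.surjective_ofPt p₀ hp₀s x
  obtain ⟨v₀, hv₀⟩ := Groth.Agent.S10177.surjective_ofPt q₀ hq₀s (AlgSp.Points.ofPt (p₀ ≫ f.hom) u₀)
  obtain ⟨w, hw1, hw2⟩ := hpt u₀ v₀ hv₀.symm
  have hwx : AlgSp.Points.ofPt ((AlgSp.yon S).map pr ≫ p₀) w = x := by
    rw [Groth.Agent.S10176.ofPt_map_comp, hw1, hu₀]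
  have hwy : AlgSp.Points.ofPt q₀ (h.left w) = AlgSp.Points.map f.hom x := by
    rw [hw2, hv₀, ← hu₀]; rfl
  have h1 := (Groth.Agent.Lib.H5bEtLocal.hasAt_iff_forall
    (fun U u => FlatMor.localDim ↥U u = dX) (localDim_invariant dX) X.property x).1 hx
    W _ w hc hwx
  have h2 := (Groth.Agent.Lib.H5bEtLocal.hasAt_iff_forall
    (fun U u => FlatMor.localDim ↥U u = dY) (localDim_invariant dY) Y.property _).1 hy
    V₀ q₀ (h.left w) hq₀ hwy
  have h3 := Groth.Agent.Lib.Helper3.RelDimFlat.localDim_eq_add h.left d hrel w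
  rw [← h1, ← h2]
  exact h3

end Groth.Agent.S10314
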