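import Groth.Statements.S10315
import Mathlib
import Groth.Agent.Lib.H5bHasAtMor
import Groth.Agent.Lib.H5bEtLocal
import Groth.Agent.Lib.Helper3RelDimFlat
import Groth.Agent.Lib.Helper3SmDim

set_option autoImplicit false
universe u
open CategoryTheory CategoryTheory.Limits AlgebraicGeometry
open AlgSp

namespace Groth.Agent.S10315

lemma localDim_invariant (e : WithBot ℕ∞) {W U : Scheme.{u}} (g : W ⟶ U) [Etale g] (w : W) :
    FlatMor.localDim ↥W w = e ↔ FlatMor.localDim ↥U (g w) = e := by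
  rw [Groth.Agent.Lib.Helper6.EtDim.localDim_eq_of_etale g w]

/-- scheme-level statement: smooth morphisms of locally Noetherian schemes. -/
lemma localDim_eq_add_of_smooth {W V : Scheme.{u}} [IsLocallyNoetherian W] [IsLocallyNoetherian V]
    (h : W ⟶ V) [Smooth h] (w : W) :
    FlatMor.localDim ↥W w = FlatMor.localDim ↥V (h w) + FlatMor.fibreDimAt h w := by
  obtain ⟨U₁, hU₁, V₁, hV₁, hx₁, e₁, hf₁⟩ := Smooth.exists_isStandardSmooth h w
  obtain ⟨n, hn⟩ := Groth.Agent.Lib.Helper3.SmDim.exists_relDim_of_isStandardSmooth _ hf₁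
  have hconst : ∀ w' : W, w' ∈ V₁ → FlatMor.fibreDimAt h w' = (n : WithBot ℕ∞) := fun w' hw' =>
    Groth.Agent.Lib.Helper3.SmDim.fibreDimAt_eq_of_chart h n w' hU₁ hV₁ hw' e₁ hn
  have : IsLocallyNoetherian (V₁ : Scheme.{u}) := LocallyOfFiniteType.isLocallyNoetherian V₁.ι
  have hrel : Cyc.HasRelDim (V₁.ι ≫ h) n := by
    rw [Groth.Agent.Lib.Helper3.RelDim.hasRelDim_iff_forall_fibreDimAt_eq]
    intro u
    rw [Groth.Agent.Lib.Helper4.DimFormula.fibreDimAt_opens_ι_comp h V₁ u]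
    exact hconst _ u.2
  have h1 := Groth.Agent.Lib.Helper3.RelDimFlat.localDim_eq_add (V₁.ι ≫ h) n hrel ⟨w, hx₁⟩
  have h2 := Groth.Agent.Lib.Helper6.EtDim.localDim_eq_of_etale V₁.ι ⟨w, hx₁⟩
  rw [hconst w hx₁]
  rw [h2] at h1
  exact h1

/-- For a smooth morphism of locally Noetherian algebraic spaces, the dimension of X at x is the
dimension of Y at the image of x plus the relative dimension of f at x. -/
theorem result {S : Scheme.{u}} {X Y : AlgSp.Space S} (f : X ⟶ Y)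
    (hX : AlgSp.IsLocNoethSp X.obj) (hY : AlgSp.IsLocNoethSp Y.obj) (hf : AlgSp.LocP @Smooth f.hom)
    (x : AlgSp.Points X.obj) (d dX dY : WithBot ℕ∞)
    (hd : AlgSp.HasAtMor (fun _ _ h u => FlatMor.fibreDimAt h u = d) f.hom x)
    (hx : AlgSp.HasAt (fun U u => FlatMor.localDim ↥U u = dX) X.obj x)
    (hy : AlgSp.HasAt (fun U u => FlatMor.localDim ↥U u = dY) Y.obj (AlgSp.Points.map f.hom x)) :
    dX = dY + d := by
  obtain ⟨U₀, p₀, hp₀, hp₀s, hU₀⟩ := hX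
  obtain ⟨V₀, q₀, hq₀, hq₀s, hV₀⟩ := hY
  obtain ⟨W, pr, h, hpr, hw, hpt⟩ := Groth.Agent.Lib.H5bLqfDim.exists_chartPullback f.hom p₀ q₀ hq₀
  have hc : AlgSp.RepWith @Etale ((AlgSp.yon S).map pr ≫ p₀) :=
    (AlgSp.RepWith @Etale).comp_mem _ _ ((AlgSp.repWith_yon_map_iff @Etale pr).2 hpr) hp₀
  have hsm : Smooth h.left := hf _ _ h hc hq₀ hw
  have hWn : IsLocallyNoetherian W.left := LocallyOfFiniteType.isLocallyNoetherian pr.left
  -- a point of `W` over `x`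
  obtain ⟨u₀, hu₀⟩ := Groth.Agent.S10177.surjective_ofPt p₀ hp₀s x
  obtain ⟨v₀, hv₀⟩ := Groth.Agent.S10177.surjective_ofPt q₀ hq₀s (AlgSp.Points.ofPt (p₀ ≫ f.hom) u₀)
  obtain ⟨w, hw1, hw2⟩ := hpt u₀ v₀ hv₀.symm
  have hwx : AlgSp.Points.ofPt ((AlgSp.yon S).map pr ≫ p₀) w = x := by
    rw [Groth.Agent.S10176.ofPt_map_comp, hw1, hu₀]
  have hwy : AlgSp.Points.ofPt q₀ (h.left w) = AlgSp.Points.map f.hom x := by
    rw [hw2, hv₀, ← hu₀]; rfl
  have h0 : FlatMor.fibreDimAt h.left w = d :=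
    (Groth.Agent.Lib.H5bHasAtMor.hasAtMor_iff_of_chart
      (Groth.Agent.Lib.H5bHasAtMor.etLocalQ_fibreDimAt (fun e => e = d)) f.hom _ _ q₀ h
      hc hq₀ hw w hwx).1 hd
  have h1 := (Groth.Agent.Lib.H5bEtLocal.hasAt_iff_forall
    (fun U u => FlatMor.localDim ↥U u = dX) (localDim_invariant dX) X.property x).1 hx
    W _ w hc hwx
  have h2 := (Groth.Agent.Lib.H5bEtLocal.hasAt_iff_forall
    (fun U u => FlatMor.localDim ↥U u = dY) (localDim_invariant dY) Y.property _).1 hy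
    V₀ q₀ (h.left w) hq₀ hwy
  have h3 := localDim_eq_add_of_smooth h.left w
  rw [← h1, ← h2, ← h0]
  exact h3

end Groth.Agent.S10315
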