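import Groth.Statements.S10316
import Mathlib
import Groth.Agent.Lib.H5bResTrdeg

set_option autoImplicit false
universe u
open CategoryTheory CategoryTheory.Limits AlgebraicGeometry
open AlgSp

namespace Groth.Agent.S10316

/-- For X -> Y locally quasi-finite and Y -> Z locally of finite type, the transcendence degree of x
over Z equals that of its image y over Z. -/
theorem result {S : Scheme.{u}} {X Y Z : AlgSp.Space S} (f : X ⟶ Y) (g : Y ⟶ Z)
    (hf : AlgSp.LocP (@LocallyQuasiFinite ⊓ @LocallyOfFiniteType) f.hom) (hg : AlgSp.LocP @LocallyOfFiniteType g.hom)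
    (x : AlgSp.Points X.obj) (r : Cardinal.{u}) :
    AlgSp.HasAtMor (fun _ _ h u => Dual3.resTrdeg h u = r) (f ≫ g).hom x ↔
      AlgSp.HasAtMor (fun _ _ h u => Dual3.resTrdeg h u = r) g.hom (AlgSp.Points.map f.hom x) := by
  obtain ⟨U, V, T, a, b, c, h, k, u, ha, hb, hc, c1, c2, c3, hu, hv⟩ :=
    Groth.Agent.Lib.H5bResTrdeg.exists_composable_charts X.property Y.property Z.property
      f.hom g.hom x
  have hlqf : LocallyQuasiFinite h.left := (hf a b h ha hb c1).1
  have hlft : LocallyOfFiniteType h.left := (hf a b h ha hb c1).2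
  have i1 := Groth.Agent.Lib.H5bHasAtMor.hasAtMor_iff_of_chart
      (Groth.Agent.Lib.H5bResTrdeg.etLocalQ_resTrdeg (fun e => e = r)) (f ≫ g).hom x a c (h ≫ k)
      ha hc c3 u hu
  have i2 := Groth.Agent.Lib.H5bHasAtMor.hasAtMor_iff_of_chart
      (Groth.Agent.Lib.H5bResTrdeg.etLocalQ_resTrdeg (fun e => e = r)) g.hom _ b c k
      hb hc c2 (h.left u) hv
  rw [i1, i2]
  show Dual3.resTrdeg (h.left ≫ k.left) u = r ↔ _
  rw [Groth.Agent.Lib.H5bResTrdeg.resTrdeg_comp,
    Groth.Agent.Lib.H5bResTrdeg.resTrdeg_eq_zero_of_lqf h.left u, add_zero]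

end Groth.Agent.S10316
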