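import Groth.Statements.S10318
import Mathlib
import Groth.Agent.Lib.H5bResTrdeg

set_option autoImplicit false
universe u
open CategoryTheory CategoryTheory.Limits AlgebraicGeometry
open AlgSp

namespace Groth.Agent.S10318

lemma isClosed_singleton_of_etale {W U : Scheme.{u}} (g : W ⟶ U) [Etale g] (w : W)
    (hcl : IsClosed ({g.base w} : Set U)) : IsClosed ({w} : Set W) := by
  have : LocallyQuasiFinite g :=
    ((Groth.Agent.Lib.Helper6.SmQF.etale_iff_smooth_and_locallyQuasiFinite g).mp inferInstance).2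
  have hF : IsClosed (g ⁻¹' {g w}) := hcl.preimage g.continuous
  have hdisc : _root_.IsDiscrete (g ⁻¹' {g w}) := g.isDiscrete_preimage_singleton (g w)
  have : DiscreteTopology ↥(g ⁻¹' {g w}) := hdisc.to_subtype
  have h1 := (hF.isClosedEmbedding_subtypeVal).isClosedMap _
    (isClosed_discrete ({⟨w, rfl⟩} : Set ↥(g ⁻¹' {g w})))
  simpa using h1

/-- Over a Jacobson algebraic space, a finite type point of a space locally of finite type over it has
transcendence degree 0 over its image. -/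
theorem result {S : Scheme.{u}} {X Y : AlgSp.Space S} (f : X ⟶ Y)
    (hf : AlgSp.LocP @LocallyOfFiniteType f.hom) (hY : AlgSp.EtaleLocally (fun U => JacobsonSpace ↥U) Y.obj)
    (x : AlgSp.Points X.obj) (hx : AlgSp.HasAt (fun U u => IsClosed ({u} : Set ↥U)) X.obj x) :
    AlgSp.HasAtMor (fun _ _ h u => Dual3.resTrdeg h u = 0) f.hom x := by
  obtain ⟨U₁, a₁, u₁, ha₁, hu₁, hcl⟩ := hx
  obtain ⟨V₀, q, hq, hqs⟩ := Y.property.atlas
  obtain ⟨W, pr, h, hpr, hw, hpt⟩ := Groth.Agent.Lib.H5bLqfDim.exists_chartPullback f.hom a₁ q hq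
  have hc : AlgSp.RepWith @Etale ((AlgSp.yon S).map pr ≫ a₁) :=
    (AlgSp.RepWith @Etale).comp_mem _ _ ((AlgSp.repWith_yon_map_iff @Etale pr).2 hpr) ha₁
  have hlft : LocallyOfFiniteType h.left := hf _ _ h hc hq hw
  obtain ⟨v₀, hv₀⟩ := Groth.Agent.S10177.surjective_ofPt q hqs (AlgSp.Points.ofPt (a₁ ≫ f.hom) u₁)
  obtain ⟨w, hw1, -⟩ := hpt u₁ v₀ hv₀.symm
  have hwx : AlgSp.Points.ofPt ((AlgSp.yon S).map pr ≫ a₁) w = x := by
    rw [Groth.Agent.S10176.ofPt_map_comp, hw1, hu₁]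
  have hwcl : IsClosed ({w} : Set ↥W.left) := by
    have := hpr
    apply isClosed_singleton_of_etale pr.left w
    rw [hw1]; exact hcl
  refine ⟨W, V₀, _, q, h, w, hc, hq, hw, hwx, ?_⟩
  show Dual3.resTrdeg h.left w = 0
  rw [Groth.Agent.Lib.H5bResTrdeg.resTrdeg_eq_ptTrdeg,
    Groth.Agent.Lib.Helper4.DimFormula.ptTrdeg_eq_zero_of_isClosed h.left w hwcl]
  simp

end Groth.Agent.S10318
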