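import Groth.Statements.S10319
import Mathlib
import Groth.Agent.Lib.H5bResTrdeg

set_option autoImplicit false
universe u
open CategoryTheory CategoryTheory.Limits AlgebraicGeometry
open AlgSp

namespace Groth.Agent.S10319

/-- Transcendence degrees at a point add up along a composition of morphisms locally of finite type. -/
theorem result {S : Scheme.{u}} {X Y Z : AlgSp.Space S} (f : X ⟶ Y) (g : Y ⟶ Z)
    (hf : AlgSp.LocP @LocallyOfFiniteType f.hom) (hg : AlgSp.LocP @LocallyOfFiniteType g.hom)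
    (x : AlgSp.Points X.obj) (r₁ r₂ : Cardinal.{u})
    (h1 : AlgSp.HasAtMor (fun _ _ h u => Dual3.resTrdeg h u = r₁) f.hom x)
    (h2 : AlgSp.HasAtMor (fun _ _ h u => Dual3.resTrdeg h u = r₂) g.hom (AlgSp.Points.map f.hom x)) :
    AlgSp.HasAtMor (fun _ _ h u => Dual3.resTrdeg h u = r₁ + r₂) (f ≫ g).hom x := by
  obtain ⟨U, V, T, a, b, c, h, k, u, ha, hb, hc, c1, c2, c3, hu, hv⟩ :=
    Groth.Agent.Lib.H5bResTrdeg.exists_composable_charts X.property Y.property Z.property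
      f.hom g.hom x
  have e1 : Dual3.resTrdeg h.left u = r₁ :=
    (Groth.Agent.Lib.H5bHasAtMor.hasAtMor_iff_of_chart
      (Groth.Agent.Lib.H5bResTrdeg.etLocalQ_resTrdeg (fun e => e = r₁)) f.hom _ a b h
      ha hb c1 u hu).1 h1
  have e2 : Dual3.resTrdeg k.left (h.left u) = r₂ :=
    (Groth.Agent.Lib.H5bHasAtMor.hasAtMor_iff_of_chart
      (Groth.Agent.Lib.H5bResTrdeg.etLocalQ_resTrdeg (fun e => e = r₂)) g.hom _ b c k
      hb hc c2 (h.left u) hv).1 h2
  refine ⟨U, T, a, c, h ≫ k, u, ha, hc, c3, hu, ?_⟩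
  show Dual3.resTrdeg (h.left ≫ k.left) u = r₁ + r₂
  rw [Groth.Agent.Lib.H5bResTrdeg.resTrdeg_comp, e1, e2, add_comm]

end Groth.Agent.S10319
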