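import Groth.Statements.S10323
import Mathlib
import Groth.Agent.Lib.H5bResTrdeg
import Groth.Agent.Lib.H5bDimIneq
import Groth.Agent.Lib.H5bEtLocal

set_option autoImplicit false
universe u
open CategoryTheory CategoryTheory.Limits AlgebraicGeometry
open AlgSp

namespace Groth.Agent.S10323

lemma stalkDim_invariant (e : WithBot ℕ∞) {W U : Scheme.{u}} (g : W ⟶ U) [Etale g] (w : W) :
    ringKrullDim ↥(W.presheaf.stalk w) = e ↔ ringKrullDim ↥(U.presheaf.stalk (g w)) = e := by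
  rw [Groth.Agent.Lib.H5bEtLocal.ringKrullDim_stalk_eq_of_etale g w]

/-- For Y locally Noetherian and f locally of finite type, the dimension of the local ring of X at x is
at most the dimension of the local ring of Y at the image point plus E minus the transcendence
degree of x over its image, where E bounds the transcendence degrees of the codimension-0 points
specializing to x. -/
theorem result {S : Scheme.{u}} {X Y : AlgSp.Space S} (f : X ⟶ Y)
    (hY : AlgSp.IsLocNoethSp Y.obj) (hf : AlgSp.LocP @LocallyOfFiniteType f.hom) (x : AlgSp.Points X.obj)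
    (E : Cardinal.{u})
    (hE : ∀ ξ : AlgSp.Points X.obj, ξ ⤳ x → AlgSp.HasAt (fun U u => ringKrullDim ↥(U.presheaf.stalk u) = 0) X.obj ξ →
      ∀ s : Cardinal.{u}, AlgSp.HasAtMor (fun _ _ h u => Dual3.resTrdeg h u = s) f.hom ξ → s ≤ E)
    (a b : WithBot ℕ∞) (r : Cardinal.{u})
    (ha : AlgSp.HasAt (fun U u => ringKrullDim ↥(U.presheaf.stalk u) = a) X.obj x)
    (hb : AlgSp.HasAt (fun U u => ringKrullDim ↥(U.presheaf.stalk u) = b) Y.obj (AlgSp.Points.map f.hom x))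
    (hr : AlgSp.HasAtMor (fun _ _ h u => Dual3.resTrdeg h u = r) f.hom x) :
    a + ((Cardinal.toENat r : ℕ∞) : WithBot ℕ∞) ≤ b + ((Cardinal.toENat E : ℕ∞) : WithBot ℕ∞) := by
  obtain ⟨V₀, q₀, hq₀, hq₀s, hV₀⟩ := hY
  obtain ⟨U₀, p₀, hp₀, hp₀s⟩ := X.property.atlas
  obtain ⟨W, pr, h, hpr, hw, hpt⟩ := Groth.Agent.Lib.H5bLqfDim.exists_chartPullback f.hom p₀ q₀ hq₀
  have hc : AlgSp.RepWith @Etale ((AlgSp.yon S).map pr ≫ p₀) :=
    (AlgSp.RepWith @Etale).comp_mem _ _ ((AlgSp.repWith_yon_map_iff @Etale pr).2 hpr) hp₀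
  have hlft : LocallyOfFiniteType h.left := hf _ _ h hc hq₀ hw
  have hV₀' : IsLocallyNoetherian V₀.left := hV₀
  obtain ⟨u₀, hu₀⟩ := Groth.Agent.S10177.surjective_ofPt p₀ hp₀s x
  obtain ⟨v₀, hv₀⟩ := Groth.Agent.S10177.surjective_ofPt q₀ hq₀s (AlgSp.Points.ofPt (p₀ ≫ f.hom) u₀)
  obtain ⟨w, hw1, hw2⟩ := hpt u₀ v₀ hv₀.symm
  have hwx : AlgSp.Points.ofPt ((AlgSp.yon S).map pr ≫ p₀) w = x := by
    rw [Groth.Agent.S10176.ofPt_map_comp, hw1, hu₀]
  have hwy : AlgSp.Points.ofPt q₀ (h.left w) = AlgSp.Points.map f.hom x := by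
    rw [hw2, hv₀, ← hu₀]; rfl
  have h1 := (Groth.Agent.Lib.H5bEtLocal.hasAt_iff_forall
    (fun U u => ringKrullDim ↥(U.presheaf.stalk u) = a) (stalkDim_invariant a) X.property x).1 ha
    W _ w hc hwx
  have h2 := (Groth.Agent.Lib.H5bEtLocal.hasAt_iff_forall
    (fun U u => ringKrullDim ↥(U.presheaf.stalk u) = b) (stalkDim_invariant b) Y.property _).1 hb
    V₀ q₀ (h.left w) hq₀ hwy
  have h3 : Dual3.resTrdeg h.left w = r :=
    (Groth.Agent.Lib.H5bHasAtMor.hasAtMor_iff_of_chart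
      (Groth.Agent.Lib.H5bResTrdeg.etLocalQ_resTrdeg (fun e => e = r)) f.hom _ _ q₀ h
      hc hq₀ hw w hwx).1 hr
  have key := Groth.Agent.Lib.H5bDimIneq.stalkDim_add_ptTrdeg_le h.left w
    (((Cardinal.toENat E : ℕ∞) : WithBot ℕ∞)) (by
      intro ξ' hξ' hξ0
      have hsp : AlgSp.Points.ofPt ((AlgSp.yon S).map pr ≫ p₀) ξ' ⤳ x := by
        rw [← hwx]
        exact hξ'.map (AlgSp.Points.continuous_ofPt _)
      have hle := hE _ hsp ⟨W, _, ξ', hc, rfl, hξ0⟩ (Dual3.resTrdeg h.left ξ')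
        ⟨W, V₀, _, q₀, h, ξ', hc, hq₀, hw, rfl, rfl⟩
      rw [Groth.Agent.Lib.H5bResTrdeg.resTrdeg_eq_ptTrdeg] at hle
      have h5 : Cardinal.toENat ((Groth.Agent.Lib.Helper4.DimFormula.ptTrdeg h.left ξ' : ℕ) : Cardinal.{u}) ≤
          Cardinal.toENat E := Cardinal.toENat.monotone' hle
      rw [Cardinal.toENat_nat] at h5
      exact_mod_cast h5)
  rw [h1, h2] at key
  rw [Groth.Agent.Lib.H5bResTrdeg.resTrdeg_eq_ptTrdeg] at h3
  rw [← h3]
  simpa using key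

end Groth.Agent.S10323
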