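import Groth.Statements.S10324
import Mathlib
import Groth.Agent.Lib.H5bResTrdeg
import Groth.Agent.Lib.H5bDimIneq
import Groth.Agent.Lib.H5bEtLocal
import Groth.Agent.Lib.Helper4FibDimL

set_option autoImplicit false
universe u
open CategoryTheory CategoryTheory.Limits AlgebraicGeometry
open AlgSp

namespace Groth.Agent.S10324

/-- For Y locally Noetherian and f : X -> Y locally of finite type, dim X ≤ dim Y + E where E bounds the
transcendence degrees over Y of the codimension-0 points of X. -/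
theorem result {S : Scheme.{u}} {X Y : AlgSp.Space S} (f : X ⟶ Y)
    (hY : AlgSp.IsLocNoethSp Y.obj) (hf : AlgSp.LocP @LocallyOfFiniteType f.hom) (E : Cardinal.{u})
    (hE : ∀ ξ : AlgSp.Points X.obj, AlgSp.HasAt (fun U u => ringKrullDim ↥(U.presheaf.stalk u) = 0) X.obj ξ → ∀ s : Cardinal.{u}, AlgSp.HasAtMor (fun _ _ h u => Dual3.resTrdeg h u = s) f.hom ξ → s ≤ E) :
    AlgSp.dim X.obj ≤ AlgSp.dim Y.obj + ((Cardinal.toENat E : ℕ∞) : WithBot ℕ∞) := by
  obtain ⟨V₀, q₀, hq₀, hq₀s, hV₀⟩ := hY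
  rw [AlgSp.dim]
  refine iSup_le fun U => iSup_le fun a => iSup_le fun ha => ?_
  obtain ⟨W, pr, h, hpr, hw, hpt⟩ := Groth.Agent.Lib.H5bLqfDim.exists_chartPullback f.hom a q₀ hq₀
  have hc : AlgSp.RepWith @Etale ((AlgSp.yon S).map pr ≫ a) :=
    (AlgSp.RepWith @Etale).comp_mem _ _ ((AlgSp.repWith_yon_map_iff @Etale pr).2 hpr) ha
  have hlft : LocallyOfFiniteType h.left := hf _ _ h hc hq₀ hw
  have hV₀' : IsLocallyNoetherian V₀.left := hV₀
  have h1 : topologicalKrullDim U.left ≤ topologicalKrullDim W.left := by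
    have := hpr
    refine (Groth.Agent.Lib.H5bIntDimSp.dim_le_iSup_of_etale_cover (ι := Unit) (fun _ => W.left)
      (fun _ => pr.left) ?_).trans (iSup_le fun _ => le_rfl)
    intro u
    obtain ⟨v, hv⟩ := Groth.Agent.S10177.surjective_ofPt q₀ hq₀s (AlgSp.Points.ofPt (a ≫ f.hom) u)
    obtain ⟨w, hw1, -⟩ := hpt u v hv.symm
    exact ⟨(), w, hw1⟩
  refine h1.trans ?_
  rw [Groth.Agent.Lib.Helper4.FibDim.topologicalKrullDim_eq_iSup_ringKrullDim_stalk W.left]
  refine iSup_le fun w => ?_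
  have key := Groth.Agent.Lib.H5bDimIneq.stalkDim_add_ptTrdeg_le h.left w
    (((Cardinal.toENat E : ℕ∞) : WithBot ℕ∞)) (by
      intro ξ' hξ' hξ0
      have hle := hE _ ⟨W, _, ξ', hc, rfl, hξ0⟩ (Dual3.resTrdeg h.left ξ')
        ⟨W, V₀, _, q₀, h, ξ', hc, hq₀, hw, rfl, rfl⟩
      rw [Groth.Agent.Lib.H5bResTrdeg.resTrdeg_eq_ptTrdeg] at hle
      have h5 : Cardinal.toENat ((Groth.Agent.Lib.Helper4.DimFormula.ptTrdeg h.left ξ' : ℕ) :
          Cardinal.{u}) ≤ Cardinal.toENat E := Cardinal.toENat.monotone' hle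
      rw [Cardinal.toENat_nat] at h5
      exact_mod_cast h5)
  have h2 : ringKrullDim ↥(W.left.presheaf.stalk w) ≤
      ringKrullDim ↥(W.left.presheaf.stalk w) +
        ((Groth.Agent.Lib.Helper4.DimFormula.ptTrdeg h.left w : ℕ) : WithBot ℕ∞) :=
    le_add_of_nonneg_right (by exact_mod_cast (Nat.cast_nonneg _))
  have h3 : ringKrullDim ↥(V₀.left.presheaf.stalk (h.left w)) ≤ topologicalKrullDim V₀.left := by
    rw [Groth.Agent.Lib.Helper4.FibDim.topologicalKrullDim_eq_iSup_ringKrullDim_stalk V₀.left]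
    exact le_iSup (fun v : ↥V₀.left => ringKrullDim ↥(V₀.left.presheaf.stalk v)) (h.left w)
  have h4 : topologicalKrullDim V₀.left ≤ AlgSp.dim Y.obj :=
    Groth.Agent.Lib.H5bIntDimSp.dim_chart_le q₀ hq₀
  exact h2.trans (key.trans (add_le_add_left (h3.trans h4) _))

end Groth.Agent.S10324
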