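import Groth.Statements.S10325
import Mathlib
import Groth.Agent.Lib.H5bCoprodSp2
import Groth.Agent.S10267

set_option autoImplicit false
universe u
open CategoryTheory CategoryTheory.Limits AlgebraicGeometry
open AlgSp

namespace Groth.Agent.S10325

open TopologicalSpace MorphismProperty Groth.Agent.Lib.H5bCoprodSp Groth.Agent.S9878

/-- binary case -/
lemma isFinite_of_isCompl {W Z : Scheme.{u}} (w : W ⟶ Z) (A B : W.Opens) (h : IsCompl A B)
    (hA : IsFinite (A.ι ≫ w)) (hB : IsFinite (B.ι ≫ w)) : IsFinite w := by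
  obtain ⟨hcol⟩ := nonempty_isColimit_binaryCofanMk_of_isCompl A.ι B.ι (by
    rw [Scheme.Opens.opensRange_ι, Scheme.Opens.opensRange_ι]; exact h)
  let e : A.toScheme ⨿ B.toScheme ≅ W :=
    (colimit.isColimit _).coconePointUniqueUpToIso hcol
  have he1 : coprod.inl ≫ e.hom = A.ι :=
    (colimit.isColimit _).comp_coconePointUniqueUpToIso_hom hcol ⟨WalkingPair.left⟩
  have he2 : coprod.inr ≫ e.hom = B.ι :=
    (colimit.isColimit _).comp_coconePointUniqueUpToIso_hom hcol ⟨WalkingPair.right⟩
  have : e.hom ≫ w = coprod.desc (A.ι ≫ w) (B.ι ≫ w) := by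
    apply coprod.hom_ext
    · rw [← Category.assoc, he1, coprod.inl_desc]
    · rw [← Category.assoc, he2, coprod.inr_desc]
  have h2 : IsFinite (e.hom ≫ w) := by rw [this]; infer_instance
  exact (MorphismProperty.cancel_left_of_respectsIso @IsFinite e.hom w).1 h2

/-- a morphism which is finite on each member of a finite disjoint open cover is finite. -/
lemma isFinite_of_finite_disjoint_cover : ∀ (n : ℕ) {W Z : Scheme.{u}} (w : W ⟶ Z)
    (X : Fin n → Scheme.{u}) (f : ∀ i, X i ⟶ W) (_ : ∀ i, IsOpenImmersion (f i))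
    (_ : ∀ i j, i ≠ j → Disjoint (Set.range (f i)) (Set.range (f j)))
    (_ : ∀ x : W, ∃ i, x ∈ Set.range (f i)) (_ : ∀ i, IsFinite (f i ≫ w)), IsFinite w := by
  intro n
  induction n with
  | zero =>
    intro W Z w X f _ _ hc _
    have : IsEmpty W := ⟨fun x => (hc x).choose.elim0⟩
    infer_instance
  | succ n ih =>
    intro W Z w X f ho hd hc hf
    let A : W.Opens := (f (Fin.last n)).opensRange
    let B : W.Opens := ⨆ i : Fin n, (f i.castSucc).opensRange
    have hAB : IsCompl A B := by
      rw [isCompl_iff]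
      constructor
      · rw [disjoint_iff]
        ext x
        simp only [Opens.coe_inf, Opens.coe_bot, Set.mem_inter_iff, Set.mem_empty_iff_false,
          iff_false, not_and]
        intro hxA hxB
        obtain ⟨i, hi⟩ := Opens.mem_iSup.1 hxB
        exact Set.disjoint_left.1 (hd (Fin.last n) i.castSucc (Fin.castSucc_lt_last i).ne') hxA hi
      · rw [codisjoint_iff, eq_top_iff]
        intro x _
        obtain ⟨i, hi⟩ := hc x
        rcases Fin.eq_castSucc_or_eq_last i with ⟨j, rfl⟩ | rfl
        · exact Or.inr (Opens.mem_iSup.2 ⟨j, hi⟩)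
        · exact Or.inl hi
    refine isFinite_of_isCompl w A B hAB ?_ ?_
    · have h1 : (f (Fin.last n)).isoOpensRange.hom ≫ A.ι = f (Fin.last n) :=
        Scheme.Hom.isoOpensRange_hom_ι _
      have h2 : A.ι ≫ w = (f (Fin.last n)).isoOpensRange.inv ≫ f (Fin.last n) ≫ w := by
        rw [← Category.assoc]
        congr 1
        rw [Iso.eq_inv_comp]
        exact h1
      rw [h2]
      have := hf (Fin.last n)
      infer_instance
    · have hr : ∀ i : Fin n, Set.range (f i.castSucc) ⊆ Set.range B.ι := by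
        intro i x hx
        rw [Scheme.Opens.range_ι]
        exact Opens.mem_iSup.2 ⟨i, hx⟩
      let f' : ∀ i : Fin n, X i.castSucc ⟶ B.toScheme := fun i =>
        IsOpenImmersion.lift B.ι (f i.castSucc) (hr i)
      have hf' : ∀ i, f' i ≫ B.ι = f i.castSucc := fun i => IsOpenImmersion.lift_fac _ _ _
      refine ih (B.ι ≫ w) (fun i => X i.castSucc) f' (fun i => ?_) (fun i j hij => ?_)
        (fun b => ?_) (fun i => ?_)
      · have : IsOpenImmersion (f' i ≫ B.ι) := by rw [hf']; exact ho _
        exact IsOpenImmersion.of_comp (f' i) B.ι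
      · rw [Set.disjoint_left]
        rintro _ ⟨x, rfl⟩ ⟨y, hy⟩
        have h1 : f i.castSucc x = f j.castSucc y := by
          rw [← hf', ← hf', Scheme.Hom.comp_apply, Scheme.Hom.comp_apply, hy]
        exact Set.disjoint_left.1 (hd i.castSucc j.castSucc
          (fun h => hij (Fin.castSucc_injective n h))) ⟨x, rfl⟩ ⟨y, h1.symm⟩
      · obtain ⟨i, x, hx⟩ := Opens.mem_iSup.1 b.2
        refine ⟨i, x, ?_⟩
        apply B.ι.injective
        rw [← Scheme.Hom.comp_apply, hf', hx]
        rfl
      · rw [← Category.assoc, hf']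
        exact hf _

/-- A finite disjoint union of algebraic spaces finite over Y is finite over Y. -/
theorem result {S : Scheme.{u}} {n : ℕ} (X : Fin n → AlgSp.Space S) (Y : AlgSp.Space S)
    (g : ∀ i, X i ⟶ Y) (hg : ∀ i, AlgSp.IsFiniteMor (g i).hom) (c : Cofan fun i => (X i).obj) (hc : IsColimit c)
    (d : c.pt ⟶ Y.obj) (hd : ∀ i, c.inj i ≫ d = (g i).hom) : AlgSp.IsFiniteMor d := by
  intro Z hZ ξ
  let c' : Cofan (fun i : ULift.{u} (Fin n) => (X i.down).obj) :=
    Cofan.mk c.pt (fun i => c.inj i.down)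
  have hc' : IsColimit c' := mkCofanColimit c'
    (fun s => Cofan.IsColimit.desc hc (fun i => s.inj ⟨i⟩))
    (fun s i => Cofan.IsColimit.fac hc _ i.down)
    (fun s m hm => Cofan.IsColimit.hom_ext hc _ _ (fun i => by
      rw [Cofan.IsColimit.fac]; exact hm ⟨i⟩))
  have hrep : ∀ i, AlgSp.RepWith @IsFinite (g i).hom := fun i =>
    (Groth.Agent.S10267.result (g i)).2.1 (hg i)
  have h' : ∀ i : ULift.{u} (Fin n), AlgSp.Representable (c'.inj i ≫ d) := fun i => by
    show AlgSp.Representable (c.inj i.down ≫ d)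
    rw [hd]; exact (hrep i.down).rep
  obtain ⟨W₀, w₀, a₀, sq₀, -⟩ := exists_rep_desc c' hc' d h' ξ
  obtain ⟨W, hdis, hcov, hW⟩ := exists_clopen_decomposition c hc a₀
  have hfin : ∀ i, IsFinite ((W i).ι ≫ w₀.left) := by
    intro i
    obtain ⟨b, sqb⟩ := hW i
    have h1 := (sqb.flip.paste_horiz sq₀.flip).flip
    rw [hd, ← CategoryTheory.Functor.map_comp] at h1
    exact (hrep i).property ξ b _ h1
  have hfin' : IsFinite w₀.left :=
    isFinite_of_finite_disjoint_cover n w₀.left (fun i => (W i).toScheme) (fun i => (W i).ι)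
      (fun i => inferInstance)
      (fun i j hij => by
        rw [Scheme.Opens.range_ι, Scheme.Opens.range_ι]
        have := hdis i j hij
        rw [disjoint_iff] at this
        rw [Set.disjoint_iff_inter_eq_empty, ← Opens.coe_inf, this]
        rfl)
      (fun x => by
        have hx : x ∈ ⨆ i, W i := by rw [hcov]; trivial
        obtain ⟨i, hi⟩ := Opens.mem_iSup.1 hx
        exact ⟨i, by rw [Scheme.Opens.range_ι]; exact hi⟩) hfin
  refine ⟨W₀, w₀, a₀, sq₀, ?_, hfin'⟩
  haveI : IsAffine Z.left := hZ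
  exact isAffine_of_isAffineHom w₀.left

end Groth.Agent.S10325
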