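import Groth.Statements.S10327
import Mathlib
import Groth.Agent.Lib.H5bValDescC
import Groth.Agent.Lib.H5bDvrUC
import Groth.Agent.S10288
import Groth.Agent.S10289
import Groth.Agent.S10290
import Groth.Agent.S10291

set_option autoImplicit false
universe u
open CategoryTheory CategoryTheory.Limits AlgebraicGeometry
open AlgSp

namespace Groth.Agent.S10327

/-- For f quasi-compact and quasi-separated, f is separated and universally closed if and only if the
valuative criterion holds, if and only if every valuative square has a unique lift. -/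
theorem result {S : Scheme.{u}} {X Y : AlgSp.Space S} (f : X ⟶ Y)
    (hqc : AlgSp.IsQuasiCompactMor f.hom) (hqs : AlgSp.IsQuasiSeparatedMor f.hom) :
    ((AlgSp.IsSeparatedMor f.hom ∧ AlgSp.IsUnivClosedMor f.hom) ↔ AlgSp.VC f.hom) ∧
    ((AlgSp.IsSeparatedMor f.hom ∧ AlgSp.IsUnivClosedMor f.hom) ↔
      (AlgSp.UniqVC f.hom ∧ AlgSp.ExistVCStrict f.hom)) := by
  have hA : (AlgSp.IsSeparatedMor f.hom ∧ AlgSp.IsUnivClosedMor f.hom) ↔ AlgSp.VC f.hom := by
    constructor
    · rintro ⟨h1, h2⟩
      exact ⟨Groth.Agent.S10290.result f h1, Groth.Agent.S10289.result f hqs h2⟩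
    · rintro ⟨h1, h2⟩
      exact ⟨Groth.Agent.S10291.result f hqs h1, Groth.Agent.S10288.result f hqc h2⟩
  refine ⟨hA, ?_⟩
  constructor
  · rintro ⟨h1, h2⟩
    refine ⟨Groth.Agent.S10290.result f h1, fun sq => ?_⟩
    obtain ⟨e, he⟩ := Groth.Agent.S10289.result f hqs h2 sq
    exact Groth.Agent.Lib.H5bValDesc.hasLift_of_domExt f h1 sq e he
  · rintro ⟨h1, h2⟩
    exact ⟨Groth.Agent.S10291.result f hqs h1, Groth.Agent.S10288.result f hqc
      (fun sq => Groth.Agent.Lib.H5bDvrUC.hasLiftExt_of_hasLift sq (h2 sq))⟩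

end Groth.Agent.S10327
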