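import Groth.Statements.S10328
import Mathlib
import Groth.Agent.Lib.H5bHasAtMor
import Groth.Agent.Lib.Helper3CompDim

set_option autoImplicit false
universe u
open CategoryTheory CategoryTheory.Limits AlgebraicGeometry
open AlgSp

namespace Groth.Agent.S10328

/-- The relative dimension of a composite at a point is at most the sum of the relative dimensions, with
equality when the first morphism is flat at the point. (The published part (2) allows more generally
flatness of a fibre of X -> Y over a field point of Z; only the case f flat at x is stated.) -/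
theorem result {S : Scheme.{u}} {X Y Z : AlgSp.Space S} (f : X ⟶ Y) (g : Y ⟶ Z)
    (hf : AlgSp.LocP @LocallyOfFiniteType f.hom) (hg : AlgSp.LocP @LocallyOfFiniteType g.hom)
    (x : AlgSp.Points X.obj) (a b : WithBot ℕ∞)
    (ha : AlgSp.HasAtMor (fun _ _ h u => FlatMor.fibreDimAt h u = a) f.hom x)
    (hb : AlgSp.HasAtMor (fun _ _ h u => FlatMor.fibreDimAt h u = b) g.hom (AlgSp.Points.map f.hom x)) :
    AlgSp.HasAtMor (fun _ _ h u => FlatMor.fibreDimAt h u ≤ a + b) (f ≫ g).hom x ∧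
    (AlgSp.IsFlatAtMor f.hom x → AlgSp.HasAtMor (fun _ _ h u => FlatMor.fibreDimAt h u = a + b) (f ≫ g).hom x) := by
  obtain ⟨T₀, r, hr, hrs⟩ := Z.property.atlas
  obtain ⟨V₀, q, hq, hqs⟩ := Y.property.atlas
  obtain ⟨U₀, p, hp, hps⟩ := X.property.atlas
  obtain ⟨V, prV, k, hprV, hwV, hptV⟩ :=
    Groth.Agent.Lib.H5bLqfDim.exists_chartPullback g.hom q r hr
  have hbV : AlgSp.RepWith @Etale ((AlgSp.yon S).map prV ≫ q) :=
    (AlgSp.RepWith @Etale).comp_mem _ _ ((AlgSp.repWith_yon_map_iff @Etale prV).2 hprV) hq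
  obtain ⟨U, prU, h, hprU, hwU, hptU⟩ :=
    Groth.Agent.Lib.H5bLqfDim.exists_chartPullback f.hom p ((AlgSp.yon S).map prV ≫ q) hbV
  have haU : AlgSp.RepWith @Etale ((AlgSp.yon S).map prU ≫ p) :=
    (AlgSp.RepWith @Etale).comp_mem _ _ ((AlgSp.repWith_yon_map_iff @Etale prU).2 hprU) hp
  have hcomp : ((AlgSp.yon S).map prU ≫ p) ≫ (f ≫ g).hom = (AlgSp.yon S).map (h ≫ k) ≫ r := by
    show ((AlgSp.yon S).map prU ≫ p) ≫ (f.hom ≫ g.hom) = _
    rw [← Category.assoc, hwU, Category.assoc, hwV, Functor.map_comp, Category.assoc]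
  have hlfth : LocallyOfFiniteType h.left := hf _ _ h haU hbV hwU
  have hlftk : LocallyOfFiniteType k.left := hg _ _ k hbV hr hwV
  -- points
  obtain ⟨u₀, hu₀⟩ := Groth.Agent.S10177.surjective_ofPt p hps x
  obtain ⟨v₀, hv₀⟩ := Groth.Agent.S10177.surjective_ofPt q hqs (AlgSp.Points.map f.hom x)
  obtain ⟨t₀, ht₀⟩ := Groth.Agent.S10177.surjective_ofPt r hrs
    (AlgSp.Points.map g.hom (AlgSp.Points.map f.hom x))
  obtain ⟨v, hv1, hv2⟩ := hptV v₀ t₀ (by
    rw [ht₀, ← hv₀]; rfl)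
  have hvy : AlgSp.Points.ofPt ((AlgSp.yon S).map prV ≫ q) v = AlgSp.Points.map f.hom x := by
    rw [Groth.Agent.S10176.ofPt_map_comp, hv1, hv₀]
  obtain ⟨u, hu1, hu2⟩ := hptU u₀ v (by
    rw [hvy, ← hu₀]; rfl)
  have hux : AlgSp.Points.ofPt ((AlgSp.yon S).map prU ≫ p) u = x := by
    rw [Groth.Agent.S10176.ofPt_map_comp, hu1, hu₀]
  have e1 : FlatMor.fibreDimAt h.left u = a :=
    (Groth.Agent.Lib.H5bHasAtMor.hasAtMor_iff_of_chart
      (Groth.Agent.Lib.H5bHasAtMor.etLocalQ_fibreDimAt (fun e => e = a)) f.hom _ _ _ h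
      haU hbV hwU u hux).1 ha
  have e2 : FlatMor.fibreDimAt k.left (h.left u) = b :=
    (Groth.Agent.Lib.H5bHasAtMor.hasAtMor_iff_of_chart
      (Groth.Agent.Lib.H5bHasAtMor.etLocalQ_fibreDimAt (fun e => e = b)) g.hom _ _ _ k
      hbV hr hwV (h.left u) (by rw [hu2]; exact hvy)).1 hb
  have key := Groth.Agent.Lib.Helper3.CompDim.fibreDimAt_comp h.left k.left u
  rw [e1, e2] at key
  refine ⟨⟨U, T₀, _, r, h ≫ k, u, haU, hr, hcomp, hux, key.1⟩, fun hflat => ?_⟩
  refine ⟨U, T₀, _, r, h ≫ k, u, haU, hr, hcomp, hux, key.2 ?_⟩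
  exact hflat _ _ h u haU hbV hwU hux

end Groth.Agent.S10328
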