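import Groth.Statements.S10329
import Mathlib
import Groth.Agent.S10313
import Groth.Agent.S5341
import Groth.Agent.Lib.Helper12LocPCases

set_option autoImplicit false
universe u
open CategoryTheory CategoryTheory.Limits AlgebraicGeometry
open AlgSp

namespace Groth.Agent.S10329

/-- If the fibre of a morphism locally of finite type has dimension 0 at a point, then the morphism is
locally quasi-finite on some open subspace containing the image of that point. -/
theorem result {S : Scheme.{u}} {X Y F : AlgSp.Space S} (f : X ⟶ Y)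
    (hf : AlgSp.LocP @LocallyOfFiniteType f.hom) (k : Type u) [Field k] (str : Spec (.of k) ⟶ S)
    (y : (AlgSp.yon S).obj (Over.mk str) ⟶ Y.obj) (p : F ⟶ X) (q : F.obj ⟶ (AlgSp.yon S).obj (Over.mk str))
    (sq : IsPullback p.hom q f.hom y) (z : AlgSp.Points F.obj)
    (hz : AlgSp.HasAt (fun U u => FlatMor.localDim ↥U u = 0) F.obj z) :
    ∃ (X' : AlgSp.Space S) (j : X' ⟶ X), AlgSp.RepWith @IsOpenImmersion j.hom ∧
      AlgSp.Points.map p.hom z ∈ Set.range (AlgSp.Points.map j.hom) ∧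
      AlgSp.LocP (@LocallyQuasiFinite ⊓ @LocallyOfFiniteType) (j ≫ f).hom := by
  obtain ⟨X', j, hj, hlqf, -, hbc⟩ := Groth.Agent.S10313.result f hf
  refine ⟨X', j, hj, ?_, hlqf⟩
  let Y'' : AlgSp.Space S := ⟨(AlgSp.yon S).obj (Over.mk str), AlgSp.IsAlgSpace.yon_obj _⟩
  let g : Y'' ⟶ Y := ObjectProperty.homMk y
  let f'' : F ⟶ Y'' := ObjectProperty.homMk q
  have sq' : IsPullback p.hom f''.hom f.hom g.hom := sq
  rw [hbc Y'' F g p f'' sq' z]
  obtain ⟨U₁, a₁, u₁, ha₁, hu₁, h0⟩ := hz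
  obtain ⟨h₁, hh₁⟩ := (AlgSp.yon S).map_surjective (a₁ ≫ q)
  have hq : AlgSp.LocP @LocallyOfFiniteType q :=
    Groth.Agent.Lib.Helper12.LocPCases.good_lft.locP_baseChange X.property Y.property
      (AlgSp.IsAlgSpace.yon_obj _) sq hf
  have hlft : LocallyOfFiniteType h₁.left :=
    hq a₁ (𝟙 _) h₁ ha₁ (AlgSp.repWith_id _ _) (by rw [hh₁, Category.comp_id])
  refine ⟨U₁, Over.mk str, a₁, 𝟙 _, h₁, u₁, ha₁, AlgSp.repWith_id _ _,
    (by show a₁ ≫ q = _; rw [hh₁, Category.comp_id]), hu₁, ?_⟩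
  show ∃ W : U₁.left.Opens, u₁ ∈ W ∧ LocallyQuasiFinite (W.ι ≫ h₁.left) ∧
    LocallyOfFiniteType (W.ι ≫ h₁.left)
  rw [Groth.Agent.S10313.exists_open_lqf_iff h₁.left u₁]
  have : Subsingleton ↥(Over.mk str).left :=
    show Subsingleton ↥(Spec (CommRingCat.of k)) from inferInstance
  rw [Groth.Agent.S5341.fibreDimAt_eq_localDim_of_subsingleton h₁.left u₁, h0]

end Groth.Agent.S10329
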