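import Groth.Statements.S10333
import Mathlib
import Groth.Agent.S10192
import Groth.Agent.S10193
import Groth.Agent.S10267
import Groth.Agent.Lib.Helper12OpenSub2
import Groth.Agent.Lib.Helper15MonoSep
import Groth.Agent.Lib.Helper8InfNbhd

set_option autoImplicit false
set_option linter.style.haveILetI false
universe u
open CategoryTheory CategoryTheory.Limits AlgebraicGeometry
open AlgSp

namespace Groth.Agent.S10333

/-- Let f : Y -> X be a morphism of algebraic spaces over S that is quasi-compact and quasi-separated,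
and X' -> X the normalization of X in Y (an integral morphism through which f factors, initial among
such factorizations). If Y is reduced then X' is reduced. -/
theorem result {S : Scheme.{u}} {Y X X' : AlgSp.Space S} (f : Y ⟶ X)
    (hqc : AlgSp.IsQuasiCompactMor f.hom) (hqs : AlgSp.IsQuasiSeparatedMor f.hom) (ν : X' ⟶ X) (f' : Y ⟶ X')
    (hn : AlgSp.IsRelNormalization f.hom ν.hom f'.hom) (hY : AlgSp.IsReducedSp Y.obj) :
    AlgSp.IsReducedSp X'.obj := by
  obtain ⟨hw, hνint, huniv⟩ := hn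
  obtain ⟨Z, i, hicl, hirange, hZred⟩ := Groth.Agent.S10192.result X' Set.univ isClosed_univ
  obtain ⟨g, hg⟩ := (Groth.Agent.S10193.result i hicl hY f').2
    (by rw [hirange]; exact Set.subset_univ _)
  have hmulI := AlgSp.repWith_isMultiplicative (S := S) @IsIntegralHom
  have hmulE := AlgSp.repWith_isMultiplicative (S := S) @Etale
  have hmulS := AlgSp.repWith_isMultiplicative (S := S) @Surjective
  -- `i ≫ ν` is integral
  have hiint : AlgSp.RepWith @IsIntegralHom i.hom :=
    Groth.Agent.Lib.Helper12.OpenSub.repWith_mono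
      (fun _ _ k hk => by haveI : IsClosedImmersion k := hk; infer_instance) hicl
  have hνint' : AlgSp.RepWith @IsIntegralHom ν.hom := (Groth.Agent.S10267.result ν).1.1 hνint
  have hπ : AlgSp.IsIntegralMor (i ≫ ν).hom :=
    (Groth.Agent.S10267.result (i ≫ ν)).1.2 (hmulI.comp_mem _ _ hiint hνint')
  have hgπ : g.hom ≫ (i ≫ ν).hom = f.hom := by
    have h1 : g.hom ≫ i.hom = f'.hom := congrArg (fun m => m.hom) hg
    show g.hom ≫ i.hom ≫ ν.hom = f.hom
    rw [← Category.assoc, h1, hw]
  obtain ⟨h, ⟨hh1, hh2⟩, -⟩ := huniv Z.property (i ≫ ν).hom g.hom hπ hgπ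
  have hgi : g.hom ≫ i.hom = f'.hom := congrArg (fun m => m.hom) hg
  -- `h ≫ i = 𝟙`
  obtain ⟨h₀, -, huniq⟩ := huniv X'.property ν.hom f'.hom hνint hw
  have e1 : h ≫ i.hom = h₀ := huniq _ ⟨by rw [← Category.assoc, hh1, hgi], by
    rw [Category.assoc]; exact hh2⟩
  have e2 : 𝟙 X'.obj = h₀ := huniq _ ⟨Category.comp_id _, Category.id_comp _⟩
  have hhi : h ≫ i.hom = 𝟙 X'.obj := e1.trans e2.symm
  haveI : Mono i.hom := Groth.Agent.Lib.Helper8InfNbhd.mono_of_closed i.hom hicl
  have hih : i.hom ≫ h = 𝟙 Z.obj := by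
    rw [← cancel_mono i.hom, Category.assoc, hhi, Category.comp_id, Category.id_comp]
  haveI : IsIso i.hom := ⟨h, hih, hhi⟩
  obtain ⟨U, p, hpe, hps, hU⟩ := hZred
  refine ⟨U, p ≫ i.hom, hmulE.comp_mem _ _ hpe
    (Groth.Agent.Lib.Helper15MonoSep.repWith_of_isIso @Etale i.hom),
    hmulS.comp_mem _ _ hps
    (Groth.Agent.Lib.Helper15MonoSep.repWith_of_isIso @Surjective i.hom), hU⟩

end Groth.Agent.S10333
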