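import Groth.Statements.S10350
import Mathlib
import Groth.Agent.S10361
import Groth.Agent.S10351
import Groth.Agent.S9920

set_option autoImplicit false
universe u
open CategoryTheory CategoryTheory.Limits AlgebraicGeometry Topology TopologicalSpace
open AlgSp

namespace Groth.Agent.S10350

/-- For a scheme S, every algebraic space X over S whose diagonal X ⟶ X ×_S X is representable
quasi-compact (X quasi-separated over S) is decent: each point of |X| is the class of some
monomorphism Spec k ⟶ X which is representable quasi-compact. (The published statement assumes X
quasi-separated in the absolute sense, a condition which implies quasi-separatedness over S; this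
row assumes only quasi-separatedness over S.) -/
theorem result {S : Scheme.{u}} (X : AlgSp.Space S)
    (hX : AlgSp.IsQuasiSeparatedSp X.obj) : AlgSp.IsDecent X.obj := by
  intro x
  obtain ⟨q, rfl⟩ := AlgSp.Points.mk_surjective x
  have : Finite ↥q.pt.left := (inferInstance : Finite (PrimeSpectrum q.K))
  have hqc : AlgSp.RepWith @QuasiCompact q.toHom := by
    refine ⟨X.property.representable_from_yon _, fun T P' g fst snd sq => ?_⟩
    obtain ⟨φ, rfl⟩ := (AlgSp.yon S).map_surjective fst
    have h1 : QuasiCompact (prod.lift φ snd).left :=
      Groth.Agent.S9920.property_of_repWith_diag hX sq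
    have : QuasiCompact q.pt.hom := Groth.Agent.S10351.quasiCompact_of_finite _
    have h2 : QuasiCompact (prod.snd : q.pt ⨯ T ⟶ T).left := by
      rw [← Over.prodLeftIsoPullback_hom_snd]
      infer_instance
    have h3 : snd.left = (prod.lift φ snd).left ≫ (prod.snd : q.pt ⨯ T ⟶ T).left := by
      rw [← Over.comp_left, prod.lift_snd]
    show QuasiCompact snd.left
    rw [h3]
    infer_instance
  exact Groth.Agent.S10361.result X q hqc

end Groth.Agent.S10350
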