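import Groth.Statements.S10352
import Mathlib
import Groth.Agent.S10206
import Groth.Agent.S10497
import Groth.Agent.S10554
import Groth.Agent.S10175
import Groth.Agent.S9874
import Groth.Agent.Lib.Helper12LocPCases
import Groth.Agent.Lib.Helper12SrcLocal

set_option autoImplicit false
universe u
open CategoryTheory CategoryTheory.Limits AlgebraicGeometry Topology TopologicalSpace
open AlgSp

namespace Groth.Agent.S10352

lemma exists_iso_yon' {S : Scheme.{u}} (N : AlgSp.Sp S) (h : N.obj.IsRepresentable) :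
    ∃ (Z : Over S), Nonempty ((AlgSp.yon S).obj Z ≅ N) := by
  have := h
  refine ⟨N.obj.reprX, ⟨?_⟩⟩
  exact (fullyFaithfulSheafToPresheaf _ _).preimageIso (N.obj.uliftYonedaReprXIso)

/-- Let S be a scheme, X and Y algebraic spaces over S, and f : X ⟶ Y an etale morphism. If Y is decent
then X is decent. -/
theorem result {S : Scheme.{u}} {X Y : AlgSp.Space S} (f : X ⟶ Y)
    (hf : AlgSp.IsEtaleMor f.hom) (hY : AlgSp.IsDecent Y.obj) : AlgSp.IsDecent X.obj := by
  intro x
  obtain ⟨p, hp, hpm, hpq⟩ := hY (AlgSp.Points.map f.hom x)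
  have sq := IsPullback.of_hasPullback f.hom p.toHom
  have hP : AlgSp.IsAlgSpace (pullback f.hom p.toHom) :=
    Groth.Agent.S9874.isAlgSpace_of_isPullback Y.property.diag X.property
      (AlgSp.IsAlgSpace.yon_obj _) sq
  have hsnd : AlgSp.IsEtaleMor (pullback.snd f.hom p.toHom) :=
    Groth.Agent.S10554.isEtaleMor_of_locP (AlgSp.IsAlgSpace.yon_obj _) _
      (Groth.Agent.Lib.Helper12.LocPCases.good_etale.locP_baseChange X.property Y.property
        (AlgSp.IsAlgSpace.yon_obj _) sq
        (Groth.Agent.Lib.Helper12.SrcLocal.locP_etale_of_isEtaleMor f.hom hf))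
  have hrep : (pullback f.hom p.toHom).obj.IsRepresentable :=
    Groth.Agent.S10206.result ⟨_, hP⟩ p.K p.str (pullback.snd f.hom p.toHom) hsnd
  obtain ⟨T, ⟨e⟩⟩ := exists_iso_yon' _ hrep
  -- a point of the fibre over `x`
  let s₀ : ↥p.pt.left := IsLocalRing.closedPoint p.K
  have e0 : AlgSp.Points.map f.hom x =
      AlgSp.Points.map p.toHom (AlgSp.Points.ofScheme p.pt s₀) := by
    rw [← AlgSp.Points.ofPt_eq_map_ofScheme, AlgSp.Points.ofPt_toHom, hp]
  obtain ⟨z, hz1, -⟩ := Groth.Agent.S10175.exists_point_of_isPullback sq x _ e0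
  obtain ⟨q, hq, hqm, hqc⟩ := Groth.Agent.S10497.isDecent_yon_obj T (AlgSp.Points.map e.inv z)
  have hfm : Mono (pullback.fst f.hom p.toHom) := @IsPullback.mono_fst_of_mono _ _ _ _ _ _ _ _ _ _ sq hpm
  refine ⟨q.map (e.hom ≫ pullback.fst f.hom p.toHom), ?_, ?_, ?_⟩
  · rw [← AlgSp.Points.map_mk, hq, AlgSp.Points.map_comp, ← AlgSp.Points.map_comp e.inv e.hom,
      e.inv_hom_id, AlgSp.Points.map_id]
    exact hz1
  · rw [AlgSp.FieldPt.toHom_map]
    have h1 : Mono (e.hom ≫ pullback.fst f.hom p.toHom) := mono_comp _ _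
    exact @mono_comp _ _ _ _ _ _ hqm _ h1
  · rw [AlgSp.FieldPt.toHom_map]
    refine (AlgSp.RepWith @QuasiCompact).comp_mem _ _ hqc ?_
    exact MorphismProperty.RespectsIso.precomp _ e.hom _
      (MorphismProperty.of_isPullback (P := AlgSp.RepWith @QuasiCompact) sq.flip hpq)

end Groth.Agent.S10352
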