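import Groth.Statements.S10410
import Mathlib
import Groth.Agent.Lib.H5bFQ3

set_option autoImplicit false
set_option linter.style.haveILetI false
universe u
open CategoryTheory CategoryTheory.Limits AlgebraicGeometry Topology TopologicalSpace
open AlgSp

namespace Groth.Agent.S10410

/-- Let X be an algebraic space over a scheme S, x ∈ |X|, and φ : U ⟶ X etale with U a scheme. Then x
lies in the image of |U| and the fibres of |U| → |X| and |U ×_X U| → |X| over x are finite, if and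
only if x is represented by a monomorphism Spec k ⟶ X such that Spec k ×_X U is a nonempty scheme
finite over k. -/
theorem result {S : Scheme.{u}} (X : AlgSp.Space S) (x : AlgSp.Points X.obj)
    {U : Over S} (φ : (AlgSp.yon S).obj U ⟶ X.obj) (hφ : AlgSp.RepWith @Etale φ) :
    (x ∈ Set.range (AlgSp.Points.ofPt φ) ∧ (AlgSp.Points.ofPt φ ⁻¹' {x}).Finite ∧
        ∀ (R : Over S) (s t : R ⟶ U), IsPullback ((AlgSp.yon S).map t) ((AlgSp.yon S).map s) φ φ →
          (AlgSp.Points.ofPt ((AlgSp.yon S).map t ≫ φ) ⁻¹' {x}).Finite) ↔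
      ∃ p : AlgSp.FieldPt X.obj, AlgSp.Points.mk p = x ∧ Mono p.toHom ∧
        ∀ (T : Over S) (c : T ⟶ p.pt) (snd : (AlgSp.yon S).obj T ⟶ (AlgSp.yon S).obj U),
          IsPullback ((AlgSp.yon S).map c) snd p.toHom φ → Nonempty ↥T.left ∧ IsFinite c.left := by
  have hX := X.property
  constructor
  · rintro ⟨⟨u, hu⟩, hfinU, hfinR⟩
    have hrep := hφ.1
    have sqR := hrep.isPullback' φ
    have hfin' : {r : ↥(hrep.pullback φ).left | (hrep.snd φ).left r = u ∧
        (hrep.fst' φ).left r = u}.Finite := by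
      refine (hfinR _ _ _ sqR).subset ?_
      rintro r ⟨-, hr⟩
      change AlgSp.Points.ofPt ((AlgSp.yon S).map (hrep.fst' φ) ≫ φ) r = x
      rw [Groth.Agent.S10176.ofPt_map_comp, hr, hu]
    have hrepu := hX.representable_from_yon (AlgSp.FieldPt.ofPt φ u).toHom
    have sqF := hrepu.isPullback' (AlgSp.FieldPt.ofPt φ u).toHom
    haveI : IsFinite (hrepu.snd (AlgSp.FieldPt.ofPt φ u).toHom).left :=
      Groth.Agent.Lib.H5bFQ3.isFinite_selfProduct_of_chart_point φ hφ _ _ sqR u hfin' _ _ sqF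
    obtain ⟨q', c, h1, h2, -, -, -, -⟩ :=
      Groth.Agent.Lib.H5bFQ.exists_mono_quotient (AlgSp.FieldPt.ofPt φ u) _ _ sqF
    have hq'x : AlgSp.Points.mk q' = x :=
      (Groth.Agent.Lib.H5bFQ.mk_eq_of_factor _ q' c h2).trans hu
    refine ⟨q', hq'x, h1, fun T c' snd sq => ?_⟩
    obtain ⟨d, rfl⟩ := (AlgSp.yon S).map_surjective snd
    haveI := h1
    constructor
    · have e : AlgSp.Points.ofPt φ u =
          AlgSp.Points.ofPt q'.toHom (IsLocalRing.closedPoint q'.K) := by
        rw [AlgSp.Points.ofPt_toHom, hq'x, hu]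
      obtain ⟨y, -, -⟩ := Groth.Agent.S10176.exists_point_of_isPullback_yon sq.flip u _ e
      exact ⟨y⟩
    · exact Groth.Agent.Lib.H5bFQ3.isFinite_of_mono_point q' φ hφ c' d sq (hq'x ▸ hfinU)
  · rintro ⟨p, hp, hm, H⟩
    have hrep := hφ.1
    have sq := (hrep.isPullback' p.toHom).flip
    obtain ⟨⟨τ⟩, hfin⟩ := H _ _ _ sq
    haveI := hfin
    refine ⟨⟨(hrep.fst' p.toHom).left τ, ?_⟩, ?_, fun R s t sqR => ?_⟩
    · exact (Groth.Agent.Lib.H5bFQ3.ofPt_eq_mk_of_sq p φ _ _ sq.w τ).trans hp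
    · rw [← hp]
      exact Groth.Agent.Lib.H5bFQ3.finite_fibre_of_isFinite p φ _ _ sq
    · rw [← hp]
      exact Groth.Agent.Lib.H5bFQ3.finite_fibre_R_of_isFinite p φ _ _ sq s t sqR

end Groth.Agent.S10410
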