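import Groth.Statements.S10360
import Mathlib
import Groth.Agent.Lib.H5bFQ4
import Groth.Agent.Lib.H5bDvrExt
import Groth.Agent.S10410

set_option autoImplicit false
set_option linter.style.haveILetI false
universe u
open CategoryTheory CategoryTheory.Limits AlgebraicGeometry Topology TopologicalSpace
open AlgSp

namespace Groth.Agent.S10360

/-- (1) ⇔ (4): for an algebraic space X over a scheme S and x ∈ |X|, the fibres over x of |U| → |X| and
|U ×_X U| → |X| are finite for every etale h_U ⟶ X with U affine, if and only if x is represented by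
a monomorphism Spec k ⟶ X which is representable quasi-compact. -/
theorem result {S : Scheme.{u}} (X : AlgSp.Space S)
    (x : AlgSp.Points X.obj) :
    (∀ (U : Over S) (φ : (AlgSp.yon S).obj U ⟶ X.obj), IsAffine U.left → AlgSp.RepWith @Etale φ →
        ∀ (R : Over S) (s t : R ⟶ U), IsPullback ((AlgSp.yon S).map t) ((AlgSp.yon S).map s) φ φ →
          (AlgSp.Points.ofPt φ ⁻¹' {x}).Finite ∧ (AlgSp.Points.ofPt ((AlgSp.yon S).map t ≫ φ) ⁻¹' {x}).Finite) ↔
      ∃ p : AlgSp.FieldPt X.obj, AlgSp.Points.mk p = x ∧ Mono p.toHom ∧ AlgSp.RepWith @QuasiCompact p.toHom := by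
  have hX := X.property
  constructor
  · intro H
    obtain ⟨U, φ, u, hU, hφ, hu⟩ := Groth.Agent.Lib.H5bDvrExt.exists_affine_chart_at hX x
    obtain ⟨p, hp, hm, -⟩ := (Groth.Agent.S10410.result X x φ hφ).1
      ⟨⟨u, hu⟩, (H U φ hU hφ _ _ _ (hφ.1.isPullback' φ)).1,
        fun R s t sqR => (H U φ hU hφ R s t sqR).2⟩
    refine ⟨p, hp, hm, ?_⟩
    refine Groth.Agent.Lib.H5bFQ4.repWith_quasiCompact_of_charts hX p.toHom
      (fun U' φ' hU' hφ' T c d sq => ?_)
    have hfinU' := (H U' φ' hU' hφ' _ _ _ (hφ'.1.isPullback' φ')).1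
    haveI := hm
    haveI : IsFinite c.left :=
      Groth.Agent.Lib.H5bFQ3.isFinite_of_mono_point p φ' hφ' c d sq (hp ▸ hfinU')
    haveI : Finite ↥T.left := Groth.Agent.Lib.H5bFQ3.finite_of_isFinite_field (k := p.K) c.left
    exact Finite.compactSpace
  · rintro ⟨p, hp, hm, hq⟩ U φ hU hφ R s t sqR
    have hrep := hφ.1
    have sq := (hrep.isPullback' p.toHom).flip
    haveI : QuasiCompact (hrep.fst' p.toHom).left := hq.2 _ _ _ sq
    haveI : CompactSpace ↥U.left := inferInstance
    haveI : CompactSpace ↥(hrep.pullback p.toHom).left :=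
      QuasiCompact.compactSpace_of_compactSpace (hrep.fst' p.toHom).left
    haveI : Etale (hrep.snd p.toHom).left := hφ.2 _ _ _ sq.flip
    haveI : LocallyQuasiFinite (hrep.snd p.toHom).left :=
      Groth.Agent.Lib.H9Slice.locallyQuasiFinite_of_etale _
    haveI : IsAffine p.pt.left := (inferInstance : IsAffine (Spec (CommRingCat.of p.K)))
    haveI : QuasiCompact (hrep.snd p.toHom).left :=
      (HasAffineProperty.iff_of_isAffine (P := @QuasiCompact)).mpr
        (inferInstance : CompactSpace ↥(hrep.pullback p.toHom).left)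
    haveI : IsLocallyArtinian p.pt.left := by
      show IsLocallyArtinian (Spec (CommRingCat.of p.K))
      rw [Scheme.isLocallyArtinianScheme_Spec]
      exact (inferInstance : IsArtinianRing p.K)
    haveI : IsFinite (hrep.snd p.toHom).left := IsFinite.of_locallyQuasiFinite _
    rw [← hp]
    exact ⟨Groth.Agent.Lib.H5bFQ3.finite_fibre_of_isFinite p φ _ _ sq,
      Groth.Agent.Lib.H5bFQ3.finite_fibre_R_of_isFinite p φ _ _ sq s t sqR⟩

end Groth.Agent.S10360
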