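import Groth.Statements.S10364
import Mathlib
import Groth.Agent.S10360
import Groth.Agent.S10363
import Groth.Agent.S10410
import Groth.Agent.S10177
import Groth.Agent.S9928
import Groth.Agent.Lib.H5bFQ3
import Groth.Agent.Lib.Helper12LargestOpen

set_option autoImplicit false
set_option linter.style.haveILetI false
universe u
open CategoryTheory CategoryTheory.Limits AlgebraicGeometry Topology TopologicalSpace
open AlgSp

namespace Groth.Agent.S10364

open CategoryTheory.Limits Opposite MorphismProperty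

variable {S : Scheme.{u}}

/-- Let X be an algebraic space over a scheme S with a Zariski covering by open subspaces X_i ⟶ X. If
each X_i is decent then X is decent. -/
theorem result {S : Scheme.{u}} (X : AlgSp.Space S) {ι : Type u} (Xi : ι → AlgSp.Space S)
    (j : ∀ i, Xi i ⟶ X) (hj : AlgSp.IsZarCover (fun i => (Xi i).obj) (fun i => (j i).hom))
    (hd : ∀ i, AlgSp.IsDecent (Xi i).obj) : AlgSp.IsDecent X.obj := by
  classical
  obtain ⟨hjo, hjs⟩ := hj
  haveI hmono : ∀ i, Mono (j i).hom := fun i =>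
    Groth.Agent.S9928.mono_of_repWith @IsOpenImmersion
      (fun X Y g hg => by haveI : IsOpenImmersion g := hg; infer_instance) _ (hjo i)
  have hje : ∀ i, AlgSp.RepWith @Etale (j i).hom := fun i =>
    ⟨(hjo i).1, fun T W g pr w sq => by
      haveI : IsOpenImmersion w.left := (hjo i).2 g pr w sq
      change Etale w.left
      infer_instance⟩
  have hinj : ∀ i, Function.Injective (AlgSp.Points.map (j i).hom) := fun i =>
    Groth.Agent.Lib.Helper12.LargestOpen.injective_map_of_open _ (hjo i)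
  choose V0 b hbe hbs using fun i => (Xi i).property.atlas
  let K := Σ i : ι, (V0 i).left.affineOpens
  let A : K → Over S := fun k => Over.mk (k.2.1.ι ≫ (V0 k.1).hom)
  let a : ∀ k : K, A k ⟶ V0 k.1 := fun k => Over.homMk k.2.1.ι rfl
  let ψk : ∀ k : K, (AlgSp.yon S).obj (A k) ⟶ (Xi k.1).obj := fun k =>
    (AlgSp.yon S).map (a k) ≫ b k.1
  have hψk : ∀ k, AlgSp.RepWith @Etale (ψk k) := fun k =>
    (AlgSp.RepWith @Etale).comp_mem _ _
      ((AlgSp.repWith_yon_map_iff _ _).2 (inferInstance : Etale k.2.1.ι)) (hbe k.1)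
  let θ : ∀ k : K, (AlgSp.yon S).obj (A k) ⟶ X.obj := fun k => ψk k ≫ (j k.1).hom
  have hθ : ∀ k, AlgSp.RepWith @Etale (θ k) := fun k =>
    (AlgSp.RepWith @Etale).comp_mem _ _ (hψk k) (hje k.1)
  have hsurj : ∀ x : AlgSp.Points X.obj, ∃ (k : K) (v : ↥(A k).left),
      AlgSp.Points.ofPt (θ k) v = x := by
    intro x
    obtain ⟨i, xi, rfl⟩ := hjs x
    obtain ⟨v0, rfl⟩ := Groth.Agent.S10177.surjective_ofPt (b i) (hbs i) xi
    obtain ⟨_, ⟨A0, hA0, rfl⟩, hvA, -⟩ :=
      (V0 i).left.isBasis_affineOpens.exists_subset_of_mem_open (Set.mem_univ v0) isOpen_univ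
    refine ⟨⟨i, ⟨A0, hA0⟩⟩, ⟨v0, hvA⟩, ?_⟩
    rw [← AlgSp.Points.map_ofPt]
    congr 1
    exact Groth.Agent.S10176.ofPt_map_comp (a ⟨i, ⟨A0, hA0⟩⟩) (b i) ⟨v0, hvA⟩
  intro x
  refine (Groth.Agent.S10360.result X x).1 (fun U φ hU hφ R s t sqR => ?_)
  obtain ⟨i0, xi, hxi⟩ := hjs x
  have hfinθ : ∀ k, (AlgSp.Points.ofPt (θ k) ⁻¹' {x}).Finite := by
    intro k
    by_cases hk : ∃ y, AlgSp.Points.map (j k.1).hom y = x
    · obtain ⟨y, hy⟩ := hk
      have hR := (Xi k.1).property.representable_from_yon (ψk k)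
      have sqk := hR.isPullback' (ψk k)
      have h1 := ((Groth.Agent.S10360.result (Xi k.1) y).2 (hd k.1 y) (A k) (ψk k)
        (k.2.2 : IsAffineOpen k.2.1) (hψk k) _ _ _ sqk).1
      refine h1.subset ?_
      intro v hv
      apply hinj k.1
      rw [hy, AlgSp.Points.map_ofPt]
      exact hv
    · refine Set.finite_empty.subset ?_
      intro v hv
      exact (hk ⟨AlgSp.Points.ofPt (ψk k) v, by rw [AlgSp.Points.map_ofPt]; exact hv⟩).elim
  haveI : IsAffine U.left := hU
  have hfinU : (AlgSp.Points.ofPt φ ⁻¹' {x}).Finite :=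
    Groth.Agent.S10363.result X x A θ hθ hsurj hfinθ φ hφ
  refine ⟨hfinU, ?_⟩
  by_cases hx : x ∈ Set.range (AlgSp.Points.ofPt φ)
  · obtain ⟨pi, hpi, hpm, hpq⟩ := hd i0 xi
    have hp : AlgSp.Points.mk (pi.map (j i0).hom) = x := by
      rw [← AlgSp.Points.map_mk, hpi]; exact hxi
    haveI : Mono (pi.map (j i0).hom).toHom := by
      rw [AlgSp.FieldPt.toHom_map]
      exact @mono_comp _ _ _ _ _ _ hpm _ (hmono i0)
    have h1 := (Groth.Agent.S10410.result X x φ hφ).2
      ⟨pi.map (j i0).hom, hp, inferInstance, fun T c snd sq => by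
        obtain ⟨d, rfl⟩ := (AlgSp.yon S).map_surjective snd
        constructor
        · obtain ⟨u, hu⟩ := hx
          have e : AlgSp.Points.ofPt φ u = AlgSp.Points.ofPt (pi.map (j i0).hom).toHom
              (IsLocalRing.closedPoint (pi.map (j i0).hom).K) := by
            rw [AlgSp.Points.ofPt_toHom, hu, hp]
          obtain ⟨y, -, -⟩ := Groth.Agent.S10176.exists_point_of_isPullback_yon sq.flip u _ e
          exact ⟨y⟩
        · exact Groth.Agent.Lib.H5bFQ3.isFinite_of_mono_point (pi.map (j i0).hom) φ hφ c d sq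
            (by rw [hp]; exact hfinU)⟩
    exact h1.2.2 R s t sqR
  · refine Set.finite_empty.subset ?_
    intro r hr
    exact (hx ⟨t.left r, by rw [← Groth.Agent.S10176.ofPt_map_comp]; exact hr⟩).elim

end Groth.Agent.S10364
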