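import Groth.Statements.S10370
import Mathlib
import Groth.Agent.Lib.H5bMonoEt
import Groth.Agent.Lib.H5bUBF4
import Groth.Agent.Lib.H5bFQ3
import Groth.Agent.Lib.H5bDvrExt
import Groth.Agent.S9884
import Groth.Agent.S10368
import Groth.Agent.S10176
import Groth.Agent.S10177

set_option autoImplicit false
set_option linter.style.haveILetI false
universe u
open CategoryTheory CategoryTheory.Limits AlgebraicGeometry Topology TopologicalSpace
open AlgSp

namespace Groth.Agent.S10370

open AlgSp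

variable {S : Scheme.{u}}

/-- every map from a representable sheaf to a subsheaf of an algebraic space is representable. -/
lemma representable_of_mono {Z X : AlgSp.Sp S} (hX : AlgSp.IsAlgSpace X) (i : Z ⟶ X) [Mono i]
    {T : Over S} (g : (AlgSp.yon S).obj T ⟶ Z) : AlgSp.Representable g := by
  intro T' g'
  obtain ⟨V, w, a0, sq⟩ := hX.representable_from_yon (g ≫ i) (g' ≫ i)
  exact ⟨V, w, a0, Groth.Agent.Lib.H5bUBF.isPullback_of_comp_mono i sq⟩

/-- a subsheaf of an algebraic space with an étale surjective chart is an algebraic space. -/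
lemma isAlgSpace_of_mono {Z X : AlgSp.Sp S} (hX : AlgSp.IsAlgSpace X) (i : Z ⟶ X) [Mono i]
    {T : Over S} (π : (AlgSp.yon S).obj T ⟶ Z) (h1 : AlgSp.RepWith @Etale π)
    (h2 : AlgSp.RepWith @Surjective π) : AlgSp.IsAlgSpace Z where
  diag := Functor.relativelyRepresentable.diag_of_map_from_obj
    (fun _ g => representable_of_mono hX i g)
  atlas := ⟨T, π, h1, h2⟩

/-- the image sheaf of the residue field point of an étale chart is an algebraic space, with the
spectrum of the residue field as étale surjective chart. -/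
lemma residual_atlas {X : AlgSp.Sp S} (hX : AlgSp.IsAlgSpace X) {U : Over S}
    (a : (AlgSp.yon S).obj U ⟶ X) (ha : AlgSp.RepWith @Etale a) (u : ↥U.left)
    (ι0 : Over.mk (U.left.fromSpecResidueField u ≫ U.hom) ⟶ U)
    (hι0 : ι0.left = U.left.fromSpecResidueField u)
    (j : (AlgSp.yon S).obj (Over.mk (U.left.fromSpecResidueField u ≫ U.hom)) ⟶ X)
    (hj : j = (AlgSp.yon S).map ι0 ≫ a) :
    AlgSp.RepWith @Etale (Sheaf.toImage j) ∧ AlgSp.RepWith @Surjective (Sheaf.toImage j) := by
  have hji : Sheaf.toImage j ≫ Sheaf.imageι j = j := Sheaf.toImage_ι j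
  have hπrep : AlgSp.Representable (Sheaf.toImage j) :=
    representable_of_mono hX (Sheaf.imageι j) _
  obtain ⟨R, r2, r1', sqR0⟩ := hπrep (Sheaf.toImage j)
  obtain ⟨r1, rfl⟩ := (AlgSp.yon S).map_surjective r1'
  have sqR : IsPullback ((AlgSp.yon S).map r1) ((AlgSp.yon S).map r2) j j := by
    have := Groth.Agent.Lib.H5bUBF.isPullback_comp_mono (Sheaf.imageι j) sqR0
    rwa [hji] at this
  obtain ⟨F, p, f1', sqF⟩ := ((AlgSp.repWith_iff _ _).1 ha).1 j
  obtain ⟨f1, rfl⟩ := (AlgSp.yon S).map_surjective f1'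
  haveI hpe : Etale p.left := ((AlgSp.repWith_iff _ _).1 ha).2 _ _ _ sqF
  have w : (AlgSp.yon S).map (r1 ≫ ι0) ≫ a = (AlgSp.yon S).map r2 ≫ j := by
    rw [Functor.map_comp, Category.assoc, ← hj]; exact sqR.w
  obtain ⟨m, hm⟩ := (AlgSp.yon S).map_surjective (sqF.lift _ _ w)
  have hm1 : m ≫ f1 = r1 ≫ ι0 :=
    (AlgSp.yon S).map_injective (by rw [Functor.map_comp, hm, sqF.lift_fst])
  have hm2 : m ≫ p = r2 :=
    (AlgSp.yon S).map_injective (by rw [Functor.map_comp, hm, sqF.lift_snd])
  have sqL : IsPullback ((AlgSp.yon S).map m) ((AlgSp.yon S).map r1) ((AlgSp.yon S).map f1)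
      ((AlgSp.yon S).map ι0) := by
    refine IsPullback.of_right ?_ ?_ sqF.flip
    · rw [← Functor.map_comp, hm2, ← hj]; exact sqR.flip
    · rw [← Functor.map_comp, ← Functor.map_comp, hm1]
  haveI : Mono ι0.left := by rw [hι0]; infer_instance
  haveI : Mono ι0 := Over.mono_of_mono_left ι0
  haveI : Mono ((AlgSp.yon S).map ι0) := inferInstance
  haveI : Mono m.left :=
    Groth.Agent.Lib.H5bFQ3.mono_left_of_sq ((AlgSp.yon S).map ι0) ((AlgSp.yon S).map f1) r1 m sqL.flip
  have het : Etale r2.left := by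
    rw [← hm2, Over.comp_left]
    exact Groth.Agent.Lib.H5bMonoEt.etale_comp_of_mono_field
      (k := ↥(U.left.residueField u)) p.left m.left
  have hsurj : Surjective r2.left := by
    obtain ⟨δ, hδ⟩ := (AlgSp.yon S).map_surjective (sqR.lift (𝟙 _) (𝟙 _) rfl)
    have hδ2 : δ ≫ r2 = 𝟙 _ :=
      (AlgSp.yon S).map_injective (by rw [Functor.map_comp, hδ, sqR.lift_snd]; exact ((AlgSp.yon S).map_id _).symm)
    refine ⟨fun y => ⟨δ.left y, ?_⟩⟩
    rw [← Scheme.Hom.comp_apply, ← Over.comp_left, hδ2]; rfl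
  haveI : Sheaf.IsLocallySurjective (Sheaf.toImage j) := inferInstance
  exact ⟨Groth.Agent.S9884.repWith_of_locallySurjective _ hπrep _ _ _ sqR0 @Etale
      ((AlgSp.repWith_yon_map_iff @Etale r2).2 het),
    Groth.Agent.S9884.repWith_of_locallySurjective _ hπrep _ _ _ sqR0 @Surjective
      ((AlgSp.repWith_yon_map_iff @Surjective r2).2 hsurj)⟩

/-- For an algebraic space X over a scheme S and x ∈ |X| there is a monomorphism Z ⟶ X of algebraic
spaces with image {x} in |X| such that Z admits a locally finitely presented, flat, surjective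
morphism from the spectrum of a field (so Z is a reduced, locally Noetherian, one-point space). -/
theorem result {S : Scheme.{u}} (X : AlgSp.Space S) (x : AlgSp.Points X.obj) :
    ∃ (Z : AlgSp.Space S) (i : Z ⟶ X), Mono i.hom ∧ Set.range (AlgSp.Points.map i.hom) = {x} ∧
      ∃ (k : Type u) (_ : Field k) (str : Spec (CommRingCat.of k) ⟶ S) (p : (AlgSp.yon S).obj (Over.mk str) ⟶ Z.obj),
        AlgSp.LocP @LocallyOfFinitePresentation p ∧ AlgSp.LocP @Flat p ∧ AlgSp.IsSurjectiveMor p := by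
  obtain ⟨U, a, u, -, hae, hu⟩ := Groth.Agent.Lib.H5bDvrExt.exists_affine_chart_at X.property x
  let T0 : Over S := Over.mk (U.left.fromSpecResidueField u ≫ U.hom)
  let ι0 : T0 ⟶ U := Over.homMk (U.left.fromSpecResidueField u) rfl
  let j : (AlgSp.yon S).obj T0 ⟶ X.obj := (AlgSp.yon S).map ι0 ≫ a
  obtain ⟨hπe, hπs⟩ := residual_atlas X.property a hae u ι0 rfl j rfl
  have hZ : AlgSp.IsAlgSpace (Sheaf.image j) :=
    isAlgSpace_of_mono X.property (Sheaf.imageι j) (Sheaf.toImage j) hπe hπs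
  let Z : AlgSp.Space S := ⟨Sheaf.image j, hZ⟩
  let pt0 : ↥T0.left := IsLocalRing.closedPoint (U.left.residueField u)
  have hpts : ∀ z : AlgSp.Points (Sheaf.image j),
      z = AlgSp.Points.ofPt (Sheaf.toImage j) pt0 := by
    intro z
    obtain ⟨t, rfl⟩ := Groth.Agent.S10177.surjective_ofPt _ hπs z
    congr 1
    exact @Subsingleton.elim (PrimeSpectrum (U.left.residueField u)) inferInstance _ _
  have hx : AlgSp.Points.map (Sheaf.imageι j) (AlgSp.Points.ofPt (Sheaf.toImage j) pt0) = x := by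
    rw [AlgSp.Points.map_ofPt, Sheaf.toImage_ι]
    show AlgSp.Points.ofPt ((AlgSp.yon S).map ι0 ≫ a) pt0 = x
    rw [Groth.Agent.S10176.ofPt_map_comp, ← hu]
    congr 1
    exact Scheme.fromSpecResidueField_apply _ _
  obtain ⟨k, hk, str, p, h1, h2, h3⟩ := (Groth.Agent.S10368.result Z).1
    ⟨⟨T0, Sheaf.toImage j, hπe, hπs,
        (inferInstance : IsReduced (Spec (U.left.residueField u)))⟩,
      ⟨T0, Sheaf.toImage j, hπe, hπs,
        (inferInstance : IsLocallyNoetherian (Spec (U.left.residueField u)))⟩,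
      ⟨AlgSp.Points.ofPt (Sheaf.toImage j) pt0⟩, ⟨fun z z' => by rw [hpts z, hpts z']⟩⟩
  refine ⟨Z, ObjectProperty.homMk (Sheaf.imageι j), inferInstanceAs (Mono (Sheaf.imageι j)), ?_,
    k, hk, str, p, h1, h2, h3⟩
  ext y
  constructor
  · rintro ⟨z, rfl⟩
    rw [hpts z]
    exact hx
  · intro hy
    rw [Set.mem_singleton_iff] at hy
    subst hy
    exact ⟨_, hx⟩

end Groth.Agent.S10370
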