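import Groth.Statements.S10377
import Mathlib
import Groth.Agent.Lib.H5bConstrSp

set_option autoImplicit false
set_option linter.style.haveILetI false
universe u
open CategoryTheory CategoryTheory.Limits AlgebraicGeometry Topology TopologicalSpace
open AlgSp

namespace Groth.Agent.S10377

open Groth.Agent.Lib.H5bSoberSp Groth.Agent.Lib.H5bSpecQuot Groth.Agent.Lib.H5bConstrSp
open scoped Set.Notation

variable {S : Scheme.{u}}

/-- the preimage under an arbitrary étale chart of a subset which is constructible on the image of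
a good chart is locally constructible on the preimage of that image. -/
theorem isLocallyConstructible_preimage_inter [QuasiSeparatedSpace ↥S] {X : AlgSp.Sp S}
    (hqs : AlgSp.IsQuasiSeparatedSp X) {W R : Over S} [IsAffine W.left] [CompactSpace ↥R.left]
    (q : (AlgSp.yon S).obj W ⟶ X) (hq : AlgSp.RepWith @Etale q) (s t : R ⟶ W)
    (sq : IsPullback ((AlgSp.yon S).map s) ((AlgSp.yon S).map t) q q) (E : Set (AlgSp.Points X))
    (hE : IsConstructible ((Set.range (AlgSp.Points.ofPt q)) ↓∩ E)) {U : Over S}
    (a : (AlgSp.yon S).obj U ⟶ X) (ha : AlgSp.RepWith @Etale a) :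
    IsLocallyConstructible
      (AlgSp.Points.ofPt a ⁻¹' E ∩ AlgSp.Points.ofPt a ⁻¹' Set.range (AlgSp.Points.ofPt q)) := by
  have hC := isConstructible_preimage_chart q hq s t sq E hE
  have sqT := ha.rep.isPullback' q
  have h2 : Etale (ha.rep.fst' q).left := hq.2 a _ _ sqT.flip
  -- the first projection is quasi-compact
  have hqc1 : QuasiCompact (prod.lift (ha.rep.fst' q) (ha.rep.snd q)).left :=
    Groth.Agent.S9920.property_of_repWith_diag hqs sqT
  haveI : QuasiCompact W.hom := inferInstance
  have hqc2 : QuasiCompact (prod.fst : U ⨯ W ⟶ U).left := by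
    rw [← Over.prodLeftIsoPullback_hom_fst]
    infer_instance
  haveI : QuasiCompact (ha.rep.fst' q).left := by
    have : (ha.rep.fst' q).left =
        (prod.lift (ha.rep.fst' q) (ha.rep.snd q)).left ≫ (prod.fst : U ⨯ W ⟶ U).left := by
      rw [← Over.comp_left, prod.lift_fst]
    rw [this]
    infer_instance
  have hD : IsConstructible ((ha.rep.snd q).left ⁻¹' (AlgSp.Points.ofPt q ⁻¹' E)) :=
    (ha.rep.snd q).left.isConstructible_preimage hC
  have himg := (ha.rep.fst' q).left.isLocallyConstructible_image hD.isLocallyConstructible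
  have hcomm : ∀ z : ↥(ha.rep.pullback q).left,
      AlgSp.Points.ofPt a ((ha.rep.fst' q).left z) =
        AlgSp.Points.ofPt q ((ha.rep.snd q).left z) := by
    intro z
    rw [← Groth.Agent.S10176.ofPt_map_comp, ← Groth.Agent.S10176.ofPt_map_comp, sqT.w]
  convert himg using 1
  ext u
  constructor
  · rintro ⟨huE, w', hw'⟩
    obtain ⟨z, hz1, hz2⟩ :=
      Groth.Agent.S10176.exists_point_of_isPullback_yon sqT u w' hw'.symm
    refine ⟨z, ?_, hz1⟩
    change AlgSp.Points.ofPt q ((ha.rep.snd q).left z) ∈ E
    rw [hz2, hw']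
    exact huE
  · rintro ⟨z, hz, rfl⟩
    refine ⟨?_, (ha.rep.snd q).left z, (hcomm z).symm⟩
    change AlgSp.Points.ofPt a ((ha.rep.fst' q).left z) ∈ E
    rw [hcomm z]
    exact hz

/-- Let S be a scheme with quasi-separated underlying space, X an algebraic space over S which is
quasi-separated over S, and E ⊆ |X|. Then E is etale locally constructible (its inverse image in
every scheme etale over X is locally constructible) exactly when E, as a subset of the topological
space |X|, is locally constructible. (The published statement assumes X quasi-separated in the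
absolute sense; this row assumes S has quasi-separated underlying space and X quasi-separated over
S, which together imply it.) -/
theorem result {S : Scheme.{u}} [QuasiSeparatedSpace ↥S]
    (X : AlgSp.Space S) (hX : AlgSp.IsQuasiSeparatedSp X.obj) (E : Set (AlgSp.Points X.obj)) :
    (∀ (U : Over S) (a : (AlgSp.yon S).obj U ⟶ X.obj), AlgSp.RepWith @Etale a →
        IsLocallyConstructible (AlgSp.Points.ofPt a ⁻¹' E)) ↔
      IsLocallyConstructible E := by
  constructor
  · intro h x
    obtain ⟨W, q, w, R, s, t, hW, hq, hw, sq, hR⟩ :=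
      Groth.Agent.S10199.exists_good_chart X.property hX x
    haveI := hW
    haveI := hR
    have hVo : IsOpen (Set.range (AlgSp.Points.ofPt q)) :=
      (Groth.Agent.S10176.isOpenMap_ofPt _ hq).isOpen_range
    exact ⟨Set.range (AlgSp.Points.ofPt q), hVo.mem_nhds ⟨w, hw⟩, hVo,
      isConstructible_range_inter q hq s t sq E (h W q hq)⟩
  · intro h U a ha u
    obtain ⟨N, hNx, hNo, hNE⟩ := h (AlgSp.Points.ofPt a u)
    obtain ⟨W, q, w, R, s, t, hW, hq, hw, sq, hR, hVN⟩ :=
      exists_good_chart_in X.property hX (AlgSp.Points.ofPt a u) N hNo (mem_of_mem_nhds hNx)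
    haveI := hW
    haveI := hR
    have hVo : IsOpen (Set.range (AlgSp.Points.ofPt q)) :=
      (Groth.Agent.S10176.isOpenMap_ofPt _ hq).isOpen_range
    -- restrict constructibility from `N` to the image of the chart
    have hVE : IsConstructible ((Set.range (AlgSp.Points.ofPt q)) ↓∩ E) := by
      have hemb : Topology.IsOpenEmbedding (Set.inclusion hVN) :=
        Topology.IsOpenEmbedding.id.restrict hVN hVo
      exact (hNE.preimage_of_isOpenEmbedding hemb :)
    have hL := isLocallyConstructible_preimage_inter hX q hq s t sq E hVE a ha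
    obtain ⟨O', hO'u, hO'o, hO'c⟩ := hL u
    have hVao : IsOpen (AlgSp.Points.ofPt a ⁻¹' Set.range (AlgSp.Points.ofPt q)) :=
      hVo.preimage (AlgSp.Points.continuous_ofPt a)
    have huV : u ∈ AlgSp.Points.ofPt a ⁻¹' Set.range (AlgSp.Points.ofPt q) := ⟨w, hw⟩
    refine ⟨O' ∩ AlgSp.Points.ofPt a ⁻¹' Set.range (AlgSp.Points.ofPt q),
      Filter.inter_mem hO'u (hVao.mem_nhds huV), hO'o.inter hVao, ?_⟩
    have hemb : Topology.IsOpenEmbedding (Set.inclusion (Set.inter_subset_left :
        O' ∩ AlgSp.Points.ofPt a ⁻¹' Set.range (AlgSp.Points.ofPt q) ⊆ O')) :=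
      Topology.IsOpenEmbedding.id.restrict Set.inter_subset_left (hO'o.inter hVao)
    have := hO'c.preimage_of_isOpenEmbedding hemb
    convert this using 1
    ext ⟨o, ho1, ho2⟩
    constructor
    · intro hoE
      exact ⟨hoE, ho2⟩
    · intro hoE
      exact hoE.1

end Groth.Agent.S10377
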