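import Groth.Statements.S10379
import Mathlib
import Groth.Agent.Lib.H5bVCExist
import Groth.Agent.S10351

set_option autoImplicit false
universe u
open CategoryTheory CategoryTheory.Limits AlgebraicGeometry Topology TopologicalSpace
open AlgSp

namespace Groth.Agent.S10379

/-- Let S be a scheme, X and Y algebraic spaces over S with X decent, and f : X ⟶ Y a quasi-compact
morphism. If f is universally closed, then the valuative criterion's existence part holds for f.
(The published statement is the equivalence of the two conditions; the converse implication holds
for every quasi-compact f and is not part of this row.) -/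
theorem result {S : Scheme.{u}} {X Y : AlgSp.Space S} (f : X ⟶ Y)
    (hq : AlgSp.IsQuasiCompactMor f.hom) (hX : AlgSp.IsDecent X.obj) (hc : AlgSp.IsUnivClosedMor f.hom) :
    AlgSp.ExistVC f.hom := by
  intro sq
  refine Groth.Agent.Lib.H5bVCExist.hasLiftExt_of_univClosed f hc sq (fun x => ?_)
  have hrep : AlgSp.Representable (pullback.fst f.hom sq.bot) :=
    MorphismProperty.of_isPullback (P := AlgSp.Representable)
      (IsPullback.of_hasPullback f.hom sq.bot).flip (Y.property.representable_from_yon sq.bot)
  obtain ⟨q, hq, hqm, hqc⟩ := hX (AlgSp.Points.map (pullback.fst f.hom sq.bot) x)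
  exact Groth.Agent.S10351.exists_decent_fieldPt_of_representable _ hrep x q hq hqm hqc

end Groth.Agent.S10379
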