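import Groth.Statements.S10384
import Mathlib
import Groth.Agent.S10361
import Groth.Agent.S9912
import Groth.Agent.Lib.Helper15QsComp

set_option autoImplicit false
set_option linter.style.haveILetI false
universe u
open CategoryTheory CategoryTheory.Limits AlgebraicGeometry Topology TopologicalSpace
open AlgSp

namespace Groth.Agent.S10384

open CategoryTheory.Limits Opposite MorphismProperty

variable {S : Scheme.{u}}

/-- Let f : X ⟶ Y be a quasi-compact, etale and surjective morphism of algebraic spaces over a scheme S.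
If X is decent then Y is decent. -/
theorem result {S : Scheme.{u}} {X Y : AlgSp.Space S} (f : X ⟶ Y)
    (hq : AlgSp.IsQuasiCompactMor f.hom) (he : AlgSp.IsEtaleMor f.hom) (hs : AlgSp.IsSurjectiveMor f.hom)
    (hX : AlgSp.IsDecent X.obj) : AlgSp.IsDecent Y.obj := by
  intro y
  obtain ⟨x, rfl⟩ := hs y
  obtain ⟨p, rfl, hpm, hpq⟩ := hX x
  have h1 : AlgSp.IsQuasiCompactMor p.toHom :=
    Groth.Agent.S9912.isQuasiCompactMor_of_repWith (AlgSp.IsAlgSpace.yon_obj _) X.property.diag _ hpq
  have h2 : AlgSp.IsQuasiCompactMor (p.toHom ≫ f.hom) :=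
    Groth.Agent.Lib.Helper15QsComp.isQuasiCompactMor_comp Y.property X.property _ _ h1 hq
  have h3 : AlgSp.RepWith @QuasiCompact (p.map f.hom).toHom := by
    rw [AlgSp.FieldPt.toHom_map]
    exact Groth.Agent.S9912.repWith_quasiCompact_of_isQuasiCompactMor _
      (Y.property.representable_from_yon _) h2
  exact Groth.Agent.S10361.result Y (p.map f.hom) h3

end Groth.Agent.S10384
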