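import Groth.Statements.S10385
import Mathlib
import Groth.Agent.S10206
import Groth.Agent.S9874
import Groth.Agent.S9913
import Groth.Agent.S9919
import Groth.Agent.S10653
import Groth.Agent.Lib.H5bUBF3
import Groth.Agent.Lib.H5bFQ
import Groth.Agent.Lib.H5bEtField
import Groth.Agent.Lib.H9Slice
import Groth.Agent.Lib.Helper10MonoField
import Groth.Agent.Lib.Helper8QuotSt6
import Groth.Agent.Lib.Helper12EtSmST
import Groth.Agent.Lib.Helper15ImmQc

set_option autoImplicit false
set_option linter.style.haveILetI false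
universe u
open CategoryTheory CategoryTheory.Limits AlgebraicGeometry Topology TopologicalSpace
open AlgSp

namespace Groth.Agent.S10385

open CategoryTheory.Limits Opposite MorphismProperty BddFib Groth.Agent.Lib.Helper2.BddFib
  Groth.Agent.Lib.H5bUBF

variable {S : Scheme.{u}}

/-- a scheme with a monomorphism to a scheme finite étale over a field is finite over the field. -/
theorem isFinite_of_mono_to_etale {k : Type u} [Field k] {P Q : Scheme.{u}} (m : P ⟶ Q) [Mono m]
    (r : Q ⟶ Spec (CommRingCat.of k)) [Etale r] [Finite ↥Q] : IsFinite (m ≫ r) := by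
  classical
  haveI : Fintype ↥Q := Fintype.ofFinite _
  choose K hK ι hι1 hι2 hι3 using Groth.Agent.Lib.H5bEtField.exists_field_chart (k := k) r
  haveI hιe : ∀ z, Etale (ι z) := fun z => by
    have : Etale (ι z ≫ r) := hι2 z
    exact MorphismProperty.of_postcomp (W := @Etale) (W' := @Etale) (ι z) r inferInstance this
  haveI hfl : ∀ z : ↥Q, Flat (pullback.fst m (ι z)) := fun z => inferInstance
  let d : ↥Q → ℕ := fun z => (ι z ≫ r).finrank (IsLocalRing.closedPoint k)
  have hfd : ∀ z, FiniteOfDegLE (CommRingCat.of k) (ι z ≫ r) (d z) := fun z => by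
    haveI := hι3 z
    refine (fdl_iff_isFinite _ _).2 ⟨inferInstance, fun s => ?_⟩
    have : s = IsLocalRing.closedPoint k :=
      (inferInstance : Subsingleton (PrimeSpectrum k)).elim _ _
    rw [this]
  have key := fdl_of_open_flat_family k (m ≫ r) (fun z : ↥Q => pullback m (ι z))
    (fun z => pullback.fst m (ι z))
    (fun z => (pullback.fst m (ι z)).isOpenMap.isOpen_range)
    (fun x => by
      obtain ⟨y, hy⟩ := hι1 (m x)
      obtain ⟨w, hw, -⟩ := Scheme.Pullback.exists_preimage_pullback x y hy.symm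
      exact ⟨m x, w, hw⟩) d
    (fun z => by
      have hc : pullback.fst m (ι z) ≫ m ≫ r = pullback.snd m (ι z) ≫ ι z ≫ r := by
        rw [← Category.assoc, pullback.condition, Category.assoc]
      rw [hc]
      by_cases hne : Nonempty ↥(pullback m (ι z))
      · haveI := hne
        letI := hK z
        haveI : IsIso (pullback.snd m (ι z)) :=
          Groth.Agent.Lib.Helper10.MonoField.isIso_of_mono_of_nonempty (K z) _
        exact fdl_iso k (asIso (pullback.snd m (ι z))) _ _ rfl (d z) (hfd z)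
      · rw [not_nonempty_iff] at hne
        exact fdl_of_isEmpty k _ (d z))
  exact ((fdl_iff_isFinite _ _).1 key).1

/-- Let S be a scheme, X and Y algebraic spaces over S, and f : X ⟶ Y a quasi-compact, etale and
surjective morphism. If each point of X can be represented by a monomorphism whose source is the
spectrum of a field, then so can each point of Y. -/
theorem result {S : Scheme.{u}} {X Y : AlgSp.Space S} (f : X ⟶ Y)
    (hq : AlgSp.IsQuasiCompactMor f.hom) (he : AlgSp.IsEtaleMor f.hom) (hs : AlgSp.IsSurjectiveMor f.hom)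
    (hX : ∀ x : AlgSp.Points X.obj, ∃ p : AlgSp.FieldPt X.obj, AlgSp.Points.mk p = x ∧ Mono p.toHom)
    (y : AlgSp.Points Y.obj) : ∃ q : AlgSp.FieldPt Y.obj, AlgSp.Points.mk q = y ∧ Mono q.toHom := by
  obtain ⟨x, rfl⟩ := hs y
  obtain ⟨p, rfl, hpm⟩ := hX x
  have hq' : (p.map f.hom).toHom = p.toHom ≫ f.hom := AlgSp.FieldPt.toHom_map f.hom p
  -- the fibre `Q = Spec k ×_Y X`
  have sqQ : IsPullback (pullback.fst (p.toHom ≫ f.hom) f.hom) (pullback.snd (p.toHom ≫ f.hom) f.hom)
      (p.toHom ≫ f.hom) f.hom := IsPullback.of_hasPullback _ _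
  have hQ : AlgSp.IsAlgSpace (pullback (p.toHom ≫ f.hom) f.hom) :=
    Groth.Agent.S9874.isAlgSpace_of_isPullback Y.property.diag (AlgSp.IsAlgSpace.yon_obj _)
      X.property sqQ
  have hπe : AlgSp.IsEtaleMor (pullback.fst (p.toHom ≫ f.hom) f.hom) :=
    Groth.Agent.Lib.Helper12.EtSmST.isEtaleMor_baseChange X.property Y.property
      (AlgSp.IsAlgSpace.yon_obj _) sqQ.flip he
  have hπq : AlgSp.IsQuasiCompactMor (pullback.fst (p.toHom ≫ f.hom) f.hom) :=
    Groth.Agent.Lib.Helper15ImmQc.isQuasiCompactMor_of_isPullback sqQ.flip hq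
  have hQrep := Groth.Agent.S10206.result ⟨_, hQ⟩ p.K p.str
    (pullback.fst (p.toHom ≫ f.hom) f.hom) hπe
  obtain ⟨Q0, ⟨e0⟩⟩ := Groth.Agent.Lib.Helper8QuotSt.exists_iso_yon _ hQrep
  obtain ⟨r1, hr1⟩ := (AlgSp.yon S).map_surjective
    (e0.hom ≫ pullback.fst (p.toHom ≫ f.hom) f.hom)
  haveI hr1e : Etale r1.left := by
    refine (AlgSp.isEtaleMor_yon_map_iff r1).1 (fun U φ hφ => ?_)
    rw [hr1, ← Category.assoc]
    exact hπe _ (MorphismProperty.RespectsIso.postcomp _ _ _ hφ)
  haveI : CompactSpace ↥p.pt.left := (inferInstance : CompactSpace ↥(Spec (CommRingCat.of p.K)))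
  have hQqc : AlgSp.IsQuasiCompactSp (pullback (p.toHom ≫ f.hom) f.hom) :=
    hπq (AlgSp.IsAlgSpace.yon_obj p.pt) (Groth.Agent.S9913.isQuasiCompactSp_yon_of_compact p.pt)
      (𝟙 _) (𝟙 _) _ IsPullback.of_id_fst
  haveI : CompactSpace ↥Q0.left :=
    Groth.Agent.S10653.compactSpace_of_isQuasiCompactSp Q0
      (Groth.Agent.S9919.isQuasiCompactSp_of_iso e0.symm hQqc)
  haveI : QuasiCompact r1.left := by
    haveI : QuasiSeparatedSpace ↥p.pt.left :=
      (inferInstance : QuasiSeparatedSpace ↥(Spec (CommRingCat.of p.K)))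
    exact quasiCompact_of_compactSpace _
  haveI : LocallyQuasiFinite r1.left := Groth.Agent.Lib.H9Slice.locallyQuasiFinite_of_etale _
  haveI : IsLocallyArtinian p.pt.left := by
    show IsLocallyArtinian (Spec (CommRingCat.of p.K))
    rw [Scheme.isLocallyArtinianScheme_Spec]
    exact (inferInstance : IsArtinianRing p.K)
  haveI : IsFinite r1.left := IsFinite.of_locallyQuasiFinite r1.left
  haveI : Finite ↥Q0.left := Groth.Agent.Lib.H5bFQ3.finite_of_isFinite_field (k := p.K) r1.left
  -- the self-product of `q`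
  have hrepq := Y.property.representable_from_yon (p.toHom ≫ f.hom)
  have sqP := hrepq.isPullback' (p.toHom ≫ f.hom)
  obtain ⟨P, t, s, sqP⟩ : ∃ (P : Over S) (t s : P ⟶ p.pt),
      IsPullback ((AlgSp.yon S).map t) ((AlgSp.yon S).map s) (p.toHom ≫ f.hom) (p.toHom ≫ f.hom) :=
    ⟨_, _, _, sqP⟩
  have hw : (AlgSp.yon S).map s ≫ p.toHom ≫ f.hom = ((AlgSp.yon S).map t ≫ p.toHom) ≫ f.hom := by
    rw [Category.assoc]; exact sqP.w.symm
  let mP : (AlgSp.yon S).obj P ⟶ pullback (p.toHom ≫ f.hom) f.hom := sqQ.lift _ _ hw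
  have hmP1 : mP ≫ pullback.fst (p.toHom ≫ f.hom) f.hom = (AlgSp.yon S).map s := sqQ.lift_fst _ _ _
  have hmP2 : mP ≫ pullback.snd (p.toHom ≫ f.hom) f.hom = (AlgSp.yon S).map t ≫ p.toHom :=
    sqQ.lift_snd _ _ _
  haveI := hpm
  haveI hmPm : Mono mP := by
    refine ⟨fun {A} α β hαβ => sqP.hom_ext ?_ ?_⟩
    · have h1 := congrArg (· ≫ pullback.snd (p.toHom ≫ f.hom) f.hom) hαβ
      simp only [Category.assoc, hmP2] at h1
      rw [← Category.assoc, ← Category.assoc] at h1
      exact (cancel_mono p.toHom).1 h1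
    · have h1 := congrArg (· ≫ pullback.fst (p.toHom ≫ f.hom) f.hom) hαβ
      simp only [Category.assoc, hmP1] at h1
      exact h1
  obtain ⟨m0, hm0⟩ := (AlgSp.yon S).map_surjective (mP ≫ e0.inv)
  haveI : Mono ((AlgSp.yon S).map m0) := by rw [hm0]; exact mono_comp _ _
  haveI : Mono m0 := (AlgSp.yon S).mono_of_mono_map inferInstance
  haveI : Mono m0.left := inferInstance
  have hm0r : m0 ≫ r1 = s := by
    apply (AlgSp.yon S).map_injective
    rw [Functor.map_comp, hm0, hr1, Category.assoc, Iso.inv_hom_id_assoc, hmP1]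
  have hsf : IsFinite s.left := by
    rw [← hm0r]
    exact isFinite_of_mono_to_etale (k := p.K) m0.left r1.left
  have sqP' : IsPullback ((AlgSp.yon S).map t) ((AlgSp.yon S).map s) (p.map f.hom).toHom
      (p.map f.hom).toHom := by rw [hq']; exact sqP
  obtain ⟨q', c, hq'm, hfac, -⟩ :=
    @Groth.Agent.Lib.H5bFQ.exists_mono_quotient _ _ (p.map f.hom) P s t sqP' hsf
  exact ⟨q', Groth.Agent.Lib.H5bFQ.mk_eq_of_factor _ _ c hfac, hq'm⟩

end Groth.Agent.S10385
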