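import Groth.Statements.S10386
import Mathlib
import Groth.Agent.S10364
import Groth.Agent.S9874
import Groth.Agent.S10175

set_option autoImplicit false
set_option linter.style.haveILetI false
universe u
open CategoryTheory CategoryTheory.Limits AlgebraicGeometry Topology TopologicalSpace
open AlgSp

namespace Groth.Agent.S10386

open CategoryTheory.Limits Opposite MorphismProperty

variable {S : Scheme.{u}}

/-- (3) ⇒ (1): let S be a scheme, X and Y algebraic spaces over S, and f : X ⟶ Y a morphism such that Z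
×_Y X is decent for every affine scheme Z and every Z ⟶ Y. Then f is decent, i.e. T ×_Y X is decent
for every scheme T over Y. -/
theorem result {S : Scheme.{u}} {X Y : AlgSp.Space S} (f : X ⟶ Y)
    (h : ∀ (Z : Over S) (g : (AlgSp.yon S).obj Z ⟶ Y.obj) (P : AlgSp.Sp S) (fst : P ⟶ X.obj)
      (snd : P ⟶ (AlgSp.yon S).obj Z), IsAffine Z.left → IsPullback fst snd f.hom g → AlgSp.IsDecent P) :
    AlgSp.IsDecentMor f.hom := by
  intro T F' g fst snd sq
  have hF' : AlgSp.IsAlgSpace F' :=
    Groth.Agent.S9874.isAlgSpace_of_isPullback Y.property.diag X.property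
      (AlgSp.IsAlgSpace.yon_obj T) sq
  let I := T.left.affineOpens
  let Ti : I → Over S := fun i => Over.mk (i.1.ι ≫ T.hom)
  let ιi : ∀ i : I, Ti i ⟶ T := fun i => Over.homMk i.1.ι rfl
  let Fi : I → AlgSp.Sp S := fun i => pullback snd ((AlgSp.yon S).map (ιi i))
  have sqi : ∀ i, IsPullback (pullback.fst snd ((AlgSp.yon S).map (ιi i)))
      (pullback.snd snd ((AlgSp.yon S).map (ιi i))) snd ((AlgSp.yon S).map (ιi i)) :=
    fun i => IsPullback.of_hasPullback _ _
  have hFi : ∀ i, AlgSp.IsAlgSpace (Fi i) := fun i =>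
    Groth.Agent.S9874.isAlgSpace_of_isPullback (AlgSp.IsAlgSpace.yon_obj T).diag hF'
      (AlgSp.IsAlgSpace.yon_obj _) (sqi i)
  have hdec : ∀ i, AlgSp.IsDecent (Fi i) := fun i =>
    h (Ti i) ((AlgSp.yon S).map (ιi i) ≫ g) (Fi i) (pullback.fst _ _ ≫ fst) (pullback.snd _ _)
      (i.2 : IsAffineOpen i.1) ((sqi i).paste_horiz sq)
  refine Groth.Agent.S10364.result ⟨F', hF'⟩ (fun i => ⟨Fi i, hFi i⟩)
    (fun i => ObjectProperty.homMk (pullback.fst snd ((AlgSp.yon S).map (ιi i)))) ⟨?_, ?_⟩ hdec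
  · intro i
    exact MorphismProperty.of_isPullback (P := AlgSp.RepWith @IsOpenImmersion) (sqi i).flip
      ((AlgSp.repWith_yon_map_iff _ _).2 (inferInstance : IsOpenImmersion i.1.ι))
  · intro x
    let t : ↥T.left := AlgSp.Points.toScheme T (AlgSp.Points.map snd x)
    obtain ⟨_, ⟨A0, hA0, rfl⟩, htA, -⟩ :=
      T.left.isBasis_affineOpens.exists_subset_of_mem_open (Set.mem_univ t) isOpen_univ
    let i : I := ⟨A0, hA0⟩
    let v : ↥(Ti i).left := ⟨t, htA⟩
    have e : AlgSp.Points.map snd x =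
        AlgSp.Points.map ((AlgSp.yon S).map (ιi i)) (AlgSp.Points.ofScheme (Ti i) v) := by
      have h1 := AlgSp.Points.map_yon_map_apply (ιi i) v
      change AlgSp.Points.map ((AlgSp.yon S).map (ιi i)) (AlgSp.Points.ofScheme (Ti i) v) =
        AlgSp.Points.ofScheme T ((ιi i).left v) at h1
      rw [h1]
      exact (AlgSp.Points.ofScheme_toScheme T _).symm
    obtain ⟨p, hp1, -⟩ := Groth.Agent.S10175.exists_point_of_isPullback (sqi i) x _ e
    exact ⟨i, p, hp1⟩

end Groth.Agent.S10386
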