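import Groth.Statements.S10387
import Mathlib
import Groth.Agent.S10386
import Groth.Agent.S10384
import Groth.Agent.S9874
import Groth.Agent.S9906
import Groth.Agent.Lib.Helper12EtSmST
import Groth.Agent.Lib.Helper15ImmQc

set_option autoImplicit false
set_option linter.style.haveILetI false
universe u
open CategoryTheory CategoryTheory.Limits AlgebraicGeometry Topology TopologicalSpace
open AlgSp

namespace Groth.Agent.S10387

open CategoryTheory.Limits Opposite MorphismProperty

variable {S : Scheme.{u}}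

/-- (5) ⇒ (1): let S be a scheme, X and Y algebraic spaces over S, f : X ⟶ Y a morphism, and V ⟶ Y a
surjective etale morphism from a scheme. If the base change V ×_Y X ⟶ V is a decent morphism, then f
is decent. -/
theorem result {S : Scheme.{u}} {X Y : AlgSp.Space S} (f : X ⟶ Y) {V : Over S}
    (p : (AlgSp.yon S).obj V ⟶ Y.obj) (hp : AlgSp.RepWith @Etale p) (hps : AlgSp.RepWith @Surjective p)
    (X' : AlgSp.Sp S) (fst : X' ⟶ X.obj) (snd : X' ⟶ (AlgSp.yon S).obj V) (hsq : IsPullback fst snd f.hom p)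
    (h : AlgSp.IsDecentMor snd) : AlgSp.IsDecentMor f.hom := by
  classical
  apply Groth.Agent.S10386.result f
  intro Z g P fstP sndP hZ sqP
  haveI : IsAffine Z.left := hZ
  have hP : AlgSp.IsAlgSpace P :=
    Groth.Agent.S9874.isAlgSpace_of_isPullback Y.property.diag X.property
      (AlgSp.IsAlgSpace.yon_obj Z) sqP
  have hrep := hp.1
  have sqW := hrep.isPullback' g
  obtain ⟨W, w1, w2, sqW⟩ : ∃ (W : Over S) (w1 : W ⟶ V) (w2 : W ⟶ Z),
      IsPullback ((AlgSp.yon S).map w1) ((AlgSp.yon S).map w2) p g := ⟨_, _, _, sqW⟩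
  haveI hw2e : Etale w2.left := hp.2 _ _ _ sqW
  haveI hw2s : Surjective w2.left := hps.2 _ _ _ sqW
  have hopen : ∀ A : W.left.affineOpens, IsOpen (w2.left '' (A.1 : Set ↥W.left)) :=
    fun A => w2.left.isOpenMap _ A.1.isOpen
  have hcov : ∀ z : ↥Z.left, ∃ A : W.left.affineOpens, z ∈ w2.left '' (A.1 : Set ↥W.left) := by
    intro z
    obtain ⟨w, rfl⟩ := w2.left.surjective z
    obtain ⟨_, ⟨A0, hA0, rfl⟩, hwA, -⟩ :=
      W.left.isBasis_affineOpens.exists_subset_of_mem_open (Set.mem_univ w) isOpen_univ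
    exact ⟨⟨A0, hA0⟩, w, hwA, rfl⟩
  obtain ⟨J0, hJ0⟩ := isCompact_univ.elim_finite_subcover
    (fun A : W.left.affineOpens => w2.left '' (A.1 : Set ↥W.left)) hopen
    (fun z _ => Set.mem_iUnion.2 (hcov z))
  let W'' : W.left.Opens := ⨆ A ∈ J0, A.1
  have hW''coe : (W'' : Set ↥W.left) = ⋃ A ∈ J0, (A.1 : Set ↥W.left) := by
    simp only [W'', TopologicalSpace.Opens.coe_iSup]
  have hW''c : IsCompact (W'' : Set ↥W.left) := by
    rw [hW''coe]
    exact J0.isCompact_biUnion (fun A _ => (A.2 : IsAffineOpen A.1).isCompact)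
  let T'' : Over S := Over.mk (W''.ι ≫ W.hom)
  let i'' : T'' ⟶ W := Over.homMk W''.ι rfl
  let e : T'' ⟶ Z := i'' ≫ w2
  haveI hee : Etale e.left := by
    change Etale (W''.ι ≫ w2.left)
    infer_instance
  haveI hes : Surjective e.left := by
    constructor
    intro z
    have hz : z ∈ ⋃ A ∈ J0, w2.left '' (A.1 : Set ↥W.left) := hJ0 (Set.mem_univ z)
    simp only [Set.mem_iUnion] at hz
    obtain ⟨A, hA, w, hw, rfl⟩ := hz
    have hwW : w ∈ (W'' : Set ↥W.left) := by
      rw [hW''coe]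
      exact Set.mem_biUnion hA hw
    exact ⟨⟨w, hwW⟩, rfl⟩
  haveI : CompactSpace ↥T''.left := isCompact_iff_compactSpace.mp hW''c
  haveI heq : QuasiCompact e.left := by
    haveI : QuasiSeparatedSpace ↥Z.left := inferInstance
    exact quasiCompact_of_compactSpace _
  have sqP'' : IsPullback (pullback.fst sndP ((AlgSp.yon S).map e))
      (pullback.snd sndP ((AlgSp.yon S).map e)) sndP ((AlgSp.yon S).map e) :=
    IsPullback.of_hasPullback _ _
  have hP'' : AlgSp.IsAlgSpace (pullback sndP ((AlgSp.yon S).map e)) :=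
    Groth.Agent.S9874.isAlgSpace_of_isPullback (AlgSp.IsAlgSpace.yon_obj Z).diag hP
      (AlgSp.IsAlgSpace.yon_obj T'') sqP''
  have h1e : AlgSp.IsEtaleMor (pullback.fst sndP ((AlgSp.yon S).map e)) :=
    Groth.Agent.Lib.Helper12.EtSmST.isEtaleMor_baseChange (AlgSp.IsAlgSpace.yon_obj T'')
      (AlgSp.IsAlgSpace.yon_obj Z) hP sqP''.flip ((AlgSp.isEtaleMor_yon_map_iff e).2 hee)
  have h1q : AlgSp.IsQuasiCompactMor (pullback.fst sndP ((AlgSp.yon S).map e)) :=
    Groth.Agent.Lib.Helper15ImmQc.isQuasiCompactMor_of_isPullback sqP''.flip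
      (Groth.Agent.Lib.Helper15ImmQc.isQuasiCompactMor_yon_map e heq)
  have h1s : AlgSp.IsSurjectiveMor (pullback.fst sndP ((AlgSp.yon S).map e)) := by
    apply Groth.Agent.S9906.surjective_map_of_repWith
    exact MorphismProperty.of_isPullback (P := AlgSp.RepWith @Surjective) sqP''.flip
      ((AlgSp.repWith_yon_map_iff _ _).2 hes)
  have hcomm : (AlgSp.yon S).map e ≫ g = (AlgSp.yon S).map (i'' ≫ w1) ≫ p := by
    simp only [e, Functor.map_comp, Category.assoc]
    rw [sqW.w]
  have big := sqP''.paste_horiz sqP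
  rw [hcomm] at big
  let l : pullback sndP ((AlgSp.yon S).map e) ⟶ X' :=
    hsq.lift (pullback.fst sndP ((AlgSp.yon S).map e) ≫ fstP)
      (pullback.snd sndP ((AlgSp.yon S).map e) ≫ (AlgSp.yon S).map (i'' ≫ w1))
      (by rw [Category.assoc, Category.assoc]; exact big.w)
  have hl1 : l ≫ fst = pullback.fst sndP ((AlgSp.yon S).map e) ≫ fstP := hsq.lift_fst _ _ _
  have hl2 : l ≫ snd = pullback.snd sndP ((AlgSp.yon S).map e) ≫ (AlgSp.yon S).map (i'' ≫ w1) :=
    hsq.lift_snd _ _ _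
  have big' : IsPullback (l ≫ fst) (pullback.snd sndP ((AlgSp.yon S).map e)) f.hom
      ((AlgSp.yon S).map (i'' ≫ w1) ≫ p) := by rw [hl1]; exact big
  have sqL : IsPullback l (pullback.snd sndP ((AlgSp.yon S).map e)) snd
      ((AlgSp.yon S).map (i'' ≫ w1)) := IsPullback.of_right big' hl2 hsq
  have hdec : AlgSp.IsDecent (pullback sndP ((AlgSp.yon S).map e)) := h _ _ _ sqL
  exact Groth.Agent.S10384.result (X := ⟨_, hP''⟩) (Y := ⟨P, hP⟩)
    (ObjectProperty.homMk (pullback.fst sndP ((AlgSp.yon S).map e))) h1q h1e h1s hdec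

end Groth.Agent.S10387
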