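import Groth.Statements.S10389
import Mathlib
import Groth.Agent.S9874
import Groth.Agent.S10175
import Groth.Agent.S10176
import Groth.Agent.Lib.H5bUBF4
import Groth.Agent.Lib.H5bFQ3
import Groth.Agent.Lib.H5bIntDimSp
import Groth.Agent.Lib.H9Slice
import Groth.Agent.Lib.Helper12ResidualFactor

set_option autoImplicit false
set_option linter.style.haveILetI false
universe u
open CategoryTheory CategoryTheory.Limits AlgebraicGeometry Topology TopologicalSpace
open AlgSp

namespace Groth.Agent.S10389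

open CategoryTheory.Limits Opposite MorphismProperty Groth.Agent.Lib.H5bUBF

variable {S : Scheme.{u}}

theorem mk_fpOf {F : AlgSp.Sp S} {K : Type u} [Field K] (str : Spec (CommRingCat.of K) ⟶ S)
    (h : (AlgSp.yon S).obj (Over.mk str) ⟶ F) (s : ↥(Spec (CommRingCat.of K))) :
    AlgSp.Points.mk (fpOf str h) = AlgSp.Points.ofPt h s := by
  rw [← AlgSp.Points.ofPt_toHom (fpOf str h) s]
  exact congrArg (fun k => AlgSp.Points.ofPt k s) (fpOf_toHom str h)

/-- a point at which `g` is quasi-finite, lying over a point with a monomorphic representative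
`Spec k ⟶ Y`, has a representative finite over `Spec k`. -/
theorem exists_finite_rep {Z Y : AlgSp.Space S} (g : Z ⟶ Y) (z : AlgSp.Points Z.obj)
    (r : AlgSp.FieldPt Y.obj) (hr : AlgSp.Points.mk r = AlgSp.Points.map g.hom z)
    (hg : AlgSp.HasAtMor (fun U _ h u => ∃ W : U.Opens, u ∈ W ∧ LocallyQuasiFinite (W.ι ≫ h) ∧
      LocallyOfFiniteType (W.ι ≫ h)) g.hom z) :
    ∃ (l : AlgSp.FieldPt Z.obj) (c : l.pt ⟶ r.pt), AlgSp.Points.mk l = z ∧
      l.toHom ≫ g.hom = (AlgSp.yon S).map c ≫ r.toHom ∧ IsFinite c.left := by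
  obtain ⟨U, V, a, b, h, u, ha, hb, hcomm, hu, W', huW, hlqf, -⟩ := hg
  -- the fibre of `V`
  have hrepb := Y.property.representable_from_yon b
  have sqF0 := (hrepb.isPullback' r.toHom)
  obtain ⟨F, jF, πF, sqF0⟩ : ∃ (F : Over S) (jF : F ⟶ V) (πF : F ⟶ r.pt),
      IsPullback ((AlgSp.yon S).map jF) ((AlgSp.yon S).map πF) b r.toHom := ⟨_, _, _, sqF0⟩
  have sqF := sqF0.flip
  haveI hπFe : Etale πF.left := ((AlgSp.repWith_iff _ _).1 hb).2 _ _ _ sqF0
  -- the fibre of `U`
  have hrepa := Y.property.representable_from_yon (a ≫ g.hom)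
  obtain ⟨U', j, π, sqU0⟩ : ∃ (U' : Over S) (j : U' ⟶ U) (π : U' ⟶ r.pt),
      IsPullback ((AlgSp.yon S).map j) ((AlgSp.yon S).map π) (a ≫ g.hom) r.toHom :=
    ⟨_, _, _, hrepa.isPullback' r.toHom⟩
  have sqU := sqU0.flip
  have hw : (AlgSp.yon S).map π ≫ r.toHom = (AlgSp.yon S).map (j ≫ h) ≫ b := by
    rw [Functor.map_comp, Category.assoc, ← hcomm]; exact sqU.w
  obtain ⟨ℓ, hℓ⟩ := (AlgSp.yon S).map_surjective (sqF.lift _ _ hw)
  have hℓπ : ℓ ≫ πF = π := by
    apply (AlgSp.yon S).map_injective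
    rw [Functor.map_comp, hℓ, sqF.lift_fst]
  have hℓj : ℓ ≫ jF = j ≫ h := by
    apply (AlgSp.yon S).map_injective
    rw [Functor.map_comp, hℓ, sqF.lift_snd]
  have big : IsPullback ((AlgSp.yon S).map ℓ ≫ (AlgSp.yon S).map πF) ((AlgSp.yon S).map j) r.toHom
      ((AlgSp.yon S).map h ≫ b) := by
    rw [← Functor.map_comp, hℓπ, ← hcomm]; exact sqU
  have sqL : IsPullback ((AlgSp.yon S).map ℓ) ((AlgSp.yon S).map j) ((AlgSp.yon S).map jF)
      ((AlgSp.yon S).map h) :=
    IsPullback.of_right big (by rw [← Functor.map_comp, ← Functor.map_comp, hℓj]) sqF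
  have sqL' : IsPullback ℓ j jF h := IsPullback.of_map (AlgSp.yon S) hℓj sqL
  have sqL'' : IsPullback ℓ.left j.left jF.left h.left := sqL'.map (Over.forget S)
  -- restrict to the open
  have sqR := (isPullback_morphismRestrict j.left W').paste_vert sqL''.flip
  haveI : LocallyQuasiFinite (W'.ι ≫ h.left) := hlqf
  haveI h1 : LocallyQuasiFinite ((j.left ⁻¹ᵁ W').ι ≫ ℓ.left) :=
    MorphismProperty.of_isPullback (P := @LocallyQuasiFinite) sqR hlqf
  haveI : LocallyQuasiFinite πF.left := Groth.Agent.Lib.H9Slice.locallyQuasiFinite_of_etale _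
  -- the point
  have e : AlgSp.Points.ofPt (a ≫ g.hom) u =
      AlgSp.Points.ofPt r.toHom (IsLocalRing.closedPoint r.K) := by
    rw [AlgSp.Points.ofPt_toHom, hr, ← hu]; rfl
  obtain ⟨u', hu', -⟩ := Groth.Agent.S10176.exists_point_of_isPullback_yon sqU0 u _ e
  have hu'W : u' ∈ j.left ⁻¹ᵁ W' := by
    show j.left u' ∈ W'
    rw [hu']; exact huW
  let W'' : Scheme.{u} := ↑(j.left ⁻¹ᵁ W')
  let u'' : ↥W'' := ⟨u', hu'W⟩
  let ιL : Spec (W''.residueField u'') ⟶ W'' := W''.fromSpecResidueField u''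
  let e0 : Spec (W''.residueField u'') ⟶ U'.left := ιL ≫ (j.left ⁻¹ᵁ W').ι
  let str : Spec (CommRingCat.of (W''.residueField u'')) ⟶ S := e0 ≫ U'.hom
  let eO : Over.mk str ⟶ U' := Over.homMk e0 rfl
  let h' : (AlgSp.yon S).obj (Over.mk str) ⟶ Z.obj := (AlgSp.yon S).map (eO ≫ j) ≫ a
  let c0 : Over.mk str ⟶ r.pt := eO ≫ π
  have fact1 : AlgSp.Points.ofPt h' (IsLocalRing.closedPoint (W''.residueField u'')) = z := by
    show AlgSp.Points.ofPt ((AlgSp.yon S).map (eO ≫ j) ≫ a) _ = z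
    rw [Groth.Agent.S10176.ofPt_map_comp, ← hu]
    congr 1
    rw [Over.comp_left, Scheme.Hom.comp_apply]
    show j.left (((j.left ⁻¹ᵁ W').ι) (ιL _)) = u
    rw [Scheme.fromSpecResidueField_apply]
    exact hu'
  have fact2 : h' ≫ g.hom = (AlgSp.yon S).map c0 ≫ r.toHom := by
    show ((AlgSp.yon S).map (eO ≫ j) ≫ a) ≫ g.hom = (AlgSp.yon S).map (eO ≫ π) ≫ r.toHom
    rw [Category.assoc, Functor.map_comp, Functor.map_comp, Category.assoc, Category.assoc]
    congr 1
    exact sqU.w.symm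
  have fact3 : IsFinite c0.left := by
    have hc : c0.left = ιL ≫ ((j.left ⁻¹ᵁ W').ι ≫ ℓ.left) ≫ πF.left := by
      show (eO ≫ π).left = _
      rw [← hℓπ]
      simp only [Over.comp_left, Category.assoc]
      rfl
    haveI : LocallyQuasiFinite ιL := inferInstance
    haveI : LocallyQuasiFinite (((j.left ⁻¹ᵁ W').ι ≫ ℓ.left) ≫ πF.left) := inferInstance
    haveI : LocallyQuasiFinite c0.left := by
      rw [hc]; infer_instance
    haveI : IsLocallyArtinian r.pt.left := by
      show IsLocallyArtinian (Spec (CommRingCat.of r.K))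
      rw [Scheme.isLocallyArtinianScheme_Spec]
      exact (inferInstance : IsArtinianRing r.K)
    haveI : QuasiCompact c0.left := by
      haveI : IsAffine (Over.mk str).left :=
        (inferInstance : IsAffine (Spec (CommRingCat.of (W''.residueField u''))))
      haveI : IsAffine r.pt.left := (inferInstance : IsAffine (Spec (CommRingCat.of r.K)))
      infer_instance
    exact IsFinite.of_locallyQuasiFinite c0.left
  refine ⟨fpOf str h', c0, ?_, ?_, fact3⟩
  · rw [mk_fpOf str h' (IsLocalRing.closedPoint (W''.residueField u''))]; exact fact1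
  · rw [fpOf_toHom]; exact fact2

/-- Let W = X ×_Y Z be a fibre product of algebraic spaces over a scheme S with projections p, q, and
let x ∈ |X|, z ∈ |Z| lie over the same point y ∈ |Y|. If y is represented by a monomorphism Spec k ⟶
Y from the spectrum of a field and g : Z ⟶ Y is quasi-finite at z, then the set of points of |W|
mapping to x and to z is finite. (Special case: Y decent and g etale.) -/
theorem result {S : Scheme.{u}} {X Y Z W : AlgSp.Space S} (f : X ⟶ Y)
    (g : Z ⟶ Y) (p : W ⟶ X) (q : W ⟶ Z) (hW : IsPullback p.hom q.hom f.hom g.hom) (x : AlgSp.Points X.obj)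
    (z : AlgSp.Points Z.obj) (hxz : AlgSp.Points.map f.hom x = AlgSp.Points.map g.hom z)
    (hy : ∃ r : AlgSp.FieldPt Y.obj, AlgSp.Points.mk r = AlgSp.Points.map g.hom z ∧ Mono r.toHom)
    (hg : AlgSp.HasAtMor (fun U _ h u => ∃ W : U.Opens, u ∈ W ∧ LocallyQuasiFinite (W.ι ≫ h) ∧ LocallyOfFiniteType (W.ι ≫ h)) g.hom z) :
    {w : AlgSp.Points W.obj | AlgSp.Points.map p.hom w = x ∧ AlgSp.Points.map q.hom w = z}.Finite := by
  classical
  obtain ⟨r, hr, hrm⟩ := hy
  haveI := hrm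
  obtain ⟨l, c, hlz, hlg, hcf⟩ := exists_finite_rep g z r hr hg
  obtain ⟨px, hpx⟩ := AlgSp.Points.mk_surjective x
  -- `px` factors through `r`
  let Zr : AlgSp.Space S := ⟨(AlgSp.yon S).obj r.pt, AlgSp.IsAlgSpace.yon_obj _⟩
  let ir : Zr ⟶ Y := ObjectProperty.homMk r.toHom
  haveI : Mono ir.hom := hrm
  have hx1 : AlgSp.Points.ofPt (px.toHom ≫ f.hom)
      ((⊥ : PrimeSpectrum px.K) : ↥(Over.mk px.str).left) ∈ Set.range (AlgSp.Points.map ir.hom) := by
    refine ⟨AlgSp.Points.ofScheme r.pt (IsLocalRing.closedPoint r.K), ?_⟩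
    rw [← AlgSp.Points.ofPt_eq_map_ofScheme]
    show AlgSp.Points.ofPt r.toHom _ = AlgSp.Points.map f.hom (AlgSp.Points.ofPt px.toHom _)
    rw [AlgSp.Points.ofPt_toHom, AlgSp.Points.ofPt_toHom, hpx, hxz, hr]
  obtain ⟨d0, hd0⟩ := Groth.Agent.Lib.Helper12.ResidualFactor.exists_factor_fieldPoint ir px.K px.str
    (px.toHom ≫ f.hom) hx1
  obtain ⟨d, hd⟩ := (AlgSp.yon S).map_surjective d0
  have hdr : (AlgSp.yon S).map d ≫ r.toHom = px.toHom ≫ f.hom := by rw [hd]; exact hd0
  -- the scheme `T = Spec K ×_k Spec L`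
  have sqT0 : IsPullback (pullback.fst d c) (pullback.snd d c) d c := IsPullback.of_hasPullback d c
  have sqT := Groth.Agent.Lib.H5bUBF.isPullback_comp_mono r.toHom (sqT0.map (AlgSp.yon S))
  rw [hdr, ← hlg] at sqT
  haveI : IsFinite (pullback.fst d c).left :=
    MorphismProperty.of_isPullback (P := @IsFinite) (sqT0.map (Over.forget S)).flip hcf
  haveI : Finite ↥(pullback d c).left :=
    Groth.Agent.Lib.H5bFQ3.finite_of_isFinite_field (k := px.K) (pullback.fst d c).left
  have hτw : ((AlgSp.yon S).map (pullback.fst d c) ≫ px.toHom) ≫ f.hom =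
      ((AlgSp.yon S).map (pullback.snd d c) ≫ l.toHom) ≫ g.hom := by
    rw [Category.assoc, Category.assoc]; exact sqT.w
  let τ : (AlgSp.yon S).obj (pullback d c) ⟶ W.obj := hW.lift _ _ hτw
  have hτp : τ ≫ p.hom = (AlgSp.yon S).map (pullback.fst d c) ≫ px.toHom := hW.lift_fst _ _ _
  have hτq : τ ≫ q.hom = (AlgSp.yon S).map (pullback.snd d c) ≫ l.toHom := hW.lift_snd _ _ _
  refine (Set.finite_range (AlgSp.Points.ofPt τ)).subset ?_
  rintro w ⟨hwx, hwz⟩
  -- first square
  have sqA : IsPullback (pullback.fst px.toHom p.hom) (pullback.snd px.toHom p.hom) px.toHom p.hom :=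
    IsPullback.of_hasPullback _ _
  have sqA2 : IsPullback (pullback.fst px.toHom p.hom) (pullback.snd px.toHom p.hom ≫ q.hom)
      (px.toHom ≫ f.hom) g.hom := (sqA.flip.paste_horiz hW.flip).flip
  let β : (AlgSp.yon S).obj (pullback d c) ⟶ pullback px.toHom p.hom :=
    sqA.lift ((AlgSp.yon S).map (pullback.fst d c)) τ hτp.symm
  have hβ1 : β ≫ pullback.fst px.toHom p.hom = (AlgSp.yon S).map (pullback.fst d c) :=
    sqA.lift_fst _ _ _
  have hβ2 : β ≫ pullback.snd px.toHom p.hom = τ := sqA.lift_snd _ _ _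
  have bigB : IsPullback (β ≫ pullback.fst px.toHom p.hom) ((AlgSp.yon S).map (pullback.snd d c))
      (px.toHom ≫ f.hom) (l.toHom ≫ g.hom) := by rw [hβ1]; exact sqT
  have sqB : IsPullback β ((AlgSp.yon S).map (pullback.snd d c))
      (pullback.snd px.toHom p.hom ≫ q.hom) l.toHom :=
    IsPullback.of_right bigB (by rw [← Category.assoc, hβ2, hτq]) sqA2
  have e1 : AlgSp.Points.map px.toHom (AlgSp.Points.ofScheme px.pt (IsLocalRing.closedPoint px.K)) =
      AlgSp.Points.map p.hom w := by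
    rw [← AlgSp.Points.ofPt_eq_map_ofScheme, AlgSp.Points.ofPt_toHom, hpx, hwx]
  obtain ⟨w1, -, hw1⟩ := Groth.Agent.S10175.exists_point_of_isPullback sqA _ w e1
  have e2 : AlgSp.Points.ofPt l.toHom (IsLocalRing.closedPoint l.K) =
      AlgSp.Points.map (pullback.snd px.toHom p.hom ≫ q.hom) w1 := by
    rw [AlgSp.Points.ofPt_toHom, AlgSp.Points.map_comp, hw1, hwz, hlz]
  obtain ⟨t, ht, -⟩ := Groth.Agent.Lib.H5bIntDimSp.exists_point_of_isPullback_chart sqB w1 _ e2
  refine ⟨t, ?_⟩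
  rw [← hβ2, ← AlgSp.Points.map_ofPt, ht, hw1]

end Groth.Agent.S10389
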