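import Groth.Statements.S10390
import Mathlib
import Groth.Agent.S9874
import Groth.Agent.S9906
import Groth.Agent.S9938
import Groth.Agent.S10175
import Groth.Agent.S10176
import Groth.Agent.S10177
import Groth.Agent.S10341
import Groth.Agent.S10360
import Groth.Agent.Lib.H5bFibEmb
import Groth.Agent.Lib.H5bFQ3
import Groth.Agent.Lib.H5bDvrExt
import Groth.Agent.Lib.H5bIntDimSp

set_option autoImplicit false
set_option linter.style.haveILetI false
universe u
open CategoryTheory CategoryTheory.Limits AlgebraicGeometry Topology TopologicalSpace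
open AlgSp

namespace Groth.Agent.S10390

open CategoryTheory.Limits Opposite MorphismProperty

variable {S : Scheme.{u}}

/-- an étale chart with exactly one point over a point with a quasi-compact monomorphic
representative. -/
theorem exists_chart_unique_point (Y : AlgSp.Space S) (r : AlgSp.FieldPt Y.obj)
    (hm : Mono r.toHom) (hq : AlgSp.RepWith @QuasiCompact r.toHom) :
    ∃ (V : Over S) (b : (AlgSp.yon S).obj V ⟶ Y.obj) (v : ↥V.left), AlgSp.RepWith @Etale b ∧
      AlgSp.Points.ofPt b v = AlgSp.Points.mk r ∧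
      ∀ v' : ↥V.left, AlgSp.Points.ofPt b v' = AlgSp.Points.mk r → v' = v := by
  classical
  obtain ⟨U, a, u0, hU, ha, hu0⟩ :=
    Groth.Agent.Lib.H5bDvrExt.exists_affine_chart_at Y.property (AlgSp.Points.mk r)
  have hfin : ∀ (V : Over S) (b : (AlgSp.yon S).obj V ⟶ Y.obj), IsAffine V.left →
      AlgSp.RepWith @Etale b → (AlgSp.Points.ofPt b ⁻¹' {AlgSp.Points.mk r}).Finite := by
    intro V b hV hb
    exact ((Groth.Agent.S10360.result Y (AlgSp.Points.mk r)).2 ⟨r, rfl, hm, hq⟩ V b hV hb _ _ _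
      (hb.1.isPullback' b)).1
  have hA := hfin U a hU ha
  set A : Set ↥U.left := AlgSp.Points.ofPt a ⁻¹' {AlgSp.Points.mk r} with hAdef
  have hnospec : ∀ u u' : ↥U.left, u ∈ A → u' ∈ A → u' ⤳ u → u = u' := fun u u' hu hu' hs =>
    Groth.Agent.S10341.result Y (AlgSp.Points.mk r) hfin a ha u u' hu hu' hs
  have hB : (A \ {u0}).Finite := hA.subset Set.sdiff_subset
  have hu0not : u0 ∉ closure (A \ {u0}) := by
    intro hmem
    rw [← Set.biUnion_of_singleton (A \ {u0}), hB.closure_biUnion] at hmem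
    obtain ⟨a', ha', hmem'⟩ := Set.mem_iUnion₂.1 hmem
    have hs : a' ⤳ u0 := specializes_iff_mem_closure.2 hmem'
    have := hnospec u0 a' hu0 ha'.1 hs
    exact ha'.2 this.symm
  let V0 : U.left.Opens := ⟨(closure (A \ {u0}))ᶜ, isClosed_closure.isOpen_compl⟩
  let V : Over S := Over.mk (V0.ι ≫ U.hom)
  let ι : V ⟶ U := Over.homMk V0.ι rfl
  have hιe : AlgSp.RepWith @Etale ((AlgSp.yon S).map ι) := by
    rw [AlgSp.repWith_yon_map_iff]
    show Etale V0.ι
    infer_instance
  refine ⟨V, (AlgSp.yon S).map ι ≫ a, ⟨u0, hu0not⟩, (AlgSp.RepWith @Etale).comp_mem _ _ hιe ha, ?_, ?_⟩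
  · rw [Groth.Agent.S10176.ofPt_map_comp]
    exact hu0
  · intro v' hv'
    rw [Groth.Agent.S10176.ofPt_map_comp] at hv'
    have h1 : ι.left v' ∈ A := hv'
    have h2 : ι.left v' ∉ closure (A \ {u0}) := v'.2
    have h3 : ι.left v' = u0 := by
      by_contra hne
      exact h2 (subset_closure ⟨h1, hne⟩)
    exact Subtype.ext h3

/-- the fibre of a chart with a unique point over `y` is a preimmersion into the chart. -/
theorem isPreimmersion_fibre {Y : AlgSp.Space S} (r : AlgSp.FieldPt Y.obj) (hm : Mono r.toHom)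
    {V : Over S} (b : (AlgSp.yon S).obj V ⟶ Y.obj) (hb : AlgSp.RepWith @Etale b) (v : ↥V.left)
    (hv : AlgSp.Points.ofPt b v = AlgSp.Points.mk r)
    (huniq : ∀ v' : ↥V.left, AlgSp.Points.ofPt b v' = AlgSp.Points.mk r → v' = v)
    {T : Over S} (π : T ⟶ r.pt) (m : T ⟶ V)
    (sq : IsPullback ((AlgSp.yon S).map π) ((AlgSp.yon S).map m) r.toHom b) :
    IsPreimmersion m.left := by
  haveI := hm
  haveI : Etale π.left := hb.2 _ _ _ sq.flip
  haveI : Mono m.left := Groth.Agent.Lib.H5bFQ3.mono_left_of_sq r.toHom b π m sq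
  have e : AlgSp.Points.ofPt b v =
      AlgSp.Points.ofPt r.toHom (IsLocalRing.closedPoint r.K) := by
    rw [AlgSp.Points.ofPt_toHom]; exact hv
  obtain ⟨t0, -, -⟩ := Groth.Agent.S10176.exists_point_of_isPullback_yon sq.flip v _ e
  haveI : Nonempty ↥T.left := ⟨t0⟩
  haveI : Subsingleton ↥T.left := by
    refine ⟨fun t t' => ?_⟩
    have h1 := huniq _ (Groth.Agent.Lib.H5bFQ3.ofPt_eq_mk_of_sq r b π m sq.w t)
    have h2 := huniq _ (Groth.Agent.Lib.H5bFQ3.ofPt_eq_mk_of_sq r b π m sq.w t')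
    exact m.left.injective (h1.trans h2.symm)
  obtain ⟨K, hK, ⟨e0⟩⟩ := Groth.Agent.Lib.H5bFibEmb.exists_iso_spec_field (k := r.K) π.left
  haveI : Mono (e0.hom ≫ m.left) := mono_comp _ _
  haveI : IsPreimmersion (e0.hom ≫ m.left) :=
    Groth.Agent.Lib.H5bFibEmb.isPreimmersion_of_mono_field _
  have : m.left = e0.inv ≫ (e0.hom ≫ m.left) := by rw [Iso.inv_hom_id_assoc]
  rw [this]
  infer_instance

/-- Let S be a scheme, X and Y algebraic spaces over S, and f : X ⟶ Y a morphism, and let y ∈ |Y| be a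
point represented by a monomorphism Spec k ⟶ Y which is representable quasi-compact. Then for the
fibre X_k = Spec k ×_Y X the map |X_k| → |X| is a homeomorphism of |X_k| onto f⁻¹({y}) with its
induced topology. -/
theorem result {S : Scheme.{u}} {X Y : AlgSp.Space S} (f : X ⟶ Y)
    (r : AlgSp.FieldPt Y.obj) (hm : Mono r.toHom) (hq : AlgSp.RepWith @QuasiCompact r.toHom)
    (Xk : AlgSp.Space S) (fst : Xk ⟶ X) (snd : Xk.obj ⟶ (AlgSp.yon S).obj r.pt) (hsq : IsPullback fst.hom snd f.hom r.toHom) :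
    IsEmbedding (AlgSp.Points.map fst.hom) ∧
      Set.range (AlgSp.Points.map fst.hom) = AlgSp.Points.map f.hom ⁻¹' {AlgSp.Points.mk r} := by
  classical
  haveI := hm
  -- the range
  have hrange : Set.range (AlgSp.Points.map fst.hom) =
      AlgSp.Points.map f.hom ⁻¹' {AlgSp.Points.mk r} := by
    ext x
    constructor
    · rintro ⟨w, rfl⟩
      show AlgSp.Points.map f.hom (AlgSp.Points.map fst.hom w) = AlgSp.Points.mk r
      rw [← AlgSp.Points.map_comp, hsq.w, AlgSp.Points.map_comp]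
      obtain ⟨t, ht⟩ := Groth.Agent.S10177.surjective_ofPt (𝟙 ((AlgSp.yon S).obj r.pt))
        (AlgSp.repWith_id _ _) (AlgSp.Points.map snd w)
      rw [← ht, AlgSp.Points.map_ofPt, Category.id_comp, AlgSp.Points.ofPt_toHom]
    · intro hx
      have e1 : AlgSp.Points.map r.toHom (AlgSp.Points.ofScheme r.pt (IsLocalRing.closedPoint r.K)) =
          AlgSp.Points.map f.hom x := by
        rw [← AlgSp.Points.ofPt_eq_map_ofScheme, AlgSp.Points.ofPt_toHom]; exact hx.symm
      obtain ⟨w, -, hw⟩ := Groth.Agent.S10175.exists_point_of_isPullback hsq.flip _ x e1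
      exact ⟨w, hw⟩
  refine ⟨⟨?_, ?_⟩, hrange⟩
  swap
  · -- injectivity
    apply Groth.Agent.S9938.injective_map_of_injK
    intro K _ str α β hαβ
    apply hsq.hom_ext hαβ
    rw [← cancel_mono r.toHom, Category.assoc, Category.assoc, ← hsq.w, ← Category.assoc,
      ← Category.assoc]
    exact congrArg (· ≫ f.hom) hαβ
  -- inducing
  obtain ⟨V, b, v, hb, hv, huniq⟩ := exists_chart_unique_point Y r hm hq
  have sqXV : IsPullback (pullback.fst f.hom b) (pullback.snd f.hom b) f.hom b :=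
    IsPullback.of_hasPullback _ _
  have hXV : AlgSp.IsAlgSpace (pullback f.hom b) :=
    Groth.Agent.S9874.isAlgSpace_of_isPullback Y.property.diag X.property
      (AlgSp.IsAlgSpace.yon_obj _) sqXV
  obtain ⟨U, c, hce, hcs⟩ := hXV.atlas
  have hpXe : AlgSp.RepWith @Etale (pullback.fst f.hom b) :=
    (AlgSp.RepWith @Etale).of_isPullback sqXV.flip hb
  have hφe : AlgSp.RepWith @Etale (c ≫ pullback.fst f.hom b) :=
    (AlgSp.RepWith @Etale).comp_mem _ _ hce hpXe
  obtain ⟨g, hg⟩ := (AlgSp.yon S).map_surjective (c ≫ pullback.snd f.hom b)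
  have hφf : (c ≫ pullback.fst f.hom b) ≫ f.hom = (AlgSp.yon S).map g ≫ b := by
    rw [Category.assoc, sqXV.w, ← Category.assoc, hg]
  -- the fibre of `V`
  have hrepb := Y.property.representable_from_yon b
  obtain ⟨T, m, π, sqT0⟩ : ∃ (T : Over S) (m : T ⟶ V) (π : T ⟶ r.pt),
      IsPullback ((AlgSp.yon S).map m) ((AlgSp.yon S).map π) b r.toHom :=
    ⟨_, _, _, hrepb.isPullback' r.toHom⟩
  have sqT := sqT0.flip
  haveI hmp : IsPreimmersion m.left := isPreimmersion_fibre r hm b hb v hv huniq π m sqT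
  -- the fibre of `U`
  have sqUk0 : IsPullback (pullback.fst g m) (pullback.snd g m) g m := IsPullback.of_hasPullback g m
  haveI hjp : IsPreimmersion (pullback.fst g m).left :=
    MorphismProperty.of_isPullback (P := @IsPreimmersion) (sqUk0.map (Over.forget S)).flip hmp
  have hemb : IsEmbedding (pullback.fst g m).left := (pullback.fst g m).left.isEmbedding
  have big : IsPullback ((AlgSp.yon S).map (pullback.snd g m) ≫ (AlgSp.yon S).map π)
      ((AlgSp.yon S).map (pullback.fst g m)) r.toHom ((AlgSp.yon S).map g ≫ b) :=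
    (sqUk0.flip.map (AlgSp.yon S)).paste_horiz sqT
  rw [← hφf] at big
  have hκw : ((AlgSp.yon S).map (pullback.fst g m) ≫ c ≫ pullback.fst f.hom b) ≫ f.hom =
      ((AlgSp.yon S).map (pullback.snd g m) ≫ (AlgSp.yon S).map π) ≫ r.toHom := by
    rw [Category.assoc]; exact big.w.symm
  let κ : (AlgSp.yon S).obj (pullback g m) ⟶ Xk.obj := hsq.lift _ _ hκw
  have hκ1 : κ ≫ fst.hom = (AlgSp.yon S).map (pullback.fst g m) ≫ c ≫ pullback.fst f.hom b :=
    hsq.lift_fst _ _ _
  have hκ2 : κ ≫ snd = (AlgSp.yon S).map (pullback.snd g m) ≫ (AlgSp.yon S).map π :=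
    hsq.lift_snd _ _ _
  have big' : IsPullback (κ ≫ snd) ((AlgSp.yon S).map (pullback.fst g m)) r.toHom
      ((c ≫ pullback.fst f.hom b) ≫ f.hom) := by rw [hκ2]; exact big
  have sqK : IsPullback κ ((AlgSp.yon S).map (pullback.fst g m)) fst.hom
      (c ≫ pullback.fst f.hom b) := IsPullback.of_right big' hκ1 hsq.flip
  -- surjectivity of the chart onto the fibre
  have hsurj : ∀ x : AlgSp.Points X.obj, AlgSp.Points.map f.hom x = AlgSp.Points.mk r →
      ∃ u : ↥U.left, AlgSp.Points.ofPt (c ≫ pullback.fst f.hom b) u = x := by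
    intro x hx
    have e1 : AlgSp.Points.map b (AlgSp.Points.ofScheme V v) = AlgSp.Points.map f.hom x := by
      rw [← AlgSp.Points.ofPt_eq_map_ofScheme, hv, hx]
    obtain ⟨xV, -, hxV⟩ := Groth.Agent.S10175.exists_point_of_isPullback sqXV.flip _ x e1
    obtain ⟨u, hu⟩ := Groth.Agent.S10177.surjective_ofPt c hcs xV
    refine ⟨u, ?_⟩
    rw [← AlgSp.Points.map_ofPt, hu, hxV]
  have hopen := Groth.Agent.S10176.isOpenMap_ofPt _ hφe
  refine ⟨le_antisymm (continuous_iff_le_induced.1 (AlgSp.Points.continuous_map fst.hom)) ?_⟩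
  intro W hW
  rw [isOpen_induced_iff]
  have hWU : IsOpen (AlgSp.Points.ofPt κ ⁻¹' W) := (AlgSp.Points.continuous_ofPt κ).isOpen_preimage W hW
  obtain ⟨O', hO', hO'eq⟩ := hemb.isInducing.isOpen_iff.1 hWU
  refine ⟨AlgSp.Points.ofPt (c ≫ pullback.fst f.hom b) '' O', hopen O' hO', ?_⟩
  ext xk
  constructor
  · rintro ⟨u', hu'O, hu'⟩
    obtain ⟨w, hw, hwj⟩ :=
      Groth.Agent.Lib.H5bIntDimSp.exists_point_of_isPullback_chart sqK xk u' hu'
    have : w ∈ AlgSp.Points.ofPt κ ⁻¹' W := by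
      rw [← hO'eq]; show (pullback.fst g m).left w ∈ O'; rw [hwj]; exact hu'O
    rw [← hw]; exact this
  · intro hxk
    have hx : AlgSp.Points.map f.hom (AlgSp.Points.map fst.hom xk) = AlgSp.Points.mk r := by
      have : AlgSp.Points.map fst.hom xk ∈ Set.range (AlgSp.Points.map fst.hom) := ⟨xk, rfl⟩
      rw [hrange] at this; exact this
    obtain ⟨u, hu⟩ := hsurj _ hx
    obtain ⟨w, hw, hwj⟩ :=
      Groth.Agent.Lib.H5bIntDimSp.exists_point_of_isPullback_chart sqK xk u hu
    have hwW : w ∈ AlgSp.Points.ofPt κ ⁻¹' W := by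
      show AlgSp.Points.ofPt κ w ∈ W; rw [hw]; exact hxk
    rw [← hO'eq] at hwW
    exact ⟨u, hwj ▸ hwW, hu⟩

end Groth.Agent.S10390
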