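import Groth.Statements.S10391
import Mathlib
import Groth.Agent.Lib.H5bResTrdeg
import Groth.Agent.Lib.H5bHasAtMor
import Groth.Agent.Lib.Helper4DimFormulaAP
import Groth.Agent.Lib.Helper4DimFormulaAL
import Groth.Agent.Lib.Helper7TopDim
import Groth.Agent.Lib.Helper3GrpHomQF
import Groth.Agent.S10176
import Groth.Agent.S10177
import Groth.Agent.S10338
import Groth.Agent.S5341

set_option autoImplicit false
universe u
open CategoryTheory CategoryTheory.Limits AlgebraicGeometry Topology TopologicalSpace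
open AlgSp

namespace Groth.Agent.S10391

open Groth.Agent.Lib.Helper4.DimFormula in
/-- Lemma E: on a locally closed set `G` of a Jacobson scheme on which the residue transcendence
degree is constant, the local fibre dimension vanishes at points all of whose generizations lie
in `G`. -/
lemma fibreDimAt_le_zero_of_const' {T B : Scheme.{u}} (g : T ⟶ B) [LocallyOfFiniteType g]
    [JacobsonSpace ↥T] (G : Set ↥T) (hG : IsLocallyClosed G)
    (hconst : ∀ t₁ ∈ G, ∀ t₂ ∈ G, Dual3.resTrdeg g t₁ = Dual3.resTrdeg g t₂)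
    (t : ↥T) (ht : t ∈ G) (hgen : ∀ w : ↥T, w ⤳ t → w ∈ G) : FlatMor.fibreDimAt g t ≤ 0 := by
  obtain ⟨z, hzG, hz⟩ := nonempty_inter_closedPoints ⟨t, ht⟩ hG
  have h0 : ptTrdeg g z = 0 := ptTrdeg_eq_zero_of_isClosed g z hz
  obtain ⟨w', -, hsp, hw'⟩ := exists_ptTrdeg_eq_fibreDimAt g t
  have h3 : Dual3.resTrdeg g w' = Dual3.resTrdeg g z := hconst w' (hgen w' hsp) z hzG
  rw [Groth.Agent.Lib.H5bResTrdeg.resTrdeg_eq_ptTrdeg,
    Groth.Agent.Lib.H5bResTrdeg.resTrdeg_eq_ptTrdeg, h0] at h3
  have h4 : ptTrdeg g w' = 0 := by exact_mod_cast h3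
  rw [hw', h4]
  simp

/-- a set of clopen points in a locally Noetherian scheme is closed. -/
lemma isClosed_of_forall_isOpen_singleton {T : Scheme.{u}} [IsLocallyNoetherian T] (G : Set ↥T)
    (hG : ∀ t ∈ G, IsOpen ({t} : Set ↥T) ∧ IsClosed ({t} : Set ↥T)) : IsClosed G := by
  rw [← closure_subset_iff_isClosed]
  intro w hw
  obtain ⟨_, ⟨W, hW, rfl⟩, hwW, -⟩ := T.isBasis_affineOpens.exists_subset_of_mem_open
    (Set.mem_univ w) isOpen_univ
  replace hW : IsAffineOpen W := hW
  haveI : IsNoetherianRing Γ(T, W) := IsLocallyNoetherian.component_noetherian ⟨W, hW⟩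
  haveI : NoetherianSpace ((W : Set ↥T) : Type u) := noetherianSpace_of_isAffineOpen W hW
  have hfin : (G ∩ (W : Set ↥T)).Finite := by
    have hc : IsCompact (Subtype.val ⁻¹' G : Set ((W : Set ↥T) : Type u)) :=
      NoetherianSpace.isCompact _
    have hd : _root_.IsDiscrete (Subtype.val ⁻¹' G : Set ((W : Set ↥T) : Type u)) := by
      rw [isDiscrete_iff_forall_mem_exists_isOpen]
      intro y hy
      refine ⟨{y}, ?_, ?_⟩
      · have := (hG y.1 hy).1.preimage (continuous_subtype_val (p := fun t => t ∈ (W : Set ↥T)))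
        convert this
        ext y'
        simp only [Set.mem_singleton_iff, Set.mem_preimage]
        exact Subtype.ext_iff
      · ext y'
        simp only [Set.mem_inter_iff, Set.mem_singleton_iff, Set.mem_preimage]
        constructor
        · rintro ⟨h1, -⟩; exact h1
        · rintro rfl; exact ⟨rfl, hy⟩
    have h1 := (hc.finite hd).image Subtype.val
    refine h1.subset ?_
    rintro t ⟨htG, htW⟩
    exact ⟨⟨t, htW⟩, htG, rfl⟩
  have hcl : IsClosed (G ∩ (W : Set ↥T)) := by
    have := hfin.isClosed_biUnion (f := fun t => ({t} : Set ↥T)) (fun t ht => (hG t ht.1).2)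
    rwa [Set.biUnion_of_singleton] at this
  have h1 : w ∈ closure (G ∩ (W : Set ↥T)) := by
    have := W.isOpen.inter_closure (t := G) ⟨hwW, hw⟩
    rwa [Set.inter_comm] at this
  rw [hcl.closure_eq] at h1
  exact h1.1

/-- Let k be a field, X an algebraic space over k which is locally of finite type, and x ∈ |X|. The
conditions (2) x is closed in |X| and has no proper generization, (3) x is an isolated point of |X|,
(4) dim_x(X) = 0 are equivalent; if X is decent they are also equivalent to (1) dim_x(|X|) = 0. (The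
equivalence with quasi-finiteness of X → Spec k at x is not part of this row.) -/
theorem result (k : Type u) [Field k] (X : AlgSp.Space (Spec (CommRingCat.of k)))
    (p : X.obj ⟶ (AlgSp.yon (Spec (CommRingCat.of k))).obj (Over.mk (𝟙 _))) (hp : AlgSp.LocP @LocallyOfFiniteType p) (x : AlgSp.Points X.obj) :
    (IsOpen ({x} : Set (AlgSp.Points X.obj)) ↔
        (IsClosed ({x} : Set (AlgSp.Points X.obj)) ∧ ∀ x' : AlgSp.Points X.obj, x' ⤳ x → x' = x)) ∧
      (IsOpen ({x} : Set (AlgSp.Points X.obj)) ↔ AlgSp.HasAt (fun U u => FlatMor.localDim ↥U u = 0) X.obj x) ∧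
      (AlgSp.IsDecent X.obj →
        (FlatMor.localDim (AlgSp.Points X.obj) x = 0 ↔ IsOpen ({x} : Set (AlgSp.Points X.obj)))) := by
  classical
  have hsub : Subsingleton ↥(Over.mk (𝟙 (Spec (CommRingCat.of k)))).left :=
    show Subsingleton ↥(Spec (CommRingCat.of k)) from inferInstance
  haveI hjac : JacobsonSpace ↥(Over.mk (𝟙 (Spec (CommRingCat.of k)))).left :=
    show JacobsonSpace ↥(Spec (CommRingCat.of k)) from inferInstance
  haveI hln : IsLocallyNoetherian (Over.mk (𝟙 (Spec (CommRingCat.of k)))).left :=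
    show IsLocallyNoetherian (Spec (CommRingCat.of k)) from inferInstance
  -- chart facts
  have chart : ∀ {U : Over (Spec (CommRingCat.of k))}
      (a : (AlgSp.yon (Spec (CommRingCat.of k))).obj U ⟶ X.obj), AlgSp.RepWith @Etale a →
      ∃ g : U ⟶ Over.mk (𝟙 (Spec (CommRingCat.of k))),
        a ≫ p = (AlgSp.yon (Spec (CommRingCat.of k))).map g ≫ 𝟙 _ ∧
          LocallyOfFiniteType g.left := by
    intro U a ha
    obtain ⟨g, hg⟩ := (AlgSp.yon (Spec (CommRingCat.of k))).map_surjective (a ≫ p)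
    have hcomm : a ≫ p = (AlgSp.yon (Spec (CommRingCat.of k))).map g ≫ 𝟙 _ := by
      rw [hg, Category.comp_id]
    exact ⟨g, hcomm, hp a (𝟙 _) g ha (AlgSp.repWith_id _ _) hcomm⟩
  -- the key statement
  have star : ∀ {U : Over (Spec (CommRingCat.of k))}
      (a : (AlgSp.yon (Spec (CommRingCat.of k))).obj U ⟶ X.obj), AlgSp.RepWith @Etale a →
      ∀ u : ↥U.left, IsLocallyClosed ({AlgSp.Points.ofPt a u} : Set (AlgSp.Points X.obj)) →
      (∀ x' : AlgSp.Points X.obj, x' ⤳ AlgSp.Points.ofPt a u → x' = AlgSp.Points.ofPt a u) →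
      IsOpen ({u} : Set ↥U.left) ∧ IsClosed ({u} : Set ↥U.left) ∧
        FlatMor.localDim ↥U.left u = 0 := by
    intro U a ha u hlc hgen
    obtain ⟨g, hcomm, hlft⟩ := chart a ha
    haveI := hlft
    haveI : JacobsonSpace ↥U.left := LocallyOfFiniteType.jacobsonSpace g.left
    haveI : IsLocallyNoetherian U.left := LocallyOfFiniteType.isLocallyNoetherian g.left
    have hconst : ∀ t₁ ∈ AlgSp.Points.ofPt a ⁻¹' {AlgSp.Points.ofPt a u},
        ∀ t₂ ∈ AlgSp.Points.ofPt a ⁻¹' {AlgSp.Points.ofPt a u},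
        Dual3.resTrdeg g.left t₁ = Dual3.resTrdeg g.left t₂ := by
      intro t₁ ht₁ t₂ ht₂
      have e1 := Groth.Agent.Lib.H5bHasAtMor.hasAtMor_iff_of_chart
        (Groth.Agent.Lib.H5bResTrdeg.etLocalQ_resTrdeg (fun e => e = Dual3.resTrdeg g.left t₂))
        p (AlgSp.Points.ofPt a u) a (𝟙 _) g ha (AlgSp.repWith_id _ _) hcomm t₁ ht₁
      have e2 := Groth.Agent.Lib.H5bHasAtMor.hasAtMor_iff_of_chart
        (Groth.Agent.Lib.H5bResTrdeg.etLocalQ_resTrdeg (fun e => e = Dual3.resTrdeg g.left t₂))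
        p (AlgSp.Points.ofPt a u) a (𝟙 _) g ha (AlgSp.repWith_id _ _) hcomm t₂ ht₂
      exact e1.1 (e2.2 rfl)
    have hle : FlatMor.fibreDimAt g.left u ≤ 0 :=
      fibreDimAt_le_zero_of_const' g.left (AlgSp.Points.ofPt a ⁻¹' {AlgSp.Points.ofPt a u})
        (hlc.preimage (AlgSp.Points.continuous_ofPt a)) hconst u rfl
        (fun w hw => hgen _ (hw.map (AlgSp.Points.continuous_ofPt a)))
    rw [Groth.Agent.S5341.fibreDimAt_eq_localDim_of_subsingleton] at hle
    have hopen : IsOpen ({u} : Set ↥U.left) :=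
      (Groth.Agent.Lib.Helper3.GrpHomQF.isOpen_singleton_iff_localDim_le_zero U.left u).2 hle
    exact ⟨hopen, isClosed_singleton_of_isLocallyClosed_singleton hopen.isLocallyClosed,
      le_antisymm hle (Groth.Agent.Lib.Helper7.TopDim.localDim_nonneg u)⟩
  obtain ⟨U₀, a₀, ha₀, ha₀s⟩ := X.property.atlas
  obtain ⟨u₀, hu₀⟩ := Groth.Agent.S10177.surjective_ofPt a₀ ha₀s x
  -- open from locally closed + no generization
  have openOf : IsLocallyClosed ({x} : Set (AlgSp.Points X.obj)) →
      (∀ x' : AlgSp.Points X.obj, x' ⤳ x → x' = x) → IsOpen ({x} : Set (AlgSp.Points X.obj)) := by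
    intro hlc hgen
    subst hu₀
    have h1 := (star a₀ ha₀ u₀ hlc hgen).1
    have h2 := Groth.Agent.S10176.isOpenMap_ofPt a₀ ha₀ {u₀} h1
    rwa [Set.image_singleton] at h2
  have genOf : IsOpen ({x} : Set (AlgSp.Points X.obj)) →
      ∀ x' : AlgSp.Points X.obj, x' ⤳ x → x' = x := by
    intro hopen x' hsp
    exact hsp.mem_open hopen rfl
  refine ⟨⟨fun hopen => ⟨?_, genOf hopen⟩, fun h => openOf h.1.isLocallyClosed h.2⟩,
    ⟨fun hopen => ?_, ?_⟩, fun hdec => ⟨fun hd => ?_, fun hopen => ?_⟩⟩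
  · -- closedness
    rw [← (Groth.Agent.S10177.isQuotientMap_ofPt a₀ ha₀ ha₀s).isClosed_preimage]
    obtain ⟨g, hcomm, hlft⟩ := chart a₀ ha₀
    haveI := hlft
    haveI : IsLocallyNoetherian U₀.left := LocallyOfFiniteType.isLocallyNoetherian g.left
    refine isClosed_of_forall_isOpen_singleton _ fun t ht => ?_
    have ht' : AlgSp.Points.ofPt a₀ t = x := ht
    subst ht'
    have h1 := star a₀ ha₀ t hopen.isLocallyClosed (genOf hopen)
    exact ⟨h1.1, h1.2.1⟩
  · subst hu₀
    exact ⟨U₀, a₀, u₀, ha₀, rfl, (star a₀ ha₀ u₀ hopen.isLocallyClosed (genOf hopen)).2.2⟩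
  · rintro ⟨U, a, u, ha, hu, hd⟩
    obtain ⟨g, hcomm, hlft⟩ := chart a ha
    haveI := hlft
    haveI : IsLocallyNoetherian U.left := LocallyOfFiniteType.isLocallyNoetherian g.left
    have h1 : IsOpen ({u} : Set ↥U.left) :=
      (Groth.Agent.Lib.Helper3.GrpHomQF.isOpen_singleton_iff_localDim_le_zero U.left u).2 hd.le
    have h2 := Groth.Agent.S10176.isOpenMap_ofPt a ha {u} h1
    rwa [Set.image_singleton, hu] at h2
  · -- decent: local dimension zero implies open
    haveI : T0Space (AlgSp.Points X.obj) := Groth.Agent.S10338.result X hdec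
    obtain ⟨W, hxW, hW⟩ := Groth.Agent.Lib.Helper7.TopDim.exists_opens_dim_eq_localDim x
    rw [hd] at hW
    have hcl : ∀ w : ↥(W : Set (AlgSp.Points X.obj)), IsClosed ({w} : Set ↥(W : Set (AlgSp.Points X.obj))) :=
      fun w => Groth.Agent.Lib.Helper7.TopDim.isClosed_singleton_of_dim_le_zero hW.le w
    refine openOf ?_ ?_
    · obtain ⟨C, hC, hCx⟩ := isClosed_induced_iff.mp (hcl ⟨x, hxW⟩)
      have : ({x} : Set (AlgSp.Points X.obj)) = (W : Set (AlgSp.Points X.obj)) ∩ C := by
        ext z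
        simp only [Set.mem_singleton_iff, Set.mem_inter_iff]
        constructor
        · rintro rfl
          refine ⟨hxW, ?_⟩
          have : (⟨z, hxW⟩ : ↥(W : Set (AlgSp.Points X.obj))) ∈ Subtype.val ⁻¹' C := by
            rw [hCx]; rfl
          exact this
        · rintro ⟨hzW, hzC⟩
          have : (⟨z, hzW⟩ : ↥(W : Set (AlgSp.Points X.obj))) ∈ Subtype.val ⁻¹' C := hzC
          rw [hCx] at this
          exact congrArg Subtype.val this
      rw [this]
      exact ⟨W, C, W.isOpen, hC, rfl⟩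
    · intro x' hsp
      have hx'W : x' ∈ W := hsp.mem_open W.isOpen hxW
      have h1 : (⟨x', hx'W⟩ : ↥(W : Set (AlgSp.Points X.obj))) ⤳ ⟨x, hxW⟩ :=
        (subtype_specializes_iff _ _).mpr hsp
      have h2 := h1.mem_closed (hcl ⟨x', hx'W⟩) rfl
      exact (congrArg Subtype.val h2).symm
  · -- open implies local dimension zero
    refine le_antisymm ?_ (Groth.Agent.Lib.Helper7.TopDim.localDim_nonneg x)
    refine (Groth.Agent.Lib.Helper7.TopDim.localDim_le x ⟨{x}, hopen⟩ rfl).trans ?_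
    haveI : Nonempty ↥({x} : Set (AlgSp.Points X.obj)) := ⟨⟨x, rfl⟩⟩
    haveI : DiscreteTopology ↥({x} : Set (AlgSp.Points X.obj)) := inferInstance
    exact topologicalKrullDim_zero_of_discreteTopology _

end Groth.Agent.S10391
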