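import Groth.Statements.S10392
import Mathlib
import Groth.Agent.Lib.H5bFieldSp
import Groth.Agent.Lib.H5bIntDimSp
import Groth.Agent.S10176
import Groth.Agent.S10177
import Groth.Agent.S10338

set_option autoImplicit false
universe u
open CategoryTheory CategoryTheory.Limits AlgebraicGeometry Topology TopologicalSpace
open AlgSp

namespace Groth.Agent.S10392

/-- in a finite T0 space every point is locally closed. -/
lemma isLocallyClosed_singleton_of_finite {Z : Type*} [TopologicalSpace Z] [T0Space Z] [Finite Z]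
    (x : Z) : IsLocallyClosed ({x} : Set Z) := by
  have hC : IsClosed (⋃ x' ∈ {x' : Z | x ⤳ x' ∧ x' ≠ x}, closure ({x'} : Set Z)) :=
    (Set.toFinite _).isClosed_biUnion (fun _ _ => isClosed_closure)
  refine ⟨(⋃ x' ∈ {x' : Z | x ⤳ x' ∧ x' ≠ x}, closure ({x'} : Set Z))ᶜ, closure {x},
    hC.isOpen_compl, isClosed_closure, ?_⟩
  ext z
  simp only [Set.mem_singleton_iff, Set.mem_inter_iff, Set.mem_compl_iff, Set.mem_iUnion,
    Set.mem_setOf_eq, not_exists]
  constructor
  · rintro rfl
    refine ⟨?_, subset_closure rfl⟩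
    rintro x' ⟨hsp, hne⟩ hz
    have hsp' : x' ⤳ z := specializes_iff_mem_closure.mpr hz
    exact hne (hsp'.antisymm hsp).eq
  · rintro ⟨h1, h2⟩
    by_contra hne
    exact h1 z ⟨specializes_iff_mem_closure.mpr h2, hne⟩ (subset_closure rfl)

/-- Let k be a field and X a nonempty algebraic space over k which is locally of finite type. Then (2)
|X| is discrete if and only if (4) dim X = 0, and these imply (3) dim |X| = 0; if X is decent then
(3) implies (2) and (1) |X| finite implies (4). (The published statement asserts (2) ⇔ (3) ⇔ (4) for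
every such X and does not exclude the empty space; for the quotient of the affine line over a field
of characteristic zero by the translation action of the integers, |X| is an infinite set with the
indiscrete topology, so (3) holds while (2) and (4) fail, and for the empty space (2) holds while
dim X = ⊥. The equivalence with local quasi-finiteness of X → Spec k is not part of this row.) -/
theorem result (k : Type u) [Field k] (X : AlgSp.Space (Spec (CommRingCat.of k)))
    (p : X.obj ⟶ (AlgSp.yon (Spec (CommRingCat.of k))).obj (Over.mk (𝟙 _))) (hp : AlgSp.LocP @LocallyOfFiniteType p) [Nonempty (AlgSp.Points X.obj)] :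
    (DiscreteTopology (AlgSp.Points X.obj) ↔ AlgSp.dim X.obj = 0) ∧
      (DiscreteTopology (AlgSp.Points X.obj) → topologicalKrullDim (AlgSp.Points X.obj) = 0) ∧
      (AlgSp.IsDecent X.obj → topologicalKrullDim (AlgSp.Points X.obj) = 0 → DiscreteTopology (AlgSp.Points X.obj)) ∧
      (AlgSp.IsDecent X.obj → Finite (AlgSp.Points X.obj) → AlgSp.dim X.obj = 0) := by
  classical
  haveI hsub : Subsingleton ↥(Over.mk (𝟙 (Spec (CommRingCat.of k)))).left :=
    show Subsingleton ↥(Spec (CommRingCat.of k)) from inferInstance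
  haveI hjac : JacobsonSpace ↥(Over.mk (𝟙 (Spec (CommRingCat.of k)))).left :=
    show JacobsonSpace ↥(Spec (CommRingCat.of k)) from inferInstance
  haveI hln : IsLocallyNoetherian (Over.mk (𝟙 (Spec (CommRingCat.of k)))).left :=
    show IsLocallyNoetherian (Spec (CommRingCat.of k)) from inferInstance
  obtain ⟨U₀, a₀, ha₀, ha₀s⟩ := X.property.atlas
  -- nonnegativity of the dimension
  have hnonneg : (0 : WithBot ℕ∞) ≤ AlgSp.dim X.obj := by
    obtain ⟨x⟩ := ‹Nonempty (AlgSp.Points X.obj)›
    obtain ⟨u₀, -⟩ := Groth.Agent.S10177.surjective_ofPt a₀ ha₀s x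
    haveI : Nonempty ↥U₀.left := ⟨u₀⟩
    exact (Groth.Agent.Lib.Helper7.TopDim.topologicalKrullDim_nonneg).trans
      (Groth.Agent.Lib.H5bIntDimSp.dim_chart_le a₀ ha₀)
  -- open points from isolated chart points
  have openOf : ∀ x : AlgSp.Points X.obj, IsLocallyClosed ({x} : Set (AlgSp.Points X.obj)) →
      (∀ x' : AlgSp.Points X.obj, x' ⤳ x → x' = x) → IsOpen ({x} : Set (AlgSp.Points X.obj)) := by
    intro x hlc hgen
    obtain ⟨u₀, hu₀⟩ := Groth.Agent.S10177.surjective_ofPt a₀ ha₀s x
    subst hu₀
    have h1 := (Groth.Agent.Lib.H5bFieldSp.chart_point_isolated p hp a₀ ha₀ u₀ hlc hgen).1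
    have h2 := Groth.Agent.S10176.isOpenMap_ofPt a₀ ha₀ {u₀} h1
    rwa [Set.image_singleton] at h2
  refine ⟨⟨fun hdisc => le_antisymm ?_ hnonneg, fun hd => ?_⟩, fun hdisc => ?_,
    fun hdec hd => ?_, fun hdec hfin => le_antisymm ?_ hnonneg⟩
  · -- discrete implies dim ≤ 0
    unfold AlgSp.dim
    refine iSup_le fun T => iSup_le fun c => iSup_le fun hc => ?_
    rw [Groth.Agent.Lib.Helper7.TopDim.topologicalKrullDim_eq_iSup_localDim]
    refine iSup_le fun t => le_of_eq ?_
    exact (Groth.Agent.Lib.H5bFieldSp.chart_point_isolated p hp c hc t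
      (isOpen_discrete _).isLocallyClosed (fun x' hsp => hsp.mem_open (isOpen_discrete {_}) rfl)).2.2
  · -- dim = 0 implies discrete
    rw [discreteTopology_iff_isOpen_singleton]
    intro x
    obtain ⟨u₀, hu₀⟩ := Groth.Agent.S10177.surjective_ofPt a₀ ha₀s x
    obtain ⟨g, hcomm, hlft⟩ := Groth.Agent.Lib.H5bFieldSp.exists_chart_to_base p hp a₀ ha₀
    haveI := hlft
    haveI : IsLocallyNoetherian U₀.left := LocallyOfFiniteType.isLocallyNoetherian g.left
    have hle : FlatMor.localDim ↥U₀.left u₀ ≤ 0 :=
      (Groth.Agent.Lib.Helper7.TopDim.localDim_le_dim u₀).trans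
        ((Groth.Agent.Lib.H5bIntDimSp.dim_chart_le a₀ ha₀).trans hd.le)
    have h1 : IsOpen ({u₀} : Set ↥U₀.left) :=
      (Groth.Agent.Lib.Helper3.GrpHomQF.isOpen_singleton_iff_localDim_le_zero U₀.left u₀).2 hle
    have h2 := Groth.Agent.S10176.isOpenMap_ofPt a₀ ha₀ {u₀} h1
    rwa [Set.image_singleton, hu₀] at h2
  · exact le_antisymm (topologicalKrullDim_zero_of_discreteTopology _)
      Groth.Agent.Lib.Helper7.TopDim.topologicalKrullDim_nonneg
  · -- decent, dim |X| = 0 implies discrete
    haveI : T0Space (AlgSp.Points X.obj) := Groth.Agent.S10338.result X hdec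
    have hcl : ∀ x : AlgSp.Points X.obj, IsClosed ({x} : Set (AlgSp.Points X.obj)) :=
      fun x => Groth.Agent.Lib.Helper7.TopDim.isClosed_singleton_of_dim_le_zero hd.le x
    rw [discreteTopology_iff_isOpen_singleton]
    intro x
    refine openOf x (hcl x).isLocallyClosed fun x' hsp => ?_
    have h1 : x ∈ ({x'} : Set (AlgSp.Points X.obj)) := hsp.mem_closed (hcl x') rfl
    exact (Set.mem_singleton_iff.mp h1).symm
  · -- decent, finite implies dim ≤ 0
    haveI : T0Space (AlgSp.Points X.obj) := Groth.Agent.S10338.result X hdec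
    unfold AlgSp.dim
    refine iSup_le fun T => iSup_le fun c => iSup_le fun hc => ?_
    refine Groth.Agent.Lib.H5bFieldSp.topologicalKrullDim_le_zero_of_forall_isClosed T.left
      fun t => ?_
    exact Groth.Agent.Lib.H5bFieldSp.chart_point_isClosed p hp c hc t
      (isLocallyClosed_singleton_of_finite _)

end Groth.Agent.S10392
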