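import Groth.Statements.S1040
import Groth.Agent.Lib.H6xDCoprodH
import Groth.Agent.Lib.H6xMVF
import Groth.Agent.Lib.Helper23QCohAbelian

set_option autoImplicit false
universe u
open CategoryTheory CategoryTheory.Limits AlgebraicGeometry
attribute [local instance] HasDerivedCategory.standard
open Perf

namespace Groth.Agent.S1040

/-- Let X be a scheme and Kᵢ a family of objects of D(O_X) with quasi-coherent cohomology sheaves,
indexed by a small type, whose direct sum exists in D(O_X). Then ∐ Kᵢ has quasi-coherent cohomology
sheaves. -/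
theorem result (X : Scheme.{u}) {ι : Type u} (K : ι → DCoh.D X) (hK : ∀ i, DCoh.IsQCohD (K i)) [HasCoproduct K] :
    DCoh.IsQCohD (∐ K) := by
  intro n
  haveI : IsGrothendieckAbelian.{u} X.Modules := Groth.Agent.Lib.H6xMV.isGrothendieckAbelian_modules
  obtain ⟨e⟩ := Groth.Agent.Lib.H6xDCoprodH.nonempty_homology_sigma_iso K n
  have h : (∐ (fun j => (DerivedCategory.homologyFunctor X.Modules n).obj (K j))).IsQuasicoherent :=
    Groth.Agent.Lib.Helper23.QCohLocal.isQuasicoherent_colimit
      (Discrete.functor (fun j => (DerivedCategory.homologyFunctor X.Modules n).obj (K j)))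
      (fun j => hK j.as n)
  exact (SheafOfModules.isQuasicoherent.{u} X.ringCatSheaf).prop_of_iso e.symm h

end Groth.Agent.S1040
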