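import Groth.Statements.S10402
import Mathlib
import Groth.Agent.S10176
import Groth.Agent.S10177
import Groth.Agent.S10318

set_option autoImplicit false
set_option linter.style.haveILetI false
universe u
open CategoryTheory CategoryTheory.Limits AlgebraicGeometry Topology TopologicalSpace
open AlgSp

namespace Groth.Agent.S10402

open CategoryTheory.Limits Opposite MorphismProperty

variable {S : Scheme.{u}}

/-- the image of a closed point under a surjective étale morphism from a Jacobson scheme is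
closed. -/
theorem isClosed_image_of_etale_surjective {W0 W : Scheme.{u}} (π : W0 ⟶ W) [Etale π]
    [Surjective π] [JacobsonSpace ↥W0] (z : ↥W0) (hz : IsClosed ({z} : Set ↥W0)) :
    IsClosed ({π z} : Set ↥W) := by
  apply isClosed_of_closure_subset
  intro w1 hw1
  have hsp : π z ⤳ w1 := specializes_iff_mem_closure.2 hw1
  obtain ⟨w1', hw1'⟩ := π.surjective w1
  rw [← hw1'] at hsp
  haveI : Flat π := inferInstance
  obtain ⟨wt, hwt, hwt2⟩ := (Flat.generalizingMap π) hsp
  obtain ⟨σ, hσ1, hσ2⟩ := Scheme.Pullback.exists_preimage_pullback (f := π) (g := π) wt z hwt2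
  have hσcl : IsClosed ({σ} : Set ↥(pullback π π)) :=
    Groth.Agent.S10318.isClosed_singleton_of_etale (pullback.snd π π) σ (by rw [hσ2]; exact hz)
  have hwtcl : IsClosed ({wt} : Set ↥W0) := by
    have := Scheme.Hom.closePoints_subset_preimage_closedPoints (pullback.fst π π) hσcl
    rw [Set.mem_preimage, hσ1] at this
    exact this
  have : w1' = wt := by
    have h := hwt.mem_closure
    rw [hwtcl.closure_eq] at h
    exact h
  rw [Set.mem_singleton_iff, ← hw1', this, hwt2]

/-- Let S be a scheme and X a Jacobson algebraic space over S. Fix a finite type point x of |X|, and let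
g : W ⟶ X be locally of finite type, where W is a scheme. If x lies in the image of |W| → |X|, then
some closed point of W is mapped to x. -/
theorem result {S : Scheme.{u}} (X : AlgSp.Space S) (hX : AlgSp.EtaleLocally (fun U => JacobsonSpace ↥U) X.obj)
    (x : AlgSp.Points X.obj) (hx : AlgSp.HasAt (fun U u => IsClosed ({u} : Set ↥U)) X.obj x) {W : Over S} (g : (AlgSp.yon S).obj W ⟶ X.obj)
    (hg : AlgSp.LocP @LocallyOfFiniteType g) (hxW : x ∈ Set.range (AlgSp.Points.ofPt g)) :
    ∃ w : ↥W.left, IsClosed ({w} : Set ↥W.left) ∧ AlgSp.Points.ofPt g w = x := by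
  classical
  obtain ⟨U0, p0, hp0e, hp0s, hJ0⟩ := hX
  obtain ⟨U1, a1, u1, ha1, hu1, hcl1⟩ := hx
  obtain ⟨w0, hw0⟩ := hxW
  haveI := hJ0
  -- the base change of `g` to the Jacobson atlas
  obtain ⟨W0, h0, pr0, sq⟩ : ∃ (W0 : Over S) (h0 : W0 ⟶ U0) (pr0 : W0 ⟶ W),
      IsPullback ((AlgSp.yon S).map h0) ((AlgSp.yon S).map pr0) p0 g :=
    ⟨_, _, _, hp0e.1.isPullback' g⟩
  haveI : Etale pr0.left := hp0e.2 _ _ _ sq
  haveI : Surjective pr0.left := hp0s.2 _ _ _ sq
  haveI : LocallyOfFiniteType h0.left :=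
    hg ((AlgSp.yon S).map pr0) p0 h0 ((AlgSp.repWith_yon_map_iff _ pr0).2 inferInstance) hp0e
      sq.w.symm
  haveI : JacobsonSpace ↥W0.left := LocallyOfFiniteType.jacobsonSpace h0.left
  obtain ⟨u0, hu0⟩ := Groth.Agent.S10177.surjective_ofPt p0 hp0s x
  obtain ⟨w0', hw0'1, hw0'2⟩ :=
    Groth.Agent.S10176.exists_point_of_isPullback_yon sq u0 w0 (hu0.trans hw0.symm)
  -- `u0` is closed
  obtain ⟨U01, c0, c1, sq01⟩ : ∃ (U01 : Over S) (c0 : U01 ⟶ U0) (c1 : U01 ⟶ U1),
      IsPullback ((AlgSp.yon S).map c0) ((AlgSp.yon S).map c1) p0 a1 :=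
    ⟨_, _, _, hp0e.1.isPullback' a1⟩
  haveI : Etale c1.left := hp0e.2 _ _ _ sq01
  haveI : Etale c0.left := ha1.2 _ _ _ sq01.flip
  obtain ⟨ρ, hρ0, hρ1⟩ :=
    Groth.Agent.S10176.exists_point_of_isPullback_yon sq01 u0 u1 (hu0.trans hu1.symm)
  have hρcl : IsClosed ({ρ} : Set ↥U01.left) :=
    Groth.Agent.S10318.isClosed_singleton_of_etale c1.left ρ (by rw [hρ1]; exact hcl1)
  have hu0cl : IsClosed ({u0} : Set ↥U0.left) := by
    have := Scheme.Hom.closePoints_subset_preimage_closedPoints c0.left hρcl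
    rw [Set.mem_preimage, hρ0] at this
    exact this
  -- a closed point of the fibre
  have hZ : IsClosed (h0.left ⁻¹' {u0}) := hu0cl.preimage h0.left.continuous
  obtain ⟨w'', hw''Z, hw''cl⟩ := nonempty_inter_closedPoints (Z := h0.left ⁻¹' {u0})
    ⟨w0', hw0'1⟩ hZ.isLocallyClosed
  refine ⟨pr0.left w'', isClosed_image_of_etale_surjective pr0.left w'' hw''cl, ?_⟩
  rw [← Groth.Agent.S10176.ofPt_map_comp, ← sq.w, Groth.Agent.S10176.ofPt_map_comp]
  rw [show h0.left w'' = u0 from hw''Z]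
  exact hu0

end Groth.Agent.S10402
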