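import Groth.Statements.S10403
import Mathlib
import Groth.Agent.S10176
import Groth.Agent.S10177
import Groth.Agent.S10318
import Groth.Agent.S10343

set_option autoImplicit false
set_option linter.style.haveILetI false
universe u
open CategoryTheory CategoryTheory.Limits AlgebraicGeometry Topology TopologicalSpace
open AlgSp

namespace Groth.Agent.S10403

open CategoryTheory.Limits Opposite MorphismProperty

variable {S : Scheme.{u}}

/-- every point of a Jacobson étale chart over a finite type point is closed. -/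
theorem isClosed_of_hasAt {X : AlgSp.Space S} (x : AlgSp.Points X.obj)
    (hx : AlgSp.HasAt (fun U u => IsClosed ({u} : Set ↥U)) X.obj x)
    {U0 : Over S} (p0 : (AlgSp.yon S).obj U0 ⟶ X.obj) (hp0e : AlgSp.RepWith @Etale p0)
    [JacobsonSpace ↥U0.left] (u0 : ↥U0.left) (hu0 : AlgSp.Points.ofPt p0 u0 = x) :
    IsClosed ({u0} : Set ↥U0.left) := by
  obtain ⟨U1, a1, u1, ha1, hu1, hcl1⟩ := hx
  obtain ⟨U01, c0, c1, sq01⟩ : ∃ (U01 : Over S) (c0 : U01 ⟶ U0) (c1 : U01 ⟶ U1),
      IsPullback ((AlgSp.yon S).map c0) ((AlgSp.yon S).map c1) p0 a1 :=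
    ⟨_, _, _, hp0e.1.isPullback' a1⟩
  haveI : Etale c1.left := hp0e.2 _ _ _ sq01
  haveI : Etale c0.left := ha1.2 _ _ _ sq01.flip
  obtain ⟨ρ, hρ0, hρ1⟩ :=
    Groth.Agent.S10176.exists_point_of_isPullback_yon sq01 u0 u1 (hu0.trans hu1.symm)
  have hρcl : IsClosed ({ρ} : Set ↥U01.left) :=
    Groth.Agent.S10318.isClosed_singleton_of_etale c1.left ρ (by rw [hρ1]; exact hcl1)
  have := Scheme.Hom.closePoints_subset_preimage_closedPoints c0.left hρcl
  rw [Set.mem_preimage, hρ0] at this
  exact this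

/-- For a decent Jacobson algebraic space X over a scheme S, the finite type points of |X| are exactly
the closed points. -/
theorem result {S : Scheme.{u}} (X : AlgSp.Space S) (hd : AlgSp.IsDecent X.obj)
    (hX : AlgSp.EtaleLocally (fun U => JacobsonSpace ↥U) X.obj) (x : AlgSp.Points X.obj) :
    AlgSp.HasAt (fun U u => IsClosed ({u} : Set ↥U)) X.obj x ↔ IsClosed ({x} : Set (AlgSp.Points X.obj)) := by
  classical
  obtain ⟨U0, p0, hp0e, hp0s, hJ0⟩ := hX
  haveI := hJ0
  constructor
  · intro hx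
    apply isClosed_of_closure_subset
    intro x' hx'
    have hsp : x ⤳ x' := specializes_iff_mem_closure.2 hx'
    obtain ⟨u', hu'⟩ := Groth.Agent.S10177.surjective_ofPt p0 hp0s x'
    obtain ⟨u, huu', hu⟩ := Groth.Agent.S10343.result X x' x hsp (hd x) p0 hp0e u' hu'
    have hucl := isClosed_of_hasAt x hx p0 hp0e u hu
    have : u' = u := by
      have h := huu'.mem_closure
      rw [hucl.closure_eq] at h
      exact h
    rw [Set.mem_singleton_iff, ← hu', this, hu]
  · intro hx
    obtain ⟨u0, hu0⟩ := Groth.Agent.S10177.surjective_ofPt p0 hp0s x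
    have hZ : IsClosed (AlgSp.Points.ofPt p0 ⁻¹' {x}) := hx.preimage (AlgSp.Points.continuous_ofPt p0)
    obtain ⟨u, huZ, hucl⟩ := nonempty_inter_closedPoints (Z := AlgSp.Points.ofPt p0 ⁻¹' {x})
      ⟨u0, hu0⟩ hZ.isLocallyClosed
    exact ⟨U0, p0, u, hp0e, huZ, hucl⟩

end Groth.Agent.S10403
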