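import Groth.Statements.S10404
import Mathlib
import Groth.Agent.S10176
import Groth.Agent.S10177
import Groth.Agent.S10341
import Groth.Agent.S10360
import Groth.Agent.S10403

set_option autoImplicit false
set_option linter.style.haveILetI false
universe u
open CategoryTheory CategoryTheory.Limits AlgebraicGeometry Topology TopologicalSpace
open AlgSp

namespace Groth.Agent.S10404

open CategoryTheory.Limits Opposite MorphismProperty

variable {S : Scheme.{u}}

/-- on a decent space, fibres of affine étale charts are finite. -/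
theorem finite_fibre_of_isDecent (X : AlgSp.Space S) (hd : AlgSp.IsDecent X.obj)
    (x : AlgSp.Points X.obj) (V : Over S) (b : (AlgSp.yon S).obj V ⟶ X.obj) (hV : IsAffine V.left)
    (hb : AlgSp.RepWith @Etale b) : (AlgSp.Points.ofPt b ⁻¹' {x}).Finite :=
  ((Groth.Agent.S10360.result X x).2 (hd x) V b hV hb _ _ _ (hb.1.isPullback' b)).1

/-- on a decent space, chart points over a closed point are closed. -/
theorem isClosed_chart_point (X : AlgSp.Space S) (hd : AlgSp.IsDecent X.obj)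
    (x : AlgSp.Points X.obj) (hx : IsClosed ({x} : Set (AlgSp.Points X.obj))) {U : Over S}
    (a : (AlgSp.yon S).obj U ⟶ X.obj) (ha : AlgSp.RepWith @Etale a) (u : ↥U.left)
    (hu : AlgSp.Points.ofPt a u = x) : IsClosed ({u} : Set ↥U.left) := by
  have hF : IsClosed (AlgSp.Points.ofPt a ⁻¹' {x}) := hx.preimage (AlgSp.Points.continuous_ofPt a)
  apply isClosed_of_closure_subset
  intro u' hu'
  have hu'F : u' ∈ AlgSp.Points.ofPt a ⁻¹' {x} :=
    closure_minimal (s := ({u} : Set ↥U.left)) (t := AlgSp.Points.ofPt a ⁻¹' {x})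
      (Set.singleton_subset_iff.2 hu) hF hu'
  have hs : u ⤳ u' := specializes_iff_mem_closure.2 hu'
  exact Groth.Agent.S10341.result X x (finite_fibre_of_isDecent X hd x) a ha u' u hu'F hu hs

/-- on a decent space whose space of points is Jacobson, the image of a locally closed chart point
is closed. -/
theorem isClosed_of_isLocallyClosed_chart_point (X : AlgSp.Space S) (hd : AlgSp.IsDecent X.obj)
    [JacobsonSpace (AlgSp.Points X.obj)] {U : Over S} (a : (AlgSp.yon S).obj U ⟶ X.obj)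
    (ha : AlgSp.RepWith @Etale a) (u : ↥U.left) (hlc : IsLocallyClosed ({u} : Set ↥U.left)) :
    IsClosed ({AlgSp.Points.ofPt a u} : Set (AlgSp.Points X.obj)) := by
  classical
  set x := AlgSp.Points.ofPt a u with hxdef
  obtain ⟨O, C, hO, hC, hOC⟩ := hlc
  have huO : u ∈ O := (hOC ▸ Set.mem_singleton u : u ∈ O ∩ C).1
  have huC : u ∈ C := (hOC ▸ Set.mem_singleton u : u ∈ O ∩ C).2
  obtain ⟨_, ⟨U2, hU2, rfl⟩, hu2, hU2O⟩ :=
    (U.left.isBasis_affineOpens).exists_subset_of_mem_open huO hO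
  let U2' : U.left.Opens := U2
  let W2 : Over S := Over.mk (U2'.ι ≫ U.hom)
  let ι2 : W2 ⟶ U := Over.homMk U2'.ι rfl
  haveI : IsAffine W2.left := hU2
  have ha2 : AlgSp.RepWith @Etale ((AlgSp.yon S).map ι2 ≫ a) :=
    (AlgSp.RepWith @Etale).comp_mem _ _
      ((AlgSp.repWith_yon_map_iff _ ι2).2 (show Etale U2'.ι from inferInstance)) ha
  let u2 : ↥W2.left := ⟨u, hu2⟩
  have hu2x : AlgSp.Points.ofPt ((AlgSp.yon S).map ι2 ≫ a) u2 = x := by
    rw [Groth.Agent.S10176.ofPt_map_comp]; rfl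
  have hu2cl : IsClosed ({u2} : Set ↥W2.left) := by
    have : ({u2} : Set ↥W2.left) = U2'.ι ⁻¹' C := by
      ext v
      constructor
      · rintro rfl; exact huC
      · intro hv
        have hvO : U2'.ι v ∈ O := hU2O v.2
        have : U2'.ι v ∈ ({u} : Set ↥U.left) := by rw [hOC]; exact ⟨hvO, hv⟩
        exact Subtype.ext this
    rw [this]
    exact hC.preimage U2'.ι.continuous
  -- the fibre in `W2`
  set A : Set ↥W2.left := AlgSp.Points.ofPt ((AlgSp.yon S).map ι2 ≫ a) ⁻¹' {x} with hAdef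
  have hA : A.Finite := finite_fibre_of_isDecent X hd x W2 _ inferInstance ha2
  have hB : (A \ {u2}).Finite := hA.subset Set.sdiff_subset
  have hu2not : u2 ∉ closure (A \ {u2}) := by
    intro hmem
    rw [← Set.biUnion_of_singleton (A \ {u2}), hB.closure_biUnion] at hmem
    obtain ⟨a', ha', hmem'⟩ := Set.mem_iUnion₂.1 hmem
    have hs : a' ⤳ u2 := specializes_iff_mem_closure.2 hmem'
    have := Groth.Agent.S10341.result X x (finite_fibre_of_isDecent X hd x) _ ha2 u2 a' hu2x
      ha'.1 hs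
    exact ha'.2 this.symm
  let V0 : W2.left.Opens := ⟨(closure (A \ {u2}))ᶜ, isClosed_closure.isOpen_compl⟩
  let W3 : Over S := Over.mk (V0.ι ≫ W2.hom)
  let ι3 : W3 ⟶ W2 := Over.homMk V0.ι rfl
  have ha3 : AlgSp.RepWith @Etale ((AlgSp.yon S).map ι3 ≫ (AlgSp.yon S).map ι2 ≫ a) :=
    (AlgSp.RepWith @Etale).comp_mem _ _
      ((AlgSp.repWith_yon_map_iff _ ι3).2 (show Etale V0.ι from inferInstance)) ha2
  let u3 : ↥W3.left := ⟨u2, hu2not⟩
  have hu3x : AlgSp.Points.ofPt ((AlgSp.yon S).map ι3 ≫ (AlgSp.yon S).map ι2 ≫ a) u3 = x := by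
    rw [Groth.Agent.S10176.ofPt_map_comp]; exact hu2x
  have huniq : ∀ v : ↥W3.left,
      AlgSp.Points.ofPt ((AlgSp.yon S).map ι3 ≫ (AlgSp.yon S).map ι2 ≫ a) v = x → v = u3 := by
    intro v hv
    rw [Groth.Agent.S10176.ofPt_map_comp] at hv
    have h1 : ι3.left v ∈ A := hv
    have h2 : ι3.left v ∉ closure (A \ {u2}) := v.2
    have h3 : ι3.left v = u2 := by
      by_contra hne
      exact h2 (subset_closure ⟨h1, hne⟩)
    exact Subtype.ext h3
  have hu3cl : IsClosed ({u3} : Set ↥W3.left) := by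
    have : ({u3} : Set ↥W3.left) = V0.ι ⁻¹' {u2} := by
      ext v
      constructor
      · rintro rfl; rfl
      · intro hv; exact Subtype.ext hv
    rw [this]
    exact hu2cl.preimage V0.ι.continuous
  have hopen := Groth.Agent.S10176.isOpenMap_ofPt _ ha3
  have hΩ : IsOpen (Set.range
      (AlgSp.Points.ofPt ((AlgSp.yon S).map ι3 ≫ (AlgSp.yon S).map ι2 ≫ a))) := hopen.isOpen_range
  have hΩ2 : IsOpen (AlgSp.Points.ofPt ((AlgSp.yon S).map ι3 ≫ (AlgSp.yon S).map ι2 ≫ a) ''
      ({u3}ᶜ)) := hopen _ hu3cl.isOpen_compl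
  have hlcx : IsLocallyClosed ({x} : Set (AlgSp.Points X.obj)) := by
    refine ⟨_, _, hΩ, hΩ2.isClosed_compl, ?_⟩
    ext y
    constructor
    · rintro rfl
      refine ⟨⟨u3, hu3x⟩, ?_⟩
      rintro ⟨v, hv, hvx⟩
      exact hv (huniq v hvx)
    · rintro ⟨⟨v, rfl⟩, hy2⟩
      by_contra hne
      apply hy2
      refine ⟨v, ?_, rfl⟩
      intro hv
      apply hne
      rw [Set.mem_singleton_iff] at hv
      rw [hv]; exact hu3x
  exact isClosed_singleton_of_isLocallyClosed_singleton hlcx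

/-- A decent algebraic space X over a scheme S is Jacobson if and only if the topological space |X| is
Jacobson. -/
theorem result {S : Scheme.{u}} (X : AlgSp.Space S) (hd : AlgSp.IsDecent X.obj) :
    AlgSp.EtaleLocally (fun U => JacobsonSpace ↥U) X.obj ↔ JacobsonSpace (AlgSp.Points X.obj) := by
  classical
  constructor
  · intro hX
    rw [jacobsonSpace_iff_locallyClosed]
    intro Z hZne hZ
    obtain ⟨U0, p0, hp0e, hp0s, hJ0⟩ := id hX
    haveI := hJ0
    obtain ⟨z, hz⟩ := hZne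
    obtain ⟨u0, hu0⟩ := Groth.Agent.S10177.surjective_ofPt p0 hp0s z
    have hZ' : IsLocallyClosed (AlgSp.Points.ofPt p0 ⁻¹' Z) :=
      hZ.preimage (AlgSp.Points.continuous_ofPt p0)
    obtain ⟨u, huZ, hucl⟩ := nonempty_inter_closedPoints (Z := AlgSp.Points.ofPt p0 ⁻¹' Z)
      ⟨u0, by rw [Set.mem_preimage, hu0]; exact hz⟩ hZ'
    refine ⟨AlgSp.Points.ofPt p0 u, huZ, ?_⟩
    exact (Groth.Agent.S10403.result X hd hX _).1 ⟨U0, p0, u, hp0e, rfl, hucl⟩
  · intro hJ
    haveI := hJ
    obtain ⟨U, p, hpe, hps⟩ := X.property.atlas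
    refine ⟨U, p, hpe, hps, ?_⟩
    show JacobsonSpace ↥U.left
    rw [jacobsonSpace_iff_locallyClosed]
    rintro Z ⟨z, hz⟩ ⟨O, C, hO, hC, rfl⟩
    obtain ⟨_, ⟨V, hV, rfl⟩, hzV, hVO⟩ :=
      (U.left.isBasis_affineOpens).exists_subset_of_mem_open hz.1 hO
    let V' : U.left.Opens := V
    haveI : CompactSpace ↥V' := isCompact_iff_compactSpace.1 hV.isCompact
    have hCV : IsClosed ((Subtype.val : ↥V' → ↥U.left) ⁻¹' C) := hC.preimage continuous_subtype_val
    obtain ⟨v, hvC, hvcl⟩ := hCV.exists_closed_singleton ⟨⟨z, hzV⟩, hz.2⟩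
    have hlc : IsLocallyClosed ({v.1} : Set ↥U.left) := by
      refine ⟨V', closure {v.1}, V'.2, isClosed_closure, ?_⟩
      ext w
      constructor
      · rintro rfl; exact ⟨v.2, subset_closure rfl⟩
      · rintro ⟨hwV, hwcl⟩
        have : (⟨w, hwV⟩ : ↥V') ∈ closure ({v} : Set ↥V') := by
          rw [closure_subtype]
          simpa using hwcl
        rw [hvcl.closure_eq] at this
        exact congrArg Subtype.val this
    have hxcl := isClosed_of_isLocallyClosed_chart_point X hd p hpe v.1 hlc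
    have hvcl' := isClosed_chart_point X hd _ hxcl p hpe v.1 rfl
    exact ⟨v.1, ⟨hVO v.2, hvC⟩, hvcl'⟩

end Groth.Agent.S10404
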