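import Groth.Statements.S10406
import Mathlib
import Groth.Agent.S10267
import Groth.Agent.S10340
import Groth.Agent.S10343
import Groth.Agent.S10175
import Groth.Agent.S10176
import Groth.Agent.S10177
import Groth.Agent.Lib.H5bLqfDim
import Groth.Agent.Lib.Helper12ProperLoc

set_option autoImplicit false
universe u
open CategoryTheory CategoryTheory.Limits AlgebraicGeometry Topology TopologicalSpace
open AlgSp

namespace Groth.Agent.S10406

/-- no nontrivial specializations in the fibres of a finite morphism of decent spaces. -/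
lemma eq_of_specializes_of_map_eq {S : Scheme.{u}} {X Y : AlgSp.Space S} (f : Y ⟶ X)
    (hf : AlgSp.IsFiniteMor f.hom) (hX : AlgSp.IsDecent X.obj) (hY : AlgSp.IsDecent Y.obj)
    (y y' : AlgSp.Points Y.obj) (hsp : y ⤳ y')
    (he : AlgSp.Points.map f.hom y = AlgSp.Points.map f.hom y') : y = y' := by
  have hrep : AlgSp.RepWith @IsFinite f.hom := (Groth.Agent.S10267.result f).2.1 hf
  obtain ⟨V, b, hb, hbs⟩ := X.property.atlas
  obtain ⟨v, hv⟩ := Groth.Agent.S10177.surjective_ofPt b hbs (AlgSp.Points.map f.hom y')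
  obtain ⟨W, h, pr, sq⟩ := hrep.1 b
  have : IsFinite h.left := hrep.2 b pr h sq
  have hpr : AlgSp.RepWith @Etale pr :=
    MorphismProperty.of_isPullback (P := AlgSp.RepWith @Etale) sq.flip hb
  -- a point of `W` over `(y', v)`
  have e0 : AlgSp.Points.map f.hom y' = AlgSp.Points.map b (AlgSp.Points.ofScheme V v) := by
    rw [← AlgSp.Points.ofPt_eq_map_ofScheme, hv]
  obtain ⟨z, hz1, hz2⟩ := Groth.Agent.S10175.exists_point_of_isPullback sq y' _ e0
  obtain ⟨w', rfl⟩ := (AlgSp.Points.schemeEquiv W).surjective z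
  have hw'1 : AlgSp.Points.ofPt pr w' = y' := by
    rw [AlgSp.Points.ofPt_eq_map_ofScheme]
    exact hz1
  have hw'2 : h.left w' = v :=
    (AlgSp.Points.schemeEquiv V).injective ((AlgSp.Points.map_yon_map_apply h w').symm.trans hz2)
  obtain ⟨w, hww', hw⟩ := Groth.Agent.S10343.result Y y' y hsp (hY y) pr hpr w' hw'1
  have hcomm : ∀ t : ↥W.left, AlgSp.Points.ofPt b (h.left t) =
      AlgSp.Points.map f.hom (AlgSp.Points.ofPt pr t) := by
    intro t
    rw [AlgSp.Points.map_ofPt, sq.w, Groth.Agent.S10176.ofPt_map_comp]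
  have hv1 : AlgSp.Points.ofPt b v = AlgSp.Points.ofPt b (h.left w) := by
    rw [hcomm, hw, hv, he]
  have hsp' : h.left w ⤳ v := by
    rw [← hw'2]
    exact hww'.map h.left.continuous
  have hvv : v = h.left w := Groth.Agent.S10340.result X hX b hb v (h.left w) hv1 hsp'
  have hwe : w = w' := Groth.Agent.Lib.H5bLqfDim.no_specialization_in_fibres_of_lqf h.left w w' hww'
    (by rw [← hvv, hw'2])
  rw [← hw, ← hw'1, hwe]

/-- Let S be a scheme, Y and X decent, locally Noetherian algebraic spaces over S, and f : Y ⟶ X a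
surjective finite morphism, and let δ : |X| → ℤ be a function. Suppose δ ∘ |f| is a dimension
function on |Y| (it decreases strictly along nontrivial specializations and by exactly one along
immediate specializations). Then δ is a dimension function on |X|. -/
theorem result {S : Scheme.{u}} {X Y : AlgSp.Space S} (f : Y ⟶ X)
    (hf : AlgSp.IsFiniteMor f.hom) (hs : AlgSp.IsSurjectiveMor f.hom) (hX : AlgSp.IsDecent X.obj)
    (hY : AlgSp.IsDecent Y.obj) (hXN : AlgSp.IsLocNoethSp X.obj) (hYN : AlgSp.IsLocNoethSp Y.obj)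
    (δ : AlgSp.Points X.obj → ℤ)
    (hδ : (∀ a b : AlgSp.Points Y.obj, a ⤳ b → a ≠ b → (δ ∘ AlgSp.Points.map f.hom) b < (δ ∘ AlgSp.Points.map f.hom) a ∧ ((∀ c : AlgSp.Points Y.obj, a ⤳ c → c ⤳ b → c = a ∨ c = b) → (δ ∘ AlgSp.Points.map f.hom) a = (δ ∘ AlgSp.Points.map f.hom) b + 1))) :
    (∀ a b : AlgSp.Points X.obj, a ⤳ b → a ≠ b → δ b < δ a ∧ ((∀ c : AlgSp.Points X.obj, a ⤳ c → c ⤳ b → c = a ∨ c = b) → δ a = δ b + 1)) := by
  intro a b hab hne
  obtain ⟨a', rfl⟩ := hs a
  have hcl : IsClosedMap (AlgSp.Points.map f.hom) :=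
    (Groth.Agent.Lib.Helper12.ProperLoc.isProperMor_of_isFiniteMor f hf).2.2 X.property (𝟙 _) (𝟙 _)
      f.hom IsPullback.of_id_fst
  have hb' : b ∈ AlgSp.Points.map f.hom '' closure {a'} := by
    have h1 : IsClosed (AlgSp.Points.map f.hom '' closure {a'}) := hcl _ isClosed_closure
    have h2 : closure {AlgSp.Points.map f.hom a'} ⊆ AlgSp.Points.map f.hom '' closure {a'} :=
      h1.closure_subset_iff.2 (by
        rintro _ rfl
        exact ⟨a', subset_closure rfl, rfl⟩)
    exact h2 (specializes_iff_mem_closure.1 hab)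
  obtain ⟨b', hb'1, rfl⟩ := hb'
  have hab' : a' ⤳ b' := specializes_iff_mem_closure.2 hb'1
  have hne' : a' ≠ b' := fun h => hne (by rw [h])
  obtain ⟨h1, h2⟩ := hδ a' b' hab' hne'
  refine ⟨h1, fun hc => h2 fun c' hac' hc'b' => ?_⟩
  rcases hc (AlgSp.Points.map f.hom c') (hac'.map (AlgSp.Points.continuous_map _))
    (hc'b'.map (AlgSp.Points.continuous_map _)) with h3 | h3
  · exact Or.inl (eq_of_specializes_of_map_eq f hf hX hY a' c' hac' h3.symm).symm
  · exact Or.inr (eq_of_specializes_of_map_eq f hf hX hY c' b' hc'b' h3)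

end Groth.Agent.S10406
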