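import Groth.Statements.S10412
import Mathlib
import Groth.Agent.Lib.H5bUBF4
import Groth.Agent.Lib.H5bFQ4
import Groth.Agent.Lib.H5bFibChart
import Groth.Agent.Lib.Helper12OpenSub
import Groth.Agent.Lib.Helper12LargestOpen
import Groth.Agent.S10177
import Groth.Agent.S9928
import Groth.Agent.S9906

set_option autoImplicit false
set_option linter.style.haveILetI false
universe u
open CategoryTheory CategoryTheory.Limits AlgebraicGeometry Topology TopologicalSpace
open AlgSp

namespace Groth.Agent.S10412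

open CategoryTheory.Limits Opposite MorphismProperty Groth.Agent.Lib.H5bUBF
  Groth.Agent.Lib.Helper12

variable {S : Scheme.{u}}

lemma repWith_etale_of_open {F G : AlgSp.Sp S} (j : F ⟶ G)
    (hj : AlgSp.RepWith @IsOpenImmersion j) : AlgSp.RepWith @Etale j :=
  ⟨hj.1, fun T W g pr w sq => by
    haveI : IsOpenImmersion w.left := hj.2 g pr w sq
    change Etale w.left
    infer_instance⟩

/-- For an algebraic space X over a scheme S the following are equivalent: (1) X has a Zariski covering
by open subspaces X_i, each X_i admitting a surjective, etale and quasi-compact morphism U_i ⟶ X_i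
with U_i a scheme; (2) there are etale morphisms U_i ⟶ X from schemes, jointly surjective, such that
for each i both projection morphisms from U_i ×_X U_i to U_i are quasi-compact. -/
theorem result {S : Scheme.{u}} (X : AlgSp.Space S) :
    (∃ (ι : Type u) (Xi : ι → AlgSp.Space S) (j : ∀ i, Xi i ⟶ X) (U : ι → Over S)
        (a : ∀ i, (AlgSp.yon S).obj (U i) ⟶ (Xi i).obj),
        AlgSp.IsZarCover (fun i => (Xi i).obj) (fun i => (j i).hom) ∧
          ∀ i, AlgSp.RepWith @Etale (a i) ∧ AlgSp.RepWith @Surjective (a i) ∧ AlgSp.RepWith @QuasiCompact (a i)) ↔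
      ∃ (ι : Type u) (U : ι → Over S) (φ : ∀ i, (AlgSp.yon S).obj (U i) ⟶ X.obj),
        (∀ i, AlgSp.RepWith @Etale (φ i)) ∧
          (∀ x : AlgSp.Points X.obj, ∃ (i : ι) (v : ↥(U i).left), AlgSp.Points.ofPt (φ i) v = x) ∧
          ∀ (i : ι) (R : Over S) (s t : R ⟶ U i), IsPullback ((AlgSp.yon S).map t) ((AlgSp.yon S).map s) (φ i) (φ i) →
            QuasiCompact s.left ∧ QuasiCompact t.left := by
  constructor
  · rintro ⟨ι, Xi, j, U, a, ⟨hjo, hjs⟩, ha⟩
    haveI hmono : ∀ i, Mono (j i).hom := fun i =>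
      Groth.Agent.S9928.mono_of_repWith @IsOpenImmersion
        (fun X Y g hg => by haveI : IsOpenImmersion g := hg; infer_instance) _ (hjo i)
    refine ⟨ι, U, fun i => a i ≫ (j i).hom,
      fun i => (AlgSp.RepWith @Etale).comp_mem _ _ (ha i).1 (repWith_etale_of_open _ (hjo i)),
      ?_, ?_⟩
    · intro x
      obtain ⟨i, xi, rfl⟩ := hjs x
      obtain ⟨v, rfl⟩ := Groth.Agent.S10177.surjective_ofPt (a i) (ha i).2.1 xi
      exact ⟨i, v, rfl⟩
    · intro i R s t sq
      have sq' := isPullback_of_comp_mono (j i).hom sq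
      exact ⟨(ha i).2.2.2 _ _ _ sq', (ha i).2.2.2 _ _ _ sq'.flip⟩
  · rintro ⟨ι, U, φ, hφ, hsurj, hqc⟩
    let W : ι → Set (AlgSp.Points X.obj) := fun i => Set.range (AlgSp.Points.ofPt (φ i))
    have hW : ∀ i, IsOpen (W i) := fun i =>
      (Groth.Agent.S10176.isOpenMap_ofPt (φ i) (hφ i)).isOpen_range
    let Xi : ι → AlgSp.Space S := fun i =>
      ⟨OpenSub.obj X.obj (W i), OpenSub.isAlgSpace_obj X.property (hW i)⟩
    let j : ∀ i, Xi i ⟶ X := fun i => ObjectProperty.homMk (OpenSub.incl X.obj (W i))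
    have hj : ∀ i, AlgSp.RepWith @IsOpenImmersion (j i).hom := fun i => OpenSub.repWith_incl (hW i)
    have hinj : ∀ i, Function.Injective (AlgSp.Points.map (j i).hom) := fun i =>
      LargestOpen.injective_map_of_open _ (hj i)
    haveI hmono : ∀ i, Mono (j i).hom := fun i =>
      Groth.Agent.S9928.mono_of_repWith @IsOpenImmersion
        (fun X Y g hg => by haveI : IsOpenImmersion g := hg; infer_instance) _ (hj i)
    have hfac : ∀ i, ∃ a' : (AlgSp.yon S).obj (U i) ⟶ (Xi i).obj, a' ≫ (j i).hom = φ i :=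
      fun i => (OpenSub.factor_iff (W i) (φ i)).2 (fun t => ⟨t, rfl⟩)
    choose a ha using hfac
    have het : ∀ i, AlgSp.RepWith @Etale (a i) := fun i =>
      Groth.Agent.Lib.H5bFibChart.repWith_etale_of_comp (Xi i).property (a i) (j i).hom
        (repWith_etale_of_open _ (hj i)) (by rw [ha i]; exact hφ i)
    have hsur : ∀ i, AlgSp.RepWith @Surjective (a i) := fun i => by
      apply Groth.Agent.S9906.repWith_surjective_of_surjective_map _
        ((Xi i).property.representable_from_yon _)
      intro y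
      have hy : AlgSp.Points.map (j i).hom y ∈ W i := by
        rw [← OpenSub.range_map_incl (W i)]; exact ⟨y, rfl⟩
      obtain ⟨v, hv⟩ := hy
      refine ⟨AlgSp.Points.ofScheme (U i) v, ?_⟩
      apply hinj i
      rw [← hv, ← AlgSp.Points.ofPt_eq_map_ofScheme, AlgSp.Points.map_ofPt, ha i]
    refine ⟨ι, Xi, j, U, a, ⟨hj, ?_⟩, fun i => ⟨het i, hsur i, ?_⟩⟩
    · intro x
      obtain ⟨i, v, hv⟩ := hsurj x
      refine ⟨i, AlgSp.Points.ofPt (a i) v, ?_⟩
      rw [AlgSp.Points.map_ofPt, ha i]
      exact hv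
    · have hrep := (Xi i).property.representable_from_yon (a i)
      have sqE := hrep.isPullback' (a i)
      refine Groth.Agent.Lib.H5bFQ4.repWith_quasiCompact_of_atlas (a i) (het i) (hsur i) (a i) hrep
        _ _ sqE ?_
      have h1 := isPullback_comp_mono (j i).hom sqE
      rw [ha i] at h1
      exact (hqc i _ _ _ h1).1

end Groth.Agent.S10412
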