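import Groth.Statements.S10416
import Mathlib
import Groth.Agent.S10192
import Groth.Agent.S10193
import Groth.Agent.S9934
import Groth.Agent.S10415
import Groth.Agent.S10368

set_option autoImplicit false
set_option linter.style.haveILetI false
universe u
open CategoryTheory CategoryTheory.Limits AlgebraicGeometry Topology TopologicalSpace
open AlgSp

namespace Groth.Agent.S10416

/-- Let S be a scheme, X a locally Noetherian algebraic space over S, x ∈ |X|, and i : Z_x ⟶ X the
residual space at x. Then x is closed in |X| if and only if i is a closed immersion. -/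
theorem result {S : Scheme.{u}} {X Z : AlgSp.Space S}
    (hX : AlgSp.IsLocNoethSp X.obj) (x : AlgSp.Points X.obj) (i : Z ⟶ X) [Mono i.hom]
    (hi : Set.range (AlgSp.Points.map i.hom) = {x}) (hZ : ∃ (k : Type u) (_ : Field k) (str : Spec (CommRingCat.of k) ⟶ S) (p : (AlgSp.yon S).obj (Over.mk str) ⟶ Z.obj),
        AlgSp.LocP @LocallyOfFinitePresentation p ∧ AlgSp.LocP @Flat p ∧ AlgSp.IsSurjectiveMor p) :
    IsClosed ({x} : Set (AlgSp.Points X.obj)) ↔ AlgSp.RepWith @IsClosedImmersion i.hom := by
  constructor
  · intro hx
    obtain ⟨Z', i', hi', hr', hred'⟩ := Groth.Agent.S10192.result X {x} hx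
    -- `Z` is reduced
    have hZred : AlgSp.EtaleLocally (fun U => IsReduced U) Z.obj :=
      ((Groth.Agent.S10368.result Z).2 hZ).1
    -- `i'` factors through the residual space
    obtain ⟨g, hg⟩ := Groth.Agent.S10415.result i' x (by
      intro y
      have : AlgSp.Points.map i'.hom y ∈ ({x} : Set _) := hr' ▸ Set.mem_range_self y
      exact this) hred' hX i hi hZ
    -- `i` factors through the reduced induced subspace
    obtain ⟨g', hg'⟩ := (Groth.Agent.S10193.result i' hi' hZred i).2 (by rw [hi, hr'])
    have hgh : g.hom ≫ i.hom = i'.hom := congrArg (fun m => m.hom) hg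
    have hgh' : g'.hom ≫ i'.hom = i.hom := congrArg (fun m => m.hom) hg'
    haveI : Mono i'.hom := Groth.Agent.S9928.mono_of_repWith @IsClosedImmersion
      (fun X Y g hg => by haveI : IsClosedImmersion g := hg; infer_instance) _ hi'
    obtain ⟨e, he⟩ : ∃ e : Z.obj ≅ Z'.obj, e.hom = g'.hom := ⟨
      { hom := g'.hom
        inv := g.hom
        hom_inv_id := by
          rw [← cancel_mono i.hom, Category.assoc, hgh, hgh', Category.id_comp]
        inv_hom_id := by
          rw [← cancel_mono i'.hom, Category.assoc, hgh', hgh, Category.id_comp] }, rfl⟩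
    rw [← hgh', ← he]
    exact MorphismProperty.RespectsIso.precomp _ _ _ hi'
  · intro hci
    have himm : AlgSp.RepWith @IsImmersion i.hom := by
      refine ⟨hci.1, fun T W g pr w sq => ?_⟩
      haveI : IsClosedImmersion w.left := hci.2 g pr w sq
      change IsImmersion w.left
      infer_instance
    have := (Groth.Agent.S9934.result i himm).1 hci
    rwa [hi] at this

end Groth.Agent.S10416
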