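import Groth.Statements.S9995
import Mathlib
import Groth.Agent.Lib.H5bFibDimBC
import Groth.Agent.Lib.H5bHasAtMor
import Groth.Agent.Lib.Helper12LocPCases
import Groth.Agent.Lib.Helper3GrpHomQF
import Groth.Agent.S9874
import Groth.Agent.S10175
import Groth.Agent.S10177
import Groth.Agent.S10678
import Groth.Agent.S10313
import Groth.Agent.S5341

set_option autoImplicit false
universe u
open CategoryTheory CategoryTheory.Limits AlgebraicGeometry
open AlgSp

namespace Groth.Agent.S9995

/-- the quasi-finite locus of a morphism from a Noetherian scheme to a one-point scheme is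
finite. -/
lemma finite_quasiFiniteLocus {T B : Scheme.{u}} (g : T ⟶ B) [LocallyOfFiniteType g]
    [Subsingleton ↥B] [TopologicalSpace.NoetherianSpace ↥T] :
    (g.quasiFiniteLocus : Set ↥T).Finite := by
  set W := g.quasiFiniteLocus with hW
  haveI : LocallyQuasiFinite (W.ι ≫ g) := inferInstance
  have hd : DiscreteTopology ↥(W : T.Opens) := by
    rw [← isDiscrete_univ_iff]
    by_cases hne : Nonempty ↥(W : T.Opens)
    · obtain ⟨w⟩ := hne
      have h1 := (W.ι ≫ g).isDiscrete_preimage_singleton ((W.ι ≫ g).base w)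
      have h2 : ((W.ι ≫ g).base ⁻¹' {(W.ι ≫ g).base w}) = Set.univ := by
        ext t
        simp only [Set.mem_univ, Set.mem_preimage, Set.mem_singleton_iff, iff_true]
        exact Subsingleton.elim _ _
      rw [h2] at h1
      exact h1
    · rw [not_nonempty_iff] at hne
      rw [isDiscrete_univ_iff]
      infer_instance
  have hc : IsCompact (W : Set ↥T) := TopologicalSpace.NoetherianSpace.isCompact _
  haveI : CompactSpace ↥(W : Set ↥T) := isCompact_iff_compactSpace.mp hc
  haveI : DiscreteTopology ↥(W : Set ↥T) := hd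
  haveI : Finite ↥(W : Set ↥T) := finite_of_compact_of_discrete
  exact Set.toFinite _

/-- For a morphism f : X ⟶ Y of algebraic spaces of finite type and a point y of |Y|, the set of points
of |X| over y where f is quasi-finite is finite (in the neighbourhood sense, through some chart
diagram). -/
theorem result {S : Scheme.{u}} {X Y : AlgSp.Space S} (f : X ⟶ Y)
    (hf : AlgSp.IsFiniteTypeMor f.hom) (y : AlgSp.Points Y.obj) :
    {x : AlgSp.Points X.obj | AlgSp.Points.map f.hom x = y ∧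
      AlgSp.HasAtMor (fun U _ h u => ∃ W : U.Opens, u ∈ W ∧ LocallyQuasiFinite (W.ι ≫ h) ∧
        LocallyOfFiniteType (W.ι ≫ h)) f.hom x}.Finite := by
  obtain ⟨k, hk⟩ := AlgSp.Points.mk_surjective y
  let Xk : AlgSp.Sp S := pullback f.hom k.toHom
  have sq : IsPullback (pullback.fst f.hom k.toHom) (pullback.snd f.hom k.toHom) f.hom k.toHom :=
    IsPullback.of_hasPullback _ _
  have hXk : AlgSp.IsAlgSpace Xk :=
    Groth.Agent.S9874.isAlgSpace_of_isPullback Y.property.diag X.property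
      (AlgSp.IsAlgSpace.yon_obj k.pt) sq
  have hsub : Subsingleton ↥k.pt.left :=
    show Subsingleton ↥(Spec (CommRingCat.of k.K)) from inferInstance
  have hqck : AlgSp.IsQuasiCompactSp ((AlgSp.yon S).obj k.pt) :=
    ⟨k.pt, 𝟙 _, AlgSp.repWith_id _ _, AlgSp.repWith_id _ _,
      show CompactSpace ↥(Spec (CommRingCat.of k.K)) from inferInstance⟩
  obtain ⟨T₀, c₀, hc₀, hc₀s, hT₀c⟩ :=
    hf.2 (AlgSp.IsAlgSpace.yon_obj k.pt) hqck k.toHom _ _ sq
  obtain ⟨g, hg⟩ := (AlgSp.yon S).map_surjective (c₀ ≫ pullback.snd f.hom k.toHom)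
  have hcomm : c₀ ≫ pullback.snd f.hom k.toHom = (AlgSp.yon S).map g ≫ 𝟙 _ := by
    rw [hg, Category.comp_id]
  have hsnd : AlgSp.LocP @LocallyOfFiniteType (pullback.snd f.hom k.toHom) :=
    Groth.Agent.Lib.Helper12.LocPCases.good_lft.locP_baseChange X.property Y.property
      (AlgSp.IsAlgSpace.yon_obj _) sq hf.1
  haveI : LocallyOfFiniteType g.left := hsnd c₀ (𝟙 _) g hc₀ (AlgSp.repWith_id _ _) hcomm
  haveI : CompactSpace ↥T₀.left := hT₀c
  haveI : IsLocallyNoetherian (Spec (CommRingCat.of k.K)) := inferInstance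
  haveI : IsLocallyNoetherian k.pt.left :=
    show IsLocallyNoetherian (Spec (CommRingCat.of k.K)) from inferInstance
  haveI : IsLocallyNoetherian T₀.left := LocallyOfFiniteType.isLocallyNoetherian g.left
  haveI : IsNoetherian T₀.left := {}
  have hfin := finite_quasiFiniteLocus g.left
  refine (hfin.image (fun t => AlgSp.Points.map (pullback.fst f.hom k.toHom)
    (AlgSp.Points.ofPt c₀ t))).subset ?_
  rintro x ⟨hx, hQ⟩
  -- lift x to the fibre
  obtain ⟨s⟩ : Nonempty ↥k.pt.left :=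
    show Nonempty ↥(Spec (CommRingCat.of k.K)) from inferInstance
  obtain ⟨z, -, hz⟩ := Groth.Agent.S10175.exists_point_of_isPullback sq.flip
    (AlgSp.Points.ofScheme k.pt s) x (by rw [Groth.Agent.S10678.map_toHom_eq, hk, hx])
  obtain ⟨t, ht⟩ := Groth.Agent.S10177.surjective_ofPt c₀ hc₀s z
  refine ⟨t, ?_, show AlgSp.Points.map _ (AlgSp.Points.ofPt c₀ t) = x by rw [ht, hz]⟩
  -- quasi-finiteness at t
  have hQ' : AlgSp.HasAtMor (fun _ _ h u => FlatMor.fibreDimAt h u ≤ 0) f.hom x := by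
    obtain ⟨U, V, a, b, h, u, ha, hb, c, hu, hq⟩ := hQ
    haveI : LocallyOfFiniteType h.left := hf.1 a b h ha hb c
    exact ⟨U, V, a, b, h, u, ha, hb, c, hu, (Groth.Agent.S10313.exists_open_lqf_iff h.left u).1 hq⟩
  rw [← hz, ← ht, ← Groth.Agent.Lib.H5bFibDimBC.hasAtMor_fibreDimAt_baseChange_iff X.property
    Y.property (AlgSp.IsAlgSpace.yon_obj k.pt) sq hf.1 (AlgSp.Points.ofPt c₀ t) (fun e => e ≤ 0),
    Groth.Agent.Lib.H5bHasAtMor.hasAtMor_iff_of_chart
      (Groth.Agent.Lib.H5bHasAtMor.etLocalQ_fibreDimAt (fun e => e ≤ 0)) _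
      (AlgSp.Points.ofPt c₀ t) c₀ (𝟙 _) g hc₀ (AlgSp.repWith_id _ _) hcomm t rfl] at hQ'
  exact (Groth.Agent.Lib.Helper3.GrpHomQF.quasiFiniteAt_iff_fibreDimAt_le_zero g.left t).2 hQ'

end Groth.Agent.S9995
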