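import Groth.Statements.S10417
import Mathlib
import Groth.Agent.Lib.H5bFibDimBC
import Groth.Agent.Lib.Helper12LocPCases
import Groth.Agent.S9995
import Groth.Agent.S10485

set_option autoImplicit false
universe u
open CategoryTheory CategoryTheory.Limits AlgebraicGeometry Topology TopologicalSpace
open AlgSp

namespace Groth.Agent.S10417

/-- Let W = X ×_Y Z be a fibre product of algebraic spaces over a scheme S with projections p, q and let
x ∈ |X|, z ∈ |Z| lie over the same point of |Y|. If f : X ⟶ Y is of finite type and quasi-finite at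
x, then the set of points of |W| mapping to x and to z is finite. -/
theorem result {S : Scheme.{u}} {X Y Z W : AlgSp.Space S} (f : X ⟶ Y)
    (g : Z ⟶ Y) (p : W ⟶ X) (q : W ⟶ Z) (hW : IsPullback p.hom q.hom f.hom g.hom) (x : AlgSp.Points X.obj)
    (z : AlgSp.Points Z.obj) (hxz : AlgSp.Points.map f.hom x = AlgSp.Points.map g.hom z)
    (hft : AlgSp.IsFiniteTypeMor f.hom) (hf : AlgSp.HasAtMor (fun U _ h u => ∃ W : U.Opens, u ∈ W ∧ LocallyQuasiFinite (W.ι ≫ h) ∧ LocallyOfFiniteType (W.ι ≫ h)) f.hom x) :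
    {w : AlgSp.Points W.obj | AlgSp.Points.map p.hom w = x ∧ AlgSp.Points.map q.hom w = z}.Finite := by
  -- the base change `q` of `f` is of finite type
  have hq : AlgSp.IsFiniteTypeMor q.hom := by
    refine ⟨Groth.Agent.Lib.Helper12.LocPCases.good_lft.locP_baseChange X.property Y.property
      Z.property hW hft.1, ?_⟩
    intro Z₁ Z₁' hZ₁ hZ₁q g₁ fst snd sq
    exact hft.2 hZ₁ hZ₁q (g₁ ≫ g.hom) (fst ≫ p.hom) snd (sq.paste_horiz hW)
  refine (Groth.Agent.S9995.result q hq z).subset ?_
  rintro w ⟨hw1, hw2⟩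
  refine ⟨hw2, ?_⟩
  -- quasi-finiteness of `q` at `w`
  have h1 : AlgSp.HasAtMor (fun _ _ h u => (fun e => e ≤ 0) (FlatMor.fibreDimAt h u)) f.hom
      (AlgSp.Points.map p.hom w) := by
    rw [hw1]
    obtain ⟨U', V', a', b', h', u', ha', hb', c', hu', hq'⟩ := hf
    haveI : LocallyOfFiniteType h'.left := hft.1 a' b' h' ha' hb' c'
    exact ⟨U', V', a', b', h', u', ha', hb', c', hu',
      (Groth.Agent.S10313.exists_open_lqf_iff h'.left u').1 hq'⟩
  rw [← Groth.Agent.Lib.H5bFibDimBC.hasAtMor_fibreDimAt_baseChange_iff X.property Y.property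
    Z.property hW hft.1 w (fun e => e ≤ 0)] at h1
  obtain ⟨U', V', a', b', h', u', ha', hb', c', hu', hq'⟩ := h1
  haveI : LocallyOfFiniteType h'.left := hq.1 a' b' h' ha' hb' c'
  exact ⟨U', V', a', b', h', u', ha', hb', c', hu',
    (Groth.Agent.S10313.exists_open_lqf_iff h'.left u').2 hq'⟩

end Groth.Agent.S10417
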