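import Groth.Statements.S10422
import Mathlib


set_option autoImplicit false
set_option linter.style.haveILetI false
universe u
open Topology TopologicalSpace TensorProduct
open AlgSp

namespace Groth.Agent.S10422

open TensorProduct

/-- a common field extension of finitely many field extensions of `k`. -/
theorem exists_common_field (k : Type u) [Field k] (K : ℕ → Type u) [∀ n, Field (K n)]
    [∀ n, Algebra k (K n)] (N : ℕ) :
    ∃ (Ω : Type u) (_ : Field Ω) (_ : Algebra k Ω), ∀ n < N, Nonempty (K n →ₐ[k] Ω) := by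
  induction N with
  | zero => exact ⟨k, inferInstance, inferInstance, fun n hn => absurd hn (Nat.not_lt_zero n)⟩
  | succ N ih =>
    obtain ⟨Ω, hΩ, hkΩ, hσ⟩ := ih
    haveI : Nontrivial (Ω ⊗[k] K N) :=
      Algebra.TensorProduct.nontrivial_of_algebraMap_injective_of_flat_left (R := k) Ω (K N)
        (algebraMap k (K N)).injective
    obtain ⟨M, hM⟩ := Ideal.exists_maximal (Ω ⊗[k] K N)
    letI : Field ((Ω ⊗[k] K N) ⧸ M) := Ideal.Quotient.field M
    refine ⟨(Ω ⊗[k] K N) ⧸ M, inferInstance, inferInstance, fun n hn => ?_⟩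
    rcases Nat.lt_succ_iff_lt_or_eq.1 hn with h | rfl
    · obtain ⟨σ⟩ := hσ n h
      exact ⟨((Ideal.Quotient.mkₐ k M).comp
        (Algebra.TensorProduct.includeLeft (R := k) (S := k) (A := Ω) (B := K N))).comp σ⟩
    · exact ⟨(Ideal.Quotient.mkₐ k M).comp
        (Algebra.TensorProduct.includeRight (R := k) (A := Ω) (B := K n))⟩

/-- the abstract form of the statement. -/
theorem aux (A : Type u) [CommRing A] (k : Type u) [Field k] (K : ℕ → Type u) [∀ n, Field (K n)]
    [∀ n, Algebra A (K n)] [∀ n, Algebra k (K n)]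
    (Φ : ∀ n m : ℕ, (A ⊗[ℤ] A) →+* (K n ⊗[k] K m))
    (hΦ : ∀ n m a b, Φ n m (a ⊗ₜ b) = algebraMap A (K n) a ⊗ₜ algebraMap A (K m) b)
    (μ : (A ⊗[ℤ] A) →+* A) (hμ : ∀ a b, μ (a ⊗ₜ b) = a * b) (hμs : Function.Surjective μ) :
    (closure (⋃ (n : ℕ) (m : ℕ) (_ : n ≠ m), Set.range (PrimeSpectrum.comap (Φ n m))) ∩
      Set.range (PrimeSpectrum.comap μ)).Nonempty := by
  classical
  by_contra hne
  rw [Set.not_nonempty_iff_eq_empty, ← PrimeSpectrum.zeroLocus_vanishingIdeal_eq_closure,
    range_comap_of_surjective _ μ hμs, ← PrimeSpectrum.zeroLocus_sup,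
    PrimeSpectrum.zeroLocus_empty_iff_eq_top] at hne
  have h1 : (1 : A ⊗[ℤ] A) ∈ PrimeSpectrum.vanishingIdeal
      (⋃ (n : ℕ) (m : ℕ) (_ : n ≠ m), Set.range (PrimeSpectrum.comap (Φ n m))) ⊔ RingHom.ker μ :=
    hne ▸ Submodule.mem_top
  obtain ⟨j, hj, i, hi, hji⟩ := Submodule.mem_sup.1 h1
  have hμj : μ j = 1 := by
    have := congrArg μ hji
    rw [map_add, (RingHom.mem_ker).1 hi, add_zero, map_one] at this
    exact this
  obtain ⟨Sf, hS⟩ := TensorProduct.exists_finset j
  obtain ⟨Ω, hΩ, hkΩ, hσ⟩ := exists_common_field k K (Sf.card + 1)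
  let σ : ∀ n : Fin (Sf.card + 1), K n →ₐ[k] Ω := fun n => (hσ n n.2).some
  let U : Matrix (Fin (Sf.card + 1)) ↥Sf Ω := fun n s => σ n (algebraMap A (K n) s.1.1)
  let V : Matrix ↥Sf (Fin (Sf.card + 1)) Ω := fun s m => σ m (algebraMap A (K m) s.1.2)
  have hUV : U * V = 1 := by
    ext n m
    rw [Matrix.mul_apply]
    show ∑ s : ↥Sf, σ n (algebraMap A (K n) s.1.1) * σ m (algebraMap A (K m) s.1.2) = _
    rw [Finset.sum_coe_sort Sf
      (fun s => σ n (algebraMap A (K n) s.1) * σ m (algebraMap A (K m) s.2))]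
    by_cases hnm : n = m
    · subst hnm
      rw [Matrix.one_apply_eq]
      have h2 : μ j = ∑ s ∈ Sf, s.1 * s.2 := by
        rw [hS, map_sum]
        exact Finset.sum_congr rfl fun s _ => hμ _ _
      have h3 : σ n (algebraMap A (K n) (μ j)) = 1 := by rw [hμj, map_one, map_one]
      rw [h2, map_sum, map_sum] at h3
      rw [← h3]
      exact Finset.sum_congr rfl fun s _ => by rw [map_mul, map_mul]
    · rw [Matrix.one_apply_ne hnm]
      let Ψ : K n ⊗[k] K m →ₐ[k] Ω :=
        Algebra.TensorProduct.lift (σ n) (σ m) (fun _ _ => Commute.all _ _)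
      let P : PrimeSpectrum (K n ⊗[k] K m) := ⟨RingHom.ker Ψ.toRingHom, RingHom.ker_isPrime _⟩
      have hP : PrimeSpectrum.comap (Φ n m) P ∈
          (⋃ (n : ℕ) (m : ℕ) (_ : n ≠ m), Set.range (PrimeSpectrum.comap (Φ n m))) := by
        refine Set.mem_iUnion.2 ⟨n, Set.mem_iUnion.2 ⟨m, Set.mem_iUnion.2 ⟨?_, P, rfl⟩⟩⟩
        intro h
        exact hnm (Fin.ext h)
      have hjP := (PrimeSpectrum.mem_vanishingIdeal _ _).1 hj _ hP
      have h4 : Ψ (Φ n m j) = 0 := hjP
      rw [hS, map_sum, map_sum] at h4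
      rw [← h4]
      refine Finset.sum_congr rfl fun s _ => ?_
      rw [hΦ]
      exact (Algebra.TensorProduct.lift_tmul _ _ _ _ _).symm
  have h5 := Matrix.rank_mul_le_left U V
  rw [hUV, Matrix.rank_one] at h5
  have h6 := Matrix.rank_le_card_width U
  rw [Fintype.card_fin] at h5
  rw [Fintype.card_coe] at h6
  omega

/-- Let A be a ring, k a field, (p_n) a sequence of primes of A which are pairwise distinct, and k →
κ(p_n) field embeddings. Then the closure in Spec(A ⊗ A) of the image of ∐_{n ≠ m} Spec(κ(p_n) ⊗_k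
κ(p_m)) meets the diagonal. Here κ(p_n) is any A-algebra K_n which is a field whose structure map
has kernel p_n and whose elements are quotients of images of elements of A. -/
theorem result (A : Type u) [CommRing A] (k : Type u) [Field k]
    (p : ℕ → PrimeSpectrum A) (hp : Function.Injective p) (K : ℕ → Type u) [∀ n, Field (K n)]
    [∀ n, Algebra A (K n)] [∀ n, Algebra k (K n)]
    (hker : ∀ n, RingHom.ker (algebraMap A (K n)) = (p n).asIdeal)
    (hfrac : ∀ n (x : K n), ∃ a b : A, algebraMap A (K n) b ≠ 0 ∧ x * algebraMap A (K n) b = algebraMap A (K n) a) :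
    (closure (⋃ (n : ℕ) (m : ℕ) (_ : n ≠ m),
        Set.range (PrimeSpectrum.comap
          (Algebra.TensorProduct.lift
            ((Algebra.TensorProduct.includeLeft (R := k) (S := ℤ) (A := K n) (B := K m)).toRingHom.toIntAlgHom.comp
              (Algebra.ofId A (K n)).toRingHom.toIntAlgHom)
            ((Algebra.TensorProduct.includeRight (R := k) (A := K n) (B := K m)).toRingHom.toIntAlgHom.comp
              (Algebra.ofId A (K m)).toRingHom.toIntAlgHom)
            (fun _ _ => Commute.all _ _)).toRingHom)) ∩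
      Set.range (PrimeSpectrum.comap (Algebra.TensorProduct.lmul' (S := A) ℤ).toRingHom)).Nonempty := by
  refine aux A k K (fun n m => (Algebra.TensorProduct.lift
            ((Algebra.TensorProduct.includeLeft (R := k) (S := ℤ) (A := K n) (B := K m)).toRingHom.toIntAlgHom.comp
              (Algebra.ofId A (K n)).toRingHom.toIntAlgHom)
            ((Algebra.TensorProduct.includeRight (R := k) (A := K n) (B := K m)).toRingHom.toIntAlgHom.comp
              (Algebra.ofId A (K m)).toRingHom.toIntAlgHom)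
            (fun _ _ => Commute.all _ _)).toRingHom) ?_
    (Algebra.TensorProduct.lmul' (S := A) ℤ).toRingHom ?_ ?_
  · intro n m a b
    show (Algebra.TensorProduct.lift _ _ _) (a ⊗ₜ b) = _
    rw [Algebra.TensorProduct.lift_tmul]
    simp [Algebra.TensorProduct.tmul_mul_tmul]
  · intro a b
    show Algebra.TensorProduct.lmul' (S := A) ℤ (a ⊗ₜ b) = _
    rw [Algebra.TensorProduct.lmul'_apply_tmul]
  · intro a
    exact ⟨a ⊗ₜ 1, by
      show Algebra.TensorProduct.lmul' (S := A) ℤ (a ⊗ₜ 1) = _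
      rw [Algebra.TensorProduct.lmul'_apply_tmul, mul_one]⟩

end Groth.Agent.S10422
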