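import Groth.Statements.S10426
import Mathlib
import Groth.Agent.Lib.H5bUBF

set_option autoImplicit false
set_option linter.style.haveILetI false
universe u
open CategoryTheory CategoryTheory.Limits AlgebraicGeometry Topology TopologicalSpace
open AlgSp

namespace Groth.Agent.S10426

open CategoryTheory.Limits Opposite MorphismProperty BddFib Groth.Agent.Lib.Helper2.BddFib
  Groth.Agent.Lib.H5bUBF

variable {S : Scheme.{u}}

/-- Let S be a scheme, X and Y algebraic spaces over S, and g : Y ⟶ X a representable morphism; let U be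
a scheme, f : U ⟶ X a morphism, and f′ : U ×_X Y ⟶ Y its base change. Assume the image of |U| → |X|
is contained in the image of |Y| → |X| and that f′ has universally bounded fibres. Then the morphism
f also has universally bounded fibres. -/
theorem result {S : Scheme.{u}} {X Y : AlgSp.Space S} (g : Y ⟶ X)
    (hg : AlgSp.Representable g.hom) {U V : Over S} (f : (AlgSp.yon S).obj U ⟶ X.obj)
    (fst : (AlgSp.yon S).obj V ⟶ (AlgSp.yon S).obj U) (f' : (AlgSp.yon S).obj V ⟶ Y.obj) (h : IsPullback fst f' f g.hom)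
    (him : Set.range (AlgSp.Points.ofPt f) ⊆ Set.range (AlgSp.Points.map g.hom)) (hf' : W4dec.HasUnivBddFibres f') :
    W4dec.HasUnivBddFibres f := by
  obtain ⟨n, hn⟩ := hf'
  refine ⟨n, ?_⟩
  rw [degFibresLE_iff] at hn ⊢
  intro q T c d sq
  by_cases hT : IsEmpty ↥T.left
  · exact fdl_of_isEmpty q.K c.left n
  rw [not_isEmpty_iff] at hT
  obtain ⟨τ⟩ := hT
  have hτ := Groth.Agent.Lib.H5bFQ3.ofPt_eq_mk_of_sq q f c d sq.w τ
  obtain ⟨y, hy⟩ := him ⟨_, hτ⟩
  obtain ⟨p, rfl⟩ := AlgSp.Points.mk_surjective y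
  have hp' : (p.map g.hom).toHom = p.toHom ≫ g.hom := AlgSp.FieldPt.toHom_map g.hom p
  have hrepf := X.property.representable_from_yon f
  have sq1 := (hrepf.isPullback' (p.toHom ≫ g.hom)).flip
  obtain ⟨T1, c1, d1, sq1⟩ : ∃ (T1 : Over S) (c1 : T1 ⟶ p.pt) (d1 : T1 ⟶ U),
      IsPullback ((AlgSp.yon S).map c1) ((AlgSp.yon S).map d1) (p.toHom ≫ g.hom) f :=
    ⟨_, _, _, sq1⟩
  have hw : (AlgSp.yon S).map d1 ≫ f = ((AlgSp.yon S).map c1 ≫ p.toHom) ≫ g.hom := by
    rw [Category.assoc]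
    exact sq1.w.symm
  obtain ⟨d1', hd1'⟩ := (AlgSp.yon S).map_surjective (h.lift _ _ hw)
  have hbig : IsPullback ((AlgSp.yon S).map d1' ≫ fst) ((AlgSp.yon S).map c1) f
      (p.toHom ≫ g.hom) := by
    rw [hd1', h.lift_fst]
    exact sq1.flip
  have hleft : (AlgSp.yon S).map d1' ≫ f' = (AlgSp.yon S).map c1 ≫ p.toHom := by
    rw [hd1', h.lift_snd]
  have sqp : IsPullback ((AlgSp.yon S).map c1) ((AlgSp.yon S).map d1') p.toHom f' :=
    (IsPullback.of_right hbig hleft h).flip
  have h1 : FiniteOfDegLE (CommRingCat.of p.K) c1.left n := hn p T1 c1 d1' sqp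
  have sq1' : IsPullback ((AlgSp.yon S).map c1) ((AlgSp.yon S).map d1) (p.map g.hom).toHom f := by
    rw [hp']; exact sq1
  exact (fdl_iff_of_mk_eq f hrepf (p.map g.hom) q hy c1 d1 c d sq1' sq n).1 h1

end Groth.Agent.S10426
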