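import Groth.Statements.S10427
import Mathlib
import Groth.Agent.Lib.H5bUBF

set_option autoImplicit false
set_option linter.style.haveILetI false
universe u
open CategoryTheory CategoryTheory.Limits AlgebraicGeometry Topology TopologicalSpace
open AlgSp

namespace Groth.Agent.S10427

open CategoryTheory.Limits Opposite MorphismProperty BddFib Groth.Agent.Lib.Helper2.BddFib
  Groth.Agent.Lib.H5bUBF

variable {S : Scheme.{u}}

/-- Let X be an algebraic space over a scheme S and U ⟶ V ⟶ X with U, V schemes, U ⟶ V surjective and
flat. If U ⟶ X has universally bounded fibres, then so does V ⟶ X. -/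
theorem result {S : Scheme.{u}} (X : AlgSp.Space S) {U V : Over S} (f : U ⟶ V)
    [Surjective f.left] [Flat f.left] (h : (AlgSp.yon S).obj V ⟶ X.obj) (hg : W4dec.HasUnivBddFibres ((AlgSp.yon S).map f ≫ h)) :
    W4dec.HasUnivBddFibres h := by
  obtain ⟨n, hn⟩ := hg
  refine ⟨n, ?_⟩
  rw [degFibresLE_iff] at hn ⊢
  intro q T c d sq
  have top : IsPullback ((AlgSp.yon S).map (pullback.snd d f)) ((AlgSp.yon S).map (pullback.fst d f))
      ((AlgSp.yon S).map f) ((AlgSp.yon S).map d) :=
    ((IsPullback.of_hasPullback d f).map (AlgSp.yon S)).flip
  have big := (top.paste_vert sq.flip).flip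
  rw [← Functor.map_comp] at big
  have h1 := hn q _ _ _ big
  have hsq : IsPullback (pullback.fst d f).left (pullback.snd d f).left d.left f.left :=
    (IsPullback.of_hasPullback d f).map (Over.forget S)
  haveI : Flat (pullback.fst d f).left :=
    MorphismProperty.of_isPullback (P := @Flat) hsq.flip inferInstance
  haveI : Surjective (pullback.fst d f).left :=
    MorphismProperty.of_isPullback (P := @Surjective) hsq.flip inferInstance
  exact fdl_of_flat_surjective q.K (pullback.fst d f).left c.left n h1

end Groth.Agent.S10427
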