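import Groth.Statements.S10428
import Mathlib
import Groth.Agent.Lib.H5bFQ
import Groth.Agent.Lib.H5bFQ3
import Groth.Agent.Lib.Helper6FibCount
import Groth.Agent.S10176

set_option autoImplicit false
set_option linter.style.haveILetI false
universe u
open CategoryTheory CategoryTheory.Limits AlgebraicGeometry Topology TopologicalSpace
open AlgSp

namespace Groth.Agent.S10428

open CategoryTheory.Limits Opposite MorphismProperty

variable {S : Scheme.{u}}

/-- a scheme finite over a field has at most as many points as the degree. -/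
lemma card_le_finrank {T : Scheme.{u}} {K : Type u} [Field K] (c : T ⟶ Spec (CommRingCat.of K))
    [IsFinite c] : Finite ↥T ∧ Nat.card ↥T ≤ c.finrank (IsLocalRing.closedPoint K) := by
  haveI : IsAffine T := isAffine_of_isAffineHom c
  obtain ⟨σ, hσ⟩ : ∃ σ : K →+* Γ(T, ⊤), c = T.isoSpec.hom ≫ Spec.map (CommRingCat.ofHom σ) :=
    ⟨_, Groth.Agent.Lib.H5bFQ.eq_isoSpec_comp c⟩
  letI : Algebra K Γ(T, ⊤) := σ.toAlgebra
  have h2 : IsFinite (Spec.map (CommRingCat.ofHom σ)) := by
    have h1 : IsFinite (T.isoSpec.hom ≫ Spec.map (CommRingCat.ofHom σ)) := hσ ▸ ‹IsFinite c›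
    exact (MorphismProperty.cancel_left_of_respectsIso @IsFinite _ _).1 h1
  haveI hfin : Module.Finite K Γ(T, ⊤) := (IsFinite.SpecMap_iff _).1 h2
  obtain ⟨hf, hcard⟩ := Groth.Agent.Lib.Helper6.FibCount.card_primeSpectrum_le K Γ(T, ⊤)
  have hrank : c.finrank (IsLocalRing.closedPoint K) = Module.finrank K Γ(T, ⊤) := by
    have h3 := Scheme.Hom.finrank_SpecMap_algebraMap K Γ(T, ⊤) (IsLocalRing.closedPoint K)
    rw [Module.rankAtStalk_eq_finrank_of_free] at h3
    have h4 : c.finrank = (Spec.map (CommRingCat.ofHom σ)).finrank := by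
      rw [hσ]
      haveI : Flat (Spec.map (CommRingCat.ofHom σ)) := by
        rw [Flat.SpecMap_iff]
        exact (RingHom.flat_algebraMap_iff (R := K) (S := Γ(T, ⊤))).2 inferInstance
      exact Scheme.Hom.finrank_comp_left_of_isIso _ _
    rw [h4]
    exact h3
  have e : ↥T ≃ PrimeSpectrum Γ(T, ⊤) := T.isoSpec.hom.homeomorph.toEquiv
  haveI : Finite ↥T := Finite.of_equiv _ e.symm
  refine ⟨inferInstance, ?_⟩
  rw [hrank, Nat.card_congr e]
  exact hcard

/-- Let X be an algebraic space over a scheme S and φ : U ⟶ X a morphism from a scheme with universally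
bounded fibres. Then for some integer n, every fibre of |U| → |X| contains at most n elements. -/
theorem result {S : Scheme.{u}} (X : AlgSp.Space S) {U : Over S}
    (φ : (AlgSp.yon S).obj U ⟶ X.obj) (hφ : W4dec.HasUnivBddFibres φ) :
    ∃ n : ℕ, ∀ x : AlgSp.Points X.obj, (AlgSp.Points.ofPt φ ⁻¹' {x}).encard ≤ n := by
  obtain ⟨n, hn⟩ := hφ
  refine ⟨n, fun x => ?_⟩
  obtain ⟨q, rfl⟩ := AlgSp.Points.mk_surjective x
  have hrep := X.property.representable_from_yon φ
  have sq := (hrep.isPullback' q.toHom).flip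
  obtain ⟨T, c, d, sq⟩ : ∃ (T : Over S) (c : T ⟶ q.pt) (d : T ⟶ U),
      IsPullback ((AlgSp.yon S).map c) ((AlgSp.yon S).map d) q.toHom φ := ⟨_, _, _, sq⟩
  obtain ⟨hfin, hrk⟩ := hn q T c _ sq
  haveI := hfin
  obtain ⟨hT, hcard⟩ := card_le_finrank (K := q.K) c.left
  have hsub : AlgSp.Points.ofPt φ ⁻¹' {AlgSp.Points.mk q} ⊆ Set.range d.left := by
    intro u hu
    have e : AlgSp.Points.ofPt φ u =
        AlgSp.Points.ofPt q.toHom (IsLocalRing.closedPoint q.K) := by
      rw [AlgSp.Points.ofPt_toHom]; exact hu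
    obtain ⟨y, hy, -⟩ := Groth.Agent.S10176.exists_point_of_isPullback_yon sq.flip u _ e
    exact ⟨y, hy⟩
  calc (AlgSp.Points.ofPt φ ⁻¹' {AlgSp.Points.mk q}).encard
      ≤ (Set.range d.left).encard := Set.encard_le_encard hsub
    _ = (d.left '' Set.univ).encard := by rw [Set.image_univ]
    _ ≤ (Set.univ : Set ↥T.left).encard := Set.encard_image_le _ _
    _ = (Nat.card ↥T.left : ℕ∞) := by rw [Set.encard_univ, ENat.card_eq_coe_natCard]
    _ ≤ (n : ℕ∞) := by exact_mod_cast hcard.trans (hrk _)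

end Groth.Agent.S10428
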