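import Groth.Statements.S10429
import Mathlib
import Groth.Agent.Lib.H5bUBF3
import Groth.Agent.Lib.H9Slice
import Groth.Agent.Lib.Helper12PullbackPts

set_option autoImplicit false
set_option linter.style.haveILetI false
universe u
open CategoryTheory CategoryTheory.Limits AlgebraicGeometry Topology TopologicalSpace
open AlgSp

namespace Groth.Agent.S10429

open CategoryTheory.Limits Opposite MorphismProperty BddFib Groth.Agent.Lib.Helper2.BddFib
  Groth.Agent.Lib.H5bUBF

variable {S : Scheme.{u}}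

/-- For an algebraic space X over a scheme S, if there are etale morphisms U_i ⟶ X from schemes with ∐
U_i ⟶ X surjective and each U_i ⟶ X with universally bounded fibres, then every etale morphism U ⟶ X
from an affine scheme has universally bounded fibres (the converse implication is immediate). -/
theorem result {S : Scheme.{u}} (X : AlgSp.Space S) {ι : Type u} (U : ι → Over S)
    (φ : ∀ i, (AlgSp.yon S).obj (U i) ⟶ X.obj) (hφ : ∀ i, AlgSp.RepWith @Etale (φ i))
    (hsurj : ∀ x : AlgSp.Points X.obj, ∃ (i : ι) (v : ↥(U i).left), AlgSp.Points.ofPt (φ i) v = x)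
    (hb : ∀ i, W4dec.HasUnivBddFibres (φ i)) {V : Over S} [IsAffine V.left] (ψ : (AlgSp.yon S).obj V ⟶ X.obj)
    (hψ : AlgSp.RepWith @Etale ψ) : W4dec.HasUnivBddFibres ψ := by
  classical
  choose n hn using hb
  have hrep : ∀ i, AlgSp.Representable (φ i) := fun i => (hφ i).1
  let W : ι → Over S := fun i => (hrep i).pullback ψ
  let pr1 : ∀ i, W i ⟶ U i := fun i => (hrep i).fst' ψ
  let pr2 : ∀ i, W i ⟶ V := fun i => (hrep i).snd ψ
  have sqW : ∀ i, IsPullback ((AlgSp.yon S).map (pr1 i)) ((AlgSp.yon S).map (pr2 i)) (φ i) ψ :=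
    fun i => (hrep i).isPullback' ψ
  haveI he2 : ∀ i, Etale (pr2 i).left := fun i => (hφ i).2 _ _ _ (sqW i)
  haveI he1 : ∀ i, Etale (pr1 i).left := fun i => hψ.2 _ _ _ (sqW i).flip
  let J := Σ i : ι, (W i).left.affineOpens
  let A : J → Over S := fun j => Over.mk (j.2.1.ι ≫ (W j.1).hom)
  let a : ∀ j : J, A j ⟶ W j.1 := fun j => Over.homMk j.2.1.ι rfl
  let pj : ∀ j : J, A j ⟶ V := fun j => a j ≫ pr2 j.1
  let rj : ∀ j : J, A j ⟶ U j.1 := fun j => a j ≫ pr1 j.1
  haveI hpe : ∀ j, Etale (pj j).left := fun j => by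
    change Etale (j.2.1.ι ≫ (pr2 j.1).left)
    infer_instance
  haveI hre : ∀ j, Etale (rj j).left := fun j => by
    change Etale (j.2.1.ι ≫ (pr1 j.1).left)
    infer_instance
  have hcov : ∀ v : ↥V.left, ∃ j : J, v ∈ Set.range (pj j).left := by
    intro v
    obtain ⟨i, u, hu⟩ := hsurj (AlgSp.Points.ofPt ψ v)
    obtain ⟨w, hw1, hw2⟩ := Groth.Agent.S10176.exists_point_of_isPullback_yon (sqW i) u v hu
    obtain ⟨_, ⟨A0, hA0, rfl⟩, hwA, -⟩ :=
      (W i).left.isBasis_affineOpens.exists_subset_of_mem_open (Set.mem_univ w) isOpen_univ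
    refine ⟨⟨i, ⟨A0, hA0⟩⟩, ⟨⟨w, hwA⟩, ?_⟩⟩
    exact hw2
  have hopen : ∀ j, IsOpen (Set.range (pj j).left) := fun j => (pj j).left.isOpenMap.isOpen_range
  obtain ⟨J0, hJ0⟩ := isCompact_univ.elim_finite_subcover (fun j : J => Set.range (pj j).left) hopen
    (fun v _ => Set.mem_iUnion.2 (hcov v))
  have hd : ∀ j : J, ∃ d, DegLE (rj j).left d := fun j => by
    haveI : IsAffine (A j).left := (j.2.2 : IsAffineOpen j.2.1)
    haveI : LocallyQuasiFinite (rj j).left :=
      Groth.Agent.Lib.H9Slice.locallyQuasiFinite_of_etale _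
    exact exists_DegLE (rj j).left
  choose dj hdj using hd
  have hD : ∀ j : J, W4dec.DegFibresLE (dj j * n j.1) ((AlgSp.yon S).map (pj j) ≫ ψ) := by
    intro j
    have h1 := degFibresLE_comp (rj j) (φ j.1) (hrep j.1) (dj j) (n j.1) (hdj j) (hn j.1)
    have e : (AlgSp.yon S).map (rj j) ≫ φ j.1 = (AlgSp.yon S).map (pj j) ≫ ψ := by
      simp only [rj, pj, Functor.map_comp, Category.assoc]
      rw [(sqW j.1).w]
    rwa [e] at h1
  refine ⟨∑ j : {j // j ∈ J0}, dj j.1 * n j.1.1, ?_⟩
  rw [degFibresLE_iff]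
  intro q T c d sq
  have hsq : ∀ j : J, IsPullback (pullback.fst d (pj j)).left (pullback.snd d (pj j)).left d.left
      (pj j).left := fun j => (IsPullback.of_hasPullback d (pj j)).map (Over.forget S)
  haveI hme : ∀ j : J, Etale (pullback.fst d (pj j)).left := fun j =>
    MorphismProperty.of_isPullback (P := @Etale) (hsq j).flip (hpe j)
  haveI hmf : ∀ j : {j // j ∈ J0}, Flat (pullback.fst d (pj j.1)).left := fun j => inferInstance
  refine fdl_of_open_flat_family q.K c.left (fun j : {j // j ∈ J0} => (pullback d (pj j.1)).left)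
    (fun j => (pullback.fst d (pj j.1)).left) ?_ ?_ (fun j => dj j.1 * n j.1.1) ?_
  · intro j
    exact (pullback.fst d (pj j.1)).left.isOpenMap.isOpen_range
  · intro t
    have ht : d.left t ∈ ⋃ j ∈ J0, Set.range (pj j).left := hJ0 (Set.mem_univ _)
    simp only [Set.mem_iUnion] at ht
    obtain ⟨j, hj, y, hy⟩ := ht
    obtain ⟨z, hz, -⟩ := Groth.Agent.Lib.Helper12.exists_preimage_of_isPullback (hsq j) t y hy.symm
    exact ⟨⟨j, hj⟩, z, hz⟩
  · intro j
    have top : IsPullback ((AlgSp.yon S).map (pullback.snd d (pj j.1)))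
        ((AlgSp.yon S).map (pullback.fst d (pj j.1)))
        ((AlgSp.yon S).map (pj j.1)) ((AlgSp.yon S).map d) :=
      ((IsPullback.of_hasPullback d (pj j.1)).map (AlgSp.yon S)).flip
    have big := (top.paste_vert sq.flip).flip
    rw [← Functor.map_comp] at big
    have h1 := (degFibresLE_iff _ _).1 (hD j.1) q _ _ _ big
    exact h1

end Groth.Agent.S10429
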