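import Groth.Statements.S10430
import Mathlib
import Groth.Agent.S10360

set_option autoImplicit false
set_option linter.style.haveILetI false
universe u
open CategoryTheory CategoryTheory.Limits AlgebraicGeometry Topology TopologicalSpace
open AlgSp

namespace Groth.Agent.S10430

/-- If every etale morphism U ⟶ X from an affine scheme to the algebraic space X has universally bounded
fibres, then X is decent. -/
theorem result {S : Scheme.{u}} (X : AlgSp.Space S)
    (h : ∀ (U : Over S) (φ : (AlgSp.yon S).obj U ⟶ X.obj), IsAffine U.left → AlgSp.RepWith @Etale φ → W4dec.HasUnivBddFibres φ) :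
    AlgSp.IsDecent X.obj := by
  intro x
  refine (Groth.Agent.S10360.result X x).1 (fun U φ hU hφ R s t sqR => ?_)
  obtain ⟨q, rfl⟩ := AlgSp.Points.mk_surjective x
  obtain ⟨n, hn⟩ := h U φ hU hφ
  have hrep := hφ.1
  have sq := (hrep.isPullback' q.toHom).flip
  haveI : IsFinite (hrep.snd q.toHom).left := (hn q _ _ _ sq).1
  exact ⟨Groth.Agent.Lib.H5bFQ3.finite_fibre_of_isFinite q φ _ _ sq,
    Groth.Agent.Lib.H5bFQ3.finite_fibre_R_of_isFinite q φ _ _ sq s t sqR⟩

end Groth.Agent.S10430
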