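import Groth.Statements.S10431
import Mathlib
import Groth.Agent.S10429
import Groth.Agent.S10425
import Groth.Agent.S10177
import Groth.Agent.S10175

set_option autoImplicit false
set_option linter.style.haveILetI false
universe u
open CategoryTheory CategoryTheory.Limits AlgebraicGeometry Topology TopologicalSpace
open AlgSp

namespace Groth.Agent.S10431

open CategoryTheory.Limits Opposite MorphismProperty

variable {S : Scheme.{u}}

/-- Let S be a scheme, X and Y algebraic spaces over S, and X ⟶ Y a representable morphism. If every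
etale morphism from an affine scheme to Y has universally bounded fibres, then so does every etale
morphism from an affine scheme to X. -/
theorem result {S : Scheme.{u}} {X Y : AlgSp.Space S} (f : X ⟶ Y)
    (hf : AlgSp.Representable f.hom)
    (hY : ∀ (V : Over S) (ψ : (AlgSp.yon S).obj V ⟶ Y.obj), IsAffine V.left → AlgSp.RepWith @Etale ψ → W4dec.HasUnivBddFibres ψ)
    (U : Over S) (φ : (AlgSp.yon S).obj U ⟶ X.obj) (hU : IsAffine U.left) (hφ : AlgSp.RepWith @Etale φ) :
    W4dec.HasUnivBddFibres φ := by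
  classical
  obtain ⟨V0, b, hbe, hbs⟩ := Y.property.atlas
  let I := V0.left.affineOpens
  let A : I → Over S := fun i => Over.mk (i.1.ι ≫ V0.hom)
  let a : ∀ i : I, A i ⟶ V0 := fun i => Over.homMk i.1.ι rfl
  let bA : ∀ i : I, (AlgSp.yon S).obj (A i) ⟶ Y.obj := fun i => (AlgSp.yon S).map (a i) ≫ b
  have hbA : ∀ i, AlgSp.RepWith @Etale (bA i) := fun i =>
    (AlgSp.RepWith @Etale).comp_mem _ _
      ((AlgSp.repWith_yon_map_iff _ _).2 (inferInstance : Etale i.1.ι)) hbe
  let P : I → Over S := fun i => hf.pullback (bA i)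
  let φi : ∀ i, (AlgSp.yon S).obj (P i) ⟶ X.obj := fun i => hf.fst (bA i)
  let si : ∀ i, P i ⟶ A i := fun i => hf.snd (bA i)
  have sqP : ∀ i, IsPullback (φi i) ((AlgSp.yon S).map (si i)) f.hom (bA i) :=
    fun i => hf.isPullback (bA i)
  have hφi : ∀ i, AlgSp.RepWith @Etale (φi i) := fun i =>
    MorphismProperty.of_isPullback (P := AlgSp.RepWith @Etale) (sqP i).flip (hbA i)
  have hbd : ∀ i, W4dec.HasUnivBddFibres (φi i) := fun i =>
    Groth.Agent.S10425.result f hf (bA i)
      (hY (A i) (bA i) (i.2 : IsAffineOpen i.1) (hbA i)) ((AlgSp.yon S).map (si i)) (φi i)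
      (sqP i).flip
  have hsurj : ∀ x : AlgSp.Points X.obj, ∃ (i : I) (v : ↥(P i).left),
      AlgSp.Points.ofPt (φi i) v = x := by
    intro x
    obtain ⟨v0, hv0⟩ := Groth.Agent.S10177.surjective_ofPt b hbs (AlgSp.Points.map f.hom x)
    obtain ⟨_, ⟨A0, hA0, rfl⟩, hvA, -⟩ :=
      V0.left.isBasis_affineOpens.exists_subset_of_mem_open (Set.mem_univ v0) isOpen_univ
    let i : I := ⟨A0, hA0⟩
    let v : ↥(A i).left := ⟨v0, hvA⟩
    have hv : AlgSp.Points.ofPt (bA i) v = AlgSp.Points.map f.hom x := by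
      rw [← hv0]
      exact Groth.Agent.S10176.ofPt_map_comp (a i) b v
    have e : AlgSp.Points.map f.hom x =
        AlgSp.Points.map (bA i) (AlgSp.Points.ofScheme (A i) v) := by
      rw [← AlgSp.Points.ofPt_eq_map_ofScheme, hv]
    obtain ⟨p, hp1, -⟩ := Groth.Agent.S10175.exists_point_of_isPullback (sqP i) x _ e
    obtain ⟨w, rfl⟩ := (AlgSp.Points.schemeHomeo (P i)).surjective p
    refine ⟨i, w, ?_⟩
    rw [AlgSp.Points.ofPt_eq_map_ofScheme]
    exact hp1
  haveI : IsAffine U.left := hU
  exact Groth.Agent.S10429.result X P φi hφi hsurj hbd φ hφ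

end Groth.Agent.S10431
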