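import Groth.Statements.S10432
import Mathlib
import Groth.Agent.S10429
import Groth.Agent.S10177
import Groth.Agent.S9928
import Groth.Agent.Lib.H5bUBF4

set_option autoImplicit false
set_option linter.style.haveILetI false
universe u
open CategoryTheory CategoryTheory.Limits AlgebraicGeometry Topology TopologicalSpace
open AlgSp

namespace Groth.Agent.S10432

open CategoryTheory.Limits Opposite MorphismProperty Groth.Agent.Lib.H5bUBF

variable {S : Scheme.{u}}

/-- Let X be an algebraic space over a scheme S with a Zariski covering by open subspaces X_i ⟶ X such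
that every etale morphism from an affine scheme to X_i has universally bounded fibres. Then every
etale morphism from an affine scheme to X has universally bounded fibres. -/
theorem result {S : Scheme.{u}} (X : AlgSp.Space S) {ι : Type u}
    (Xi : ι → AlgSp.Space S) (j : ∀ i, Xi i ⟶ X) (hj : AlgSp.IsZarCover (fun i => (Xi i).obj) (fun i => (j i).hom))
    (h : ∀ (i : ι) (V : Over S) (ψ : (AlgSp.yon S).obj V ⟶ (Xi i).obj), IsAffine V.left → AlgSp.RepWith @Etale ψ → W4dec.HasUnivBddFibres ψ)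
    (U : Over S) (φ : (AlgSp.yon S).obj U ⟶ X.obj) (hU : IsAffine U.left) (hφ : AlgSp.RepWith @Etale φ) :
    W4dec.HasUnivBddFibres φ := by
  classical
  obtain ⟨hjo, hjs⟩ := hj
  haveI hmono : ∀ i, Mono (j i).hom := fun i =>
    Groth.Agent.S9928.mono_of_repWith @IsOpenImmersion
      (fun X Y g hg => by haveI : IsOpenImmersion g := hg; infer_instance) _ (hjo i)
  have hje : ∀ i, AlgSp.RepWith @Etale (j i).hom := fun i =>
    ⟨(hjo i).1, fun T W g pr w sq => by
      haveI : IsOpenImmersion w.left := (hjo i).2 g pr w sq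
      change Etale w.left
      infer_instance⟩
  choose V0 b hbe hbs using fun i => (Xi i).property.atlas
  let K := Σ i : ι, (V0 i).left.affineOpens
  let A : K → Over S := fun k => Over.mk (k.2.1.ι ≫ (V0 k.1).hom)
  let a : ∀ k : K, A k ⟶ V0 k.1 := fun k => Over.homMk k.2.1.ι rfl
  let ψk : ∀ k : K, (AlgSp.yon S).obj (A k) ⟶ (Xi k.1).obj := fun k =>
    (AlgSp.yon S).map (a k) ≫ b k.1
  have hψk : ∀ k, AlgSp.RepWith @Etale (ψk k) := fun k =>
    (AlgSp.RepWith @Etale).comp_mem _ _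
      ((AlgSp.repWith_yon_map_iff _ _).2 (inferInstance : Etale k.2.1.ι)) (hbe k.1)
  let θ : ∀ k : K, (AlgSp.yon S).obj (A k) ⟶ X.obj := fun k => ψk k ≫ (j k.1).hom
  have hθ : ∀ k, AlgSp.RepWith @Etale (θ k) := fun k =>
    (AlgSp.RepWith @Etale).comp_mem _ _ (hψk k) (hje k.1)
  have hbd : ∀ k, W4dec.HasUnivBddFibres (θ k) := fun k => by
    obtain ⟨n, hn⟩ := h k.1 (A k) (ψk k) (k.2.2 : IsAffineOpen k.2.1) (hψk k)
    exact ⟨n, degFibresLE_comp_mono (ψk k) (j k.1).hom (hψk k).1 (hθ k).1 n hn⟩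
  have hsurj : ∀ x : AlgSp.Points X.obj, ∃ (k : K) (v : ↥(A k).left),
      AlgSp.Points.ofPt (θ k) v = x := by
    intro x
    obtain ⟨i, xi, rfl⟩ := hjs x
    obtain ⟨v0, rfl⟩ := Groth.Agent.S10177.surjective_ofPt (b i) (hbs i) xi
    obtain ⟨_, ⟨A0, hA0, rfl⟩, hvA, -⟩ :=
      (V0 i).left.isBasis_affineOpens.exists_subset_of_mem_open (Set.mem_univ v0) isOpen_univ
    refine ⟨⟨i, ⟨A0, hA0⟩⟩, ⟨v0, hvA⟩, ?_⟩
    rw [← AlgSp.Points.map_ofPt]
    congr 1
    exact Groth.Agent.S10176.ofPt_map_comp (a ⟨i, ⟨A0, hA0⟩⟩) (b i) ⟨v0, hvA⟩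
  haveI : IsAffine U.left := hU
  exact Groth.Agent.S10429.result X A θ hθ hsurj hbd φ hφ

end Groth.Agent.S10432
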