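import Groth.Statements.S10433
import Mathlib
import Groth.Agent.S10192
import Groth.Agent.Lib.H5bDegStratB

set_option autoImplicit false
set_option linter.style.haveILetI false
universe u
open CategoryTheory CategoryTheory.Limits AlgebraicGeometry Topology TopologicalSpace
open AlgSp

namespace Groth.Agent.S10433

open Groth.Agent.Lib.H5bDegStrat

/-- Let S be a scheme, X an algebraic space over S, W a scheme over S, and W ⟶ X a morphism which is
flat, separated, locally of finite presentation and locally quasi-finite, with universally bounded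
fibres. Then X has closed subspaces, each reduced, ∅ = Z_{-1} ⊆ Z_0 ⊆ ⋯ ⊆ Z_n with |Z_n| = |X| such
that, putting X_r = Z_r ∖ Z_{r-1}, for every morphism g : T ⟶ X the second projection W ×_X T ⟶ T is
a finite locally free morphism of degree r exactly when g(|T|) ⊆ |X_r|. (Indexing: Zs 0 = Z_{-1}, Zs
(r+1) = Z_r.) -/
theorem result {S : Scheme.{u}} (X : AlgSp.Space S) {W : Over S}
    (w : (AlgSp.yon S).obj W ⟶ X.obj) (hfl : AlgSp.RepWith @Flat w) (hfp : AlgSp.RepWith @LocallyOfFinitePresentation w)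
    (hsep : AlgSp.RepWith @IsSeparated w) (hqf : AlgSp.RepWith @LocallyQuasiFinite w) (hb : W4dec.HasUnivBddFibres w) :
    ∃ (n : ℕ) (Zs : ℕ → AlgSp.Space S) (i : ∀ r, Zs r ⟶ X),
      (∀ r, AlgSp.IsRedInduced (Set.range (AlgSp.Points.map (i r).hom)) (i r).hom) ∧
      IsEmpty (AlgSp.Points (Zs 0).obj) ∧ Set.range (AlgSp.Points.map (i (n + 1)).hom) = Set.univ ∧
      (∀ r, Set.range (AlgSp.Points.map (i r).hom) ⊆ Set.range (AlgSp.Points.map (i (r + 1)).hom)) ∧
      ∀ (r : ℕ) (T : AlgSp.Space S) (g : T ⟶ X) (P : AlgSp.Sp S) (fst : P ⟶ (AlgSp.yon S).obj W) (snd : P ⟶ T.obj),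
        IsPullback fst snd w g.hom →
          (AlgSp.IsFinLocFreeOfDegMor r snd ↔
            Set.range (AlgSp.Points.map g.hom) ⊆
              Set.range (AlgSp.Points.map (i (r + 1)).hom) \ Set.range (AlgSp.Points.map (i r).hom)) := by
  obtain ⟨n, hb⟩ := hb
  have hrep : AlgSp.Representable w := hfl.1
  have hDle : ∀ x, degAt hfl.1 x ≤ n := degAt_le hfl hqf hb
  have hcl : ∀ r, IsClosed {x : AlgSp.Points X.obj | degAt hfl.1 x < r} :=
    isClosed_degAt_lt hfl hfp hsep hqf hb
  choose Zs i hZi using fun r => Groth.Agent.S10192.result X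
    {x : AlgSp.Points X.obj | degAt hfl.1 x < r} (hcl r)
  have hrange : ∀ r, Set.range (AlgSp.Points.map (i r).hom) =
      {x : AlgSp.Points X.obj | degAt hfl.1 x < r} := fun r => (hZi r).2.1
  refine ⟨n, Zs, i, ?_, ?_, ?_, ?_, ?_⟩
  · intro r
    rw [hrange r]
    exact hZi r
  · refine ⟨fun z => ?_⟩
    have hz : AlgSp.Points.map (i 0).hom z ∈ {x : AlgSp.Points X.obj | degAt hfl.1 x < 0} := by
      rw [← hrange 0]
      exact ⟨z, rfl⟩
    exact Nat.not_lt_zero _ hz
  · rw [hrange]
    ext x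
    simp only [Set.mem_ofPred_eq, Set.mem_univ, iff_true]
    exact Nat.lt_succ_of_le (hDle x)
  · intro r
    rw [hrange, hrange]
    intro x hx
    exact Nat.lt_succ_of_lt hx
  · intro r T g P fst snd sq
    rw [hrange, hrange]
    constructor
    · intro hflf x hx
      obtain ⟨y, rfl⟩ := hx
      obtain ⟨q, rfl⟩ := AlgSp.Points.mk_surjective y
      obtain ⟨P', b', a', sq'⟩ := hflf.1 q.toHom
      have hdeg' : Mor2.IsFinLocFreeOfDeg r b'.left := hflf.2 _ _ b' sq'
      have big := sq'.paste_horiz sq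
      obtain ⟨a₀, ha₀⟩ := (AlgSp.yon S).map_surjective (a' ≫ fst)
      rw [← ha₀] at big
      have h1 := (finLocFreeOfDeg_iff hfl hfp hsep hqf hb big r).1 hdeg'
        (IsLocalRing.closedPoint q.K)
      rw [← AlgSp.Points.map_ofPt, AlgSp.Points.ofPt_toHom] at h1
      constructor
      · change degAt hfl.1 _ < r + 1
        omega
      · change ¬ degAt hfl.1 _ < r
        omega
    · intro hsub
      refine (AlgSp.repWith_iff _ snd).2 ⟨?_, ?_⟩
      · exact MorphismProperty.of_isPullback sq hrep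
      · intro U V g' fst' snd' sq'
        have big := sq'.paste_horiz sq
        obtain ⟨a₀, ha₀⟩ := (AlgSp.yon S).map_surjective (fst' ≫ fst)
        rw [← ha₀] at big
        refine (finLocFreeOfDeg_iff hfl hfp hsep hqf hb big r).2 fun t => ?_
        have hx := hsub ⟨AlgSp.Points.ofPt g' t, rfl⟩
        rw [AlgSp.Points.map_ofPt] at hx
        obtain ⟨hx1, hx2⟩ := hx
        have hx1' : degAt hfl.1 (AlgSp.Points.ofPt (g' ≫ g.hom) t) < r + 1 := hx1
        have hx2' : ¬ degAt hfl.1 (AlgSp.Points.ofPt (g' ≫ g.hom) t) < r := hx2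
        omega

end Groth.Agent.S10433
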