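import Groth.Statements.S10441
import Mathlib
import Groth.Agent.Lib.H5bElemHz

set_option autoImplicit false
set_option linter.style.haveILetI false
universe u
open CategoryTheory CategoryTheory.Limits AlgebraicGeometry Topology TopologicalSpace
open AlgSp

namespace Groth.Agent.S10441

/-- For a decent algebraic space X over a scheme S and x ∈ |X|, fix an elementary etale neighbourhood
(U₀, u₀) of (X, x) and a henselization R of O_{U₀, u₀} (a model of the henselian local ring at x).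
The following are equivalent: (1) O_{U, u} has exactly one minimal prime whenever (U, u) is an
elementary etale neighbourhood of (X, x); (2) a unique irreducible component of U passes through u
for all such (U, u); (3) O_{U, u} is unibranch for all such (U, u); (4) R has exactly one minimal
prime. -/
theorem result {S : Scheme.{u}} (X : AlgSp.Space S)
    (hX : AlgSp.IsDecent X.obj) (x : AlgSp.Points X.obj) {U₀ : Over S}
    (a₀ : (AlgSp.yon S).obj U₀ ⟶ X.obj) (u₀ : ↥U₀.left) (h₀ : AlgSp.IsElemEtaleNbhd a₀ u₀ x)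
    (R : Type u) [CommRing R] [IsLocalRing R] [Algebra ↥(U₀.left.presheaf.stalk u₀) R]
    [IsLocalHom (algebraMap ↥(U₀.left.presheaf.stalk u₀) R)] [Hensel.IsHenselization ↥(U₀.left.presheaf.stalk u₀) R] :
    ((∀ (U : Over S) (a : (AlgSp.yon S).obj U ⟶ X.obj) (u : ↥U.left), AlgSp.IsElemEtaleNbhd a u x →
        CAlgX.HasUniqueMinimalPrime ↥(U.left.presheaf.stalk u)) ↔
      (∀ (U : Over S) (a : (AlgSp.yon S).obj U ⟶ X.obj) (u : ↥U.left), AlgSp.IsElemEtaleNbhd a u x →
        {Z : Set ↥U.left | Z ∈ irreducibleComponents ↥U.left ∧ u ∈ Z}.encard = 1)) ∧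
    ((∀ (U : Over S) (a : (AlgSp.yon S).obj U ⟶ X.obj) (u : ↥U.left), AlgSp.IsElemEtaleNbhd a u x →
        {Z : Set ↥U.left | Z ∈ irreducibleComponents ↥U.left ∧ u ∈ Z}.encard = 1) ↔
      (∀ (U : Over S) (a : (AlgSp.yon S).obj U ⟶ X.obj) (u : ↥U.left), AlgSp.IsElemEtaleNbhd a u x →
        CAlg2.IsUnibranch ↥(U.left.presheaf.stalk u))) ∧
    ((∀ (U : Over S) (a : (AlgSp.yon S).obj U ⟶ X.obj) (u : ↥U.left), AlgSp.IsElemEtaleNbhd a u x →
        CAlg2.IsUnibranch ↥(U.left.presheaf.stalk u)) ↔ CAlgX.HasUniqueMinimalPrime R) := by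
  have h12 : ∀ (U : Over S) (u : ↥U.left),
      CAlgX.HasUniqueMinimalPrime ↥(U.left.presheaf.stalk u) ↔
        {Z : Set ↥U.left | Z ∈ irreducibleComponents ↥U.left ∧ u ∈ Z}.encard = 1 :=
    fun U u => Groth.Agent.Lib.H5bElemHz.hasUniqueMinimalPrime_stalk_iff u
  refine ⟨⟨fun H U a u h => (h12 U u).1 (H U a u h), fun H U a u h => (h12 U u).2 (H U a u h)⟩,
    ⟨?_, ?_⟩, ⟨?_, ?_⟩⟩
  · intro H U a u h
    rw [Groth.Agent.Lib.H5bBranchMain.isUnibranch_iff]
    intro V g v hg
    exact H (Over.mk (g ≫ U.hom))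
      ((AlgSp.yon S).map (Over.homMk g rfl : Over.mk (g ≫ U.hom) ⟶ U) ≫ a) v
      (Groth.Agent.Lib.H5bElemNbhd.isElemEtaleNbhd_comp a u x h g v hg)
  · intro H U a u h
    have hid : Hens2.IsEtaleNbhd (𝟙 U.left) u u := by
      refine ⟨inferInstance, rfl, ?_⟩
      rw [Scheme.residueFieldMap_id]
      exact Function.bijective_id
    exact (Groth.Agent.Lib.H5bBranchMain.isUnibranch_iff U.left u).1 (H U a u h) U.left (𝟙 _) u hid
  · intro H
    exact (Groth.Agent.Lib.H5bElemHz.isUnibranch_iff x a₀ u₀ h₀ R a₀ u₀ h₀).1 (H U₀ a₀ u₀ h₀)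
  · intro H U a u h
    exact (Groth.Agent.Lib.H5bElemHz.isUnibranch_iff x a₀ u₀ h₀ R a u h).2 H

end Groth.Agent.S10441
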