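import Groth.Statements.S10452
import Mathlib
import Groth.Agent.Lib.H5bSpecQuot2

set_option autoImplicit false
set_option linter.style.haveILetI false
universe u
open CategoryTheory CategoryTheory.Limits AlgebraicGeometry Topology TopologicalSpace
open AlgSp

namespace Groth.Agent.S10452

open Groth.Agent.Lib.H5bSoberSp Groth.Agent.Lib.H5bSpecQuot

/-- (2) ⇔ (3): let X be a quasi-separated algebraic space over a quasi-separated scheme S and x a point
of X. Then the local ring of X at x is zero-dimensional exactly when x is the generic point of an
irreducible component of |X|. (The published statement allows any base scheme S and takes X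
quasi-separated in the absolute sense; this row asks S to be quasi-separated and X quasi-separated
over S, which together imply absolute quasi-separatedness.) -/
theorem result {S : Scheme.{u}} [QuasiSeparatedSpace S]
    (X : AlgSp.Space S) (hqs : AlgSp.IsQuasiSeparatedSp X.obj) (x : AlgSp.Points X.obj) :
    AlgSp.HasAt (fun U u => ringKrullDim ↥(U.presheaf.stalk u) = 0) X.obj x ↔
      ∃ Z ∈ irreducibleComponents (AlgSp.Points X.obj), IsGenericPoint x Z := by
  obtain ⟨hsober, ht0⟩ := quasiSober_t0_of_qs X.property hqs
  obtain ⟨W, q, w, R, s, t, hW, hq, hw, sq, hR⟩ :=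
    Groth.Agent.S10199.exists_good_chart X.property hqs x
  haveI := hW
  haveI := hR
  -- the condition can be tested on the good chart
  have hchart : AlgSp.HasAt (fun U u => ringKrullDim ↥(U.presheaf.stalk u) = 0) X.obj x ↔
      ringKrullDim ↥(W.left.presheaf.stalk w) = 0 := by
    constructor
    · rintro ⟨U, a, u, ha, hu, hdim⟩
      refine (Groth.Agent.Lib.H5bEtLocal.iff_of_ofPt_eq
        (fun U u => ringKrullDim ↥(U.presheaf.stalk u) = 0) ?_ a q ha hq u w (hu.trans hw.symm)).1 hdim
      intro W' U' g _ w'
      rw [Groth.Agent.Lib.H5bEtLocal.ringKrullDim_stalk_eq_of_etale g w']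
    · intro h
      exact ⟨W, q, w, hq, hw, h⟩
  rw [hchart, Groth.Agent.Lib.H5bFieldSp.stalk_dim_zero_iff,
    forall_specializes_eq_iff q hq s t sq w, hw]
  constructor
  · intro h
    exact ⟨closure {x}, closure_mem_irreducibleComponents x h, rfl⟩
  · rintro ⟨Z, hZ, hxZ⟩ y hy
    -- `closure {y}` is an irreducible set containing `Z`
    have h1 : Z ⊆ closure {y} := by
      rw [← hxZ.def]
      exact closure_minimal (Set.singleton_subset_iff.2 (specializes_iff_mem_closure.1 hy))
        isClosed_closure
    have h2 : closure {y} ⊆ Z := hZ.2 isIrreducible_singleton.closure h1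
    have h3 : closure {y} = closure {x} := by
      rw [hxZ.def]
      exact subset_antisymm h2 h1
    exact ((inseparable_iff_closure_eq.2 h3).eq)

end Groth.Agent.S10452
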