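import Groth.Statements.S10455
import Mathlib
import Groth.Agent.Lib.H5bCodimOne

set_option autoImplicit false
universe u
open CategoryTheory CategoryTheory.Limits AlgebraicGeometry Topology TopologicalSpace
open AlgSp

namespace Groth.Agent.S10455

/-- Let f : X ⟶ Y be a morphism of algebraic spaces over a scheme S which is locally of finite type,
with Y locally Noetherian, and let y be a point of Y of codimension at most 1. If every codimension
0 point x of X whose image specializes to y has transcendence degree 0 over its image, then every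
point of X mapping to y is a point where f is quasi-finite. -/
theorem result {S : Scheme.{u}} {X Y : AlgSp.Space S} (f : X ⟶ Y)
    (hf : AlgSp.LocP @LocallyOfFiniteType f.hom) (hY : AlgSp.IsLocNoethSp Y.obj) (y : AlgSp.Points Y.obj)
    (hy : AlgSp.HasAt (fun U u => ringKrullDim ↥(U.presheaf.stalk u) ≤ 1) Y.obj y)
    (h : ∀ x : AlgSp.Points X.obj, AlgSp.HasAt (fun U u => ringKrullDim ↥(U.presheaf.stalk u) = 0) X.obj x → AlgSp.Points.map f.hom x ⤳ y →
      AlgSp.HasAtMor (fun _ _ h u => Dual3.resTrdeg h u = 0) f.hom x)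
    (x : AlgSp.Points X.obj) (hx : AlgSp.Points.map f.hom x = y) :
    AlgSp.HasAtMor (fun U _ h u => ∃ W : U.Opens, u ∈ W ∧ LocallyQuasiFinite (W.ι ≫ h) ∧ LocallyOfFiniteType (W.ι ≫ h)) f.hom x := by
  obtain ⟨V, b, hb, hbs, hVN⟩ := hY
  haveI : IsLocallyNoetherian V.left := hVN
  obtain ⟨U, a, h', u, ha, comm, hu⟩ :=
    Groth.Agent.Lib.H5bCodimOne.exists_chart_over X.property f.hom b hb hbs x
  subst hu
  haveI : LocallyOfFiniteType h'.left := hf a b h' ha hb comm
  rw [Groth.Agent.S10485.hasAtMor_qf_iff_chart f hf a b h' ha hb comm u]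
  have hQ1 : ∀ {W U : Scheme.{u}} (g : W ⟶ U) [Etale g] (w : W),
      (fun (U : Scheme.{u}) (u : ↥U) => ringKrullDim ↥(U.presheaf.stalk u) ≤ 1) W w ↔
      (fun (U : Scheme.{u}) (u : ↥U) => ringKrullDim ↥(U.presheaf.stalk u) ≤ 1) U (g w) := by
    intro W U g _ w
    show ringKrullDim _ ≤ 1 ↔ ringKrullDim _ ≤ 1
    rw [Groth.Agent.Lib.H5bEtLocal.ringKrullDim_stalk_eq_of_etale g w]
  have hyb : AlgSp.Points.ofPt b (h'.left.base u) = y := by
    rw [← hx, AlgSp.Points.map_ofPt, comm, Groth.Agent.S10176.ofPt_map_comp]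
  have hv : ringKrullDim ↥(V.left.presheaf.stalk (h'.left.base u)) ≤ 1 :=
    (Groth.Agent.Lib.H5bEtLocal.hasAt_iff_forall _ hQ1 Y.property y).1 hy V b
      (h'.left.base u) hb hyb
  refine Groth.Agent.Lib.H5bCodimOne.fibreDimAt_le_zero_of_codim_le_one h'.left u hv
    fun u₀ hmax hsp => ?_
  have hsp' : AlgSp.Points.map f.hom (AlgSp.Points.ofPt a u₀) ⤳ y := by
    rw [AlgSp.Points.map_ofPt, comm, Groth.Agent.S10176.ofPt_map_comp, ← hyb]
    exact hsp.map (AlgSp.Points.continuous_ofPt b)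
  have h1 := h (AlgSp.Points.ofPt a u₀)
    ⟨U, a, u₀, ha, rfl, (Groth.Agent.Lib.H5bFieldSp.stalk_dim_zero_iff u₀).2 hmax⟩ hsp'
  rw [Groth.Agent.Lib.H5bHasAtMor.hasAtMor_iff_of_chart
    (Groth.Agent.Lib.H5bResTrdeg.etLocalQ_resTrdeg (fun e => e = 0)) f.hom _ a b h' ha hb comm
    u₀ rfl] at h1
  have h2 : Dual3.resTrdeg h'.left u₀ = 0 := h1
  rw [Groth.Agent.Lib.H5bResTrdeg.resTrdeg_eq_ptTrdeg] at h2
  exact_mod_cast h2

end Groth.Agent.S10455
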