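import Groth.Statements.S10503
import Mathlib
import Groth.Agent.Lib.H5bCodimOne
import Groth.Agent.S10455

set_option autoImplicit false
universe u
open CategoryTheory CategoryTheory.Limits AlgebraicGeometry Topology TopologicalSpace
open AlgSp

namespace Groth.Agent.S10503

/-- quasi-finiteness at a point forces residue transcendence degree zero there. -/
lemma hasAtMor_resTrdeg_of_qf {S : Scheme.{u}} {X Y : AlgSp.Space S} (f : X ⟶ Y)
    (hf : AlgSp.LocP @LocallyOfFiniteType f.hom) (x : AlgSp.Points X.obj)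
    (hq : AlgSp.HasAtMor (fun U _ h u => ∃ W : U.Opens, u ∈ W ∧ LocallyQuasiFinite (W.ι ≫ h) ∧
      LocallyOfFiniteType (W.ι ≫ h)) f.hom x) :
    AlgSp.HasAtMor (fun _ _ h u => Dual3.resTrdeg h u = 0) f.hom x := by
  obtain ⟨U', V', a', b', h', u', ha', hb', c', hu', hq⟩ := hq
  haveI : LocallyOfFiniteType h'.left := hf a' b' h' ha' hb' c'
  refine ⟨U', V', a', b', h', u', ha', hb', c', hu', ?_⟩
  have h1 := (Groth.Agent.S10313.exists_open_lqf_iff h'.left u').1 hq
  have h2 := (Groth.Agent.Lib.Helper4.DimFormula.ptTrdeg_le_fibreDimAt h'.left u').trans h1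
  have h3 : ((Groth.Agent.Lib.Helper4.DimFormula.ptTrdeg h'.left u' : ℕ) : WithBot ℕ∞) ≤
      ((0 : ℕ) : WithBot ℕ∞) := by simpa using h2
  have h4 : Groth.Agent.Lib.Helper4.DimFormula.ptTrdeg h'.left u' ≤ 0 := by exact_mod_cast h3
  show Dual3.resTrdeg h'.left u' = 0
  rw [Groth.Agent.Lib.H5bResTrdeg.resTrdeg_eq_ptTrdeg]
  have h5 : Groth.Agent.Lib.Helper4.DimFormula.ptTrdeg h'.left u' = 0 := by omega
  rw [h5]
  simp

/-- Let f : X ⟶ Y be a morphism of algebraic spaces over a scheme S which is locally of finite type,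
with Y locally Noetherian, and let y be a point of Y of codimension at most 1. If f is quasi-finite
at every codimension 0 point of X, then every point of X mapping to y is a point where f is
quasi-finite. -/
theorem result {S : Scheme.{u}} {X Y : AlgSp.Space S} (f : X ⟶ Y)
    (hf : AlgSp.LocP @LocallyOfFiniteType f.hom) (hY : AlgSp.IsLocNoethSp Y.obj) (y : AlgSp.Points Y.obj)
    (hy : AlgSp.HasAt (fun U u => ringKrullDim ↥(U.presheaf.stalk u) ≤ 1) Y.obj y)
    (h : ∀ x : AlgSp.Points X.obj, AlgSp.HasAt (fun U u => ringKrullDim ↥(U.presheaf.stalk u) = 0) X.obj x → AlgSp.HasAtMor (fun U _ h u => ∃ W : U.Opens, u ∈ W ∧ LocallyQuasiFinite (W.ι ≫ h) ∧ LocallyOfFiniteType (W.ι ≫ h)) f.hom x)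
    (x : AlgSp.Points X.obj) (hx : AlgSp.Points.map f.hom x = y) :
    AlgSp.HasAtMor (fun U _ h u => ∃ W : U.Opens, u ∈ W ∧ LocallyQuasiFinite (W.ι ≫ h) ∧ LocallyOfFiniteType (W.ι ≫ h)) f.hom x := by
  exact Groth.Agent.S10455.result f hf hY y hy
    (fun x₀ hx₀ _ => hasAtMor_resTrdeg_of_qf f hf x₀ (h x₀ hx₀)) x hx

end Groth.Agent.S10503
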