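import Groth.Statements.S10456
import Mathlib
import Groth.Agent.Lib.H5bCodimOne
import Groth.Agent.S10503

set_option autoImplicit false
universe u
open CategoryTheory CategoryTheory.Limits AlgebraicGeometry Topology TopologicalSpace
open AlgSp

namespace Groth.Agent.S10456

/-- Let f : X ⟶ Y be a morphism of algebraic spaces over a scheme S which is locally of finite type,
with Y locally Noetherian, and let y be a point of Y of codimension at most 1. If the points of |X|
where f is quasi-finite form a dense subset, then every point of X mapping to y is a point where f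
is quasi-finite. -/
theorem result {S : Scheme.{u}} {X Y : AlgSp.Space S} (f : X ⟶ Y)
    (hf : AlgSp.LocP @LocallyOfFiniteType f.hom) (hY : AlgSp.IsLocNoethSp Y.obj) (y : AlgSp.Points Y.obj)
    (hy : AlgSp.HasAt (fun U u => ringKrullDim ↥(U.presheaf.stalk u) ≤ 1) Y.obj y)
    (h : Dense {x : AlgSp.Points X.obj | AlgSp.HasAtMor (fun U _ h u => ∃ W : U.Opens, u ∈ W ∧ LocallyQuasiFinite (W.ι ≫ h) ∧ LocallyOfFiniteType (W.ι ≫ h)) f.hom x})
    (x : AlgSp.Points X.obj) (hx : AlgSp.Points.map f.hom x = y) :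
    AlgSp.HasAtMor (fun U _ h u => ∃ W : U.Opens, u ∈ W ∧ LocallyQuasiFinite (W.ι ≫ h) ∧ LocallyOfFiniteType (W.ι ≫ h)) f.hom x := by
  refine Groth.Agent.S10503.result f hf hY y hy (fun x₀ hx₀ => ?_) x hx
  obtain ⟨V, b, hb, hbs, hVN⟩ := hY
  haveI : IsLocallyNoetherian V.left := hVN
  obtain ⟨U, a, h', u₀, ha, comm, hu⟩ :=
    Groth.Agent.Lib.H5bCodimOne.exists_chart_over X.property f.hom b hb hbs x₀
  subst hu
  haveI : LocallyOfFiniteType h'.left := hf a b h' ha hb comm
  haveI : IsLocallyNoetherian U.left := LocallyOfFiniteType.isLocallyNoetherian h'.left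
  have hQ0 : ∀ {W U : Scheme.{u}} (g : W ⟶ U) [Etale g] (w : W),
      (fun (U : Scheme.{u}) (u : ↥U) => ringKrullDim ↥(U.presheaf.stalk u) = 0) W w ↔
      (fun (U : Scheme.{u}) (u : ↥U) => ringKrullDim ↥(U.presheaf.stalk u) = 0) U (g w) := by
    intro W U g _ w
    show ringKrullDim _ = 0 ↔ ringKrullDim _ = 0
    rw [Groth.Agent.Lib.H5bEtLocal.ringKrullDim_stalk_eq_of_etale g w]
  have hmax : ∀ w : ↥U.left, w ⤳ u₀ → w = u₀ :=
    (Groth.Agent.Lib.H5bFieldSp.stalk_dim_zero_iff u₀).1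
      ((Groth.Agent.Lib.H5bEtLocal.hasAt_iff_forall _ hQ0 X.property _).1 hx₀ U a u₀ ha rfl)
  have hset : AlgSp.Points.ofPt a ⁻¹' {x : AlgSp.Points X.obj | AlgSp.HasAtMor (fun U _ h u =>
      ∃ W : U.Opens, u ∈ W ∧ LocallyQuasiFinite (W.ι ≫ h) ∧ LocallyOfFiniteType (W.ι ≫ h))
      f.hom x} = (h'.left.quasiFiniteLocus : Set ↥U.left) := by
    ext w
    simp only [Set.mem_preimage, Set.mem_setOf_eq]
    rw [Groth.Agent.S10485.hasAtMor_qf_iff_chart f hf a b h' ha hb comm w,
      ← Groth.Agent.Lib.Helper3.GrpHomQF.quasiFiniteAt_iff_fibreDimAt_le_zero]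
    rfl
  have hdense := h.preimage (Groth.Agent.S10176.isOpenMap_ofPt a ha)
  rw [hset] at hdense
  have hmem := Groth.Agent.Lib.H5bCodimOne.mem_of_dense_of_maximal u₀ hmax _
    h'.left.quasiFiniteLocus.isOpen hdense
  rw [← hset] at hmem
  exact hmem

end Groth.Agent.S10456
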