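import Groth.Statements.S10650
import Mathlib
import Groth.Agent.Lib.H5bFinA
import Groth.Agent.Lib.H5bBootE
import Groth.Agent.Lib.Helper12LocPNbhd
import Groth.Agent.Lib.Helper12OpenSub2
import Groth.Agent.S10195
import Groth.Agent.S10175
import Groth.Agent.S9874

set_option autoImplicit false
universe u
open CategoryTheory CategoryTheory.Limits AlgebraicGeometry
open AlgSp

namespace Groth.Agent.S10650

/-- For a proper morphism f : X ⟶ Y of algebraic spaces over S and a point y of |Y| such that f is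
quasi-finite at every point of |X| lying over y (for each such point some etale chart diagram
through it has top arrow locally quasi-finite and locally of finite type on an open neighbourhood),
there is an open subspace V of Y containing y such that the base change X ×_Y V ⟶ V is finite. -/
theorem result {S : Scheme.{u}} {X Y : AlgSp.Space S} (f : X ⟶ Y) (y : AlgSp.Points Y.obj)
    (hf : AlgSp.IsProperMor f.hom)
    (hq : ∀ x : AlgSp.Points X.obj, AlgSp.Points.map f.hom x = y →
      AlgSp.HasAtMor (fun U _ h u => ∃ W : U.Opens, u ∈ W ∧ LocallyQuasiFinite (W.ι ≫ h) ∧ LocallyOfFiniteType (W.ι ≫ h)) f.hom x) :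
    ∃ (V : AlgSp.Space S) (j : V ⟶ Y), AlgSp.RepWith @IsOpenImmersion j.hom ∧
      y ∈ Set.range (AlgSp.Points.map j.hom) ∧
        ∀ (P : AlgSp.Space S) (fst : P ⟶ X) (snd : P ⟶ V), IsPullback fst.hom snd.hom f.hom j.hom →
          AlgSp.IsFiniteMor snd.hom := by
  have hconv : ∀ x : AlgSp.Points X.obj,
      AlgSp.HasAtMor (fun U _ h u => ∃ W : U.Opens, u ∈ W ∧ LocallyQuasiFinite (W.ι ≫ h) ∧
        LocallyOfFiniteType (W.ι ≫ h)) f.hom x →
      AlgSp.HasAtMor (fun U _ h u => ∃ W : U.Opens, u ∈ W ∧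
        (@LocallyQuasiFinite ⊓ @LocallyOfFiniteType : MorphismProperty Scheme.{u}) (W.ι ≫ h))
        f.hom x := by
    rintro x ⟨U, V, a, b, h, u, ha, hb, hc, hu, W, hW, h1, h2⟩
    exact ⟨U, V, a, b, h, u, ha, hb, hc, hu, W, hW, ⟨h1, h2⟩⟩
  let T : Set (AlgSp.Points X.obj) := {x | AlgSp.HasAtMor (fun U _ h u => ∃ W : U.Opens, u ∈ W ∧
      (@LocallyQuasiFinite ⊓ @LocallyOfFiniteType : MorphismProperty Scheme.{u}) (W.ι ≫ h))
      f.hom x}
  have hTopen : IsOpen T := by
    rw [isOpen_iff_forall_mem_open]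
    intro x hx
    obtain ⟨X', j, hj, hxj, hloc⟩ :=
      (Groth.Agent.Lib.Helper12.LocPNbhd.hasAtMor_iff_exists_open
        Groth.Agent.Lib.Helper12.LocPCases.good_lqf f x).1 hx
    refine ⟨Set.range (AlgSp.Points.map j.hom), ?_,
      Groth.Agent.Lib.Helper12.OpenSub.isOpen_range_of_open j.hom hj, hxj⟩
    rintro _ ⟨x', rfl⟩
    exact (Groth.Agent.Lib.Helper12.LocPNbhd.hasAtMor_iff_exists_open
      Groth.Agent.Lib.Helper12.LocPCases.good_lqf f _).2 ⟨X', j, hj, ⟨x', rfl⟩, hloc⟩
  have hcl : AlgSp.IsClosedMor f.hom :=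
    Groth.Agent.Lib.H5bBoot.isClosedMor_of_isUnivClosedMor Y.property _ hf.2.2
  have hC : IsClosed (AlgSp.Points.map f.hom '' Tᶜ) := hcl _ hTopen.isClosed_compl
  have hyC : y ∉ AlgSp.Points.map f.hom '' Tᶜ := by
    rintro ⟨x, hx, rfl⟩
    exact hx (hconv x (hq x rfl))
  obtain ⟨V, j, hj, hrange⟩ := Groth.Agent.S10195.result Y _ hC.isOpen_compl
  refine ⟨V, j, hj, by rw [hrange]; exact hyC, ?_⟩
  intro P fst snd sq
  apply Groth.Agent.Lib.H5bFin.isFiniteMor_of_proper_lqf snd
    (Groth.Agent.Lib.Helper12.Proper.isProperMor_baseChange X.property Y.property V.property sq hf)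
  rw [Groth.Agent.Lib.Helper12.LocPNbhd.locP_iff_forall_hasAtMor
    Groth.Agent.Lib.Helper12.LocPCases.good_lqf P.property V.property snd.hom]
  intro p
  have hxT : AlgSp.Points.map fst.hom p ∈ T := by
    by_contra hnot
    have h1 : AlgSp.Points.map f.hom (AlgSp.Points.map fst.hom p) ∈
        AlgSp.Points.map f.hom '' Tᶜ := ⟨_, hnot, rfl⟩
    rw [← AlgSp.Points.map_comp, sq.w, AlgSp.Points.map_comp] at h1
    have h2 : AlgSp.Points.map j.hom (AlgSp.Points.map snd.hom p) ∈
        Set.range (AlgSp.Points.map j.hom) := ⟨_, rfl⟩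
    rw [hrange] at h2
    exact h2 h1
  obtain ⟨X', jX, hjX, ⟨x', hx'⟩, hloc⟩ :=
    (Groth.Agent.Lib.Helper12.LocPNbhd.hasAtMor_iff_exists_open
      Groth.Agent.Lib.Helper12.LocPCases.good_lqf f _).1 hxT
  apply (Groth.Agent.Lib.Helper12.LocPNbhd.hasAtMor_iff_exists_open
    Groth.Agent.Lib.Helper12.LocPCases.good_lqf snd p).2
  have sqP' := IsPullback.of_hasPullback jX.hom fst.hom
  have hP' : AlgSp.IsAlgSpace (pullback jX.hom fst.hom) :=
    Groth.Agent.S9874.isAlgSpace_of_isPullback X.property.diag X'.property P.property sqP'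
  let P' : AlgSp.Space S := ⟨pullback jX.hom fst.hom, hP'⟩
  let jP : P' ⟶ P := ObjectProperty.homMk (pullback.snd jX.hom fst.hom)
  refine ⟨P', jP, MorphismProperty.of_isPullback (P := AlgSp.RepWith @IsOpenImmersion) sqP' hjX,
    ?_, ?_⟩
  · obtain ⟨p', -, hp'⟩ := Groth.Agent.S10175.exists_point_of_isPullback sqP' x' p hx'
    exact ⟨p', hp'⟩
  · have big : IsPullback (pullback.fst jX.hom fst.hom) (pullback.snd jX.hom fst.hom ≫ snd.hom)
        (jX.hom ≫ f.hom) j.hom := sqP'.paste_vert sq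
    exact Groth.Agent.Lib.Helper12.LocPCases.good_lqf.locP_baseChange X'.property Y.property
      V.property big hloc

end Groth.Agent.S10650
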