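import Groth.Statements.S10459
import Mathlib
import Groth.Agent.S10324
import Groth.Agent.S10343
import Groth.Agent.Lib.H5bResTrdeg

set_option autoImplicit false
universe u
open CategoryTheory CategoryTheory.Limits AlgebraicGeometry Topology TopologicalSpace
open AlgSp

namespace Groth.Agent.S10459

/-- on a decent space with a generic point, every codimension-zero point is the generic point. -/
lemma eq_generic_of_codimZero {S : Scheme.{u}} (X : AlgSp.Space S) (hX : AlgSp.IsDecent X.obj)
    (x : AlgSp.Points X.obj) (hx : IsGenericPoint x (Set.univ : Set (AlgSp.Points X.obj)))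
    (ξ : AlgSp.Points X.obj)
    (hξ : AlgSp.HasAt (fun U u => ringKrullDim ↥(U.presheaf.stalk u) = 0) X.obj ξ) : ξ = x := by
  obtain ⟨U, a, u, ha, hu, h0⟩ := hξ
  have hsp : x ⤳ ξ := by
    rw [specializes_iff_mem_closure, hx.def]; trivial
  obtain ⟨u', hu'u, hu'x⟩ := Groth.Agent.S10343.result X ξ x hsp (hX x) a ha u hu
  rw [ringKrullDim_stalk_eq_coheight] at h0
  have h1 : Order.coheight u = 0 := by exact_mod_cast h0
  rw [Order.coheight_eq_zero] at h1
  have h2 : u ⤳ u' := h1 hu'u
  have h3 : u = u' := (h2.antisymm hu'u).eq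
  rw [← hu, h3, hu'x]

/-- Let f : X ⟶ Y be a dominant morphism locally of finite type between integral algebraic spaces over a
scheme S, with Y locally Noetherian, and let r be the transcendence degree of the generic point of X
over its image (the generic point of Y). Then dim X ≤ dim Y + r. -/
theorem result {S : Scheme.{u}} {X Y : AlgSp.Space S} (f : X ⟶ Y)
    (hY : AlgSp.IsLocNoethSp Y.obj) (hXi : AlgSp.IsIntegralSp X.obj) (hYi : AlgSp.IsIntegralSp Y.obj)
    (hd : AlgSp.IsDominantMor f.hom) (hft : AlgSp.LocP @LocallyOfFiniteType f.hom)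
    (x : AlgSp.Points X.obj) (hx : IsGenericPoint x (Set.univ : Set (AlgSp.Points X.obj))) (r : ℕ)
    (hr : AlgSp.HasAtMor (fun _ _ h u => Dual3.resTrdeg h u = (r : Cardinal.{u})) f.hom x) :
    AlgSp.dim X.obj ≤ AlgSp.dim Y.obj + ((r : ℕ∞) : WithBot ℕ∞) := by
  have hX : AlgSp.IsDecent X.obj := hXi.2.1
  have key := Groth.Agent.S10324.result f hY hft (r : Cardinal.{u}) (by
    intro ξ hξ s hs
    have hξx := eq_generic_of_codimZero X hX x hx ξ hξ
    subst hξx
    obtain ⟨U, V, a, b, h, u, ha, hb, c, hu, hs'⟩ := hs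
    have := (Groth.Agent.Lib.H5bHasAtMor.hasAtMor_iff_of_chart
      (Groth.Agent.Lib.H5bResTrdeg.etLocalQ_resTrdeg (fun e => e = (r : Cardinal.{u}))) f.hom _ a b h
      ha hb c u hu).1 hr
    rw [← hs', this])
  simpa using key

end Groth.Agent.S10459
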