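import Groth.Statements.S1046
import Groth.Agent.Lib.H6xRgammaZQc

set_option autoImplicit false
universe u
open CategoryTheory CategoryTheory.Limits AlgebraicGeometry
attribute [local instance] HasDerivedCategory.standard
open Perf

namespace Groth.Agent.S1046

/-- Let U ⊆ X be an open subscheme with quasi-compact inclusion and T = X ∖ U. Assuming O_X-modules have
enough injectives (true, not recorded), for every bounded below E ∈ D(O_X) with quasi-coherent
cohomology sheaves, the derived sections with support RΓ_T(E) (right derived functor of F ↦ ker(F →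
j_*(F|_U))) has quasi-coherent cohomology sheaves, all supported on T. -/
theorem result (X : Scheme.{u}) (U : X.Opens) [QuasiCompact U.ι] [EnoughInjectives X.Modules]
    (E : DerivedCategory.Plus X.Modules) (hE : DCoh.IsQCohD E.obj) :
    DCoh.IsQCohD ((DCoh.RgammaZPlus U.ι).obj E).obj ∧
    ∀ i : ℤ, CohB1.support (DCoh.HD ((DCoh.RgammaZPlus U.ι).obj E).obj i) ⊆ (U : Set X)ᶜ := by
  obtain ⟨n, hn⟩ := E.property
  haveI : E.IsGE n := (E.isGE_ι_obj_iff n).1 hn
  obtain ⟨L, _, ⟨e⟩⟩ := DerivedCategory.Plus.exists_injective_nonempty_iso E n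
  let I : CochainComplex X.Modules ℤ :=
    ((InjectiveObject.ι X.Modules).mapHomologicalComplex (ComplexShape.up ℤ)).obj L.obj
  haveI : I.IsKInjective := inferInstance
  have hinj : ∀ n, Injective (I.X n) := fun n => (L.obj.X n).property
  have eI : DerivedCategory.Q.obj I ≅ E.obj := DerivedCategory.Plus.ι.mapIso e
  haveI : IsIso ((DCoh.gammaZ U.ι).rightDerivedFunctorPlusUnit.app
      ((HomotopyCategory.Plus.quotient X.Modules).obj
        ((InjectiveObject.ι X.Modules).mapCochainComplexPlus.obj L))) := inferInstance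
  have eR : ((DCoh.RgammaZPlus U.ι).obj E).obj ≅ DerivedCategory.Q.obj
      (((DCoh.gammaZ U.ι).mapHomologicalComplex (ComplexShape.up ℤ)).obj I) :=
    DerivedCategory.Plus.ι.mapIso ((DCoh.RgammaZPlus U.ι).mapIso e.symm ≪≫
      (asIso ((DCoh.gammaZ U.ι).rightDerivedFunctorPlusUnit.app
        ((HomotopyCategory.Plus.quotient X.Modules).obj
          ((InjectiveObject.ι X.Modules).mapCochainComplexPlus.obj L)))).symm)
  have hI : DCoh.IsQCohD (DerivedCategory.Q.obj I) :=
    Groth.Agent.Lib.H6xRpushQc.isQCohD_of_iso eI.symm hE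
  refine ⟨Groth.Agent.Lib.H6xRpushQc.isQCohD_of_iso eR.symm
    (Groth.Agent.Lib.H6xRpushQc.isQCohD_Q_gammaZ U.ι I hinj hI), fun i => ?_⟩
  have h := Groth.Agent.Lib.H6xRpushQc.support_HD_Q_gammaZ U.ι I i
  rw [Scheme.Opens.range_ι] at h
  rw [Groth.Agent.Lib.H6xSuppPush.support_eq_of_iso
    ((DerivedCategory.homologyFunctor _ i).mapIso eR)]
  exact h

end Groth.Agent.S1046
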