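import Groth.Statements.S10467
import Mathlib
import Groth.Agent.S10501

set_option autoImplicit false
universe u
open CategoryTheory CategoryTheory.Limits AlgebraicGeometry Topology TopologicalSpace
open AlgSp

namespace Groth.Agent.S10467

/-- Let k be a separably closed field, K an extension field of k and X an algebraic space over k. Then
X_K ⟶ X induces a bijection of connected components. -/
theorem result (k : Type u) [Field k] [IsSepClosed k]
    (X : AlgSp.Space (Spec (CommRingCat.of k))) (K : Type u) [Field K] [Algebra k K] :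
    Function.Bijective (Continuous.connectedComponentsMap
      (AlgSp.Points.continuous_map (Limits.prod.fst : (X.obj ⨯ (AlgSp.yon (Spec (CommRingCat.of k))).obj (Over.mk (Spec.map (CommRingCat.ofHom (algebraMap k K))))) ⟶ X.obj))) := by
  let Sk : Scheme.{u} := Spec (CommRingCat.of k)
  let hK : AlgSp.Space Sk := ⟨(AlgSp.yon Sk).obj
    (Over.mk (Spec.map (CommRingCat.ofHom (algebraMap k K)))), AlgSp.IsAlgSpace.yon_obj _⟩
  have hbij := Groth.Agent.S10466.result k hK X
    (fun L _ _ => Groth.Agent.S10501.connected_prod_field k K L)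
  let e : X.obj ⨯ hK.obj ≅ hK.obj ⨯ X.obj := Limits.prod.braiding X.obj hK.obj
  have he : e.hom ≫ (Limits.prod.snd : hK.obj ⨯ X.obj ⟶ X.obj) = Limits.prod.fst := by
    show prod.lift prod.snd prod.fst ≫ prod.snd = prod.fst
    exact prod.lift_snd _ _
  have hfst : ∀ z : AlgSp.Points (X.obj ⨯ hK.obj),
      AlgSp.Points.map (Limits.prod.fst : X.obj ⨯ hK.obj ⟶ X.obj) z =
        AlgSp.Points.map (Limits.prod.snd : hK.obj ⨯ X.obj ⟶ X.obj) (AlgSp.Points.map e.hom z) := by
    intro z
    rw [← AlgSp.Points.map_comp, he]
  constructor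
  · intro c c' h
    obtain ⟨z, rfl⟩ := ConnectedComponents.surjective_coe c
    obtain ⟨z', rfl⟩ := ConnectedComponents.surjective_coe c'
    rw [Continuous.connectedComponentsMap_mk, Continuous.connectedComponentsMap_mk, hfst, hfst] at h
    have h2 : (ConnectedComponents.mk (AlgSp.Points.map e.hom z) :
        ConnectedComponents (AlgSp.Points (hK.obj ⨯ X.obj))) =
        ConnectedComponents.mk (AlgSp.Points.map e.hom z') := hbij.1 h
    have h3 := congrArg (AlgSp.Points.continuous_map e.inv).connectedComponentsMap h2
    have h1 : ∀ t, AlgSp.Points.map e.inv (AlgSp.Points.map e.hom t) = t := by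
      intro t
      rw [← AlgSp.Points.map_comp, e.hom_inv_id, AlgSp.Points.map_id]
    rw [Continuous.connectedComponentsMap_mk, Continuous.connectedComponentsMap_mk, h1, h1] at h3
    exact h3
  · intro c
    obtain ⟨w, hw⟩ := hbij.2 c
    obtain ⟨w, rfl⟩ := ConnectedComponents.surjective_coe w
    refine ⟨ConnectedComponents.mk (AlgSp.Points.map e.inv w), ?_⟩
    have h1 : AlgSp.Points.map e.hom (AlgSp.Points.map e.inv w) = w := by
      rw [← AlgSp.Points.map_comp, e.inv_hom_id, AlgSp.Points.map_id]
    rw [Continuous.connectedComponentsMap_mk, hfst, h1]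
    exact hw

end Groth.Agent.S10467
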