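import Groth.Statements.S10482
import Mathlib
import Groth.Agent.Lib.H5bLqfDim
import Groth.Agent.Lib.Helper3GrpHomQF

set_option autoImplicit false
universe u
open CategoryTheory CategoryTheory.Limits AlgebraicGeometry Topology TopologicalSpace
open AlgSp

namespace Groth.Agent.S10482

lemma hterm {S : Scheme.{u}} {F : AlgSp.Sp S}
    (φ ψ : F ⟶ (AlgSp.yon S).obj (Over.mk (𝟙 S))) : φ = ψ := by
  apply Sheaf.hom_ext
  ext T x
  apply ULift.ext
  exact Over.mkIdTerminal.hom_ext _ _

lemma fibreDimAt_le_dim {U V : Scheme.{u}} (h : U ⟶ V) (u : U) :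
    FlatMor.fibreDimAt h u ≤ topologicalKrullDim U := by
  refine (Groth.Agent.Lib.Helper7.TopDim.localDim_le_dim _).trans ?_
  exact (h.fiberι (h.base u)).isEmbedding.isInducing.topologicalKrullDim_le

/-- (1) ⇔ (2): let k be a field and X an algebraic space over k. Then X is locally quasi-finite over k
if and only if X is locally of finite type over k of dimension at most 0. (The published statement
says dimension 0; dimension at most 0 is used so that the empty space, whose dimension is the bottom
element, is covered by both sides.) -/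
theorem result (k : Type u) [Field k] (X : AlgSp.Space (Spec (CommRingCat.of k))) (p : X.obj ⟶ (AlgSp.yon (Spec (CommRingCat.of k))).obj (Over.mk (𝟙 _))) :
    AlgSp.LocP (@LocallyQuasiFinite ⊓ @LocallyOfFiniteType : MorphismProperty Scheme.{u}) p ↔ AlgSp.LocP @LocallyOfFiniteType p ∧ AlgSp.dim X.obj ≤ 0 := by
  constructor
  · intro hp
    refine ⟨fun U V a b h ha hb c => (hp a b h ha hb c).2, ?_⟩
    rw [AlgSp.dim]
    refine iSup_le fun U => iSup_le fun a => iSup_le fun ha => ?_
    let h : U ⟶ Over.mk (𝟙 (Spec (CommRingCat.of k))) := Over.homMk U.hom (by simp)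
    have hlqf : LocallyQuasiFinite h.left := (hp a (𝟙 _) h ha (AlgSp.repWith_id _ _) (hterm _ _)).1
    have h1 := Groth.Agent.Lib.H5bLqfDim.dim_le_of_lqf h.left
    refine h1.trans ?_
    show topologicalKrullDim ↥(Spec (CommRingCat.of k)) ≤ 0
    rw [Groth.Agent.Lib.Helper4.ProdDim.topologicalKrullDim_Spec]
    exact (ringKrullDim_eq_zero_of_field k).le
  · rintro ⟨hlft, hdim⟩ U V a b h ha hb c
    have hl : LocallyOfFiniteType h.left := hlft a b h ha hb c
    refine ⟨?_, hl⟩
    rw [Groth.Agent.Lib.Helper3.GrpHomQF.locallyQuasiFinite_iff_forall_fibreDimAt_le_zero h.left]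
    intro u
    exact (fibreDimAt_le_dim h.left u).trans
      ((Groth.Agent.Lib.H5bIntDimSp.dim_chart_le a ha).trans hdim)

end Groth.Agent.S10482
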