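import Groth.Statements.S10486
import Mathlib
import Groth.Agent.Lib.H5bHasAtMor
import Groth.Agent.Lib.H5bResTrdeg
import Groth.Agent.Lib.Helper4DimFormulaAJ
import Groth.Agent.Lib.Helper4DimFormulaT
import Groth.Agent.S10485

set_option autoImplicit false
universe u
open CategoryTheory CategoryTheory.Limits AlgebraicGeometry Topology TopologicalSpace
open AlgSp

namespace Groth.Agent.S10486

/-- (1) ⇔ (5): let f : X ⟶ Y be a dominant morphism locally of finite type between integral algebraic
spaces over a scheme S, with generic points x and y. Then the transcendence degree of x over y is 0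
if and only if x is the only point of X mapping to y. -/
theorem result {S : Scheme.{u}} {X Y : AlgSp.Space S} (hXi : AlgSp.IsIntegralSp X.obj) (hYi : AlgSp.IsIntegralSp Y.obj)
    (f : X ⟶ Y) (hft : AlgSp.LocP @LocallyOfFiniteType f.hom) (hd : AlgSp.IsDominantMor f.hom)
    (x : AlgSp.Points X.obj) (hx : IsGenericPoint x (Set.univ : Set (AlgSp.Points X.obj)))
    (y : AlgSp.Points Y.obj) (hy : IsGenericPoint y (Set.univ : Set (AlgSp.Points Y.obj))) :
    AlgSp.HasAtMor (fun _ _ h u => Dual3.resTrdeg h u = 0) f.hom x ↔ (∀ x' : AlgSp.Points X.obj, AlgSp.Points.map f.hom x' = y → x' = x) := by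
  rw [← Groth.Agent.S10485.result hXi hYi f hft hd x hx y hy]
  obtain ⟨-, hXd, -⟩ := hXi
  obtain ⟨U, V, a, b, h, u, ha, hb, comm, hu⟩ :=
    Groth.Agent.Lib.H5bHasAtMor.exists_chart X.property Y.property f.hom x
  subst hu
  haveI : LocallyOfFiniteType h.left := hft a b h ha hb comm
  rw [Groth.Agent.S10485.hasAtMor_qf_iff_chart f hft a b h ha hb comm u,
    Groth.Agent.Lib.H5bHasAtMor.hasAtMor_iff_of_chart
      (Groth.Agent.Lib.H5bResTrdeg.etLocalQ_resTrdeg (fun e => e = 0)) f.hom
      (AlgSp.Points.ofPt a u) a b h ha hb comm u rfl]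
  show Dual3.resTrdeg h.left u = 0 ↔ _
  rw [Groth.Agent.Lib.H5bResTrdeg.resTrdeg_eq_ptTrdeg]
  have hmax : ∀ y : ↥U.left, h.left.base y = h.left.base u → y ⤳ u → y = u :=
    fun u' _ hsp => Groth.Agent.S10485.chart_point_maximal X hXd _ hx a ha u rfl u' hsp
  rw [Groth.Agent.Lib.Helper4.DimFormula.fibreDimAt_eq_ptTrdeg_of_maximal h.left u hmax]
  constructor
  · intro h0
    have h1 : Groth.Agent.Lib.Helper4.DimFormula.ptTrdeg h.left u = 0 := by exact_mod_cast h0
    rw [h1]
    simp
  · intro h0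
    have h1 : Groth.Agent.Lib.Helper4.DimFormula.ptTrdeg h.left u = 0 := by
      have : ((Groth.Agent.Lib.Helper4.DimFormula.ptTrdeg h.left u : ℕ) : WithBot ℕ∞) ≤
          ((0 : ℕ) : WithBot ℕ∞) := by simpa using h0
      have h2 : Groth.Agent.Lib.Helper4.DimFormula.ptTrdeg h.left u ≤ 0 := by exact_mod_cast this
      omega
    rw [h1]
    simp

end Groth.Agent.S10486
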