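import Groth.Statements.S10491
import Mathlib
import Groth.Agent.S10176
import Groth.Agent.S10177
import Groth.Agent.Lib.Helper7TopDim

set_option autoImplicit false
universe u
open CategoryTheory CategoryTheory.Limits AlgebraicGeometry Topology TopologicalSpace
open AlgSp

namespace Groth.Agent.S10491

open Classical in
/-- Topological core: maximal irreducible subsets of a closed set `T` meeting the image of a
Noetherian open set under an open continuous map are finite in number. -/
lemma finite_maximal_irreducible_meeting {U P : Type*} [TopologicalSpace U] [TopologicalSpace P]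
    (π : U → P) (hc : Continuous π) (A : Set U)
    [NoetherianSpace ↥A] (T : Set P) (hT : IsClosed T) (hN : IsOpen (π '' A)) :
    {G : Set P | IsIrreducible G ∧ G ⊆ T ∧
      (∀ G' : Set P, IsIrreducible G' → G ⊆ G' → G' ⊆ T → G' ⊆ G) ∧
      (G ∩ π '' A).Nonempty}.Finite := by
  let C : Set U := A ∩ π ⁻¹' T
  haveI : NoetherianSpace ↥C := NoetherianSpace.of_subset (W := A) Set.inter_subset_left
  obtain ⟨S, hSf, hSc, hSi, hSU⟩ :=
    NoetherianSpace.exists_finite_set_isClosed_irreducible (isClosed_univ (X := ↥C))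
  let E : Set ↥C → Set P := fun t => closure (π '' (Subtype.val '' t))
  refine (hSf.image E).subset ?_
  rintro G ⟨hGi, hGT, hGmax, hGN⟩
  have hEi : ∀ t ∈ S, IsIrreducible (E t) := fun t ht =>
    (((hSi t ht).image _ continuous_subtype_val.continuousOn).image _ hc.continuousOn).closure
  have hET : ∀ t ∈ S, E t ⊆ T := by
    intro t ht
    refine closure_minimal ?_ hT
    rintro _ ⟨_, ⟨c, _, rfl⟩, rfl⟩
    exact c.2.2
  have hcover : G ⊆ ⋃₀ ↑(insert (π '' A)ᶜ ((hSf.toFinset).image E)) := by
    intro y hy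
    by_cases hyN : y ∈ π '' A
    · obtain ⟨a, haA, rfl⟩ := hyN
      have haC : a ∈ C := ⟨haA, hGT hy⟩
      have : (⟨a, haC⟩ : ↥C) ∈ ⋃₀ S := by rw [← hSU]; trivial
      obtain ⟨t, htS, hat⟩ := this
      refine ⟨E t, ?_, subset_closure ⟨a, ⟨⟨a, haC⟩, hat, rfl⟩, rfl⟩⟩
      simp only [Finset.coe_insert, Finset.coe_image, Set.Finite.coe_toFinset, Set.mem_insert_iff,
        Set.mem_image]
      exact Or.inr ⟨t, htS, rfl⟩
    · refine ⟨(π '' A)ᶜ, ?_, hyN⟩
      simp
  obtain ⟨z, hz, hGz⟩ := isIrreducible_iff_sUnion_isClosed.mp hGi _ (by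
    intro z hz
    simp only [Finset.mem_insert, Finset.mem_image, Set.Finite.mem_toFinset] at hz
    rcases hz with rfl | ⟨t, _, rfl⟩
    · exact hN.isClosed_compl
    · exact isClosed_closure) hcover
  simp only [Finset.mem_insert, Finset.mem_image, Set.Finite.mem_toFinset] at hz
  rcases hz with rfl | ⟨t, htS, rfl⟩
  · exfalso
    obtain ⟨y, hy1, hy2⟩ := hGN
    exact hGz hy1 hy2
  · exact ⟨t, htS, (hGz.antisymm (hGmax _ (hEi t htS) hGz (hET t htS))).symm⟩

/-- the topological statement: locally finitely many irreducible components of a closed subset of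
a space with an open continuous surjection from a space with Noetherian open neighbourhoods. -/
lemma locallyFinite_irreducibleComponents_of_open_cover {U P : Type*} [TopologicalSpace U]
    [TopologicalSpace P] (π : U → P) (hc : Continuous π) (ho : IsOpenMap π)
    (hs : Function.Surjective π)
    (hU : ∀ u : U, ∃ A : Set U, IsOpen A ∧ u ∈ A ∧ NoetherianSpace ↥A)
    (T : Set P) (hT : IsClosed T) :
    LocallyFinite (fun Z : ↥(irreducibleComponents ↥T) =>
      ((↑) : ↥T → P) '' (Z : Set ↥T)) := by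
  intro x
  obtain ⟨u, rfl⟩ := hs x
  obtain ⟨A, hAo, huA, hAn⟩ := hU u
  refine ⟨π '' A, (ho A hAo).mem_nhds ⟨u, huA, rfl⟩, ?_⟩
  have hfin := finite_maximal_irreducible_meeting π hc A T hT (ho A hAo)
  refine Set.Finite.of_injOn (f := fun Z : ↥(irreducibleComponents ↥T) =>
    ((↑) : ↥T → P) '' (Z : Set ↥T)) ?_ ?_ hfin
  · intro Z hZ
    have hZi : IsIrreducible (Z : Set ↥T) := Z.2.1
    refine ⟨hZi.image _ continuous_subtype_val.continuousOn, ?_, ?_, hZ⟩
    · rintro _ ⟨z, _, rfl⟩; exact z.2
    · intro G' hG' hZG' hG'T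
      have h1 : IsPreirreducible (Subtype.val ⁻¹' G' : Set ↥T) :=
        Groth.Agent.Lib.Helper7.TopDim.isPreirreducible_preimage_val hG'.2 hG'T
      have h2 : (Z : Set ↥T) ⊆ Subtype.val ⁻¹' G' := fun z hz => hZG' ⟨z, hz, rfl⟩
      have h3 : IsIrreducible (Subtype.val ⁻¹' G' : Set ↥T) :=
        ⟨hZi.1.mono h2, h1⟩
      have h4 : (Subtype.val ⁻¹' G' : Set ↥T) ⊆ Z := Z.2.2 h3 h2
      intro y hy
      exact ⟨⟨y, hG'T hy⟩, h4 hy, rfl⟩
  · intro Z _ Z' _ h
    apply Subtype.ext
    exact (Set.image_injective.mpr Subtype.val_injective) h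

/-- Let X be an algebraic space over a scheme S which is locally Noetherian, and T ⊂ |X| a closed
subset. Then every point of |X| has a neighbourhood meeting only finitely many irreducible
components of T. -/
theorem result {S : Scheme.{u}} (X : AlgSp.Space S)
    (hX : AlgSp.IsLocNoethSp X.obj) (T : Set (AlgSp.Points X.obj)) (hT : IsClosed T) :
    LocallyFinite (fun Z : ↥(irreducibleComponents ↥T) => ((↑) : ↥T → AlgSp.Points X.obj) '' (Z : Set ↥T)) := by
  obtain ⟨U, p, hp, hps, hU⟩ := hX
  have hU' : IsLocallyNoetherian U.left := hU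
  refine locallyFinite_irreducibleComponents_of_open_cover (AlgSp.Points.ofPt p)
    (AlgSp.Points.continuous_ofPt p) (Groth.Agent.S10176.isOpenMap_ofPt p hp)
    (Groth.Agent.S10177.surjective_ofPt p hps) ?_ T hT
  intro u
  obtain ⟨_, ⟨A, hA, rfl⟩, huA, -⟩ :=
    U.left.isBasis_affineOpens.exists_subset_of_mem_open (Set.mem_univ u) isOpen_univ
  have : IsNoetherianRing Γ(U.left, A) := IsLocallyNoetherian.component_noetherian ⟨A, hA⟩
  exact ⟨A, A.isOpen, huA, noetherianSpace_of_isAffineOpen A hA⟩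

end Groth.Agent.S10491
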