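import Groth.Statements.S10494
import Mathlib
import Groth.Agent.S10176
import Groth.Agent.S10177
import Groth.Agent.Lib.Helper12FieldBC

set_option autoImplicit false
universe u
open CategoryTheory CategoryTheory.Limits AlgebraicGeometry Topology TopologicalSpace
open AlgSp

namespace Groth.Agent.S10494

open Opposite

variable {S : Scheme.{u}} {X : AlgSp.Sp S}

/-- the component of a global function at an object of the small etale site. -/
noncomputable def sec (s : ↥(AlgSp.gsectEt (AlgSp.OEt X))) (E : AlgSp.EtOver X) :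
    Γ(E.obj.left.left, ⊤) :=
  ((limit.π (AlgSp.OEt X).obj (op E)).hom s : ULift.{u + 1} Γ(E.obj.left.left, ⊤)).down

lemma sec_mul (s t : ↥(AlgSp.gsectEt (AlgSp.OEt X))) (E : AlgSp.EtOver X) :
    sec (s * t) E = sec s E * sec t E := by
  unfold sec
  rw [map_mul]
  rfl

lemma sec_zero (E : AlgSp.EtOver X) : sec (0 : ↥(AlgSp.gsectEt (AlgSp.OEt X))) E = 0 := by
  unfold sec
  rw [map_zero]
  rfl

lemma sec_map (s : ↥(AlgSp.gsectEt (AlgSp.OEt X))) {E E' : AlgSp.EtOver X} (g : E ⟶ E') :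
    sec s E = g.hom.left.left.appTop.hom (sec s E') := by
  unfold sec
  have h := limit.w (AlgSp.OEt X).obj g.op
  have h2 := congrArg (fun φ => φ.hom s) h
  simp only [CommRingCat.hom_comp, RingHom.comp_apply] at h2
  rw [← h2]
  rfl

lemma eq_zero_of_sec (s : ↥(AlgSp.gsectEt (AlgSp.OEt X))) (h : ∀ E, sec s E = 0) : s = 0 := by
  apply Concrete.limit_ext
  intro j
  obtain ⟨E⟩ := j
  have h1 := h E
  unfold sec at h1
  change (limit.π (AlgSp.OEt X).obj (op E)).hom s = (limit.π (AlgSp.OEt X).obj (op E)).hom 0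
  rw [map_zero]
  exact ULift.ext _ _ h1

/-- the non-vanishing locus of a global function, in the space of points. -/
def nz (s : ↥(AlgSp.gsectEt (AlgSp.OEt X))) : Set (AlgSp.Points X) :=
  ⋃ E : AlgSp.EtOver X, AlgSp.Points.ofPt E.obj.hom '' (E.obj.left.left.basicOpen (sec s E) : Set _)

lemma isOpen_nz (s : ↥(AlgSp.gsectEt (AlgSp.OEt X))) : IsOpen (nz s) := by
  refine isOpen_iUnion fun E => ?_
  exact Groth.Agent.S10176.isOpenMap_ofPt E.obj.hom E.property _
    (E.obj.left.left.basicOpen (sec s E)).isOpen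

lemma nz_inter_of_mul_eq_zero (s t : ↥(AlgSp.gsectEt (AlgSp.OEt X))) (hst : s * t = 0) :
    nz s ∩ nz t = ∅ := by
  rw [Set.eq_empty_iff_forall_notMem]
  rintro x ⟨hxs, hxt⟩
  obtain ⟨E, u, hu, rfl⟩ := Set.mem_iUnion.1 hxs
  obtain ⟨E', v, hv, huv⟩ := Set.mem_iUnion.1 hxt
  obtain ⟨W, snd, fst', sq⟩ := E.property.1 E'.obj.hom
  obtain ⟨fst, rfl⟩ := (AlgSp.yon S).map_surjective fst'
  obtain ⟨y, hy1, hy2⟩ := Groth.Agent.S10176.exists_point_of_isPullback_yon sq u v huv.symm
  have hfst : Etale fst.left := E'.property.2 _ _ fst sq.flip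
  have hcomp : AlgSp.RepWith @Etale ((AlgSp.yon S).map fst ≫ E.obj.hom) :=
    (AlgSp.repWith_isMultiplicative (S := S) @Etale).comp_mem _ _
      ((AlgSp.repWith_yon_map_iff @Etale fst).2 hfst) E.property
  let E'' : AlgSp.EtOver X := AlgSp.EtOver.mk ((AlgSp.yon S).map fst ≫ E.obj.hom) hcomp
  let g1 : E'' ⟶ E := AlgSp.EtOver.homMk (E := E'') (E' := E) fst rfl
  let g2 : E'' ⟶ E' := AlgSp.EtOver.homMk (E := E'') (E' := E') snd sq.w.symm
  have h1 : y ∈ E''.obj.left.left.basicOpen (sec s E'') := by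
    rw [sec_map s g1]
    change y ∈ W.left.basicOpen (fst.left.appTop.hom (sec s E))
    rw [← Scheme.preimage_basicOpen_top]
    exact (by rw [hy1]; exact hu : fst.left y ∈ E.obj.left.left.basicOpen (sec s E))
  have h2 : y ∈ E''.obj.left.left.basicOpen (sec t E'') := by
    rw [sec_map t g2]
    change y ∈ W.left.basicOpen (snd.left.appTop.hom (sec t E'))
    rw [← Scheme.preimage_basicOpen_top]
    exact (by rw [hy2]; exact hv : snd.left y ∈ E'.obj.left.left.basicOpen (sec t E'))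
  have h3 : y ∈ E''.obj.left.left.basicOpen (sec (s * t) E'') := by
    rw [sec_mul, Scheme.basicOpen_mul]
    exact ⟨h1, h2⟩
  rw [hst, sec_zero, Scheme.basicOpen_zero] at h3
  exact h3

lemma eq_zero_of_nz_eq_empty (hred : AlgSp.IsReducedSp X) (s : ↥(AlgSp.gsectEt (AlgSp.OEt X)))
    (h : nz s = ∅) : s = 0 := by
  apply eq_zero_of_sec
  intro E
  haveI : IsReduced E.obj.left.left :=
    Groth.Agent.Lib.Helper12.FieldBC.isReduced_of_chart hred E.obj.hom E.property
  rw [← AlgebraicGeometry.basicOpen_eq_bot_iff]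
  ext z
  simp only [TopologicalSpace.Opens.coe_bot, Set.mem_empty_iff_false, iff_false]
  intro hz
  have : AlgSp.Points.ofPt E.obj.hom z ∈ nz s :=
    Set.mem_iUnion.2 ⟨E, z, hz, rfl⟩
  rw [h] at this
  exact this

/-- Let X be an integral algebraic space over a scheme S. Then Γ(X, O_X) is a domain. -/
theorem result {S : Scheme.{u}} (X : AlgSp.Space S)
    (hX : AlgSp.IsIntegralSp X.obj) : IsDomain ↥(AlgSp.gsectEt (AlgSp.OEt X.obj)) := by
  obtain ⟨hred, _, hirr⟩ := hX
  haveI := hirr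
  haveI : Nontrivial ↥(AlgSp.gsectEt (AlgSp.OEt X.obj)) := by
    obtain ⟨x⟩ := hirr.toNonempty
    obtain ⟨U, p, hp1, hp2⟩ := X.property.atlas
    obtain ⟨z, _⟩ := Groth.Agent.S10177.surjective_ofPt p hp2 x
    let E : AlgSp.EtOver X.obj := AlgSp.EtOver.mk p hp1
    haveI : Nonempty ((⊤ : E.obj.left.left.Opens) : Type _) := ⟨⟨z, trivial⟩⟩
    haveI : Nontrivial Γ(E.obj.left.left, ⊤) := Scheme.component_nontrivial _ _
    haveI : Nontrivial (ULift.{u + 1} Γ(E.obj.left.left, ⊤)) := ULift.nontrivial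
    haveI : Nontrivial ↑((AlgSp.OEt X.obj).obj.obj (op E)) :=
      (inferInstance : Nontrivial (ULift.{u + 1} Γ(E.obj.left.left, ⊤)))
    exact RingHom.domain_nontrivial (limit.π (AlgSp.OEt X.obj).obj (op E)).hom
  haveI : NoZeroDivisors ↥(AlgSp.gsectEt (AlgSp.OEt X.obj)) := by
    refine ⟨fun {s t} hst => ?_⟩
    by_contra hne
    rw [not_or] at hne
    have hs : (nz s).Nonempty := by
      rw [Set.nonempty_iff_ne_empty]
      exact fun h => hne.1 (eq_zero_of_nz_eq_empty hred s h)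
    have ht : (nz t).Nonempty := by
      rw [Set.nonempty_iff_ne_empty]
      exact fun h => hne.2 (eq_zero_of_nz_eq_empty hred t h)
    have := nonempty_preirreducible_inter (isOpen_nz s) (isOpen_nz t) hs ht
    rw [nz_inter_of_mul_eq_zero s t hst] at this
    exact Set.not_nonempty_empty this
  exact NoZeroDivisors.to_isDomain _

end Groth.Agent.S10494
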