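import Groth.Statements.S10498
import Mathlib
import Groth.Agent.Lib.Helper8GeomRedSh

set_option autoImplicit false
universe u
open TensorProduct
open Hensel

namespace Groth.Agent.S10498

/-- (1) ⇔ (2): let k be a field, A a local k-algebra and R a strict henselization of A. Then A is
geometrically reduced over k (K ⊗_k A reduced for every field extension K of k) if and only if R is
geometrically reduced over k. -/
theorem result (k : Type u) [Field k]
    (A : Type u) [CommRing A] [IsLocalRing A] [Algebra k A]
    (R : Type u) [CommRing R] [IsLocalRing R] [Algebra A R] [IsLocalHom (algebraMap A R)]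
    [Hensel.IsStrictHenselization A R] [Algebra k R] [IsScalarTower k A R] :
    (∀ (K : Type u) [Field K] [Algebra k K], IsReduced (TensorProduct k K A)) ↔
      ∀ (K : Type u) [Field K] [Algebra k K], IsReduced (TensorProduct k K R) := by
  constructor
  · intro hA K _ _
    exact Groth.Agent.Lib.Helper8GeomRedSh.isReduced_tensor_sh k A R K (hA K)
  · intro hR K _ _
    exact Groth.Agent.Lib.Helper8GeomRedSh.isReduced_tensor_of_sh k A R K (hR K)

end Groth.Agent.S10498
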