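import Groth.Statements.S10511
import Mathlib
import Groth.Agent.Lib.H5bWPFB
import Groth.Agent.Lib.Helper12OpenSub2

set_option autoImplicit false
universe u
open CategoryTheory CategoryTheory.Limits AlgebraicGeometry
open AlgSp

namespace Groth.Agent.S10511

set_option linter.style.haveILetI false
set_option linter.unusedVariables false
open Groth.Agent.Lib.H5bWPF Groth.Agent.Lib.Helper12.LocPCases

instance : MorphismProperty.ContainsIdentities
    (@LocallyOfFinitePresentation : MorphismProperty Scheme.{u}) :=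
  ⟨fun X => inferInstanceAs (LocallyOfFinitePresentation (𝟙 X))⟩

lemma isAffineHom_of_isAffine_of_isSeparated {X Y : Scheme.{u}} (f : X ⟶ Y) [IsAffine X]
    [Y.IsSeparated] : IsAffineHom f := by
  haveI : IsAffineHom (f ≫ terminal.from Y) := by
    rw [terminal.comp_from]
    infer_instance
  exact IsAffineHom.of_comp f (terminal.from Y)

lemma isSeparated_of_isOpenImmersion {X Y : Scheme.{u}} (f : X ⟶ Y) [IsOpenImmersion f]
    [Y.IsSeparated] : X.IsSeparated := by
  constructor
  rw [← terminal.comp_from f]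
  infer_instance

/-- the family of affine opens of a chart. -/
theorem chart_family {S : Scheme.{u}} {U : AlgSp.Sp S} {T₀ : Over S}
    (p : (AlgSp.yon S).obj T₀ ⟶ U) (hps : AlgSp.RepWith @Surjective p)
    (hpF : AlgSp.RepWith @Flat p) (hpP : AlgSp.RepWith @LocallyOfFinitePresentation p)
    (ℛ : MorphismProperty Scheme.{u}) [ℛ.IsStableUnderBaseChange] [ℛ.IsMultiplicative]
    (hpR : AlgSp.RepWith ℛ p)
    (hℛ : ∀ i, ℛ (T₀.left.affineCover.f i)) :
    ∃ (T : T₀.left.affineCover.I₀ → Over S) (g : ∀ i, (AlgSp.yon S).obj (T i) ⟶ U),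
      (∀ x : AlgSp.Points U, ∃ i, x ∈ Set.range (AlgSp.Points.ofPt (g i))) ∧
      (∀ i, IsAffine (T i).left) ∧ (∀ i, AlgSp.RepWith @Flat (g i)) ∧
      (∀ i, AlgSp.RepWith @LocallyOfFinitePresentation (g i)) ∧ (∀ i, AlgSp.RepWith ℛ (g i)) := by
  let 𝒰 := T₀.left.affineCover
  let T : 𝒰.I₀ → Over S := fun i => Over.mk (𝒰.f i ≫ T₀.hom)
  let j : ∀ i, T i ⟶ T₀ := fun i => Over.homMk (𝒰.f i) rfl
  refine ⟨T, fun i => (AlgSp.yon S).map (j i) ≫ p, ?_, ?_, ?_, ?_, ?_⟩
  · intro x
    obtain ⟨t, rfl⟩ := Groth.Agent.S10177.surjective_ofPt p hps x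
    obtain ⟨i, y, rfl⟩ := 𝒰.exists_eq t
    exact ⟨i, y, Groth.Agent.S10176.ofPt_map_comp (j i) p y⟩
  · intro i
    exact inferInstanceAs (IsAffine (𝒰.X i))
  · intro i
    refine MorphismProperty.comp_mem _ _ _ ((AlgSp.repWith_yon_map_iff _ _).2 ?_) hpF
    exact inferInstanceAs (Flat (𝒰.f i))
  · intro i
    refine MorphismProperty.comp_mem _ _ _ ((AlgSp.repWith_yon_map_iff _ _).2 ?_) hpP
    exact inferInstanceAs (LocallyOfFinitePresentation (𝒰.f i))
  · intro i
    exact MorphismProperty.comp_mem _ _ _ ((AlgSp.repWith_yon_map_iff _ _).2 (hℛ i)) hpR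

/-- Let `X` be an algebraic space over `S` and `P` a property of sheaves over `X` such that, for every
algebraic space `U` over `X` and every fppf covering `{U_i ⟶ U}` by algebraic spaces, `P` holds for
`U` as soon as it holds for all the iterated fibre products `U_{i_0} ×_U ⋯ ×_U U_{i_n}` (`n ≥ 0`,
taken in fppf sheaves) over `X`. If `P` holds for every sheaf over `X` that is isomorphic to an
affine scheme and flat and locally of finite presentation over `X`, then `P` holds for `X`. -/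
theorem result {S : Scheme.{u}} (X : AlgSp.Space S)
    (P : ∀ ⦃U : AlgSp.Sp S⦄, (U ⟶ X.obj) → Prop)
    (hP : ∀ ⦃U : AlgSp.Sp S⦄ (a : U ⟶ X.obj), AlgSp.IsAlgSpace U →
      ∀ ⦃ι : Type u⦄ (Ui : ι → AlgSp.Sp S) (g : ∀ i, Ui i ⟶ U), (∀ i, AlgSp.IsAlgSpace (Ui i)) →
      AlgSp.IsFppfCover Ui g →
      (∀ (n : ℕ) (c : Fin (n + 1) → ι),
        P (WidePullback.base (fun k : Fin (n + 1) => g (c k)) ≫ a)) → P a)
    (haff : ∀ ⦃U : AlgSp.Sp S⦄ (a : U ⟶ X.obj) (T : Over S) (e : U ≅ (AlgSp.yon S).obj T), IsAffine T.left →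
      AlgSp.LocP @Flat a → AlgSp.LocP @LocallyOfFinitePresentation a → P a) :
    P (𝟙 X.obj) := by
  -- Level 1: separated schemes
  have L1 : ∀ ⦃V : AlgSp.Sp S⦄ (a' : V ⟶ X.obj) (T : Over S) (e : V ≅ (AlgSp.yon S).obj T),
      T.left.IsSeparated → AlgSp.LocP @Flat a' → AlgSp.LocP @LocallyOfFinitePresentation a' →
      P a' := by
    intro V a' T e hsep hF hfp
    haveI := hsep
    have hV : AlgSp.IsAlgSpace V := (AlgSp.IsAlgSpace.yon_obj T).of_iso e.symm
    obtain ⟨Ti, g, hcov, h0, hgF, hgP, hgR⟩ := chart_family e.inv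
      (Groth.Agent.Lib.Helper15MonoSep.repWith_of_isIso _ _)
      (Groth.Agent.Lib.Helper15MonoSep.repWith_of_isIso _ _)
      (Groth.Agent.Lib.Helper15MonoSep.repWith_of_isIso _ _) @IsAffineHom
      (Groth.Agent.Lib.Helper15MonoSep.repWith_of_isIso _ _)
      (fun i => isAffineHom_of_isAffine_of_isSeparated _)
    exact step X P hP (fun T => IsAffine T.left) @IsAffineHom
      (fun W W' p hp hW => by
        haveI := hp
        haveI := hW
        exact isAffine_of_isAffineHom p.left)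
      haff a' hV hF hfp Ti g hcov h0 hgF hgP hgR
  -- Level 2: all schemes
  have L2 : ∀ ⦃V : AlgSp.Sp S⦄ (a' : V ⟶ X.obj) (T : Over S) (e : V ≅ (AlgSp.yon S).obj T),
      AlgSp.LocP @Flat a' → AlgSp.LocP @LocallyOfFinitePresentation a' → P a' := by
    intro V a' T e hF hfp
    have hV : AlgSp.IsAlgSpace V := (AlgSp.IsAlgSpace.yon_obj T).of_iso e.symm
    obtain ⟨Ti, g, hcov, h0, hgF, hgP, hgR⟩ := chart_family e.inv
      (Groth.Agent.Lib.Helper15MonoSep.repWith_of_isIso _ _)
      (Groth.Agent.Lib.Helper15MonoSep.repWith_of_isIso _ _)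
      (Groth.Agent.Lib.Helper15MonoSep.repWith_of_isIso _ _) @IsOpenImmersion
      (Groth.Agent.Lib.Helper15MonoSep.repWith_of_isIso _ _)
      (fun i => inferInstance)
    exact step X P hP (fun T => T.left.IsSeparated) @IsOpenImmersion
      (fun W W' p hp hW => by
        haveI := hp
        haveI := hW
        exact isSeparated_of_isOpenImmersion p.left)
      L1 a' hV hF hfp Ti g hcov (fun i => by haveI := h0 i; infer_instance) hgF hgP hgR
  -- Level 3: the algebraic space itself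
  obtain ⟨U₀, p, hpe, hps⟩ := X.property.atlas
  obtain ⟨Ti, g, hcov, h0, hgF, hgP, hgR⟩ := chart_family p hps
    (Groth.Agent.Lib.Helper12.OpenSub.repWith_mono
      (fun _ _ g hg => by haveI : Etale g := hg; infer_instance) hpe)
    (Groth.Agent.Lib.Helper12.OpenSub.repWith_mono
      (fun _ _ g hg => by haveI : Etale g := hg; infer_instance) hpe)
    (⊤ : MorphismProperty Scheme.{u})
    (Groth.Agent.Lib.Helper12.OpenSub.repWith_mono (fun _ _ g hg => trivial) hpe)
    (fun i => trivial)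
  have hidF : AlgSp.LocP @Flat (𝟙 X.obj) :=
    Groth.Agent.Lib.H5bBoot.locP_of_repWith good_flat _
      (Groth.Agent.Lib.Helper15MonoSep.repWith_of_isIso _ _)
  have hidP : AlgSp.LocP @LocallyOfFinitePresentation (𝟙 X.obj) :=
    Groth.Agent.Lib.H5bBoot.locP_of_repWith good_lfp _
      (Groth.Agent.Lib.Helper15MonoSep.repWith_of_isIso _ _)
  exact step X P hP (fun _ => True) (⊤ : MorphismProperty Scheme.{u})
    (fun _ _ _ _ _ => trivial) (fun V a' T e _ hF hfp => L2 a' T e hF hfp)
    (𝟙 X.obj) X.property hidF hidP Ti g hcov (fun _ => trivial) hgF hgP hgR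

end Groth.Agent.S10511
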