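import Groth.Statements.S10517
import Groth.Agent.Lib.R2LeadPh1
import Groth.Agent.Lib.Helper12LocPCases

set_option autoImplicit false
universe u
open CategoryTheory CategoryTheory.Limits AlgebraicGeometry
open AlgSp

namespace Groth.Agent.S10517

/-- If `{X_i ⟶ X}` is a ph covering of the algebraic space `X` by algebraic spaces and each `X_i` has a
ph covering `{X_ij ⟶ X_i}` by algebraic spaces, then the composites `X_ij ⟶ X_i ⟶ X`, indexed by the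
pairs `(i, j)`, form a ph covering of `X`. -/
theorem result {S : Scheme.{u}} (X : AlgSp.Space S) {ι : Type u}
    (Xi : ι → AlgSp.Space S) (g : ∀ i, Xi i ⟶ X) (κ : ι → Type u) (Xij : ∀ i, κ i → AlgSp.Space S)
    (gij : ∀ i j, Xij i j ⟶ Xi i)
    (h : AlgSp.IsPhCover (fun i => (Xi i).obj) (fun i => (g i).hom))
    (hij : ∀ i, AlgSp.IsPhCover (fun j => (Xij i j).obj) (fun j => (gij i j).hom)) :
    AlgSp.IsPhCover (fun r : Σ i, κ i => (Xij r.1 r.2).obj) (fun r => (gij r.1 r.2 ≫ g r.1).hom) := by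
  obtain ⟨hft, hcov⟩ := h
  refine ⟨fun r => Groth.Agent.Lib.Helper12.LocPCases.good_lft.locP_comp (Xi r.1).property
    X.property (gij r.1 r.2).hom (g r.1).hom ((hij r.1).1 r.2) (hft r.1), fun Z hZ k => ?_⟩
  obtain ⟨F, hF, hl⟩ := hcov Z hZ k
  choose i l hl' using hl
  have key : ∀ j, ∃ G : PreZeroHypercover.{0} (F.X j), HTop.IsStandardPh G ∧
      ∀ t : G.I₀, ∃ (κ0 : κ (i j))
        (l' : (AlgSp.yon S).obj (Over.mk (G.f t ≫ F.f j ≫ Z.hom)) ⟶ (Xij (i j) κ0).obj),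
        l' ≫ (gij (i j) κ0).hom =
          (AlgSp.yon S).map (Over.homMk (G.f t) rfl :
            Over.mk (G.f t ≫ F.f j ≫ Z.hom) ⟶ Over.mk (F.f j ≫ Z.hom)) ≫ l j :=
    fun j => (hij (i j)).2 (Over.mk (F.f j ≫ Z.hom)) (hF.isAffine_obj j) (l j)
  choose G hG hG' using key
  haveI : IsAffine Z.left := hZ
  obtain ⟨F', hF', ⟨ψ⟩⟩ := Groth.Agent.Lib.R2LeadPh1.part2 F hF G hG
  refine ⟨F', hF', fun m => ?_⟩
  obtain ⟨κ0, l', hl''⟩ := hG' (ψ.s₀ m).1 (ψ.s₀ m).2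
  let c : F'.X m ⟶ (G (ψ.s₀ m).1).X (ψ.s₀ m).2 := ψ.h₀ m
  have hc : c ≫ (G (ψ.s₀ m).1).f (ψ.s₀ m).2 ≫ F.f (ψ.s₀ m).1 = F'.f m := ψ.w₀ m
  let cO : Over.mk (F'.f m ≫ Z.hom) ⟶
      Over.mk ((G (ψ.s₀ m).1).f (ψ.s₀ m).2 ≫ F.f (ψ.s₀ m).1 ≫ Z.hom) :=
    Over.homMk c (by
      change c ≫ (G (ψ.s₀ m).1).f (ψ.s₀ m).2 ≫ F.f (ψ.s₀ m).1 ≫ Z.hom = F'.f m ≫ Z.hom
      rw [← hc, Category.assoc, Category.assoc])
  refine ⟨⟨i (ψ.s₀ m).1, κ0⟩, (AlgSp.yon S).map cO ≫ l', ?_⟩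
  change ((AlgSp.yon S).map cO ≫ l') ≫ (gij (i (ψ.s₀ m).1) κ0).hom ≫ (g (i (ψ.s₀ m).1)).hom = _
  rw [Category.assoc, ← Category.assoc l', hl'', Category.assoc, hl', ← Functor.map_comp_assoc,
    ← Functor.map_comp_assoc]
  congr 2
  ext
  change (c ≫ (G (ψ.s₀ m).1).f (ψ.s₀ m).2) ≫ F.f (ψ.s₀ m).1 = F'.f m
  rw [Category.assoc, hc]

end Groth.Agent.S10517
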