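import Groth.Statements.S10531
import Mathlib
import Groth.Agent.Lib.H5bFpqcIso

set_option autoImplicit false
set_option linter.style.haveILetI false
universe u
open CategoryTheory CategoryTheory.Limits AlgebraicGeometry
open AlgSp

namespace Groth.Agent.S10531

/-- The property of morphisms of algebraic spaces over S given by f is an open immersion (representable
by open immersions of schemes) is fpqc local on the base: for an fpqc covering of an algebraic space
Y by algebraic spaces Y_i, a morphism f : X ⟶ Y of algebraic spaces and cartesian squares X_i = Y_i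
×_Y X, f has the property if and only if every X_i ⟶ Y_i has it. -/
theorem result (S : Scheme.{u}) :
    AlgSp.IsLocalOnBase (AlgSp.IsFpqcCover (S := S)) (AlgSp.RepWith @IsOpenImmersion) := by
  intro ι Y Yi g hY hYi hcov X f hX Xi p q hXi sq
  constructor
  · intro hf i
    exact (AlgSp.repWith_isStableUnderBaseChange (S := S) @IsOpenImmersion).of_isPullback
      (sq i) hf
  · intro H
    have het : AlgSp.IsEtaleMor f :=
      (Groth.Agent.S10544.result S Yi g hY hYi hcov f hX Xi p q hXi sq).2
        (fun i => Groth.Agent.Lib.H5bFpqcIso.isEtaleMor_of_open (p i) (H i))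
    have hinj : AlgSp.IsUnivInjectiveMor f :=
      (Groth.Agent.S10524.result S Yi g hY hYi hcov f hX Xi p q hXi sq).2 (fun i => by
        haveI : Mono (p i) := Groth.Agent.Lib.Helper12.LargestOpen.mono_of_open (p i) (H i)
        exact Groth.Agent.Lib.H5bFpqcIso.isUnivInjectiveMor_of_mono (hXi i) (hYi i) (p i))
    let X' : AlgSp.Space S := ⟨X, hX⟩
    let Y' : AlgSp.Space S := ⟨Y, hY⟩
    let f' : X' ⟶ Y' := ObjectProperty.homMk f
    exact Groth.Agent.S10261.result f' het hinj

end Groth.Agent.S10531
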