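import Groth.Statements.S10533
import Mathlib
import Groth.Agent.Lib.H5bSpDescH
import Groth.Agent.Lib.Helper12Descent
import Groth.Agent.S1133

set_option autoImplicit false
set_option linter.style.haveILetI false
universe u
open CategoryTheory CategoryTheory.Limits AlgebraicGeometry
open AlgSp

namespace Groth.Agent.S10533

open Groth.Agent.Lib.H5bSpDesc

/-- effectivity of fpqc descent data for affine morphisms. -/
lemma hdesc_affine : ∀ ⦃X' S' : Scheme.{u}⦄ (p : X' ⟶ S'), Surjective p → Flat p → QuasiCompact p →
    ∀ D : Desc.SchDD p, IsAffineHom D.obj.hom → (Desc.toDD p).essImage D := by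
  intro X' S' p hs hf hq D hD
  haveI := hs
  haveI := hf
  haveI := hq
  haveI := hD
  exact Groth.Agent.S1133.result p D

/-- The property of morphisms of algebraic spaces over S given by f is affine (every base change to an
affine scheme is an affine scheme) is fpqc local on the base: for an fpqc covering of an algebraic
space Y by algebraic spaces Y_i, a morphism f : X ⟶ Y of algebraic spaces and cartesian squares X_i
= Y_i ×_Y X, f has the property if and only if every X_i ⟶ Y_i has it. -/
theorem result (S : Scheme.{u}) :
    AlgSp.IsLocalOnBase (AlgSp.IsFpqcCover (S := S)) AlgSp.IsAffineMor := by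
  intro ι Y Yi g hY hYi hcov X f hX Xi p q hXi sq
  constructor
  · intro hf i Z hZ l
    obtain ⟨W, w, fst, hpb, hW⟩ := hf hZ (l ≫ g i)
    obtain ⟨fst', hpb'⟩ := exists_isPullback_of_comp (sq i) l w fst hpb
    exact ⟨W, w, fst', hpb', hW⟩
  · intro H Z hZ h
    haveI := hZ
    haveI := Groth.Agent.Lib.Helper12.descendsAlong_isAffineHom.{u}
    obtain ⟨W₀, w₀, fst, hpb, hP⟩ := exists_rep_of_fpqcCover @IsAffineHom hdesc_affine Yi g hcov.2
      hY hX f Xi p q sq (fun i W hW l => by
        obtain ⟨V, v, a, hpb, hV⟩ := H i hW l
        haveI := hW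
        haveI := hV
        exact ⟨V, v, a, hpb, inferInstance⟩) hZ h
    haveI := hP
    exact ⟨W₀, w₀, fst, hpb, isAffine_of_isAffineHom w₀.left⟩

end Groth.Agent.S10533
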