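import Groth.Statements.S10537
import Mathlib
import Groth.Agent.Lib.H5bFpqcBaseRep
import Groth.Agent.Lib.H5bQAffProp
import Groth.Agent.S1134

set_option autoImplicit false
set_option linter.style.haveILetI false
universe u
open CategoryTheory CategoryTheory.Limits AlgebraicGeometry
open AlgSp

namespace Groth.Agent.S10537

open Groth.Agent.Lib.H5bFpqcBaseRep Groth.Agent.Lib.H5bQAffProp

lemma effDesc_QA : EffDesc QA.{u} := by
  intro X' S' p hs hf hq D hD
  haveI := hs
  haveI := hf
  haveI := hq
  exact Groth.Agent.S1134.result p D hD

/-- The property of morphisms of algebraic spaces over S given by f is quasi-affine (every base change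
to an affine scheme is a quasi-affine scheme) is fpqc local on the base: for an fpqc covering of an
algebraic space Y by algebraic spaces Y_i, a morphism f : X ⟶ Y of algebraic spaces and cartesian
squares X_i = Y_i ×_Y X, f has the property if and only if every X_i ⟶ Y_i has it. -/
theorem result (S : Scheme.{u}) :
    AlgSp.IsLocalOnBase (AlgSp.IsFpqcCover (S := S)) AlgSp.IsQuasiAffineMor := by
  haveI : IsZariskiLocalAtTarget QA.{u} := inferInstance
  exact isLocalOnBase_of_affineCond QA effDesc_QA (fun W Z i => W.left.IsQuasiAffine)
    (fun W Z i hZ => by
      haveI := hZ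
      exact (qa_iff_of_isAffine i.left).symm)

end Groth.Agent.S10537
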