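import Groth.Statements.S10538
import Mathlib
import Groth.Agent.Lib.H5bFpqcBaseRep
import Groth.Agent.Lib.Helper12ImmersionDescent
import Groth.Agent.S1134

set_option autoImplicit false
set_option linter.style.haveILetI false
universe u
open CategoryTheory CategoryTheory.Limits AlgebraicGeometry
open AlgSp

namespace Groth.Agent.S10538

open Groth.Agent.Lib.H5bFpqcBaseRep

/-- a quasi-compact immersion is quasi-affine. -/
lemma isQuasiAffine_of_isImmersion {A B : Scheme.{u}} (f : A ⟶ B) [IsImmersion f]
    [QuasiCompact f] : Mor2.IsQuasiAffine f := by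
  refine ⟨inferInstance, fun V hV => ?_⟩
  haveI : IsAffine (V : Scheme.{u}) := hV
  haveI : IsImmersion (f ∣_ V) := IsZariskiLocalAtTarget.restrict (P := @IsImmersion) inferInstance V
  haveI : CompactSpace ↥(f ⁻¹ᵁ V : Scheme.{u}) :=
    isCompact_iff_compactSpace.mp (f.isCompact_preimage hV.isCompact)
  exact Scheme.IsQuasiAffine.of_isImmersion (f ∣_ V)

lemma effDesc_immQc : EffDesc (@IsImmersion ⊓ @QuasiCompact : MorphismProperty Scheme.{u}) := by
  intro X' S' p hs hf hq D hD
  haveI := hs
  haveI := hf
  haveI := hq
  haveI := hD.1
  haveI := hD.2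
  exact Groth.Agent.S1134.result p D (isQuasiAffine_of_isImmersion D.obj.hom)

/-- The property of morphisms of algebraic spaces over S given by f is a quasi-compact immersion
(representable, every base change to a scheme an immersion of schemes that is quasi-compact) is fpqc
local on the base: for an fpqc covering of an algebraic space Y by algebraic spaces Y_i, a morphism
f : X ⟶ Y of algebraic spaces and cartesian squares X_i = Y_i ×_Y X, f has the property if and only
if every X_i ⟶ Y_i has it. -/
theorem result (S : Scheme.{u}) :
    AlgSp.IsLocalOnBase (AlgSp.IsFpqcCover (S := S)) (AlgSp.RepWith (@IsImmersion ⊓ @QuasiCompact)) := by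
  haveI := Groth.Agent.Lib.Helper12.descendsAlong_isImmersion_inf_quasiCompact.{u}
  exact isLocalOnBase_repWith (@IsImmersion ⊓ @QuasiCompact) effDesc_immQc

end Groth.Agent.S10538
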