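import Groth.Statements.S10539
import Mathlib
import Groth.Agent.Lib.H5bFpqcBaseRep

set_option autoImplicit false
set_option linter.style.haveILetI false
universe u
open CategoryTheory CategoryTheory.Limits AlgebraicGeometry
open AlgSp

namespace Groth.Agent.S10539

open Groth.Agent.Lib.H5bFpqcBaseRep

/-- The property of morphisms of algebraic spaces over S given by f is integral (every base change to an
affine scheme is an affine scheme integral over it) is fpqc local on the base: for an fpqc covering
of an algebraic space Y by algebraic spaces Y_i, a morphism f : X ⟶ Y of algebraic spaces and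
cartesian squares X_i = Y_i ×_Y X, f has the property if and only if every X_i ⟶ Y_i has it. -/
theorem result (S : Scheme.{u}) :
    AlgSp.IsLocalOnBase (AlgSp.IsFpqcCover (S := S)) AlgSp.IsIntegralMor := by
  haveI := Groth.Agent.Lib.Helper12.descendsAlong_isIntegralHom.{u}
  exact isLocalOnBase_of_affineCond @IsIntegralHom
    (effDesc_of_le_affine _ (fun A B f hf => by haveI := hf; infer_instance))
    (fun W Z i => IsAffine W.left ∧ IsIntegralHom i.left)
    (fun W Z i hZ => ⟨fun h => h.2, fun h => ⟨by
      haveI := hZ
      haveI := h
      exact isAffine_of_isAffineHom i.left, h⟩⟩)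

end Groth.Agent.S10539
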