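import Groth.Statements.S10545
import Mathlib
import Groth.Agent.Lib.H5bFpqcBaseRep
import Groth.Agent.Lib.Helper12Torsor
import Groth.Prelude.Def_AlgSpMor5

set_option autoImplicit false
set_option linter.style.haveILetI false
universe u
open CategoryTheory CategoryTheory.Limits AlgebraicGeometry
open AlgSp

namespace Groth.Agent.S10545

open Groth.Agent.Lib.H5bFpqcBaseRep

lemma finLocFree_eq : AlgSp.finLocFree.{u} =
    (@IsFinite ⊓ (@Flat ⊓ @LocallyOfFinitePresentation) : MorphismProperty Scheme.{u}) := rfl

/-- The property of morphisms of algebraic spaces over S given by f is finite locally free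
(representable by finite, flat, locally finitely presented morphisms of schemes) is fpqc local on
the base: for an fpqc covering of an algebraic space Y by algebraic spaces Y_i, a morphism f : X ⟶ Y
of algebraic spaces and cartesian squares X_i = Y_i ×_Y X, f has the property if and only if every
X_i ⟶ Y_i has it. -/
theorem result (S : Scheme.{u}) :
    AlgSp.IsLocalOnBase (AlgSp.IsFpqcCover (S := S)) AlgSp.IsFinLocFreeMor := by
  haveI := Groth.Agent.Lib.Helper12.descendsAlong_isFinite.{u}
  haveI := Groth.Agent.Lib.Helper12.descendsAlong_flat.{u}
  haveI : IsZariskiLocalAtTarget AlgSp.finLocFree.{u} := by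
    rw [finLocFree_eq]
    infer_instance
  haveI : MorphismProperty.DescendsAlong AlgSp.finLocFree.{u}
      (@Surjective ⊓ @Flat ⊓ @QuasiCompact : MorphismProperty Scheme.{u}) := by
    rw [finLocFree_eq]
    infer_instance
  exact isLocalOnBase_repWith AlgSp.finLocFree
    (effDesc_of_le_affine _ (fun A B f hf => by haveI := hf.1; infer_instance))

end Groth.Agent.S10545
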