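import Groth.Statements.S10546
import Mathlib
import Groth.Agent.Lib.H5bFpqcIso
import Groth.Agent.S10506
import Groth.Agent.S9874

set_option autoImplicit false
set_option linter.style.haveILetI false
universe u
open CategoryTheory CategoryTheory.Limits AlgebraicGeometry
open AlgSp

namespace Groth.Agent.S10546

/-- The property of morphisms of algebraic spaces over S given by f is a monomorphism (of fppf sheaves,
equivalently of algebraic spaces) is fpqc local on the base: for an fpqc covering of an algebraic
space Y by algebraic spaces Y_i, a morphism f : X ⟶ Y of algebraic spaces and cartesian squares X_i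
= Y_i ×_Y X, f has the property if and only if every X_i ⟶ Y_i has it. -/
theorem result (S : Scheme.{u}) :
    AlgSp.IsLocalOnBase (AlgSp.IsFpqcCover (S := S)) (MorphismProperty.monomorphisms (AlgSp.Sp S)) := by
  intro ι Y Yi g hY hYi hcov X f hX Xi p q hXi sq
  constructor
  · intro hf i
    exact (MorphismProperty.monomorphisms (AlgSp.Sp S)).of_isPullback (sq i) hf
  · intro H
    -- the kernel pair of `f`
    have sqK := IsPullback.of_hasPullback f f
    have hK : AlgSp.IsAlgSpace (pullback f f) :=
      Groth.Agent.S9874.isAlgSpace_of_isPullback hY.diag hX hX sqK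
    -- the base change of the covering to `X`
    have hcovX : AlgSp.IsFpqcCover Xi q :=
      Groth.Agent.S10506.result (X := ⟨Y, hY⟩) (X' := ⟨X, hX⟩) (ObjectProperty.homMk f)
        (fun i => ⟨Yi i, hYi i⟩) (fun i => ObjectProperty.homMk (g i))
        (fun i => ⟨Xi i, hXi i⟩) (fun i => ObjectProperty.homMk (q i))
        (fun i => ObjectProperty.homMk (p i)) sq hcov
    -- the kernel pairs of the `p i`
    have sqKi : ∀ i, IsPullback (pullback.fst (p i) (p i)) (pullback.snd (p i) (p i)) (p i) (p i) :=
      fun i => IsPullback.of_hasPullback (p i) (p i)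
    have hKi : ∀ i, AlgSp.IsAlgSpace (pullback (p i) (p i)) := fun i =>
      Groth.Agent.S9874.isAlgSpace_of_isPullback (hYi i).diag (hXi i) (hXi i) (sqKi i)
    have hcond : ∀ i, (pullback.fst (p i) (p i) ≫ q i) ≫ f = (pullback.snd (p i) (p i) ≫ q i) ≫ f := by
      intro i
      rw [Category.assoc, Category.assoc, (sq i).w, ← Category.assoc, ← Category.assoc,
        pullback.condition]
    let m : ∀ i, pullback (p i) (p i) ⟶ pullback f f := fun i =>
      pullback.lift (pullback.fst (p i) (p i) ≫ q i) (pullback.snd (p i) (p i) ≫ q i) (hcond i)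
    have hm1 : ∀ i, m i ≫ pullback.fst f f = pullback.fst (p i) (p i) ≫ q i :=
      fun i => pullback.lift_fst _ _ _
    have hm2 : ∀ i, m i ≫ pullback.snd f f = pullback.snd (p i) (p i) ≫ q i :=
      fun i => pullback.lift_snd _ _ _
    have sqM : ∀ i, IsPullback (m i) (pullback.fst (p i) (p i)) (pullback.fst f f) (q i) := by
      intro i
      have big : IsPullback (pullback.snd (p i) (p i) ≫ q i) (pullback.fst (p i) (p i)) f
          (p i ≫ g i) := (sqKi i).flip.paste_horiz (sq i)
      have big' : IsPullback (m i ≫ pullback.snd f f) (pullback.fst (p i) (p i)) f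
          (q i ≫ f) := by
        rw [hm2 i, (sq i).w]
        exact big
      exact IsPullback.of_right big' (hm1 i) sqK.flip
    haveI : IsIso (pullback.fst f f) :=
      Groth.Agent.Lib.H5bFpqcIso.isIso_of_fpqcCover Xi q hX hXi hcovX (pullback.fst f f) hK
        (fun i => pullback (p i) (p i)) (fun i => pullback.fst (p i) (p i)) m hKi sqM
        (fun i => by
          haveI : Mono (p i) := H i
          infer_instance)
    exact IsKernelPair.mono_of_isIso_fst sqK

end Groth.Agent.S10546
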