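import Groth.Statements.S10547
import Mathlib
import Groth.Agent.Lib.H5bFppfBase
import Groth.Agent.Lib.Helper12FppfRefine
import Groth.Agent.Lib.Helper12ZarGlue
import Groth.Agent.S1125

set_option autoImplicit false
set_option linter.style.haveILetI false
universe u
open CategoryTheory CategoryTheory.Limits AlgebraicGeometry
open AlgSp

namespace Groth.Agent.S10547

open Groth.Agent.Lib.H5bFppfBase in
lemma local_piece {S : Scheme.{u}} {X Y : AlgSp.Sp S} (f : X ⟶ Y) {T : Over S}
    (a : (AlgSp.yon S).obj T ⟶ Y) {Tk : Over S} (c : Tk ⟶ T) [Flat c.left]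
    [LocallyOfFinitePresentation c.left] {W' : Over S} (g' : W' ⟶ Tk)
    (fst' : (AlgSp.yon S).obj W' ⟶ X)
    (sq' : IsPullback fst' ((AlgSp.yon S).map g') f ((AlgSp.yon S).map c ≫ a))
    (hP : IsImmersion g'.left) :
    ∃ (Tz : Over S) (jz : Tz ⟶ T) (Wz : Over S) (wz : Wz ⟶ Tz)
      (az : (AlgSp.yon S).obj Wz ⟶ X),
      IsOpenImmersion jz.left ∧ Set.range jz.left = Set.range c.left ∧
      IsPullback az ((AlgSp.yon S).map wz) f ((AlgSp.yon S).map jz ≫ a) ∧ IsImmersion wz.left := by
  have hopen : IsOpen (Set.range c.left) := c.left.isOpenMap.isOpen_range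
  let U : T.left.Opens := ⟨Set.range c.left, hopen⟩
  let Tz : Over S := Over.mk (U.ι ≫ T.hom)
  let jz : Tz ⟶ T := Over.homMk U.ι rfl
  have hr : Set.range c.left ⊆ Set.range U.ι := by
    rw [Scheme.Opens.range_ι]
    rfl
  let cl : Tk.left ⟶ (U : Scheme.{u}) := IsOpenImmersion.lift U.ι c.left hr
  have hcl : cl ≫ U.ι = c.left := IsOpenImmersion.lift_fac _ _ _
  let c' : Tk ⟶ Tz := Over.homMk cl (by
    change cl ≫ U.ι ≫ T.hom = Tk.hom
    rw [← Category.assoc, hcl, Over.w])
  have hc' : c' ≫ jz = c := by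
    ext
    exact hcl
  haveI : Flat c'.left := MorphismProperty.of_postcomp (W := @Flat) (W' := @IsOpenImmersion)
    cl U.ι inferInstance (by rw [hcl]; infer_instance)
  haveI : LocallyOfFinitePresentation c'.left :=
    MorphismProperty.of_postcomp (W := @LocallyOfFinitePresentation) (W' := @IsOpenImmersion)
      cl U.ι inferInstance (by rw [hcl]; infer_instance)
  haveI : Surjective c'.left := ⟨fun u => by
    obtain ⟨x, hx⟩ : U.ι u ∈ Set.range c.left := (u : ↥U).2
    refine ⟨x, ?_⟩
    apply U.ι.isOpenEmbedding.injective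
    change (cl ≫ U.ι) x = _
    rw [hcl]
    exact hx⟩
  have sq'' : IsPullback fst' ((AlgSp.yon S).map g') f
      ((AlgSp.yon S).map c' ≫ ((AlgSp.yon S).map jz ≫ a)) := by
    rw [← Category.assoc, ← Functor.map_comp, hc']
    exact sq'
  haveI := Groth.Agent.S1125.result.{u}
  obtain ⟨W, w, a₀, sq₀, hw⟩ := exists_rep_of_single_cover @IsImmersion
    (fun _ _ p hs hf hfp D hD => effective_immersion p hs hf hfp D hD) f
    ((AlgSp.yon S).map jz ≫ a) c' g' fst' sq'' hP
  refine ⟨Tz, jz, W, w, a₀, inferInstanceAs (IsOpenImmersion U.ι), ?_, sq₀, hw⟩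
  change Set.range U.ι = Set.range c.left
  rw [Scheme.Opens.range_ι]
  rfl

/-- The property of morphisms of algebraic spaces over S given by immersions (representable by
immersions of schemes) is fppf local on the base: for an fppf covering of an algebraic space Y by
algebraic spaces Y_i (each Y_i ⟶ Y flat and locally of finite presentation, jointly surjective on
points), a morphism f : X ⟶ Y of algebraic spaces and cartesian squares X_i = Y_i ×_Y X, f is an
immersion if and only if every X_i ⟶ Y_i is. -/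
theorem result (S : Scheme.{u}) :
    AlgSp.IsLocalOnBase (AlgSp.IsFppfCover (S := S)) (AlgSp.RepWith @IsImmersion) := by
  intro ι Y Yi g hY hYi hcov X f hX Xi p q hXi sq
  constructor
  · intro hf i
    exact MorphismProperty.of_isPullback (P := AlgSp.RepWith @IsImmersion) (sq i) hf
  · intro hp
    refine MorphismProperty.relative.of_exists ?_
    intro T a
    obtain ⟨Tk, c, l, hfl, hfp, hsurj, hl⟩ :=
      Groth.Agent.Lib.Helper12.FppfRefine.exists_fppf_family hY Yi hYi g hcov a
    haveI := hfl
    haveI := hfp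
    have key : ∀ i, ∃ (Tz : Over S) (jz : Tz ⟶ T) (Wz : Over S) (wz : Wz ⟶ Tz)
        (az : (AlgSp.yon S).obj Wz ⟶ X),
        IsOpenImmersion jz.left ∧ Set.range jz.left = Set.range (c i).left ∧
        IsPullback az ((AlgSp.yon S).map wz) f ((AlgSp.yon S).map jz ≫ a) ∧
        IsImmersion wz.left := by
      intro i
      obtain ⟨W', g', fst', sq1⟩ := (hp i).rep (l i)
      have himm : IsImmersion g'.left := (hp i).property _ _ _ sq1
      have sq2 := sq1.paste_horiz (sq i)
      rw [hl i] at sq2
      exact local_piece f a (c i) g' (fst' ≫ q i) sq2 himm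
    choose Tz jz Wz wz az hopen hrange sqz himm using key
    haveI := hopen
    have hj : ∀ t : T.left, ∃ i, t ∈ Set.range (jz i).left := fun t => by
      obtain ⟨i, hi⟩ := hsurj t
      exact ⟨i, by rw [hrange i]; exact hi⟩
    obtain ⟨W₀, w₀, a₀, sq₀, hloc⟩ :=
      Groth.Agent.Lib.Helper12.ZarGlue.exists_rep_of_openCover f a Tz jz Wz wz az sqz hj
    choose k hk _ using hloc
    exact ⟨W₀, a₀, w₀, sq₀,
      Groth.Agent.Lib.Helper12.ZarGlue.property_of_openCover @IsImmersion w₀ Tz jz hj Wz wz k hk himm⟩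

end Groth.Agent.S10547
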