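import Groth.Statements.S10571
import Mathlib
import Groth.Agent.Lib.H5bCoprodSp2
import Groth.Agent.Lib.H5bCoprodPts
import Groth.Agent.S9874

set_option autoImplicit false
set_option linter.style.haveILetI false
universe u
open CategoryTheory CategoryTheory.Limits AlgebraicGeometry
open AlgSp

namespace Groth.Agent.S10571

open Groth.Agent.Lib.H5bCoprodSp in
/-- finitely many affine `S`-schemes have an affine coproduct whose sheaf is the coproduct of
sheaves. -/
theorem exists_affine_coprod {S : Scheme.{u}} {m : ℕ} (Wj : Fin m → Over S)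
    (hW : ∀ j, IsAffine (Wj j).left) :
    ∃ (Z' : Over S) (k : ∀ j : ULift.{u} (Fin m), Wj j.down ⟶ Z'),
      IsAffine Z'.left ∧
      Nonempty (IsColimit (Cofan.mk ((AlgSp.yon S).obj Z') (fun j => (AlgSp.yon S).map (k j)))) ∧
      Nonempty (IsColimit (Cofan.mk Z'.left (fun j => (k j).left))) := by
  let Wk : ULift.{u} (Fin m) → Over S := fun j => Wj j.down
  let cof : Cofan (fun j => (AlgSp.yon S).obj (Wk j)) :=
    Cofan.mk (∐ fun j => (AlgSp.yon S).obj (Wk j)) (Sigma.ι _)
  have hcof : IsColimit cof := coproductIsCoproduct _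
  obtain ⟨Z', e, k, hk, -, -⟩ := exists_yon_iso' Wk cof hcof
  have hcY : IsColimit (Cofan.mk ((AlgSp.yon S).obj Z') (fun j => (AlgSp.yon S).map (k j))) :=
    IsColimit.ofIsoColimit hcof (Cofan.ext e hk).symm
  have hcO : IsColimit (Cofan.mk Z' k) := isColimitOfIsColimitCofanMkObj (AlgSp.yon S) Wk k hcY
  have hcL : IsColimit (Cofan.mk Z'.left (fun j => (k j).left)) :=
    Groth.Agent.Lib.H5bCoprodPts.isColimitLeft (Cofan.mk Z' k) hcO
  refine ⟨Z', k, ?_, ⟨hcY⟩, ⟨hcL⟩⟩
  haveI : ∀ j : ULift.{u} (Fin m), IsAffine (Wk j).left := fun j => hW j.down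
  let e' : Z'.left ≅ ∐ fun j => (Wk j).left :=
    hcL.coconePointUniqueUpToIso (coproductIsCoproduct _)
  exact IsAffine.of_isIso e'.hom

/-- Suppose a property P of morphisms between algebraic spaces over S satisfies: (1) if finitely many
morphisms X_i ⟶ Y_i have P then so does the induced morphism ∐ X_i ⟶ ∐ Y_i, (2) f : X ⟶ Y has P
exactly when, for each affine scheme Z and each h_Z ⟶ Y, the base change h_Z ×_Y X ⟶ h_Z has P, and
(3) for every surjective flat morphism of affine schemes Z' ⟶ Z over S and every f : X ⟶ h_Z, if the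
base change h_{Z'} ×_{h_Z} X ⟶ h_{Z'} has P then f has P. Under these hypotheses, P is local on the
base for the fpqc topology. (The published statement asks (1) only for two morphisms; its proof
applies (1) to a disjoint union indexed by a finite set that may be empty, and with (1) for two
morphisms only the property that holds for no morphism satisfies all three hypotheses without being
fpqc local on the base, as the empty covering of the empty algebraic space shows. This row asks (1)
for all finite families, the empty one included.) -/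
theorem result {S : Scheme.{u}} (P : MorphismProperty (AlgSp.Sp S))
    (h1 : ∀ ⦃ι : Type u⦄ [Finite ι] (Xi Yi : ι → AlgSp.Sp S) (fi : ∀ i, Xi i ⟶ Yi i)
      (cX : Cofan Xi) (cY : Cofan Yi) (hcX : IsColimit cX) (hcY : IsColimit cY) (m : cX.pt ⟶ cY.pt),
      (∀ i, AlgSp.IsAlgSpace (Xi i)) → (∀ i, AlgSp.IsAlgSpace (Yi i)) →
      AlgSp.IsAlgSpace cX.pt → AlgSp.IsAlgSpace cY.pt →
      (∀ i, cX.inj i ≫ m = fi i ≫ cY.inj i) → (∀ i, P (fi i)) → P m)
    (h2 : ∀ ⦃X Y : AlgSp.Sp S⦄, AlgSp.IsAlgSpace X → AlgSp.IsAlgSpace Y → ∀ (f : X ⟶ Y),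
      P f ↔ ∀ (Z : Over S), IsAffine Z.left → ∀ (g : (AlgSp.yon S).obj Z ⟶ Y) (W : AlgSp.Sp S)
        (fst : W ⟶ X) (snd : W ⟶ (AlgSp.yon S).obj Z), AlgSp.IsAlgSpace W → IsPullback fst snd f g → P snd)
    (h3 : ∀ ⦃Z Z' : Over S⦄ (c : Z' ⟶ Z), IsAffine Z.left → IsAffine Z'.left → Surjective c.left → Flat c.left →
      ∀ ⦃X X' : AlgSp.Sp S⦄ (f : X ⟶ (AlgSp.yon S).obj Z) (fst : X' ⟶ X) (f' : X' ⟶ (AlgSp.yon S).obj Z'),
        AlgSp.IsAlgSpace X → AlgSp.IsAlgSpace X' → IsPullback fst f' f ((AlgSp.yon S).map c) → P f' → P f) :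
    AlgSp.IsLocalOnBase (AlgSp.IsFpqcCover (S := S)) P := by
  intro ι Y Yi g hY hYi hcov X f hX Xi p q hXi sq
  constructor
  · intro hf i
    refine (h2 (hXi i) (hYi i) (p i)).2 ?_
    intro Z hZ gZ W fst snd hW hpb
    exact (h2 hX hY f).1 hf Z hZ (gZ ≫ g i) W (fst ≫ q i) snd hW (hpb.paste_horiz (sq i))
  · intro H
    refine (h2 hX hY f).2 ?_
    intro Z hZ gZ W fst snd hW hpb
    obtain ⟨m, Wj, c, hWaff, hflat, hsurj, hlift⟩ := hcov.2 Z hZ gZ
    choose idx l hl using hlift
    obtain ⟨Z', k, hZ', ⟨hcY⟩, ⟨hcL⟩⟩ := exists_affine_coprod Wj hWaff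
    -- the map `Z' ⟶ Z`
    let d : (AlgSp.yon S).obj Z' ⟶ (AlgSp.yon S).obj Z :=
      Cofan.IsColimit.desc hcY (fun j => (AlgSp.yon S).map (c j.down))
    have hd : ∀ j, (AlgSp.yon S).map (k j) ≫ d = (AlgSp.yon S).map (c j.down) :=
      fun j => Cofan.IsColimit.fac hcY _ j
    obtain ⟨c', hc'⟩ := (AlgSp.yon S).map_surjective d
    have hkc : ∀ j, k j ≫ c' = c j.down := by
      intro j
      apply (AlgSp.yon S).map_injective
      rw [Functor.map_comp, hc', hd]
    have hkcl : ∀ j, (k j).left ≫ c'.left = (c j.down).left := by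
      intro j
      rw [← Over.comp_left, hkc]
    -- flat and surjective
    let eL : (∐ fun j : ULift.{u} (Fin m) => (Wj j.down).left) ≅ Z'.left :=
      (coproductIsCoproduct _).coconePointUniqueUpToIso hcL
    have heL : ∀ j, Sigma.ι (fun j : ULift.{u} (Fin m) => (Wj j.down).left) j ≫ eL.hom =
        (k j).left := fun j =>
      (coproductIsCoproduct _).comp_coconePointUniqueUpToIso_hom hcL ⟨j⟩
    have hflat' : Flat c'.left := by
      haveI : ∀ j : ULift.{u} (Fin m), Flat ((c j.down).left) := fun j => hflat j.down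
      have h1 : Flat (Sigma.desc (fun j : ULift.{u} (Fin m) => (c j.down).left)) :=
        inferInstance
      have h2' : eL.hom ≫ c'.left = Sigma.desc (fun j : ULift.{u} (Fin m) => (c j.down).left) := by
        apply Sigma.hom_ext
        intro j
        rw [← Category.assoc, heL, hkcl, Sigma.ι_desc]
      rw [← h2'] at h1
      exact (MorphismProperty.cancel_left_of_respectsIso @Flat eL.hom c'.left).1 h1
    have hsurj' : Surjective c'.left := by
      refine ⟨fun z => ?_⟩
      obtain ⟨j, w, hw⟩ := hsurj z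
      refine ⟨(k ⟨j⟩).left w, ?_⟩
      rw [← Scheme.Hom.comp_apply, hkcl]
      exact hw
    -- the base change to `Z'`
    have hWd : AlgSp.Representable (Limits.diag ((AlgSp.yon S).obj Z)) :=
      (AlgSp.IsAlgSpace.yon_obj Z).diag
    let X' : AlgSp.Sp S := pullback snd ((AlgSp.yon S).map c')
    have sqX' : IsPullback (pullback.fst snd ((AlgSp.yon S).map c'))
        (pullback.snd snd ((AlgSp.yon S).map c')) snd ((AlgSp.yon S).map c') :=
      IsPullback.of_hasPullback _ _
    have hX' : AlgSp.IsAlgSpace X' :=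
      Groth.Agent.S9874.isAlgSpace_of_isPullback hWd hW (AlgSp.IsAlgSpace.yon_obj Z') sqX'
    refine h3 c' hZ hZ' hsurj' hflat' snd (pullback.fst snd ((AlgSp.yon S).map c'))
      (pullback.snd snd ((AlgSp.yon S).map c')) hW hX' sqX' ?_
    -- the summands
    let Xj : ULift.{u} (Fin m) → AlgSp.Sp S := fun j =>
      pullback (pullback.snd snd ((AlgSp.yon S).map c')) ((AlgSp.yon S).map (k j))
    have sqj : ∀ j, IsPullback
        (pullback.fst (pullback.snd snd ((AlgSp.yon S).map c')) ((AlgSp.yon S).map (k j)))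
        (pullback.snd (pullback.snd snd ((AlgSp.yon S).map c')) ((AlgSp.yon S).map (k j)))
        (pullback.snd snd ((AlgSp.yon S).map c')) ((AlgSp.yon S).map (k j)) :=
      fun j => IsPullback.of_hasPullback _ _
    have hXj : ∀ j, AlgSp.IsAlgSpace (Xj j) := fun j =>
      Groth.Agent.S9874.isAlgSpace_of_isPullback (AlgSp.IsAlgSpace.yon_obj Z').diag hX'
        (AlgSp.IsAlgSpace.yon_obj _) (sqj j)
    obtain ⟨hcX⟩ := Groth.Agent.Lib.H5bCoprodSp.isColimit_of_isPullback
      (Cofan.mk ((AlgSp.yon S).obj Z') (fun j => (AlgSp.yon S).map (k j))) hcY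
      (pullback.snd snd ((AlgSp.yon S).map c')) (fun j => pullback.fst _ _)
      (fun j => pullback.snd _ _) sqj
    haveI : Finite (ULift.{u} (Fin m)) := inferInstance
    refine h1 Xj (fun j => (AlgSp.yon S).obj (Wj j.down)) (fun j => pullback.snd _ _)
      (Cofan.mk X' (fun j => pullback.fst _ _))
      (Cofan.mk ((AlgSp.yon S).obj Z') (fun j => (AlgSp.yon S).map (k j))) hcX hcY
      (pullback.snd snd ((AlgSp.yon S).map c')) hXj (fun j => AlgSp.IsAlgSpace.yon_obj _) hX'
      (AlgSp.IsAlgSpace.yon_obj Z') (fun j => (sqj j).w) ?_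
    intro j
    -- `Xj j ⟶ h_{W_j}` is a base change of `p (idx j)`
    have sqA : IsPullback (pullback.fst _ _ ≫ pullback.fst snd ((AlgSp.yon S).map c'))
        (pullback.snd (pullback.snd snd ((AlgSp.yon S).map c')) ((AlgSp.yon S).map (k j)))
        snd ((AlgSp.yon S).map (k j) ≫ (AlgSp.yon S).map c') :=
      (sqj j).paste_horiz sqX'
    have sqB : IsPullback ((pullback.fst _ _ ≫ pullback.fst snd ((AlgSp.yon S).map c')) ≫ fst)
        (pullback.snd (pullback.snd snd ((AlgSp.yon S).map c')) ((AlgSp.yon S).map (k j)))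
        f (((AlgSp.yon S).map (k j) ≫ (AlgSp.yon S).map c') ≫ gZ) :=
      sqA.paste_horiz hpb
    have hcomp : ((AlgSp.yon S).map (k j) ≫ (AlgSp.yon S).map c') ≫ gZ = l j.down ≫ g (idx j.down) := by
      rw [← Functor.map_comp, hkc, hl]
    rw [hcomp] at sqB
    let t : Xj j ⟶ Xi (idx j.down) :=
      (sq (idx j.down)).lift ((pullback.fst _ _ ≫ pullback.fst snd ((AlgSp.yon S).map c')) ≫ fst)
        (pullback.snd (pullback.snd snd ((AlgSp.yon S).map c')) ((AlgSp.yon S).map (k j)) ≫
          l j.down) (by rw [Category.assoc]; exact sqB.w)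
    have ht1 : t ≫ q (idx j.down) =
        (pullback.fst _ _ ≫ pullback.fst snd ((AlgSp.yon S).map c')) ≫ fst :=
      (sq (idx j.down)).lift_fst _ _ _
    have ht2 : t ≫ p (idx j.down) =
        pullback.snd (pullback.snd snd ((AlgSp.yon S).map c')) ((AlgSp.yon S).map (k j)) ≫
          l j.down := (sq (idx j.down)).lift_snd _ _ _
    have sqC : IsPullback t
        (pullback.snd (pullback.snd snd ((AlgSp.yon S).map c')) ((AlgSp.yon S).map (k j)))
        (p (idx j.down)) (l j.down) := by
      refine IsPullback.of_right ?_ ht2 (sq (idx j.down))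
      rw [ht1]
      exact sqB
    exact (h2 (hXi (idx j.down)) (hYi (idx j.down)) (p (idx j.down))).1 (H (idx j.down))
      (Wj j.down) (hWaff j.down) (l j.down) (Xj j) t _ (hXj j) sqC

end Groth.Agent.S10571
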