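import Groth.Statements.S10579
import Mathlib
import Groth.Agent.Lib.H5bGeomUniFlat
import Groth.Agent.Lib.H5bLqfDim
import Groth.Agent.S10177

set_option autoImplicit false
set_option linter.style.haveILetI false
universe u
open CategoryTheory CategoryTheory.Limits AlgebraicGeometry
open AlgSp

namespace Groth.Agent.S10579

/-- Let f : X ⟶ Y be a morphism of algebraic spaces over S and x ∈ |X|. If X is geometrically unibranch
at x and f is flat at x, then Y is geometrically unibranch at the image point f(x). Here an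
algebraic space is geometrically unibranch at a point when for every etale chart from a scheme U and
every point u of U over it the local ring of U at u is geometrically unibranch. -/
theorem result {S : Scheme.{u}} {X Y : AlgSp.Space S} (f : X ⟶ Y) (x : AlgSp.Points X.obj)
    (hf : AlgSp.IsFlatAtMor f.hom x)
    (hX : ∀ (U : Over S) (a : (AlgSp.yon S).obj U ⟶ X.obj) (v : ↥U.left), AlgSp.RepWith @Etale a →
      AlgSp.Points.ofPt a v = x → CAlg2.IsGeomUnibranch ↥(U.left.presheaf.stalk v))
    (V : Over S) (b : (AlgSp.yon S).obj V ⟶ Y.obj) (w : ↥V.left) (hb : AlgSp.RepWith @Etale b)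
    (hw : AlgSp.Points.ofPt b w = AlgSp.Points.map f.hom x) :
    CAlg2.IsGeomUnibranch ↥(V.left.presheaf.stalk w) := by
  have hXa := X.property
  have hmulE := AlgSp.repWith_isMultiplicative (S := S) @Etale
  obtain ⟨U₀, a₀, ha₀, ha₀s⟩ := hXa.atlas
  obtain ⟨u₀, hu₀⟩ := Groth.Agent.S10177.surjective_ofPt a₀ ha₀s x
  obtain ⟨U, prU, p, hprU, cp, hpt⟩ :=
    Groth.Agent.Lib.H5bLqfDim.exists_chartPullback f.hom a₀ b hb
  obtain ⟨u, hu1, hu2⟩ := hpt u₀ w (by rw [← AlgSp.Points.map_ofPt, hu₀, hw])
  have ha : AlgSp.RepWith @Etale ((AlgSp.yon S).map prU ≫ a₀) :=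
    hmulE.comp_mem _ _ ((AlgSp.repWith_yon_map_iff @Etale prU).2 hprU) ha₀
  have hux : AlgSp.Points.ofPt ((AlgSp.yon S).map prU ≫ a₀) u = x := by
    rw [Groth.Agent.S10176.ofPt_map_comp, hu1, hu₀]
  have hfl : (p.left.stalkMap u).hom.Flat := hf _ b p u ha hb cp hux
  have hU : CAlg2.IsGeomUnibranch ↥(U.left.presheaf.stalk u) := hX U _ u ha hux
  have key : CAlg2.IsGeomUnibranch ↥(V.left.presheaf.stalk (p.left u)) :=
    Groth.Agent.Lib.H5bGeomUniFlat.isGeomUnibranch_of_flat (p.left.stalkMap u).hom hfl hU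
  rw [hu2] at key
  exact key

end Groth.Agent.S10579
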