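import Groth.Statements.S10582
import Mathlib
import Groth.Agent.S10644
import Groth.Agent.S10544
import Groth.Agent.S10180
import Groth.Agent.S10175
import Groth.Agent.S10177
import Groth.Agent.S9874
import Groth.Agent.S9938
import Groth.Agent.Lib.Helper12LocPCases

set_option autoImplicit false
set_option linter.style.haveILetI false
universe u
open CategoryTheory CategoryTheory.Limits AlgebraicGeometry
open AlgSp

namespace Groth.Agent.S10582

variable {S : Scheme.{u}}

/-- a flat, surjective, quasi-compact morphism of algebraic spaces is an fpqc covering. -/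
theorem isFpqcCover_single {X Y : AlgSp.Space S} (f : X ⟶ Y)
    (hqc : AlgSp.IsQuasiCompactMor f.hom) (hflat : AlgSp.LocP @Flat f.hom)
    (hsurj : AlgSp.IsSurjectiveMor f.hom) :
    AlgSp.IsFpqcCover (fun _ : PUnit.{u + 1} => X.obj) (fun _ => f.hom) := by
  refine ⟨fun _ => hflat, fun Z hZ h => ?_⟩
  haveI := hZ
  have sqP := IsPullback.of_hasPullback f.hom h
  have hP : AlgSp.IsAlgSpace (pullback f.hom h) :=
    Groth.Agent.S9874.isAlgSpace_of_isPullback Y.property.diag X.property
      (AlgSp.IsAlgSpace.yon_obj Z) sqP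
  have hqcZ : AlgSp.IsQuasiCompactSp ((AlgSp.yon S).obj Z) :=
    ⟨Z, 𝟙 _, AlgSp.repWith_id _ Z, AlgSp.repWith_id _ Z, inferInstance⟩
  have hPqc := hqc (AlgSp.IsAlgSpace.yon_obj Z) hqcZ h _ _ sqP
  obtain ⟨W, c, hW, hce, hcs⟩ := (Groth.Agent.S10180.result ⟨_, hP⟩).1 hPqc
  obtain ⟨k, hk⟩ := (AlgSp.yon S).map_surjective (c ≫ pullback.snd f.hom h)
  have hfl' : AlgSp.LocP @Flat (pullback.snd f.hom h) :=
    Groth.Agent.Lib.Helper12.LocPCases.good_flat.locP_baseChange X.property Y.property
      (AlgSp.IsAlgSpace.yon_obj Z) sqP hflat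
  refine ⟨1, fun _ => W, fun _ => k, fun _ => hW, fun _ => ?_, ?_, fun _ => ⟨PUnit.unit,
    c ≫ pullback.fst f.hom h, ?_⟩⟩
  · exact hfl' c (𝟙 _) k hce (AlgSp.repWith_id _ Z) (by rw [hk, Category.comp_id])
  · intro z
    obtain ⟨x, hx⟩ := hsurj (AlgSp.Points.ofPt h z)
    have e : AlgSp.Points.map h (AlgSp.Points.ofScheme Z z) = AlgSp.Points.map f.hom x := by
      rw [hx, AlgSp.Points.ofPt_eq_map_ofScheme]
    obtain ⟨p, hp1, hp2⟩ := Groth.Agent.S10175.exists_point_of_isPullback sqP.flip _ _ e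
    obtain ⟨w, hw⟩ := Groth.Agent.S10177.surjective_ofPt c hcs p
    refine ⟨0, w, ?_⟩
    apply (AlgSp.Points.schemeHomeo Z).injective
    have h1 : AlgSp.Points.map (pullback.snd f.hom h) (AlgSp.Points.ofPt c w) =
        AlgSp.Points.schemeHomeo Z (k.left w) := by
      rw [AlgSp.Points.map_ofPt, ← hk, AlgSp.Points.ofPt_eq_map_ofScheme]
      exact AlgSp.Points.map_yon_map_apply k w
    rw [hw, hp1] at h1
    exact h1.symm
  · rw [Category.assoc, sqP.w, ← Category.assoc, hk]

/-- A monomorphism of algebraic spaces that is quasi-compact, flat and surjective is an isomorphism. -/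
theorem result {S : Scheme.{u}} {X Y : AlgSp.Space S} (f : X ⟶ Y)
    (hqc : AlgSp.IsQuasiCompactMor f.hom) (hflat : AlgSp.LocP @Flat f.hom) (hsurj : AlgSp.IsSurjectiveMor f.hom)
    [Mono f.hom] : IsIso f.hom := by
  have hcov := isFpqcCover_single f hqc hflat hsurj
  have sq := IsPullback.of_hasPullback f.hom f.hom
  have hXX : AlgSp.IsAlgSpace (pullback f.hom f.hom) :=
    Groth.Agent.S9874.isAlgSpace_of_isPullback Y.property.diag X.property X.property sq
  haveI : IsIso (pullback.snd f.hom f.hom) := inferInstance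
  have het1 : AlgSp.IsEtaleMor (pullback.snd f.hom f.hom) := by
    intro U φ hφ
    exact (AlgSp.RepWith @Etale).comp_mem _ _ hφ
      (MorphismProperty.of_isIso (AlgSp.RepWith @Etale) _)
  have het : AlgSp.IsEtaleMor f.hom :=
    (Groth.Agent.S10544.result S (fun _ : PUnit.{u + 1} => X.obj) (fun _ => f.hom) Y.property
      (fun _ => X.property) hcov f.hom X.property (fun _ => pullback f.hom f.hom)
      (fun _ => pullback.snd f.hom f.hom) (fun _ => pullback.fst f.hom f.hom) (fun _ => hXX)
      (fun _ => sq)).2 (fun _ => het1)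
  have hinj : AlgSp.IsUnivInjectiveMor f.hom := by
    rw [← (Groth.Agent.S9938.result f).1]
    intro K _ str a b hab
    exact (cancel_mono f.hom).1 hab
  have hopen : AlgSp.RepWith @IsOpenImmersion f.hom := Groth.Agent.S10261.result f het hinj
  obtain ⟨k, hk⟩ := (Groth.Agent.S10194.result f hopen (𝟙 Y)).2 (by
    rintro _ ⟨y, rfl⟩
    exact hsurj _)
  have hk' : k.hom ≫ f.hom = 𝟙 _ := congrArg (fun φ => φ.hom) hk
  refine ⟨k.hom, ?_, hk'⟩
  rw [← cancel_mono f.hom, Category.assoc, hk', Category.comp_id, Category.id_comp]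

end Groth.Agent.S10582
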