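import Groth.Statements.S10595
import Mathlib
import Groth.Agent.Lib.H5bDeformFin
import Groth.Agent.Lib.H5bLqfDim

set_option autoImplicit false
universe u
open CategoryTheory CategoryTheory.Limits AlgebraicGeometry
open AlgSp

namespace Groth.Agent.S10595

/-- Let iB : B ⟶ B' be a finite order thickening of algebraic spaces over S (a thickening such that for
one n the (n+1)-st power of the ideal vanishes on every affine etale scheme chart), f' : X' ⟶ Y' a
morphism of algebraic spaces over B' (via g' : Y' ⟶ B') with X' flat over B', and f : X ⟶ Y, g : Y ⟶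
B its base change to B (both squares to iB cartesian, iX ≫ f' = f ≫ iY). If f is flat, then f' is
flat and g' : Y' ⟶ B' is flat at every point of Y' in the image of f'. -/
theorem result {S : Scheme.{u}} {X X' Y Y' B B' : AlgSp.Space S} (iX : X ⟶ X') (iY : Y ⟶ Y') (iB : B ⟶ B')
    (f : X ⟶ Y) (f' : X' ⟶ Y') (g : Y ⟶ B) (g' : Y' ⟶ B')
    (hcX : IsPullback iX.hom (f ≫ g).hom (f' ≫ g').hom iB.hom) (hcY : IsPullback iY.hom g.hom g'.hom iB.hom)
    (w : iX ≫ f' = f ≫ iY)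
    (hB : AlgSp.IsFinThickMor iB.hom) (hflat : AlgSp.LocP @Flat (f' ≫ g').hom)
    (hf : AlgSp.LocP @Flat f.hom) :
    AlgSp.LocP @Flat f'.hom ∧
    ∀ x' : AlgSp.Points X'.obj, AlgSp.IsFlatAtMor g'.hom (AlgSp.Points.map f'.hom x') := by
  have hmulE := AlgSp.repWith_isMultiplicative (S := S) @Etale
  obtain ⟨-, hfl, -⟩ :=
    Groth.Agent.Lib.H5bDeformFin.core_fin iX iY iB f f' g g' hcX hcY w hB hflat
  have part1 : AlgSp.LocP @Flat f'.hom := hfl.1 hf
  refine ⟨part1, ?_⟩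
  intro x' V W b c q v hb hc cq hv
  obtain ⟨U₀, a₀, ha₀, ha₀s⟩ := X'.property.atlas
  obtain ⟨u₀, hu₀⟩ := Groth.Agent.S10177.surjective_ofPt a₀ ha₀s x'
  obtain ⟨U, prU, p, hprU, cp, hpt⟩ :=
    Groth.Agent.Lib.H5bLqfDim.exists_chartPullback f'.hom a₀ b hb
  obtain ⟨u, hu1, hu2⟩ := hpt u₀ v (by rw [← AlgSp.Points.map_ofPt, hu₀, hv])
  have ha : AlgSp.RepWith @Etale ((AlgSp.yon S).map prU ≫ a₀) :=
    hmulE.comp_mem _ _ ((AlgSp.repWith_yon_map_iff @Etale prU).2 hprU) ha₀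
  have cpq : ((AlgSp.yon S).map prU ≫ a₀) ≫ (f' ≫ g').hom = (AlgSp.yon S).map (p ≫ q) ≫ c := by
    show ((AlgSp.yon S).map prU ≫ a₀) ≫ f'.hom ≫ g'.hom = _
    rw [← Category.assoc, cp, Category.assoc, cq, Functor.map_comp, Category.assoc]
  haveI h1 : Flat p.left := part1 _ b p ha hb cp
  haveI h2 : Flat (p.left ≫ q.left) := hflat _ c (p ≫ q) ha hc cpq
  have h3 := Groth.Agent.Lib.Helper5.FiberMor.flat_of_comp p.left q.left u
    (Flat.stalkMap (p.left ≫ q.left) u) (Flat.stalkMap p.left u)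
  rwa [hu2] at h3

end Groth.Agent.S10595
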