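import Groth.Statements.S10597
import Mathlib
import Groth.Agent.Lib.H5bDefIso
import Groth.Agent.Lib.H5bDeformFin

set_option autoImplicit false
universe u
open CategoryTheory CategoryTheory.Limits AlgebraicGeometry
open AlgSp

namespace Groth.Agent.S10597

/-- Let iB : B ⟶ B' be a finite order thickening of algebraic spaces over S (a thickening such that for
one n the (n+1)-st power of the ideal vanishes on every affine etale scheme chart), f' : X' ⟶ Y' a
morphism of algebraic spaces over B' (via g' : Y' ⟶ B') with X' flat over B', and f : X ⟶ Y, g : Y ⟶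
B its base change to B (both squares to iB cartesian, iX ≫ f' = f ≫ iY). Then f is an isomorphism,
resp. an open immersion, resp. a monomorphism, resp. finite locally free, resp. finite locally free
of degree d, if and only if f' is. -/
theorem result {S : Scheme.{u}} {X X' Y Y' B B' : AlgSp.Space S} (iX : X ⟶ X') (iY : Y ⟶ Y') (iB : B ⟶ B')
    (f : X ⟶ Y) (f' : X' ⟶ Y') (g : Y ⟶ B) (g' : Y' ⟶ B')
    (hcX : IsPullback iX.hom (f ≫ g).hom (f' ≫ g').hom iB.hom) (hcY : IsPullback iY.hom g.hom g'.hom iB.hom)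
    (w : iX ≫ f' = f ≫ iY)
    (hB : AlgSp.IsFinThickMor iB.hom) (hflat : AlgSp.LocP @Flat (f' ≫ g').hom) :
    (IsIso f.hom ↔ IsIso f'.hom) ∧
    (AlgSp.RepWith @IsOpenImmersion f.hom ↔ AlgSp.RepWith @IsOpenImmersion f'.hom) ∧
    (Mono f.hom ↔ Mono f'.hom) ∧
    (AlgSp.IsFinLocFreeMor f.hom ↔ AlgSp.IsFinLocFreeMor f'.hom) ∧
    (∀ d : ℕ, AlgSp.IsFinLocFreeOfDegMor d f.hom ↔ AlgSp.IsFinLocFreeOfDegMor d f'.hom) := by
  have sq2 : IsPullback iX.hom f.hom f'.hom iY.hom :=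
    IsPullback.of_bot hcX (congrArg (fun φ => φ.hom) w) hcY
  have hBt : AlgSp.RepWith AlgSp.thick iB.hom := by
    obtain ⟨n, h, -⟩ := hB
    exact h
  have hiY : AlgSp.IsThickMor iY.hom :=
    MorphismProperty.of_isPullback (P := AlgSp.RepWith AlgSp.thick) hcY.flip hBt
  have hiX : AlgSp.IsThickMor iX.hom :=
    MorphismProperty.of_isPullback (P := AlgSp.RepWith AlgSp.thick) hcX.flip hBt
  obtain ⟨-, hfl, hlft, hlqf, hlfp, -, hun, het⟩ :=
    Groth.Agent.Lib.H5bDeformFin.core_fin iX iY iB f f' g g' hcX hcY w hB hflat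
  obtain ⟨hiso, hopen⟩ := Groth.Agent.Lib.H5bDefIso.iso_openImm_iff iX iY f f' hiX hiY w sq2 het.1
  obtain ⟨-, -, hfin, -⟩ :=
    Groth.Agent.Lib.H5bThick.thick_global_iff iX iY f f' hiX hiY w sq2 hlft hlqf hun
  obtain ⟨hflf, hdeg⟩ :=
    Groth.Agent.Lib.H5bDefIso.finLocFree_iff iX iY f f' hiY sq2 hfin.1 hfl.1 hlfp.1
  refine ⟨hiso, hopen, ⟨fun hm => ?_, fun hm => ?_⟩, hflf, hdeg⟩
  · obtain ⟨Z, Z', iZ, δ, δ', p, p', q', hδ, hδ', sqZ', hcZ, wZ, m1, m2, -, -⟩ :=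
      Groth.Agent.Lib.H5bDefIso.exists_diag_data iX iY iB f f' g g' hcX hcY w
    have e : δ ≫ (p ≫ (f ≫ g)) = f ≫ g := by rw [← Category.assoc, hδ, Category.id_comp]
    have e' : δ' ≫ (p' ≫ (f' ≫ g')) = f' ≫ g' := by rw [← Category.assoc, hδ', Category.id_comp]
    have hcX' : IsPullback iX.hom (δ ≫ (p ≫ (f ≫ g))).hom (δ' ≫ (p' ≫ (f' ≫ g'))).hom iB.hom := by
      rw [e, e']
      exact hcX
    have hflat' : AlgSp.LocP @Flat (δ' ≫ (p' ≫ (f' ≫ g'))).hom := by
      rw [e']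
      exact hflat
    have sq2' : IsPullback iX.hom δ.hom δ'.hom iZ.hom :=
      IsPullback.of_bot hcX' (congrArg (fun φ => φ.hom) wZ) hcZ
    have hiZ : AlgSp.IsThickMor iZ.hom :=
      MorphismProperty.of_isPullback (P := AlgSp.RepWith AlgSp.thick) hcZ.flip hBt
    obtain ⟨-, -, -, -, -, -, -, het'⟩ :=
      Groth.Agent.Lib.H5bDeformFin.core_fin iX iZ iB δ δ' (p ≫ (f ≫ g)) (p' ≫ (f' ≫ g'))
        hcX' hcZ wZ hB hflat'
    obtain ⟨hiso', -⟩ :=
      Groth.Agent.Lib.H5bDefIso.iso_openImm_iff iX iZ δ δ' hiX hiZ wZ sq2' het'.1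
    exact m2 (hiso'.1 (m1 hm))
  · haveI := hm
    exact MorphismProperty.of_isPullback (P := MorphismProperty.monomorphisms _) sq2
      (MorphismProperty.monomorphisms.infer_property f'.hom)

end Groth.Agent.S10597
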