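import Groth.Statements.S10598
import Mathlib
import Groth.Agent.Lib.H5bFlatCI2
import Groth.Agent.Lib.H5bLqfDim

set_option autoImplicit false
universe u
open CategoryTheory CategoryTheory.Limits AlgebraicGeometry
open AlgSp

namespace Groth.Agent.S10598

/-- Let iB : B ⟶ B' be a thickening of algebraic spaces over S (representable, every base change to a
scheme a surjective closed immersion), f' : X' ⟶ Y' a morphism of algebraic spaces over B' (via g' :
Y' ⟶ B') with Y' locally of finite type over B' and X' flat and locally of finite presentation over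
B', and f : X ⟶ Y, g : Y ⟶ B its base change to B (both squares to iB cartesian, iX ≫ f' = f ≫ iY).
If f is flat, then f' is flat and g' : Y' ⟶ B' is flat at every point of Y' in the image of f'. -/
theorem result {S : Scheme.{u}} {X X' Y Y' B B' : AlgSp.Space S} (iX : X ⟶ X') (iY : Y ⟶ Y') (iB : B ⟶ B')
    (f : X ⟶ Y) (f' : X' ⟶ Y') (g : Y ⟶ B) (g' : Y' ⟶ B')
    (hcX : IsPullback iX.hom (f ≫ g).hom (f' ≫ g').hom iB.hom) (hcY : IsPullback iY.hom g.hom g'.hom iB.hom)
    (w : iX ≫ f' = f ≫ iY)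
    (hB : AlgSp.IsThickMor iB.hom)
    (hg' : AlgSp.LocP @LocallyOfFiniteType g'.hom)
    (hflat : AlgSp.LocP @Flat (f' ≫ g').hom) (hfp : AlgSp.LocP @LocallyOfFinitePresentation (f' ≫ g').hom)
    (hf : AlgSp.LocP @Flat f.hom) :
    AlgSp.LocP @Flat f'.hom ∧
    ∀ x' : AlgSp.Points X'.obj, AlgSp.IsFlatAtMor g'.hom (AlgSp.Points.map f'.hom x') := by
  have hX' := X'.property
  have hY' := Y'.property
  have hB' := B'.property
  have hmulE := AlgSp.repWith_isMultiplicative (S := S) @Etale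
  have hbcE := AlgSp.repWith_isStableUnderBaseChange (S := S) @Etale
  have hbcS := AlgSp.repWith_isStableUnderBaseChange (S := S) @Surjective
  -- `X = X' ×_{Y'} Y`
  have sq2 : IsPullback iX.hom f.hom f'.hom iY.hom :=
    IsPullback.of_bot hcX (congrArg (fun φ => φ.hom) w) hcY
  -- base charts
  obtain ⟨Wb, cb, hcb, hcbs⟩ := hB'.atlas
  have sqW := hB.rep.isPullback cb
  have htW : AlgSp.thick (hB.rep.snd cb).left := hB.property_snd cb
  have hcs : AlgSp.RepWith @Etale (hB.rep.fst cb) := hbcE.of_isPullback sqW.flip hcb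
  have hcss : AlgSp.RepWith @Surjective (hB.rep.fst cb) := hbcS.of_isPullback sqW.flip hcbs
  -- the cube of charts
  obtain ⟨Vb, Vs, bb, bs, qb, qs, tV, hbb, hbs, hbss, hbbimp, c2b, c2s, cV, sqV⟩ :=
    Groth.Agent.Lib.H5bFlatCI2.exists_relative_cartesian_chart_surj hY' hcY cb (hB.rep.fst cb)
      (hB.rep.snd cb) hcb hcs hcss sqW.w
  obtain ⟨Ub, Us, ab, as, pb, ps, tU, hab, has, hass, habimp, c1b, c1s, cU, sqU⟩ :=
    Groth.Agent.Lib.H5bFlatCI2.exists_relative_cartesian_chart_surj hX' sq2 bb bs tV hbb hbs hbss cV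
  have habs : AlgSp.RepWith @Surjective ab := habimp (hbbimp hcbs)
  have c12 : ab ≫ (f' ≫ g').hom = (AlgSp.yon S).map (pb ≫ qb) ≫ cb := by
    show ab ≫ f'.hom ≫ g'.hom = _
    rw [← Category.assoc, c1b, Category.assoc, c2b, Functor.map_comp, Category.assoc]
  haveI k1 : LocallyOfFinitePresentation (pb.left ≫ qb.left) := hfp ab cb (pb ≫ qb) hab hcb c12
  haveI k2 : Flat (pb.left ≫ qb.left) := hflat ab cb (pb ≫ qb) hab hcb c12
  haveI k3 : LocallyOfFiniteType qb.left := hg' bb cb qb hbb hcb c2b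
  haveI k4 : LocallyOfFinitePresentation pb.left :=
    Groth.Agent.Lib.Helper6.locallyOfFinitePresentation_of_comp (g := qb.left) k3 k1
  haveI hps : Flat ps.left := hf as bs ps has hbs c1s
  have hsV : Surjective tV.left :=
    MorphismProperty.of_isPullback (P := @Surjective) sqV.flip htW.2
  have hsU : Surjective tU.left :=
    MorphismProperty.of_isPullback (P := @Surjective) sqU.flip hsV
  have hpb : ∀ ub : ↥Ub.left, (pb.left.stalkMap ub).hom.Flat := by
    intro ub
    obtain ⟨us, rfl⟩ := hsU.surj ub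
    exact (Groth.Agent.Lib.H5bFlatBC.flat_stalkMap_baseChange_iff pb.left qb.left
      (hB.rep.snd cb).left tV.left qs.left sqV tU.left ps.left sqU us).1 (Flat.stalkMap ps.left us)
  -- part 1
  have part1 : AlgSp.LocP @Flat f'.hom := by
    intro U V a b p ha hb c
    apply Flat.of_stalkMap
    intro u
    obtain ⟨ub, hub⟩ := Groth.Agent.S10177.surjective_ofPt ab habs (AlgSp.Points.ofPt a u)
    exact Groth.Agent.Lib.H5bFlatCI.flatAt_of_chart f'.hom ab bb pb hab hbb c1b a b p ha hb c ub u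
      hub (hpb ub)
  refine ⟨part1, ?_⟩
  -- part 2
  intro x' V W b c q v hb hc cq hv
  obtain ⟨U₀, a₀, ha₀, ha₀s⟩ := hX'.atlas
  obtain ⟨u₀, hu₀⟩ := Groth.Agent.S10177.surjective_ofPt a₀ ha₀s x'
  obtain ⟨U, prU, p, hprU, cp, hpt⟩ :=
    Groth.Agent.Lib.H5bLqfDim.exists_chartPullback f'.hom a₀ b hb
  obtain ⟨u, hu1, hu2⟩ := hpt u₀ v (by rw [← AlgSp.Points.map_ofPt, hu₀, hv])
  have ha : AlgSp.RepWith @Etale ((AlgSp.yon S).map prU ≫ a₀) :=
    hmulE.comp_mem _ _ ((AlgSp.repWith_yon_map_iff @Etale prU).2 hprU) ha₀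
  have cpq : ((AlgSp.yon S).map prU ≫ a₀) ≫ (f' ≫ g').hom = (AlgSp.yon S).map (p ≫ q) ≫ c := by
    show ((AlgSp.yon S).map prU ≫ a₀) ≫ f'.hom ≫ g'.hom = _
    rw [← Category.assoc, cp, Category.assoc, cq, Functor.map_comp, Category.assoc]
  haveI h1 : Flat p.left := part1 _ b p ha hb cp
  haveI h2 : Flat (p.left ≫ q.left) := hflat _ c (p ≫ q) ha hc cpq
  have h3 := Groth.Agent.Lib.Helper5.FiberMor.flat_of_comp p.left q.left u
    (Flat.stalkMap (p.left ≫ q.left) u) (Flat.stalkMap p.left u)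
  rwa [hu2] at h3

end Groth.Agent.S10598
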