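import Groth.Statements.S10599
import Mathlib
import Groth.Agent.Lib.H5bDeform
import Groth.Agent.Lib.H5bFibDimBC
import Groth.Agent.Lib.Helper6LfpComp
import Groth.Agent.S1381
import Groth.Agent.S1384
import Groth.Agent.S1385
import Groth.Agent.S1312
import Groth.Agent.S1314
import Groth.Agent.S10265
import Groth.Agent.S10554

set_option autoImplicit false
universe u
open CategoryTheory CategoryTheory.Limits AlgebraicGeometry
open AlgSp

namespace Groth.Agent.S10599

open Groth.Agent.Lib.Helper12.LocPCases in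
/-- the common core of the deformation statements over an arbitrary thickening with finiteness
hypotheses. -/
theorem core {S : Scheme.{u}} {X X' Y Y' B B' : AlgSp.Space S} (iX : X ⟶ X') (iY : Y ⟶ Y') (iB : B ⟶ B')
    (f : X ⟶ Y) (f' : X' ⟶ Y') (g : Y ⟶ B) (g' : Y' ⟶ B')
    (hcX : IsPullback iX.hom (f ≫ g).hom (f' ≫ g').hom iB.hom) (hcY : IsPullback iY.hom g.hom g'.hom iB.hom)
    (w : iX ≫ f' = f ≫ iY)
    (hB : AlgSp.IsThickMor iB.hom)
    (hg' : AlgSp.LocP @LocallyOfFiniteType g'.hom)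
    (hflat : AlgSp.LocP @Flat (f' ≫ g').hom) (hfp : AlgSp.LocP @LocallyOfFinitePresentation (f' ≫ g').hom) :
    Function.Surjective (AlgSp.Points.map iX.hom) ∧
    AlgSp.LocP @LocallyOfFinitePresentation f'.hom ∧
    (AlgSp.LocP @Flat f.hom ↔ AlgSp.LocP @Flat f'.hom) ∧
    (AlgSp.LocP (@LocallyQuasiFinite ⊓ @LocallyOfFiniteType) f.hom ↔
      AlgSp.LocP (@LocallyQuasiFinite ⊓ @LocallyOfFiniteType) f'.hom) ∧
    (AlgSp.LocP @Smooth f.hom ↔ AlgSp.LocP @Smooth f'.hom) ∧
    (AlgSp.LocP (@LocallyOfFiniteType ⊓ @FormallyUnramified) f.hom ↔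
      AlgSp.LocP (@LocallyOfFiniteType ⊓ @FormallyUnramified) f'.hom) ∧
    (AlgSp.LocP @Etale f.hom ↔ AlgSp.LocP @Etale f'.hom) := by
  have sq2 : IsPullback iX.hom f.hom f'.hom iY.hom :=
    IsPullback.of_bot hcX (congrArg (fun φ => φ.hom) w) hcY
  obtain ⟨Wb, Ws, Vb, Vs, Ub, Us, cb, cs, bb, bs, ab, as, tW, tV, tU, qb, qs, pb, ps, ⟨hcb, hcbs⟩,
    ⟨hcs, hcss⟩, ⟨hbb, hbbs⟩, ⟨hbs, hbss⟩, ⟨hab, habs⟩, ⟨has, hass⟩, sqW, htW, c1b, c1s, c2b, c2s,
    cU, cV, sqV, sqU⟩ := Groth.Agent.Lib.H5bDeform.exists_deform_cube iX iY iB f f' g g' hcX hcY w hB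
  have c12 : ab ≫ (f' ≫ g').hom = (AlgSp.yon S).map (pb ≫ qb) ≫ cb := by
    show ab ≫ f'.hom ≫ g'.hom = _
    rw [← Category.assoc, c1b, Category.assoc, c2b, Functor.map_comp, Category.assoc]
  haveI k1 : LocallyOfFinitePresentation (pb.left ≫ qb.left) := hfp ab cb (pb ≫ qb) hab hcb c12
  haveI k2 : Flat (pb.left ≫ qb.left) := hflat ab cb (pb ≫ qb) hab hcb c12
  haveI k3 : LocallyOfFiniteType qb.left := hg' bb cb qb hbb hcb c2b
  haveI k4 : LocallyOfFinitePresentation pb.left :=
    Groth.Agent.Lib.Helper6.locallyOfFinitePresentation_of_comp (g := qb.left) k3 k1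
  have hthW : MoreMor.IsThickening tW.left := htW
  have hsV : Surjective tV.left :=
    MorphismProperty.of_isPullback (P := @Surjective) sqV.flip htW.2
  have hsU : Surjective tU.left :=
    MorphismProperty.of_isPullback (P := @Surjective) sqU.flip hsV
  have hthV : MoreMor.IsThickening tV.left :=
    ⟨MorphismProperty.of_isPullback (P := @IsClosedImmersion) sqV.flip htW.1, hsV⟩
  have hcXs : IsPullback tU.left (ps.left ≫ qs.left) (pb.left ≫ qb.left) tW.left :=
    sqU.paste_vert sqV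
  haveI k5 : LocallyOfFiniteType ps.left :=
    MorphismProperty.of_isPullback (P := @LocallyOfFiniteType) sqU (inferInstance)
  have hlfp' : AlgSp.LocP @LocallyOfFinitePresentation f'.hom :=
    Groth.Agent.Lib.H5bDeform.locP_of_surj_chart good_lfp X'.property Y'.property f'.hom ab bb pb
      hab habs hbb c1b k4
  refine ⟨Groth.Agent.Lib.H5bDeform.surjective_points_of_cube iX ab as tU habs cU hsU, hlfp',
    ?_, ?_, ?_, ?_, ?_⟩
  · exact Groth.Agent.Lib.H5bDeform.locP_iff_of_cube good_flat iX iY f f' sq2 ab as bb bs pb ps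
      hab habs hbb has hbs c1b c1s
      (fun h => (Groth.Agent.S1381.result tU.left tV.left tW.left ps.left pb.left qs.left qb.left
        hthW hcXs sqV sqU.w).1 h)
  · exact Groth.Agent.Lib.H5bDeform.locP_iff_of_cube good_lqf iX iY f f' sq2 ab as bb bs pb ps
      hab habs hbb has hbs c1b c1s
      (fun h => ⟨(Groth.Agent.S1312.result tU.left tV.left ps.left pb.left hthV sqU).1 h.1,
        inferInstance⟩)
  · exact Groth.Agent.Lib.H5bDeform.locP_iff_of_cube good_smooth iX iY f f' sq2 ab as bb bs pb ps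
      hab habs hbb has hbs c1b c1s
      (fun h => (Groth.Agent.S1384.result tU.left tV.left tW.left ps.left pb.left qs.left qb.left
        hthW hcXs sqV sqU.w).1 h)
  · exact Groth.Agent.Lib.H5bDeform.locP_iff_of_cube good_unram iX iY f f' sq2 ab as bb bs pb ps
      hab habs hbb has hbs c1b c1s
      (fun h => ⟨inferInstance,
        (Groth.Agent.S1314.result tU.left tV.left ps.left pb.left hthV sqU).1 h.2⟩)
  · exact Groth.Agent.Lib.H5bDeform.locP_iff_of_cube good_etale iX iY f f' sq2 ab as bb bs pb ps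
      hab habs hbb has hbs c1b c1s
      (fun h => (Groth.Agent.S1385.result tU.left tV.left tW.left ps.left pb.left qs.left qb.left
        hthW hcXs sqV sqU.w).1 h)

/-- Let iB : B ⟶ B' be a thickening of algebraic spaces over S (representable, every base change to a
scheme a surjective closed immersion), f' : X' ⟶ Y' a morphism of algebraic spaces over B' (via g' :
Y' ⟶ B') with Y' locally of finite type over B' and X' flat and locally of finite presentation over
B', and f : X ⟶ Y, g : Y ⟶ B its base change to B (both squares to iB cartesian, iX ≫ f' = f ≫ iY).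
Then f is locally of finite type of relative dimension d, resp. flat, resp. locally quasi-finite,
smooth, unramified, etale, if and only if f' is (etale-local sense; locally quasi-finite and
unramified include locally of finite type). -/
theorem result {S : Scheme.{u}} {X X' Y Y' B B' : AlgSp.Space S} (iX : X ⟶ X') (iY : Y ⟶ Y') (iB : B ⟶ B')
    (f : X ⟶ Y) (f' : X' ⟶ Y') (g : Y ⟶ B) (g' : Y' ⟶ B')
    (hcX : IsPullback iX.hom (f ≫ g).hom (f' ≫ g').hom iB.hom) (hcY : IsPullback iY.hom g.hom g'.hom iB.hom)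
    (w : iX ≫ f' = f ≫ iY)
    (hB : AlgSp.IsThickMor iB.hom)
    (hg' : AlgSp.LocP @LocallyOfFiniteType g'.hom)
    (hflat : AlgSp.LocP @Flat (f' ≫ g').hom) (hfp : AlgSp.LocP @LocallyOfFinitePresentation (f' ≫ g').hom) (d : ℕ) :
    ((AlgSp.LocP @LocallyOfFiniteType f.hom ∧
        ∀ x, AlgSp.HasAtMor (fun _ _ h u => FlatMor.fibreDimAt h u = (d : WithBot ℕ∞)) f.hom x) ↔
      (AlgSp.LocP @LocallyOfFiniteType f'.hom ∧
        ∀ x', AlgSp.HasAtMor (fun _ _ h u => FlatMor.fibreDimAt h u = (d : WithBot ℕ∞)) f'.hom x')) ∧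
    (AlgSp.LocP @Flat f.hom ↔ AlgSp.LocP @Flat f'.hom) ∧
    (AlgSp.LocP (@LocallyQuasiFinite ⊓ @LocallyOfFiniteType) f.hom ↔
      AlgSp.LocP (@LocallyQuasiFinite ⊓ @LocallyOfFiniteType) f'.hom) ∧
    (AlgSp.LocP @Smooth f.hom ↔ AlgSp.LocP @Smooth f'.hom) ∧
    (AlgSp.LocP (@LocallyOfFiniteType ⊓ @FormallyUnramified) f.hom ↔
      AlgSp.LocP (@LocallyOfFiniteType ⊓ @FormallyUnramified) f'.hom) ∧
    (AlgSp.IsEtaleMor f.hom ↔ AlgSp.IsEtaleMor f'.hom) := by
  have sq2 : IsPullback iX.hom f.hom f'.hom iY.hom :=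
    IsPullback.of_bot hcX (congrArg (fun φ => φ.hom) w) hcY
  obtain ⟨hsurj, hlfp', hfl, hlqf, hsm, hun, het⟩ :=
    core iX iY iB f f' g g' hcX hcY w hB hg' hflat hfp
  have hlft' : AlgSp.LocP @LocallyOfFiniteType f'.hom := by
    intro U V a b h ha hb c
    haveI : LocallyOfFinitePresentation h.left := hlfp' a b h ha hb c
    infer_instance
  have hlft : AlgSp.LocP @LocallyOfFiniteType f.hom :=
    Groth.Agent.Lib.Helper12.LocPCases.good_lft.locP_baseChange X'.property Y'.property Y.property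
      sq2 hlft'
  refine ⟨?_, hfl, hlqf, hsm, hun, ?_⟩
  · constructor
    · rintro ⟨-, hd⟩
      refine ⟨hlft', fun x' => ?_⟩
      obtain ⟨x, rfl⟩ := hsurj x'
      exact (Groth.Agent.Lib.H5bFibDimBC.hasAtMor_fibreDimAt_baseChange_iff X'.property
        Y'.property Y.property sq2 hlft' x (fun r => r = (d : WithBot ℕ∞))).1 (hd x)
    · rintro ⟨-, hd⟩
      exact ⟨hlft, fun x => (Groth.Agent.Lib.H5bFibDimBC.hasAtMor_fibreDimAt_baseChange_iff
        X'.property Y'.property Y.property sq2 hlft' x (fun r => r = (d : WithBot ℕ∞))).2 (hd _)⟩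
  · constructor
    · intro h
      exact Groth.Agent.S10554.isEtaleMor_of_locP Y'.property f'.hom
        (het.1 (Groth.Agent.S10265.locP_etale_of_isEtaleMor f.hom h))
    · intro h
      exact Groth.Agent.S10554.isEtaleMor_of_locP Y.property f.hom
        (het.2 (Groth.Agent.S10265.locP_etale_of_isEtaleMor f'.hom h))

end Groth.Agent.S10599
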