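import Groth.Statements.S10600
import Mathlib
import Groth.Agent.Lib.H5bDefIso
import Groth.Agent.S10599

set_option autoImplicit false
universe u
open CategoryTheory CategoryTheory.Limits AlgebraicGeometry
open AlgSp

namespace Groth.Agent.S10600

/-- Let iB : B ⟶ B' be a thickening of algebraic spaces over S (representable, every base change to a
scheme a surjective closed immersion), f' : X' ⟶ Y' a morphism of algebraic spaces over B' (via g' :
Y' ⟶ B') with Y' locally of finite type over B' and X' flat and locally of finite presentation over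
B', and f : X ⟶ Y, g : Y ⟶ B its base change to B (both squares to iB cartesian, iX ≫ f' = f ≫ iY).
Then f is an isomorphism, resp. an open immersion, resp. a monomorphism, resp. finite locally free,
resp. finite locally free of degree d, if and only if f' is. -/
theorem result {S : Scheme.{u}} {X X' Y Y' B B' : AlgSp.Space S} (iX : X ⟶ X') (iY : Y ⟶ Y') (iB : B ⟶ B')
    (f : X ⟶ Y) (f' : X' ⟶ Y') (g : Y ⟶ B) (g' : Y' ⟶ B')
    (hcX : IsPullback iX.hom (f ≫ g).hom (f' ≫ g').hom iB.hom) (hcY : IsPullback iY.hom g.hom g'.hom iB.hom)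
    (w : iX ≫ f' = f ≫ iY)
    (hB : AlgSp.IsThickMor iB.hom)
    (hg' : AlgSp.LocP @LocallyOfFiniteType g'.hom)
    (hflat : AlgSp.LocP @Flat (f' ≫ g').hom) (hfp : AlgSp.LocP @LocallyOfFinitePresentation (f' ≫ g').hom) :
    (IsIso f.hom ↔ IsIso f'.hom) ∧
    (AlgSp.RepWith @IsOpenImmersion f.hom ↔ AlgSp.RepWith @IsOpenImmersion f'.hom) ∧
    (Mono f.hom ↔ Mono f'.hom) ∧
    (AlgSp.IsFinLocFreeMor f.hom ↔ AlgSp.IsFinLocFreeMor f'.hom) ∧
    (∀ d : ℕ, AlgSp.IsFinLocFreeOfDegMor d f.hom ↔ AlgSp.IsFinLocFreeOfDegMor d f'.hom) := by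
  have sq2 : IsPullback iX.hom f.hom f'.hom iY.hom :=
    IsPullback.of_bot hcX (congrArg (fun φ => φ.hom) w) hcY
  have hBt : AlgSp.RepWith AlgSp.thick iB.hom := hB
  have hiY : AlgSp.IsThickMor iY.hom :=
    MorphismProperty.of_isPullback (P := AlgSp.RepWith AlgSp.thick) hcY.flip hBt
  have hiX : AlgSp.IsThickMor iX.hom :=
    MorphismProperty.of_isPullback (P := AlgSp.RepWith AlgSp.thick) hcX.flip hBt
  have lfp_le : (@LocallyOfFinitePresentation : MorphismProperty Scheme.{u}) ≤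
      @LocallyOfFiniteType := fun _ _ k hk => by
    haveI : LocallyOfFinitePresentation k := hk
    infer_instance
  obtain ⟨-, hlfp', hfl, hlqf, -, hun, het⟩ :=
    Groth.Agent.S10599.core iX iY iB f f' g g' hcX hcY w hB hg' hflat hfp
  have hlft' : AlgSp.LocP @LocallyOfFiniteType f'.hom :=
    Groth.Agent.Lib.Helper12.LargestOpen.locP_mono lfp_le hlfp'
  have hlfpf : AlgSp.LocP @LocallyOfFinitePresentation f.hom :=
    Groth.Agent.Lib.Helper12.LocPCases.good_lfp.locP_baseChange X'.property Y'.property Y.property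
      sq2 hlfp'
  have hlftf : AlgSp.LocP @LocallyOfFiniteType f.hom :=
    Groth.Agent.Lib.Helper12.LargestOpen.locP_mono lfp_le hlfpf
  have hlft : AlgSp.LocP @LocallyOfFiniteType f.hom ↔ AlgSp.LocP @LocallyOfFiniteType f'.hom :=
    ⟨fun _ => hlft', fun _ => hlftf⟩
  obtain ⟨hiso, hopen⟩ := Groth.Agent.Lib.H5bDefIso.iso_openImm_iff iX iY f f' hiX hiY w sq2 het.1
  obtain ⟨-, -, hfin, -⟩ :=
    Groth.Agent.Lib.H5bThick.thick_global_iff iX iY f f' hiX hiY w sq2 hlft hlqf hun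
  obtain ⟨hflf, hdeg⟩ :=
    Groth.Agent.Lib.H5bDefIso.finLocFree_iff iX iY f f' hiY sq2 hfin.1 hfl.1 (fun _ => hlfp')
  refine ⟨hiso, hopen, ⟨fun hm => ?_, fun hm => ?_⟩, hflf, hdeg⟩
  · obtain ⟨Z, Z', iZ, δ, δ', p, p', q', hδ, hδ', sqZ', hcZ, wZ, m1, m2, -, -⟩ :=
      Groth.Agent.Lib.H5bDefIso.exists_diag_data iX iY iB f f' g g' hcX hcY w
    have e : δ ≫ (p ≫ (f ≫ g)) = f ≫ g := by rw [← Category.assoc, hδ, Category.id_comp]
    have e' : δ' ≫ (p' ≫ (f' ≫ g')) = f' ≫ g' := by rw [← Category.assoc, hδ', Category.id_comp]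
    have hcX' : IsPullback iX.hom (δ ≫ (p ≫ (f ≫ g))).hom (δ' ≫ (p' ≫ (f' ≫ g'))).hom iB.hom := by
      rw [e, e']
      exact hcX
    have hflat' : AlgSp.LocP @Flat (δ' ≫ (p' ≫ (f' ≫ g'))).hom := by
      rw [e']
      exact hflat
    have hfp' : AlgSp.LocP @LocallyOfFinitePresentation (δ' ≫ (p' ≫ (f' ≫ g'))).hom := by
      rw [e']
      exact hfp
    have hp' : AlgSp.LocP @LocallyOfFiniteType p'.hom :=
      Groth.Agent.Lib.Helper12.LocPCases.good_lft.locP_baseChange X'.property Y'.property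
        X'.property sqZ'.flip hlft'
    have hfg' : AlgSp.LocP @LocallyOfFiniteType (f' ≫ g').hom :=
      Groth.Agent.Lib.Helper12.LargestOpen.locP_mono lfp_le hfp
    have hgZ : AlgSp.LocP @LocallyOfFiniteType (p' ≫ (f' ≫ g')).hom :=
      Groth.Agent.Lib.Helper12.LocPCases.good_lft.locP_comp X'.property B'.property p'.hom
        (f' ≫ g').hom hp' hfg'
    have sq2' : IsPullback iX.hom δ.hom δ'.hom iZ.hom :=
      IsPullback.of_bot hcX' (congrArg (fun φ => φ.hom) wZ) hcZ
    have hiZ : AlgSp.IsThickMor iZ.hom :=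
      MorphismProperty.of_isPullback (P := AlgSp.RepWith AlgSp.thick) hcZ.flip hBt
    obtain ⟨-, -, -, -, -, -, het'⟩ :=
      Groth.Agent.S10599.core iX iZ iB δ δ' (p ≫ (f ≫ g)) (p' ≫ (f' ≫ g'))
        hcX' hcZ wZ hB hgZ hflat' hfp'
    obtain ⟨hiso', -⟩ :=
      Groth.Agent.Lib.H5bDefIso.iso_openImm_iff iX iZ δ δ' hiX hiZ wZ sq2' het'.1
    exact m2 (hiso'.1 (m1 hm))
  · haveI := hm
    exact MorphismProperty.of_isPullback (P := MorphismProperty.monomorphisms _) sq2
      (MorphismProperty.monomorphisms.infer_property f'.hom)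

end Groth.Agent.S10600
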