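import Groth.Statements.S10603
import Mathlib
import Groth.Agent.Lib.H5bFibCrit
import Groth.Agent.Lib.Helper3FibCritSch

set_option autoImplicit false
universe u
open CategoryTheory CategoryTheory.Limits AlgebraicGeometry
open AlgSp

namespace Groth.Agent.S10603

/-- Let f : X ⟶ Y and h : Y ⟶ Z be morphisms of algebraic spaces over S. Suppose X is flat and locally
of finite presentation over Z, Y is locally of finite type over Z, and for every field K and every z
: Spec K ⟶ Z the base change X_z ⟶ Y_z of f is flat (fibres taken as pullback squares of fppf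
sheaves). Then f is flat; if moreover f is surjective, then h is flat. -/
theorem result {S : Scheme.{u}} {X Y Z : AlgSp.Space S} (f : X ⟶ Y) (h : Y ⟶ Z)
    (hfp : AlgSp.LocP @LocallyOfFinitePresentation (f ≫ h).hom) (hfl : AlgSp.LocP @Flat (f ≫ h).hom)
    (hft : AlgSp.LocP @LocallyOfFiniteType h.hom)
    (hfib : ∀ (K : Type u) [Field K] (sK : Spec (CommRingCat.of K) ⟶ S)
      (z : (AlgSp.yon S).obj (Over.mk sK) ⟶ Z.obj) (Xz Yz : AlgSp.Sp S)
      (pX : Xz ⟶ X.obj) (qX : Xz ⟶ (AlgSp.yon S).obj (Over.mk sK))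
      (pY : Yz ⟶ Y.obj) (qY : Yz ⟶ (AlgSp.yon S).obj (Over.mk sK)) (fz : Xz ⟶ Yz),
      IsPullback pX qX (f ≫ h).hom z → IsPullback pY qY h.hom z → fz ≫ pY = pX ≫ f.hom → fz ≫ qY = qX →
      AlgSp.LocP @Flat fz) :
    AlgSp.LocP @Flat f.hom ∧ (AlgSp.IsSurjectiveMor f.hom → AlgSp.LocP @Flat h.hom) := by
  have h1 : AlgSp.LocP @Flat f.hom := by
    refine Groth.Agent.Lib.H5bFibCrit.locP_flat_of_crit f h hfib ?_
    intro U V W a b c p q ha hb hc comm1 comm2 hF
    have comm12 : a ≫ (f ≫ h).hom = (AlgSp.yon S).map (p ≫ q) ≫ c := by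
      show a ≫ f.hom ≫ h.hom = _
      rw [← Category.assoc, comm1, Category.assoc, comm2, Functor.map_comp, Category.assoc]
    haveI h1 : LocallyOfFinitePresentation (p.left ≫ q.left) := hfp a c (p ≫ q) ha hc comm12
    haveI h2 : Flat (p.left ≫ q.left) := hfl a c (p ≫ q) ha hc comm12
    haveI h3 : LocallyOfFiniteType q.left := hft b c q hb hc comm2
    apply Flat.of_stalkMap
    intro x
    haveI := hF (q.left (p.left x))
    exact Groth.Agent.Lib.Helper3.FibCritSch.flat_stalkMap_of_flat_of_fiberMap p.left q.left x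
      (Flat.stalkMap _ x) (Flat.stalkMap _ _)
  exact ⟨h1, fun hs => Groth.Agent.Lib.H5bFibCrit.locP_flat_second f h hfl h1 hs⟩

end Groth.Agent.S10603
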