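import Groth.Statements.S10604
import Mathlib
import Groth.Agent.Lib.H5bFibCrit
import Groth.Agent.Lib.Helper3FibCritSch
import Groth.Agent.Lib.Helper12FibreSpec

set_option autoImplicit false
universe u
open CategoryTheory CategoryTheory.Limits AlgebraicGeometry
open AlgSp

namespace Groth.Agent.S10604

set_option linter.unusedVariables false
set_option linter.unusedSectionVars false
set_option linter.style.haveILetI false
open TensorProduct

open Groth.Agent.Lib.Helper3.EtGUSch Groth.Agent.Lib.Helper3.FibEtSch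
  Groth.Agent.Lib.Helper3.FibChart Groth.Agent.Lib.Helper3.FibCritA
  Groth.Agent.Lib.Helper3.FibCritD

set_option maxHeartbeats 3200000 in
/-- **Flat fibre criterion, pointwise form, locally Noetherian schemes.** -/
theorem flat_stalkMap_of_flat_of_fibre_noeth {X Y S : Scheme.{u}} (f : X ⟶ Y) (g : Y ⟶ S)
    [IsLocallyNoetherian X] [IsLocallyNoetherian Y] [IsLocallyNoetherian S]
    (x : X) (s : S) (hxs : (f ≫ g) x = s)
    (hflat : ((f ≫ g).stalkMap x).hom.Flat)
    (U' : X.Opens) (hxU' : x ∈ U')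
    (hfib : Flat ((((f ≫ g).fiberι s) ⁻¹ᵁ U').ι ≫ CohIII.fiberMapOver f (f ≫ g) g rfl s)) :
    (f.stalkMap x).hom.Flat := by
  subst hxs
  -- charts
  obtain ⟨S₀, hS₀, W, hW, hWS, hfxW, -⟩ := exists_affine_nhds g (f x) ⊤ trivial
  obtain ⟨V, hV, hxV, hVle⟩ := TopologicalSpace.Opens.isBasis_iff_nbhd.mp X.isBasis_affineOpens
    (show x ∈ U' ⊓ f ⁻¹ᵁ W from ⟨hxU', hfxW⟩)
  have hVU' : V ≤ U' := hVle.trans inf_le_left
  have hVW : V ≤ f ⁻¹ᵁ W := hVle.trans inf_le_right
  have hVS : V ≤ (f ≫ g) ⁻¹ᵁ S₀ := fun z hz => hWS (hVW hz)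
  let A := Γ(S, S₀)
  let B := Γ(Y, W)
  let C := Γ(X, V)
  letI algAB : Algebra A B := (g.appLE S₀ W hWS).hom.toAlgebra
  letI algBC : Algebra B C := (f.appLE W V hVW).hom.toAlgebra
  letI algAC : Algebra A C := ((f ≫ g).appLE S₀ V hVS).hom.toAlgebra
  haveI : IsScalarTower A B C := by
    refine IsScalarTower.of_algebraMap_eq' ?_
    show ((f ≫ g).appLE S₀ V hVS).hom = (f.appLE W V hVW).hom.comp (g.appLE S₀ W hWS).hom
    rw [← CommRingCat.hom_comp, Scheme.Hom.appLE_comp_appLE]
  have hsS₀ : (f ≫ g) x ∈ S₀ := hVS hxV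
  let p : Spec Γ(S, S₀) := hS₀.primeIdealOf ⟨(f ≫ g) x, hsS₀⟩
  let q : Spec Γ(X, V) := hV.primeIdealOf ⟨x, hxV⟩
  have hP : q.asIdeal.under A = p.asIdeal :=
    congr($(IsAffineOpen.comap_primeIdealOf_appLE S₀ hS₀ V hV hVS hxV).1)
  -- noetherianity
  haveI : IsNoetherianRing A := IsLocallyNoetherian.component_noetherian ⟨S₀, hS₀⟩
  haveI : IsNoetherianRing B := IsLocallyNoetherian.component_noetherian ⟨W, hW⟩
  haveI : IsNoetherianRing C := IsLocallyNoetherian.component_noetherian ⟨V, hV⟩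
  -- flatness
  have hflat' : Module.Flat A (LocalizedModule q.asIdeal.primeCompl C) :=
    (Groth.Agent.S0386.flat_stalkMap_iff_localizedModule S₀ hS₀ V hV hVS hxV).mp hflat
  -- the chart of the fibre map
  have h4 := ringHom_fibre_chart (P := @Flat) (Q := @RingHom.Flat) f g hS₀ hW hV hWS hVW hVS
    x hxV U' hVU' hfib
  let ρ₁ : B ⊗[A] p.asIdeal.ResidueField →ₐ[A] C ⊗[A] p.asIdeal.ResidueField :=
    Algebra.TensorProduct.map (IsScalarTower.toAlgHom A B C) (AlgHom.id A p.asIdeal.ResidueField)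
  have h4' : ρ₁.toRingHom.Flat := h4
  -- convert to the `κ`-left convention
  have h5 : (fiberMap (B := B) (C := C) p.asIdeal).toRingHom.Flat := by
    have hc : (fiberMap (B := B) (C := C) p.asIdeal).toRingHom =
        ((Algebra.TensorProduct.comm A C p.asIdeal.ResidueField).toAlgHom.toRingHom.comp
          ρ₁.toRingHom).comp
          (Algebra.TensorProduct.comm A p.asIdeal.ResidueField B).toAlgHom.toRingHom := by
      apply RingHom.ext
      intro z
      induction z using TensorProduct.induction_on with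
      | zero => simp
      | add a b ha hb => rw [map_add, map_add, ha, hb]
      | tmul a b => rfl
    rw [hc]
    refine RingHom.Flat.comp ?_ (RingHom.Flat.comp h4' ?_)
    · exact RingHom.Flat.of_bijective
        (Algebra.TensorProduct.comm A p.asIdeal.ResidueField B).bijective
    · exact RingHom.Flat.of_bijective
        (Algebra.TensorProduct.comm A C p.asIdeal.ResidueField).bijective
  -- ring lemma
  have h6 : Module.Flat B (LocalizedModule q.asIdeal.primeCompl C) :=
    flat_localizedModule_of_fiberMap_flat_noeth (A := A) (B := B) (C := C) p.asIdeal h5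
      q.asIdeal hP hflat'
  exact (Groth.Agent.S0386.flat_stalkMap_iff_localizedModule W hW V hV hVW hxV).mpr h6

/-- global form: flat fibre maps. -/
theorem flat_of_flat_of_fiberMap_noeth {X Y S : Scheme.{u}} (f : X ⟶ Y) (g : Y ⟶ S)
    [IsLocallyNoetherian X] [IsLocallyNoetherian Y] [IsLocallyNoetherian S]
    [Flat (f ≫ g)] (hF : ∀ s : S, Flat (MoreMor.fiberMap f g s)) : Flat f := by
  apply Flat.of_stalkMap
  intro x
  refine flat_stalkMap_of_flat_of_fibre_noeth f g x _ rfl (Flat.stalkMap _ x) ⊤ trivial ?_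
  rw [← Groth.Agent.Lib.Helper3.FibCritSch.fiberMap_eq_fiberMapOver]
  haveI := hF ((f ≫ g) x)
  infer_instance

/-- Let f : X ⟶ Y and h : Y ⟶ Z be morphisms of algebraic spaces over S with X, Y and Z locally
Noetherian. Assume X is flat over Z and for every field K and every z : Spec K ⟶ Z the base change
X_z ⟶ Y_z of f is flat (fibres taken as pullback squares of fppf sheaves). Then f is flat; if
moreover f is surjective, then h is flat. -/
theorem result {S : Scheme.{u}} {X Y Z : AlgSp.Space S} (f : X ⟶ Y) (h : Y ⟶ Z)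
    (hX : AlgSp.IsLocNoethSp X.obj) (hYn : AlgSp.IsLocNoethSp Y.obj) (hZ : AlgSp.IsLocNoethSp Z.obj)
    (hfl : AlgSp.LocP @Flat (f ≫ h).hom)
    (hfib : ∀ (K : Type u) [Field K] (sK : Spec (CommRingCat.of K) ⟶ S)
      (z : (AlgSp.yon S).obj (Over.mk sK) ⟶ Z.obj) (Xz Yz : AlgSp.Sp S)
      (pX : Xz ⟶ X.obj) (qX : Xz ⟶ (AlgSp.yon S).obj (Over.mk sK))
      (pY : Yz ⟶ Y.obj) (qY : Yz ⟶ (AlgSp.yon S).obj (Over.mk sK)) (fz : Xz ⟶ Yz),
      IsPullback pX qX (f ≫ h).hom z → IsPullback pY qY h.hom z → fz ≫ pY = pX ≫ f.hom → fz ≫ qY = qX →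
      AlgSp.LocP @Flat fz) :
    AlgSp.LocP @Flat f.hom ∧ (AlgSp.IsSurjectiveMor f.hom → AlgSp.LocP @Flat h.hom) := by
  have h1 : AlgSp.LocP @Flat f.hom := by
    refine Groth.Agent.Lib.H5bFibCrit.locP_flat_of_crit f h hfib ?_
    intro U V W a b c p q ha hb hc comm1 comm2 hF
    have comm12 : a ≫ (f ≫ h).hom = (AlgSp.yon S).map (p ≫ q) ≫ c := by
      show a ≫ f.hom ≫ h.hom = _
      rw [← Category.assoc, comm1, Category.assoc, comm2, Functor.map_comp, Category.assoc]
    haveI : IsLocallyNoetherian U.left :=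
      Groth.Agent.Lib.Helper12.FibreSpec.isLocallyNoetherian_of_chart hX a ha
    haveI : IsLocallyNoetherian V.left :=
      Groth.Agent.Lib.Helper12.FibreSpec.isLocallyNoetherian_of_chart hYn b hb
    haveI : IsLocallyNoetherian W.left :=
      Groth.Agent.Lib.Helper12.FibreSpec.isLocallyNoetherian_of_chart hZ c hc
    haveI h2 : Flat (p.left ≫ q.left) := hfl a c (p ≫ q) ha hc comm12
    exact flat_of_flat_of_fiberMap_noeth p.left q.left hF
  exact ⟨h1, fun hs => Groth.Agent.Lib.H5bFibCrit.locP_flat_second f h hfl h1 hs⟩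

end Groth.Agent.S10604
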