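import Groth.Statements.S10611
import Mathlib
import Groth.Agent.Lib.H5bThickGlob
import Groth.Agent.S10599

set_option autoImplicit false
universe u
open CategoryTheory CategoryTheory.Limits AlgebraicGeometry
open AlgSp

namespace Groth.Agent.S10611

/-- Let iB : B ⟶ B' be a thickening of algebraic spaces over S (representable, every base change to a
scheme a surjective closed immersion), f' : X' ⟶ Y' a morphism of algebraic spaces over B' (via g' :
Y' ⟶ B') with Y' locally of finite type over B' and X' flat and locally of finite presentation over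
B', and f : X ⟶ Y, g : Y ⟶ B its base change to B (both squares to iB cartesian, iX ≫ f' = f ≫ iY).
Then f is proper if and only if f' is proper, and f is finite if and only if f' is finite. (The
published statement lists nine further properties with the same equivalence: representable by
schemes, quasi-compact, universally closed, separated, quasi-separated, surjective, universally
injective, affine and universally open. Since iX and iY are again thickenings and X = Y ×_{Y'} X',
those cases follow from the corresponding statements for morphisms of thickenings and are not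
restated here.) -/
theorem result {S : Scheme.{u}} {X X' Y Y' B B' : AlgSp.Space S} (iX : X ⟶ X') (iY : Y ⟶ Y') (iB : B ⟶ B')
    (f : X ⟶ Y) (f' : X' ⟶ Y') (g : Y ⟶ B) (g' : Y' ⟶ B')
    (hcX : IsPullback iX.hom (f ≫ g).hom (f' ≫ g').hom iB.hom) (hcY : IsPullback iY.hom g.hom g'.hom iB.hom)
    (w : iX ≫ f' = f ≫ iY)
    (hB : AlgSp.IsThickMor iB.hom)
    (hg' : AlgSp.LocP @LocallyOfFiniteType g'.hom)
    (hflat : AlgSp.LocP @Flat (f' ≫ g').hom) (hfp : AlgSp.LocP @LocallyOfFinitePresentation (f' ≫ g').hom) :
    (AlgSp.IsProperMor f.hom ↔ AlgSp.IsProperMor f'.hom) ∧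
    (AlgSp.IsFiniteMor f.hom ↔ AlgSp.IsFiniteMor f'.hom) := by
  have sq2 : IsPullback iX.hom f.hom f'.hom iY.hom :=
    IsPullback.of_bot hcX (congrArg (fun φ => φ.hom) w) hcY
  have hBt : AlgSp.RepWith AlgSp.thick iB.hom := hB
  have hiY : AlgSp.IsThickMor iY.hom :=
    MorphismProperty.of_isPullback (P := AlgSp.RepWith AlgSp.thick) hcY.flip hBt
  have hiX : AlgSp.IsThickMor iX.hom :=
    MorphismProperty.of_isPullback (P := AlgSp.RepWith AlgSp.thick) hcX.flip hBt
  have lfp_le : (@LocallyOfFinitePresentation : MorphismProperty Scheme.{u}) ≤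
      @LocallyOfFiniteType := fun _ _ k hk => by
    haveI : LocallyOfFinitePresentation k := hk
    infer_instance
  obtain ⟨-, hlfp', -, hlqf, -, hun, -⟩ :=
    Groth.Agent.S10599.core iX iY iB f f' g g' hcX hcY w hB hg' hflat hfp
  have hlft' : AlgSp.LocP @LocallyOfFiniteType f'.hom :=
    Groth.Agent.Lib.Helper12.LargestOpen.locP_mono lfp_le hlfp'
  have hlftf : AlgSp.LocP @LocallyOfFiniteType f.hom :=
    Groth.Agent.Lib.Helper12.LocPCases.good_lft.locP_baseChange X'.property Y'.property Y.property
      sq2 hlft'
  have hlft : AlgSp.LocP @LocallyOfFiniteType f.hom ↔ AlgSp.LocP @LocallyOfFiniteType f'.hom :=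
    ⟨fun _ => hlft', fun _ => hlftf⟩
  obtain ⟨-, hprop, hfin, -⟩ :=
    Groth.Agent.Lib.H5bThick.thick_global_iff iX iY f f' hiX hiY w sq2 hlft hlqf hun
  exact ⟨hprop, hfin⟩

end Groth.Agent.S10611
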