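import Groth.Statements.S10615
import Mathlib
import Groth.Agent.Lib.H5bSmoothLift
import Groth.Agent.Lib.H5bFormalDesc
import Groth.Agent.Lib.H5bHasAtMor
import Groth.Agent.Lib.H5bFibCrit
import Groth.Agent.S10177

set_option autoImplicit false
universe u
open CategoryTheory CategoryTheory.Limits AlgebraicGeometry
open AlgSp

namespace Groth.Agent.S10615

open Groth.Agent.Lib.H5bSmoothLift Groth.Agent.Lib.H5bFormal Groth.Agent.Lib.H5bFibCrit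

/-- étale schemes over a closed subscheme of an affine scheme lift locally. -/
theorem exists_etale_lift_affine {W W₀ E : Scheme.{u}} [IsAffine W] (k : W₀ ⟶ W)
    [IsClosedImmersion k] (e : E ⟶ W₀) [Etale e] (x : E) :
    ∃ (W₁ W₁₀ : Scheme.{u}) (c : W₁ ⟶ W) (k₁ : W₁₀ ⟶ W₁) (r₁ : W₁₀ ⟶ E),
      IsAffine W₁ ∧ Etale c ∧ IsPullback k₁ (r₁ ≫ e) c k ∧ x ∈ Set.range r₁ := by
  obtain ⟨hW₀, hsurj⟩ := IsClosedImmersion.isAffine_surjective_of_isAffine k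
  haveI := hW₀
  let φ : Γ(W, ⊤) →+* Γ(W₀, ⊤) := k.appTop.hom
  have hsurj' : Function.Surjective φ := hsurj
  let I : Ideal Γ(W, ⊤) := RingHom.ker φ
  let ψe : Γ(W₀, ⊤) ≃+* Γ(W, ⊤) ⧸ I := (RingHom.quotientKerEquivOfSurjective hsurj').symm
  let ψ : Γ(W₀, ⊤) →+* Γ(W, ⊤) ⧸ I := ψe.toRingHom
  have hψ : ψ.comp φ = Ideal.Quotient.mk I := RingHom.quotientKerEquivOfSurjective_symm_comp hsurj'
  let k' : Spec (CommRingCat.of (Γ(W, ⊤) ⧸ I)) ⟶ W₀ :=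
    Spec.map (CommRingCat.ofHom ψ) ≫ W₀.isoSpec.inv
  have hcomp : k.appTop ≫ CommRingCat.ofHom ψ = CommRingCat.ofHom (Ideal.Quotient.mk I) := by
    apply CommRingCat.hom_ext
    exact hψ
  have hk : k' ≫ k = Spec.map (CommRingCat.ofHom (Ideal.Quotient.mk I)) ≫ W.isoSpec.inv := by
    calc k' ≫ k = Spec.map (CommRingCat.ofHom ψ) ≫ (W₀.isoSpec.inv ≫ k) := Category.assoc _ _ _
      _ = Spec.map (CommRingCat.ofHom ψ) ≫ (Spec.map k.appTop ≫ W.isoSpec.inv) := by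
          rw [Scheme.isoSpec_inv_naturality]
      _ = Spec.map (k.appTop ≫ CommRingCat.ofHom ψ) ≫ W.isoSpec.inv := by
          rw [Spec.map_comp, Category.assoc]
      _ = _ := by rw [hcomp]
  haveI : IsIso (CommRingCat.ofHom ψ) := (RingEquiv.toCommRingCatIso ψe).isIso_hom
  haveI : IsIso k' := by
    dsimp only [k']
    infer_instance
  haveI : Etale (e ≫ inv k') := inferInstance
  obtain ⟨W₁, W₁₀, c', k₁, r₁, hW₁, hc', sq, hx⟩ :=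
    exists_etale_lift_nbhd Γ(W, ⊤) I (e ≫ inv k') x
  haveI := hc'
  refine ⟨W₁, W₁₀, c' ≫ W.isoSpec.inv, k₁, r₁, hW₁, inferInstance, ?_, hx⟩
  have sq2 : IsPullback (Spec.map (CommRingCat.ofHom (Ideal.Quotient.mk I))) k' W.isoSpec.inv k :=
    IsPullback.of_vert_isIso ⟨hk.symm⟩
  have := sq.paste_vert sq2
  have e1 : (r₁ ≫ e ≫ inv k') ≫ k' = r₁ ≫ e := by
    rw [Category.assoc, Category.assoc, IsIso.inv_hom_id, Category.comp_id]
  rwa [e1] at this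

/-- étale schemes over a closed subscheme lift locally. -/
theorem exists_etale_lift_general {W W₀ E : Scheme.{u}} (k : W₀ ⟶ W)
    [IsClosedImmersion k] (e : E ⟶ W₀) [Etale e] (x : E) :
    ∃ (W₁ W₁₀ : Scheme.{u}) (c : W₁ ⟶ W) (k₁ : W₁₀ ⟶ W₁) (r₁ : W₁₀ ⟶ E),
      IsAffine W₁ ∧ Etale c ∧ IsPullback k₁ (r₁ ≫ e) c k ∧ x ∈ Set.range r₁ := by
  obtain ⟨Wa, hWa, hxa, -⟩ :=
    exists_isAffineOpen_mem_and_subset (X := W) (x := k (e x)) (U := ⊤) trivial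
  haveI : IsAffine Wa.toScheme := hWa
  let x' : (e ⁻¹ᵁ (k ⁻¹ᵁ Wa)).toScheme := ⟨x, hxa⟩
  obtain ⟨W₁, W₁₀, c, k₁, r₁, hW₁, hc, sq, hx⟩ :=
    exists_etale_lift_affine (k ∣_ Wa) (e ∣_ (k ⁻¹ᵁ Wa)) x'
  haveI := hc
  refine ⟨W₁, W₁₀, c ≫ Wa.ι, k₁, r₁ ≫ (e ⁻¹ᵁ (k ⁻¹ᵁ Wa)).ι, hW₁, inferInstance, ?_, ?_⟩
  · have sq2 : IsPullback (k ∣_ Wa) (k ⁻¹ᵁ Wa).ι Wa.ι k := isPullback_morphismRestrict k Wa
    have := sq.paste_vert sq2
    have e1 : (r₁ ≫ e ∣_ (k ⁻¹ᵁ Wa)) ≫ (k ⁻¹ᵁ Wa).ι = (r₁ ≫ (e ⁻¹ᵁ (k ⁻¹ᵁ Wa)).ι) ≫ e := by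
      rw [Category.assoc, Category.assoc, morphismRestrict_ι]
    rwa [e1] at this
  · obtain ⟨y, hy⟩ := hx
    refine ⟨y, ?_⟩
    rw [Scheme.Hom.comp_apply, hy]
    rfl

/-- Take a smooth morphism f : X ⟶ Y of algebraic spaces over S, let i : T ⟶ T' be a thickening of
algebraic spaces (representable, every base change to a scheme a surjective closed immersion) and
let a : T ⟶ X, b : T' ⟶ Y satisfy a ≫ f = i ≫ b. Then there is an etale covering of T' on whose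
members the dotted arrow exists: for every point t' of T' there are a scheme V, a representable
etale e : V ⟶ T' whose image contains t', and ℓ : V ⟶ X with ℓ ≫ f = e ≫ b whose restriction to T
×_{T'} V (any pullback square) is the restriction of a. -/
theorem result {S : Scheme.{u}} {X Y T T' : AlgSp.Space S} (f : X ⟶ Y)
    (hf : AlgSp.LocP @Smooth f.hom) (i : T ⟶ T')
    (hi : AlgSp.IsThickMor i.hom)
    (a : T ⟶ X) (b : T' ⟶ Y) (w : a ≫ f = i ≫ b) (t' : AlgSp.Points T'.obj) :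
    ∃ (V : Over S) (e : (AlgSp.yon S).obj V ⟶ T'.obj) (ℓ : (AlgSp.yon S).obj V ⟶ X.obj),
      AlgSp.RepWith @Etale e ∧ t' ∈ Set.range (AlgSp.Points.ofPt e) ∧ ℓ ≫ f.hom = e ≫ b.hom ∧
      ∀ (P : AlgSp.Sp S) (p₁ : P ⟶ T.obj) (p₂ : P ⟶ (AlgSp.yon S).obj V),
        IsPullback p₁ p₂ i.hom e → p₂ ≫ ℓ = p₁ ≫ a.hom := by
  obtain ⟨U, Vy, α, β, h, hαe, hαs, hβe, hβs, hαβ⟩ :=
    Groth.Agent.Lib.H5bHasAtMor.exists_atlas_chart X.property Y.property f.hom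
  haveI hsm : Smooth h.left := hf α β h hαe hβe hαβ
  obtain ⟨W, p, hpe, hps⟩ := T'.property.atlas
  obtain ⟨wp, hwp⟩ := Groth.Agent.S10177.surjective_ofPt p hps t'
  obtain ⟨W₀, k, r, sqW⟩ := hi.1 p
  obtain ⟨hkc', hks'⟩ := hi.2 p r k sqW
  have hkc : IsClosedImmersion k.left := hkc'
  have hks : Surjective k.left := hks'
  obtain ⟨w₀, hw₀⟩ := k.left.surjective wp
  obtain ⟨R₀, ρ, σ', sqR⟩ := hαe.1 (r ≫ a.hom)
  haveI hρe : Etale ρ.left := hαe.2 _ σ' ρ sqR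
  haveI hρs : Surjective ρ.left := hαs.2 _ σ' ρ sqR
  obtain ⟨σ, rfl⟩ := (AlgSp.yon S).map_surjective σ'
  obtain ⟨r₀, hr₀⟩ := ρ.left.surjective w₀
  obtain ⟨W₁, W₁₀, c, k₁, r₁, hW₁, hc, sq1, ⟨w₁₀, hw₁₀⟩⟩ :=
    exists_etale_lift_general k.left ρ.left r₀
  haveI := hW₁
  haveI := hc
  haveI : IsClosedImmersion k₁ :=
    MorphismProperty.of_isPullback (P := @IsClosedImmersion) sq1.flip hkc
  haveI : Surjective k₁ := MorphismProperty.of_isPullback (P := @Surjective) sq1.flip hks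
  let W₁' : Over S := Over.mk (c ≫ W.hom)
  let W₁₀' : Over S := Over.mk (k₁ ≫ c ≫ W.hom)
  let cO : W₁' ⟶ W := Over.homMk c rfl
  let k₁O : W₁₀' ⟶ W₁' := Over.homMk k₁ rfl
  have hr₁ : r₁ ≫ R₀.hom = k₁ ≫ c ≫ W.hom := by
    calc r₁ ≫ R₀.hom = r₁ ≫ ρ.left ≫ k.left ≫ W.hom := by rw [Over.w k, Over.w ρ]
      _ = ((r₁ ≫ ρ.left) ≫ k.left) ≫ W.hom := by simp only [Category.assoc]
      _ = (k₁ ≫ c) ≫ W.hom := by rw [← sq1.w]
      _ = _ := Category.assoc _ _ _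
  let r₁O : W₁₀' ⟶ R₀ := Over.homMk r₁ hr₁
  have hsqO : r₁O ≫ ρ ≫ k = k₁O ≫ cO := by
    apply Over.OverMorphism.ext
    change r₁ ≫ ρ.left ≫ k.left = k₁ ≫ c
    rw [sq1.w, Category.assoc]
  obtain ⟨Q, q₁, q₂', sqQ⟩ := hβe.1 ((AlgSp.yon S).map cO ≫ p ≫ b.hom)
  haveI hq₁ : Etale q₁.left := hβe.2 _ q₂' q₁ sqQ
  obtain ⟨q₂, rfl⟩ := (AlgSp.yon S).map_surjective q₂'
  have wh : a.hom ≫ f.hom = i.hom ≫ b.hom := congrArg (fun φ => φ.hom) w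
  have E1 : (AlgSp.yon S).map σ ≫ α ≫ f.hom =
      (AlgSp.yon S).map ρ ≫ (AlgSp.yon S).map k ≫ p ≫ b.hom := by
    calc (AlgSp.yon S).map σ ≫ α ≫ f.hom = ((AlgSp.yon S).map σ ≫ α) ≫ f.hom :=
          (Category.assoc _ _ _).symm
      _ = ((AlgSp.yon S).map ρ ≫ r ≫ a.hom) ≫ f.hom := by rw [sqR.w]
      _ = (AlgSp.yon S).map ρ ≫ r ≫ a.hom ≫ f.hom := by simp only [Category.assoc]
      _ = (AlgSp.yon S).map ρ ≫ (r ≫ i.hom) ≫ b.hom := by rw [wh]; simp only [Category.assoc]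
      _ = (AlgSp.yon S).map ρ ≫ ((AlgSp.yon S).map k ≫ p) ≫ b.hom := by rw [sqW.w]
      _ = _ := by simp only [Category.assoc]
  have hcompat : (AlgSp.yon S).map (r₁O ≫ σ ≫ h) ≫ β =
      (AlgSp.yon S).map k₁O ≫ (AlgSp.yon S).map cO ≫ p ≫ b.hom := by
    calc (AlgSp.yon S).map (r₁O ≫ σ ≫ h) ≫ β
        = (AlgSp.yon S).map r₁O ≫ (AlgSp.yon S).map σ ≫ (AlgSp.yon S).map h ≫ β := by
          simp only [CategoryTheory.Functor.map_comp, Category.assoc]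
      _ = (AlgSp.yon S).map r₁O ≫ (AlgSp.yon S).map σ ≫ α ≫ f.hom := by rw [hαβ]
      _ = (AlgSp.yon S).map r₁O ≫ (AlgSp.yon S).map ρ ≫ (AlgSp.yon S).map k ≫ p ≫ b.hom := by
          rw [E1]
      _ = (AlgSp.yon S).map (r₁O ≫ ρ ≫ k) ≫ p ≫ b.hom := by
          simp only [CategoryTheory.Functor.map_comp, Category.assoc]
      _ = (AlgSp.yon S).map (k₁O ≫ cO) ≫ p ≫ b.hom := by rw [hsqO]
      _ = _ := by simp only [CategoryTheory.Functor.map_comp, Category.assoc]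
  obtain ⟨sQ', hsQ1, hsQ2⟩ : ∃ m : (AlgSp.yon S).obj W₁₀' ⟶ (AlgSp.yon S).obj Q,
      m ≫ (AlgSp.yon S).map q₂ = (AlgSp.yon S).map (r₁O ≫ σ ≫ h) ∧
        m ≫ (AlgSp.yon S).map q₁ = (AlgSp.yon S).map k₁O :=
    ⟨sqQ.lift _ _ hcompat, sqQ.lift_fst _ _ _, sqQ.lift_snd _ _ _⟩
  obtain ⟨sQ, rfl⟩ := (AlgSp.yon S).map_surjective sQ'
  have hsQ1' : sQ ≫ q₂ = r₁O ≫ σ ≫ h := (AlgSp.yon S).map_injective (by
    rw [CategoryTheory.Functor.map_comp]; exact hsQ1)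
  have hsQ2' : sQ ≫ q₁ = k₁O := (AlgSp.yon S).map_injective (by
    rw [CategoryTheory.Functor.map_comp]; exact hsQ2)
  let g : pullback q₂.left h.left ⟶ W₁ := pullback.fst q₂.left h.left ≫ q₁.left
  haveI : Smooth g := inferInstance
  have hsP : sQ.left ≫ q₂.left = (r₁ ≫ σ.left) ≫ h.left := by
    have := congrArg (fun m => m.left) hsQ1'
    simp only [Over.comp_left] at this
    rw [Category.assoc]
    exact this
  let s : W₁₀ ⟶ pullback q₂.left h.left := pullback.lift sQ.left (r₁ ≫ σ.left) hsP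
  have hs : s ≫ g = k₁ ≫ 𝟙 W₁ := by
    rw [Category.comp_id]
    dsimp only [s, g]
    rw [pullback.lift_fst_assoc]
    exact congrArg (fun m => m.left) hsQ2'
  obtain ⟨W', ℓ, hw', hW', hℓ1, hℓ2⟩ := exists_local_lift g k₁ (𝟙 W₁) s hs w₁₀
  rw [Category.comp_id] at hℓ1
  let V : Over S := Over.mk (W'.ι ≫ c ≫ W.hom)
  let ιO : V ⟶ W₁' := Over.homMk W'.ι rfl
  have hℓQ : (ℓ ≫ pullback.fst q₂.left h.left) ≫ Q.hom = W'.ι ≫ c ≫ W.hom := by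
    calc (ℓ ≫ pullback.fst q₂.left h.left) ≫ Q.hom
        = (ℓ ≫ pullback.fst q₂.left h.left) ≫ q₁.left ≫ W₁'.hom := by rw [Over.w q₁]
      _ = (ℓ ≫ g) ≫ c ≫ W.hom := by simp only [g, Category.assoc]; rfl
      _ = W'.ι ≫ c ≫ W.hom := by rw [hℓ1]
  have hℓU : (ℓ ≫ pullback.snd q₂.left h.left) ≫ U.hom = W'.ι ≫ c ≫ W.hom := by
    calc (ℓ ≫ pullback.snd q₂.left h.left) ≫ U.hom
        = ℓ ≫ (pullback.snd q₂.left h.left ≫ h.left) ≫ Vy.hom := by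
          rw [← Over.w h]; simp only [Category.assoc]
      _ = ℓ ≫ (pullback.fst q₂.left h.left ≫ q₂.left) ≫ Vy.hom := by rw [pullback.condition]
      _ = (ℓ ≫ pullback.fst q₂.left h.left) ≫ Q.hom := by
          rw [← Over.w q₂]; simp only [Category.assoc]
      _ = _ := hℓQ
  let ℓU : V ⟶ U := Over.homMk (ℓ ≫ pullback.snd q₂.left h.left) hℓU
  let ℓQ : V ⟶ Q := Over.homMk (ℓ ≫ pullback.fst q₂.left h.left) hℓQ
  have hℓQ1 : ℓQ ≫ q₁ = ιO := by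
    apply Over.OverMorphism.ext
    change (ℓ ≫ pullback.fst q₂.left h.left) ≫ q₁.left = W'.ι
    rw [Category.assoc]
    exact hℓ1
  have hℓQ2 : ℓQ ≫ q₂ = ℓU ≫ h := by
    apply Over.OverMorphism.ext
    change (ℓ ≫ pullback.fst q₂.left h.left) ≫ q₂.left = (ℓ ≫ pullback.snd q₂.left h.left) ≫ h.left
    rw [Category.assoc, Category.assoc, pullback.condition]
  refine ⟨V, (AlgSp.yon S).map (ιO ≫ cO) ≫ p, (AlgSp.yon S).map ℓU ≫ α, ?_, ?_, ?_, ?_⟩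
  · have hét : Etale (ιO ≫ cO).left := by
      change Etale (W'.ι ≫ c)
      infer_instance
    haveI := AlgSp.repWith_isMultiplicative (S := S) @Etale
    exact MorphismProperty.comp_mem _ _ _ ((AlgSp.repWith_yon_map_iff @Etale _).2 hét) hpe
  · refine ⟨⟨k₁ w₁₀, hw'⟩, ?_⟩
    rw [Groth.Agent.S10176.ofPt_map_comp]
    have : (ιO ≫ cO).left ⟨k₁ w₁₀, hw'⟩ = wp := by
      change c (k₁ w₁₀) = wp
      rw [← Scheme.Hom.comp_apply, sq1.w, Scheme.Hom.comp_apply, Scheme.Hom.comp_apply, hw₁₀, hr₀,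
        hw₀]
    rw [this, hwp]
  · calc ((AlgSp.yon S).map ℓU ≫ α) ≫ f.hom
        = (AlgSp.yon S).map ℓU ≫ (AlgSp.yon S).map h ≫ β := by rw [Category.assoc, hαβ]
      _ = (AlgSp.yon S).map (ℓU ≫ h) ≫ β := by
          rw [CategoryTheory.Functor.map_comp, Category.assoc]
      _ = (AlgSp.yon S).map (ℓQ ≫ q₂) ≫ β := by rw [hℓQ2]
      _ = (AlgSp.yon S).map ℓQ ≫ (AlgSp.yon S).map q₂ ≫ β := by
          rw [CategoryTheory.Functor.map_comp, Category.assoc]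
      _ = (AlgSp.yon S).map ℓQ ≫ (AlgSp.yon S).map q₁ ≫ (AlgSp.yon S).map cO ≫ p ≫ b.hom := by
          rw [sqQ.w]
      _ = (AlgSp.yon S).map (ℓQ ≫ q₁) ≫ (AlgSp.yon S).map cO ≫ p ≫ b.hom := by
          rw [CategoryTheory.Functor.map_comp, Category.assoc]
      _ = (AlgSp.yon S).map ιO ≫ (AlgSp.yon S).map cO ≫ p ≫ b.hom := by rw [hℓQ1]
      _ = ((AlgSp.yon S).map (ιO ≫ cO) ≫ p) ≫ b.hom := by
          simp only [CategoryTheory.Functor.map_comp, Category.assoc]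
  · intro Pp p₁ p₂ hPp
    let V₀ : Over S := Over.mk ((k₁ ⁻¹ᵁ W').ι ≫ k₁ ≫ c ≫ W.hom)
    have hkV : (k₁ ∣_ W') ≫ V.hom = V₀.hom := by
      change (k₁ ∣_ W') ≫ W'.ι ≫ c ≫ W.hom = (k₁ ⁻¹ᵁ W').ι ≫ k₁ ≫ c ≫ W.hom
      rw [← Category.assoc, morphismRestrict_ι, Category.assoc]
    let kV : V₀ ⟶ V := Over.homMk (k₁ ∣_ W') hkV
    let rV : V₀ ⟶ W₁₀' := Over.homMk (k₁ ⁻¹ᵁ W').ι rfl
    have sqA : IsPullback ((AlgSp.yon S).map rV) ((AlgSp.yon S).map kV) ((AlgSp.yon S).map k₁O)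
        ((AlgSp.yon S).map ιO) :=
      isPullback_yon_of_left rV kV k₁O ιO
        (Over.OverMorphism.ext (morphismRestrict_ι k₁ W').symm)
        (isPullback_morphismRestrict k₁ W').flip
    have sqB : IsPullback ((AlgSp.yon S).map (r₁O ≫ ρ)) ((AlgSp.yon S).map k₁O)
        ((AlgSp.yon S).map k) ((AlgSp.yon S).map cO) :=
      isPullback_yon_of_left (r₁O ≫ ρ) k₁O k cO (by rw [Category.assoc]; exact hsqO) sq1.flip
    have big := (sqA.paste_horiz sqB).paste_horiz sqW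
    have he : (AlgSp.yon S).map (ιO ≫ cO) ≫ p =
        ((AlgSp.yon S).map ιO ≫ (AlgSp.yon S).map cO) ≫ p := by
      rw [CategoryTheory.Functor.map_comp]
    rw [he] at hPp
    obtain ⟨m, hm1, hm2⟩ : ∃ m : Pp ⟶ (AlgSp.yon S).obj V₀,
        m ≫ (((AlgSp.yon S).map rV ≫ (AlgSp.yon S).map (r₁O ≫ ρ)) ≫ r) = p₁ ∧
          m ≫ (AlgSp.yon S).map kV = p₂ :=
      ⟨big.lift p₁ p₂ hPp.w, big.lift_fst _ _ _, big.lift_snd _ _ _⟩
    have hkl : kV ≫ ℓU = rV ≫ r₁O ≫ σ := by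
      apply Over.OverMorphism.ext
      change (k₁ ∣_ W') ≫ ℓ ≫ pullback.snd q₂.left h.left = (k₁ ⁻¹ᵁ W').ι ≫ r₁ ≫ σ.left
      rw [← Category.assoc, hℓ2, Category.assoc]
      dsimp only [s]
      rw [pullback.lift_snd]
    have key : (AlgSp.yon S).map kV ≫ (AlgSp.yon S).map ℓU ≫ α =
        (((AlgSp.yon S).map rV ≫ (AlgSp.yon S).map (r₁O ≫ ρ)) ≫ r) ≫ a.hom := by
      calc (AlgSp.yon S).map kV ≫ (AlgSp.yon S).map ℓU ≫ α
          = (AlgSp.yon S).map (kV ≫ ℓU) ≫ α := by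
            rw [CategoryTheory.Functor.map_comp, Category.assoc]
        _ = (AlgSp.yon S).map (rV ≫ r₁O ≫ σ) ≫ α := by rw [hkl]
        _ = (AlgSp.yon S).map rV ≫ (AlgSp.yon S).map r₁O ≫ (AlgSp.yon S).map σ ≫ α := by
            simp only [CategoryTheory.Functor.map_comp, Category.assoc]
        _ = (AlgSp.yon S).map rV ≫ (AlgSp.yon S).map r₁O ≫ (AlgSp.yon S).map ρ ≫ r ≫ a.hom := by
            rw [sqR.w]
        _ = _ := by simp only [CategoryTheory.Functor.map_comp, Category.assoc]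
    calc p₂ ≫ (AlgSp.yon S).map ℓU ≫ α
        = (m ≫ (AlgSp.yon S).map kV) ≫ (AlgSp.yon S).map ℓU ≫ α := by rw [hm2]
      _ = m ≫ ((AlgSp.yon S).map kV ≫ (AlgSp.yon S).map ℓU ≫ α) := Category.assoc _ _ _
      _ = m ≫ ((((AlgSp.yon S).map rV ≫ (AlgSp.yon S).map (r₁O ≫ ρ)) ≫ r) ≫ a.hom) := by
          rw [key]
      _ = (m ≫ (((AlgSp.yon S).map rV ≫ (AlgSp.yon S).map (r₁O ≫ ρ)) ≫ r)) ≫ a.hom :=
          (Category.assoc _ _ _).symm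
      _ = p₁ ≫ a.hom := by rw [hm1]

end Groth.Agent.S10615
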