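import Groth.Statements.S10627
import Mathlib
import Groth.Agent.Lib.H5bFormalChart
import Groth.Agent.S10265
import Groth.Agent.S10554
import Groth.Agent.S1489

set_option autoImplicit false
universe u
open CategoryTheory CategoryTheory.Limits AlgebraicGeometry
open AlgSp

namespace Groth.Agent.S10627

open Groth.Agent.Lib.H5bFormal

/-- A morphism f : X ⟶ Y of algebraic spaces over S is etale if and only if it is locally of finite
presentation and formally etale (lifting sense). -/
theorem result {S : Scheme.{u}} {X Y : AlgSp.Space S} (f : X ⟶ Y) :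
    AlgSp.IsEtaleMor f.hom ↔ AlgSp.LocP @LocallyOfFinitePresentation f.hom ∧ AlgSp.IsFormallyEtaleMor f.hom := by
  constructor
  · intro hf
    obtain ⟨-, -, hflat, hlfp, -, hunr⟩ := Groth.Agent.S10265.result f hf
    exact ⟨hlfp, formallyEtale_of_flat_unramified X.property Y.property f.hom hunr hflat⟩
  · rintro ⟨hlfp, hfe⟩
    apply Groth.Agent.S10554.isEtaleMor_of_locP Y.property
    intro U V a b h hae hbe hw
    exact (Groth.Agent.S1489.result h.left).2
      ⟨hlfp a b h hae hbe hw, formallyEtaleHom_chart_of f.hom hfe a b h hae hbe hw⟩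

end Groth.Agent.S10627
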