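import Groth.Statements.S10634
import Mathlib
import Groth.Agent.Lib.H5bUFTD
import Groth.Agent.S9731

set_option autoImplicit false
universe u
open CategoryTheory CategoryTheory.Limits AlgebraicGeometry
open AlgSp

namespace Groth.Agent.S10634

open Groth.Agent.Lib.H5bUFT in
theorem main {S : Scheme.{u}} {Z X : AlgSp.Space S} (h : Z ⟶ X)
    (hh : AlgSp.IsFormallyUnramifiedMor h.hom) :
    ∃ (Z' : AlgSp.Space S) (i : Z ⟶ Z') (h' : Z' ⟶ X), AlgSp.IsUnivFOThick h.hom i.hom h'.hom := by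
  obtain ⟨U, u, hue, hus⟩ := X.property.atlas
  obtain ⟨V₀, p₀, hp₀e, hp₀s⟩ := Z.property.atlas
  obtain ⟨V, q, fst, sq⟩ := hue.1 (p₀ ≫ h.hom)
  obtain ⟨ψ, rfl⟩ := (AlgSp.yon S).map_surjective fst
  have hqe : Etale q.left := hue.2 _ _ _ sq
  have hqs : Surjective q.left := hus.2 _ _ _ sq
  have hpe : AlgSp.RepWith @Etale ((AlgSp.yon S).map q ≫ p₀) :=
    (AlgSp.repWith_isMultiplicative (S := S) @Etale).comp_mem _ _
      ((AlgSp.repWith_yon_map_iff _ _).2 hqe) hp₀e
  have hps : AlgSp.RepWith @Surjective ((AlgSp.yon S).map q ≫ p₀) :=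
    (AlgSp.repWith_isMultiplicative (S := S) @Surjective).comp_mem _ _
      ((AlgSp.repWith_yon_map_iff _ _).2 hqs) hp₀s
  have hψ : (AlgSp.yon S).map ψ ≫ u = ((AlgSp.yon S).map q ≫ p₀) ≫ h.hom := by
    rw [Category.assoc]; exact sq.w
  obtain ⟨R, s, t₀, hk₀⟩ := hpe.1 ((AlgSp.yon S).map q ≫ p₀)
  obtain ⟨t, rfl⟩ := (AlgSp.yon S).map_surjective t₀
  have hψu : FormallyUnramified ψ.left :=
    Groth.Agent.Lib.H5bFormal.formallyUnramified_chart_of h.hom hh _ u ψ hpe hψ.symm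
  have hse : Etale s.left := hpe.2 _ _ _ hk₀
  have hsψ : FormallyUnramified (s ≫ ψ).left := by
    rw [Over.comp_left]
    have : FormallyUnramified s.left := inferInstance
    exact MorphismProperty.comp_mem @FormallyUnramified _ _ this hψu
  obtain ⟨V'₀, iV₀, hV'₀, HV⟩ := Groth.Agent.S9731.result ψ.left
  obtain ⟨R'₀, iR₀, hR'₀, HR⟩ := Groth.Agent.S9731.result (s ≫ ψ).left
  have e1 : iV₀ ≫ (hV'₀ ≫ U.hom) = V.hom := by
    rw [← Category.assoc, HV.2.1]; exact Over.w ψ
  have e2 : iR₀ ≫ (hR'₀ ≫ U.hom) = R.hom := by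
    rw [← Category.assoc, HR.2.1]; exact Over.w (s ≫ ψ)
  let D : Setup S :=
    { Z := Z, X := X, h := h, U := U, V := V, R := R, u := u
      p := (AlgSp.yon S).map q ≫ p₀, ψ := ψ, s := s, t := t
      V' := Over.mk (hV'₀ ≫ U.hom)
      iV := Over.homMk iV₀ e1
      hV' := Over.homMk hV'₀ rfl
      R' := Over.mk (hR'₀ ≫ U.hom)
      iR := Over.homMk iR₀ e2
      hR' := Over.homMk hR'₀ rfl
      hh := hh, hu := hue, hp := hpe, hps := hps, hψ := hψ, hk := hk₀
      HV := HV, HR := HR }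
  exact D.exists_univ

/-- For a formally unramified morphism h : Z ⟶ X of algebraic spaces over S, some universal first order
thickening of Z over X exists: an algebraic space Z' with i : Z ⟶ Z' and h' : Z' ⟶ X, i a first
order thickening, i ≫ h' = h, universal among first order thickenings of algebraic spaces over X. -/
theorem result {S : Scheme.{u}} {Z X : AlgSp.Space S} (h : Z ⟶ X)
    (hh : AlgSp.IsFormallyUnramifiedMor h.hom) :
    ∃ (Z' : AlgSp.Space S) (i : Z ⟶ Z') (h' : Z' ⟶ X), AlgSp.IsUnivFOThick h.hom i.hom h'.hom := by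
  exact main h hh

end Groth.Agent.S10634
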