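import Groth.Statements.S10639
import Mathlib
import Groth.Agent.Lib.H5bUnrLocus
import Groth.Agent.S10194
import Groth.Agent.S10195
import Groth.Agent.S10175
import Groth.Agent.S9874

set_option autoImplicit false
universe u
open CategoryTheory CategoryTheory.Limits AlgebraicGeometry
open AlgSp

namespace Groth.Agent.S10639

/-- For morphisms f : X ⟶ Y, p : X ⟶ Z and q : Y ⟶ Z of algebraic spaces over S with f ≫ q = p, where p
is closed (the map on points is closed) and locally of finite type, there is an open subspace W of Z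
with the following property: a morphism of algebraic spaces g : Z' ⟶ Z factors through W exactly
when the base change X' ⟶ Y' of f along g is unramified (locally of finite type and formally
unramified, etale locally on source and target). Here the base change of f along g is any f' : X' ⟶
Y' obtained from pullback squares Y' = Y ×_Z Z' and X' = X ×_Y Y' of algebraic spaces over S, and W
⊂ Z is given as a representable open immersion w : W ⟶ Z. -/
theorem result {S : Scheme.{u}} {X Y Z : AlgSp.Space S}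
    (f : X ⟶ Y) (p : X ⟶ Z) (q : Y ⟶ Z) (hc : f ≫ q = p)
    (hp1 : AlgSp.LocP @LocallyOfFiniteType p.hom) (hp2 : AlgSp.IsClosedMor p.hom) :
    ∃ (W : AlgSp.Space S) (w : W ⟶ Z), AlgSp.RepWith @IsOpenImmersion w.hom ∧
      ∀ (Z' : AlgSp.Space S) (g : Z' ⟶ Z),
        (∃ k : Z' ⟶ W, k ≫ w = g) ↔
          ∀ (Y' : AlgSp.Space S) (gY : Y' ⟶ Y) (q' : Y' ⟶ Z'),
            IsPullback gY.hom q'.hom q.hom g.hom →
            ∀ (X' : AlgSp.Space S) (gX : X' ⟶ X) (f' : X' ⟶ Y'),
              IsPullback gX.hom f'.hom f.hom gY.hom →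
                AlgSp.LocP (@LocallyOfFiniteType ⊓ @FormallyUnramified) f'.hom := by
  have hcH : f.hom ≫ q.hom = p.hom := congrArg (fun φ => φ.hom) hc
  have hf : AlgSp.LocP @LocallyOfFiniteType f.hom :=
    Groth.Agent.Lib.H5bUnrLocus.locP_lft_of_comp f q (by rw [hc]; exact hp1)
  have hopen := Groth.Agent.Lib.H5bUnrLocus.isOpen_unrLocus f.hom
  have hpT : IsClosed (AlgSp.Points.map p.hom '' {x : AlgSp.Points X.obj |
      AlgSp.HasAtMor Groth.Agent.Lib.H5bUnrLocus.Qunr f.hom x}ᶜ) := hp2 _ hopen.isClosed_compl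
  obtain ⟨W, w, hw, hwr⟩ := Groth.Agent.S10195.result Z _ hpT.isOpen_compl
  refine ⟨W, w, hw, ?_⟩
  intro Z' g
  rw [Groth.Agent.S10194.result w hw g, hwr]
  constructor
  · intro hsub Y' gY q' sqY X' gX f' sqX
    have hcomm : ∀ x' : AlgSp.Points X'.obj,
        AlgSp.Points.map p.hom (AlgSp.Points.map gX.hom x') =
          AlgSp.Points.map g.hom (AlgSp.Points.map q'.hom (AlgSp.Points.map f'.hom x')) := by
      intro x'
      rw [← AlgSp.Points.map_comp, ← AlgSp.Points.map_comp, ← AlgSp.Points.map_comp, ← hcH,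
        ← Category.assoc, sqX.w, Category.assoc, sqY.w]
    have hpt : ∀ x' : AlgSp.Points X'.obj,
        AlgSp.HasAtMor Groth.Agent.Lib.H5bUnrLocus.Qunr f'.hom x' := by
      intro x'
      rw [Groth.Agent.Lib.H5bUnrLocus.unrLocus_baseChange f hf gY gX f' sqX x']
      by_contra hnot
      exact hsub ⟨_, (hcomm x').symm⟩ ⟨_, hnot, rfl⟩
    intro U V a b h ha hb c
    have hQ : ∀ u : ↥U.left, Groth.Agent.Lib.H5bUnrLocus.Qunr U.left V.left h.left u := fun u =>
      (Groth.Agent.Lib.H5bHasAtMor.hasAtMor_iff_of_chart Groth.Agent.Lib.H5bUnrLocus.etLocalQ_unr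
        f'.hom _ a b h ha hb c u rfl).1 (hpt _)
    choose Wf hWf1 hWf2 hWf3 using hQ
    have hcov : iSup Wf = ⊤ := by
      rw [eq_top_iff]
      intro u _
      exact TopologicalSpace.Opens.mem_iSup.2 ⟨u, hWf1 u⟩
    exact ⟨IsZariskiLocalAtSource.of_iSup_eq_top Wf hcov hWf2,
      IsZariskiLocalAtSource.of_iSup_eq_top Wf hcov hWf3⟩
  · intro H z hz
    obtain ⟨z', rfl⟩ := hz
    rintro ⟨x, hxT, hxz⟩
    have sqY0 := IsPullback.of_hasPullback q.hom g.hom
    have hY' : AlgSp.IsAlgSpace (pullback q.hom g.hom) :=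
      Groth.Agent.S9874.isAlgSpace_of_isPullback Z.property.diag Y.property Z'.property sqY0
    let Y' : AlgSp.Space S := ⟨pullback q.hom g.hom, hY'⟩
    let gY : Y' ⟶ Y := ObjectProperty.homMk (pullback.fst q.hom g.hom)
    let q' : Y' ⟶ Z' := ObjectProperty.homMk (pullback.snd q.hom g.hom)
    have sqY : IsPullback gY.hom q'.hom q.hom g.hom := sqY0
    have sqX0 := IsPullback.of_hasPullback f.hom gY.hom
    have hX' : AlgSp.IsAlgSpace (pullback f.hom gY.hom) :=
      Groth.Agent.S9874.isAlgSpace_of_isPullback Y.property.diag X.property hY' sqX0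
    let X' : AlgSp.Space S := ⟨pullback f.hom gY.hom, hX'⟩
    let gX : X' ⟶ X := ObjectProperty.homMk (pullback.fst f.hom gY.hom)
    let f' : X' ⟶ Y' := ObjectProperty.homMk (pullback.snd f.hom gY.hom)
    have sqX : IsPullback gX.hom f'.hom f.hom gY.hom := sqX0
    have hfl' := H Y' gY q' sqY X' gX f' sqX
    have big : IsPullback gX.hom (f'.hom ≫ q'.hom) (f.hom ≫ q.hom) g.hom := sqX.paste_vert sqY
    obtain ⟨x', hx'1, hx'2⟩ := Groth.Agent.S10175.exists_point_of_isPullback big.flip z' x
      (by rw [hcH, hxz])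
    have hx'G : AlgSp.HasAtMor Groth.Agent.Lib.H5bUnrLocus.Qunr f'.hom x' := by
      obtain ⟨U, V, a, b, h, u, ha, hb, c, hu⟩ :=
        Groth.Agent.Lib.H5bHasAtMor.exists_chart hX' hY' f'.hom x'
      obtain ⟨hl, hfu⟩ := hfl' a b h ha hb c
      haveI : LocallyOfFiniteType h.left := hl
      refine ⟨U, V, a, b, h, u, ha, hb, c, hu, ⊤, trivial, inferInstance, ?_⟩
      exact MorphismProperty.comp_mem _ _ _
        (inferInstance : FormallyUnramified (⊤ : U.left.Opens).ι) hfu
    rw [Groth.Agent.Lib.H5bUnrLocus.unrLocus_baseChange f hf gY gX f' sqX x', hx'2] at hx'G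
    exact hxT hx'G

end Groth.Agent.S10639
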