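import Groth.Statements.S10642
import Mathlib
import Groth.Agent.S10609
import Groth.Agent.S10194
import Groth.Agent.S10195
import Groth.Agent.S10175
import Groth.Agent.S9874

set_option autoImplicit false
universe u
open CategoryTheory CategoryTheory.Limits AlgebraicGeometry
open AlgSp

namespace Groth.Agent.S10642

/-- For morphisms f : X ⟶ Y, p : X ⟶ Z and q : Y ⟶ Z of algebraic spaces over S with f ≫ q = p, where p
is flat, closed and locally of finite presentation and q is locally of finite type, there is an open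
subspace W of Z with the following property: a morphism of algebraic spaces g : Z' ⟶ Z factors
through W exactly when the base change X' ⟶ Y' of f along g is flat. Here the base change of f along
g is any f' : X' ⟶ Y' obtained from pullback squares Y' = Y ×_Z Z' and X' = X ×_Y Y' of algebraic
spaces over S, and W ⊂ Z is given as a representable open immersion w : W ⟶ Z. -/
theorem result {S : Scheme.{u}} {X Y Z : AlgSp.Space S}
    (f : X ⟶ Y) (p : X ⟶ Z) (q : Y ⟶ Z) (hc : f ≫ q = p)
    (hp1 : AlgSp.LocP @LocallyOfFinitePresentation p.hom) (hp2 : AlgSp.LocP @Flat p.hom)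
    (hp3 : AlgSp.IsClosedMor p.hom) (hq : AlgSp.LocP @LocallyOfFiniteType q.hom) :
    ∃ (W : AlgSp.Space S) (w : W ⟶ Z), AlgSp.RepWith @IsOpenImmersion w.hom ∧
      ∀ (Z' : AlgSp.Space S) (g : Z' ⟶ Z),
        (∃ k : Z' ⟶ W, k ≫ w = g) ↔
          ∀ (Y' : AlgSp.Space S) (gY : Y' ⟶ Y) (q' : Y' ⟶ Z'),
            IsPullback gY.hom q'.hom q.hom g.hom →
            ∀ (X' : AlgSp.Space S) (gX : X' ⟶ X) (f' : X' ⟶ Y'),
              IsPullback gX.hom f'.hom f.hom gY.hom →
                AlgSp.LocP @Flat f'.hom := by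
  have hcH : f.hom ≫ q.hom = p.hom := congrArg (fun φ => φ.hom) hc
  have hfp : AlgSp.LocP @LocallyOfFinitePresentation (f ≫ q).hom := by rw [hc]; exact hp1
  have hfl : AlgSp.LocP @Flat (f ≫ q).hom := by rw [hc]; exact hp2
  obtain ⟨hopen, hbc⟩ := Groth.Agent.S10609.result f q hfp hfl hq
  have hT : IsClosed {x : AlgSp.Points X.obj | AlgSp.IsFlatAtMor f.hom x}ᶜ := hopen.isClosed_compl
  have hpT : IsClosed (AlgSp.Points.map p.hom ''
      {x : AlgSp.Points X.obj | AlgSp.IsFlatAtMor f.hom x}ᶜ) := hp3 _ hT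
  obtain ⟨W, w, hw, hwr⟩ := Groth.Agent.S10195.result Z _ hpT.isOpen_compl
  refine ⟨W, w, hw, ?_⟩
  intro Z' g
  rw [Groth.Agent.S10194.result w hw g, hwr]
  constructor
  · intro hsub Y' gY q' sqY X' gX f' sqX
    have hset := hbc X' Y' Z' g f' q' gX gY sqY sqX
    intro U V a b h ha hb c
    apply Flat.of_stalkMap
    intro u
    have hx' : AlgSp.Points.ofPt a u ∈ {x' : AlgSp.Points X'.obj | AlgSp.IsFlatAtMor f'.hom x'} := by
      rw [hset]
      show AlgSp.IsFlatAtMor f.hom (AlgSp.Points.map gX.hom (AlgSp.Points.ofPt a u))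
      by_contra hnot
      have h1 : AlgSp.Points.map p.hom (AlgSp.Points.map gX.hom (AlgSp.Points.ofPt a u)) ∈
          AlgSp.Points.map p.hom '' {x : AlgSp.Points X.obj | AlgSp.IsFlatAtMor f.hom x}ᶜ :=
        ⟨_, hnot, rfl⟩
      have h2 : AlgSp.Points.map p.hom (AlgSp.Points.map gX.hom (AlgSp.Points.ofPt a u)) =
          AlgSp.Points.map g.hom (AlgSp.Points.map q'.hom (AlgSp.Points.map f'.hom
            (AlgSp.Points.ofPt a u))) := by
        rw [← AlgSp.Points.map_comp, ← AlgSp.Points.map_comp, ← AlgSp.Points.map_comp, ← hcH,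
          ← Category.assoc, sqX.w, Category.assoc, sqY.w]
      exact hsub ⟨_, h2.symm⟩ h1
    exact hx' a b h u ha hb c rfl
  · intro H z hz
    obtain ⟨z', rfl⟩ := hz
    rintro ⟨x, hxT, hxz⟩
    have sqY0 := IsPullback.of_hasPullback q.hom g.hom
    have hY' : AlgSp.IsAlgSpace (pullback q.hom g.hom) :=
      Groth.Agent.S9874.isAlgSpace_of_isPullback Z.property.diag Y.property Z'.property sqY0
    let Y' : AlgSp.Space S := ⟨pullback q.hom g.hom, hY'⟩
    let gY : Y' ⟶ Y := ObjectProperty.homMk (pullback.fst q.hom g.hom)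
    let q' : Y' ⟶ Z' := ObjectProperty.homMk (pullback.snd q.hom g.hom)
    have sqY : IsPullback gY.hom q'.hom q.hom g.hom := sqY0
    have sqX0 := IsPullback.of_hasPullback f.hom gY.hom
    have hX' : AlgSp.IsAlgSpace (pullback f.hom gY.hom) :=
      Groth.Agent.S9874.isAlgSpace_of_isPullback Y.property.diag X.property hY' sqX0
    let X' : AlgSp.Space S := ⟨pullback f.hom gY.hom, hX'⟩
    let gX : X' ⟶ X := ObjectProperty.homMk (pullback.fst f.hom gY.hom)
    let f' : X' ⟶ Y' := ObjectProperty.homMk (pullback.snd f.hom gY.hom)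
    have sqX : IsPullback gX.hom f'.hom f.hom gY.hom := sqX0
    have hfl' := H Y' gY q' sqY X' gX f' sqX
    have hset := hbc X' Y' Z' g f' q' gX gY sqY sqX
    have big : IsPullback gX.hom (f'.hom ≫ q'.hom) (f.hom ≫ q.hom) g.hom := sqX.paste_vert sqY
    obtain ⟨x', hx'1, hx'2⟩ := Groth.Agent.S10175.exists_point_of_isPullback big.flip z' x
      (by rw [hcH, hxz])
    have hx'F : x' ∈ {x' : AlgSp.Points X'.obj | AlgSp.IsFlatAtMor f'.hom x'} := by
      intro U V a b h u ha hb c hu
      haveI : Flat h.left := hfl' a b h ha hb c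
      exact Flat.stalkMap h.left u
    rw [hset] at hx'F
    have : AlgSp.IsFlatAtMor f.hom (AlgSp.Points.map gX.hom x') := hx'F
    rw [hx'2] at this
    exact hxT this

end Groth.Agent.S10642
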