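import Groth.Statements.S10649
import Mathlib
import Groth.Agent.Lib.H5bFinFib
import Groth.Agent.Lib.H5bFinA
import Groth.Agent.Lib.Helper12LocPNbhd
import Groth.Agent.S9925

set_option autoImplicit false
universe u
open CategoryTheory CategoryTheory.Limits AlgebraicGeometry
open AlgSp

namespace Groth.Agent.S10649

/-- The following conditions on a morphism f : X ⟶ Y of algebraic spaces over S are equivalent: (1)
finiteness of f; (2) f is locally quasi-finite as well as proper (locally quasi-finite and locally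
of finite type etale locally); (3) f is proper and for every field k and every k-point Spec k ⟶ Y
the fibre X_k (any pullback of f along it in fppf sheaves) has discrete space of points; (4) f is
universally closed, separated and locally of finite type, and every such fibre X_k has discrete
space of points. -/
theorem result {S : Scheme.{u}} {X Y : AlgSp.Space S} (f : X ⟶ Y) :
    [AlgSp.IsFiniteMor f.hom,
      AlgSp.IsProperMor f.hom ∧ AlgSp.LocP (@LocallyQuasiFinite ⊓ @LocallyOfFiniteType) f.hom,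
      AlgSp.IsProperMor f.hom ∧
        ∀ (k : AlgSp.FieldPt Y.obj) (Xk : AlgSp.Sp S) (fst : Xk ⟶ X.obj) (snd : Xk ⟶ (AlgSp.yon S).obj k.pt),
          IsPullback fst snd f.hom k.toHom → DiscreteTopology (AlgSp.Points Xk),
      AlgSp.IsUnivClosedMor f.hom ∧ AlgSp.IsSeparatedMor f.hom ∧ AlgSp.LocP @LocallyOfFiniteType f.hom ∧
        ∀ (k : AlgSp.FieldPt Y.obj) (Xk : AlgSp.Sp S) (fst : Xk ⟶ X.obj) (snd : Xk ⟶ (AlgSp.yon S).obj k.pt),
          IsPullback fst snd f.hom k.toHom → DiscreteTopology (AlgSp.Points Xk)].TFAE := by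
  tfae_have 1 ↔ 2 := Groth.Agent.Lib.H5bFin.isFiniteMor_iff_proper_lqf f
  tfae_have 2 → 3 := fun h => ⟨h.1, fun k Xk fst snd sq =>
    Groth.Agent.Lib.H5bFinFib.discreteTopology_fibre_of_locP_lqf f h.2 k Xk fst snd sq⟩
  tfae_have 3 → 4 := fun h => ⟨h.1.2.2, h.1.1, h.1.2.1.1, h.2⟩
  tfae_have 4 → 2 := by
    rintro ⟨huc, hsep, hlft, hdisc⟩
    refine ⟨⟨hsep, ⟨hlft, Groth.Agent.S9925.result f huc⟩, huc⟩, ?_⟩
    rw [Groth.Agent.Lib.Helper12.LocPNbhd.locP_iff_forall_hasAtMor
      Groth.Agent.Lib.Helper12.LocPCases.good_lqf X.property Y.property]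
    intro x
    obtain ⟨k, hk⟩ := AlgSp.Points.mk_surjective (AlgSp.Points.map f.hom x)
    have sq := IsPullback.of_hasPullback f.hom k.toHom
    have := hdisc k _ _ _ sq
    obtain ⟨U', V', a', b', h', u', ha', hb', c', hu', W, hW, hq, hl⟩ :=
      Groth.Agent.Lib.H5bFinFib.hasAtMor_lqf_of_locallyClosed_points f hlft k _ _ _ sq
        (fun z => (isOpen_discrete _).isLocallyClosed) x hk.symm
    exact ⟨U', V', a', b', h', u', ha', hb', c', hu', W, hW, hq, hl⟩
  tfae_finish

end Groth.Agent.S10649
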