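import Groth.Statements.S10651
import Mathlib
import Groth.Agent.S10650
import Groth.Agent.S9964
import Groth.Agent.S10281
import Groth.Agent.S9928
import Groth.Agent.Lib.H5bFinFib
import Groth.Agent.Lib.H5bEtLoc2
import Groth.Agent.Lib.Helper12TopDescent2

set_option autoImplicit false
universe u
open CategoryTheory CategoryTheory.Limits AlgebraicGeometry
open AlgSp

namespace Groth.Agent.S10651

theorem injective_map_of_mono' {S : Scheme.{u}} {X Y : AlgSp.Sp S} (hX : AlgSp.IsAlgSpace X)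
    (hY : AlgSp.IsAlgSpace Y) (f : X ⟶ Y) [Mono f] : Function.Injective (AlgSp.Points.map f) := by
  let f' : (⟨X, hX⟩ : AlgSp.Space S) ⟶ ⟨Y, hY⟩ := ObjectProperty.homMk f
  have : Mono f'.hom := ‹Mono f›
  exact Groth.Agent.Lib.H5bEtLoc.injective_map_of_mono f'

/-- every point of `h_{Spec K}` maps to the class of the field point. -/
theorem map_toHom_eq {S : Scheme.{u}} {F : AlgSp.Sp S} (p : AlgSp.FieldPt F)
    (w : AlgSp.Points ((AlgSp.yon S).obj p.pt)) : AlgSp.Points.map p.toHom w = AlgSp.Points.mk p := by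
  obtain ⟨s, rfl⟩ := (AlgSp.Points.schemeHomeo p.pt).surjective w
  have := AlgSp.Points.ofPt_toHom p s
  rw [AlgSp.Points.ofPt_eq_map_ofScheme] at this
  exact this

open Groth.Agent.Lib.H5bFinFib in
theorem main {S : Scheme.{u}} {X Y B : AlgSp.Space S} (h : X ⟶ Y) (f : X ⟶ B) (g : Y ⟶ B) (hc : h ≫ g = f)
    (b : AlgSp.Points B.obj) (k : AlgSp.FieldPt B.obj) (hk : AlgSp.Points.mk k = b)
    (hf : AlgSp.IsProperMor f.hom) (hg1 : AlgSp.IsSeparatedMor g.hom) (hg2 : AlgSp.LocP @LocallyOfFiniteType g.hom)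
    (h3 : (∀ (Yk : AlgSp.Sp S) (gY : Yk ⟶ Y.obj) (sY : Yk ⟶ (AlgSp.yon S).obj k.pt),
            IsPullback gY sY g.hom k.toHom →
            ∀ (Xk : AlgSp.Sp S) (gX : Xk ⟶ X.obj) (hk' : Xk ⟶ Yk), IsPullback gX hk' h.hom gY →
              (Set.range (AlgSp.Points.map hk')).Finite) ∨
          ((AlgSp.Points.map h.hom '' (AlgSp.Points.map f.hom ⁻¹' {b})).Finite ∧ AlgSp.IsDecent B.obj)) :
    ∃ (B' : AlgSp.Space S) (j : B' ⟶ B), AlgSp.RepWith @IsOpenImmersion j.hom ∧
      b ∈ Set.range (AlgSp.Points.map j.hom) ∧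
        ∀ (YB : AlgSp.Space S) (gY : YB ⟶ Y) (sY : YB ⟶ B'), IsPullback gY.hom sY.hom g.hom j.hom →
          ∀ (XB : AlgSp.Space S) (gX : XB ⟶ X) (hB : XB ⟶ YB), IsPullback gX.hom hB.hom h.hom gY.hom →
            ∃ (Z : AlgSp.Space S) (i : Z ⟶ YB) (e : XB ⟶ Z), AlgSp.RepWith @IsClosedImmersion i.hom ∧
              AlgSp.IsFiniteMor (i ≫ sY).hom ∧ e ≫ i = hB := by
  obtain ⟨Z₀, i₀, hZ⟩ := Groth.Agent.S9964.result h
  obtain ⟨h'₀, fac₀⟩ := hZ.2.1
  let h' : X ⟶ Z₀ := ObjectProperty.homMk h'₀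
  have fac : h' ≫ i₀ = h := ObjectProperty.hom_ext _ fac₀
  obtain ⟨hprop, hsurj⟩ := Groth.Agent.S10281.result h f g hc hf hg1 hg2 i₀ hZ h' fac
  haveI hi₀mono : Mono i₀.hom :=
    Groth.Agent.S9928.mono_of_repWith @IsClosedImmersion
      (fun _ _ f hf => by haveI : IsClosedImmersion f := hf; infer_instance) i₀.hom hZ.1
  have hi₀inj : Function.Injective (AlgSp.Points.map i₀.hom) :=
    Groth.Agent.Lib.H5bEtLoc.injective_map_of_mono i₀
  have hqs : AlgSp.IsQuasiSeparatedMor (i₀ ≫ g).hom :=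
    ⟨hprop.1.1, fun U V a fst snd sq => by
      haveI : IsClosedImmersion snd.left := hprop.1.2 a fst snd sq
      exact (inferInstance : QuasiCompact snd.left)⟩
  have hlft : AlgSp.LocP @LocallyOfFiniteType (i₀ ≫ g).hom := hprop.2.1.1
  have hcomp : (i₀ ≫ g).hom = i₀.hom ≫ g.hom := rfl
  have hq : ∀ z : AlgSp.Points Z₀.obj, AlgSp.Points.map (i₀ ≫ g).hom z = b →
      AlgSp.HasAtMor (fun U _ h u => ∃ W : U.Opens, u ∈ W ∧ LocallyQuasiFinite (W.ι ≫ h) ∧
        LocallyOfFiniteType (W.ι ≫ h)) (i₀ ≫ g).hom z := by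
    intro z hz
    rcases h3 with h3a | ⟨h3b, hdec⟩
    · -- case (a)
      have sqZk := IsPullback.of_hasPullback (i₀ ≫ g).hom k.toHom
      have sqYk := IsPullback.of_hasPullback g.hom k.toHom
      have sqXk := IsPullback.of_hasPullback h.hom (pullback.fst g.hom k.toHom)
      have hfinr := h3a _ _ _ sqYk _ _ _ sqXk
      have hZk : AlgSp.IsAlgSpace (pullback (i₀ ≫ g).hom k.toHom) :=
        Groth.Agent.S9874.isAlgSpace_of_isPullback B.property.diag Z₀.property
          (AlgSp.IsAlgSpace.yon_obj _) sqZk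
      have hYk : AlgSp.IsAlgSpace (pullback g.hom k.toHom) :=
        Groth.Agent.S9874.isAlgSpace_of_isPullback B.property.diag Y.property
          (AlgSp.IsAlgSpace.yon_obj _) sqYk
      let m : pullback (i₀ ≫ g).hom k.toHom ⟶ pullback g.hom k.toHom :=
        pullback.lift (pullback.fst _ _ ≫ i₀.hom) (pullback.snd _ _)
          (by rw [Category.assoc, ← hcomp]; exact pullback.condition)
      have m1 : m ≫ pullback.fst g.hom k.toHom = pullback.fst _ _ ≫ i₀.hom := pullback.lift_fst _ _ _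
      have m2 : m ≫ pullback.snd g.hom k.toHom = pullback.snd _ _ := pullback.lift_snd _ _ _
      have sq_m : IsPullback (pullback.fst (i₀ ≫ g).hom k.toHom) m i₀.hom
          (pullback.fst g.hom k.toHom) := by
        refine IsPullback.of_bot ?_ m1.symm sqYk
        rw [m2, ← hcomp]
        exact sqZk
      haveI : Mono m := sq_m.mono_snd_of_mono
      have hminj : Function.Injective (AlgSp.Points.map m) := injective_map_of_mono' hZk hYk m
      have hw : (pullback.fst h.hom (pullback.fst g.hom k.toHom) ≫ h'₀) ≫ i₀.hom =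
          pullback.snd h.hom (pullback.fst g.hom k.toHom) ≫ pullback.fst g.hom k.toHom := by
        rw [Category.assoc, fac₀]; exact pullback.condition
      obtain ⟨e, he1, he2⟩ := sq_m.exists_lift _ _ hw
      have sq_e : IsPullback (pullback.fst h.hom (pullback.fst g.hom k.toHom)) e h'₀
          (pullback.fst (i₀ ≫ g).hom k.toHom) := by
        refine IsPullback.of_bot ?_ he1.symm sq_m
        rw [he2, fac₀]
        exact sqXk
      have hes : AlgSp.IsSurjectiveMor e :=
        Groth.Agent.Lib.Helper12.TopDescent.isSurjectiveMor_baseChange sq_e hsurj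
      have hfin : Finite (AlgSp.Points (pullback (i₀ ≫ g).hom k.toHom)) := by
        rw [← Set.finite_univ_iff]
        refine Set.Finite.of_finite_image (f := AlgSp.Points.map m) (hfinr.subset ?_)
          hminj.injOn
        rintro _ ⟨w, -, rfl⟩
        obtain ⟨x, rfl⟩ := hes w
        exact ⟨x, by rw [← AlgSp.Points.map_comp, he2]⟩
      exact hasAtMor_lqf_of_finite_fibre (i₀ ≫ g) hlft hqs k _ _ _ sqZk hfin z (hz.trans hk.symm)
    · -- case (b)
      obtain ⟨p₀, hp₀, hmono, -⟩ := hdec b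
      haveI := hmono
      have sqZy := IsPullback.of_hasPullback (i₀ ≫ g).hom p₀.toHom
      have hZy : AlgSp.IsAlgSpace (pullback (i₀ ≫ g).hom p₀.toHom) :=
        Groth.Agent.S9874.isAlgSpace_of_isPullback B.property.diag Z₀.property
          (AlgSp.IsAlgSpace.yon_obj _) sqZy
      have hinj : Function.Injective (AlgSp.Points.map (pullback.fst (i₀ ≫ g).hom p₀.toHom)) :=
        injective_map_of_mono' hZy Z₀.property _
      have hfin : Finite (AlgSp.Points (pullback (i₀ ≫ g).hom p₀.toHom)) := by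
        rw [← Set.finite_univ_iff]
        refine Set.Finite.of_finite_image
          (f := fun w => AlgSp.Points.map i₀.hom
            (AlgSp.Points.map (pullback.fst (i₀ ≫ g).hom p₀.toHom) w)) (h3b.subset ?_)
          (hi₀inj.comp hinj).injOn
        rintro _ ⟨w, -, rfl⟩
        obtain ⟨x, hx⟩ := hsurj (AlgSp.Points.map (pullback.fst (i₀ ≫ g).hom p₀.toHom) w)
        refine ⟨x, ?_, ?_⟩
        · show AlgSp.Points.map f.hom x = b
          have e1 : f.hom = h'.hom ≫ (i₀ ≫ g).hom := by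
            rw [← hc, ← fac]; rfl
          rw [e1, AlgSp.Points.map_comp, hx, ← AlgSp.Points.map_comp, pullback.condition,
            AlgSp.Points.map_comp, map_toHom_eq, hp₀]
        · show AlgSp.Points.map h.hom x = AlgSp.Points.map i₀.hom
            (AlgSp.Points.map (pullback.fst (i₀ ≫ g).hom p₀.toHom) w)
          rw [← hx, ← AlgSp.Points.map_comp]
          congr 1
          rw [← fac]; rfl
      exact hasAtMor_lqf_of_finite_fibre (i₀ ≫ g) hlft hqs p₀ _ _ _ sqZy hfin z (hz.trans hp₀.symm)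
  obtain ⟨B', j, hj, hb, hfin⟩ := Groth.Agent.S10650.result (i₀ ≫ g) b hprop hq
  refine ⟨B', j, hj, hb, ?_⟩
  intro YB gY sY sqY XB gX hB sqX
  have sqZ := IsPullback.of_hasPullback i₀.hom gY.hom
  have hZalg : AlgSp.IsAlgSpace (pullback i₀.hom gY.hom) :=
    Groth.Agent.S9874.isAlgSpace_of_isPullback Y.property.diag Z₀.property YB.property sqZ
  let Z : AlgSp.Space S := ⟨pullback i₀.hom gY.hom, hZalg⟩
  let pZ : Z ⟶ Z₀ := ObjectProperty.homMk (pullback.fst i₀.hom gY.hom)
  let i : Z ⟶ YB := ObjectProperty.homMk (pullback.snd i₀.hom gY.hom)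
  have hw : (gX.hom ≫ h'₀) ≫ i₀.hom = hB.hom ≫ gY.hom := by
    rw [Category.assoc, fac₀]; exact sqX.w
  let e : XB ⟶ Z := ObjectProperty.homMk (pullback.lift (gX.hom ≫ h'₀) hB.hom hw)
  refine ⟨Z, i, e, ?_, ?_, ?_⟩
  · exact (AlgSp.repWith_isStableUnderBaseChange (S := S) @IsClosedImmersion).of_isPullback sqZ hZ.1
  · exact hfin Z pZ (i ≫ sY) (sqZ.paste_vert sqY)
  · exact ObjectProperty.hom_ext _ (pullback.lift_snd _ _ _)

/-- Consider morphisms h : X ⟶ Y, f : X ⟶ B, g : Y ⟶ B of algebraic spaces over S with h ≫ g = f, a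
point b of |B| and a field point k of B in the class of b. Assume f is proper, g is separated and
locally of finite type, and either (a) for the fibres X_k ⟶ Y_k of h over k (pullbacks in fppf
sheaves) the image of |X_k| in |Y_k| is finite, or (b) the image in |Y| of the fibre of |X| ⟶ |B|
over b is finite and B is decent. Then over some open subspace B' of B containing b the base change
X_{B'} ⟶ Y_{B'} of h lands in a closed subspace Z of Y_{B'} that is finite over B' (it factors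
through Z). -/
theorem result {S : Scheme.{u}} {X Y B : AlgSp.Space S} (h : X ⟶ Y) (f : X ⟶ B) (g : Y ⟶ B) (hc : h ≫ g = f)
    (b : AlgSp.Points B.obj) (k : AlgSp.FieldPt B.obj) (hk : AlgSp.Points.mk k = b)
    (hf : AlgSp.IsProperMor f.hom) (hg1 : AlgSp.IsSeparatedMor g.hom) (hg2 : AlgSp.LocP @LocallyOfFiniteType g.hom)
    (h3 : (∀ (Yk : AlgSp.Sp S) (gY : Yk ⟶ Y.obj) (sY : Yk ⟶ (AlgSp.yon S).obj k.pt),
            IsPullback gY sY g.hom k.toHom →
            ∀ (Xk : AlgSp.Sp S) (gX : Xk ⟶ X.obj) (hk' : Xk ⟶ Yk), IsPullback gX hk' h.hom gY →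
              (Set.range (AlgSp.Points.map hk')).Finite) ∨
          ((AlgSp.Points.map h.hom '' (AlgSp.Points.map f.hom ⁻¹' {b})).Finite ∧ AlgSp.IsDecent B.obj)) :
    ∃ (B' : AlgSp.Space S) (j : B' ⟶ B), AlgSp.RepWith @IsOpenImmersion j.hom ∧
      b ∈ Set.range (AlgSp.Points.map j.hom) ∧
        ∀ (YB : AlgSp.Space S) (gY : YB ⟶ Y) (sY : YB ⟶ B'), IsPullback gY.hom sY.hom g.hom j.hom →
          ∀ (XB : AlgSp.Space S) (gX : XB ⟶ X) (hB : XB ⟶ YB), IsPullback gX.hom hB.hom h.hom gY.hom →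
            ∃ (Z : AlgSp.Space S) (i : Z ⟶ YB) (e : XB ⟶ Z), AlgSp.RepWith @IsClosedImmersion i.hom ∧
              AlgSp.IsFiniteMor (i ≫ sY).hom ∧ e ≫ i = hB := by
  exact main h f g hc b k hk hf hg1 hg2 h3

end Groth.Agent.S10651
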