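import Groth.Statements.S10654
import Mathlib
import Groth.Agent.S10653
import Groth.Agent.S10649
import Groth.Agent.Lib.H5bHasAtMor
import Groth.Agent.Lib.H5bIntDimSp
import Groth.Agent.Lib.Helper3GrpHomQF

set_option autoImplicit false
universe u
open CategoryTheory CategoryTheory.Limits AlgebraicGeometry
open AlgSp

namespace Groth.Agent.S10654

/-- an affine étale chart through a point of an algebraic space. -/
theorem exists_affine_chart_at {S : Scheme.{u}} {P : AlgSp.Sp S} (hP : AlgSp.IsAlgSpace P)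
    (x' : AlgSp.Points P) :
    ∃ (W₀ : Over S) (q₀ : (AlgSp.yon S).obj W₀ ⟶ P) (w'₀ : ↥W₀.left), IsAffine W₀.left ∧
      AlgSp.RepWith @Etale q₀ ∧ AlgSp.Points.ofPt q₀ w'₀ = x' := by
  obtain ⟨U, p, hpe, hps⟩ := hP.atlas
  obtain ⟨u₀, hu₀⟩ := Groth.Agent.S10177.surjective_ofPt p hps x'
  obtain ⟨_, ⟨U₀, hU₀, rfl⟩, hu₀U, -⟩ :=
    (U.left.isBasis_affineOpens).exists_subset_of_mem_open (Set.mem_univ u₀) isOpen_univ
  let U' : U.left.Opens := U₀
  let W₀ : Over S := Over.mk (U'.ι ≫ U.hom)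
  let jO : W₀ ⟶ U := Over.homMk U'.ι rfl
  refine ⟨W₀, (AlgSp.yon S).map jO ≫ p, (⟨u₀, hu₀U⟩ : U'), hU₀, ?_, ?_⟩
  · exact (AlgSp.RepWith @Etale).comp_mem _ _
      ((AlgSp.repWith_yon_map_iff @Etale jO).2 (inferInstanceAs (Etale U'.ι))) hpe
  · rw [Groth.Agent.S10176.ofPt_map_comp jO p]
    exact hu₀

open Groth.Agent.Lib.H5bHasAtMor in
theorem main {S : Scheme.{u}} {X Y V : AlgSp.Space S} (f : X ⟶ Y) (j : V ⟶ Y)
    (hf1 : AlgSp.LocP @Flat f.hom) (hf2 : AlgSp.IsProperMor f.hom)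
    (hj1 : AlgSp.RepWith @IsOpenImmersion j.hom) (hj2 : Dense (Set.range (AlgSp.Points.map j.hom)))
    (P : AlgSp.Space S) (fst : P ⟶ X) (snd : P ⟶ V) (hP : IsPullback fst.hom snd.hom f.hom j.hom)
    (hV : AlgSp.IsFiniteMor snd.hom)
    (h : AlgSp.LocP @LocallyOfFinitePresentation f.hom ∨ AlgSp.IsQuasiCompactMor j.hom) :
    AlgSp.IsFiniteMor f.hom := by
  have hft : AlgSp.LocP @LocallyOfFiniteType f.hom := hf2.2.1.1
  have hV' : ∀ x, AlgSp.HasAtMor
      (fun _ _ h u => FlatMor.fibreDimAt h u ≤ ((0 : ℕ) : WithBot ℕ∞)) snd.hom x := by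
    intro x
    obtain ⟨Z, b, z, hZ, hbe, hz⟩ := exists_affine_chart_at V.property (AlgSp.Points.map snd.hom x)
    obtain ⟨W, i, a, sq, _, hfin⟩ := hV hZ b
    obtain ⟨w, hw1, hw2⟩ :=
      Groth.Agent.Lib.H5bIntDimSp.exists_point_of_isPullback_chart sq x z hz
    have hae : AlgSp.RepWith @Etale a :=
      (AlgSp.repWith_isStableUnderBaseChange (S := S) @Etale).of_isPullback sq.flip hbe
    refine ⟨W, Z, a, b, i, w, hae, hbe, sq.w, hw1, ?_⟩
    have : IsFinite i.left := hfin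
    have hq : LocallyQuasiFinite i.left := inferInstance
    have := (Groth.Agent.Lib.Helper3.GrpHomQF.locallyQuasiFinite_iff_forall_fibreDimAt_le_zero
      i.left).1 hq w
    simpa using this
  have key := Groth.Agent.S10653.result f j 0 hf1 hft hj1 hj2 P fst snd hP hV' h
  have hlqf : AlgSp.LocP (@LocallyQuasiFinite ⊓ @LocallyOfFiniteType) f.hom := by
    intro U V₀ a b h₀ ha hb hw
    have hlft : LocallyOfFiniteType h₀.left := hft a b h₀ ha hb hw
    refine ⟨?_, hlft⟩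
    rw [Groth.Agent.Lib.Helper3.GrpHomQF.locallyQuasiFinite_iff_forall_fibreDimAt_le_zero]
    intro u
    have := (hasAtMor_iff_of_chart (etLocalQ_fibreDimAt (fun r => r ≤ ((0 : ℕ) : WithBot ℕ∞)))
      f.hom (AlgSp.Points.ofPt a u) a b h₀ ha hb hw u rfl).1 (key _)
    simpa using this
  have h01 := (Groth.Agent.S10649.result f).out 0 1
  exact h01.2 ⟨hf2, hlqf⟩

/-- For a flat proper morphism f : X ⟶ Y of algebraic spaces over S and an open subspace j : V ⟶ Y with
|V| dense in |Y| such that the base change X ×_Y V ⟶ V is finite: f is finite over all of Y,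
provided either j is quasi-compact or f is locally of finite presentation. -/
theorem result {S : Scheme.{u}} {X Y V : AlgSp.Space S} (f : X ⟶ Y) (j : V ⟶ Y)
    (hf1 : AlgSp.LocP @Flat f.hom) (hf2 : AlgSp.IsProperMor f.hom)
    (hj1 : AlgSp.RepWith @IsOpenImmersion j.hom) (hj2 : Dense (Set.range (AlgSp.Points.map j.hom)))
    (P : AlgSp.Space S) (fst : P ⟶ X) (snd : P ⟶ V) (hP : IsPullback fst.hom snd.hom f.hom j.hom)
    (hV : AlgSp.IsFiniteMor snd.hom)
    (h : AlgSp.LocP @LocallyOfFinitePresentation f.hom ∨ AlgSp.IsQuasiCompactMor j.hom) :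
    AlgSp.IsFiniteMor f.hom := by
  exact main f j hf1 hf2 hj1 hj2 P fst snd hP hV h

end Groth.Agent.S10654
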