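import Groth.Statements.S10659
import Mathlib


set_option autoImplicit false
universe u
open CategoryTheory CategoryTheory.Limits AlgebraicGeometry
open AlgSp

namespace Groth.Agent.S10659


variable {S : Scheme.{u}}

lemma of_etale_pullback (P : MorphismProperty Scheme.{u})
    [P.IsLocalAtTarget Scheme.etalePrecoverage]
    {A B C D : Scheme.{u}} {fst : A ⟶ B} {snd : A ⟶ C} {f : B ⟶ D} {g : C ⟶ D}
    (h : IsPullback fst snd f g) (hg : Etale g) (hf : P f) : P snd := by
  have : HasPullback f g := h.hasPullback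
  rw [← P.cancel_left_of_respectsIso h.isoPullback.inv, h.isoPullback_inv_snd]
  let R : Presieve D := fun Z => {k | Etale k}
  have hR : R ∈ Scheme.etalePrecoverage D := by
    refine ⟨(Presieve.mem_comap_jointlySurjectivePrecoverage_iff Scheme.forget).2
      (fun x => ⟨D, 𝟙 D, ?_, x, rfl⟩), fun _ _ hg => hg⟩
    show Etale (𝟙 D)
    infer_instance
  exact MorphismProperty.IsLocalAtTarget.pullbackSnd hR (show R g from hg) hf

lemma of_etale_surj_pullback (P : MorphismProperty Scheme.{u})
    [P.IsLocalAtTarget Scheme.etalePrecoverage]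
    {A B C D : Scheme.{u}} {fst : A ⟶ B} {snd : A ⟶ C} {f : B ⟶ D} {g : C ⟶ D}
    (h : IsPullback fst snd f g) (hg : Etale g) (hs : Surjective g) (hsnd : P snd) : P f := by
  have hR : Presieve.singleton g ∈ Scheme.etalePrecoverage D := by
    unfold Scheme.etalePrecoverage
    rw [Scheme.singleton_mem_precoverage_iff]
    exact ⟨hs.surj, hg⟩
  refine MorphismProperty.IsLocalAtTarget.of_forall_pullbackSnd hR ?_
  intro U g' _ hg'
  obtain ⟨⟩ := hg'
  have : HasPullback f g := h.hasPullback
  rw [← P.cancel_left_of_respectsIso h.isoPullback.hom, h.isoPullback_hom_snd]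
  exact hsnd

/-- For a property P of morphisms of schemes that is etale local on the target (local for the etale
precoverage) and a representable morphism f : X ⟶ Y of algebraic spaces over S: if for one scheme V
with a representable etale surjective b : h_V ⟶ Y and one pullback square of f along b with corner
h_W the projection W ⟶ V has P, then f has P etale locally on the target in the representable sense,
i.e. every such projection along every etale h_V ⟶ Y has P. (The published statement also asserts
the converse direction and that, for X and Y representable, the condition is equivalent to f having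
P; this row states only that one surjective etale chart suffices.) -/
theorem result {S : Scheme.{u}} (P : MorphismProperty Scheme.{u}) [P.IsLocalAtTarget Scheme.etalePrecoverage]
    {X Y : AlgSp.Space S} (f : X ⟶ Y) (hf : AlgSp.Representable f.hom)
    {V W : Over S} (b : (AlgSp.yon S).obj V ⟶ Y.obj) (hb1 : AlgSp.RepWith @Etale b) (hb2 : AlgSp.RepWith @Surjective b)
    (fst : (AlgSp.yon S).obj W ⟶ X.obj) (snd : W ⟶ V)
    (sq : IsPullback fst ((AlgSp.yon S).map snd) f.hom b) (hP : P snd.left) :
    AlgSp.RepLocT P f.hom := by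
  refine ⟨hf, ?_⟩
  intro V' W' b' fst' snd' hb' sq'
  -- the fibre product T = V ×_Y V'
  have sqT := hb1.rep.isPullback b'
  obtain ⟨p₀, hp₀⟩ := (AlgSp.yon S).map_surjective (hb1.rep.fst b')
  set q := hb1.rep.snd b' with hq
  rw [← hp₀] at sqT
  have hqe : Etale q.left := hb1.2 b' _ q sqT
  have hqs : Surjective q.left := hb2.2 b' _ q sqT
  have hpe : Etale p₀.left := hb'.2 b _ p₀ sqT.flip
  -- the pullback of f to T
  have sqR := hf.isPullback ((AlgSp.yon S).map p₀ ≫ b)
  set r2 := hf.snd ((AlgSp.yon S).map p₀ ≫ b) with hr2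
  set r1 := hf.fst ((AlgSp.yon S).map p₀ ≫ b) with hr1
  -- comparison with W
  have c1 : r1 ≫ f.hom = ((AlgSp.yon S).map r2 ≫ (AlgSp.yon S).map p₀) ≫ b := by
    rw [sqR.w, Category.assoc]
  have l1 : sq.lift _ _ c1 ≫ fst = r1 := sq.lift_fst _ _ _
  have l2 : sq.lift _ _ c1 ≫ (AlgSp.yon S).map snd = (AlgSp.yon S).map r2 ≫ (AlgSp.yon S).map p₀ :=
    sq.lift_snd _ _ _
  have sq1 : IsPullback (sq.lift _ _ c1) ((AlgSp.yon S).map r2) ((AlgSp.yon S).map snd)
      ((AlgSp.yon S).map p₀) := by
    refine IsPullback.of_right ?_ l2 sq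
    rw [l1]
    exact sqR
  obtain ⟨m₀, hm₀⟩ := (AlgSp.yon S).map_surjective (sq.lift _ _ c1)
  rw [← hm₀] at sq1 l2
  have w1 : m₀ ≫ snd = r2 ≫ p₀ := by
    apply (AlgSp.yon S).map_injective
    rw [Functor.map_comp, Functor.map_comp]
    exact l2
  have sq1' : IsPullback m₀.left r2.left snd.left p₀.left :=
    (IsPullback.of_map (AlgSp.yon S) w1 sq1).map (Over.forget S)
  have hPr2 : P r2.left := of_etale_pullback P sq1' hpe hP
  -- comparison with W'
  have c2 : r1 ≫ f.hom = ((AlgSp.yon S).map r2 ≫ (AlgSp.yon S).map q) ≫ b' := by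
    rw [Category.assoc, ← sqT.w]
    exact sqR.w
  have l1' : sq'.lift _ _ c2 ≫ fst' = r1 := sq'.lift_fst _ _ _
  have l2' : sq'.lift _ _ c2 ≫ (AlgSp.yon S).map snd' = (AlgSp.yon S).map r2 ≫ (AlgSp.yon S).map q :=
    sq'.lift_snd _ _ _
  have sq2 : IsPullback (sq'.lift _ _ c2) ((AlgSp.yon S).map r2) ((AlgSp.yon S).map snd')
      ((AlgSp.yon S).map q) := by
    refine IsPullback.of_right ?_ l2' sq'
    rw [l1', ← sqT.w]
    exact sqR
  obtain ⟨n₀, hn₀⟩ := (AlgSp.yon S).map_surjective (sq'.lift _ _ c2)
  rw [← hn₀] at sq2 l2'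
  have w2 : n₀ ≫ snd' = r2 ≫ q := by
    apply (AlgSp.yon S).map_injective
    rw [Functor.map_comp, Functor.map_comp]
    exact l2'
  have sq2' : IsPullback n₀.left r2.left snd'.left q.left :=
    (IsPullback.of_map (AlgSp.yon S) w2 sq2).map (Over.forget S)
  exact of_etale_surj_pullback P sq2' hqe hqs hPr2

end Groth.Agent.S10659
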