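import Groth.Statements.S8905
import Groth.Agent.Lib.H9KoszulH1
import Groth.Agent.S15821
import Groth.Agent.S2103

set_option autoImplicit false
universe u
open CategoryTheory CategoryTheory.Limits AlgebraicGeometry TopologicalSpace
open SDiv

namespace Groth.Agent.S8905

/-- monotonicity of regular immersions in the kind of sequence -/
theorem isRegularImmersion_mono {k k' : RegImm.Kind}
    (h : ∀ (R : Type u) [CommRing R] (rs : List R), k.Seq R rs → k'.Seq R rs)
    {Z X : Scheme.{u}} (i : Z ⟶ X) :
    RegImm.IsRegularImmersion k i → RegImm.IsRegularImmersion k' i := by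
  rintro ⟨hi, hz⟩
  refine ⟨hi, fun z => ?_⟩
  obtain ⟨U, hU, hcl, rs, hrs, hker⟩ := hz z
  exact ⟨U, hU, hcl, rs, h _ rs hrs, hker⟩

/-- Let i : Z ⟶ X be an immersion of schemes. If i is a regular immersion then it is Koszul-regular; if
Koszul-regular then H_1-regular; if H_1-regular then quasi-regular. -/
theorem result {Z X : Scheme.{u}} (i : Z ⟶ X) :
    (RegImm.IsRegularImmersion RegImm.Kind.regular i → RegImm.IsRegularImmersion RegImm.Kind.koszul i) ∧
      (RegImm.IsRegularImmersion RegImm.Kind.koszul i → RegImm.IsRegularImmersion RegImm.Kind.h1 i) ∧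
      (RegImm.IsRegularImmersion RegImm.Kind.h1 i → RegImm.IsRegularImmersion RegImm.Kind.quasi i) := by
  refine ⟨isRegularImmersion_mono (fun R _ rs h => ?_) i,
    isRegularImmersion_mono (fun R _ rs h => ?_) i,
    isRegularImmersion_mono (fun R _ rs h => ?_) i⟩
  · have h' : RingTheory.Sequence.IsRegular R rs := h
    exact (Groth.Agent.S15821.result R rs h'.toIsWeaklyRegular).1
  · have h' : LCI.IsKoszulRegularSeq R rs := h
    exact Groth.Agent.Lib.H9KoszulH1.isH1Regular_of_isKoszulRegularSeq rs h'
  · have h' : CAlgX.IsH1Regular rs.get := h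
    exact Groth.Agent.S2103.result rs.get h'

end Groth.Agent.S8905
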