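import Groth.Statements.S5003
import Groth.Agent.Lib.H9QRegNoeth
import Groth.Agent.S8905

set_option autoImplicit false
universe u
open CategoryTheory CategoryTheory.Limits AlgebraicGeometry TopologicalSpace
open Nrm16

namespace Groth.Agent.S5003

/-- Let X be a locally Noetherian scheme and j : Y ⟶ X a morphism. Then j is a regular immersion if and
only if j is a quasi-regular immersion. -/
theorem result {X Y : Scheme.{u}} [IsLocallyNoetherian X] (j : Y ⟶ X) :
    RegImm.IsRegularImmersion RegImm.Kind.regular j ↔ RegImm.IsRegularImmersion RegImm.Kind.quasi j := by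
  constructor
  · intro h
    have h8 := Groth.Agent.S8905.result j
    exact h8.2.2 (h8.2.1 (h8.1 h))
  · rintro ⟨himm, h⟩
    refine ⟨himm, fun z => ?_⟩
    obtain ⟨U, hz, hcl, rs, hrs, hker⟩ := h z
    exact Groth.Agent.Lib.H9QRegNoeth.isRegularImmersionAt_of_stalkReg' j z U.1 hz hcl
      (Groth.Agent.Lib.H9QRegNoeth.stalkReg_of_quasi j z U.1 U.2 hz hcl rs hrs hker)

end Groth.Agent.S5003
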