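import Groth.Statements.S10661
import Groth.Agent.S8905
import Groth.Agent.S5003
import Groth.Agent.Lib.Helper8EtSk

set_option autoImplicit false
universe u
open CategoryTheory CategoryTheory.Limits AlgebraicGeometry
open AlgSp

namespace Groth.Agent.S10661

/-- For an immersion i : Z ⟶ X of algebraic spaces over S with X locally Noetherian (some etale
surjective chart is a locally Noetherian scheme), the three conditions Koszul-regular immersion,
H_1-regular immersion and quasi-regular immersion on i are equivalent. -/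
theorem result {S : Scheme.{u}} {Z X : AlgSp.Space S} (i : Z ⟶ X) (hi : AlgSp.RepWith @IsImmersion i.hom)
    (hX : AlgSp.IsLocNoethSp X.obj) :
    (AlgSp.IsRegImmMor RegImm.Kind.koszul i.hom ↔ AlgSp.IsRegImmMor RegImm.Kind.h1 i.hom) ∧
      (AlgSp.IsRegImmMor RegImm.Kind.h1 i.hom ↔ AlgSp.IsRegImmMor RegImm.Kind.quasi i.hom) := by
  obtain ⟨U, p, hpe, hps, hU⟩ := hX
  haveI : IsLocallyNoetherian U.left := hU
  -- every étale chart of `X` is locally Noetherian
  have hV : ∀ ⦃V : Over S⦄ (b : (AlgSp.yon S).obj V ⟶ X.obj), AlgSp.RepWith @Etale b →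
      IsLocallyNoetherian V.left := by
    intro V b hb
    obtain ⟨W, f, s, hf, hs, hss⟩ := Groth.Agent.Lib.Helper8.EtSk.exists_common_chart p b hpe hps hb
    haveI : IsLocallyNoetherian W.left := LocallyOfFiniteType.isLocallyNoetherian f.left
    exact Groth.Agent.Lib.Helper12.NoethDescent.isLocallyNoetherian_of_flat_lfp_surjective s.left
  have key : AlgSp.IsRegImmMor RegImm.Kind.quasi i.hom → AlgSp.IsRegImmMor RegImm.Kind.koszul i.hom := by
    rintro ⟨hrep, h⟩
    refine ⟨hrep, fun V W b fst snd hb sq => ?_⟩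
    haveI := hV b hb
    exact (Groth.Agent.S8905.result snd.left).1
      ((Groth.Agent.S5003.result snd.left).2 (h b fst snd hb sq))
  have h1 : AlgSp.IsRegImmMor RegImm.Kind.koszul i.hom → AlgSp.IsRegImmMor RegImm.Kind.h1 i.hom := by
    rintro ⟨hrep, h⟩
    refine ⟨hrep, fun V W b fst snd hb sq => ?_⟩
    exact (Groth.Agent.S8905.result snd.left).2.1 (h b fst snd hb sq)
  have h2 : AlgSp.IsRegImmMor RegImm.Kind.h1 i.hom → AlgSp.IsRegImmMor RegImm.Kind.quasi i.hom := by
    rintro ⟨hrep, h⟩
    refine ⟨hrep, fun V W b fst snd hb sq => ?_⟩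
    exact (Groth.Agent.S8905.result snd.left).2.2 (h b fst snd hb sq)
  exact ⟨⟨h1, fun h => key (h2 h)⟩, ⟨h2, fun h => h1 (key h)⟩⟩

end Groth.Agent.S10661
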