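import Groth.Statements.S10664
import Mathlib
import Groth.Agent.Lib.H5bLciB
import Groth.Agent.S8656

set_option autoImplicit false
universe u
open CategoryTheory CategoryTheory.Limits AlgebraicGeometry
open AlgSp

namespace Groth.Agent.S10664

set_option linter.style.haveILetI false

/-- For a local complete intersection (Koszul) morphism f : X ⟶ Y of algebraic spaces over S, a smooth g
: P ⟶ Y, an etale e : U ⟶ X and a representable immersion i : U ⟶ P with i ≫ g = e ≫ f, the
immersion i is Koszul-regular as an immersion of algebraic spaces. -/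
theorem result {S : Scheme.{u}} {X Y P U : AlgSp.Space S} (f : X ⟶ Y) (g : P ⟶ Y) (e : U ⟶ X) (i : U ⟶ P)
    (hc : i ≫ g = e ≫ f) (hf : AlgSp.IsLCIMor f.hom) (hg : AlgSp.LocP @Smooth g.hom)
    (he : AlgSp.IsEtaleMor e.hom) (hi : AlgSp.RepWith @IsImmersion i.hom) :
    AlgSp.IsRegImmMor RegImm.Kind.koszul i.hom := by
  refine ⟨hi.1, ?_⟩
  intro V W b fst snd hb sq
  haveI himm : IsImmersion snd.left := hi.2 b fst snd sq
  have hef : e.hom ≫ f.hom = i.hom ≫ g.hom := by
    have := congrArg (fun m => m.hom) hc
    exact this.symm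
  obtain ⟨C, c, hce, hcs⟩ := Y.property.atlas
  obtain ⟨V', π, k', sqV⟩ := hce.1 (b ≫ g.hom)
  obtain ⟨k, rfl⟩ := (AlgSp.yon S).map_surjective k'
  haveI : Etale π.left := hce.2 _ _ π sqV
  haveI : Surjective π.left := hcs.2 _ _ π sqV
  have hπb : AlgSp.RepWith @Etale ((AlgSp.yon S).map π ≫ b) :=
    (AlgSp.RepWith @Etale).comp_mem _ _ ((AlgSp.repWith_yon_map_iff _ _).2 inferInstance) hb
  haveI hk : Smooth k.left := hg ((AlgSp.yon S).map π ≫ b) c k hπb hce (by
    rw [Category.assoc]; exact sqV.w.symm)
  have hsq : IsPullback (pullback.fst snd π).left (pullback.snd snd π).left snd.left π.left :=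
    (IsPullback.of_hasPullback snd π).map (Over.forget S)
  haveI : Etale (pullback.fst snd π).left :=
    MorphismProperty.of_isPullback (P := @Etale) hsq.flip inferInstance
  haveI : IsImmersion (pullback.snd snd π).left :=
    MorphismProperty.of_isPullback (P := @IsImmersion) hsq himm
  have hfst : AlgSp.RepWith @Etale fst :=
    MorphismProperty.of_isPullback (P := AlgSp.RepWith @Etale) sq.flip hb
  have ha : AlgSp.RepWith @Etale (((AlgSp.yon S).map (pullback.fst snd π) ≫ fst) ≫ e.hom) :=
    he _ ((AlgSp.RepWith @Etale).comp_mem _ _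
      ((AlgSp.repWith_yon_map_iff _ _).2 inferInstance) hfst)
  have hl := hf (((AlgSp.yon S).map (pullback.fst snd π) ≫ fst) ≫ e.hom) c
    (pullback.snd snd π ≫ k) ha hce (by
      rw [Category.assoc, hef, Category.assoc, ← Category.assoc fst, sq.w, Category.assoc,
        ← Category.assoc, ← Functor.map_comp, pullback.condition, Functor.map_comp,
        Category.assoc, sqV.w.symm, ← Category.assoc, ← Functor.map_comp])
  rw [Over.comp_left] at hl
  have hK : RegImm.IsRegularImmersion .koszul (pullback.snd snd π).left :=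
    Groth.Agent.S8656.result ((pullback.snd snd π).left ≫ k.left) hl k.left
      (pullback.snd snd π).left rfl
  exact Groth.Agent.Lib.H5bLci.koszul_of_fppf_baseChange snd.left π.left
    (pullback.snd snd π).left (pullback.fst snd π).left hsq hK

end Groth.Agent.S10664
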