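import Groth.Statements.S10665
import Mathlib
import Groth.Agent.S8652
import Groth.Agent.Lib.Helper8EtLift
import Groth.Agent.Lib.H5bFibChart

set_option autoImplicit false
universe u
open CategoryTheory CategoryTheory.Limits AlgebraicGeometry
open AlgSp

namespace Groth.Agent.S10665

/-- scheme level: étale followed by a Koszul-regular immersion is Koszul at every point. -/
lemma isKoszulAt_of_etale_comp {U W V : Scheme.{u}} (e : U ⟶ W) [Etale e] (s : W ⟶ V)
    (hs : RegImm.IsRegularImmersion .koszul s) (x : U) : Synt.IsKoszulAt (e ≫ s) x := by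
  haveI : IsImmersion s := hs.1
  have sq0 : IsPullback (𝟙 W) s.liftCoborder s s.coborderRange.ι := by
    refine ⟨⟨by rw [Category.id_comp, Scheme.Hom.liftCoborder_ι]⟩, ⟨PullbackCone.IsLimit.mk _
      (fun c => c.fst) (fun c => Category.comp_id _) (fun c => ?_) (fun c m h1 _ => ?_)⟩⟩
    · rw [← cancel_mono s.coborderRange.ι, Category.assoc, Scheme.Hom.liftCoborder_ι]
      exact c.condition
    · rw [← h1, Category.comp_id]
  have hs' : RegImm.IsRegularImmersion .koszul s.liftCoborder :=
    Groth.Agent.S8652.result s s.coborderRange.ι s.liftCoborder (𝟙 W) sq0 hs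
  obtain ⟨B, B₀, c, k, r, hB, hc, hr, sq, hx⟩ :=
    Groth.Agent.Lib.Helper8EtLift.exists_etale_lift_closed s.liftCoborder e x
  haveI := hc
  haveI := hr
  have sqU : IsPullback (r.opensRange.ι ≫ e) (r.isoOpensRange.inv ≫ k) s.liftCoborder c := by
    refine IsPullback.of_iso sq.flip r.isoOpensRange (Iso.refl _) (Iso.refl _) (Iso.refl _)
      ?_ ?_ ?_ ?_
    · rw [Iso.refl_hom, Category.comp_id, ← Category.assoc, Scheme.Hom.isoOpensRange_hom_ι]
    · rw [Iso.refl_hom, Category.comp_id, Iso.hom_inv_id_assoc]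
    · rw [Iso.refl_hom, Category.comp_id, Iso.refl_hom, Category.id_comp]
    · rw [Iso.refl_hom, Category.comp_id, Iso.refl_hom, Category.id_comp]
  refine ⟨r.opensRange, B, r.isoOpensRange.inv ≫ k, c ≫ s.coborderRange.ι, hx, ?_, ?_, ?_, ?_⟩
  · infer_instance
  · exact Groth.Agent.S8652.result s.liftCoborder c _ _ sqU hs'
  · infer_instance
  · rw [Category.assoc, ← Category.assoc k, sq.w]
    simp only [Category.assoc, Scheme.Hom.liftCoborder_ι, Scheme.Hom.isoOpensRange_inv_comp_assoc]

/-- A Koszul-regular immersion between algebraic spaces over S (representable, Koszul-regular immersion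
on every etale scheme chart of the target) is a local complete intersection morphism (Koszul at
every point, etale locally on source and target). -/
theorem result {S : Scheme.{u}} {X Y : AlgSp.Space S} (i : X ⟶ Y) (hi : AlgSp.IsRegImmMor RegImm.Kind.koszul i.hom) :
    AlgSp.IsLCIMor i.hom := by
  intro U V a b h ha hb hcomm
  obtain ⟨W, snd, fst, sq⟩ := hi.1 b
  have hreg : RegImm.IsRegularImmersion .koszul snd.left := hi.2 b fst snd hb sq
  have hfst : AlgSp.RepWith @Etale fst :=
    MorphismProperty.of_isPullback (P := AlgSp.RepWith @Etale) sq.flip hb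
  have hl1 : sq.lift a ((AlgSp.yon S).map h) hcomm ≫ fst = a := sq.lift_fst _ _ _
  have hl2 : sq.lift a ((AlgSp.yon S).map h) hcomm ≫ (AlgSp.yon S).map snd = (AlgSp.yon S).map h :=
    sq.lift_snd _ _ _
  obtain ⟨e, he⟩ := (AlgSp.yon S).map_surjective (sq.lift a ((AlgSp.yon S).map h) hcomm)
  rw [← he] at hl1 hl2
  have hes : e ≫ snd = h := (AlgSp.yon S).map_injective (by rw [Functor.map_comp, hl2])
  have hee : AlgSp.RepWith @Etale ((AlgSp.yon S).map e) :=
    Groth.Agent.Lib.H5bFibChart.repWith_etale_of_comp (AlgSp.IsAlgSpace.yon_obj W) _ fst hfst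
      (by rw [hl1]; exact ha)
  haveI : Etale e.left := (AlgSp.repWith_yon_map_iff @Etale e).1 hee
  intro x
  have hh : h.left = e.left ≫ snd.left := by rw [← hes]; rfl
  rw [hh]
  exact isKoszulAt_of_etale_comp e.left snd.left hreg x

end Groth.Agent.S10665
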