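import Groth.Statements.S10666
import Mathlib
import Groth.Agent.Lib.H5bLciA

set_option autoImplicit false
universe u
open CategoryTheory CategoryTheory.Limits AlgebraicGeometry
open AlgSp

namespace Groth.Agent.S10666

set_option linter.style.haveILetI false

/-- For morphisms f : X ⟶ Y, p : X ⟶ Z, q : Y ⟶ Z of algebraic spaces over S with f ≫ q = p: if q is
smooth and p is a local complete intersection morphism, then so is f. -/
theorem result {S : Scheme.{u}} {X Y Z : AlgSp.Space S} (f : X ⟶ Y) (p : X ⟶ Z) (q : Y ⟶ Z) (hc : f ≫ q = p)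
    (hq : AlgSp.LocP @Smooth q.hom) (hp : AlgSp.IsLCIMor p.hom) :
    AlgSp.IsLCIMor f.hom := by
  intro U V a b h ha hb hcomm
  have hpq : p.hom = f.hom ≫ q.hom := by rw [← hc]; rfl
  obtain ⟨C, c, hce, hcs⟩ := Z.property.atlas
  obtain ⟨V', π, k', sqV⟩ := hce.1 (b ≫ q.hom)
  obtain ⟨k, rfl⟩ := (AlgSp.yon S).map_surjective k'
  haveI : Etale π.left := hce.2 _ _ π sqV
  haveI : Surjective π.left := hcs.2 _ _ π sqV
  have hπb : AlgSp.RepWith @Etale ((AlgSp.yon S).map π ≫ b) :=
    (AlgSp.RepWith @Etale).comp_mem _ _ ((AlgSp.repWith_yon_map_iff _ _).2 inferInstance) hb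
  have hk : Smooth k.left := hq ((AlgSp.yon S).map π ≫ b) c k hπb hce (by
    rw [Category.assoc]; exact sqV.w.symm)
  have hfa : AlgSp.RepWith @Etale ((AlgSp.yon S).map (pullback.fst h π) ≫ a) := by
    refine (AlgSp.RepWith @Etale).comp_mem _ _ ((AlgSp.repWith_yon_map_iff _ _).2 ?_) ha
    have hsq : IsPullback (pullback.fst h π).left (pullback.snd h π).left h.left π.left :=
      (IsPullback.of_hasPullback h π).map (Over.forget S)
    exact MorphismProperty.of_isPullback (P := @Etale) hsq.flip inferInstance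
  have hl := hp ((AlgSp.yon S).map (pullback.fst h π) ≫ a) c (pullback.snd h π ≫ k) hfa hce (by
    rw [hpq, Category.assoc, ← Category.assoc a, hcomm, Category.assoc, ← Category.assoc,
      ← Functor.map_comp, pullback.condition, Functor.map_comp, Category.assoc, sqV.w.symm,
      ← Category.assoc, ← Functor.map_comp])
  rw [Over.comp_left] at hl
  have h1 : AlgSp.lci (pullback.snd h π).left :=
    Groth.Agent.Lib.H5bLci.lci_cancel_smooth _ _ hk hl
  have hsq : IsPullback (pullback.fst h π).left (pullback.snd h π).left h.left π.left :=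
    (IsPullback.of_hasPullback h π).map (Over.forget S)
  have hπQ : (@Surjective ⊓ @Flat ⊓ @LocallyOfFinitePresentation : MorphismProperty Scheme.{u})
      π.left := ⟨⟨inferInstance, inferInstance⟩, inferInstance⟩
  exact MorphismProperty.of_isPullback_of_descendsAlong (P := AlgSp.lci)
    (Q := @Surjective ⊓ @Flat ⊓ @LocallyOfFinitePresentation) hsq.flip hπQ h1

end Groth.Agent.S10666
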