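import Groth.Statements.S10667
import Mathlib
import Groth.Agent.Lib.H5bLciC

set_option autoImplicit false
universe u
open CategoryTheory CategoryTheory.Limits AlgebraicGeometry
open AlgSp

namespace Groth.Agent.S10667

/-- The property of being a local complete intersection morphism of algebraic spaces over S is fpqc
local on the base: for an fpqc covering of an algebraic space Y by algebraic spaces Y_i and pullback
squares X_i = X ×_Y Y_i, a morphism f : X ⟶ Y is a local complete intersection morphism if and only
if every base change X_i ⟶ Y_i is. -/
theorem result {S : Scheme.{u}} : AlgSp.IsLocalOnBase (AlgSp.IsFpqcCover (S := S)) AlgSp.IsLCIMor := by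
  intro ι Y Yi g hY hYi hcov X f hX Xi p q hXi sq
  constructor
  · intro hf i
    exact Groth.Agent.Lib.H5bLci.locP_lci_flatBaseChange hX hY (hYi i) (sq i) hf (hcov.1 i)
  · intro H
    exact Groth.Agent.Lib.H5bLci.locP_lci_of_fpqcCover_base Yi g hY hYi hcov f hX Xi p q hXi sq H

end Groth.Agent.S10667
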