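import Groth.Statements.S10669
import Mathlib
import Groth.Agent.Lib.Helper10DVRFibre6
import Groth.Agent.Lib.Helper12FieldBC
import Groth.Agent.Lib.Helper12GeomRed
import Groth.Agent.Lib.H5bEtLocal
import Groth.Agent.S10176
import Groth.Agent.S10177

set_option autoImplicit false
universe u
open CategoryTheory CategoryTheory.Limits AlgebraicGeometry
open AlgSp

namespace Groth.Agent.S10669

open Groth.Agent.Lib.Helper10.DVRFibre

/-- base change of a chart along a morphism of the base schemes. -/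
theorem exists_chart_bc {S : Scheme.{u}} {X X' : AlgSp.Sp S} {pt Kpt : Over S}
    (s : X ⟶ (AlgSp.yon S).obj pt) (ι : Kpt ⟶ pt)
    (fst : X' ⟶ X) (snd : X' ⟶ (AlgSp.yon S).obj Kpt)
    (sq : IsPullback fst snd s ((AlgSp.yon S).map ι))
    {U : Over S} (a : (AlgSp.yon S).obj U ⟶ X) (hU : U ⟶ pt)
    (hUa : a ≫ s = (AlgSp.yon S).map hU) :
    ∃ (U' : Over S) (pr₁ : U' ⟶ U) (pr₂ : U' ⟶ Kpt) (a' : (AlgSp.yon S).obj U' ⟶ X'),
      IsPullback pr₁.left pr₂.left hU.left ι.left ∧
        IsPullback a' ((AlgSp.yon S).map pr₁) fst a := by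
  have sqO := IsPullback.of_hasPullback hU ι
  have sqY := sqO.map (AlgSp.yon S)
  have w' : ((AlgSp.yon S).map (pullback.fst hU ι) ≫ a) ≫ s =
      (AlgSp.yon S).map (pullback.snd hU ι) ≫ (AlgSp.yon S).map ι := by
    rw [Category.assoc, hUa]
    exact sqY.w
  refine ⟨pullback hU ι, pullback.fst hU ι, pullback.snd hU ι, sq.lift _ _ w',
    sqO.map (Over.forget S), ?_⟩
  have big : IsPullback (sq.lift _ _ w' ≫ snd) ((AlgSp.yon S).map (pullback.fst hU ι))
      ((AlgSp.yon S).map ι) (a ≫ s) := by
    rw [sq.lift_snd, hUa]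
    exact sqY.flip
  exact IsPullback.of_right big (sq.lift_fst _ _ _) sq.flip

/-- the scheme-theoretic closed fibre over a local ring, from any pullback along the residue
map. -/
theorem isReduced_fiber_closedPoint {R : Type u} [CommRing R] [IsLocalRing R] {U P : Scheme.{u}}
    (f : U ⟶ Spec (CommRingCat.of R)) (p₁ : P ⟶ U)
    (p₂ : P ⟶ Spec (CommRingCat.of (IsLocalRing.ResidueField R)))
    (sq : IsPullback p₁ p₂ f (Spec.map (CommRingCat.ofHom (IsLocalRing.residue R))))
    [IsReduced P] : IsReduced (f.fiber (IsLocalRing.closedPoint R)) := by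
  let e : IsLocalRing.ResidueField R ≃+* (IsLocalRing.maximalIdeal R).ResidueField :=
    RingEquiv.ofBijective (algebraMap (R ⧸ IsLocalRing.maximalIdeal R)
      (IsLocalRing.maximalIdeal R).ResidueField)
      (IsLocalRing.maximalIdeal R).bijective_algebraMap_quotient_residueField
  let g := Spec.map (CommRingCat.ofHom (IsLocalRing.residue R))
  let rfi := Scheme.Spec.residueFieldIso (CommRingCat.of R) (IsLocalRing.closedPoint R)
  have h1 : Spec.map rfi.inv ≫ Spec.map (CommRingCat.ofHom (algebraMap (CommRingCat.of R)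
      (IsLocalRing.closedPoint R).asIdeal.ResidueField)) =
      (Spec (CommRingCat.of R)).fromSpecResidueField (IsLocalRing.closedPoint R) :=
    Scheme.Spec.map_residueFieldIso_inv_eq_fromSpecResidueField (CommRingCat.of R)
      (IsLocalRing.closedPoint R)
  have he' : CommRingCat.ofHom (IsLocalRing.residue R) ≫ CommRingCat.ofHom e.toRingHom =
      CommRingCat.ofHom (algebraMap (CommRingCat.of R)
        (IsLocalRing.closedPoint R).asIdeal.ResidueField) := by
    ext r
    exact (IsScalarTower.algebraMap_apply R (R ⧸ IsLocalRing.maximalIdeal R)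
      (IsLocalRing.maximalIdeal R).ResidueField r).symm
  let θ₂ : Spec (CommRingCat.of (IsLocalRing.closedPoint R).asIdeal.ResidueField) ⟶
      Spec (CommRingCat.of (IsLocalRing.ResidueField R)) :=
    Spec.map (CommRingCat.ofHom e.toRingHom)
  haveI : IsIso (CommRingCat.ofHom e.toRingHom) := (RingEquiv.toCommRingCatIso e).isIso_hom
  have hiso : IsIso (Spec.map (CommRingCat.ofHom e.toRingHom)) := inferInstance
  haveI : IsIso θ₂ := hiso
  let θ : Spec ((Spec (CommRingCat.of R)).residueField (IsLocalRing.closedPoint R)) ⟶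
      Spec (CommRingCat.of (IsLocalRing.ResidueField R)) := Spec.map rfi.inv ≫ θ₂
  have hθ : θ ≫ g =
      (Spec (CommRingCat.of R)).fromSpecResidueField (IsLocalRing.closedPoint R) := by
    have e1 : θ₂ ≫ g = Spec.map (CommRingCat.ofHom (algebraMap (CommRingCat.of R)
        (IsLocalRing.closedPoint R).asIdeal.ResidueField)) := by
      have := congrArg Spec.map he'
      rw [Spec.map_comp] at this
      exact this
    calc θ ≫ g = Spec.map rfi.inv ≫ (θ₂ ≫ g) := Category.assoc _ _ _
      _ = Spec.map rfi.inv ≫ Spec.map (CommRingCat.ofHom (algebraMap (CommRingCat.of R)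
            (IsLocalRing.closedPoint R).asIdeal.ResidueField)) :=
          congrArg (fun t => Spec.map rfi.inv ≫ t) e1
      _ = _ := h1
  haveI : IsIso θ := by
    dsimp only [θ]
    infer_instance
  change IsReduced (pullback f
    ((Spec (CommRingCat.of R)).fromSpecResidueField (IsLocalRing.closedPoint R)))
  let fst' := pullback.fst f
    ((Spec (CommRingCat.of R)).fromSpecResidueField (IsLocalRing.closedPoint R))
  let snd' := pullback.snd f
    ((Spec (CommRingCat.of R)).fromSpecResidueField (IsLocalRing.closedPoint R))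
  have hc : fst' ≫ f = (snd' ≫ θ) ≫ g := by
    rw [Category.assoc, hθ]
    exact pullback.condition
  have hc' : p₁ ≫ f = (p₂ ≫ inv θ) ≫
      (Spec (CommRingCat.of R)).fromSpecResidueField (IsLocalRing.closedPoint R) := by
    rw [← hθ, Category.assoc, IsIso.inv_hom_id_assoc]
    exact sq.w
  obtain ⟨v, hv1, hv2⟩ : ∃ v : pullback f
      ((Spec (CommRingCat.of R)).fromSpecResidueField (IsLocalRing.closedPoint R)) ⟶ P,
      v ≫ p₁ = fst' ∧ v ≫ p₂ = snd' ≫ θ :=
    ⟨sq.lift fst' (snd' ≫ θ) hc, sq.lift_fst _ _ _, sq.lift_snd _ _ _⟩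
  obtain ⟨w, hw1, hw2⟩ : ∃ w : P ⟶ pullback f
      ((Spec (CommRingCat.of R)).fromSpecResidueField (IsLocalRing.closedPoint R)),
      w ≫ fst' = p₁ ∧ w ≫ snd' = p₂ ≫ inv θ :=
    ⟨pullback.lift p₁ (p₂ ≫ inv θ) hc', pullback.lift_fst _ _ _, pullback.lift_snd _ _ _⟩
  have hvw : v ≫ w = 𝟙 _ := by
    apply pullback.hom_ext
    · calc (v ≫ w) ≫ fst' = v ≫ w ≫ fst' := Category.assoc _ _ _
        _ = fst' := by rw [hw1, hv1]
        _ = 𝟙 _ ≫ fst' := (Category.id_comp _).symm
    · calc (v ≫ w) ≫ snd' = v ≫ w ≫ snd' := Category.assoc _ _ _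
        _ = (v ≫ p₂) ≫ inv θ := by rw [hw2, Category.assoc]
        _ = snd' := by rw [hv2, Category.assoc, IsIso.hom_inv_id, Category.comp_id]
        _ = 𝟙 _ ≫ snd' := (Category.id_comp _).symm
  have hwv : w ≫ v = 𝟙 _ := by
    apply sq.hom_ext
    · calc (w ≫ v) ≫ p₁ = w ≫ v ≫ p₁ := Category.assoc _ _ _
        _ = p₁ := by rw [hv1, hw1]
        _ = 𝟙 _ ≫ p₁ := (Category.id_comp _).symm
    · calc (w ≫ v) ≫ p₂ = w ≫ v ≫ p₂ := Category.assoc _ _ _
        _ = (w ≫ snd') ≫ θ := by rw [hv2, Category.assoc]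
        _ = p₂ := by rw [hw2, Category.assoc, IsIso.inv_hom_id, Category.comp_id]
        _ = 𝟙 _ ≫ p₂ := (Category.id_comp _).symm
  haveI : IsIso v := ⟨⟨w, hvw, hwv⟩⟩
  exact isReduced_of_isOpenImmersion v

/-- the fraction field of a discrete valuation ring is the localization away from a
uniformizer. -/
theorem isLocalization_away_fractionRing (R : Type u) [CommRing R] [IsDomain R]
    [IsDiscreteValuationRing R] {π : R} (hπ : Irreducible π) :
    IsLocalization.Away π (FractionRing R) := by
  refine ⟨?_, ?_, ?_⟩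
  · rintro ⟨_, n, rfl⟩
    apply IsUnit.mk0
    rw [map_pow]
    exact pow_ne_zero _ (by
      rw [Ne, map_eq_zero_iff _ (IsFractionRing.injective R (FractionRing R))]
      exact hπ.ne_zero)
  · intro z
    obtain ⟨a, b, hb, rfl⟩ := IsFractionRing.div_surjective (A := R) z
    have hb0 : b ≠ 0 := nonZeroDivisors.ne_zero hb
    obtain ⟨n, u, rfl⟩ := IsDiscreteValuationRing.eq_unit_mul_pow_irreducible hb0 hπ
    refine ⟨(a * ((u⁻¹ : Rˣ) : R), ⟨π ^ n, n, rfl⟩), ?_⟩
    have hu : algebraMap R (FractionRing R) (u : R) ≠ 0 := by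
      rw [Ne, map_eq_zero_iff _ (IsFractionRing.injective R (FractionRing R))]
      exact u.ne_zero
    have hp : algebraMap R (FractionRing R) (π ^ n) ≠ 0 := by
      rw [Ne, map_eq_zero_iff _ (IsFractionRing.injective R (FractionRing R))]
      exact pow_ne_zero _ hπ.ne_zero
    have hinv : algebraMap R (FractionRing R) ((u⁻¹ : Rˣ) : R) =
        (algebraMap R (FractionRing R) (u : R))⁻¹ := by
      apply eq_inv_of_mul_eq_one_left
      rw [← map_mul, Units.inv_mul, map_one]
    simp only [map_mul, hinv]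
    field_simp
  · intro x y hxy
    refine ⟨1, ?_⟩
    rw [IsFractionRing.injective R (FractionRing R) hxy]

/-- the local reducedness statement over the closed point (from the scheme case). -/
theorem key0 {R : Type u} [CommRing R] [IsDomain R] [IsDiscreteValuationRing R] {X : Scheme.{u}}
    (f : X ⟶ Spec (CommRingCat.of R)) [LocallyOfFiniteType f] [Flat f]
    (hred : IsReduced (f.fiber (IsLocalRing.closedPoint R))) (x : X) (hx : f x ≠ genPt R) :
    ∃ U : X.Opens, IsAffineOpen U ∧ x ∈ U ∧ _root_.IsReduced Γ(X, U) := by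
  classical
  obtain ⟨π, hπ⟩ := IsDiscreteValuationRing.exists_irreducible R
  haveI := hred
  have hgen : GeneralizingMap f := Flat.generalizingMap f
  obtain ⟨W, hW, hxW⟩ := exists_affineOpen_mem x
  have hft : (phi f W).FiniteType := by
    have h1 : (f.appLE ⊤ W le_top).hom.FiniteType :=
      HasRingHomProperty.appLE (P := @LocallyOfFiniteType) f inferInstance
        ⟨⊤, isAffineOpen_top _⟩ ⟨W, hW⟩ le_top
    have h2 : (Scheme.ΓSpecIso (CommRingCat.of R)).inv.hom.FiniteType :=
      RingHom.FiniteType.of_surjective _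
        (ConcreteCategory.bijective_of_isIso (Scheme.ΓSpecIso (CommRingCat.of R)).inv).2
    exact RingHom.FiniteType.comp h1 h2
  haveI : IsNoetherianRing Γ(X, W) := by
    letI : Algebra R Γ(X, W) := (phi f W).toAlgebra
    haveI : Algebra.FiniteType R Γ(X, W) := hft
    exact Algebra.FiniteType.isNoetherianRing R Γ(X, W)
  have hy : (IsLocalRing.closedPoint R).asIdeal = Ideal.span {π} := hπ.maximalIdeal_eq
  haveI : (IsLocalRing.closedPoint R).asIdeal.IsMaximal := IsLocalRing.maximalIdeal.isMaximal R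
  haveI : _root_.IsReduced (Γ(X, W) ⧸ Ideal.span {phi f W π}) :=
    isReduced_quotient_of_isReduced_fiber f (IsLocalRing.closedPoint R) π hy hW
  obtain ⟨s, hxs, -, -, h4⟩ := exists_basicOpen_nzd_reduced hW (phi f W π)
    (notMem_minimalPrimes_of_generalizing f hgen hW hπ.ne_zero) x hxW
    (notMem_basicOpen_phi f hπ hx)
  exact ⟨X.basicOpen s, hW.basicOpen s, hxs, h4⟩

/-- stalks of a reduced affine open are reduced. -/
theorem isReduced_stalk_of_affine {X : Scheme.{u}} {W : X.Opens} (hW : IsAffineOpen W)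
    [_root_.IsReduced Γ(X, W)] (x : X) (hxW : x ∈ W) : _root_.IsReduced (X.presheaf.stalk x) := by
  letI := X.presheaf.algebra_section_stalk (⟨x, hxW⟩ : W)
  haveI := hW.isLocalization_stalk ⟨x, hxW⟩
  exact isReduced_localizationPreserves (hW.primeIdealOf ⟨x, hxW⟩).asIdeal.primeCompl _
    inferInstance

/-- For a discrete valuation ring R with residue field κ and fraction field K and an algebraic space X
over Spec R whose structure morphism s (to the terminal sheaf h_{Spec R}) is flat and proper: if the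
special fibre X ×_{Spec R} Spec κ is reduced (some etale surjective scheme chart is reduced), then X
is reduced and so is the generic fibre X ×_{Spec R} Spec K. -/
theorem result (R : Type u) [CommRing R] [IsDomain R] [IsDiscreteValuationRing R]
    {X : AlgSp.Space (Spec (CommRingCat.of R))}
    (s : X.obj ⟶ (AlgSp.yon (Spec (CommRingCat.of R))).obj (Over.mk (𝟙 _)))
    (hs1 : AlgSp.IsProperMor s) (hs2 : AlgSp.LocP @Flat s)
    (h0 : ∀ (X0 : AlgSp.Sp (Spec (CommRingCat.of R))) (fst : X0 ⟶ X.obj)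
      (snd : X0 ⟶ (AlgSp.yon (Spec (CommRingCat.of R))).obj
        (Over.mk (Spec.map (CommRingCat.ofHom (IsLocalRing.residue R))))),
      IsPullback fst snd s ((AlgSp.yon (Spec (CommRingCat.of R))).map
        (Over.homMk (Spec.map (CommRingCat.ofHom (IsLocalRing.residue R))) (Category.comp_id _) :
          Over.mk (Spec.map (CommRingCat.ofHom (IsLocalRing.residue R))) ⟶ Over.mk (𝟙 _))) →
      AlgSp.EtaleLocally (fun U => IsReduced U) X0) :
    AlgSp.EtaleLocally (fun U => IsReduced U) X.obj ∧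
      ∀ (Xη : AlgSp.Sp (Spec (CommRingCat.of R))) (fst : Xη ⟶ X.obj)
        (snd : Xη ⟶ (AlgSp.yon (Spec (CommRingCat.of R))).obj
          (Over.mk (Spec.map (CommRingCat.ofHom (algebraMap R (FractionRing R)))))),
        IsPullback fst snd s ((AlgSp.yon (Spec (CommRingCat.of R))).map
          (Over.homMk (Spec.map (CommRingCat.ofHom (algebraMap R (FractionRing R)))) (Category.comp_id _) :
            Over.mk (Spec.map (CommRingCat.ofHom (algebraMap R (FractionRing R)))) ⟶ Over.mk (𝟙 _))) →
        AlgSp.EtaleLocally (fun U => IsReduced U) Xη := by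
  classical
  obtain ⟨π, hπ⟩ := IsDiscreteValuationRing.exists_irreducible R
  obtain ⟨U, a, hae, has⟩ := X.property.atlas
  have hpt : IsTerminal ((AlgSp.yon (Spec (CommRingCat.of R))).obj (Over.mk (𝟙 _))) :=
    IsTerminal.isTerminalObj (AlgSp.yon _) _ Over.mkIdTerminal
  let hU : U ⟶ Over.mk (𝟙 (Spec (CommRingCat.of R))) := Over.mkIdTerminal.from U
  have hUa : a ≫ s = (AlgSp.yon _).map hU := hpt.hom_ext _ _
  have hUleft : hU.left = U.hom := by simp [hU]
  haveI hfl : Flat U.hom := by
    have := hs2 a (𝟙 _) hU hae (AlgSp.repWith_id @Etale _) (by rw [Category.comp_id]; exact hUa)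
    rwa [hUleft] at this
  haveI hlft : LocallyOfFiniteType U.hom := by
    have := hs1.2.1.1 a (𝟙 _) hU hae (AlgSp.repWith_id @Etale _)
      (by rw [Category.comp_id]; exact hUa)
    rwa [hUleft] at this
  -- the special fibre of the chart is reduced
  let ι₀ : Over.mk (Spec.map (CommRingCat.ofHom (IsLocalRing.residue R))) ⟶
      Over.mk (𝟙 (Spec (CommRingCat.of R))) :=
    Over.homMk (Spec.map (CommRingCat.ofHom (IsLocalRing.residue R))) (Category.comp_id _)
  have sq0 := IsPullback.of_hasPullback s ((AlgSp.yon _).map ι₀)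
  have hX0 := h0 _ _ _ sq0
  obtain ⟨U₀, pr₁, pr₂, a₀, sqU₀, sqa₀⟩ := exists_chart_bc s ι₀ _ _ sq0 a hU hUa
  have ha₀e : AlgSp.RepWith @Etale a₀ :=
    MorphismProperty.of_isPullback (P := AlgSp.RepWith @Etale) sqa₀.flip hae
  haveI : IsReduced U₀.left := Groth.Agent.Lib.Helper12.FieldBC.isReduced_of_chart hX0 a₀ ha₀e
  rw [hUleft] at sqU₀
  have hredfib : IsReduced (U.hom.fiber (IsLocalRing.closedPoint R)) :=
    isReduced_fiber_closedPoint U.hom pr₁.left pr₂.left sqU₀
  have hne : IsLocalRing.closedPoint R ≠ genPt R := by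
    intro h
    have h1 : π ∈ (IsLocalRing.closedPoint R).asIdeal := by
      show π ∈ IsLocalRing.maximalIdeal R
      rw [hπ.maximalIdeal_eq]; exact Ideal.subset_span rfl
    rw [h] at h1
    exact hπ.ne_zero ((Ideal.mem_bot).1 h1)
  -- the map to the base on points
  let τ : AlgSp.Points X.obj → Spec (CommRingCat.of R) := fun ξ =>
    AlgSp.Points.toScheme (Over.mk (𝟙 (Spec (CommRingCat.of R)))) (AlgSp.Points.map s ξ)
  have hτ : ∀ x : U.left, τ (AlgSp.Points.ofPt a x) = U.hom x := by
    intro x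
    change AlgSp.Points.toScheme _ (AlgSp.Points.map s (AlgSp.Points.ofPt a x)) = _
    rw [AlgSp.Points.map_ofPt, hUa, AlgSp.Points.toScheme_ofPt, hUleft]
  have hτcl : IsClosedMap τ := by
    have h1 : IsClosedMap (AlgSp.Points.map s) :=
      hs1.2.2 (AlgSp.IsAlgSpace.yon_obj _) (𝟙 _) (𝟙 _) s (IsPullback.of_horiz_isIso ⟨by simp⟩)
    exact (AlgSp.Points.schemeHomeo _).symm.isClosedMap.comp h1
  have hQ : ∀ {W V : Scheme.{u}} (g : W ⟶ V) [Etale g] (w : W),
      _root_.IsReduced (W.presheaf.stalk w) ↔ _root_.IsReduced (V.presheaf.stalk (g w)) :=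
    fun g _ w => ⟨Groth.Agent.Lib.Helper12.GeomRed.isReduced_stalk_of_flat g w,
      Groth.Agent.Lib.Helper12.GeomRed.isReduced_stalk_of_smooth g w⟩
  have key : ∀ x : U.left, _root_.IsReduced (U.left.presheaf.stalk x) := by
    intro x
    by_cases hx : U.hom x = genPt R
    · have hcl : IsClosed (τ '' closure {AlgSp.Points.ofPt a x}) := hτcl _ isClosed_closure
      have h1 : IsLocalRing.closedPoint R ∈ τ '' closure {AlgSp.Points.ofPt a x} := by
        have h2 : τ (AlgSp.Points.ofPt a x) ∈ τ '' closure {AlgSp.Points.ofPt a x} :=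
          ⟨_, subset_closure rfl, rfl⟩
        rw [hτ, hx] at h2
        exact (genPt_specializes _).mem_closed hcl h2
      obtain ⟨ξ0, hξ0, hτξ0⟩ := h1
      obtain ⟨x0, rfl⟩ := Groth.Agent.S10177.surjective_ofPt a has ξ0
      rw [hτ] at hτξ0
      obtain ⟨W, hW, hx0W, hWred⟩ := key0 U.hom hredfib x0 (by rw [hτξ0]; exact hne)
      have hsp : AlgSp.Points.ofPt a x ⤳ AlgSp.Points.ofPt a x0 :=
        specializes_iff_mem_closure.2 hξ0
      have hopen : IsOpen (AlgSp.Points.ofPt a '' (W : Set U.left)) :=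
        Groth.Agent.S10176.isOpenMap_ofPt a hae _ W.isOpen
      obtain ⟨x', hx'W, hx'⟩ := hsp.mem_open hopen ⟨x0, hx0W, rfl⟩
      haveI := hWred
      have hred' := isReduced_stalk_of_affine hW x' hx'W
      exact (Groth.Agent.Lib.H5bEtLocal.iff_of_ofPt_eq
        (fun V v => _root_.IsReduced (V.presheaf.stalk v)) hQ a a hae hae x' x hx').1 hred'
    · obtain ⟨W, hW, hxW, hWred⟩ := key0 U.hom hredfib x hx
      haveI := hWred
      exact isReduced_stalk_of_affine hW x hxW
  haveI hUred : IsReduced U.left := by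
    haveI := key
    exact isReduced_of_isReduced_stalk U.left
  refine ⟨⟨U, a, hae, has, hUred⟩, ?_⟩
  intro Xη fst snd sqη
  obtain ⟨Uη, q₁, q₂, aη, sqUη, sqaη⟩ := exists_chart_bc s _ fst snd sqη a hU hUa
  have haηe : AlgSp.RepWith @Etale aη :=
    MorphismProperty.of_isPullback (P := AlgSp.RepWith @Etale) sqaη.flip hae
  have haηs : AlgSp.RepWith @Surjective aη :=
    MorphismProperty.of_isPullback (P := AlgSp.RepWith @Surjective) sqaη.flip has
  refine ⟨Uη, aη, haηe, haηs, ?_⟩
  haveI := isLocalization_away_fractionRing R hπ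
  haveI : IsOpenImmersion (Spec.map (CommRingCat.ofHom (algebraMap R (FractionRing R)))) :=
    IsOpenImmersion.of_isLocalization π
  haveI : IsOpenImmersion q₁.left :=
    MorphismProperty.of_isPullback (P := @IsOpenImmersion) sqUη.flip
      (by change IsOpenImmersion (Spec.map _); infer_instance)
  exact isReduced_of_isOpenImmersion q₁.left

end Groth.Agent.S10669
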