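import Groth.Statements.S10670
import Mathlib
import Groth.Agent.Lib.H5bFieldCC
import Groth.Prelude.Def_AlgSpDec

set_option autoImplicit false
universe u
open CategoryTheory CategoryTheory.Limits AlgebraicGeometry
open AlgSp

namespace Groth.Agent.S10670

/-- For morphisms f : X ⟶ Y and g : Y' ⟶ Y between algebraic spaces over S, f' : X' ⟶ Y' the base change
of f along g, an algebraically closed field point k' of Y' and an algebraically closed field point k
of Y whose class in |Y| is the image of the class of k', the fibres X'_{k'} and X_k (pullbacks in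
fppf sheaves) have the same number of connected components of their spaces of points, counted in ℕ∞.
With g the identity this says the number of geometric connected components of the fibre over a point
of |Y| is well defined. -/
theorem result {S : Scheme.{u}} {X Y X' Y' : AlgSp.Space S} (f : X ⟶ Y) (g : Y' ⟶ Y) (gX : X' ⟶ X) (f' : X' ⟶ Y')
    (hsq : IsPullback gX.hom f'.hom f.hom g.hom)
    (k' : AlgSp.FieldPt Y'.obj) (hk' : k'.IsGeometric) (k : AlgSp.FieldPt Y.obj) (hk : k.IsGeometric)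
    (hkk : AlgSp.Points.mk k = AlgSp.Points.map g.hom (AlgSp.Points.mk k'))
    (Xk' : AlgSp.Sp S) (a' : Xk' ⟶ X'.obj) (b' : Xk' ⟶ (AlgSp.yon S).obj k'.pt) (h' : IsPullback a' b' f'.hom k'.toHom)
    (Xk : AlgSp.Sp S) (a : Xk ⟶ X.obj) (b : Xk ⟶ (AlgSp.yon S).obj k.pt) (h : IsPullback a b f.hom k.toHom) :
    ENat.card (_root_.ConnectedComponents (AlgSp.Points Xk')) = ENat.card (_root_.ConnectedComponents (AlgSp.Points Xk)) := by
  haveI : IsAlgClosed k.K := hk
  haveI : IsAlgClosed k'.K := hk'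
  -- a common extension
  rw [AlgSp.Points.map_mk, AlgSp.Points.mk_eq_mk_iff] at hkk
  obtain ⟨Ω, _, w, α, β, hαβ⟩ := hkk
  have E : (AlgSp.yon S).map α ≫ k.toHom = (AlgSp.yon S).map β ≫ k'.toHom ≫ g.hom := by
    have h1 : (AlgSp.yon S).map α ≫ k.toHom =
        (AlgSp.J S).uliftYonedaEquiv.symm (Y.obj.obj.map α.op k.val) :=
      (AlgSp.J S).uliftYonedaEquiv_symm_naturality_left α Y.obj k.val
    have h2 : (AlgSp.yon S).map β ≫ (k'.map g.hom).toHom =
        (AlgSp.J S).uliftYonedaEquiv.symm (Y.obj.obj.map β.op (k'.map g.hom).val) :=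
      (AlgSp.J S).uliftYonedaEquiv_symm_naturality_left β Y.obj (k'.map g.hom).val
    rw [h1, hαβ, ← h2, AlgSp.FieldPt.toHom_map]
    rfl
  let ω : (AlgSp.yon S).obj (Over.mk w) ⟶ Y.obj := (AlgSp.yon S).map α ≫ k.toHom
  let c : pullback f.hom ω ⟶ X.obj := pullback.fst f.hom ω
  let d : pullback f.hom ω ⟶ (AlgSp.yon S).obj (Over.mk w) := pullback.snd f.hom ω
  have s0 : IsPullback c d f.hom ω := IsPullback.of_hasPullback f.hom ω
  -- towards X_k
  let l₁ : pullback f.hom ω ⟶ Xk := h.lift c (d ≫ (AlgSp.yon S).map α) (by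
    rw [s0.w, Category.assoc])
  have hl₁a : l₁ ≫ a = c := h.lift_fst _ _ _
  have hl₁b : l₁ ≫ b = d ≫ (AlgSp.yon S).map α := h.lift_snd _ _ _
  have sq₁ : IsPullback l₁ d b ((AlgSp.yon S).map α) := by
    refine IsPullback.of_right ?_ hl₁b h
    rw [hl₁a]
    exact s0
  -- towards X'_{k'}
  let m : pullback f.hom ω ⟶ X'.obj := hsq.lift c (d ≫ (AlgSp.yon S).map β ≫ k'.toHom) (by
    rw [s0.w, Category.assoc, Category.assoc]
    exact congrArg (d ≫ ·) E)
  have hm1 : m ≫ gX.hom = c := hsq.lift_fst _ _ _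
  have hm2 : m ≫ f'.hom = d ≫ (AlgSp.yon S).map β ≫ k'.toHom := hsq.lift_snd _ _ _
  let l₂ : pullback f.hom ω ⟶ Xk' := h'.lift m (d ≫ (AlgSp.yon S).map β) (by
    rw [hm2, Category.assoc]
    rfl)
  have hl₂a : l₂ ≫ a' = m := h'.lift_fst _ _ _
  have hl₂b : l₂ ≫ b' = d ≫ (AlgSp.yon S).map β := h'.lift_snd _ _ _
  have sqm : IsPullback m d f'.hom ((AlgSp.yon S).map β ≫ k'.toHom) := by
    refine IsPullback.of_right ?_ hm2 hsq
    rw [hm1, Category.assoc, ← E]
    exact s0
  have sq₂ : IsPullback l₂ d b' ((AlgSp.yon S).map β) := by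
    refine IsPullback.of_right ?_ hl₂b h'
    rw [hl₂a]
    exact sqm
  have hXk : AlgSp.IsAlgSpace Xk :=
    Groth.Agent.S9874.isAlgSpace_of_isPullback Y.property.diag X.property
      (AlgSp.IsAlgSpace.yon_obj _) h
  have hXk' : AlgSp.IsAlgSpace Xk' :=
    Groth.Agent.S9874.isAlgSpace_of_isPullback Y'.property.diag X'.property
      (AlgSp.IsAlgSpace.yon_obj _) h'
  have b₁ := Groth.Agent.Lib.H5bFieldCC.connectedComponentsMap_bijective_of_isSepClosed hXk
    k.str w α b l₁ d sq₁.flip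
  have b₂ := Groth.Agent.Lib.H5bFieldCC.connectedComponentsMap_bijective_of_isSepClosed hXk'
    k'.str w β b' l₂ d sq₂.flip
  rw [← ENat.card_congr (Equiv.ofBijective _ b₁), ← ENat.card_congr (Equiv.ofBijective _ b₂)]

end Groth.Agent.S10670
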