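import Groth.Statements.S10676
import Mathlib
import Groth.Agent.Lib.H5bEtLoc2
import Groth.Agent.Lib.Helper20FinUnion
import Groth.Agent.S9778

set_option autoImplicit false
universe u
open CategoryTheory CategoryTheory.Limits AlgebraicGeometry
open AlgSp

namespace Groth.Agent.S10676

/-- For a separated morphism f : X ⟶ Y of algebraic spaces over S which is locally of finite type, a
point y of |Y| and a finite set xs of points of |X| mapping to y at each of which f is quasi-finite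
(some etale chart diagram through the point has top arrow locally quasi-finite and locally of finite
type on an open neighbourhood), assuming moreover that f is quasi-compact or Y is decent: there are
an etale morphism of algebraic spaces a : U ⟶ Y and a point u of |U| over y such that for the base
change P = U ×_Y X there is an open and closed subspace V ⊂ P, finite over U, such that every point
of |V| over u maps into xs and no point of |P| outside |V| lying over u maps into xs. -/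
theorem result {S : Scheme.{u}} {X Y : AlgSp.Space S} (f : X ⟶ Y) (y : AlgSp.Points Y.obj)
    (xs : Finset (AlgSp.Points X.obj)) (hxs : ∀ x ∈ xs, AlgSp.Points.map f.hom x = y)
    (hf1 : AlgSp.LocP @LocallyOfFiniteType f.hom) (hf2 : AlgSp.IsSeparatedMor f.hom)
    (hf3 : ∀ x ∈ xs, AlgSp.HasAtMor (fun U _ h u => ∃ W : U.Opens, u ∈ W ∧ LocallyQuasiFinite (W.ι ≫ h) ∧ LocallyOfFiniteType (W.ι ≫ h)) f.hom x)
    (hf4 : AlgSp.IsQuasiCompactMor f.hom ∨ AlgSp.IsDecent Y.obj) :
    ∃ (U : AlgSp.Space S) (a : U ⟶ Y) (u : AlgSp.Points U.obj), AlgSp.IsEtaleMor a.hom ∧ AlgSp.Points.map a.hom u = y ∧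
      ∀ (P : AlgSp.Space S) (prX : P ⟶ X) (prU : P ⟶ U), IsPullback prX.hom prU.hom f.hom a.hom →
        ∃ (V : AlgSp.Space S) (jV : V ⟶ P), AlgSp.RepWith @IsOpenImmersion jV.hom ∧ AlgSp.RepWith @IsClosedImmersion jV.hom ∧
          AlgSp.IsFiniteMor (jV ≫ prU).hom ∧
          (∀ v : AlgSp.Points V.obj, AlgSp.Points.map (jV ≫ prU).hom v = u → AlgSp.Points.map (jV ≫ prX).hom v ∈ xs) ∧
          ∀ w : AlgSp.Points P.obj, w ∉ Set.range (AlgSp.Points.map jV.hom) → AlgSp.Points.map prU.hom w = u →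
            AlgSp.Points.map prX.hom w ∉ xs := by
  classical
  have hmulE := AlgSp.repWith_isMultiplicative (S := S) @Etale
  obtain ⟨X', j', hj', hrange, hloc, hsep', hrep⟩ :=
    Groth.Agent.Lib.H5bEtLoc.exists_lqf_scheme_chart f hf2
  obtain ⟨Y₀, b, hbe, hbs⟩ := Y.property.atlas
  obtain ⟨y₀, hy₀⟩ := Groth.Agent.S10177.surjective_ofPt b hbs y
  obtain ⟨T₀, h, fstT, sqT⟩ := hrep b
  have hlqf : (@LocallyQuasiFinite ⊓ @LocallyOfFiniteType : MorphismProperty Scheme.{u}) h.left :=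
    AlgSp.locP_yon_map (Groth.Agent.Lib.Helper12.LocPCases.good_lqf.locP_baseChange X'.property
      Y.property (AlgSp.IsAlgSpace.yon_obj Y₀) sqT hloc)
  haveI : LocallyQuasiFinite h.left := hlqf.1
  haveI : LocallyOfFiniteType h.left := hlqf.2
  haveI : IsSeparated h.left := (AlgSp.isSeparatedMor_yon_map_iff h).1
    (Groth.Agent.Lib.Helper12.Proper.isSeparatedMor_baseChange sqT hsep')
  have hjinj : Function.Injective (AlgSp.Points.map j'.hom) :=
    Groth.Agent.Lib.Helper12.LargestOpen.injective_map_of_open j'.hom hj'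
  have hxsrange : ∀ x ∈ xs, x ∈ Set.range (AlgSp.Points.map j'.hom) := by
    intro x hx
    rw [hrange]
    exact Groth.Agent.Lib.H5bEtLoc.mem_lqfLocus_of_hasAtMor f x (hf3 x hx)
  -- the finite set of points of `T₀` over `y₀` and `xs`
  let F : Set ↥T₀.left := {t | h.left t = y₀ ∧ AlgSp.Points.ofPt (fstT ≫ j'.hom) t ∈ xs}
  have hF : F.Finite := by
    rcases hf4 with hqc | hdec
    · exact (Groth.Agent.Lib.H5bEtLoc.finite_fibre_of_qc f j' hj' hf1 hloc hqc b hbe h fstT sqT
        y₀).subset (fun t ht => ht.1)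
    · have hsub : F ⊆ ⋃ x : {x // x ∈ xs},
          {t : ↥T₀.left | h.left t = y₀ ∧
            AlgSp.Points.ofPt fstT t = (hxsrange x.1 x.2).choose} := by
        rintro t ⟨ht1, ht2⟩
        refine Set.mem_iUnion.2 ⟨⟨_, ht2⟩, ht1, ?_⟩
        apply hjinj
        rw [(hxsrange _ ht2).choose_spec, AlgSp.Points.map_ofPt]
      exact (Set.finite_iUnion (fun x : {x // x ∈ xs} =>
        Groth.Agent.Lib.H5bEtLoc.finite_over_of_decent f j' hloc hrep hdec b h fstT sqT y₀
          ((hxsrange x.1 x.2).choose))).subset hsub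
  haveI : Finite ↥F := hF.to_subtype
  obtain ⟨n, ⟨e⟩⟩ := Finite.exists_equiv_fin ↥F
  let xF : Fin n → ↥T₀.left := fun i => (e.symm i).1
  have hxFinj : Function.Injective xF := fun i k hik => e.symm.injective (Subtype.ext hik)
  have hxF1 : ∀ i, h.left (xF i) = y₀ := fun i => (e.symm i).2.1
  have hxF2 : ∀ i, AlgSp.Points.ofPt (fstT ≫ j'.hom) (xF i) ∈ xs := fun i => (e.symm i).2.2
  have hxFsurj : ∀ t ∈ F, ∃ i, xF i = t := fun t ht => ⟨e ⟨t, ht⟩, by simp [xF]⟩
  obtain ⟨U, g, u, hg, hgu, J, hJ, V, v, hVclopen, -, hV, hcover⟩ :=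
    Groth.Agent.S9778.result h.left y₀ xF hxFinj hxF1 (fun i => h.left.quasiFiniteAt (xF i))
  haveI : Etale g := hg
  haveI := hJ
  let Vtot : (pullback h.left g).Opens := ⨆ k : (Σ i, J i), V k.1 k.2
  have hVfin : IsFinite (Vtot.ι ≫ pullback.snd h.left g) :=
    (Groth.Agent.Lib.Helper20.FinUnion.isFinite_iSup_of_isClosed (pullback.snd h.left g)
      (fun k : (Σ i, J i) => V k.1 k.2) (fun k => (hVclopen k.1 k.2).1)
      (fun k => (hV k.1 k.2).2.1)).1
  -- the schemes over `S`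
  let Uo : Over S := Over.mk (g ≫ Y₀.hom)
  let go : Uo ⟶ Y₀ := Over.homMk g rfl
  let Q : Over S := Over.mk (pullback.snd h.left g ≫ Uo.hom)
  let qU : Q ⟶ Uo := Over.homMk (pullback.snd h.left g) rfl
  let qT : Q ⟶ T₀ := Over.homMk (pullback.fst h.left g) (by
    show pullback.fst h.left g ≫ T₀.hom = pullback.snd h.left g ≫ g ≫ Y₀.hom
    rw [← Over.w h, ← Category.assoc, pullback.condition, Category.assoc])
  have hw : qT ≫ h = qU ≫ go := by
    ext
    exact pullback.condition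
  have sqQ : IsPullback qT.left qU.left h.left go.left := IsPullback.of_hasPullback h.left g
  let Vo : Over S := Over.mk (Vtot.ι ≫ Q.hom)
  let ιV : Vo ⟶ Q := Over.homMk Vtot.ι rfl
  have hge : AlgSp.RepWith @Etale ((AlgSp.yon S).map go ≫ b) :=
    hmulE.comp_mem _ _ ((AlgSp.repWith_yon_map_iff @Etale go).2 hg) hbe
  let a : (AlgSp.ofScheme S).obj Uo ⟶ Y := ObjectProperty.homMk ((AlgSp.yon S).map go ≫ b)
  have ha : AlgSp.IsEtaleMor a.hom :=
    Groth.Agent.S10554.isEtaleMor_of_locP Y.property _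
      (Groth.Agent.Lib.H5bBoot.locP_of_repWith Groth.Agent.Lib.Helper12.LocPCases.good_etale _ hge)
  refine ⟨(AlgSp.ofScheme S).obj Uo, a, AlgSp.Points.ofScheme Uo u, ha, ?_, ?_⟩
  · show AlgSp.Points.map ((AlgSp.yon S).map go ≫ b) (AlgSp.Points.ofScheme Uo u) = _
    rw [← AlgSp.Points.ofPt_eq_map_ofScheme, Groth.Agent.S10176.ofPt_map_comp, ← hy₀]
    congr 1 <;> exact hgu
  intro P prX prU sqP
  obtain ⟨κ, hκo, hκ1, hκ2, hκr⟩ :=
    Groth.Agent.Lib.H5bEtLoc.exists_open_of_chart_pullback f j' hj' b h fstT sqT go qT qU hw sqQ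
      prX.hom prU.hom sqP
  let jV : (AlgSp.ofScheme S).obj Vo ⟶ P := ObjectProperty.homMk ((AlgSp.yon S).map ιV ≫ κ)
  have hjV : AlgSp.RepWith @IsOpenImmersion jV.hom :=
    (AlgSp.RepWith @IsOpenImmersion).comp_mem _ _
      ((AlgSp.repWith_yon_map_iff @IsOpenImmersion ιV).2
        (inferInstanceAs (IsOpenImmersion Vtot.ι))) hκo
  have hcomp : (jV ≫ prU).hom = (AlgSp.yon S).map (ιV ≫ qU) := by
    rw [Functor.map_comp, ← hκ2]
    exact Category.assoc _ _ _
  have hfin : AlgSp.IsFiniteMor (jV ≫ prU).hom := by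
    refine (Groth.Agent.S10267.result (jV ≫ prU)).2.2 ?_
    rw [hcomp]
    exact (AlgSp.repWith_yon_map_iff @IsFinite (ιV ≫ qU)).2 hVfin
  have hsepU : AlgSp.IsSeparatedMor prU.hom :=
    Groth.Agent.Lib.Helper12.Proper.isSeparatedMor_baseChange sqP hf2
  -- points of `V` and of `Q`
  have keyU : ∀ (m : (AlgSp.yon S).obj Vo ⟶ (AlgSp.yon S).obj Uo),
      m = (AlgSp.yon S).map (ιV ≫ qU) → ∀ (q : ↥(pullback h.left g)) (hq : q ∈ Vtot),
      AlgSp.Points.map m (AlgSp.Points.ofScheme Vo ⟨q, hq⟩) =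
        AlgSp.Points.ofScheme Uo (pullback.snd h.left g q) := by
    rintro _ rfl q hq
    rw [← AlgSp.Points.ofPt_eq_map_ofScheme]
    have := Groth.Agent.S10176.ofPt_map_comp (ιV ≫ qU) (𝟙 _) (⟨q, hq⟩ : ↥Vo.left)
    rw [Category.comp_id] at this
    rw [this]
    rfl
  have keyX : ∀ (q : ↥(pullback h.left g)),
      AlgSp.Points.map prX.hom (AlgSp.Points.map κ (AlgSp.Points.ofScheme Q q)) =
        AlgSp.Points.ofPt (fstT ≫ j'.hom) (pullback.fst h.left g q) := by
    intro q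
    rw [← AlgSp.Points.map_comp, hκ1, ← AlgSp.Points.ofPt_eq_map_ofScheme,
      Groth.Agent.S10176.ofPt_map_comp]
    rfl
  have keyV : ∀ (q : ↥(pullback h.left g)) (hq : q ∈ Vtot),
      AlgSp.Points.map jV.hom (AlgSp.Points.ofScheme Vo ⟨q, hq⟩) =
        AlgSp.Points.map κ (AlgSp.Points.ofScheme Q q) := by
    intro q hq
    show AlgSp.Points.map ((AlgSp.yon S).map ιV ≫ κ) (AlgSp.Points.ofScheme Vo ⟨q, hq⟩) = _
    rw [AlgSp.Points.map_comp]
    congr 1
    exact AlgSp.Points.map_yon_map_apply ιV ⟨q, hq⟩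
  refine ⟨(AlgSp.ofScheme S).obj Vo, jV, hjV,
    Groth.Agent.Lib.H5bEtLoc.closedImmersion_of_finite_comp jV prU hjV hsepU hfin, hfin, ?_, ?_⟩
  · intro v' hv'
    obtain ⟨⟨q, hq⟩, rfl⟩ := (AlgSp.Points.schemeEquiv Vo).surjective v'
    have hsnd : pullback.snd h.left g q = u :=
      (AlgSp.Points.schemeEquiv Uo).injective ((keyU _ hcomp q hq).symm.trans hv')
    obtain ⟨⟨i, jj⟩, hqV⟩ := TopologicalSpace.Opens.mem_iSup.1 hq
    have hqv : q = v i jj := (hV i jj).2.2.2.1 q hqV hsnd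
    have e1 : AlgSp.Points.map (jV ≫ prX).hom (AlgSp.Points.ofScheme Vo ⟨q, hq⟩) =
        AlgSp.Points.ofPt (fstT ≫ j'.hom) (pullback.fst h.left g q) := by
      show AlgSp.Points.map (jV.hom ≫ prX.hom) _ = _
      rw [AlgSp.Points.map_comp, keyV q hq, keyX q]
    show AlgSp.Points.map (jV ≫ prX).hom (AlgSp.Points.ofScheme Vo ⟨q, hq⟩) ∈ xs
    rw [e1, hqv, (hV i jj).2.2.2.2.2]
    exact hxF2 i
  · intro w hw hwu hwx
    apply hw
    have hwκ : w ∈ Set.range (AlgSp.Points.map κ) := by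
      rw [hκr]
      exact hxsrange _ hwx
    obtain ⟨q', rfl⟩ := hwκ
    obtain ⟨q, rfl⟩ := (AlgSp.Points.schemeEquiv Q).surjective q'
    have e2 : AlgSp.Points.map prU.hom (AlgSp.Points.map κ (AlgSp.Points.ofScheme Q q)) =
        AlgSp.Points.ofScheme Uo (pullback.snd h.left g q) := by
      have key : ∀ (m : (AlgSp.yon S).obj Q ⟶ (AlgSp.yon S).obj Uo), m = (AlgSp.yon S).map qU →
          AlgSp.Points.map m (AlgSp.Points.ofScheme Q q) =
            AlgSp.Points.ofScheme Uo (pullback.snd h.left g q) := by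
        rintro _ rfl
        exact AlgSp.Points.map_yon_map_apply qU q
      rw [← AlgSp.Points.map_comp]
      exact key _ hκ2
    have hsnd : pullback.snd h.left g q = u :=
      (AlgSp.Points.schemeEquiv Uo).injective (e2.symm.trans hwu)
    have htF : pullback.fst h.left g q ∈ F := by
      refine ⟨?_, ?_⟩
      · have e3 : h.left (pullback.fst h.left g q) = g (pullback.snd h.left g q) := by
          rw [← Scheme.Hom.comp_apply, ← Scheme.Hom.comp_apply, pullback.condition]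
        rw [e3, hsnd, hgu]
      · rw [← keyX q]
        exact hwx
    obtain ⟨i, hi⟩ := hxFsurj _ htF
    obtain ⟨jj, hqV⟩ := hcover q i hsnd hi.symm
    have hqtot : q ∈ Vtot := TopologicalSpace.Opens.mem_iSup.2 ⟨⟨i, jj⟩, hqV⟩
    exact ⟨AlgSp.Points.ofScheme Vo ⟨q, hqtot⟩, keyV q hqtot⟩

end Groth.Agent.S10676
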