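import Groth.Statements.S10677
import Mathlib
import Groth.Agent.Lib.H5bEtLoc
import Groth.Agent.S0408

set_option autoImplicit false
universe u
open CategoryTheory CategoryTheory.Limits AlgebraicGeometry
open AlgSp

namespace Groth.Agent.S10677

/-- For a separated morphism f : X ⟶ Y of algebraic spaces over S which is locally of finite type and a
point x of |X| with image y at which f is quasi-finite (some etale chart diagram through x has top
arrow locally quasi-finite and locally of finite type on an open neighbourhood), there are an etale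
morphism a : U ⟶ Y and a point u of |U| over y such that for the base change P = U ×_Y X there is an
open and closed subspace V ⊂ P, finite over U, containing a point mapping to x in |X| and to u in
|U|. -/
theorem result {S : Scheme.{u}} {X Y : AlgSp.Space S} (f : X ⟶ Y) (x : AlgSp.Points X.obj)
    (hf1 : AlgSp.LocP @LocallyOfFiniteType f.hom) (hf2 : AlgSp.IsSeparatedMor f.hom)
    (hf3 : AlgSp.HasAtMor (fun U _ h u => ∃ W : U.Opens, u ∈ W ∧ LocallyQuasiFinite (W.ι ≫ h) ∧ LocallyOfFiniteType (W.ι ≫ h)) f.hom x) :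
    ∃ (U : AlgSp.Space S) (a : U ⟶ Y) (u : AlgSp.Points U.obj), AlgSp.IsEtaleMor a.hom ∧
      AlgSp.Points.map a.hom u = AlgSp.Points.map f.hom x ∧
      ∀ (P : AlgSp.Space S) (prX : P ⟶ X) (prU : P ⟶ U), IsPullback prX.hom prU.hom f.hom a.hom →
        ∃ (V : AlgSp.Space S) (jV : V ⟶ P), AlgSp.RepWith @IsOpenImmersion jV.hom ∧ AlgSp.RepWith @IsClosedImmersion jV.hom ∧
          AlgSp.IsFiniteMor (jV ≫ prU).hom ∧
          ∃ v : AlgSp.Points V.obj, AlgSp.Points.map (jV ≫ prX).hom v = x ∧ AlgSp.Points.map (jV ≫ prU).hom v = u := by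
  have hmulE := AlgSp.repWith_isMultiplicative (S := S) @Etale
  obtain ⟨X', j', hj', hrange, hloc, hsep', hrep⟩ :=
    Groth.Agent.Lib.H5bEtLoc.exists_lqf_scheme_chart f hf2
  have hxT : x ∈ Set.range (AlgSp.Points.map j'.hom) := by
    rw [hrange]
    exact Groth.Agent.Lib.H5bEtLoc.mem_lqfLocus_of_hasAtMor f x hf3
  obtain ⟨x', hx'⟩ := hxT
  obtain ⟨Y₀, b, hbe, hbs⟩ := Y.property.atlas
  obtain ⟨y₀, hy₀⟩ := Groth.Agent.S10177.surjective_ofPt b hbs (AlgSp.Points.map f.hom x)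
  obtain ⟨T₀, h, fstT, sqT⟩ := hrep b
  -- the point `t` of `T₀` over `(x', y₀)`
  have e0 : AlgSp.Points.map (j' ≫ f).hom x' =
      AlgSp.Points.map b (AlgSp.Points.ofScheme Y₀ y₀) := by
    rw [← AlgSp.Points.ofPt_eq_map_ofScheme, hy₀, ← hx']
    exact AlgSp.Points.map_comp j'.hom f.hom x'
  obtain ⟨p, hp1, hp2⟩ := Groth.Agent.S10175.exists_point_of_isPullback sqT x'
    (AlgSp.Points.ofScheme Y₀ y₀) e0
  obtain ⟨t, rfl⟩ := (AlgSp.Points.schemeEquiv T₀).surjective p
  have ht1 : AlgSp.Points.ofPt fstT t = x' := by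
    rw [AlgSp.Points.ofPt_eq_map_ofScheme]
    exact hp1
  have ht2 : h.left t = y₀ := by
    apply (AlgSp.Points.schemeEquiv Y₀).injective
    have := AlgSp.Points.map_yon_map_apply h t
    exact this.symm.trans hp2
  -- scheme-level properties of `h`
  have hlqf : (@LocallyQuasiFinite ⊓ @LocallyOfFiniteType : MorphismProperty Scheme.{u}) h.left :=
    AlgSp.locP_yon_map (Groth.Agent.Lib.Helper12.LocPCases.good_lqf.locP_baseChange X'.property
      Y.property (AlgSp.IsAlgSpace.yon_obj Y₀) sqT hloc)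
  haveI : LocallyQuasiFinite h.left := hlqf.1
  haveI : LocallyOfFiniteType h.left := hlqf.2
  haveI : IsSeparated h.left := (AlgSp.isSeparatedMor_yon_map_iff h).1
    (Groth.Agent.Lib.Helper12.Proper.isSeparatedMor_baseChange sqT hsep')
  obtain ⟨U, g, u, hg, hgu, -, V, v, -, hVfin, hvV, hv1, hv2, -, -⟩ :=
    Groth.Agent.S0408.result h.left t (h.left.quasiFiniteAt t)
  haveI : Etale g := hg
  -- the schemes over `S`
  let Uo : Over S := Over.mk (g ≫ Y₀.hom)
  let go : Uo ⟶ Y₀ := Over.homMk g rfl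
  let Q : Over S := Over.mk (pullback.snd h.left g ≫ Uo.hom)
  let qU : Q ⟶ Uo := Over.homMk (pullback.snd h.left g) rfl
  let qT : Q ⟶ T₀ := Over.homMk (pullback.fst h.left g) (by
    show pullback.fst h.left g ≫ T₀.hom = pullback.snd h.left g ≫ g ≫ Y₀.hom
    rw [← Over.w h, ← Category.assoc, pullback.condition, Category.assoc])
  have hw : qT ≫ h = qU ≫ go := by
    ext
    exact pullback.condition
  have sqQ : IsPullback qT.left qU.left h.left go.left := IsPullback.of_hasPullback h.left g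
  let Vo : Over S := Over.mk (V.ι ≫ Q.hom)
  let ιV : Vo ⟶ Q := Over.homMk V.ι rfl
  have hge : AlgSp.RepWith @Etale ((AlgSp.yon S).map go ≫ b) :=
    hmulE.comp_mem _ _ ((AlgSp.repWith_yon_map_iff @Etale go).2 hg) hbe
  let a : (AlgSp.ofScheme S).obj Uo ⟶ Y := ObjectProperty.homMk ((AlgSp.yon S).map go ≫ b)
  have ha : AlgSp.IsEtaleMor a.hom :=
    Groth.Agent.S10554.isEtaleMor_of_locP Y.property _
      (Groth.Agent.Lib.H5bBoot.locP_of_repWith Groth.Agent.Lib.Helper12.LocPCases.good_etale _ hge)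
  refine ⟨(AlgSp.ofScheme S).obj Uo, a, AlgSp.Points.ofScheme Uo u, ha, ?_, ?_⟩
  · show AlgSp.Points.map ((AlgSp.yon S).map go ≫ b) (AlgSp.Points.ofScheme Uo u) = _
    rw [← AlgSp.Points.ofPt_eq_map_ofScheme, Groth.Agent.S10176.ofPt_map_comp, ← hy₀]
    congr 1
    exact hgu.trans ht2
  intro P prX prU sqP
  obtain ⟨κ, hκo, hκ1, hκ2, -⟩ :=
    Groth.Agent.Lib.H5bEtLoc.exists_open_of_chart_pullback f j' hj' b h fstT sqT go qT qU hw sqQ
      prX.hom prU.hom sqP
  let jV : (AlgSp.ofScheme S).obj Vo ⟶ P := ObjectProperty.homMk ((AlgSp.yon S).map ιV ≫ κ)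
  have hjV : AlgSp.RepWith @IsOpenImmersion jV.hom :=
    (AlgSp.RepWith @IsOpenImmersion).comp_mem _ _
      ((AlgSp.repWith_yon_map_iff @IsOpenImmersion ιV).2 (inferInstanceAs (IsOpenImmersion V.ι))) hκo
  have hcomp : (jV ≫ prU).hom = (AlgSp.yon S).map (ιV ≫ qU) := by
    rw [Functor.map_comp, ← hκ2]
    exact Category.assoc _ _ _
  have hfin : AlgSp.IsFiniteMor (jV ≫ prU).hom := by
    refine (Groth.Agent.S10267.result (jV ≫ prU)).2.2 ?_
    rw [hcomp]
    exact (AlgSp.repWith_yon_map_iff @IsFinite (ιV ≫ qU)).2 hVfin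
  have hsepU : AlgSp.IsSeparatedMor prU.hom :=
    Groth.Agent.Lib.Helper12.Proper.isSeparatedMor_baseChange sqP hf2
  refine ⟨(AlgSp.ofScheme S).obj Vo, jV, hjV,
    Groth.Agent.Lib.H5bEtLoc.closedImmersion_of_finite_comp jV prU hjV hsepU hfin, hfin,
    AlgSp.Points.ofScheme Vo ⟨v, hvV⟩, ?_, ?_⟩
  · show AlgSp.Points.map (((AlgSp.yon S).map ιV ≫ κ) ≫ prX.hom) (AlgSp.Points.ofScheme Vo ⟨v, hvV⟩) = x
    rw [← AlgSp.Points.ofPt_eq_map_ofScheme, Category.assoc, hκ1,
      Groth.Agent.S10176.ofPt_map_comp, Groth.Agent.S10176.ofPt_map_comp, ← hx', ← ht1,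
      AlgSp.Points.map_ofPt]
    congr 1 <;> exact hv1
  · have key : ∀ (m : (AlgSp.yon S).obj Vo ⟶ (AlgSp.yon S).obj Uo),
        m = (AlgSp.yon S).map (ιV ≫ qU) →
        AlgSp.Points.map m (AlgSp.Points.ofScheme Vo ⟨v, hvV⟩) = AlgSp.Points.ofScheme Uo u := by
      rintro _ rfl
      rw [← AlgSp.Points.ofPt_eq_map_ofScheme]
      have := Groth.Agent.S10176.ofPt_map_comp (ιV ≫ qU) (𝟙 _) (⟨v, hvV⟩ : ↥Vo.left)
      rw [Category.comp_id] at this
      rw [this]
      congr 1 <;> exact hv2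
    exact key _ hcomp

end Groth.Agent.S10677
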