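import Groth.Statements.S10680
import Mathlib
import Groth.Agent.S10678
import Groth.Agent.S10308

set_option autoImplicit false
set_option linter.style.haveILetI false
universe u
open CategoryTheory CategoryTheory.Limits AlgebraicGeometry
open AlgSp

namespace Groth.Agent.S10680

lemma lt_iff_aux (δ d : WithBot ℕ∞) :
    δ < d ↔ (δ = ⊥ ∧ ⊥ < d) ∨ ∃ n : ℕ, δ ≤ ((n : ℕ) : WithBot ℕ∞) ∧ ((n : ℕ) : WithBot ℕ∞) < d := by
  constructor
  · intro h
    induction δ using WithBot.recBotCoe with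
    | bot => exact Or.inl ⟨rfl, h⟩
    | coe m =>
      induction m using ENat.recTopCoe with
      | top =>
        exfalso
        have h1 : d ≤ ((⊤ : ℕ∞) : WithBot ℕ∞) := le_top
        exact absurd (lt_of_lt_of_le h h1) (lt_irrefl _)
      | coe n => exact Or.inr ⟨n, le_rfl, h⟩
  · rintro (⟨rfl, h⟩ | ⟨n, h1, h2⟩)
    · exact h
    · exact lt_of_le_of_lt h1 h2

/-- For a proper morphism f : X ⟶ Y between algebraic spaces over S the fibre dimension function on |Y|
is upper semi-continuous: for every d the set of y such that every fibre X_k over y (k a field point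
in the class of y, X_k any pullback in fppf sheaves) has dimension less than d is open. -/
theorem result {S : Scheme.{u}} {X Y : AlgSp.Space S} (f : X ⟶ Y) (hf : AlgSp.IsProperMor f.hom) (d : WithBot ℕ∞) :
    IsOpen {y : AlgSp.Points Y.obj | ∀ (k : AlgSp.FieldPt Y.obj), AlgSp.Points.mk k = y →
      ∀ (Xk : AlgSp.Sp S) (fst : Xk ⟶ X.obj) (snd : Xk ⟶ (AlgSp.yon S).obj k.pt),
        IsPullback fst snd f.hom k.toHom → AlgSp.dim Xk < d} := by
  have hcl : IsClosedMap (AlgSp.Points.map f.hom) :=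
    hf.2.2 Y.property (𝟙 Y.obj) (𝟙 X.obj) f.hom IsPullback.of_id_fst
  have hO : ∀ n : ℕ, IsOpen {x : AlgSp.Points X.obj |
      AlgSp.HasAtMor (fun _ _ h u => FlatMor.fibreDimAt h u ≤ (n : WithBot ℕ∞)) f.hom x} :=
    fun n => Groth.Agent.S10308.result f hf.2.1.1 n
  have hA : ∀ n : ℕ, IsOpen {y : AlgSp.Points Y.obj | ∀ x : AlgSp.Points X.obj,
      AlgSp.Points.map f.hom x = y →
        AlgSp.HasAtMor (fun _ _ h u => FlatMor.fibreDimAt h u ≤ (n : WithBot ℕ∞)) f.hom x} := by
    intro n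
    have h1 := (hcl _ (hO n).isClosed_compl).isOpen_compl
    convert h1 using 1
    ext y
    simp only [Set.mem_ofPred_eq, Set.mem_compl_iff, Set.mem_image, not_exists, not_and]
    constructor
    · intro H x hx hxy
      exact hx (H x hxy)
    · intro H x hxy
      by_contra hcon
      exact H x hcon hxy
  have hB : IsOpen (Set.range (AlgSp.Points.map f.hom))ᶜ := by
    rw [← Set.image_univ]
    exact (hcl _ isClosed_univ).isOpen_compl
  have hset : {y : AlgSp.Points Y.obj | ∀ (k : AlgSp.FieldPt Y.obj), AlgSp.Points.mk k = y →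
      ∀ (Xk : AlgSp.Sp S) (fst : Xk ⟶ X.obj) (snd : Xk ⟶ (AlgSp.yon S).obj k.pt),
        IsPullback fst snd f.hom k.toHom → AlgSp.dim Xk < d} =
      ((Set.range (AlgSp.Points.map f.hom))ᶜ ∩ {_y | (⊥ : WithBot ℕ∞) < d}) ∪
        ⋃ n : ℕ, ({y : AlgSp.Points Y.obj | ∀ x : AlgSp.Points X.obj,
          AlgSp.Points.map f.hom x = y →
            AlgSp.HasAtMor (fun _ _ h u => FlatMor.fibreDimAt h u ≤ (n : WithBot ℕ∞)) f.hom x} ∩
          {_y | ((n : ℕ) : WithBot ℕ∞) < d}) := by
    ext y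
    simp only [Set.mem_ofPred_eq, Set.mem_union, Set.mem_inter_iff, Set.mem_compl_iff,
      Set.mem_iUnion]
    constructor
    · intro H
      obtain ⟨k, hk⟩ := AlgSp.Points.mk_surjective y
      have sq := IsPullback.of_hasPullback f.hom k.toHom
      have h1 := H k hk _ _ _ sq
      have h2 := Groth.Agent.S10678.result f hf.2.1 y k hk _ _ _ sq
      rcases (lt_iff_aux _ _).1 h1 with ⟨h3, h4⟩ | ⟨n, h3, h4⟩
      · exact Or.inl ⟨h2.1.1 h3, h4⟩
      · exact Or.inr ⟨n, (h2.2 n).1 h3, h4⟩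
    · intro H k hk Xk fst snd sq
      have h2 := Groth.Agent.S10678.result f hf.2.1 y k hk Xk fst snd sq
      rw [lt_iff_aux]
      rcases H with ⟨h3, h4⟩ | ⟨n, h3, h4⟩
      · exact Or.inl ⟨h2.1.2 h3, h4⟩
      · exact Or.inr ⟨n, (h2.2 n).2 h3, h4⟩
  rw [hset]
  exact (hB.inter isOpen_const).union (isOpen_iUnion fun n => (hA n).inter isOpen_const)

end Groth.Agent.S10680
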