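import Groth.Statements.S10687
import Mathlib
import Groth.Agent.Lib.H5bGorCI
import Groth.Agent.Lib.H5bLqfDim

set_option autoImplicit false
universe u
open CategoryTheory CategoryTheory.Limits AlgebraicGeometry
open AlgSp

namespace Groth.Agent.S10687

/-- For morphisms f : X ⟶ Y and g : Y ⟶ Z between algebraic spaces over S whose fibres, and those of f ≫
g, are locally Noetherian, and a point x of |X|: (1) if g is Gorenstein at the image of x and f is
Gorenstein at x itself, then so is f ≫ g at x; (2) if f ≫ g is Gorenstein at x and f is flat there,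
then f is Gorenstein at x and g at the image of x. Here f is Gorenstein at x when in every etale
chart diagram through x the top arrow is Gorenstein at the point over x (flat there, with Gorenstein
local ring of its fibre), and the fibres of a morphism are locally Noetherian when every fibre over
a field point (pullback in fppf sheaves) is a locally Noetherian algebraic space. -/
theorem result {S : Scheme.{u}} {X Y Z : AlgSp.Space S} (f : X ⟶ Y) (g : Y ⟶ Z)
    (hf : ∀ (k : AlgSp.FieldPt Y.obj) (Xk : AlgSp.Sp S) (a : Xk ⟶ X.obj) (b : Xk ⟶ (AlgSp.yon S).obj k.pt),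
        IsPullback a b f.hom k.toHom → AlgSp.IsLocNoethSp Xk)
    (hg : ∀ (k : AlgSp.FieldPt Z.obj) (Xk : AlgSp.Sp S) (a : Xk ⟶ Y.obj) (b : Xk ⟶ (AlgSp.yon S).obj k.pt),
        IsPullback a b g.hom k.toHom → AlgSp.IsLocNoethSp Xk)
    (hfg : ∀ (k : AlgSp.FieldPt Z.obj) (Xk : AlgSp.Sp S) (a : Xk ⟶ X.obj) (b : Xk ⟶ (AlgSp.yon S).obj k.pt),
        IsPullback a b (f ≫ g).hom k.toHom → AlgSp.IsLocNoethSp Xk)
    (x : AlgSp.Points X.obj) :
    (AlgSp.LocPAt (fun h u => Dual3.IsGorensteinAt h u) f.hom x → AlgSp.LocPAt (fun h u => Dual3.IsGorensteinAt h u) g.hom (AlgSp.Points.map f.hom x) →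
        AlgSp.LocPAt (fun h u => Dual3.IsGorensteinAt h u) (f ≫ g).hom x) ∧
      (AlgSp.LocPAt (fun h u => Dual3.IsGorensteinAt h u) (f ≫ g).hom x → AlgSp.IsFlatAtMor f.hom x →
        AlgSp.LocPAt (fun h u => Dual3.IsGorensteinAt h u) f.hom x ∧ AlgSp.LocPAt (fun h u => Dual3.IsGorensteinAt h u) g.hom (AlgSp.Points.map f.hom x)) := by
  have hX := X.property
  have hY := Y.property
  have hZ := Z.property
  have hmul := AlgSp.repWith_isMultiplicative (S := S) @Etale
  -- a chart triple through `x`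
  obtain ⟨V, W, b, c, q, v, hb, hc, cq, hv⟩ :=
    Groth.Agent.Lib.H5bHasAtMor.exists_chart hY hZ g.hom (AlgSp.Points.map f.hom x)
  obtain ⟨U₀, a₀, ha₀, ha₀s⟩ := hX.atlas
  obtain ⟨u₀, hu₀⟩ := Groth.Agent.S10177.surjective_ofPt a₀ ha₀s x
  obtain ⟨U, prU, p, hprU, cp, hpt⟩ := Groth.Agent.Lib.H5bLqfDim.exists_chartPullback f.hom a₀ b hb
  obtain ⟨u, hu1, hu2⟩ := hpt u₀ v (by rw [← AlgSp.Points.map_ofPt, hu₀, hv])
  have ha : AlgSp.RepWith @Etale ((AlgSp.yon S).map prU ≫ a₀) :=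
    hmul.comp_mem _ _ ((AlgSp.repWith_yon_map_iff @Etale prU).2 hprU) ha₀
  have hu : AlgSp.Points.ofPt ((AlgSp.yon S).map prU ≫ a₀) u = x := by
    rw [Groth.Agent.S10176.ofPt_map_comp, hu1, hu₀]
  have hv' : AlgSp.Points.ofPt b (p.left u) = AlgSp.Points.map f.hom x := by
    rw [hu2, hv]
  have cpq : ((AlgSp.yon S).map prU ≫ a₀) ≫ (f ≫ g).hom = (AlgSp.yon S).map (p ≫ q) ≫ c := by
    show ((AlgSp.yon S).map prU ≫ a₀) ≫ f.hom ≫ g.hom = _
    rw [← Category.assoc, cp, Category.assoc, cq, Functor.map_comp, Category.assoc]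
  have hNp := Groth.Agent.Lib.H5bGorCI.isLocallyNoetherian_fiber_of_chart hX hY f.hom hf _ b p ha
    hb cp
  have hNq := Groth.Agent.Lib.H5bGorCI.isLocallyNoetherian_fiber_of_chart hY hZ g.hom hg b c q hb
    hc cq
  have hNpq := Groth.Agent.Lib.H5bGorCI.isLocallyNoetherian_fiber_of_chart hX hZ (f ≫ g).hom hfg _
    c (p ≫ q) ha hc cpq
  obtain ⟨r1, r2⟩ := Groth.Agent.S3627.result U.left V.left W.left p.left q.left hNp hNq hNpq u
  constructor
  · intro H1 H2
    have h1 := H1 _ b p u ha hb cp hu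
    have h2 := H2 b c q (p.left u) hb hc cq hv'
    exact Groth.Agent.Lib.H5bGorCI.locPAt_gor_of_chart hX hZ (f ≫ g).hom hfg x _ c (p ≫ q) ha hc
      cpq u hu (r1 h1 h2)
  · intro H Hfl
    have h12 := H _ c (p ≫ q) u ha hc cpq hu
    have hfl := Hfl _ b p u ha hb cp hu
    obtain ⟨h1, h2⟩ := r2 h12 hfl
    exact ⟨Groth.Agent.Lib.H5bGorCI.locPAt_gor_of_chart hX hY f.hom hf x _ b p ha hb cp u hu h1,
      Groth.Agent.Lib.H5bGorCI.locPAt_gor_of_chart hY hZ g.hom hg _ b c q hb hc cq (p.left u) hv'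
        h2⟩

end Groth.Agent.S10687
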