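import Groth.Statements.S10688
import Mathlib
import Groth.Agent.Lib.H5bGorCI
import Groth.Agent.Lib.H5bChartBC

set_option autoImplicit false
universe u
open CategoryTheory CategoryTheory.Limits AlgebraicGeometry
open AlgSp

namespace Groth.Agent.S10688

/-- For a morphism f : X ⟶ Y between algebraic spaces over S with locally Noetherian fibres, g : Y' ⟶ Y
locally of finite type, f' : X' ⟶ Y' the base change (a pullback square of algebraic spaces) with
projection g' : X' ⟶ X, and x' a point of |X'| with image x: (1) if f is Gorenstein at x then so is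
f' at x'; (2) when f is flat at x, Gorensteinness of f' at x' implies that of f at x; (3) the same
conclusion holds if instead g is flat at the image of x' and f' is Gorenstein at x'. Here f is
Gorenstein at x when in every etale chart diagram through x the top arrow is Gorenstein at the point
over x (flat there, with Gorenstein local ring of its fibre), and the fibres of a morphism are
locally Noetherian when every fibre over a field point (pullback in fppf sheaves) is a locally
Noetherian algebraic space. -/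
theorem result {S : Scheme.{u}} {X Y X' Y' : AlgSp.Space S} (f : X ⟶ Y) (g : Y' ⟶ Y) (g' : X' ⟶ X) (f' : X' ⟶ Y')
    (hsq : IsPullback g'.hom f'.hom f.hom g.hom)
    (hf : ∀ (k : AlgSp.FieldPt Y.obj) (Xk : AlgSp.Sp S) (a : Xk ⟶ X.obj) (b : Xk ⟶ (AlgSp.yon S).obj k.pt),
        IsPullback a b f.hom k.toHom → AlgSp.IsLocNoethSp Xk)
    (hg : AlgSp.LocP @LocallyOfFiniteType g.hom) (x' : AlgSp.Points X'.obj) :
    (AlgSp.LocPAt (fun h u => Dual3.IsGorensteinAt h u) f.hom (AlgSp.Points.map g'.hom x') → AlgSp.LocPAt (fun h u => Dual3.IsGorensteinAt h u) f'.hom x') ∧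
      (AlgSp.IsFlatAtMor f.hom (AlgSp.Points.map g'.hom x') → AlgSp.LocPAt (fun h u => Dual3.IsGorensteinAt h u) f'.hom x' →
        AlgSp.LocPAt (fun h u => Dual3.IsGorensteinAt h u) f.hom (AlgSp.Points.map g'.hom x')) ∧
      (AlgSp.IsFlatAtMor g.hom (AlgSp.Points.map f'.hom x') → AlgSp.LocPAt (fun h u => Dual3.IsGorensteinAt h u) f'.hom x' →
        AlgSp.LocPAt (fun h u => Dual3.IsGorensteinAt h u) f.hom (AlgSp.Points.map g'.hom x')) := by
  have hX := X.property
  have hY := Y.property
  have hX' := X'.property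
  have hY' := Y'.property
  have hf' : Groth.Agent.Lib.H5bGorCI.NoethFib f'.hom :=
    Groth.Agent.Lib.H5bGorCI.noethFib_of_isPullback hsq hf
  obtain ⟨U, V, U', V', a, b, a', b', h, h', pU, pV, ha, hb, ha', ha's, hb', c, c', cg', cg,
    sqS⟩ := Groth.Agent.Lib.H5bChartBC.exists_cartesian_charts hX hY hY' hsq
  obtain ⟨u', hu'⟩ := Groth.Agent.S10177.surjective_ofPt a' ha's x'
  have hx : AlgSp.Points.ofPt a (pU.left u') = AlgSp.Points.map g'.hom x' := by
    rw [← hu', AlgSp.Points.map_ofPt, cg', Groth.Agent.S10176.ofPt_map_comp]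
  have hy' : AlgSp.Points.ofPt b' (h'.left u') = AlgSp.Points.map f'.hom x' := by
    rw [← hu', AlgSp.Points.map_ofPt, c', Groth.Agent.S10176.ofPt_map_comp]
  haveI : LocallyOfFiniteType pV.left := hg b' b pV hb' hb cg
  have hN : ∀ y, IsLocallyNoetherian (h.left.fiber y) :=
    Groth.Agent.Lib.H5bGorCI.isLocallyNoetherian_fiber_of_chart hX hY f.hom hf a b h ha hb c
  obtain ⟨r1, r2, r3⟩ := Groth.Agent.S3625.result U.left V.left U'.left V'.left h.left pV.left
    h'.left pU.left sqS hN u'
  refine ⟨fun H => ?_, fun Hfl H => ?_, fun Hfl H => ?_⟩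
  · have h1 := H a b h (pU.left u') ha hb c hx
    exact Groth.Agent.Lib.H5bGorCI.locPAt_gor_of_chart hX' hY' f'.hom hf' x' a' b' h' ha' hb' c'
      u' hu' (r1 h1)
  · have hfl := Hfl a b h (pU.left u') ha hb c hx
    have h1 := H a' b' h' u' ha' hb' c' hu'
    exact Groth.Agent.Lib.H5bGorCI.locPAt_gor_of_chart hX hY f.hom hf _ a b h ha hb c _ hx
      (r2 hfl h1)
  · have hfl := Hfl b' b pV (h'.left u') hb' hb cg hy'
    have h1 := H a' b' h' u' ha' hb' c' hu'
    exact Groth.Agent.Lib.H5bGorCI.locPAt_gor_of_chart hX hY f.hom hf _ a b h ha hb c _ hx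
      (r3 hfl h1)

end Groth.Agent.S10688
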