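import Groth.Statements.S10690
import Mathlib
import Groth.Agent.Lib.H5bGorFib

set_option autoImplicit false
universe u
open CategoryTheory CategoryTheory.Limits AlgebraicGeometry
open AlgSp

namespace Groth.Agent.S10690

/-- For a morphism f : X ⟶ Y between algebraic spaces over S whose fibres are locally Noetherian, the
following are equivalent: (1) f is Gorenstein at every point of |X|; (2) f is flat and for some
scheme V with a representable etale surjective b : h_V ⟶ Y every fibre of X ×_Y V ⟶ V over a point v
of V (pullback along the residue field point of v) is a Gorenstein algebraic space (some etale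
surjective scheme chart is a Gorenstein scheme); (3) f is flat and the same holds for every scheme V
with a representable etale b : h_V ⟶ Y. Here f is Gorenstein at x when in every etale chart diagram
through x the top arrow is Gorenstein at the point over x (flat there, with Gorenstein local ring of
its fibre), and the fibres of a morphism are locally Noetherian when every fibre over a field point
(pullback in fppf sheaves) is a locally Noetherian algebraic space. (The published statement also
characterises being Gorenstein at a single point through strict henselizations; that part is stated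
separately and not included here.) -/
theorem result {S : Scheme.{u}} {X Y : AlgSp.Space S} (f : X ⟶ Y)
    (hf : ∀ (k : AlgSp.FieldPt Y.obj) (Xk : AlgSp.Sp S) (a : Xk ⟶ X.obj) (b : Xk ⟶ (AlgSp.yon S).obj k.pt),
        IsPullback a b f.hom k.toHom → AlgSp.IsLocNoethSp Xk) :
    [∀ x : AlgSp.Points X.obj, AlgSp.LocPAt (fun h u => Dual3.IsGorensteinAt h u) f.hom x,
      AlgSp.LocP @Flat f.hom ∧ ∃ (V : Over S) (b : (AlgSp.yon S).obj V ⟶ Y.obj),
        AlgSp.RepWith @Etale b ∧ AlgSp.RepWith @Surjective b ∧
          ∀ (v : ↥V.left) (Xv : AlgSp.Sp S) (a : Xv ⟶ X.obj)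
            (c : Xv ⟶ (AlgSp.yon S).obj (Over.mk (V.left.fromSpecResidueField v ≫ V.hom))),
            IsPullback a c f.hom ((AlgSp.yon S).map (Over.homMk (V.left.fromSpecResidueField v) rfl :
              Over.mk (V.left.fromSpecResidueField v ≫ V.hom) ⟶ V) ≫ b) →
            AlgSp.EtaleLocally Dual3.IsGorenstein Xv,
      AlgSp.LocP @Flat f.hom ∧ ∀ (V : Over S) (b : (AlgSp.yon S).obj V ⟶ Y.obj), AlgSp.RepWith @Etale b →
          ∀ (v : ↥V.left) (Xv : AlgSp.Sp S) (a : Xv ⟶ X.obj)
            (c : Xv ⟶ (AlgSp.yon S).obj (Over.mk (V.left.fromSpecResidueField v ≫ V.hom))),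
            IsPullback a c f.hom ((AlgSp.yon S).map (Over.homMk (V.left.fromSpecResidueField v) rfl :
              Over.mk (V.left.fromSpecResidueField v ≫ V.hom) ⟶ V) ≫ b) →
            AlgSp.EtaleLocally Dual3.IsGorenstein Xv].TFAE := by
  have hX := X.property
  have hY := Y.property
  tfae_have 1 → 3 := by
    intro H
    refine ⟨?_, ?_⟩
    · intro U V a b h ha hb c
      apply Flat.of_stalkMap
      intro u
      exact (H (AlgSp.Points.ofPt a u) a b h u ha hb c rfl).1
    · intro V b hb v Xv aX cX sq
      obtain ⟨U, a, p, ha, c, -, hβ⟩ :=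
        Groth.Agent.Lib.H5bGorFib.exists_fibre_chart hX f.hom b hb
      obtain ⟨β, hβe, hβs⟩ := hβ v Xv aX cX sq
      refine ⟨_, β, hβe, hβs, ?_, ?_⟩
      · exact Groth.Agent.Lib.H5bGorCI.isLocallyNoetherian_fiber_of_chart hX hY f.hom hf a b p ha
          hb c v
      · intro t
        apply Groth.Agent.Lib.H5bGorFib.stalk_fiber_transport
          (fun R _ => LocCoh.IsGorensteinLocalRing R) p.left v t
        exact (H (AlgSp.Points.ofPt a (p.left.fiberι v t)) a b p (p.left.fiberι v t) ha hb c rfl).2
  tfae_have 3 → 2 := by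
    intro H
    obtain ⟨V, b, hb, hbs⟩ := hY.atlas
    exact ⟨H.1, V, b, hb, hbs, H.2 V b hb⟩
  tfae_have 2 → 1 := by
    rintro ⟨Hfl, V, b, hb, hbs, Hfib⟩ x
    obtain ⟨v, hv⟩ := Groth.Agent.S10177.surjective_ofPt b hbs (AlgSp.Points.map f.hom x)
    obtain ⟨U, a, p, ha, c, hpt, hβ⟩ :=
      Groth.Agent.Lib.H5bGorFib.exists_fibre_chart hX f.hom b hb
    obtain ⟨u, hu, -⟩ := hpt x v hv
    refine Groth.Agent.Lib.H5bGorCI.locPAt_gor_of_chart hX hY f.hom hf x a b p ha hb c u hu ⟨?_, ?_⟩
    · haveI : Flat p.left := Hfl a b p ha hb c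
      exact Flat.stalkMap p.left u
    · have sq := IsPullback.of_hasPullback f.hom ((AlgSp.yon S).map
        (Over.homMk (V.left.fromSpecResidueField (p.left u)) rfl :
          Over.mk (V.left.fromSpecResidueField (p.left u) ≫ V.hom) ⟶ V) ≫ b)
      have hG := Hfib (p.left u) _ _ _ sq
      obtain ⟨β, hβe, -⟩ := hβ (p.left u) _ _ _ sq
      have := Groth.Agent.Lib.H5bGorEt.isGorenstein_chart hG β hβe
      exact this.2 (p.left.asFiber u)
  tfae_finish

end Groth.Agent.S10690
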