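import Groth.Statements.S10691
import Mathlib
import Groth.Agent.Lib.H5bGorEt
import Groth.Agent.Lib.H5bLqfDim
import Groth.Agent.S3624
import Groth.Agent.S0538
import Groth.Agent.S0539
import Groth.Agent.S0540

set_option autoImplicit false
universe u
open CategoryTheory CategoryTheory.Limits AlgebraicGeometry
open AlgSp

namespace Groth.Agent.S10691

/-- For locally Noetherian algebraic spaces X, Y over S and a flat morphism f : X ⟶ Y, with X Gorenstein
(some etale surjective scheme chart is a Gorenstein scheme): f is Gorenstein at every point of |X|,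
and for every point x of |X| the etale local ring of Y at a geometric point over f(x), presented as
a strict henselization R of the local ring of an etale scheme chart V of Y at a point v over f(x),
is a Gorenstein local ring. Here f is Gorenstein at x when in every etale chart diagram through x
the top arrow is Gorenstein at the point over x (flat there, with Gorenstein local ring of its
fibre), and the fibres of a morphism are locally Noetherian when every fibre over a field point
(pullback in fppf sheaves) is a locally Noetherian algebraic space. -/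
theorem result {S : Scheme.{u}} {X Y : AlgSp.Space S} (f : X ⟶ Y) (hf : AlgSp.LocP @Flat f.hom)
    (hX1 : AlgSp.IsLocNoethSp X.obj) (hY1 : AlgSp.IsLocNoethSp Y.obj)
    (hX2 : AlgSp.EtaleLocally Dual3.IsGorenstein X.obj) :
    (∀ x : AlgSp.Points X.obj, AlgSp.LocPAt (fun h u => Dual3.IsGorensteinAt h u) f.hom x) ∧
      ∀ (x : AlgSp.Points X.obj) (V : Over S) (b : (AlgSp.yon S).obj V ⟶ Y.obj), AlgSp.RepWith @Etale b →
        ∀ (v : ↥V.left), AlgSp.Points.ofPt b v = AlgSp.Points.map f.hom x →
          ∀ (R : Type u) [CommRing R] [IsLocalRing R] [Algebra ↥(V.left.presheaf.stalk v) R]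
            [IsLocalHom (algebraMap ↥(V.left.presheaf.stalk v) R)]
            [Hensel.IsStrictHenselization ↥(V.left.presheaf.stalk v) R],
            LocCoh.IsGorensteinLocalRing R := by
  have hX := X.property
  have hmulE := AlgSp.repWith_isMultiplicative (S := S) @Etale
  -- on every chart diagram the top arrow is a Gorenstein morphism and the target is Gorenstein
  have key : ∀ {U V : Over S} (a : (AlgSp.yon S).obj U ⟶ X.obj) (b : (AlgSp.yon S).obj V ⟶ Y.obj)
      (h : U ⟶ V), AlgSp.RepWith @Etale a → AlgSp.RepWith @Etale b →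
      a ≫ f.hom = (AlgSp.yon S).map h ≫ b →
      Dual3.IsGorensteinMor h.left ∧
        ∀ u : ↥U.left, LocCoh.IsGorensteinLocalRing (V.left.presheaf.stalk (h.left u)) := by
    intro U V a b h ha hb c
    have hU : Dual3.IsGorenstein U.left := Groth.Agent.Lib.H5bGorEt.isGorenstein_chart hX2 a ha
    haveI : IsLocallyNoetherian V.left :=
      Groth.Agent.Lib.Helper12.FibreSpec.isLocallyNoetherian_of_chart hY1 b hb
    haveI : Flat h.left := hf a b h ha hb c
    exact Groth.Agent.S3624.result U.left V.left h.left hU
  refine ⟨?_, ?_⟩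
  · intro x U V a b h u ha hb c hu
    exact (key a b h ha hb c).1 u
  · intro x V b hb v hv R _ _ _ _ _
    -- a chart of `X` through `x` mapping to `v`
    obtain ⟨U₀, a₀, ha₀, ha₀s⟩ := hX.atlas
    obtain ⟨u₀, hu₀⟩ := Groth.Agent.S10177.surjective_ofPt a₀ ha₀s x
    obtain ⟨U, prU, p, hprU, cp, hpt⟩ :=
      Groth.Agent.Lib.H5bLqfDim.exists_chartPullback f.hom a₀ b hb
    obtain ⟨u, hu1, hu2⟩ := hpt u₀ v (by rw [← AlgSp.Points.map_ofPt, hu₀, hv])
    have ha : AlgSp.RepWith @Etale ((AlgSp.yon S).map prU ≫ a₀) :=
      hmulE.comp_mem _ _ ((AlgSp.repWith_yon_map_iff @Etale prU).2 hprU) ha₀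
    have hA := (key _ b p ha hb cp).2 u
    rw [hu2] at hA
    haveI : IsLocallyNoetherian V.left :=
      Groth.Agent.Lib.Helper12.FibreSpec.isLocallyNoetherian_of_chart hY1 b hb
    haveI hAn : IsNoetherianRing ↥(V.left.presheaf.stalk v) := inferInstance
    haveI hRn : IsNoetherianRing R :=
      (Groth.Agent.S0540.result ↥(V.left.presheaf.stalk v) R).1 hAn
    haveI hff : Module.FaithfullyFlat ↥(V.left.presheaf.stalk v) R :=
      Groth.Agent.S0539.result ↥(V.left.presheaf.stalk v) R
    have hm := Groth.Agent.S0538.result ↥(V.left.presheaf.stalk v) R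
    have hiff := Groth.Agent.Lib.Helper5.FiberRing.flatLocalIff_gor ↥(V.left.presheaf.stalk v) R
      (IsLocalRing.ResidueField R) (IsLocalRing.residue R) IsLocalRing.residue_surjective
      (by rw [IsLocalRing.ker_residue, hm])
    exact hiff.2 ⟨hA, Groth.Agent.Lib.Helper5.GorRing.gorLocal_of_field _⟩

end Groth.Agent.S10691
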