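import Groth.Statements.S10692
import Mathlib
import Groth.Agent.Lib.H5bFibDim
import Groth.Agent.S10680
import Groth.Agent.S10679
import Groth.Agent.S3389

set_option autoImplicit false
set_option linter.style.haveILetI false
universe u
open CategoryTheory CategoryTheory.Limits AlgebraicGeometry
open AlgSp

namespace Groth.Agent.S10692

lemma eq_bot_iff_lt_zero (x : WithBot ℕ∞) : x = ⊥ ↔ x < 0 := by
  induction x using WithBot.recBotCoe with
  | bot => simp
  | coe m =>
    constructor
    · intro h; exact absurd h WithBot.coe_ne_bot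
    · intro h
      exfalso
      have h0 : (0 : WithBot ℕ∞) ≤ ↑m := WithBot.coe_le_coe.2 bot_le
      exact absurd (lt_of_lt_of_le h h0) (lt_irrefl _)

/-- predecessor in `WithBot ℕ∞` of a natural number. -/
def predW : ℕ → WithBot ℕ∞
  | 0 => ⊥
  | (m+1) => ((m : ℕ) : WithBot ℕ∞)

lemma eq_coe_iff (x : WithBot ℕ∞) (n : ℕ) :
    x = ((n : ℕ) : WithBot ℕ∞) ↔ x < (((n + 1 : ℕ)) : WithBot ℕ∞) ∧ predW n < x := by
  induction x using WithBot.recBotCoe with
  | bot =>
    constructor
    · intro h; exact absurd h.symm WithBot.coe_ne_bot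
    · rintro ⟨-, h⟩; exact absurd h (not_lt_bot)
  | coe m =>
    induction m using ENat.recTopCoe with
    | top =>
      constructor
      · intro h
        exfalso
        have : ((⊤ : ℕ∞) : WithBot ℕ∞) = ((n : ℕ∞) : WithBot ℕ∞) := h
        exact ENat.top_ne_natCast n (WithBot.coe_injective this)
      · rintro ⟨h, -⟩
        exfalso
        have h1 : (((n + 1 : ℕ)) : WithBot ℕ∞) ≤ ((⊤ : ℕ∞) : WithBot ℕ∞) := le_top
        exact absurd (lt_of_lt_of_le h h1) (lt_irrefl _)
    | coe j =>
      have e1 : (((j : ℕ∞) : WithBot ℕ∞) = ((n : ℕ) : WithBot ℕ∞)) ↔ j = n := by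
        constructor
        · intro h
          have : ((j : ℕ∞) : WithBot ℕ∞) = ((n : ℕ∞) : WithBot ℕ∞) := h
          exact_mod_cast WithBot.coe_injective this
        · rintro rfl; rfl
      have e2 : (((j : ℕ∞) : WithBot ℕ∞) < (((n + 1 : ℕ)) : WithBot ℕ∞)) ↔ j < n + 1 := by
        have : (((n + 1 : ℕ)) : WithBot ℕ∞) = (((n + 1 : ℕ) : ℕ∞) : WithBot ℕ∞) := rfl
        rw [this, WithBot.coe_lt_coe, Nat.cast_lt]
      have e3 : (predW n < ((j : ℕ∞) : WithBot ℕ∞)) ↔ (n = 0 ∨ n - 1 < j) := by
        cases n with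
        | zero => simp [predW]
        | succ m =>
          have : predW (m + 1) = (((m : ℕ) : ℕ∞) : WithBot ℕ∞) := rfl
          rw [this, WithBot.coe_lt_coe, Nat.cast_lt]
          simp
      rw [e1, e2, e3]
      omega

/-- For a proper flat morphism f : X ⟶ Y between algebraic spaces over S which is of finite
presentation, the fibre dimension function on |Y| is locally constant: for every d the set of y such
that every fibre X_k over y (k a field point in the class of y, X_k any pullback in fppf sheaves)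
has dimension exactly d is open. -/
theorem result {S : Scheme.{u}} {X Y : AlgSp.Space S} (f : X ⟶ Y) (hf1 : AlgSp.IsProperMor f.hom)
    (hf2 : AlgSp.LocP @Flat f.hom) (hf3 : AlgSp.IsFinitePresentationMor f.hom) (d : WithBot ℕ∞) :
    IsOpen {y : AlgSp.Points Y.obj | ∀ (k : AlgSp.FieldPt Y.obj), AlgSp.Points.mk k = y →
      ∀ (Xk : AlgSp.Sp S) (fst : Xk ⟶ X.obj) (snd : Xk ⟶ (AlgSp.yon S).obj k.pt),
        IsPullback fst snd f.hom k.toHom → AlgSp.dim Xk = d} := by
  induction d using WithBot.recBotCoe with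
  | bot =>
    have h1 := Groth.Agent.S10680.result f hf1 0
    convert h1 using 1
    ext y
    simp only [Set.mem_ofPred_eq]
    constructor
    · intro H k hk Xk fst snd sq
      exact (eq_bot_iff_lt_zero _).1 (H k hk Xk fst snd sq)
    · intro H k hk Xk fst snd sq
      exact (eq_bot_iff_lt_zero _).2 (H k hk Xk fst snd sq)
  | coe e =>
    induction e using ENat.recTopCoe with
    | top =>
      have hft : AlgSp.IsFiniteTypeMor f.hom := hf1.2.1
      apply Groth.Agent.Lib.H5bFibDim.isOpen_of_affine_charts Y.property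
      intro V a hV hae
      obtain ⟨F, hW, hFa⟩ := Groth.Agent.Lib.H5bFibDim.exists_affine_frame f hf3.2.1 hV a hae
      haveI : LocallyOfFinitePresentation F.h.left := F.prop_of_locP hae hFa hf3.1
      haveI : IsAffine F.W.left := hW
      haveI : IsAffine V.left := hV
      obtain ⟨n, hn⟩ := Groth.Agent.S3389.result F.h.left
      convert isOpen_empty
      rw [Set.eq_empty_iff_forall_notMem]
      intro t ht
      simp only [Set.mem_preimage, Set.mem_ofPred_eq] at ht
      have h1 := ht (AlgSp.FieldPt.ofPt a t) rfl _ _ _ (IsPullback.of_hasPullback f.hom _)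
      rw [Groth.Agent.Lib.H5bFibDim.Frame.dim_fibre_eq hft F t (AlgSp.FieldPt.ofPt a t) rfl _ _
        (IsPullback.of_hasPullback f.hom _)] at h1
      have h2 := hn t
      rw [h1] at h2
      have h3 : (((n : ℕ) : ℕ∞) : WithBot ℕ∞) < ((⊤ : ℕ∞) : WithBot ℕ∞) :=
        WithBot.coe_lt_coe.2 (ENat.natCast_lt_top n)
      exact absurd (lt_of_le_of_lt h2 h3) (lt_irrefl _)
    | coe n =>
      have h1 := Groth.Agent.S10680.result f hf1 (((n + 1 : ℕ)) : WithBot ℕ∞)
      have h2 := Groth.Agent.S10679.result f hf2 hf3 (predW n)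
      have h3 := h1.inter h2
      convert h3 using 1
      ext y
      simp only [Set.mem_ofPred_eq, Set.mem_inter_iff]
      constructor
      · intro H
        exact ⟨fun k hk Xk fst snd sq => ((eq_coe_iff _ n).1 (H k hk Xk fst snd sq)).1,
          fun k hk Xk fst snd sq => ((eq_coe_iff _ n).1 (H k hk Xk fst snd sq)).2⟩
      · rintro ⟨H1, H2⟩ k hk Xk fst snd sq
        exact (eq_coe_iff _ n).2 ⟨H1 k hk Xk fst snd sq, H2 k hk Xk fst snd sq⟩

end Groth.Agent.S10692
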