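import Groth.Statements.S10704
import Mathlib
import Groth.Agent.Lib.H5bFGlueLoc
import Groth.Agent.Lib.H5bFGlueCov
import Groth.Agent.S10505
import Groth.Agent.S10507
import Groth.Agent.S10265

set_option autoImplicit false
set_option linter.style.haveILetI false
universe u
open CategoryTheory CategoryTheory.Limits AlgebraicGeometry
open AlgSp

namespace Groth.Agent.S10704

/-- the two-member family. -/
def fam {S : Scheme.{u}} (U' V' : Over S) : ULift.{u} Bool → Over S := fun x =>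
  match x with
  | ⟨true⟩ => U'
  | ⟨false⟩ => V'

/-- the two maps. -/
def famMap {S : Scheme.{u}} {U' V' T : Over S} (o : U' ⟶ T) (v : V' ⟶ T) :
    ∀ x, fam U' V' x ⟶ T := fun x =>
  match x with
  | ⟨true⟩ => o
  | ⟨false⟩ => v

/-- Let `f : Y → X` be a quasi-compact quasi-separated morphism of algebraic spaces over `S`, `i : Z →
X` a closed immersion of finite presentation such that `f⁻¹Z → Z` is an isomorphism and `f` is flat
at every point of `|f⁻¹Z|`, and let `U ⊂ X` be the open subspace complementary to `Z`. Then there is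
an fpqc covering `{X_k → X}` refining the family `{U → X, Y → X}`: every `X_k → X` factors through
`U` or through `Y`. -/
theorem result {S : Scheme.{u}} {X Y Z FZ U : AlgSp.Space S} (f : Y ⟶ X)
    (hqc : AlgSp.IsQuasiCompactMor f.hom) (hqs : AlgSp.IsQuasiSeparatedMor f.hom) (i : Z ⟶ X)
    (hi : AlgSp.RepWith @IsClosedImmersion i.hom) (hifp : AlgSp.LocP @LocallyOfFinitePresentation i.hom)
    (iY : FZ ⟶ Y) (fZ : FZ ⟶ Z) (hFZ : IsPullback iY.hom fZ.hom f.hom i.hom) [IsIso fZ]
    (hflat : ∀ y ∈ Set.range (AlgSp.Points.map iY.hom), AlgSp.IsFlatAtMor f.hom y) (j : U ⟶ X)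
    (hj : AlgSp.RepWith @IsOpenImmersion j.hom)
    (hU : Set.range (AlgSp.Points.map j.hom) = (Set.range (AlgSp.Points.map i.hom))ᶜ) :
    ∃ (ι : Type u) (W : ι → AlgSp.Space S) (w : ∀ k, W k ⟶ X),
      AlgSp.IsFpqcCover (fun k => (W k).obj) (fun k => (w k).hom) ∧
        ∀ k, (∃ l : W k ⟶ U, l ≫ j = w k) ∨ (∃ l : W k ⟶ Y, l ≫ f = w k) := by
  obtain ⟨A, a, hae, has⟩ := X.property.atlas
  have hfZ : Function.Surjective (AlgSp.Points.map fZ.hom) := fun z =>
    ⟨AlgSp.Points.map (inv fZ).hom z, by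
      rw [← AlgSp.Points.map_comp, ← ObjectProperty.FullSubcategory.comp_hom, IsIso.inv_hom_id,
        ObjectProperty.FullSubcategory.id_hom, AlgSp.Points.map_id]⟩
  -- affine open neighbourhoods of the points of the atlas
  choose R φ hφ y hy using fun x : ↥A.left => Scheme.exists_Spec_apply_eq x
  let s : ∀ x : ↥A.left, Spec (R x) ⟶ S := fun x => φ x ≫ A.hom
  let ιA : ∀ x : ↥A.left, Over.mk (s x) ⟶ A := fun x => Over.homMk (φ x) rfl
  let b : ∀ x : ↥A.left, (AlgSp.yon S).obj (Over.mk (s x)) ⟶ X.obj := fun x =>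
    (AlgSp.yon S).map (ιA x) ≫ a
  have hb : ∀ x, AlgSp.RepWith @Etale (b x) := fun x =>
    MorphismProperty.comp_mem _ _ _
      ((AlgSp.repWith_yon_map_iff _ _).2 (show Etale (φ x) from inferInstance)) hae
  -- the local coverings
  have key := fun x : ↥A.left => Groth.Agent.Lib.H5bFGlue.exists_local_cover f.hom hqc i.hom hi hifp
    iY.hom fZ.hom hFZ hfZ hflat j.hom hj hU (R x) (s x) (b x) (hb x)
  choose U' V' o v ho1 ho2 hv1 hv2 hcov hlU hlY using key
  -- first level
  let Xi : ↥A.left → AlgSp.Space S := fun x =>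
    ⟨(AlgSp.yon S).obj (Over.mk (s x)), AlgSp.IsAlgSpace.yon_obj _⟩
  let g : ∀ x, Xi x ⟶ X := fun x => ObjectProperty.homMk (b x)
  have h1 : AlgSp.IsFpqcCover (fun x => (Xi x).obj) (fun x => (g x).hom) := by
    refine Groth.Agent.S10505.result X Xi g ⟨fun x => ?_, fun pt => ?_⟩
    · have het : AlgSp.IsEtaleMor (g x).hom := fun V ψ hψ =>
        MorphismProperty.comp_mem _ _ _ hψ (hb x)
      have h := Groth.Agent.S10265.result (g x) het
      exact ⟨h.2.2.1, h.2.2.2.1⟩
    · obtain ⟨t₀, rfl⟩ := Groth.Agent.S10177.surjective_ofPt a has pt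
      refine ⟨t₀, AlgSp.Points.ofScheme _ (y t₀), ?_⟩
      change AlgSp.Points.map (b t₀) (AlgSp.Points.ofScheme _ (y t₀)) = _
      rw [← AlgSp.Points.ofPt_eq_map_ofScheme, Groth.Agent.S10176.ofPt_map_comp]
      exact congrArg _ (hy t₀)
  -- second level
  let Xij : ∀ x : ↥A.left, ULift.{u} Bool → AlgSp.Space S := fun x k =>
    ⟨(AlgSp.yon S).obj (fam (U' x) (V' x) k), AlgSp.IsAlgSpace.yon_obj _⟩
  let gij : ∀ (x : ↥A.left) (k : ULift.{u} Bool), Xij x k ⟶ Xi x := fun x k =>
    ObjectProperty.homMk ((AlgSp.yon S).map (famMap (o x) (v x) k))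
  have h2 : ∀ x, AlgSp.IsFpqcCover (fun k => (Xij x k).obj) (fun k => (gij x k).hom) := by
    intro x
    refine Groth.Agent.Lib.H5bFGlue.isFpqcCover_yon_map_finite (fam (U' x) (V' x))
      (famMap (o x) (v x)) ?_ ?_ ?_
    · rintro ⟨_ | _⟩
      · exact hv1 x
      · exact ho1 x
    · rintro ⟨_ | _⟩
      · exact hv2 x
      · exact ho2 x
    · intro t
      rcases hcov x t with ht | ht
      · exact ⟨⟨true⟩, ht⟩
      · exact ⟨⟨false⟩, ht⟩
  have h3 := Groth.Agent.S10507.result X Xi g (fun _ => ULift.{u} Bool) Xij gij h1 h2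
  refine ⟨_, _, _, h3, ?_⟩
  rintro ⟨x, ⟨_ | _⟩⟩
  · right
    obtain ⟨l, hl⟩ := hlY x
    refine ⟨ObjectProperty.homMk l, ?_⟩
    apply ObjectProperty.hom_ext
    exact hl
  · left
    obtain ⟨l, hl⟩ := hlU x
    refine ⟨ObjectProperty.homMk l, ?_⟩
    apply ObjectProperty.hom_ext
    exact hl

end Groth.Agent.S10704
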