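import Groth.Statements.S10705
import Mathlib
import Groth.Agent.S10704
import Groth.Agent.S10506
import Groth.Agent.S9874
import Groth.Agent.Lib.H5bFpqcIso

set_option autoImplicit false
set_option linter.style.haveILetI false
universe u
open CategoryTheory CategoryTheory.Limits AlgebraicGeometry
open AlgSp

namespace Groth.Agent.S10705

/-- the base change of `a` to a space over `X₂` that factors through a space over which `a` becomes
an isomorphism is an isomorphism. -/
lemma isIso_snd_of_factor {S : Scheme.{u}} {X₁ X₂ Q Q₁ W P : AlgSp.Sp S} {a : X₁ ⟶ X₂} {q : Q ⟶ X₂}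
    {a' : Q₁ ⟶ Q} {b' : Q₁ ⟶ X₁} (hQ : IsPullback b' a' a q) [IsIso a'] (m : W ⟶ Q)
    {qW : W ⟶ X₂} (hq : qW = m ≫ q)
    {fst : P ⟶ X₁} {snd : P ⟶ W} (sq : IsPullback fst snd a qW) : IsIso snd := by
  subst hq
  exact (IsPullback.of_right' sq hQ).isIso_snd_of_isIso

/-- Let `f : Y → X` be a quasi-compact quasi-separated morphism of algebraic spaces over `S`, `i : Z →
X` a closed immersion of finite presentation such that `f⁻¹Z → Z` is an isomorphism and `f` is flat
at every point of `|f⁻¹Z|`, and let `U ⊂ X` be the open subspace complementary to `Z`. Let `a : X₁ →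
X₂` be a morphism of algebraic spaces over `X`. If the base change of `a` to `U` and the base change
of `a` to `Y` are isomorphisms, then `a` is an isomorphism: the formal glueing functor reflects
isomorphisms. -/
theorem result {S : Scheme.{u}} {X Y Z FZ U : AlgSp.Space S} (f : Y ⟶ X)
    (hqc : AlgSp.IsQuasiCompactMor f.hom) (hqs : AlgSp.IsQuasiSeparatedMor f.hom) (i : Z ⟶ X)
    (hi : AlgSp.RepWith @IsClosedImmersion i.hom) (hifp : AlgSp.LocP @LocallyOfFinitePresentation i.hom)
    (iY : FZ ⟶ Y) (fZ : FZ ⟶ Z) (hFZ : IsPullback iY.hom fZ.hom f.hom i.hom) [IsIso fZ]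
    (hflat : ∀ y ∈ Set.range (AlgSp.Points.map iY.hom), AlgSp.IsFlatAtMor f.hom y) (j : U ⟶ X)
    (hj : AlgSp.RepWith @IsOpenImmersion j.hom)
    (hU : Set.range (AlgSp.Points.map j.hom) = (Set.range (AlgSp.Points.map i.hom))ᶜ)
    {X₁ X₂ QU QU₁ QY QY₁ : AlgSp.Space S} (p₂ : X₂ ⟶ X) (a : X₁ ⟶ X₂)
    (qU : QU ⟶ X₂) (rU : QU ⟶ U) (hQU : IsPullback qU.hom rU.hom p₂.hom j.hom) (aU : QU₁ ⟶ QU)
    (bU : QU₁ ⟶ X₁) (hQU₁ : IsPullback bU.hom aU.hom a.hom qU.hom) [IsIso aU] (qY : QY ⟶ X₂) (rY : QY ⟶ Y)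
    (hQY : IsPullback qY.hom rY.hom p₂.hom f.hom) (aY : QY₁ ⟶ QY) (bY : QY₁ ⟶ X₁)
    (hQY₁ : IsPullback bY.hom aY.hom a.hom qY.hom) [IsIso aY] : IsIso a := by
  obtain ⟨ι, W, w, hcov, hfac⟩ :=
    Groth.Agent.S10704.result f hqc hqs i hi hifp iY fZ hFZ hflat j hj hU
  -- base change of the covering to `X₂`
  have hW' : ∀ k, AlgSp.IsAlgSpace (pullback p₂.hom (w k).hom) := fun k =>
    Groth.Agent.S9874.isAlgSpace_of_isPullback X.property.diag X₂.property (W k).property
      (IsPullback.of_hasPullback p₂.hom (w k).hom)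
  let W' : ι → AlgSp.Space S := fun k => ⟨pullback p₂.hom (w k).hom, hW' k⟩
  let q : ∀ k, W' k ⟶ X₂ := fun k => ObjectProperty.homMk (pullback.fst p₂.hom (w k).hom)
  let p : ∀ k, W' k ⟶ W k := fun k => ObjectProperty.homMk (pullback.snd p₂.hom (w k).hom)
  have hcov' : AlgSp.IsFpqcCover (fun k => (W' k).obj) (fun k => (q k).hom) :=
    Groth.Agent.S10506.result p₂ W w W' q p
      (fun k => IsPullback.of_hasPullback p₂.hom (w k).hom) hcov
  -- base change of `a`
  have hP : ∀ k, AlgSp.IsAlgSpace (pullback a.hom (q k).hom) := fun k =>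
    Groth.Agent.S9874.isAlgSpace_of_isPullback X₂.property.diag X₁.property (W' k).property
      (IsPullback.of_hasPullback a.hom (q k).hom)
  haveI : IsIso aU.hom := inferInstanceAs (IsIso ((ObjectProperty.ι _).map aU))
  haveI : IsIso aY.hom := inferInstanceAs (IsIso ((ObjectProperty.ι _).map aY))
  have hiso : IsIso a.hom := by
    refine Groth.Agent.Lib.H5bFpqcIso.isIso_of_fpqcCover (fun k => (W' k).obj)
      (fun k => (q k).hom) X₂.property (fun k => (W' k).property) hcov' a.hom X₁.property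
      (fun k => pullback a.hom (q k).hom) (fun k => pullback.snd a.hom (q k).hom)
      (fun k => pullback.fst a.hom (q k).hom) hP
      (fun k => IsPullback.of_hasPullback a.hom (q k).hom) (fun k => ?_)
    rcases hfac k with ⟨l, hl⟩ | ⟨l, hl⟩
    · have hl' : l.hom ≫ j.hom = (w k).hom := congrArg (fun φ => φ.hom) hl
      have hm : pullback.fst p₂.hom (w k).hom ≫ p₂.hom =
          (pullback.snd p₂.hom (w k).hom ≫ l.hom) ≫ j.hom := by
        rw [Category.assoc, hl', pullback.condition]
      have hq : (q k).hom = hQU.lift _ _ hm ≫ qU.hom := (hQU.lift_fst _ _ hm).symm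
      exact isIso_snd_of_factor hQU₁ _ hq (IsPullback.of_hasPullback a.hom (q k).hom)
    · have hl' : l.hom ≫ f.hom = (w k).hom := congrArg (fun φ => φ.hom) hl
      have hm : pullback.fst p₂.hom (w k).hom ≫ p₂.hom =
          (pullback.snd p₂.hom (w k).hom ≫ l.hom) ≫ f.hom := by
        rw [Category.assoc, hl', pullback.condition]
      have hq : (q k).hom = hQY.lift _ _ hm ≫ qY.hom := (hQY.lift_fst _ _ hm).symm
      exact isIso_snd_of_factor hQY₁ _ hq (IsPullback.of_hasPullback a.hom (q k).hom)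
  exact ⟨ObjectProperty.homMk (inv a.hom), by
    apply ObjectProperty.hom_ext
    exact IsIso.hom_inv_id a.hom, by
    apply ObjectProperty.hom_ext
    exact IsIso.inv_hom_id a.hom⟩

end Groth.Agent.S10705
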