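import Groth.Statements.S10738
import Groth.Agent.Lib.Helper8SpIntPush
import Groth.Agent.S10267

set_option autoImplicit false
universe u
open CategoryTheory CategoryTheory.Limits AlgebraicGeometry Opposite
open AlgSp

namespace Groth.Agent.S10738

/-- Let f : X ⟶ Y be an integral (for instance finite) morphism of algebraic spaces over S; such a
morphism is representable, and the representability is carried as a hypothesis. Then f_* on abelian
sheaves on the small etale sites is an exact functor (it preserves finite colimits, finite limits
being automatic) and R^p f_* F = 0 for every abelian sheaf F on X_et and every p > 0. -/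
theorem result {S : Scheme.{u}} {X Y : AlgSp.Space S} (f : X ⟶ Y)
    (hf : AlgSp.Representable f.hom) (hint : AlgSp.IsIntegralMor f.hom) :
    PreservesFiniteColimits (AlgSp.pushEt hf AddCommGrpCat.{u + 1}) ∧
      ∀ (p : ℕ), 0 < p → ∀ F : AlgSp.AbEt X.obj, IsZero ((AlgSp.RpushEt hf p).obj F) := by
  have hint' : AlgSp.RepWith @IsIntegralHom f.hom := (Groth.Agent.S10267.result f).1.1 hint
  exact ⟨Groth.Agent.Lib.Helper8SpIntPush.preservesFiniteColimits_pushEt hf hint',
    fun p hp F => Groth.Agent.Lib.Helper8SpIntPush.isZero_RpushEt hf hint' F p hp⟩

end Groth.Agent.S10738
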