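import Groth.Statements.S10762
import Mathlib
import Groth.Agent.S10281
import Groth.Agent.S9964
import Groth.Agent.S9934

set_option autoImplicit false
universe u
open CategoryTheory CategoryTheory.Limits AlgebraicGeometry
open AlgSp

namespace Groth.Agent.S10762

/-- Let B be an algebraic space over S, let a : X ⟶ B and b : Y ⟶ B be locally of finite type with b
separated, and let f : X ⟶ Y be a morphism over B. If i : Z ⟶ X is a closed subspace with Z ⟶ B
proper, then the image of |Z| under |f| is a closed subset of |Y| which underlies a closed subspace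
Z' ⟶ Y with Z' ⟶ B proper. -/
theorem result {S : Scheme.{u}} {X Y B Z : AlgSp.Space S}
    (a : X ⟶ B) (b : Y ⟶ B) (f : X ⟶ Y) (hcomm : f ≫ b = a)
    (ha : AlgSp.LocP @LocallyOfFiniteType a.hom) (hb : AlgSp.LocP @LocallyOfFiniteType b.hom)
    (hbs : AlgSp.IsSeparatedMor b.hom)
    (i : Z ⟶ X) (hi : AlgSp.RepWith @IsClosedImmersion i.hom) (hZ : AlgSp.IsProperMor (i ≫ a).hom) :
    IsClosed (AlgSp.Points.map f.hom '' Set.range (AlgSp.Points.map i.hom)) ∧
      ∃ (Z' : AlgSp.Space S) (i' : Z' ⟶ Y), AlgSp.RepWith @IsClosedImmersion i'.hom ∧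
        Set.range (AlgSp.Points.map i'.hom) = AlgSp.Points.map f.hom '' Set.range (AlgSp.Points.map i.hom) ∧
        AlgSp.IsProperMor (i' ≫ b).hom := by
  obtain ⟨Z', i', hZ'⟩ := Groth.Agent.S9964.result (i ≫ f)
  obtain ⟨h', hh'⟩ := hZ'.2.1
  have hcomm' : (i ≫ f) ≫ b = i ≫ a := by rw [Category.assoc, hcomm]
  have key := Groth.Agent.S10281.result (i ≫ f) (i ≫ a) b hcomm' hZ hbs hb i' hZ'
    (ObjectProperty.homMk h') (ObjectProperty.hom_ext _ hh')
  have himm : AlgSp.RepWith @IsImmersion i'.hom := by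
    refine ⟨hZ'.1.1, fun T W g pr w sq => ?_⟩
    haveI : IsClosedImmersion w.left := hZ'.1.2 g pr w sq
    change IsImmersion w.left
    infer_instance
  have hrange : Set.range (AlgSp.Points.map i'.hom) =
      AlgSp.Points.map f.hom '' Set.range (AlgSp.Points.map i.hom) := by
    apply Set.Subset.antisymm
    · rintro _ ⟨z', rfl⟩
      obtain ⟨z, rfl⟩ := key.2 z'
      refine ⟨AlgSp.Points.map i.hom z, ⟨z, rfl⟩, ?_⟩
      change _ = AlgSp.Points.map i'.hom (AlgSp.Points.map h' z)
      rw [← AlgSp.Points.map_comp, ← AlgSp.Points.map_comp, hh']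
      rfl
    · rintro _ ⟨_, ⟨z, rfl⟩, rfl⟩
      refine ⟨AlgSp.Points.map h' z, ?_⟩
      rw [← AlgSp.Points.map_comp, ← AlgSp.Points.map_comp, hh']
      rfl
  refine ⟨?_, Z', i', hZ'.1, hrange, key.1⟩
  rw [← hrange]
  exact (Groth.Agent.S9934.result i' himm).1 hZ'.1

end Groth.Agent.S10762
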