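import Groth.Statements.S10763
import Mathlib
import Groth.Agent.Lib.H5bProperImage
import Groth.Agent.S10192
import Groth.Agent.S10193
import Groth.Agent.S10191

set_option autoImplicit false
set_option linter.style.haveILetI false
universe u
open CategoryTheory CategoryTheory.Limits AlgebraicGeometry
open AlgSp

namespace Groth.Agent.S10763

open Groth.Agent.Lib.H5bProperImage Groth.Agent.Lib.Helper12.Proper

/-- Let B be an algebraic space over S, let a : X ⟶ B and b : Y ⟶ B be locally of finite type, and let f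
: X ⟶ Y be a universally closed morphism over B. If i : Z ⟶ X is a closed subspace with Z ⟶ B
proper, then the image of |Z| under |f| is a closed subset of |Y| which underlies a closed subspace
Z' ⟶ Y with Z' ⟶ B proper. -/
theorem result {S : Scheme.{u}} {X Y B Z : AlgSp.Space S}
    (a : X ⟶ B) (b : Y ⟶ B) (f : X ⟶ Y) (hcomm : f ≫ b = a)
    (ha : AlgSp.LocP @LocallyOfFiniteType a.hom) (hb : AlgSp.LocP @LocallyOfFiniteType b.hom)
    (hfc : AlgSp.IsUnivClosedMor f.hom)
    (i : Z ⟶ X) (hi : AlgSp.RepWith @IsClosedImmersion i.hom) (hZ : AlgSp.IsProperMor (i ≫ a).hom) :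
    IsClosed (AlgSp.Points.map f.hom '' Set.range (AlgSp.Points.map i.hom)) ∧
      ∃ (Z' : AlgSp.Space S) (i' : Z' ⟶ Y), AlgSp.RepWith @IsClosedImmersion i'.hom ∧
        Set.range (AlgSp.Points.map i'.hom) = AlgSp.Points.map f.hom '' Set.range (AlgSp.Points.map i.hom) ∧
        AlgSp.IsProperMor (i' ≫ b).hom := by
  have hif : AlgSp.IsUnivClosedMor (i.hom ≫ f.hom) :=
    isUnivClosedMor_comp X.property Y.property i.hom f.hom
      (isUnivClosedMor_of_isClosedImmersion _ hi) hfc
  have himg : AlgSp.Points.map f.hom '' Set.range (AlgSp.Points.map i.hom) =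
      Set.range (AlgSp.Points.map (i.hom ≫ f.hom)) := by
    rw [← Set.range_comp]
    congr 1
    funext z
    exact (AlgSp.Points.map_comp i.hom f.hom z).symm
  have hcm : IsClosedMap (AlgSp.Points.map (i.hom ≫ f.hom)) :=
    hif Y.property (𝟙 _) (𝟙 _) (i.hom ≫ f.hom) (IsPullback.id_horiz _)
  have hT : IsClosed (AlgSp.Points.map f.hom '' Set.range (AlgSp.Points.map i.hom)) := by
    rw [himg]
    exact hcm.isClosed_range
  refine ⟨hT, ?_⟩
  obtain ⟨Z', i', hi', hr', hred'⟩ := Groth.Agent.S10192.result Y _ hT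
  obtain ⟨Zr, ir, hir, hrr, hredr⟩ := Groth.Agent.S10192.result Z Set.univ isClosed_univ
  obtain ⟨g, hg⟩ := (Groth.Agent.S10193.result i' hi' hredr (ir ≫ i ≫ f)).2 (by
    rw [hr', himg]
    rintro _ ⟨z, rfl⟩
    exact ⟨AlgSp.Points.map ir.hom z, (AlgSp.Points.map_comp ir.hom (i.hom ≫ f.hom) z).symm⟩)
  have hg' : g.hom ≫ i'.hom = ir.hom ≫ i.hom ≫ f.hom := congrArg (fun m => m.hom) hg
  refine ⟨Z', i', hi', hr', ?_⟩
  haveI : Mono i'.hom := Groth.Agent.S9928.mono_of_repWith @IsClosedImmersion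
    (fun X Y g hg => by haveI : IsClosedImmersion g := hg; infer_instance) _ hi'
  have himm : AlgSp.RepWith @IsImmersion i'.hom := by
    refine ⟨hi'.1, fun T W g pr w sq => ?_⟩
    haveI : IsClosedImmersion w.left := hi'.2 g pr w sq
    change IsImmersion w.left
    infer_instance
  have hinj := (Groth.Agent.S10191.result i' himm).1.injective
  have hirf : AlgSp.IsUnivClosedMor (ir.hom ≫ i.hom ≫ f.hom) :=
    isUnivClosedMor_comp Z.property Y.property ir.hom (i.hom ≫ f.hom)
      (isUnivClosedMor_of_isClosedImmersion _ hir) hif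
  have hgc : AlgSp.IsUnivClosedMor g.hom :=
    isUnivClosedMor_of_comp_mono g.hom i'.hom (by rw [hg']; exact hirf)
  have hcomm' : f.hom ≫ b.hom = a.hom := congrArg (fun m => m.hom) hcomm
  have hgq : g.hom ≫ (i' ≫ b).hom = ir.hom ≫ (i ≫ a).hom := by
    change g.hom ≫ i'.hom ≫ b.hom = ir.hom ≫ i.hom ≫ a.hom
    rw [← Category.assoc, hg', ← hcomm']
    simp only [Category.assoc]
  have hproper : AlgSp.IsProperMor (g.hom ≫ (i' ≫ b).hom) := by
    rw [hgq]
    exact isProperMor_comp Z.property B.property ir.hom (i ≫ a).hom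
      (isProperMor_of_isClosedImmersion Z.property ir.hom hir) hZ
  have hlft : AlgSp.LocP @LocallyOfFiniteType (i' ≫ b).hom :=
    locP_lft_comp Y.property B.property i'.hom b.hom
      (locP_lft_of_isClosedImmersion Y.property i'.hom hi') hb
  have hsurj : ∀ y : AlgSp.Points Z'.obj, ∃ (_ : Unit) (x : AlgSp.Points Zr.obj),
      AlgSp.Points.map g.hom x = y := by
    intro y
    have hy : AlgSp.Points.map i'.hom y ∈ Set.range (AlgSp.Points.map (i.hom ≫ f.hom)) := by
      rw [← himg, ← hr']
      exact ⟨y, rfl⟩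
    obtain ⟨z, hz⟩ := hy
    obtain ⟨zr, rfl⟩ : z ∈ Set.range (AlgSp.Points.map ir.hom) := by rw [hrr]; trivial
    refine ⟨(), zr, hinj ?_⟩
    rw [← AlgSp.Points.map_comp, hg', AlgSp.Points.map_comp, hz]
  exact isProperMor_of_jointly_surjective (ι := Unit) (X := fun _ => Zr.obj)
    (fun _ => Zr.property) Z'.property B.property (fun _ => g.hom) (i' ≫ b).hom hlft
    (fun _ => hgc) (fun _ => hproper) hsurj

end Groth.Agent.S10763
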