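import Groth.Statements.S10765
import Mathlib
import Groth.Agent.Lib.H5bProperImage
import Groth.Agent.S10192
import Groth.Agent.S10193
import Groth.Agent.S10191

set_option autoImplicit false
set_option linter.style.haveILetI false
universe u
open CategoryTheory CategoryTheory.Limits AlgebraicGeometry
open AlgSp

namespace Groth.Agent.S10765

open Groth.Agent.Lib.H5bProperImage Groth.Agent.Lib.Helper12.Proper

/-- Let f : X ⟶ Y be a morphism of algebraic spaces over S that is locally of finite type and let i_k :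
Z_k ⟶ X, for k ranging over a finite index set, be closed subspaces with each Z_k ⟶ Y proper. Then
there is a closed subspace W ⟶ X whose image in |X| is the union of the images of the |Z_k| and with
W ⟶ Y proper; that is, a finite union of closed subsets proper over Y is proper over Y. -/
theorem result {S : Scheme.{u}} {X Y : AlgSp.Space S}
    (f : X ⟶ Y) (hf : AlgSp.LocP @LocallyOfFiniteType f.hom)
    {n : ℕ} (Z : Fin n → AlgSp.Space S) (i : ∀ k, Z k ⟶ X)
    (hi : ∀ k, AlgSp.RepWith @IsClosedImmersion (i k).hom) (hZ : ∀ k, AlgSp.IsProperMor (i k ≫ f).hom) :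
    ∃ (W : AlgSp.Space S) (j : W ⟶ X), AlgSp.RepWith @IsClosedImmersion j.hom ∧
      Set.range (AlgSp.Points.map j.hom) = ⋃ k, Set.range (AlgSp.Points.map (i k).hom) ∧
      AlgSp.IsProperMor (j ≫ f).hom := by
  have hT : IsClosed (⋃ k, Set.range (AlgSp.Points.map (i k).hom)) :=
    isClosed_iUnion_of_finite fun k =>
      (isClosedMap_of_repWith_isClosedImmersion _ (hi k)).isClosed_range
  obtain ⟨W, j, hj, hrj, hredW⟩ := Groth.Agent.S10192.result X _ hT
  choose Zr ir hZr using fun k => Groth.Agent.S10192.result (Z k) Set.univ isClosed_univ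
  have hfac : ∀ k, ∃ g : Zr k ⟶ W, g ≫ j = ir k ≫ i k := fun k =>
    (Groth.Agent.S10193.result j hj (hZr k).2.2 (ir k ≫ i k)).2 (by
      rw [hrj]
      rintro _ ⟨z, rfl⟩
      exact Set.mem_iUnion.2 ⟨k, AlgSp.Points.map (ir k).hom z,
        (AlgSp.Points.map_comp (ir k).hom (i k).hom z).symm⟩)
  choose g hg using hfac
  have hg' : ∀ k, (g k).hom ≫ j.hom = (ir k).hom ≫ (i k).hom := fun k =>
    congrArg (fun m => m.hom) (hg k)
  refine ⟨W, j, hj, hrj, ?_⟩
  haveI : Mono j.hom := Groth.Agent.S9928.mono_of_repWith @IsClosedImmersion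
    (fun X Y g hg => by haveI : IsClosedImmersion g := hg; infer_instance) _ hj
  have himm : AlgSp.RepWith @IsImmersion j.hom := by
    refine ⟨hj.1, fun T W g pr w sq => ?_⟩
    haveI : IsClosedImmersion w.left := hj.2 g pr w sq
    change IsImmersion w.left
    infer_instance
  have hinj := (Groth.Agent.S10191.result j himm).1.injective
  have hgc : ∀ k, AlgSp.IsUnivClosedMor (g k).hom := fun k =>
    isUnivClosedMor_of_comp_mono (g k).hom j.hom (by
      rw [hg' k]
      exact isUnivClosedMor_comp (Z k).property X.property (ir k).hom (i k).hom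
        (isUnivClosedMor_of_isClosedImmersion _ (hZr k).1)
        (isUnivClosedMor_of_isClosedImmersion _ (hi k)))
  have hproper : ∀ k, AlgSp.IsProperMor ((g k).hom ≫ (j ≫ f).hom) := by
    intro k
    have e : (g k).hom ≫ (j ≫ f).hom = (ir k).hom ≫ (i k ≫ f).hom := by
      change (g k).hom ≫ j.hom ≫ f.hom = (ir k).hom ≫ (i k).hom ≫ f.hom
      rw [← Category.assoc, hg' k, Category.assoc]
    rw [e]
    exact isProperMor_comp (Z k).property Y.property (ir k).hom (i k ≫ f).hom
      (isProperMor_of_isClosedImmersion (Z k).property (ir k).hom (hZr k).1) (hZ k)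
  have hlft : AlgSp.LocP @LocallyOfFiniteType (j ≫ f).hom :=
    locP_lft_comp X.property Y.property j.hom f.hom
      (locP_lft_of_isClosedImmersion X.property j.hom hj) hf
  have hsurj : ∀ y : AlgSp.Points W.obj, ∃ (k : Fin n) (x : AlgSp.Points (Zr k).obj),
      AlgSp.Points.map (g k).hom x = y := by
    intro y
    have hy : AlgSp.Points.map j.hom y ∈ ⋃ k, Set.range (AlgSp.Points.map (i k).hom) := by
      rw [← hrj]
      exact ⟨y, rfl⟩
    obtain ⟨k, z, hz⟩ := Set.mem_iUnion.1 hy
    obtain ⟨zr, rfl⟩ : z ∈ Set.range (AlgSp.Points.map (ir k).hom) := by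
      rw [(hZr k).2.1]; trivial
    refine ⟨k, zr, hinj ?_⟩
    rw [← AlgSp.Points.map_comp, hg' k, AlgSp.Points.map_comp, hz]
  exact isProperMor_of_jointly_surjective (ι := Fin n) (X := fun k => (Zr k).obj)
    (fun k => (Zr k).property) W.property Y.property (fun k => (g k).hom) (j ≫ f).hom hlft
    hgc hproper hsurj

end Groth.Agent.S10765
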