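import Groth.Statements.S10792
import Mathlib
import Groth.Agent.Lib.Helper8CartierChart
import Groth.Agent.Lib.Helper8AffCompl
import Groth.Agent.S10177
import Groth.Agent.S10176

set_option autoImplicit false
universe u
open CategoryTheory CategoryTheory.Limits AlgebraicGeometry Topology TopologicalSpace
open AlgSp

namespace Groth.Agent.S10792

/-- (2) ⇔ (4): let X be an algebraic space over a scheme S and D ⟶ X a closed subspace (representable by
closed immersions). Then D is an effective Cartier divisor in the one-chart sense if and only if for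
every point x of |D| there are an affine scheme U over S, a representable etale h_U ⟶ X, a point u
of U mapping to the image of x in |X|, and a nonzerodivisor f of the ring A of global functions of U
such that the inverse image of D in U is the closed subscheme Spec (A/(f)), that is, the closed
subscheme of the quasi-coherent ideal sheaf of U whose ideal of global sections is generated by f. -/
theorem result {S : Scheme.{u}} (X D : AlgSp.Space S) (i : D ⟶ X)
    (hi : AlgSp.RepWith @IsClosedImmersion i.hom) :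
    AlgSp.IsEffCartierSub i.hom ↔
      ∀ x : AlgSp.Points D.obj,
        ∃ (U : Over S) (_ : IsAffine U.left) (a : (AlgSp.yon S).obj U ⟶ X.obj) (u : ↥U.left)
          (f : Γ(U.left, ⊤)) (I : U.left.IdealSheafData)
          (fst : (AlgSp.yon S).obj (Over.mk (I.subschemeι ≫ U.hom)) ⟶ D.obj),
          AlgSp.RepWith @Etale a ∧ AlgSp.Points.ofPt a u = AlgSp.Points.map i.hom x ∧
            f ∈ nonZeroDivisors Γ(U.left, ⊤) ∧
            I.ideal ⟨⊤, isAffineOpen_top U.left⟩ = Ideal.span {f} ∧
            IsPullback fst ((AlgSp.yon S).map (Over.homMk I.subschemeι rfl : Over.mk (I.subschemeι ≫ U.hom) ⟶ U)) i.hom a := by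
  constructor
  · intro hD x
    obtain ⟨hcl, V, φ, IV, fstD, hφe, hφs, sqD, hIV⟩ := hD
    obtain ⟨v, hv⟩ := Groth.Agent.S10177.surjective_ofPt φ hφs (AlgSp.Points.map i.hom x)
    obtain ⟨U₀, hvU₀, f₀, hf₀, hIf₀⟩ := hIV v
    let OU : Over S := Over.mk (U₀.1.ι ≫ V.hom)
    let ιU : OU ⟶ V := Over.homMk U₀.1.ι rfl
    let a : (AlgSp.yon S).obj OU ⟶ X.obj := (AlgSp.yon S).map ιU ≫ φ
    have ha : AlgSp.RepWith @Etale a :=
      (AlgSp.repWith_isMultiplicative (S := S) @Etale).comp_mem _ _
        ((AlgSp.repWith_yon_map_iff _ _).2 (inferInstanceAs (Etale U₀.1.ι))) hφe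
    have hid := IsPullback.id_horiz i.hom
    have hc : a ≫ 𝟙 X.obj = (AlgSp.yon S).map ιU ≫ φ := Category.comp_id _
    obtain ⟨fst, sq, -⟩ :=
      Groth.Agent.Lib.Helper8EffCartier.exists_isPullback_comap hid IV sqD a ιU hc
    have hU₀ : IsAffineOpen U₀.1 := U₀.2
    have haff : IsAffine OU.left := hU₀
    have hψ : Function.Bijective (U₀.1.ι.appLE U₀.1 ⊤ U₀.1.ι_preimage_self.ge).hom :=
      ConcreteCategory.bijective_of_isIso (U₀.1.ι.appLE U₀.1 ⊤ U₀.1.ι_preimage_self.ge)
    refine ⟨OU, haff, a, (⟨v, hvU₀⟩ : U₀.1), (U₀.1.ι.appLE U₀.1 ⊤ U₀.1.ι_preimage_self.ge).hom f₀,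
      IV.comap ιU.left, fst, ha, ?_, ?_, ?_, sq⟩
    · rw [← hv]
      exact Groth.Agent.S10176.ofPt_map_comp ιU φ _
    · rw [mem_nonZeroDivisors_iff_right]
      intro y hy
      obtain ⟨y', rfl⟩ := hψ.2 y
      rw [← map_mul] at hy
      have h0 := hψ.1 (hy.trans (map_zero _).symm)
      rw [(mem_nonZeroDivisors_iff_right.1 hf₀) y' h0, map_zero]
    · have key := Groth.Agent.Lib.Helper20.EffCartier.ideal_comap_eq_map U₀.1.ι IV
        (isAffineOpen_top _) hU₀ U₀.1.ι_preimage_self.ge
      rw [show IV.ideal ⟨U₀.1, hU₀⟩ = Ideal.span {f₀} from hIf₀, Ideal.map_span,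
        Set.image_singleton] at key
      exact key
  · intro h
    obtain ⟨V, p, hpe, hps⟩ := X.property.atlas
    obtain ⟨ZV, sndV, fstV, sqV⟩ := hi.1 p
    haveI : IsClosedImmersion sndV.left := hi.2 _ _ sndV sqV
    obtain ⟨fstK, sqK⟩ := Groth.Agent.Lib.Helper8CutOut.exists_isPullback_ker sqV
    refine ⟨hi, V, p, sndV.left.ker, fstK, hpe, hps, sqK, ?_⟩
    intro v
    by_cases hv : AlgSp.Points.ofPt p v ∈ Set.range (AlgSp.Points.map i.hom)
    · obtain ⟨x, hx⟩ := hv
      obtain ⟨U, hUaff, a, u, f, I, fst, ha, hu, hf, hIf, sq⟩ := h x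
      haveI := hUaff
      obtain ⟨W, sndW, fst', sqW⟩ := ha.1 p
      obtain ⟨hh, rfl⟩ := (AlgSp.yon S).map_surjective fst'
      haveI hsE : Etale sndW.left := ha.2 _ _ sndW sqW
      haveI hhE : Etale hh.left := hpe.2 _ _ hh sqW.flip
      obtain ⟨w, hw1, hw2⟩ :=
        Groth.Agent.S10176.exists_point_of_isPullback_yon sqW u v (by rw [hu, hx])
      have hid := IsPullback.id_horiz i.hom
      have hc1 : ((AlgSp.yon S).map sndW ≫ p) ≫ 𝟙 X.obj = (AlgSp.yon S).map hh ≫ a := by
        rw [Category.comp_id]; exact sqW.w.symm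
      have hc2 : ((AlgSp.yon S).map sndW ≫ p) ≫ 𝟙 X.obj = (AlgSp.yon S).map sndW ≫ p :=
        Category.comp_id _
      obtain ⟨g1, sq1, -⟩ := Groth.Agent.Lib.Helper8EffCartier.exists_isPullback_comap hid I sq
        ((AlgSp.yon S).map sndW ≫ p) hh hc1
      obtain ⟨g2, sq2, -⟩ := Groth.Agent.Lib.Helper8EffCartier.exists_isPullback_comap hid
        sndV.left.ker sqK ((AlgSp.yon S).map sndW ≫ p) sndW hc2
      have heq : I.comap hh.left = sndV.left.ker.comap sndW.left :=
        Groth.Agent.Lib.Helper8CartierChart.ideal_eq_of_isPullback _ _ sq1 sq2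
      have hI : BlowUp.IsEffCartierIdeal I :=
        Groth.Agent.Lib.Helper8CartierDescent.isEffCartierIdeal_of_top I f hf hIf
      have h1 := Groth.Agent.S10855.result hh.left I hI
      rw [heq] at h1
      have h2 := Groth.Agent.Lib.Helper8CartierDescent.exists_gen_of_comap sndW.left
        sndV.left.ker h1 w
      rw [hw2] at h2
      exact h2
    · apply Groth.Agent.Lib.Helper8CartierDescent.exists_gen_of_notMem_support
      intro hsup
      apply hv
      apply (Groth.Agent.Lib.Helper8AffCompl.mem_range_iff sqK v).1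
      change v ∈ Set.range sndV.left.ker.subschemeι
      rw [Scheme.IdealSheafData.range_subschemeι]
      exact hsup

end Groth.Agent.S10792
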