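import Groth.Statements.S10793
import Mathlib
import Groth.Agent.Lib.Helper8AffCompl
import Groth.Agent.S1571
import Groth.Agent.Lib.Helper12SchDense

set_option autoImplicit false
universe u
open CategoryTheory CategoryTheory.Limits AlgebraicGeometry Topology TopologicalSpace
open AlgSp

namespace Groth.Agent.S10793

/-- For an algebraic space X over a scheme S, an effective Cartier divisor D ⟶ X (in the one-chart
sense) and the open subspace U ⟶ X complementary to D, that is, a morphism representable by open
immersions whose image in |X| is the complement of the image of |D|: the inclusion of U in X is an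
affine morphism, and in the scheme-theoretic sense (one-chart form) U is dense in X. -/
theorem result {S : Scheme.{u}} (X D U : AlgSp.Space S)
    (i : D ⟶ X) (hD : AlgSp.IsEffCartierSub i.hom) (j : U ⟶ X) (hj : AlgSp.RepWith @IsOpenImmersion j.hom)
    (hU : Set.range (AlgSp.Points.map j.hom) = (Set.range (AlgSp.Points.map i.hom))ᶜ) :
    AlgSp.IsAffineMor j.hom ∧ AlgSp.IsSchDense j.hom := by
  obtain ⟨hcl, V, φ, I, fstD, hφe, hφs, sqD, hI⟩ := hD
  obtain ⟨UV, sndU, fstU, sqU⟩ := hj.1 φ
  haveI hopen : IsOpenImmersion sndU.left := hj.2 _ _ sndU sqU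
  have hrange := Groth.Agent.Lib.Helper8AffCompl.range_eq_compl hU I sqD sqU
  obtain ⟨haffW, hdom⟩ := Groth.Agent.S1571.result V.left I hI
  have haff : IsAffineHom sndU.left :=
    Groth.Agent.Lib.Helper8AffCompl.isAffineHom_of_range_eq sndU.left I.support.compl hrange haffW
  refine ⟨Groth.Agent.Lib.Helper8AffCompl.isAffineMor_of_chart hj hφe hφs sqU haff,
    hj, V, φ, I.support.compl, ?_⟩
  obtain ⟨fst, sq⟩ :=
    Groth.Agent.Lib.Helper8AffCompl.exists_isPullback_opens sqU I.support.compl hrange
  haveI : IsAffineHom (Scheme.Opens.ι (X := V.left) I.support.compl) := haffW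
  haveI : QuasiCompact (Scheme.Opens.ι (X := V.left) I.support.compl) := inferInstance
  exact ⟨fst, hφe, hφs, sq, (Groth.Agent.Lib.Helper12.SchDense.isSchematicallyDense_iff _).2 hdom⟩

end Groth.Agent.S10793
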