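import Groth.Statements.S10794
import Mathlib
import Groth.Agent.Lib.Helper7TopDim
import Groth.Agent.Lib.Helper4VarDim2
import Groth.Agent.Lib.Helper6EtDim
import Groth.Agent.Lib.H5bEtLocal
import Groth.Agent.S10176
import Groth.Agent.S10177

set_option autoImplicit false
universe u
open CategoryTheory CategoryTheory.Limits AlgebraicGeometry Topology TopologicalSpace
open AlgSp

namespace Groth.Agent.S10794

open Groth.Agent.Lib.Helper7.TopDim TopologicalSpace Topology

theorem dim_le_of_le {X : Type*} [TopologicalSpace X] {A B : Set X} (h : A ⊆ B) :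
    topologicalKrullDim A ≤ topologicalKrullDim B :=
  (isInducing_of_comp_eq (Set.inclusion h) Subtype.val Subtype.val IsInducing.subtypeVal
    IsInducing.subtypeVal rfl).topologicalKrullDim_le

theorem lt_of_add_one_le (a d : WithBot ℕ∞) (h : a + 1 ≤ d) (hfin : d ≠ ⊤) (h0 : 0 ≤ d) :
    a < d := by
  induction a using WithBot.recBotCoe with
  | bot => exact lt_of_lt_of_le (WithBot.bot_lt_coe 0) h0
  | coe n =>
    induction d using WithBot.recBotCoe with
    | bot => simp at h0
    | coe m =>
      have h' : n + 1 ≤ m := by exact_mod_cast h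
      have hm : m ≠ ⊤ := fun hm => hfin (by rw [hm]; rfl)
      have : n < m := by
        rcases eq_or_ne n ⊤ with rfl | hn
        · simp at h'; exact absurd h' hm
        · exact lt_of_lt_of_le (ENat.lt_add_one_iff hn |>.2 le_rfl) h'
      exact_mod_cast this

/-- the local dimension drops on a closed subscheme locally cut out by a nonzerodivisor. -/
theorem localDim_subscheme_lt {V : Scheme.{u}} (I : V.IdealSheafData)
    (hI : BlowUp.IsEffCartierIdeal I) (z : I.subscheme) (d : WithBot ℕ∞)
    (hd : FlatMor.localDim V (I.subschemeι z) = d) (hfin : d ≠ ⊤) :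
    FlatMor.localDim I.subscheme z < d := by
  set v := I.subschemeι z with hv
  obtain ⟨U₀, hvU₀, hU₀⟩ := exists_opens_dim_eq_localDim v
  obtain ⟨U, hvU, f, hf, hIf⟩ := hI v
  obtain ⟨g, hg1, hg2⟩ := U.2.exists_basicOpen_le ⟨v, hvU₀⟩ hvU
  let U' : V.affineOpens := V.affineBasicOpen g
  let φ : Γ(V, U.1) →+* Γ(V, U'.1) := (V.presheaf.map (homOfLE <| V.basicOpen_le g).op).hom
  have hI' : I.ideal U' = Ideal.span {φ f} := by
    rw [← I.map_ideal_basicOpen U g, hIf, Ideal.map_span, Set.image_singleton]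
    rfl
  have hf' : φ f ∈ nonZeroDivisors Γ(V, U'.1) := by
    let _ : Algebra Γ(V, U.1) Γ(V, U'.1) := φ.toAlgebra
    have : IsLocalization.Away g Γ(V, U'.1) := U.2.isLocalization_basicOpen g
    exact IsLocalization.map_nonZeroDivisors_le (Submonoid.powers g) Γ(V, U'.1)
      (Submonoid.mem_map_of_mem _ hf)
  have h1 : topologicalKrullDim (U'.1 : Set V) ≤ d := by
    rw [← hd, ← hU₀]
    exact dim_le_of_le hg1
  have h2 : topologicalKrullDim (U'.1 : Set V) = ringKrullDim Γ(V, U'.1) :=
    Groth.Agent.Lib.Helper4.VarDim.topologicalKrullDim_eq_ringKrullDim U'.2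
  have haff : IsAffineOpen (I.subschemeι ⁻¹ᵁ U'.1) := U'.2.preimage I.subschemeι
  have h3 : topologicalKrullDim ((I.subschemeι ⁻¹ᵁ U'.1 : I.subscheme.Opens) : Set I.subscheme) =
      ringKrullDim (Γ(V, U'.1) ⧸ I.ideal U') := by
    refine (Groth.Agent.Lib.Helper4.VarDim.topologicalKrullDim_eq_ringKrullDim haff).trans ?_
    exact ringKrullDim_eq_of_ringEquiv (I.subschemeObjIso U').commRingCatIsoToRingEquiv
  have h4 : ringKrullDim (Γ(V, U'.1) ⧸ I.ideal U') + 1 ≤ ringKrullDim Γ(V, U'.1) := by
    rw [hI']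
    exact ringKrullDim_quotient_succ_le_of_nonZeroDivisor hf'
  have h5 : FlatMor.localDim I.subscheme z ≤
      topologicalKrullDim ((I.subschemeι ⁻¹ᵁ U'.1 : I.subscheme.Opens) : Set I.subscheme) :=
    localDim_le z _ hg2
  have h6 : FlatMor.localDim I.subscheme z + 1 ≤ d := by
    calc FlatMor.localDim I.subscheme z + 1
        ≤ ringKrullDim (Γ(V, U'.1) ⧸ I.ideal U') + 1 := by
          rw [← h3]; exact add_le_add_left h5 1
      _ ≤ ringKrullDim Γ(V, U'.1) := h4
      _ = topologicalKrullDim (U'.1 : Set V) := h2.symm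
      _ ≤ d := h1
  exact lt_of_add_one_le _ _ h6 hfin (hd ▸ localDim_nonneg v)

/-- Let X be an algebraic space over a scheme S, D ⟶ X an effective Cartier divisor (one-chart sense)
and x a point of |D|. If the dimension of X at the image of x is d, in the sense that some etale
scheme chart of X has local dimension d at a point over it, and d is finite, then the dimension of D
at x is strictly smaller: some etale scheme chart of D has local dimension less than d at a point
over x. -/
theorem result {S : Scheme.{u}} (X D : AlgSp.Space S) (i : D ⟶ X)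
    (hD : AlgSp.IsEffCartierSub i.hom) (x : AlgSp.Points D.obj) (d : WithBot ℕ∞)
    (hd : AlgSp.HasAt (fun U u => FlatMor.localDim ↥U u = d) X.obj (AlgSp.Points.map i.hom x)) (hfin : d ≠ ⊤) :
    AlgSp.HasAt (fun V v => FlatMor.localDim ↥V v < d) D.obj x := by
  obtain ⟨-, V, φ, I, fst, hφ, hφs, sq, hI⟩ := hD
  -- the chart of `D`
  have hfst : AlgSp.RepWith @Etale fst :=
    (AlgSp.repWith_isStableUnderBaseChange (S := S) @Etale).of_isPullback sq.flip hφ
  have hfsts : AlgSp.RepWith @Surjective fst :=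
    (AlgSp.repWith_isStableUnderBaseChange (S := S) @Surjective).of_isPullback sq.flip hφs
  obtain ⟨z, hz⟩ := Groth.Agent.S10177.surjective_ofPt fst hfsts x
  have hQ : ∀ {W U : Scheme.{u}} (g : W ⟶ U) [Etale g] (w : W),
      (fun (U : Scheme.{u}) (u : ↥U) => FlatMor.localDim ↥U u = d) W w ↔
      (fun (U : Scheme.{u}) (u : ↥U) => FlatMor.localDim ↥U u = d) U (g w) := by
    intro W U g _ w
    show FlatMor.localDim _ _ = d ↔ FlatMor.localDim _ _ = d
    rw [Groth.Agent.Lib.Helper6.EtDim.localDim_eq_of_etale g w]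
  have hv : AlgSp.Points.ofPt φ (I.subschemeι z) = AlgSp.Points.map i.hom x := by
    rw [← hz, AlgSp.Points.map_ofPt, sq.w]
    exact (Groth.Agent.S10176.ofPt_map_comp
      (Over.homMk I.subschemeι rfl : Over.mk (I.subschemeι ≫ V.hom) ⟶ V) φ z).symm
  have hdV : FlatMor.localDim ↥V.left (I.subschemeι z) = d :=
    (Groth.Agent.Lib.H5bEtLocal.hasAt_iff_forall _ hQ X.property _).1 hd V φ _ hφ hv
  exact ⟨_, fst, z, hfst, hz, localDim_subscheme_lt I hI z d hdV hfin⟩

end Groth.Agent.S10794
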