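import Groth.Statements.S10795
import Mathlib
import Groth.Agent.S10855
import Groth.Agent.Lib.H5bFibCrit

set_option autoImplicit false
universe u
open CategoryTheory CategoryTheory.Limits AlgebraicGeometry Topology TopologicalSpace
open AlgSp

namespace Groth.Agent.S10795

/-- For algebraic spaces X and Y over a scheme S, a flat morphism f : X ⟶ Y and an effective Cartier
divisor D ⟶ Y (one-chart sense), the inverse image of D under f is an effective Cartier divisor on
X: for every pullback square of D ⟶ Y along f, the projection to X is an effective Cartier divisor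
(one-chart sense). -/
theorem result {S : Scheme.{u}} (X Y D P : AlgSp.Space S) (f : X ⟶ Y)
    (hf : AlgSp.LocP @Flat f.hom) (i : D ⟶ Y) (hD : AlgSp.IsEffCartierSub i.hom)
    (fst : P ⟶ D) (snd : P ⟶ X) (hP : IsPullback fst.hom snd.hom i.hom f.hom) :
    AlgSp.IsEffCartierSub snd.hom := by
  obtain ⟨hcl, V, φ, I, fstD, hφe, hφs, sqD, hI⟩ := hD
  obtain ⟨UX, p, hpe, hps⟩ := X.property.atlas
  obtain ⟨W, sndW, fst', sq⟩ := hφe.1 (p ≫ f.hom)
  obtain ⟨h, rfl⟩ := (AlgSp.yon S).map_surjective fst'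
  have hsndE : Etale sndW.left := hφe.2 _ _ sndW sq
  have hsndS : Surjective sndW.left := hφs.2 _ _ sndW sq
  let φ' : (AlgSp.yon S).obj W ⟶ X.obj := (AlgSp.yon S).map sndW ≫ p
  have hφ'e : AlgSp.RepWith @Etale φ' :=
    (AlgSp.repWith_isMultiplicative (S := S) @Etale).comp_mem _ _
      ((AlgSp.repWith_yon_map_iff _ _).2 hsndE) hpe
  have hφ's : AlgSp.RepWith @Surjective φ' :=
    (AlgSp.repWith_isMultiplicative (S := S) @Surjective).comp_mem _ _
      ((AlgSp.repWith_yon_map_iff _ _).2 hsndS) hps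
  have hcomm : φ' ≫ f.hom = (AlgSp.yon S).map h ≫ φ := by
    rw [Category.assoc]; exact sq.w.symm
  haveI hflat : Flat h.left := hf φ' φ h hφ'e hφe hcomm
  have hI' : BlowUp.IsEffCartierIdeal (I.comap h.left) := Groth.Agent.S10855.result h.left I hI
  refine ⟨(AlgSp.repWith_isStableUnderBaseChange (S := S) @IsClosedImmersion).of_isPullback hP hcl,
    W, φ', I.comap h.left, ?_⟩
  -- scheme-level pullback
  let Zf : (I.comap h.left).subscheme ⟶ I.subscheme :=
    (I.comapIso h.left).hom ≫ pullback.snd h.left I.subschemeι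
  have hZf : (I.comap h.left).subschemeι ≫ h.left = Zf ≫ I.subschemeι := by
    change _ = ((I.comapIso h.left).hom ≫ pullback.snd h.left I.subschemeι) ≫ I.subschemeι
    rw [Category.assoc, ← pullback.condition, ← Category.assoc,
      Scheme.IdealSheafData.comapIso_hom_fst]
  have sqSch : IsPullback (I.comap h.left).subschemeι Zf h.left I.subschemeι :=
    AlgebraicGeometry.isPullback_of_isClosedImmersion _ _ Zf h.left hZf
      (by rw [Scheme.IdealSheafData.ker_subschemeι, Scheme.IdealSheafData.ker_subschemeι])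
  let ZI : Over S := Over.mk (I.subschemeι ≫ V.hom)
  let ZI' : Over S := Over.mk ((I.comap h.left).subschemeι ≫ W.hom)
  let ιI : ZI ⟶ V := Over.homMk I.subschemeι rfl
  let ιI' : ZI' ⟶ W := Over.homMk (I.comap h.left).subschemeι rfl
  let k : ZI' ⟶ ZI := Over.homMk Zf (by
    change Zf ≫ I.subschemeι ≫ V.hom = (I.comap h.left).subschemeι ≫ W.hom
    rw [← Category.assoc, ← hZf, Category.assoc, Over.w h])
  have hw : ιI' ≫ h = k ≫ ιI := by
    ext
    exact hZf
  have sqY : IsPullback ((AlgSp.yon S).map ιI') ((AlgSp.yon S).map k) ((AlgSp.yon S).map h)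
      ((AlgSp.yon S).map ιI) :=
    Groth.Agent.Lib.H5bFibCrit.isPullback_yon_of_left ιI' k h ιI hw sqSch
  have big : IsPullback ((AlgSp.yon S).map k ≫ fstD) ((AlgSp.yon S).map ιI') i.hom
      ((AlgSp.yon S).map h ≫ φ) :=
    sqY.flip.paste_horiz sqD
  have hlift : ((AlgSp.yon S).map k ≫ fstD) ≫ i.hom =
      ((AlgSp.yon S).map ιI' ≫ φ') ≫ f.hom := by
    rw [big.w, Category.assoc, hcomm]
  let fst'' : (AlgSp.yon S).obj ZI' ⟶ P.obj := hP.lift _ _ hlift
  have h1 : fst'' ≫ fst.hom = (AlgSp.yon S).map k ≫ fstD := hP.lift_fst _ _ _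
  have h2 : fst'' ≫ snd.hom = (AlgSp.yon S).map ιI' ≫ φ' := hP.lift_snd _ _ _
  have big' : IsPullback (fst'' ≫ fst.hom) ((AlgSp.yon S).map ιI') i.hom (φ' ≫ f.hom) := by
    rw [h1, hcomm]; exact big
  exact ⟨fst'', hφ'e, hφ's, IsPullback.of_right big' h2 hP, hI'⟩

end Groth.Agent.S10795
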