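import Groth.Statements.S10796
import Mathlib
import Groth.Agent.Lib.Helper8WeakAssCartier
import Groth.Agent.Lib.Helper8EffCartier
import Groth.Agent.Lib.Helper8CutOut
import Groth.Agent.Lib.Helper8AffCompl
import Groth.Agent.S10176
import Groth.Agent.Lib.Helper2QCoh

set_option autoImplicit false
universe u
open CategoryTheory CategoryTheory.Limits AlgebraicGeometry Topology TopologicalSpace
open AlgSp

namespace Groth.Agent.S10796

/-- For algebraic spaces X and Y over a scheme S, a morphism f : X ⟶ Y and an effective Cartier divisor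
D ⟶ Y (one-chart sense), assume that no weakly associated point of X (weakly associated point of the
structure sheaf O_X on the small etale site of X) is mapped into |D|. Then the inverse image of D
under f is an effective Cartier divisor on X: for every pullback square of D ⟶ Y along f, the
projection to X is an effective Cartier divisor (one-chart sense). -/
theorem result {S : Scheme.{u}} (X Y D P : AlgSp.Space S) (f : X ⟶ Y)
    (i : D ⟶ Y) (hD : AlgSp.IsEffCartierSub i.hom) [(AlgSp.unitModEt X.obj).IsQuasicoherent]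
    (h : ∀ x ∈ AlgSp.WeakAssEt (AlgSp.unitModEt X.obj),
      AlgSp.Points.map f.hom x ∉ Set.range (AlgSp.Points.map i.hom))
    (fst : P ⟶ D) (snd : P ⟶ X) (hP : IsPullback fst.hom snd.hom i.hom f.hom) :
    AlgSp.IsEffCartierSub snd.hom := by
  classical
  obtain ⟨hcl, V, φ, I, fstD, hφe, hφs, sqD, hI⟩ := hD
  obtain ⟨UX, p, hpe, hps⟩ := X.property.atlas
  obtain ⟨W, sndW, fst', sq⟩ := hφe.1 (p ≫ f.hom)
  obtain ⟨hh, rfl⟩ := (AlgSp.yon S).map_surjective fst'
  have hsndE : Etale sndW.left := hφe.2 _ _ sndW sq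
  have hsndS : Surjective sndW.left := hφs.2 _ _ sndW sq
  let φ' : (AlgSp.yon S).obj W ⟶ X.obj := (AlgSp.yon S).map sndW ≫ p
  have hφ'e : AlgSp.RepWith @Etale φ' :=
    (AlgSp.repWith_isMultiplicative (S := S) @Etale).comp_mem _ _
      ((AlgSp.repWith_yon_map_iff _ _).2 hsndE) hpe
  have hφ's : AlgSp.RepWith @Surjective φ' :=
    (AlgSp.repWith_isMultiplicative (S := S) @Surjective).comp_mem _ _
      ((AlgSp.repWith_yon_map_iff _ _).2 hsndS) hps
  have hcomm : φ' ≫ f.hom = (AlgSp.yon S).map hh ≫ φ := by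
    rw [Category.assoc]; exact sq.w.symm
  obtain ⟨fst'', sq'', -⟩ :=
    Groth.Agent.Lib.Helper8EffCartier.exists_isPullback_comap hP I sqD φ' hh hcomm
  refine ⟨(AlgSp.repWith_isStableUnderBaseChange (S := S) @IsClosedImmersion).of_isPullback hP hcl,
    W, φ', I.comap hh.left, fst'', hφ'e, hφ's, sq'', ?_⟩
  apply Groth.Agent.Lib.Helper8WeakAssCartier.isEffCartierIdeal_comap_of_exists hh.left I hI
  intro U hU β y hy hy0
  let E : AlgSp.EtOver X.obj := Groth.Agent.Lib.Helper8CutOut.chartOpen φ' hφ'e U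
  have hEaff : IsAffine E.obj.left.left := hU
  haveI := hEaff
  have hT : IsAffineOpen (⊤ : E.obj.left.left.Opens) := isAffineOpen_top E.obj.left.left
  let y' : Γ(E.obj.left.left, ⊤) := U.topIso.inv y
  let β' : Γ(E.obj.left.left, ⊤) := U.topIso.inv β
  have hy' : β' * y' = 0 := by
    change U.topIso.inv β * U.topIso.inv y = 0
    rw [← map_mul, mul_comm, hy, map_zero]
  have hy'0 : y' ≠ 0 := by
    intro h0
    apply hy0
    exact (ConcreteCategory.bijective_of_isIso U.topIso.inv).1 (h0.trans (map_zero _).symm)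
  have hann : ∀ (s : AlgSp.sectModEt (AlgSp.unitModEt X.obj) E) (b : Γ(E.obj.left.left, ⊤)),
      b ∈ AlgSp.annSect s ↔ b * (show ULift.{u + 1} Γ(E.obj.left.left, ⊤) from s).down = 0 := by
    intro s b
    rw [AlgSp.mem_annSect_iff]
    constructor
    · intro h
      exact congrArg (fun z : ULift.{u + 1} Γ(E.obj.left.left, ⊤) => z.down) h
    · intro h
      exact ULift.ext _ _ h
  let s : AlgSp.sectModEt (AlgSp.unitModEt X.obj) E := AlgSp.upΓ E y'
  have hs : ∀ b, b ∈ AlgSp.annSect s ↔ b * y' = 0 := fun b => hann s b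
  have hne : AlgSp.annSect s ≠ ⊤ := by
    intro htop
    have h1 : (1 : Γ(E.obj.left.left, ⊤)) ∈ AlgSp.annSect s := by rw [htop]; trivial
    rw [hs, one_mul] at h1
    exact hy'0 h1
  obtain ⟨⟨p', hp'⟩⟩ := Ideal.nonempty_minimalPrimes hne
  haveI hp'prime : p'.IsPrime := hp'.1.1
  let P' : PrimeSpectrum Γ(E.obj.left.left, ⊤) := ⟨p', hp'prime⟩
  let u : E.obj.left.left := hT.fromSpec P'
  have hprime : AlgSp.primeAtPt E.obj.left.left u = p' := by
    have h1 : (hT.primeIdealOf ⟨u, trivial⟩).asIdeal = AlgSp.primeAtPt E.obj.left.left u :=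
      congrArg PrimeSpectrum.asIdeal (hT.primeIdealOf_eq_map_closedPoint ⟨u, trivial⟩)
    rw [← h1]
    exact congrArg PrimeSpectrum.asIdeal (Groth.Agent.Lib.Helper2.QCoh.primeIdealOf_fromSpec hT P')
  have hwa : AlgSp.Points.ofPt E.obj.hom u ∈ AlgSp.WeakAssEt (AlgSp.unitModEt X.obj) :=
    ⟨E, hEaff, u, rfl, s, by rw [hprime]; exact hp'⟩
  have havoid := h _ hwa
  have hβp : β' ∈ p' := hp'.1.2 ((hs β').2 hy')
  have hu_notin : u ∉ E.obj.left.left.basicOpen β' := by
    intro hmem
    exact ((Groth.Agent.Lib.Helper2.QCoh.mem_basicOpen_fromSpec_iff hT P' β').1 hmem) hβp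
  let jU : Over.mk (U.ι ≫ W.hom) ⟶ W := Over.homMk U.ι rfl
  refine ⟨U.ι u, ?_, ?_, ?_⟩
  · have : U.ι u ∈ Set.range U.ι := ⟨u, rfl⟩
    rwa [Scheme.Opens.range_ι] at this
  · intro hξβ
    apply hu_notin
    have h1 : U.ι u ∈ U.ι ''ᵁ U.toScheme.basicOpen (U.topIso.inv β) := by
      rw [Scheme.Opens.ι_image_basicOpen_topIso_inv]; exact hξβ
    exact (Scheme.Hom.apply_mem_image_iff U.ι).1 h1
  · intro hsup
    apply havoid
    rw [AlgSp.Points.map_ofPt]
    have hE : E.obj.hom ≫ f.hom = (AlgSp.yon S).map jU ≫ (AlgSp.yon S).map hh ≫ φ := by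
      change ((AlgSp.yon S).map jU ≫ φ') ≫ f.hom = _
      rw [Category.assoc, hcomm]
    have e1 : AlgSp.Points.ofPt (E.obj.hom ≫ f.hom) u = AlgSp.Points.ofPt φ (hh.left (U.ι u)) := by
      rw [hE]
      exact (Groth.Agent.S10176.ofPt_map_comp jU _ u).trans
        (Groth.Agent.S10176.ofPt_map_comp hh φ (jU.left u))
    rw [e1]
    apply (Groth.Agent.Lib.Helper8AffCompl.mem_range_iff sqD _).1
    change hh.left (U.ι u) ∈ Set.range I.subschemeι
    rw [Scheme.IdealSheafData.range_subschemeι]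
    exact hsup

end Groth.Agent.S10796
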