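import Groth.Statements.S10797
import Mathlib
import Groth.Agent.Lib.Helper8EffCartier
import Groth.Agent.S10855
import Groth.Agent.S1662

set_option autoImplicit false
universe u
open CategoryTheory CategoryTheory.Limits AlgebraicGeometry Topology TopologicalSpace
open AlgSp

namespace Groth.Agent.S10797

/-- Let f : X ⟶ Y be a morphism of algebraic spaces over a scheme S and D ⟶ X an effective Cartier
divisor (one-chart sense) such that the composite D ⟶ Y is flat. Then for every morphism g : Y' ⟶ Y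
and every pullback square exhibiting X' as Y' ×_Y X with projection g' : X' ⟶ X, the inverse image
of D under g' (the projection to X' from any pullback of D ⟶ X along g') is an effective Cartier
divisor on X'. (The published statement takes g to be a morphism from a scheme Y'; this row allows
Y' to be an algebraic space, to which the same etale-local reduction to schemes applies.) -/
theorem result {S : Scheme.{u}} (X Y D Y' X' D' : AlgSp.Space S)
    (f : X ⟶ Y) (i : D ⟶ X) (hD : AlgSp.IsEffCartierSub i.hom) (hflat : AlgSp.LocP @Flat (i ≫ f).hom)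
    (g : Y' ⟶ Y) (g' : X' ⟶ X) (f' : X' ⟶ Y') (hX' : IsPullback g'.hom f'.hom f.hom g.hom)
    (k : D' ⟶ D) (i' : D' ⟶ X') (hD' : IsPullback k.hom i'.hom i.hom g'.hom) :
    AlgSp.IsEffCartierSub i'.hom := by
  obtain ⟨hcl, V, φ, I, fstD, hφe, hφs, sqD, hI⟩ := hD
  obtain ⟨T, q, hqe, hqs⟩ := Y.property.atlas
  obtain ⟨T', q', hq'e, hq's⟩ := Y'.property.atlas
  -- T'' = T' ×_Y T
  obtain ⟨T'', c, d', sq₂⟩ := hqe.1 (q' ≫ g.hom)
  obtain ⟨d, rfl⟩ := (AlgSp.yon S).map_surjective d'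
  have hcE : Etale c.left := hqe.2 _ _ c sq₂
  have hcS : Surjective c.left := hqs.2 _ _ c sq₂
  have hq''e : AlgSp.RepWith @Etale ((AlgSp.yon S).map c ≫ q') :=
    (AlgSp.repWith_isMultiplicative (S := S) @Etale).comp_mem _ _
      ((AlgSp.repWith_yon_map_iff _ _).2 hcE) hq'e
  have hq''s : AlgSp.RepWith @Surjective ((AlgSp.yon S).map c ≫ q') :=
    (AlgSp.repWith_isMultiplicative (S := S) @Surjective).comp_mem _ _
      ((AlgSp.repWith_yon_map_iff _ _).2 hcS) hq's
  have hq''g : ((AlgSp.yon S).map c ≫ q') ≫ g.hom = (AlgSp.yon S).map d ≫ q := by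
    rw [Category.assoc]; exact sq₂.w.symm
  -- V₁ = V ×_Y T
  obtain ⟨V₁, a, b', sq₁⟩ := hqe.1 (φ ≫ f.hom)
  obtain ⟨b, rfl⟩ := (AlgSp.yon S).map_surjective b'
  haveI haE : Etale a.left := hqe.2 _ _ a sq₁
  -- E = V₁ ×_T T''
  let E : Over S := Over.mk (pullback.fst b.left d.left ≫ V₁.hom)
  let e₁ : E ⟶ V₁ := Over.homMk (pullback.fst b.left d.left) rfl
  let e₂ : E ⟶ T'' := Over.homMk (pullback.snd b.left d.left) (by
    change pullback.snd b.left d.left ≫ T''.hom = pullback.fst b.left d.left ≫ V₁.hom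
    rw [← Over.w d, ← Over.w b, ← Category.assoc, ← Category.assoc, pullback.condition])
  have hwE : e₁ ≫ b = e₂ ≫ d := by
    ext
    exact pullback.condition
  have sqE : IsPullback ((AlgSp.yon S).map e₁) ((AlgSp.yon S).map e₂) ((AlgSp.yon S).map b)
      ((AlgSp.yon S).map d) :=
    Groth.Agent.Lib.H5bFibCrit.isPullback_yon_of_left e₁ e₂ b d hwE
      (IsPullback.of_hasPullback b.left d.left)
  have outer : IsPullback ((AlgSp.yon S).map e₁ ≫ (AlgSp.yon S).map a) ((AlgSp.yon S).map e₂)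
      (φ ≫ f.hom) ((AlgSp.yon S).map d ≫ q) :=
    sqE.paste_horiz sq₁.flip
  have hψ : (((AlgSp.yon S).map e₁ ≫ (AlgSp.yon S).map a) ≫ φ) ≫ f.hom =
      ((AlgSp.yon S).map e₂ ≫ ((AlgSp.yon S).map c ≫ q')) ≫ g.hom := by
    rw [Category.assoc, outer.w, Category.assoc ((AlgSp.yon S).map e₂), hq''g]
  have hψ1 : hX'.lift _ _ hψ ≫ g'.hom = ((AlgSp.yon S).map e₁ ≫ (AlgSp.yon S).map a) ≫ φ :=
    hX'.lift_fst _ _ _
  have hψ2 : hX'.lift _ _ hψ ≫ f'.hom = (AlgSp.yon S).map e₂ ≫ ((AlgSp.yon S).map c ≫ q') :=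
    hX'.lift_snd _ _ _
  -- P₁ = X' ×_{Y'} T''
  have sqP : IsPullback (pullback.fst f'.hom ((AlgSp.yon S).map c ≫ q'))
      (pullback.snd f'.hom ((AlgSp.yon S).map c ≫ q')) f'.hom ((AlgSp.yon S).map c ≫ q') :=
    IsPullback.of_hasPullback _ _
  have hπ₁e : AlgSp.RepWith @Etale (pullback.fst f'.hom ((AlgSp.yon S).map c ≫ q')) :=
    (AlgSp.repWith_isStableUnderBaseChange (S := S) @Etale).of_isPullback sqP.flip hq''e
  have hπ₁s : AlgSp.RepWith @Surjective (pullback.fst f'.hom ((AlgSp.yon S).map c ≫ q')) :=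
    (AlgSp.repWith_isStableUnderBaseChange (S := S) @Surjective).of_isPullback sqP.flip hq''s
  have hψ₁1 : pullback.lift (hX'.lift _ _ hψ) ((AlgSp.yon S).map e₂) hψ2 ≫
      pullback.fst f'.hom ((AlgSp.yon S).map c ≫ q') = hX'.lift _ _ hψ := pullback.lift_fst _ _ _
  have hψ₁2 : pullback.lift (hX'.lift _ _ hψ) ((AlgSp.yon S).map e₂) hψ2 ≫
      pullback.snd f'.hom ((AlgSp.yon S).map c ≫ q') = (AlgSp.yon S).map e₂ :=
    pullback.lift_snd _ _ _
  have bot : IsPullback (pullback.fst f'.hom ((AlgSp.yon S).map c ≫ q') ≫ g'.hom)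
      (pullback.snd f'.hom ((AlgSp.yon S).map c ≫ q')) f.hom
      (((AlgSp.yon S).map c ≫ q') ≫ g.hom) := sqP.paste_horiz hX'
  have outer' : IsPullback ((AlgSp.yon S).map e₁ ≫ (AlgSp.yon S).map a)
      (pullback.lift (hX'.lift _ _ hψ) ((AlgSp.yon S).map e₂) hψ2 ≫
        pullback.snd f'.hom ((AlgSp.yon S).map c ≫ q')) (φ ≫ f.hom)
      (((AlgSp.yon S).map c ≫ q') ≫ g.hom) := by
    rw [hψ₁2, hq''g]; exact outer
  have top : IsPullback ((AlgSp.yon S).map e₁ ≫ (AlgSp.yon S).map a)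
      (pullback.lift (hX'.lift _ _ hψ) ((AlgSp.yon S).map e₂) hψ2) φ
      (pullback.fst f'.hom ((AlgSp.yon S).map c ≫ q') ≫ g'.hom) :=
    IsPullback.of_bot outer' (by rw [← Category.assoc, hψ₁1, hψ1]) bot
  have hψ₁e : AlgSp.RepWith @Etale (pullback.lift (hX'.lift _ _ hψ) ((AlgSp.yon S).map e₂) hψ2) :=
    (AlgSp.repWith_isStableUnderBaseChange (S := S) @Etale).of_isPullback top hφe
  have hψ₁s : AlgSp.RepWith @Surjective
      (pullback.lift (hX'.lift _ _ hψ) ((AlgSp.yon S).map e₂) hψ2) :=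
    (AlgSp.repWith_isStableUnderBaseChange (S := S) @Surjective).of_isPullback top hφs
  have hψe : AlgSp.RepWith @Etale (hX'.lift _ _ hψ) := by
    rw [← hψ₁1]
    exact (AlgSp.repWith_isMultiplicative (S := S) @Etale).comp_mem _ _ hψ₁e hπ₁e
  have hψs : AlgSp.RepWith @Surjective (hX'.lift _ _ hψ) := by
    rw [← hψ₁1]
    exact (AlgSp.repWith_isMultiplicative (S := S) @Surjective).comp_mem _ _ hψ₁s hπ₁s
  -- the chart morphism E ⟶ V
  have hcomm : hX'.lift _ _ hψ ≫ g'.hom = (AlgSp.yon S).map (e₁ ≫ a) ≫ φ := by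
    rw [hψ1, Functor.map_comp]
  obtain ⟨fst'', sq'', -⟩ :=
    Groth.Agent.Lib.Helper8EffCartier.exists_isPullback_comap hD' I sqD (hX'.lift _ _ hψ)
      (e₁ ≫ a) hcomm
  refine ⟨(AlgSp.repWith_isStableUnderBaseChange (S := S) @IsClosedImmersion).of_isPullback hD' hcl,
    E, hX'.lift _ _ hψ, I.comap (e₁ ≫ a).left, fst'', hψe, hψs, sq'', ?_⟩
  -- effective Cartier on E via S1662
  have hI₁ : BlowUp.IsEffCartierIdeal (I.comap a.left) := Groth.Agent.S10855.result a.left I hI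
  have hfstD : AlgSp.RepWith @Etale fstD :=
    (AlgSp.repWith_isStableUnderBaseChange (S := S) @Etale).of_isPullback sqD.flip hφe
  have hk₁ : AlgSp.RepWith @Etale
      ((AlgSp.yon S).map (Groth.Agent.Lib.Helper8EffCartier.comapMap I a)) :=
    (AlgSp.repWith_yon_map_iff _ _).2
      (Groth.Agent.Lib.Helper8EffCartier.etale_comapMapSch I a.left)
  have hα : AlgSp.RepWith @Etale
      ((AlgSp.yon S).map (Groth.Agent.Lib.Helper8EffCartier.comapMap I a) ≫ fstD) :=
    (AlgSp.repWith_isMultiplicative (S := S) @Etale).comp_mem _ _ hk₁ hfstD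
  have hcommα : ((AlgSp.yon S).map (Groth.Agent.Lib.Helper8EffCartier.comapMap I a) ≫ fstD) ≫
      (i ≫ f).hom = (AlgSp.yon S).map ((Over.homMk (I.comap a.left).subschemeι rfl :
        Over.mk ((I.comap a.left).subschemeι ≫ V₁.hom) ⟶ V₁) ≫ b) ≫ q := by
    change ((AlgSp.yon S).map (Groth.Agent.Lib.Helper8EffCartier.comapMap I a) ≫ fstD) ≫
      i.hom ≫ f.hom = _
    rw [Category.assoc, ← Category.assoc fstD, sqD.w, Category.assoc, ← Category.assoc,
      ← Functor.map_comp, ← Groth.Agent.Lib.Helper8EffCartier.comapMap_comm I a,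
      Functor.map_comp, Functor.map_comp, Category.assoc, Category.assoc, sq₁.w]
  haveI hfl : Flat ((I.comap a.left).subschemeι ≫ b.left) :=
    hflat _ q ((Over.homMk (I.comap a.left).subschemeι rfl :
        Over.mk ((I.comap a.left).subschemeι ≫ V₁.hom) ⟶ V₁) ≫ b) hα hqe hcommα
  have hres := Groth.Agent.S1662.result b.left (I.comap a.left) hI₁ d.left
  have hcc : I.comap (e₁ ≫ a).left = (I.comap a.left).comap (pullback.fst b.left d.left) := by
    change I.comap (pullback.fst b.left d.left ≫ a.left) = _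
    rw [Scheme.IdealSheafData.comap_comp]
  rw [hcc]
  exact hres

end Groth.Agent.S10797
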