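import Groth.Statements.S1685
import Mathlib
import Groth.Agent.Lib.Helper5RegImm
import Groth.Agent.Lib.Helper28SkLift
import Groth.Agent.Lib.Helper28Normal

set_option autoImplicit false
universe u
open CategoryTheory CategoryTheory.Limits AlgebraicGeometry TopologicalSpace
open SDiv

namespace Groth.Agent.S1685

/-- Let X be a locally Noetherian scheme all of whose local rings satisfy Serre's condition (S_k), and
let D be the closed subscheme of an effective Cartier divisor. Then all local rings of D satisfy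
(S_{k-1}). -/
theorem result (X : Scheme.{u}) [IsLocallyNoetherian X] (k : ℕ)
    (hX : ∀ x : ↥X, min (k : WithBot ℕ∞) (ringKrullDim (X.presheaf.stalk x)) ≤
      ((LocCoh.depth (X.presheaf.stalk x) (X.presheaf.stalk x) : ℕ∞) : WithBot ℕ∞))
    (𝓘 : X.IdealSheafData) (h𝓘 : BlowUp.IsEffCartierIdeal 𝓘) (d : ↥𝓘.subscheme) :
    min ((k - 1 : ℕ) : WithBot ℕ∞) (ringKrullDim (𝓘.subscheme.presheaf.stalk d)) ≤
      ((LocCoh.depth (𝓘.subscheme.presheaf.stalk d) (𝓘.subscheme.presheaf.stalk d) : ℕ∞) : WithBot ℕ∞) := by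
  classical
  have cancel : ∀ (a : WithBot ℕ∞) (b : ℕ∞), a + 1 ≤ (b : WithBot ℕ∞) + 1 → a ≤ (b : WithBot ℕ∞) := by
    intro a b h
    induction a using WithBot.recBotCoe with
    | bot => exact bot_le
    | coe a =>
      have h' : ((a + 1 : ℕ∞) : WithBot ℕ∞) ≤ ((b + 1 : ℕ∞) : WithBot ℕ∞) := by
        simpa only [WithBot.coe_add, WithBot.coe_one] using h
      rw [WithBot.coe_le_coe] at h' ⊢
      exact (ENat.add_le_add_iff_right ENat.one_ne_top).mp h'
  obtain ⟨U, hxU, f, hf, hIU⟩ := h𝓘 (𝓘.subschemeι d)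
  have hk := Groth.Agent.Lib.Helper5.RegImm.ker_stalkMap_eq_map_ker 𝓘.subschemeι d U.1 U.2 hxU
  have hk' : RingHom.ker (𝓘.subschemeι.stalkMap d).hom =
      Ideal.span {(X.presheaf.germ U.1 (𝓘.subschemeι d) hxU).hom f} := by
    rw [hk]
    have hUU : 𝓘.subschemeι.ker.ideal ⟨U.1, U.2⟩ = Ideal.span {f} := by
      rw [𝓘.ker_subschemeι]; exact hIU
    rw [hUU, Ideal.map_span, Set.image_singleton]
  have ht : (X.presheaf.germ U.1 (𝓘.subschemeι d) hxU).hom f ∈
      nonZeroDivisors (X.presheaf.stalk (𝓘.subschemeι d)) := by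
    letI := (X.presheaf.germ U.1 (𝓘.subschemeι d) hxU).hom.toAlgebra
    haveI : IsLocalization.AtPrime (X.presheaf.stalk (𝓘.subschemeι d))
        (U.2.primeIdealOf ⟨𝓘.subschemeι d, hxU⟩).asIdeal :=
      U.2.isLocalization_stalk ⟨𝓘.subschemeι d, hxU⟩
    exact IsLocalization.map_nonZeroDivisors_le
      (U.2.primeIdealOf ⟨𝓘.subschemeι d, hxU⟩).asIdeal.primeCompl _ (Submonoid.mem_map_of_mem _ hf)
  generalize (X.presheaf.germ U.1 (𝓘.subschemeι d) hxU).hom f = t at hk' ht
  have htm : t ∈ IsLocalRing.maximalIdeal (X.presheaf.stalk (𝓘.subschemeι d)) := by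
    have h0 : (𝓘.subschemeι.stalkMap d).hom t = 0 := by
      rw [← RingHom.mem_ker, hk']; exact Ideal.mem_span_singleton_self t
    rw [IsLocalRing.mem_maximalIdeal, mem_nonunits_iff]
    intro hu
    have := hu.map (𝓘.subschemeι.stalkMap d).hom
    rw [h0] at this
    exact not_isUnit_zero this
  have hsurj : Function.Surjective (𝓘.subschemeι.stalkMap d).hom :=
    𝓘.subschemeι.stalkMap_surjective d
  let e : (X.presheaf.stalk (𝓘.subschemeι d) ⧸ Ideal.span {t}) ≃+* 𝓘.subscheme.presheaf.stalk d :=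
    (Ideal.quotEquivOfEq hk'.symm).trans (RingHom.quotientKerEquivOfSurjective hsurj)
  haveI : IsLocalRing (X.presheaf.stalk (𝓘.subschemeι d) ⧸ Ideal.span {t}) := e.symm.isLocalRing
  haveI : IsNoetherianRing (𝓘.subscheme.presheaf.stalk d) := isNoetherianRing_of_ringEquiv _ e
  have hreg : IsSMulRegular (X.presheaf.stalk (𝓘.subschemeι d)) t :=
    (isRegular_iff_mem_nonZeroDivisors.mpr ht).left.isSMulRegular
  have h1 := Groth.Agent.Lib.Helper28.depth_quotient_span_singleton_add_one t htm hreg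
  have h2 := ringKrullDim_quotient_span_singleton_succ_eq_ringKrullDim hreg htm
  have h3 := Groth.Agent.Lib.Helper28.depth_self_eq_of_ringEquiv e
  have h4 := ringKrullDim_eq_of_ringEquiv e
  rw [← h3, ← h4]
  have hXx := hX (𝓘.subschemeι d)
  rw [← h1, ← h2] at hXx
  obtain _ | m := k
  · refine (min_le_left _ _).trans ?_
    simp only [Nat.zero_sub, Nat.cast_zero]
    exact WithBot.coe_le_coe.mpr (zero_le (a := LocCoh.depth _ _))
  · apply cancel
    have h5 : ((m + 1 - 1 : ℕ) : WithBot ℕ∞) = (m : WithBot ℕ∞) := by simp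
    rw [h5, ← min_add_add_right]
    simpa only [Nat.cast_add, Nat.cast_one, WithBot.coe_add, WithBot.coe_one] using hXx

end Groth.Agent.S1685
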