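import Groth.Statements.S10802
import Mathlib
import Groth.Agent.S9874
import Groth.Agent.Lib.Helper12LocPCases

set_option autoImplicit false
universe u
open CategoryTheory CategoryTheory.Limits AlgebraicGeometry Topology TopologicalSpace
open AlgSp

namespace Groth.Agent.S10802

/-- For algebraic spaces X and Y over a scheme S and a morphism f : X ⟶ Y which is locally of finite
type, every fibre of f over a field-valued point of Y is a locally Noetherian algebraic space: for
every field k and every point p : Spec k ⟶ Y, the fibre X_p = Spec k ×_Y X (any pullback of f along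
the morphism of p) admits a representable etale surjective chart from a locally Noetherian scheme. -/
theorem result {S : Scheme.{u}} (X Y : AlgSp.Space S) (f : X ⟶ Y)
    (hf : AlgSp.LocP @LocallyOfFiniteType f.hom) (p : AlgSp.FieldPt Y.obj)
    {P : AlgSp.Sp S} (fst : P ⟶ X.obj) (snd : P ⟶ (AlgSp.yon S).obj p.pt) (hP : IsPullback fst snd f.hom p.toHom) :
    AlgSp.IsLocNoethSp P := by
  have hPalg : AlgSp.IsAlgSpace P :=
    Groth.Agent.S9874.isAlgSpace_of_isPullback Y.property.diag X.property
      (AlgSp.IsAlgSpace.yon_obj p.pt) hP
  have hsnd : AlgSp.LocP @LocallyOfFiniteType snd :=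
    Groth.Agent.Lib.Helper12.LocPCases.good_lft.locP_baseChange X.property Y.property
      (AlgSp.IsAlgSpace.yon_obj p.pt) hP hf
  obtain ⟨T, t, hte, hts⟩ := hPalg.atlas
  obtain ⟨h, hh⟩ := (AlgSp.yon S).map_surjective (t ≫ snd)
  have hlft : LocallyOfFiniteType h.left :=
    hsnd t (𝟙 _) h hte (AlgSp.repWith_id _ _) (by rw [hh, Category.comp_id])
  refine ⟨T, t, hte, hts, ?_⟩
  have : IsLocallyNoetherian p.pt.left :=
    show IsLocallyNoetherian (Spec (CommRingCat.of p.K)) from inferInstance
  exact LocallyOfFiniteType.isLocallyNoetherian h.left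

end Groth.Agent.S10802
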