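import Groth.Statements.S10803
import Mathlib
import Groth.Agent.Lib.H5bNoethFib2
import Groth.Agent.Lib.H5bIntDimSp
import Groth.Agent.Lib.H5bEtField
import Groth.Agent.Lib.H5bUBF

set_option autoImplicit false
set_option linter.style.haveILetI false
universe u
open CategoryTheory CategoryTheory.Limits AlgebraicGeometry Topology TopologicalSpace
open AlgSp

namespace Groth.Agent.S10803

open AlgSp

/-- (3) ⇒ (2) (with (2) ⇒ (1) ⇒ (3) immediate, this gives the equivalence of the three conditions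
defining a locally Noetherian fibre over y): take a morphism f : X ⟶ Y of algebraic spaces over a
scheme S and a point y of |Y|. Suppose that for some field k and some point p : Spec k ⟶ Y
representing y the fibre X_p (any pullback of f along the morphism of p) is locally Noetherian. Then
for every scheme V, every representable etale h_V ⟶ Y and every point v of V mapping to y, the fibre
X_v = Spec κ(v) ×_Y X is locally Noetherian. -/
theorem result {S : Scheme.{u}} (X Y : AlgSp.Space S) (f : X ⟶ Y)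
    (y : AlgSp.Points Y.obj) (p : AlgSp.FieldPt Y.obj) (hp : AlgSp.Points.mk p = y)
    (hNoeth : ∀ ⦃P : AlgSp.Sp S⦄ (fst : P ⟶ X.obj) (snd : P ⟶ (AlgSp.yon S).obj p.pt),
      IsPullback fst snd f.hom p.toHom → AlgSp.IsLocNoethSp P)
    (V : Over S) (b : (AlgSp.yon S).obj V ⟶ Y.obj) (hb : AlgSp.RepWith @Etale b) (v : ↥V.left)
    (hv : AlgSp.Points.ofPt b v = y)
    {Q : AlgSp.Sp S} (qfst : Q ⟶ X.obj) (qsnd : Q ⟶ (AlgSp.yon S).obj (AlgSp.FieldPt.ofPt b v).pt)
    (hQ : IsPullback qfst qsnd f.hom (AlgSp.FieldPt.ofPt b v).toHom) :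
    AlgSp.IsLocNoethSp Q := by
  subst hp
  obtain ⟨E, pE, fstE', sqE⟩ := ((AlgSp.repWith_iff _ _).1 hb).1 p.toHom
  obtain ⟨εV, rfl⟩ := (AlgSp.yon S).map_surjective fstE'
  haveI hpEe : Etale pE.left := ((AlgSp.repWith_iff _ _).1 hb).2 _ _ _ sqE
  have hpt : AlgSp.Points.ofPt p.toHom (IsLocalRing.closedPoint p.K) =
      AlgSp.Points.map b (AlgSp.Points.ofScheme V v) := by
    rw [AlgSp.Points.ofPt_toHom, AlgSp.Points.map_ofPt]
    show _ = AlgSp.Points.ofPt (𝟙 _ ≫ b) v
    rw [Category.id_comp, hv]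
  obtain ⟨ε, hε1, hε2⟩ := Groth.Agent.Lib.H5bIntDimSp.exists_point_of_isPullback_chart sqE
    (AlgSp.Points.ofScheme V v) (IsLocalRing.closedPoint p.K) hpt
  have hεv : εV.left ε = v := by
    have h := congrArg (AlgSp.Points.toScheme V) hε1
    rw [AlgSp.Points.toScheme_ofPt, AlgSp.Points.toScheme_ofScheme] at h
    exact h
  obtain ⟨K', _, ι, hι, hιe, -⟩ :=
    Groth.Agent.Lib.H5bEtField.exists_field_chart (k := p.K) pE.left ε
  have hmv : (ι ≫ εV.left) (IsLocalRing.closedPoint K') = v := by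
    obtain ⟨s, hs⟩ := hι
    have hs' : s = IsLocalRing.closedPoint K' :=
      @Subsingleton.elim (PrimeSpectrum K') inferInstance _ _
    rw [Scheme.Hom.comp_apply, ← hs', hs, hεv]
  subst hmv
  have hr := Groth.Agent.Lib.H5bUBF.fpOf_toHom (ι ≫ E.hom)
    ((AlgSp.yon S).map ((Over.homMk ι rfl : Over.mk (ι ≫ E.hom) ⟶ E) ≫ pE) ≫ p.toHom)
  have hNr : ∀ ⦃P : AlgSp.Sp S⦄ (fst : P ⟶ X.obj)
      (snd : P ⟶ (AlgSp.yon S).obj (Groth.Agent.Lib.H5bUBF.fpOf (ι ≫ E.hom)
        ((AlgSp.yon S).map ((Over.homMk ι rfl : Over.mk (ι ≫ E.hom) ⟶ E) ≫ pE) ≫ p.toHom)).pt),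
      IsPullback fst snd f.hom (Groth.Agent.Lib.H5bUBF.fpOf (ι ≫ E.hom)
        ((AlgSp.yon S).map ((Over.homMk ι rfl : Over.mk (ι ≫ E.hom) ⟶ E) ≫ pE) ≫ p.toHom)).toHom →
        AlgSp.IsLocNoethSp P := by
    intro P fst snd h
    refine Groth.Agent.Lib.H5bNoethFib.isLocNoethSp_fibre_ascent f.hom _ p
      ((Over.homMk ι rfl : Over.mk (ι ≫ E.hom) ⟶ E) ≫ pE) hr.symm ?_ hNoeth fst snd h
    show LocallyOfFiniteType (ι ≫ pE.left)
    infer_instance
  have key := Scheme.descResidueField_stalkClosedPointTo_fromSpecResidueField K' V.left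
    (ι ≫ εV.left)
  have he₂w : Spec.map (V.left.descResidueField (K := K') (Scheme.stalkClosedPointTo (ι ≫ εV.left))) ≫
      (V.left.fromSpecResidueField ((ι ≫ εV.left) (IsLocalRing.closedPoint K')) ≫ V.hom) =
      ι ≫ E.hom := by
    rw [← Category.assoc, key, Category.assoc, Over.w εV]
  refine Groth.Agent.Lib.H5bNoethFib.isLocNoethSp_fibre_descent X.property Y.property f.hom _ _
    (Over.homMk (Spec.map (V.left.descResidueField (K := K')
      (Scheme.stalkClosedPointTo (ι ≫ εV.left)))) he₂w) ?_ hNr qfst qsnd hQ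
  rw [AlgSp.FieldPt.toHom_ofPt, hr, ← Category.assoc, ← Functor.map_comp]
  have h3 : (Over.homMk (Spec.map (V.left.descResidueField (K := K')
        (Scheme.stalkClosedPointTo (ι ≫ εV.left)))) he₂w :
        Over.mk (ι ≫ E.hom) ⟶ Over.mk (V.left.fromSpecResidueField
          ((ι ≫ εV.left) (IsLocalRing.closedPoint K')) ≫ V.hom)) ≫
      (Over.homMk (V.left.fromSpecResidueField ((ι ≫ εV.left) (IsLocalRing.closedPoint K'))) rfl :
        Over.mk (V.left.fromSpecResidueField
          ((ι ≫ εV.left) (IsLocalRing.closedPoint K')) ≫ V.hom) ⟶ V) =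
      (Over.homMk ι rfl : Over.mk (ι ≫ E.hom) ⟶ E) ≫ εV := Over.OverMorphism.ext key
  refine (congrArg (fun t => (AlgSp.yon S).map t ≫ b) h3).trans ?_
  show (AlgSp.yon S).map ((Over.homMk ι rfl : Over.mk (ι ≫ E.hom) ⟶ E) ≫ εV) ≫ b = _
  rw [Functor.map_comp, Category.assoc, sqE.w, ← Category.assoc, ← Functor.map_comp]

end Groth.Agent.S10803
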