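import Groth.Statements.S10804
import Mathlib
import Groth.Agent.Lib.H5bNoethFib
import Groth.Agent.Lib.Helper12ResidualFactor

set_option autoImplicit false
set_option linter.style.haveILetI false
universe u
open CategoryTheory CategoryTheory.Limits AlgebraicGeometry Topology TopologicalSpace
open AlgSp

namespace Groth.Agent.S10804

open AlgSp

/-- (3) ⇒ (4): let f : X ⟶ Y be a morphism of algebraic spaces over a scheme S, and let p : Spec k ⟶ Y
and p₀ : Spec k₀ ⟶ Y be field-valued points defining the same point of |Y|, with h_{Spec k₀} ⟶ Y a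
monomorphism. If the fibre X_p = Spec k ×_Y X (any pullback of f along the morphism of p) is locally
Noetherian, then the fibre X_{p₀} is locally Noetherian. -/
theorem result {S : Scheme.{u}} (X Y : AlgSp.Space S) (f : X ⟶ Y)
    (p p₀ : AlgSp.FieldPt Y.obj) (hpp : AlgSp.Points.mk p = AlgSp.Points.mk p₀) (hmono : Mono p₀.toHom)
    (hNoeth : ∀ ⦃P : AlgSp.Sp S⦄ (fst : P ⟶ X.obj) (snd : P ⟶ (AlgSp.yon S).obj p.pt),
      IsPullback fst snd f.hom p.toHom → AlgSp.IsLocNoethSp P)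
    {Q : AlgSp.Sp S} (qfst : Q ⟶ X.obj) (qsnd : Q ⟶ (AlgSp.yon S).obj p₀.pt)
    (hQ : IsPullback qfst qsnd f.hom p₀.toHom) :
    AlgSp.IsLocNoethSp Q := by
  let Z : AlgSp.Space S := (AlgSp.ofScheme S).obj p₀.pt
  let i : Z ⟶ Y := ObjectProperty.homMk p₀.toHom
  haveI : Mono i.hom := hmono
  have hx : AlgSp.Points.ofPt p.toHom ((⊥ : PrimeSpectrum p.K) : ↥(Over.mk p.str).left) ∈
      Set.range (AlgSp.Points.map i.hom) := by
    rw [AlgSp.Points.ofPt_toHom, hpp,
      ← AlgSp.Points.ofPt_toHom p₀ (IsLocalRing.closedPoint p₀.K)]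
    refine ⟨AlgSp.Points.ofPt (𝟙 _) (IsLocalRing.closedPoint p₀.K), ?_⟩
    rw [AlgSp.Points.map_ofPt]
    show AlgSp.Points.ofPt (𝟙 _ ≫ p₀.toHom) _ = _
    rw [Category.id_comp]
  obtain ⟨d, hd⟩ := Groth.Agent.Lib.Helper12.ResidualFactor.exists_factor_fieldPoint i p.K p.str
    p.toHom hx
  obtain ⟨e, rfl⟩ := (AlgSp.yon S).map_surjective d
  exact Groth.Agent.Lib.H5bNoethFib.isLocNoethSp_fibre_descent X.property Y.property f.hom p p₀ e hd
    hNoeth qfst qsnd hQ

end Groth.Agent.S10804
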