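import Groth.Statements.S10805
import Mathlib
import Groth.Agent.Lib.H5bEtLocal
import Groth.Agent.Lib.Helper12FieldBC
import Groth.Agent.Lib.Helper9SpPoint5

set_option autoImplicit false
universe u
open CategoryTheory CategoryTheory.Limits AlgebraicGeometry Topology TopologicalSpace
open AlgSp

namespace Groth.Agent.S10805

/-- Let X be a reduced algebraic space over a scheme S and x a point of |X|. Then x is a weakly
associated point of X (a weakly associated point of the structure sheaf O_X on the small etale site)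
if and only if x is a point of codimension 0 of X (for some scheme U with a representable etale h_U
⟶ X and some point u of U over x, the local ring of U at u has Krull dimension 0). -/
theorem result {S : Scheme.{u}} (X : AlgSp.Space S)
    (hX : AlgSp.IsReducedSp X.obj) [(AlgSp.unitModEt X.obj).IsQuasicoherent] (x : AlgSp.Points X.obj) :
    x ∈ AlgSp.WeakAssEt (AlgSp.unitModEt X.obj) ↔
      AlgSp.HasAt (fun U u => ringKrullDim ↥(U.presheaf.stalk u) = 0) X.obj x := by
  classical
  -- the prime of a point of an affine scheme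
  have hprimeOf : ∀ (U : Scheme.{u}) [IsAffine U] (v : U),
      ((isAffineOpen_top U).primeIdealOf ⟨v, trivial⟩).asIdeal = AlgSp.primeAtPt U v := by
    intro U _ v
    exact congrArg PrimeSpectrum.asIdeal
      ((isAffineOpen_top U).primeIdealOf_eq_map_closedPoint ⟨v, trivial⟩)
  have hdim : ∀ (U : Scheme.{u}) [IsAffine U] (v : U),
      ringKrullDim (U.presheaf.stalk v) = 0 ↔ AlgSp.primeAtPt U v ∈ minimalPrimes Γ(U, ⊤) := by
    intro U _ v
    have hU := isAffineOpen_top U
    letI : Algebra Γ(U, ⊤) (U.presheaf.stalk v) :=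
      TopCat.Presheaf.algebra_section_stalk U.presheaf (⟨v, trivial⟩ : (⊤ : U.Opens))
    haveI : IsLocalization.AtPrime (U.presheaf.stalk v) (hU.primeIdealOf ⟨v, trivial⟩).asIdeal :=
      hU.isLocalization_stalk ⟨v, trivial⟩
    have h1 : ringKrullDim (U.presheaf.stalk v) =
        ((hU.primeIdealOf ⟨v, trivial⟩).asIdeal.height : WithBot ℕ∞) :=
      IsLocalization.AtPrime.ringKrullDim_eq_height _ _
    rw [h1, WithBot.coe_eq_zero, Ideal.height_eq_zero_iff, hprimeOf U v]
  -- weakly associated primes of a reduced ring are minimal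
  have F3 : ∀ {A : Type u} [CommRing A] [_root_.IsReduced A] (I : Ideal A) (a : A)
      (_ : ∀ b, b ∈ I ↔ b * a = 0) (p : Ideal A), p ∈ I.minimalPrimes → p ∈ minimalPrimes A := by
    intro A _ _ I a hI p hp
    haveI : p.IsPrime := hp.1.1
    have key : ∀ t ∈ p, ∃ s ∉ p, s * t * a = 0 := by
      intro t ht
      have hrad := IsLocalization.AtPrime.radical_map_of_mem_minimalPrimes
        (Localization.AtPrime p) p I hp
      have hmem : algebraMap A (Localization.AtPrime p) t ∈
          (I.map (algebraMap A (Localization.AtPrime p))).radical := by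
        rw [hrad]; exact Ideal.mem_map_of_mem _ ht
      obtain ⟨n, hn⟩ := hmem
      rw [← map_pow, IsLocalization.mem_map_algebraMap_iff p.primeCompl] at hn
      obtain ⟨⟨b, s⟩, hn⟩ := hn
      rw [← map_mul, IsLocalization.eq_iff_exists p.primeCompl] at hn
      obtain ⟨c, hc⟩ := hn
      have hb : (b : A) * a = 0 := (hI b).1 b.2
      have h0 : ((c : A) * (s : A)) * t ^ n * a = 0 := by
        have : ((c : A) * (s : A)) * t ^ n * a = (c : A) * (t ^ n * (s : A)) * a := by ring
        rw [this, hc, mul_assoc, hb, mul_zero]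
      refine ⟨(c : A) * (s : A), fun h => ?_, ?_⟩
      · rcases ‹p.IsPrime›.mem_or_mem h with h | h
        · exact c.2 h
        · exact s.2 h
      · have hnil : (((c : A) * (s : A)) * t * a) ^ (n + 1) = 0 := by
          have : (((c : A) * (s : A)) * t * a) ^ (n + 1) =
              (((c : A) * (s : A)) ^ n * a ^ n * t) * (((c : A) * (s : A)) * t ^ n * a) := by ring
          rw [this, h0, mul_zero]
        exact eq_zero_of_pow_eq_zero hnil
    have hap : a ∉ p := by
      intro ha
      obtain ⟨s, hs, hsa⟩ := key a ha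
      have h2 : (s * a) ^ 2 = 0 := by
        have : (s * a) ^ 2 = s * (s * a * a) := by ring
        rw [this, hsa, mul_zero]
      have h3 : s * a = 0 := eq_zero_of_pow_eq_zero h2
      exact hs (hp.1.2 ((hI s).2 h3))
    refine ⟨⟨hp.1.1, bot_le⟩, ?_⟩
    rintro q ⟨hq, -⟩ hqp t ht
    obtain ⟨s, hs, hst⟩ := key t ht
    have h4 : s * a * t ∈ q := by
      have : s * a * t = s * t * a := by ring
      rw [this, hst]; exact q.zero_mem
    rcases hq.mem_or_mem h4 with h5 | h5
    · exfalso
      rcases hq.mem_or_mem h5 with h6 | h6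
      · exact hs (hqp h6)
      · exact hap (hqp h6)
    · exact h5
  -- annihilators of sections of the structure sheaf
  have hann : ∀ (E : AlgSp.EtOver X.obj) (s : AlgSp.sectModEt (AlgSp.unitModEt X.obj) E)
      (b : Γ(E.obj.left.left, ⊤)),
      b ∈ AlgSp.annSect s ↔ b * (show ULift.{u + 1} Γ(E.obj.left.left, ⊤) from s).down = 0 := by
    intro E s b
    rw [AlgSp.mem_annSect_iff]
    constructor
    · intro h
      exact congrArg (fun z : ULift.{u + 1} Γ(E.obj.left.left, ⊤) => z.down) h
    · intro h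
      exact ULift.ext _ _ h
  have hQ : ∀ {W U : Scheme.{u}} (g : W ⟶ U) [Etale g] (w : W),
      ringKrullDim (W.presheaf.stalk w) = 0 ↔ ringKrullDim (U.presheaf.stalk (g w)) = 0 := by
    intro W U g _ w
    rw [Groth.Agent.Lib.H5bEtLocal.ringKrullDim_stalk_eq_of_etale g w]
  constructor
  · rintro ⟨E, hE, u, hx, s, hp⟩
    haveI := hE
    haveI : IsReduced E.obj.left.left :=
      Groth.Agent.Lib.Helper12.FieldBC.isReduced_of_chart hX E.obj.hom E.property
    have hmin := F3 (AlgSp.annSect s) _ (hann E s) _ hp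
    exact ⟨E.obj.left, E.obj.hom, u, E.property, hx, (hdim E.obj.left.left u).2 hmin⟩
  · intro h
    have hall := (Groth.Agent.Lib.H5bEtLocal.hasAt_iff_forall
      (fun U u => ringKrullDim ↥(U.presheaf.stalk u) = 0) hQ X.property x).1 h
    obtain ⟨U₀, a, u₀, ha, hu₀, -⟩ := h
    obtain ⟨W, hW, hu₀W, -⟩ : ∃ W : U₀.left.Opens, W ∈ U₀.left.affineOpens ∧ u₀ ∈ W ∧ W ≤ ⊤ :=
      (TopologicalSpace.Opens.isBasis_iff_nbhd.1 U₀.left.isBasis_affineOpens)
      (show u₀ ∈ (⊤ : U₀.left.Opens) from trivial)
    have hW' : IsAffineOpen W := hW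
    let E : AlgSp.EtOver X.obj := (AlgSp.EtOver.ofChart a ha).obj (Scheme.Etale.mk W.ι)
    have hEaff : IsAffine E.obj.left.left := hW'
    let u : E.obj.left.left := (⟨u₀, hu₀W⟩ : W)
    have hxu : AlgSp.Points.ofPt E.obj.hom u = x :=
      (Groth.Agent.Lib.Helper9.SpPoint.ofPt_yon_map_comp
        (AlgSp.EtOver.homOfEtale (Scheme.Etale.mk W.ι)) a (⟨u₀, hu₀W⟩ : W)).trans hu₀
    have hq : ringKrullDim (E.obj.left.left.presheaf.stalk u) = 0 :=
      hall E.obj.left E.obj.hom u E.property hxu
    haveI := hEaff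
    have hmin := (hdim E.obj.left.left u).1 hq
    let s : AlgSp.sectModEt (AlgSp.unitModEt X.obj) E := AlgSp.upΓ E 1
    refine ⟨E, hEaff, u, hxu, s, ?_⟩
    have hbot : AlgSp.annSect s = ⊥ := by
      ext b
      rw [hann E s b, Ideal.mem_bot]
      change b * 1 = 0 ↔ b = 0
      rw [mul_one]
    rw [hbot]
    exact hmin

end Groth.Agent.S10805
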