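import Groth.Statements.S10806
import Mathlib
import Groth.Agent.Lib.Helper8AffCompl
import Groth.Agent.S8853

set_option autoImplicit false
universe u
open CategoryTheory CategoryTheory.Limits AlgebraicGeometry Topology TopologicalSpace
open AlgSp

namespace Groth.Agent.S10806

/-- Let X be an algebraic space over a scheme S, Z ⟶ X a locally principal closed subspace (one-chart
sense: representable by closed immersions, and on some etale surjective scheme chart the inverse
image of Z is cut out by a quasi-coherent ideal sheaf that is Zariski-locally generated by one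
section) and U ⟶ X the complementary open subspace, that is, a morphism representable by open
immersions whose image in |X| is the complement of the image of |Z|. Then U ⟶ X is an affine
morphism. -/
theorem result {S : Scheme.{u}} (X Z U : AlgSp.Space S)
    (i : Z ⟶ X) (hZ : AlgSp.IsLocPrincipalSub i.hom) (j : U ⟶ X) (hj : AlgSp.RepWith @IsOpenImmersion j.hom)
    (hU : Set.range (AlgSp.Points.map j.hom) = (Set.range (AlgSp.Points.map i.hom))ᶜ) :
    AlgSp.IsAffineMor j.hom := by
  obtain ⟨hcl, V, φ, I, fstD, hφe, hφs, sqD, hI⟩ := hZ
  obtain ⟨UV, sndU, fstU, sqU⟩ := hj.1 φ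
  haveI hopen : IsOpenImmersion sndU.left := hj.2 _ _ sndU sqU
  have hrange := Groth.Agent.Lib.Helper8AffCompl.range_eq_compl hU I sqD sqU
  have haffW := Groth.Agent.S8853.result I hI
  have haff : IsAffineHom sndU.left :=
    Groth.Agent.Lib.Helper8AffCompl.isAffineHom_of_range_eq sndU.left I.support.compl hrange haffW
  exact Groth.Agent.Lib.Helper8AffCompl.isAffineMor_of_chart hj hφe hφs sqU haff

end Groth.Agent.S10806
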