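import Groth.Statements.S10810
import Mathlib
import Groth.Agent.Lib.Helper9SpEt

set_option autoImplicit false
universe u
open CategoryTheory CategoryTheory.Limits AlgebraicGeometry Topology TopologicalSpace
open AlgSp

namespace Groth.Agent.S10810

/-- Let X be an algebraic space over a scheme S and F a quasi-coherent O_X-module on the small etale
site of X. Then F = 0 if and only if the set of weakly associated points of F is empty. -/
theorem result {S : Scheme.{u}} (X : AlgSp.Space S)
    (M : AlgSp.ModEt X.obj) [M.IsQuasicoherent] :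
    IsZero M ↔ AlgSp.WeakAssEt M = ∅ := by
  classical
  have hprime : ∀ (U : Scheme.{u}) [IsAffine U] (p : PrimeSpectrum Γ(U, ⊤)),
      ∃ u : U, AlgSp.primeAtPt U u = p.asIdeal := by
    intro U _ p
    have hU := isAffineOpen_top U
    refine ⟨hU.fromSpec p, ?_⟩
    have h1 := hU.primeIdealOf_eq_map_closedPoint ⟨hU.fromSpec p, trivial⟩
    have h2 : hU.primeIdealOf ⟨hU.fromSpec p, trivial⟩ = p := by
      apply hU.fromSpec.isOpenEmbedding.injective
      exact hU.fromSpec_primeIdealOf ⟨hU.fromSpec p, trivial⟩
    rw [h2] at h1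
    refine Eq.trans ?_ (congrArg PrimeSpectrum.asIdeal h1).symm
    rfl
  constructor
  · intro hM
    rw [Set.eq_empty_iff_forall_notMem]
    rintro x ⟨E, hE, u, hx, s, hp⟩
    let F := SheafOfModules.evaluation (AlgSp.OEtRing X.obj) (Opposite.op E)
    haveI : F.PreservesZeroMorphisms :=
      inferInstanceAs ((SheafOfModules.forget _ ⋙ PresheafOfModules.evaluation _ _).PreservesZeroMorphisms)
    have hz : IsZero (F.obj M) := F.map_isZero hM
    have hsub : Subsingleton (F.obj M) := ModuleCat.subsingleton_of_isZero hz
    have hs : s = 0 := @Subsingleton.elim _ hsub s 0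
    have htop : AlgSp.annSect s = ⊤ := by
      rw [Ideal.eq_top_iff_one, AlgSp.mem_annSect_iff, hs, smul_zero]
    have hpr : (AlgSp.primeAtPt E.obj.left.left u).IsPrime := hp.1.1
    apply hpr.ne_top
    exact top_le_iff.1 (htop ▸ hp.1.2)
  · intro hW
    -- Step A: sections over affine objects vanish
    have hA : ∀ (E : AlgSp.EtOver X.obj), IsAffine E.obj.left.left →
        ∀ s : AlgSp.sectModEt M E, s = 0 := by
      intro E hE s
      by_contra hs
      have hne : AlgSp.annSect s ≠ ⊤ := by
        intro h
        apply hs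
        have h1 : (1 : Γ(E.obj.left.left, ⊤)) ∈ AlgSp.annSect s := h ▸ Submodule.mem_top
        rw [AlgSp.mem_annSect_iff, map_one, one_smul] at h1
        exact h1
      obtain ⟨⟨p, hp⟩⟩ := Ideal.nonempty_minimalPrimes hne
      haveI : p.IsPrime := hp.1.1
      obtain ⟨u, hu⟩ := hprime E.obj.left.left ⟨p, hp.1.1⟩
      have hmem : AlgSp.Points.ofPt E.obj.hom u ∈ AlgSp.WeakAssEt M :=
        ⟨E, hE, u, rfl, s, by rw [hu]; exact hp⟩
      rw [hW] at hmem
      exact hmem
    -- Step B: all sections vanish
    have hB : ∀ (E : AlgSp.EtOver X.obj) (s : AlgSp.sectModEt M E), s = 0 := by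
      intro E s
      let T : Sieve E :=
        { arrows := fun Y g => (M.val.presheaf.map g.op).hom s = 0
          downward_closed := by
            intro Y Z g hg k
            change (M.val.presheaf.map (k ≫ g).op).hom s = 0
            have e : (M.val.presheaf.map (k ≫ g).op).hom s =
                (M.val.presheaf.map k.op).hom ((M.val.presheaf.map g.op).hom s) := by
              rw [op_comp, Functor.map_comp]
              rfl
            rw [e, hg, map_zero] }
      have hT : T ∈ AlgSp.etTop X.obj E := by
        rw [Groth.Agent.Lib.Helper9.SpEt.mem_etTop_iff]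
        intro x
        obtain ⟨W, hW1, hxW, -⟩ : ∃ W : E.obj.left.left.Opens,
            W ∈ E.obj.left.left.affineOpens ∧ x ∈ W ∧ W ≤ ⊤ :=
          (TopologicalSpace.Opens.isBasis_iff_nbhd.1 E.obj.left.left.isBasis_affineOpens)
          (show x ∈ (⊤ : E.obj.left.left.Opens) from trivial)
        have hW' : IsAffineOpen W := hW1
        have haff : IsAffine (Groth.Agent.Lib.Helper9.SpEt.openObj X.obj E W).obj.left.left := hW'
        refine ⟨Groth.Agent.Lib.Helper9.SpEt.openObj X.obj E W,
          Groth.Agent.Lib.Helper9.SpEt.openHom X.obj E W, ⟨x, hxW⟩, ?_, rfl⟩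
        exact hA (Groth.Agent.Lib.Helper9.SpEt.openObj X.obj E W) haff
          ((M.val.presheaf.map (Groth.Agent.Lib.Helper9.SpEt.openHom X.obj E W).op).hom s)
      have hsep := Presheaf.IsSheaf.isSeparated M.isSheaf
      refine hsep E T hT s 0 ?_
      intro Y g hg
      rw [map_zero]
      exact hg
    rw [IsZero.iff_id_eq_zero]
    apply SheafOfModules.hom_ext
    apply PresheafOfModules.hom_ext
    intro E
    apply ModuleCat.hom_ext
    apply LinearMap.ext
    intro x
    have hx : x = 0 := hB E.unop x
    rw [hx, map_zero, map_zero]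

end Groth.Agent.S10810
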