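import Groth.Statements.S10811
import Mathlib

set_option autoImplicit false
universe u
open CategoryTheory CategoryTheory.Limits AlgebraicGeometry Topology TopologicalSpace
open AlgSp

namespace Groth.Agent.S10811

/-- Let X be an algebraic space over a scheme S and 0 ⟶ F₁ ⟶ F₂ ⟶ F₃ ⟶ 0 a short exact sequence of
quasi-coherent O_X-modules on the small etale site of X. Then the weakly associated points satisfy
WeakAss(F₂) ⊆ WeakAss(F₁) ∪ WeakAss(F₃) and WeakAss(F₁) ⊆ WeakAss(F₂). -/
theorem result {S : Scheme.{u}} (X : AlgSp.Space S)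
    (C : ShortComplex (AlgSp.ModEt X.obj)) (hC : C.ShortExact)
    [C.X₁.IsQuasicoherent] [C.X₂.IsQuasicoherent] [C.X₃.IsQuasicoherent] :
    AlgSp.WeakAssEt C.X₂ ⊆ AlgSp.WeakAssEt C.X₁ ∪ AlgSp.WeakAssEt C.X₃ ∧
      AlgSp.WeakAssEt C.X₁ ⊆ AlgSp.WeakAssEt C.X₂ := by
  classical
  -- left exactness on sections
  have key : ∀ E : AlgSp.EtOver X.obj,
      Function.Injective (C.f.val.app (Opposite.op E)).hom ∧
      ∀ y : AlgSp.sectModEt C.X₂ E, (C.g.val.app (Opposite.op E)).hom y = 0 →
        ∃ t : AlgSp.sectModEt C.X₁ E, (C.f.val.app (Opposite.op E)).hom t = y := by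
    intro E
    let F := SheafOfModules.evaluation (AlgSp.OEtRing X.obj) (Opposite.op E)
    haveI : F.PreservesZeroMorphisms :=
      inferInstanceAs ((SheafOfModules.forget _ ⋙ PresheafOfModules.evaluation _ _).PreservesZeroMorphisms)
    haveI := hC.mono_f
    have hmono : Mono (F.map C.f) := inferInstance
    have hex : (C.map F).Exact :=
      hC.exact.map_of_mono_of_preservesKernel F hC.mono_f inferInstance
    refine ⟨(ModuleCat.mono_iff_injective _).1 hmono, ?_⟩
    intro y hy
    exact (ShortComplex.moduleCat_exact_iff _).1 hex y hy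
  -- annihilators are unchanged by the injective map
  have hann : ∀ (E : AlgSp.EtOver X.obj) (s : AlgSp.sectModEt C.X₁ E),
      AlgSp.annSect (M := C.X₂) ((C.f.val.app (Opposite.op E)).hom s) = AlgSp.annSect s := by
    intro E s
    ext a
    rw [AlgSp.mem_annSect_iff, AlgSp.mem_annSect_iff, ← map_smul]
    constructor
    · intro h
      exact (key E).1 (h.trans (map_zero _).symm)
    · intro h
      rw [h, map_zero]
  refine ⟨?_, ?_⟩
  · rintro x ⟨E, hE, u, hx, s, hp⟩
    by_cases hcase : AlgSp.primeAtPt E.obj.left.left u ∈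
        (AlgSp.annSect (M := C.X₃) ((C.g.val.app (Opposite.op E)).hom s)).minimalPrimes
    · exact Or.inr ⟨E, hE, u, hx, _, hcase⟩
    · left
      set p := AlgSp.primeAtPt E.obj.left.left u with hpdef
      set I := AlgSp.annSect s with hI
      set J := AlgSp.annSect (M := C.X₃) ((C.g.val.app (Opposite.op E)).hom s) with hJ
      have hIJ : I ≤ J := by
        intro a ha
        rw [hJ, AlgSp.mem_annSect_iff, ← map_smul]
        rw [hI, AlgSp.mem_annSect_iff] at ha
        rw [ha, map_zero]
      -- an element of `J` outside `p`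
      have hex : ∃ f ∈ J, f ∉ p := by
        by_contra hcon
        push Not at hcon
        have hJp : J ≤ p := hcon
        obtain ⟨q, hq, hqp⟩ := Ideal.exists_minimalPrimes_le hJp
        have hpq : p ≤ q := hp.2 ⟨hq.1.1, hIJ.trans hq.1.2⟩ hqp
        have : p = q := le_antisymm hpq hqp
        exact hcase (this ▸ hq)
      obtain ⟨f, hfJ, hfp⟩ := hex
      rw [hJ, AlgSp.mem_annSect_iff, ← map_smul] at hfJ
      obtain ⟨t, ht⟩ := (key E).2 _ hfJ
      refine ⟨E, hE, u, hx, t, ?_⟩
      rw [← hann E t, ht]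
      have hmem : ∀ a, a ∈ AlgSp.annSect (M := C.X₂) (AlgSp.upΓ E f • s) ↔ a * f ∈ I := by
        intro a
        rw [AlgSp.mem_annSect_iff, hI, AlgSp.mem_annSect_iff, map_mul, mul_smul]
      refine ⟨⟨hp.1.1, fun a ha => ?_⟩, fun q hq hqp => ?_⟩
      · have h1 : a * f ∈ p := hp.1.2 ((hmem a).1 ha)
        exact (hp.1.1.mem_or_mem h1).resolve_right hfp
      · refine hp.2 ⟨hq.1, fun a ha => hq.2 ((hmem a).2 (I.mul_mem_right f ha))⟩ hqp
  · rintro x ⟨E, hE, u, hx, s, hp⟩
    exact ⟨E, hE, u, hx, (C.f.val.app (Opposite.op E)).hom s, by rw [hann E s]; exact hp⟩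

end Groth.Agent.S10811
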