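import Groth.Statements.S10813
import Mathlib
import Groth.Agent.Lib.Helper8CutOut
import Groth.Agent.S8852

set_option autoImplicit false
universe u
open CategoryTheory CategoryTheory.Limits AlgebraicGeometry Topology TopologicalSpace
open AlgSp

namespace Groth.Agent.S10813

/-- Let X be an algebraic space over a scheme S, let Z ⟶ X and Y ⟶ X be closed subspaces cut out by
quasi-coherent sheaves of ideals I and J, and let D ⟶ X be the closed subspace which the product I·J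
cuts out. If D is an effective Cartier divisor (one-chart sense), then so are Z and Y, and D is
their sum. -/
theorem result {S : Scheme.{u}} (X Z Y D : AlgSp.Space S)
    (iZ : Z ⟶ X) (iY : Y ⟶ X) (iD : D ⟶ X) (I J : AlgSp.IdealEt X.obj) (hI : I.IsQCoh) (hJ : J.IsQCoh)
    (hZ : AlgSp.IsCutOutBy I iZ.hom) (hY : AlgSp.IsCutOutBy J iY.hom) (hD : AlgSp.IsCutOutBy (I * J) iD.hom)
    (hDc : AlgSp.IsEffCartierSub iD.hom) :
    AlgSp.IsEffCartierSub iZ.hom ∧ AlgSp.IsEffCartierSub iY.hom := by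
  obtain ⟨hcl, V, φ, K, fstD, hφe, hφs, sqD, hK⟩ := hDc
  obtain ⟨hiZ, hIZ⟩ := hZ
  obtain ⟨hiY, hIY⟩ := hY
  obtain ⟨ZV, sZ, fZ, sqZ⟩ := hiZ.1 φ
  obtain ⟨YV, sY, fY, sqY⟩ := hiY.1 φ
  haveI : IsClosedImmersion sZ.left := hiZ.2 _ _ sZ sqZ
  haveI : IsClosedImmersion sY.left := hiY.2 _ _ sY sqY
  have hker := Groth.Agent.Lib.Helper8CutOut.ker_eq_mul I J ⟨hiZ, hIZ⟩ ⟨hiY, hIY⟩ hD hφe
    sqZ sqY sqD
  have hK' : K = sZ.left.ker * sY.left.ker := by
    rw [← hker]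
    exact (Scheme.IdealSheafData.ker_subschemeι K).symm
  rw [hK'] at hK
  obtain ⟨hKZ, hKY⟩ := Groth.Agent.S8852.result _ _ hK
  obtain ⟨fst₁, sq₁⟩ := Groth.Agent.Lib.Helper8CutOut.exists_isPullback_ker sqZ
  obtain ⟨fst₂, sq₂⟩ := Groth.Agent.Lib.Helper8CutOut.exists_isPullback_ker sqY
  exact ⟨⟨hiZ, V, φ, sZ.left.ker, fst₁, hφe, hφs, sq₁, hKZ⟩,
    ⟨hiY, V, φ, sY.left.ker, fst₂, hφe, hφs, sq₂, hKY⟩⟩

end Groth.Agent.S10813
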