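import Groth.Statements.S10814
import Mathlib
import Groth.Agent.Lib.Helper8CutOut
import Groth.Agent.Lib.Helper8EffCartier
import Groth.Agent.S10855
import Groth.Agent.Lib.Helper20BlowUp

set_option autoImplicit false
universe u
open CategoryTheory CategoryTheory.Limits AlgebraicGeometry Topology TopologicalSpace
open AlgSp

namespace Groth.Agent.S10814

/-- Let X be an algebraic space over a scheme S and D₁, D₂ ⟶ X effective Cartier divisors (one-chart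
sense) with quasi-coherent ideal sheaves I₁, I₂ on the small etale site. Then their sum, the closed
subspace D ⟶ X cut out by the product ideal I₁·I₂, is an effective Cartier divisor. -/
theorem result {S : Scheme.{u}} (X D₁ D₂ D : AlgSp.Space S)
    (i₁ : D₁ ⟶ X) (i₂ : D₂ ⟶ X) (i : D ⟶ X) (I₁ I₂ : AlgSp.IdealEt X.obj) (hI₁ : I₁.IsQCoh) (hI₂ : I₂.IsQCoh)
    (h₁ : AlgSp.IsCutOutBy I₁ i₁.hom) (h₂ : AlgSp.IsCutOutBy I₂ i₂.hom) (hD : AlgSp.IsCutOutBy (I₁ * I₂) i.hom)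
    (e₁ : AlgSp.IsEffCartierSub i₁.hom) (e₂ : AlgSp.IsEffCartierSub i₂.hom) :
    AlgSp.IsEffCartierSub i.hom := by
  obtain ⟨hcl₁, V₁, φ₁, J₁, fD₁, hφ₁e, hφ₁s, sqD₁, hJ₁⟩ := e₁
  obtain ⟨hcl₂, V₂, φ₂, J₂, fD₂, hφ₂e, hφ₂s, sqD₂, hJ₂⟩ := e₂
  obtain ⟨hi, hI⟩ := hD
  -- common chart W = V₁ ×_X V₂
  obtain ⟨W, r₂, r₁', sqW⟩ := hφ₁e.1 φ₂
  obtain ⟨r₁, rfl⟩ := (AlgSp.yon S).map_surjective r₁'
  haveI hr₂E : Etale r₂.left := hφ₁e.2 _ _ r₂ sqW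
  have hr₂S : Surjective r₂.left := hφ₁s.2 _ _ r₂ sqW
  haveI hr₁E : Etale r₁.left := hφ₂e.2 _ _ r₁ sqW.flip
  have hφWe : AlgSp.RepWith @Etale ((AlgSp.yon S).map r₂ ≫ φ₂) :=
    (AlgSp.repWith_isMultiplicative (S := S) @Etale).comp_mem _ _
      ((AlgSp.repWith_yon_map_iff _ _).2 hr₂E) hφ₂e
  have hφWs : AlgSp.RepWith @Surjective ((AlgSp.yon S).map r₂ ≫ φ₂) :=
    (AlgSp.repWith_isMultiplicative (S := S) @Surjective).comp_mem _ _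
      ((AlgSp.repWith_yon_map_iff _ _).2 hr₂S) hφ₂s
  have hcomm₁ : ((AlgSp.yon S).map r₂ ≫ φ₂) ≫ 𝟙 X.obj = (AlgSp.yon S).map r₁ ≫ φ₁ := by
    rw [Category.comp_id]; exact sqW.w.symm
  have hcomm₂ : ((AlgSp.yon S).map r₂ ≫ φ₂) ≫ 𝟙 X.obj = (AlgSp.yon S).map r₂ ≫ φ₂ :=
    Category.comp_id _
  obtain ⟨f₁, sq₁, -⟩ := Groth.Agent.Lib.Helper8EffCartier.exists_isPullback_comap
    (IsPullback.id_horiz i₁.hom) J₁ sqD₁ ((AlgSp.yon S).map r₂ ≫ φ₂) r₁ hcomm₁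
  obtain ⟨f₂, sq₂, -⟩ := Groth.Agent.Lib.Helper8EffCartier.exists_isPullback_comap
    (IsPullback.id_horiz i₂.hom) J₂ sqD₂ ((AlgSp.yon S).map r₂ ≫ φ₂) r₂ hcomm₂
  obtain ⟨DW, sD, fD, sqDW⟩ := hi.1 ((AlgSp.yon S).map r₂ ≫ φ₂)
  haveI : IsClosedImmersion sD.left := hi.2 _ _ sD sqDW
  have hker := Groth.Agent.Lib.Helper8CutOut.ker_eq_mul I₁ I₂ h₁ h₂ ⟨hi, hI⟩ hφWe sq₁ sq₂ sqDW
  haveI : Flat r₁.left := inferInstance
  haveI : Flat r₂.left := inferInstance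
  have hK₁ : BlowUp.IsEffCartierIdeal (J₁.comap r₁.left) := Groth.Agent.S10855.result r₁.left J₁ hJ₁
  have hK₂ : BlowUp.IsEffCartierIdeal (J₂.comap r₂.left) := Groth.Agent.S10855.result r₂.left J₂ hJ₂
  have hK : BlowUp.IsEffCartierIdeal sD.left.ker := by
    rw [hker]
    change BlowUp.IsEffCartierIdeal ((J₁.comap r₁.left).subschemeι.ker *
      (J₂.comap r₂.left).subschemeι.ker)
    rw [Scheme.IdealSheafData.ker_subschemeι, Scheme.IdealSheafData.ker_subschemeι]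
    exact Groth.Agent.Lib.Helper20.BlowUpBasic.isEffCartierIdeal_mul hK₁ hK₂
  obtain ⟨fst, sq⟩ := Groth.Agent.Lib.Helper8CutOut.exists_isPullback_ker sqDW
  exact ⟨hi, W, (AlgSp.yon S).map r₂ ≫ φ₂, sD.left.ker, fst, hφWe, hφWs, sq, hK⟩

end Groth.Agent.S10814
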