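import Groth.Statements.S10818
import Mathlib
import Groth.Agent.Lib.Helper8WeakAssPush
import Groth.Agent.S10176
import Groth.Agent.Lib.Helper2QCoh

set_option autoImplicit false
universe u
open CategoryTheory CategoryTheory.Limits AlgebraicGeometry Topology TopologicalSpace
open AlgSp

namespace Groth.Agent.S10818

/-- Let f : X ⟶ Y be an affine morphism of algebraic spaces over a scheme S (representable; the
representability is carried as a separate hypothesis) and F a quasi-coherent O_X-module on the small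
etale site of X with f_*F quasi-coherent. Then WeakAss(f_*F) ⊆ f(WeakAss(F)) as subsets of |Y|. -/
theorem result {S : Scheme.{u}} (X Y : AlgSp.Space S) (f : X ⟶ Y)
    (hf : AlgSp.Representable f.hom) (haff : AlgSp.IsAffineMor f.hom)
    (M : AlgSp.ModEt X.obj) [M.IsQuasicoherent] [((AlgSp.pushModEt hf).obj M).IsQuasicoherent] :
    AlgSp.WeakAssEt ((AlgSp.pushModEt hf).obj M) ⊆ AlgSp.Points.map f.hom '' AlgSp.WeakAssEt M := by
  classical
  rintro x ⟨E, hE, u, hx, s, hp⟩
  haveI := hE
  let E' : AlgSp.EtOver X.obj := AlgSp.EtOver.bcObj hf E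
  let π : E'.obj.left ⟶ E.obj.left := AlgSp.EtOver.bcπ hf E
  have sqE : IsPullback E'.obj.hom ((AlgSp.yon S).map π) f.hom E.obj.hom :=
    AlgSp.EtOver.isPullback_bcObj hf E
  have hE' : IsAffine E'.obj.left.left := by
    obtain ⟨W', i, fst, sq, hW'⟩ := haff hE E.obj.hom
    let e : (AlgSp.yon S).obj W' ≅ (AlgSp.yon S).obj E'.obj.left := sq.isoIsPullback _ _ sqE
    let e' : W' ≅ E'.obj.left := (AlgSp.yon S).preimageIso e
    let e'' : W'.left ≅ E'.obj.left.left := (Over.forget S).mapIso e'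
    haveI := hW'
    exact IsAffine.of_isIso e''.inv
  haveI := hE'
  let s' : AlgSp.sectModEt M E' := s
  have hann : AlgSp.annSect s = Ideal.comap π.left.appTop.hom (AlgSp.annSect s') := by
    ext a
    rw [Ideal.mem_comap, AlgSp.mem_annSect_iff, AlgSp.mem_annSect_iff]
    exact Iff.rfl
  rw [hann] at hp
  obtain ⟨q, hq, hqp⟩ := Ideal.exists_minimalPrimes_comap_eq π.left.appTop.hom _ hp
  haveI hqprime : q.IsPrime := hq.1.1
  have hT : IsAffineOpen (⊤ : E'.obj.left.left.Opens) := isAffineOpen_top _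
  let Q : PrimeSpectrum Γ(E'.obj.left.left, ⊤) := ⟨q, hqprime⟩
  let u' : E'.obj.left.left := hT.fromSpec Q
  have hprime : AlgSp.primeAtPt E'.obj.left.left u' = q := by
    have h1 : (hT.primeIdealOf ⟨u', trivial⟩).asIdeal = AlgSp.primeAtPt E'.obj.left.left u' :=
      congrArg PrimeSpectrum.asIdeal (hT.primeIdealOf_eq_map_closedPoint ⟨u', trivial⟩)
    rw [← h1]
    exact congrArg PrimeSpectrum.asIdeal (Groth.Agent.Lib.Helper2.QCoh.primeIdealOf_fromSpec hT Q)
  have hπu : π.left u' = u := by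
    apply Groth.Agent.Lib.Helper8WeakAssPush.eq_of_primeAtPt_eq
    rw [Groth.Agent.Lib.Helper8WeakAssPush.primeAtPt_map, hprime, hqp]
  refine ⟨AlgSp.Points.ofPt E'.obj.hom u', ⟨E', hE', u', rfl, s', by rw [hprime]; exact hq⟩, ?_⟩
  rw [AlgSp.Points.map_ofPt, sqE.w, Groth.Agent.S10176.ofPt_map_comp π E.obj.hom u', hπu]
  exact hx

end Groth.Agent.S10818
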