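import Groth.Statements.S10857
import Groth.Agent.Lib.R2H3QCohColimSec
import Groth.Agent.Lib.Helper26ModLim

set_option autoImplicit false
universe u
open QCohSup

namespace Groth.Agent.S10857

open AlgebraicGeometry CategoryTheory CategoryTheory.Limits in
/-- Take a quasi-compact scheme X, a finite-type quasi-coherent O_X-module F, and G a quasi-coherent
O_X-module which is the colimit of a filtered diagram of quasi-coherent O_X-modules G_j. A
homomorphism u : G → F is an epimorphism if and only if there is an index j₀ such that for every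
index j admitting a map from j₀ the composite G_j → G → F is an epimorphism. -/
theorem result {X : Scheme.{u}} [CompactSpace X]
    {J : Type u} [SmallCategory J] [IsFiltered J] (D : J ⥤ X.Modules) [∀ j, Coh.IsQCoh (D.obj j)]
    (c : Cocone D) (hc : IsColimit c) [Coh.IsQCoh c.pt]
    (F : X.Modules) [Coh.IsQCoh F] (hF : CohB1.IsFT F) (u : c.pt ⟶ F) :
    Epi u ↔ ∃ j₀ : J, ∀ j : J, Nonempty (j₀ ⟶ j) → Epi (c.ι.app j ≫ u) := by
  classical
  have hFq : F.IsQuasicoherent := ‹Coh.IsQCoh F›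
  have hFt : SheafOfModules.IsFiniteType (R := X.ringCatSheaf) F := hF
  have hcq : c.pt.IsQuasicoherent := ‹Coh.IsQCoh c.pt›
  have hDq : ∀ j, (D.obj j).IsQuasicoherent := fun j => ‹∀ j, Coh.IsQCoh (D.obj j)› j
  constructor
  swap
  · rintro ⟨j₀, h⟩
    have := h j₀ ⟨𝟙 j₀⟩
    exact epi_of_epi (c.ι.app j₀) u
  · intro hu
    obtain ⟨s, hs⟩ := Groth.Agent.Lib.Helper26.ModLim.exists_finite_affine_cover X
    have hgen : ∀ V : s, ∃ t : Finset Γ(F, V.1.1),
        Submodule.span Γ(X, V.1.1) (t : Set Γ(F, V.1.1)) = ⊤ := by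
      intro V
      have : Module.Finite Γ(X, V.1.1) Γ(F, V.1.1) :=
        Groth.Agent.Lib.Helper23.FinType.finite_of_isFiniteType F V.1.2
      exact Module.Finite.fg_top
    choose t ht using hgen
    have hlift : ∀ (V : s) (f : t V), ∃ (j : J) (y : Γ(D.obj j, V.1.1)),
        u.app V.1.1 ((c.ι.app j).app V.1.1 y) = f.1 := by
      intro V f
      obtain ⟨g, hg⟩ := Groth.Agent.Lib.Helper23.FinType.surjective_app_of_epi u V.1.2 f.1
      obtain ⟨j, y, hy⟩ := Groth.Agent.Lib.R2H3.QCohColimSec.exists_rep_of_isColimit_affine D hDq c hc V.1.2 g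
      exact ⟨j, y, by rw [hy, hg]⟩
    choose jj yy hyy using hlift
    let ix : (Sigma fun V : s => ↥(t V)) → J := fun p => jj p.1 p.2
    obtain ⟨j₀, hj₀⟩ := IsFiltered.sup_objs_exists
      ((Finset.univ : Finset (Sigma fun V : s => ↥(t V))).image ix)
    refine ⟨j₀, fun j ⟨a⟩ => ?_⟩
    have := hDq j
    refine Groth.Agent.Helper18OmLS.epi_of_surjective_app_cover (c.ι.app j ≫ u) (fun V : s => V.1.1) hs
      (fun V => V.1.2) (fun V => ?_)
    have hrange : LinearMap.range (Groth.Agent.Lib.R2H3.FPQuot.appₗ (c.ι.app j ≫ u) V.1.1) = ⊤ := by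
      rw [eq_top_iff, ← ht V, Submodule.span_le]
      intro f hf
      obtain ⟨b⟩ := hj₀ (Finset.mem_image_of_mem ix
        (Finset.mem_univ (⟨V, ⟨f, hf⟩⟩ : Sigma fun V : s => ↥(t V))))
      change jj V ⟨f, hf⟩ ⟶ j₀ at b
      refine ⟨(D.map (b ≫ a)).app V.1.1 (yy V ⟨f, hf⟩), ?_⟩
      have h1 := congrArg (fun θ : D.obj (jj V ⟨f, hf⟩) ⟶ c.pt => θ.app V.1.1 (yy V ⟨f, hf⟩)) (c.w (b ≫ a))
      simp only [Scheme.Modules.Hom.comp_app] at h1
      have h2 := hyy V ⟨f, hf⟩
      change u.app V.1.1 ((c.ι.app j).app V.1.1 ((D.map (b ≫ a)).app V.1.1 (yy V ⟨f, hf⟩))) = f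
      exact (congrArg (fun z => u.app V.1.1 z) h1).trans h2
    intro z
    have hz : z ∈ LinearMap.range (Groth.Agent.Lib.R2H3.FPQuot.appₗ (c.ι.app j ≫ u) V.1.1) := by
      rw [hrange]; trivial
    exact hz

end Groth.Agent.S10857
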