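import Groth.Statements.S10863
import Mathlib

set_option autoImplicit false
universe u
open CAlg

namespace Groth.Agent.S10863

namespace Aux

open TensorProduct

section

variable (k A k' : Type u) [Field k] [CommRing A] [Algebra k A] [Module.Finite k A] [IsLocalRing A]
  [Field k'] [Algebra k k']

theorem card_residue (Ω : Type u) [Field Ω] [Algebra k Ω] :
    Nat.card (IsLocalRing.ResidueField A →ₐ[k] Ω) = Nat.card (A →ₐ[k] Ω) := by
  haveI : IsArtinianRing A := IsArtinianRing.of_finite k A
  have hnil : ∀ x ∈ IsLocalRing.maximalIdeal A, IsNilpotent x := by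
    intro x hx
    have h1 : IsNilpotent (⊥ : Ideal A).jacobson := IsArtinianRing.isNilpotent_jacobson_bot
    rw [IsLocalRing.jacobson_eq_maximalIdeal ⊥ bot_ne_top] at h1
    obtain ⟨n, hn⟩ := h1
    refine ⟨n, ?_⟩
    have : x ^ n ∈ (IsLocalRing.maximalIdeal A) ^ n := Ideal.pow_mem_pow hx n
    rw [hn] at this
    simpa using this
  let F : (IsLocalRing.ResidueField A →ₐ[k] Ω) → (A →ₐ[k] Ω) :=
    fun φ => φ.comp (IsScalarTower.toAlgHom k A (IsLocalRing.ResidueField A))
  have hF : Function.Bijective F := by
    constructor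
    · intro φ₁ φ₂ h
      apply AlgHom.ext
      intro y
      obtain ⟨a, rfl⟩ := IsLocalRing.residue_surjective y
      have := AlgHom.congr_fun h a
      simpa [F, IsLocalRing.ResidueField.algebraMap_eq] using this
    · intro ψ
      haveI : IsLocalHom ψ.toRingHom := by
        constructor
        intro a ha
        by_contra hna
        have hm : a ∈ IsLocalRing.maximalIdeal A := (IsLocalRing.mem_maximalIdeal a).2 hna
        have hn : IsNilpotent (ψ a) := (hnil a hm).map ψ
        exact ha.ne_zero hn.eq_zero
      let φr : IsLocalRing.ResidueField A →+* Ω := IsLocalRing.ResidueField.lift ψ.toRingHom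
      have hφr : ∀ a : A, φr (IsLocalRing.residue A a) = ψ a := fun a =>
        IsLocalRing.ResidueField.lift_residue_apply ψ.toRingHom a
      let φ : IsLocalRing.ResidueField A →ₐ[k] Ω :=
        { φr with
          commutes' := fun c => by
            show φr (algebraMap k (IsLocalRing.ResidueField A) c) = algebraMap k Ω c
            rw [IsScalarTower.algebraMap_apply k A (IsLocalRing.ResidueField A),
              IsLocalRing.ResidueField.algebraMap_eq, hφr]
            exact ψ.commutes c }
      refine ⟨φ, AlgHom.ext fun a => ?_⟩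
      show φr (algebraMap A (IsLocalRing.ResidueField A) a) = ψ a
      rw [IsLocalRing.ResidueField.algebraMap_eq]
      exact hφr a
  exact Nat.card_congr (Equiv.ofBijective F hF)

omit [Module.Finite k A] [IsLocalRing A] in
theorem card_baseChange (Ω : Type u) [Field Ω] [Algebra k Ω] [Algebra k' Ω] [IsScalarTower k k' Ω] :
    Nat.card (A →ₐ[k] Ω) = Nat.card ((k' ⊗[k] A) →ₐ[k'] Ω) := by
  let F : (A →ₐ[k] Ω) → ((k' ⊗[k] A) →ₐ[k'] Ω) :=
    fun φ => Algebra.TensorProduct.lift (Algebra.ofId k' Ω) φ (fun _ _ => Commute.all _ _)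
  let G : ((k' ⊗[k] A) →ₐ[k'] Ω) → (A →ₐ[k] Ω) :=
    fun ψ => (ψ.restrictScalars k).comp Algebra.TensorProduct.includeRight
  have hGF : ∀ φ, G (F φ) = φ := by
    intro φ
    apply AlgHom.ext; intro a
    simp [F, G]
  have hFG : ∀ ψ, F (G ψ) = ψ := by
    intro ψ
    apply AlgHom.ext; intro z
    induction z using TensorProduct.induction_on with
    | zero => simp
    | tmul c a =>
      simp only [F, G, Algebra.TensorProduct.lift_tmul, Algebra.ofId_apply, AlgHom.comp_apply,
        AlgHom.restrictScalars_apply, Algebra.TensorProduct.includeRight_apply]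
      rw [← ψ.commutes, ← map_mul]
      congr 1
      simp [Algebra.TensorProduct.algebraMap_apply]
    | add x y hx hy => rw [map_add, map_add, hx, hy]
  exact Nat.card_congr ⟨F, G, hGF, hFG⟩

end

theorem card_sigma (k' : Type u) [Field k'] (B : Type u) [CommRing B] [Algebra k' B]
    [IsArtinianRing B] (Ω : Type u) [Field Ω] [Algebra k' Ω] :
    Nat.card (B →ₐ[k'] Ω) =
      Nat.card (Σ m : MaximalSpectrum B, (m.asIdeal.ResidueField →ₐ[k'] Ω)) := by
  let Θ : (Σ m : MaximalSpectrum B, (m.asIdeal.ResidueField →ₐ[k'] Ω)) → (B →ₐ[k'] Ω) :=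
    fun p => p.2.comp (IsScalarTower.toAlgHom k' B p.1.asIdeal.ResidueField)
  have hker : ∀ (m : MaximalSpectrum B) (φ : m.asIdeal.ResidueField →ₐ[k'] Ω),
      RingHom.ker (Θ ⟨m, φ⟩) = m.asIdeal := by
    intro m φ
    ext x
    rw [RingHom.mem_ker]
    show φ (algebraMap B m.asIdeal.ResidueField x) = 0 ↔ x ∈ m.asIdeal
    rw [map_eq_zero, ← RingHom.mem_ker, Ideal.ker_algebraMap_residueField]
  have hΘ : Function.Bijective Θ := by
    constructor
    · rintro ⟨m₁, φ₁⟩ ⟨m₂, φ₂⟩ h
      have hm : m₁ = m₂ := by
        apply MaximalSpectrum.ext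
        rw [← hker m₁ φ₁, ← hker m₂ φ₂, h]
      subst hm
      have hφ : φ₁ = φ₂ := Ideal.ResidueField.algHom_ext h
      rw [hφ]
    · intro ψ
      haveI hp : (RingHom.ker ψ).IsPrime := RingHom.ker_isPrime ψ
      haveI hmax : (RingHom.ker ψ).IsMaximal := IsArtinianRing.isMaximal_of_isPrime _
      let m : MaximalSpectrum B := ⟨RingHom.ker ψ, hmax⟩
      let φ : m.asIdeal.ResidueField →ₐ[k'] Ω :=
        Ideal.ResidueField.liftₐ m.asIdeal ψ (fun x hx => hx) (by
          intro x hx
          show IsUnit (ψ x)
          rw [isUnit_iff_ne_zero]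
          exact fun h0 => hx (RingHom.mem_ker.2 h0))
      exact ⟨⟨m, φ⟩, Ideal.ResidueField.liftₐ_comp_toAlgHom _ _ _ _⟩
  exact (Nat.card_congr (Equiv.ofBijective Θ hΘ)).symm

theorem main (k A k' : Type u) [Field k] [CommRing A] [Algebra k A]
    [Module.Finite k A] [IsLocalRing A] [Field k'] [Algebra k k'] :
    Field.finSepDegree k (IsLocalRing.ResidueField A) =
      ∑ᶠ m : MaximalSpectrum (k' ⊗[k] A),
        Field.finSepDegree k' (IsLocalRing.ResidueField (Localization.AtPrime m.asIdeal)) := by
  classical
  haveI : IsArtinianRing A := IsArtinianRing.of_finite k A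
  haveI : IsArtinianRing (k' ⊗[k] A) := IsArtinianRing.of_finite k' (k' ⊗[k] A)
  haveI : Module.Finite k (IsLocalRing.ResidueField A) :=
    Module.Finite.of_surjective
      (IsScalarTower.toAlgHom k A (IsLocalRing.ResidueField A)).toLinearMap
      (by
        intro y
        obtain ⟨a, rfl⟩ := IsLocalRing.residue_surjective y
        exact ⟨a, by simp [IsLocalRing.ResidueField.algebraMap_eq]⟩)
  have hfin : ∀ m : MaximalSpectrum (k' ⊗[k] A), Module.Finite k' m.asIdeal.ResidueField := by
    intro m
    haveI := m.isMaximal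
    exact Module.Finite.of_surjective
      (IsScalarTower.toAlgHom k' (k' ⊗[k] A) m.asIdeal.ResidueField).toLinearMap
      (by
        intro y
        obtain ⟨a, rfl⟩ := Ideal.algebraMap_residueField_surjective m.asIdeal y
        exact ⟨a, rfl⟩)
  haveI := Fintype.ofFinite (MaximalSpectrum (k' ⊗[k] A))
  rw [finsum_eq_sum_of_fintype]
  rw [Field.finSepDegree_eq_of_isAlgClosed k (IsLocalRing.ResidueField A) (AlgebraicClosure k'),
    card_residue, card_baseChange k A k' (AlgebraicClosure k'),
    card_sigma k' (k' ⊗[k] A) (AlgebraicClosure k')]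
  haveI : ∀ m : MaximalSpectrum (k' ⊗[k] A),
      Finite (m.asIdeal.ResidueField →ₐ[k'] AlgebraicClosure k') := fun m => by
    haveI := hfin m; infer_instance
  rw [Nat.card_sigma]
  refine Finset.sum_congr rfl fun m _ => ?_
  haveI := hfin m
  exact (Field.finSepDegree_eq_of_isAlgClosed k' m.asIdeal.ResidueField (AlgebraicClosure k')).symm

end Aux

open TensorProduct in
/-- Let k be a field, A a finite-dimensional local k-algebra with residue field κ, and k' a field
extension of k. Then the separable degree of κ over k equals the sum over the maximal ideals m' of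
k' ⊗_k A (the points of the base-changed finite scheme lying over the given point) of the separable
degrees over k' of their residue fields. -/
theorem result (k A k' : Type u) [Field k] [CommRing A] [Algebra k A]
    [Module.Finite k A] [IsLocalRing A] [Field k'] [Algebra k k'] :
    Field.finSepDegree k (IsLocalRing.ResidueField A) =
      ∑ᶠ m : MaximalSpectrum (k' ⊗[k] A),
        Field.finSepDegree k' (IsLocalRing.ResidueField (Localization.AtPrime m.asIdeal)) := by
  exact Aux.main k A k'

end Groth.Agent.S10863
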