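import Groth.Statements.S10865
import Groth.Agent.Lib.R2H2DevJ

set_option autoImplicit false
universe u
open Coherent

namespace Groth.Agent.S10865

open CategoryTheory CategoryTheory.Limits AlgebraicGeometry in
/-- Let X be a nonempty Noetherian scheme and K an isomorphism-closed class of O_X-modules such that (a)
in a short exact sequence of coherent modules, if the middle and right terms lie in K so does the
left one, and if the two outer terms lie in K so does the middle one; (b) if a coherent F has some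
d-fold direct sum (d ≥ 1) in K then F lies in K. If for every integral closed subscheme i : Z → X
there is a coherent O_Z-module with nonzero stalk at the generic point whose direct image under i
lies in K, then every coherent O_X-module lies in K. (For the empty scheme the hypotheses hold for
the empty class, so X is taken nonempty here.) -/
theorem result (X : Scheme.{u}) [IsNoetherian X] [Nonempty X]
    (K : ObjectProperty X.Modules) [K.IsClosedUnderIsomorphisms]
    (ha : ∀ S : ShortComplex X.Modules, S.ShortExact → Coh.IsCoh S.X₁ → Coh.IsCoh S.X₂ → Coh.IsCoh S.X₃ →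
      (K S.X₂ → K S.X₃ → K S.X₁) ∧ (K S.X₁ → K S.X₃ → K S.X₂))
    (hb : ∀ (F : X.Modules) (d : ℕ), 1 ≤ d → Coh.IsCoh F → K (∐ fun _ : Fin d => F) → K F)
    (hgen : ∀ (Z : Scheme.{u}) (i : Z ⟶ X) [IsClosedImmersion i] [IsIntegral Z],
      ∃ H : Z.Modules, Coh.IsCoh H ∧ Nontrivial (H.presheaf.stalk (genericPoint Z)) ∧
        K ((Scheme.Modules.pushforward i).obj H))
    (F : X.Modules) (hF : Coh.IsCoh F) : K F := by
  classical
  obtain ⟨x₀⟩ := ‹Nonempty X›
  obtain ⟨W₀, i₀, hi₀, hW₀, -, -⟩ := Groth.Agent.Lib.R2H2.DevD.exists_integral_closed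
    (closure {x₀}) isClosed_closure isIrreducible_singleton.closure x₀ rfl
  obtain ⟨H₀, cH₀, -, KG₀⟩ := hgen W₀ i₀
  have cG₀ := Groth.Agent.Lib.R2H2.ClosedPn.isCoh_push i₀ H₀ cH₀
  have h0 : ∀ M : X.Modules, IsZero M → K M := by
    intro M hM
    let S : ShortComplex X.Modules := ShortComplex.mk (0 : M ⟶ _) (𝟙 ((Scheme.Modules.pushforward i₀).obj H₀)) (by simp)
    have hS : S.ShortExact :=
      (ShortComplex.Splitting.ofIsZeroOfIsIso S hM
        (inferInstanceAs (IsIso (𝟙 ((Scheme.Modules.pushforward i₀).obj H₀))))).shortExact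
    exact (ha S hS (Groth.Agent.Lib.R2H2.KcohLoc.isCoh_of_isZero hM) cG₀ cG₀).1 KG₀ KG₀
  have hext : ∀ S : ShortComplex X.Modules, S.ShortExact → Coh.IsCoh S.X₁ → Coh.IsCoh S.X₂ →
      Coh.IsCoh S.X₃ → CohB1.support S.X₂ ⊆ Set.univ → K S.X₁ → K S.X₃ → K S.X₂ :=
    fun S hS c₁ c₂ c₃ _ => (ha S hS c₁ c₂ c₃).2
  refine Groth.Agent.Lib.R2H2.DevG.core2 (fun M => K M) h0 Set.univ hext ?_
    ⟨Set.univ, isClosed_univ⟩ (Set.subset_univ _) F hF (Set.subset_univ _)
  intro Y _ hne IH F hF hs hk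
  obtain ⟨y, V, hV, hyY, hyV, hYV⟩ :=
    Groth.Agent.Lib.R2H2.DevA.exists_generic_component (Y : Set X) Y.2 hne
  have hZY : closure {y} ⊆ (Y : Set X) :=
    Y.2.closure_subset_iff.2 (Set.singleton_subset_iff.2 hyY)
  obtain ⟨W, i, hi, hW, hrange, hgen'⟩ := Groth.Agent.Lib.R2H2.DevD.exists_integral_closed
    (closure {y}) isClosed_closure isIrreducible_singleton.closure y rfl
  subst hgen'
  obtain ⟨H, cH, hHnt, KG⟩ := hgen W i
  have cG := Groth.Agent.Lib.R2H2.ClosedPn.isCoh_push i H cH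
  have sG : CohB1.support ((Scheme.Modules.pushforward i).obj H) ⊆ (Y : Set X) :=
    (Groth.Agent.Lib.R2H2.DevE.support_push_subset i H).trans (hrange ▸ hZY)
  haveI := Groth.Agent.Lib.R2H2.DevA.finite_stalk F hF (i (genericPoint W))
  haveI := Groth.Agent.Lib.R2H2.DevA.finite_stalk _ cG (i (genericPoint W))
  have hGnt := Groth.Agent.Lib.R2H2.DevE.nontrivial_stalk_push i i.isClosedEmbedding.isEmbedding H
    (genericPoint W) hHnt
  obtain ⟨r, s, hs1, ⟨e⟩⟩ := Groth.Agent.Lib.R2H2.ResField.exists_equiv_pow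
    (F.presheaf.stalk (i (genericPoint W)))
    (((Scheme.Modules.pushforward i).obj H).presheaf.stalk (i (genericPoint W)))
    (Groth.Agent.Lib.R2H2.DevA.stalk_smul_eq_zero Y F hk _ V hV hyV hYV)
    (fun a ha g => Groth.Agent.Lib.R2H2.DevI.stalk_push_smul_eq_zero i H a ha g) hGnt
  obtain ⟨D, hyD, ⟨iso⟩⟩ := Groth.Agent.Lib.R2H2.DevA.exists_local_iso F _ hF cG
    (i (genericPoint W)) r s e
  have cFs := Groth.Agent.Lib.R2H2.StalkPow.isCoh_pow F hF s
  have cGr := Groth.Agent.Lib.R2H2.StalkPow.isCoh_pow _ cG r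
  obtain ⟨T, a, b, cT, ha', hb', hia, hib⟩ :=
    Groth.Agent.Lib.R2H2.DevG.exists_mono_graph _ _ cFs cGr D iso
  haveI := hb'
  haveI := hib
  have KGr : K (Groth.Agent.Lib.R2H2.StalkPow.pow ((Scheme.Modules.pushforward i).obj H) r) :=
    Groth.Agent.Lib.R2H2.DevC.prop_pow (fun M => K M) h0 Set.univ hext _ cG (Set.subset_univ _) KG r
  have sGr := (Groth.Agent.Lib.R2H2.DevA.support_pow ((Scheme.Modules.pushforward i).obj H) r).trans sG
  have KC : K (cokernel b) := Groth.Agent.Lib.R2H2.DevJ.prop_cokernel_of_IH (fun M => K M) Y IH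
    cT cGr sGr b D ⟨_, hyD, hyY⟩
  have KT : K T := by
    let S : ShortComplex X.Modules := ShortComplex.mk b (cokernel.π b) (cokernel.condition b)
    have hS : S.ShortExact :=
      { exact := ShortComplex.exact_cokernel b
        mono_f := inferInstanceAs (Mono b)
        epi_g := inferInstanceAs (Epi (cokernel.π b)) }
    exact (ha S hS cT cGr (Groth.Agent.Lib.R2H2.NilFilt.isCoh_cokernel cT cGr b)).1 KGr KC
  refine ⟨_, T, a, D, cFs, cT, ha', (Groth.Agent.Lib.R2H2.DevA.support_pow F s).trans hs, KT,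
    ?_, ⟨_, hyD, hyY⟩, hia⟩
  intro hK
  obtain ⟨eσ⟩ := Groth.Agent.Lib.R2H2.PowSigma.nonempty_pow_iso_sigma F s
  exact hb F s hs1 hF (K.prop_of_iso eσ hK)

end Groth.Agent.S10865
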