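import Groth.Statements.S10870
import Groth.Agent.Lib.H5bDetDim

set_option autoImplicit false
universe u
open CAlgX

namespace Groth.Agent.S10870

/-- For a field k and 0 ≤ r ≤ min(n, m), the affine determinantal scheme of n × m matrices of rank at
most r over k — the spectrum of the polynomial ring on the entries of the generic n × m matrix
modulo the ideal of its (r+1) × (r+1) minors — has dimension r(m + n − r). -/
theorem result (k : Type u) [Field k] (n m r : ℕ) (hr : r ≤ min n m) :
    ringKrullDim (MvPolynomial (Fin n × Fin m) k ⧸ CAlgX.minorIdeal (Matrix.of fun (i : Fin n) (j : Fin m) => (MvPolynomial.X (i, j) : MvPolynomial (Fin n × Fin m) k)) (r + 1)) =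
      ((r * (m + n - r) : ℕ) : WithBot ℕ∞) := by
  classical
  by_cases hcase : r + 1 ≤ m ∧ r + 1 ≤ n
  · have h := Groth.Agent.Lib.H5b.ringKrullDim_detRing_field k m n (r + 1) (by omega)
      hcase.1 hcase.2
    have e : (r + 1 - 1) * (n + m - (r + 1) + 1) = r * (m + n - r) := by
      rw [Nat.add_sub_cancel]
      congr 1
      omega
    rw [e] at h
    exact h
  · have hbot : CAlgX.minorIdeal (Matrix.of fun (i : Fin n) (j : Fin m) =>
        (MvPolynomial.X (i, j) : MvPolynomial (Fin n × Fin m) k)) (r + 1) = ⊥ := by
      unfold CAlgX.minorIdeal
      rw [Ideal.span_eq_bot]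
      rintro _ ⟨⟨a, b⟩, rfl⟩
      by_cases hm : r + 1 ≤ m
      · have hn : ¬ r + 1 ≤ n := fun hn => hcase ⟨hm, hn⟩
        have hninj : ¬ Function.Injective a := by
          intro hinj
          have := Fintype.card_le_of_injective a hinj
          simp at this
          omega
        rw [Function.Injective] at hninj
        push Not at hninj
        obtain ⟨s, t, hst, hne⟩ := hninj
        apply Matrix.det_zero_of_row_eq hne
        ext j
        simp [hst]
      · have hninj : ¬ Function.Injective b := by
          intro hinj
          have := Fintype.card_le_of_injective b hinj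
          simp at this
          omega
        rw [Function.Injective] at hninj
        push Not at hninj
        obtain ⟨s, t, hst, hne⟩ := hninj
        apply Matrix.det_zero_of_column_eq hne
        intro j
        simp [hst]
    rw [hbot, ringKrullDim_eq_of_ringEquiv (RingEquiv.quotientBot _),
      MvPolynomial.ringKrullDim_of_isNoetherianRing, ringKrullDim_eq_zero_of_field, zero_add]
    have hcard : Nat.card (Fin n × Fin m) = r * (m + n - r) := by
      rw [Nat.card_prod, Nat.card_fin, Nat.card_fin]
      have hr' : r = min n m := by omega
      rcases Nat.le_total n m with hnm | hnm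
      · rw [min_eq_left hnm] at hr'
        subst hr'
        congr 1
        omega
      · rw [min_eq_right hnm] at hr'
        subst hr'
        rw [Nat.add_sub_cancel_left, mul_comm]
    rw [hcard]

end Groth.Agent.S10870
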