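import Groth.Statements.S10896
import Groth.Agent.S12425

set_option autoImplicit false
universe u
open Cubic

namespace Groth.Agent.S10896

/-- Over an algebraically closed field of characteristic zero, a smooth cubic surface S = V_+(f) ⊂ P^3
which contains a line contains two disjoint lines (2-dimensional subspaces of k^4 on which f
vanishes and which intersect trivially). -/
theorem result (k : Type u) [Field k] [IsAlgClosed k] [CharZero k]
    (f : MvPolynomial (Fin 4) k) (hf : f.IsHomogeneous 3) (hf0 : f ≠ 0)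
    (hsm : ∀ v : Fin 4 → k, v ≠ 0 → MvPolynomial.eval v f = 0 →
      ∃ i : Fin 4, MvPolynomial.eval v (MvPolynomial.pderiv i f) ≠ 0)
    (hL : ∃ U : Submodule k (Fin 4 → k), (Module.finrank k ↥U = 2 ∧ ∀ u ∈ U, MvPolynomial.eval u f = 0)) :
    ∃ U₁ U₂ : Submodule k (Fin 4 → k), (Module.finrank k ↥U₁ = 2 ∧ ∀ u ∈ U₁, MvPolynomial.eval u f = 0) ∧ (Module.finrank k ↥U₂ = 2 ∧ ∀ u ∈ U₂, MvPolynomial.eval u f = 0) ∧ U₁ ⊓ U₂ = ⊥ := by
  classical
  obtain ⟨L, hL2, hLS⟩ := hL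
  have h5 := Groth.Agent.S12425.result k f hf hf0 hsm L hL2 hLS
  have hfin : Set.Finite {H : Submodule k (Fin 4 → k) | Module.finrank k ↥H = 3 ∧ L ≤ H ∧
      ∃ L' L'' : Submodule k (Fin 4 → k), Module.finrank k ↥L' = 2 ∧ Module.finrank k ↥L'' = 2 ∧
        L' ≠ L ∧ L'' ≠ L ∧ L' ≠ L'' ∧ L' ≤ H ∧ L'' ≤ H ∧
        (∀ u ∈ L', MvPolynomial.eval u f = 0) ∧ (∀ u ∈ L'', MvPolynomial.eval u f = 0)} :=
    Set.finite_of_ncard_ne_zero (by rw [h5]; norm_num)
  obtain ⟨H₁, H₂, hH₁, hH₂, hne⟩ := (Set.one_lt_ncard_iff hfin).mp (by rw [h5]; norm_num)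
  obtain ⟨hd₁, hLH₁, U₁, -, hU₁2, -, hU₁L, -, -, hU₁H, -, hU₁S, -⟩ := hH₁
  obtain ⟨hd₂, hLH₂, U₂, -, hU₂2, -, hU₂L, -, -, hU₂H, -, hU₂S, -⟩ := hH₂
  refine ⟨U₁, U₂, ⟨hU₁2, hU₁S⟩, ⟨hU₂2, hU₂S⟩, ?_⟩
  by_contra hbot
  obtain ⟨v, hv, hv0⟩ := Submodule.exists_mem_ne_zero_of_ne_bot hbot
  have hvU₁ : v ∈ U₁ := (Submodule.mem_inf.mp hv).1
  have hvU₂ : v ∈ U₂ := (Submodule.mem_inf.mp hv).2
  -- the sum of a line and a different line is the plane
  have hsup : ∀ (H U : Submodule k (Fin 4 → k)), Module.finrank k ↥H = 3 → L ≤ H → U ≤ H →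
      Module.finrank k ↥U = 2 → U ≠ L → L ⊔ U = H := by
    intro H U hH hLH hUH hU hUL
    apply Submodule.eq_of_le_of_finrank_le (sup_le hLH hUH)
    rw [hH]
    by_contra hlt
    have h1 : Module.finrank k ↥(L ⊔ U) ≤ 2 := by omega
    have h2 : L = L ⊔ U := Submodule.eq_of_le_of_finrank_le le_sup_left (by rw [hL2]; exact h1)
    have h3 : U ≤ L := by rw [h2]; exact le_sup_right
    exact hUL (Submodule.eq_of_le_of_finrank_le h3 (by rw [hL2, hU]))
  -- `H₁ ⊓ H₂ = L`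
  have hinf : H₁ ⊓ H₂ = L := by
    symm
    apply Submodule.eq_of_le_of_finrank_le (le_inf hLH₁ hLH₂)
    rw [hL2]
    have h1 := Submodule.finrank_sup_add_finrank_inf_eq H₁ H₂
    rw [hd₁, hd₂] at h1
    have h2 : 4 ≤ Module.finrank k ↥(H₁ ⊔ H₂) := by
      by_contra hlt
      have h3 : H₁ = H₁ ⊔ H₂ :=
        Submodule.eq_of_le_of_finrank_le le_sup_left (by rw [hd₁]; omega)
      have h4 : H₂ ≤ H₁ := by rw [h3]; exact le_sup_right
      exact hne (Submodule.eq_of_le_of_finrank_le h4 (by rw [hd₁, hd₂])).symm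
    omega
  have hvL : v ∈ L := by
    rw [← hinf]
    exact Submodule.mem_inf.mpr ⟨hU₁H hvU₁, hU₂H hvU₂⟩
  obtain ⟨i, hi⟩ := hsm v hv0 (hLS v hvL)
  -- the tangent plane
  let φ : (Fin 4 → k) →ₗ[k] k :=
    { toFun := fun u => Groth.Agent.Lib.H6xCubicForm.D f v u
      map_add' := fun u w => Groth.Agent.Lib.H6xCubicForm.D_add_right f v u w
      map_smul' := fun c u => by
        rw [Groth.Agent.Lib.H6xCubicForm.D_smul_right]
        rfl }
  have hφ : φ ≠ 0 := by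
    intro h0
    have h1 : φ (Pi.single i 1) = 0 := by rw [h0]; rfl
    apply hi
    have h2 : φ (Pi.single i 1) = MvPolynomial.eval v (MvPolynomial.pderiv i f) := by
      show Groth.Agent.Lib.H6xCubicForm.D f v (Pi.single i 1) = _
      unfold Groth.Agent.Lib.H6xCubicForm.D
      rw [Finset.sum_eq_single i]
      · simp
      · intro j _ hji
        simp [Pi.single_eq_of_ne hji]
      · intro h
        exact absurd (Finset.mem_univ i) h
    rw [← h2, h1]
  have hker : Module.finrank k ↥(LinearMap.ker φ) = 3 := by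
    have h1 := LinearMap.finrank_range_add_finrank_ker φ
    have h2 : LinearMap.range φ = ⊤ := by
      rw [LinearMap.range_eq_top]
      exact (LinearMap.surjective_or_eq_zero φ).resolve_right hφ
    rw [h2, finrank_top, Module.finrank_self, Module.finrank_fin_fun] at h1
    omega
  have htan : ∀ M : Submodule k (Fin 4 → k), v ∈ M → (∀ u ∈ M, MvPolynomial.eval u f = 0) →
      M ≤ LinearMap.ker φ := by
    intro M hvM hMS u hu
    rw [LinearMap.mem_ker]
    exact (Groth.Agent.Lib.H6xTritangent.D_ab f hf v u (fun s t =>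
      hMS _ (M.add_mem (M.smul_mem s hvM) (M.smul_mem t hu)))).1
  have hT₁ : H₁ = LinearMap.ker φ := by
    apply Submodule.eq_of_le_of_finrank_le
    · rw [← hsup H₁ U₁ hd₁ hLH₁ hU₁H hU₁2 hU₁L]
      exact sup_le (htan L hvL hLS) (htan U₁ hvU₁ hU₁S)
    · rw [hd₁, hker]
  have hT₂ : H₂ = LinearMap.ker φ := by
    apply Submodule.eq_of_le_of_finrank_le
    · rw [← hsup H₂ U₂ hd₂ hLH₂ hU₂H hU₂2 hU₂L]
      exact sup_le (htan L hvL hLS) (htan U₂ hvU₂ hU₂S)
    · rw [hd₂, hker]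
  exact hne (hT₁.trans hT₂.symm)

end Groth.Agent.S10896
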