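import Groth.Statements.S10908
import Mathlib

set_option autoImplicit false
universe u
open ProjDeg

namespace Groth.Agent.S10908

namespace Aux
open AlgebraicGeometry TopologicalSpace Opposite

variable {R A : Type u} [CommRing R] [CommRing A] [Algebra R A] (𝒜 : ℕ → Submodule R A) [GradedAlgebra 𝒜]

lemma mk_eq_iff [IsDomain A] (P : Ideal A) [P.IsPrime] (a a' : A) (t t' : P.primeCompl) :
    (Localization.mk a t : Localization.AtPrime P) = Localization.mk a' t' ↔ a * t' = a' * t := by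
  rw [Localization.mk_eq_mk_iff, Localization.r_iff_exists]
  constructor
  · rintro ⟨c, hc⟩
    have hc0 : (c : A) ≠ 0 := fun h => c.2 (by rw [h]; exact P.zero_mem)
    have := mul_left_cancel₀ hc0 hc
    dsimp only at this
    linear_combination this
  · intro h
    refine ⟨1, ?_⟩
    simp only [Submonoid.coe_one, one_mul]
    linear_combination h

lemma homog_of_mul_eq [IsDomain A] {k j e : ℕ} {b a t c : A} (hb : b ∈ 𝒜 k) (ha : a ∈ 𝒜 (j + e))
    (ht : t ∈ 𝒜 j) (ht0 : t ≠ 0) (h : b * a = c * t) : c ∈ 𝒜 (k + e) := by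
  have h1 : b * a ∈ 𝒜 (k + e + j) := by
    have := SetLike.mul_mem_graded hb ha
    have e1 : k + (j + e) = k + e + j := by omega
    exact e1 ▸ this
  have h2 : (DirectSum.decompose 𝒜 (c * t) (k + e + j) : A)
      = (DirectSum.decompose 𝒜 c (k + e) : A) * t :=
    DirectSum.coe_decompose_mul_add_of_right_mem 𝒜 ht
  have h3 : (DirectSum.decompose 𝒜 (b * a) (k + e + j) : A) = b * a :=
    DirectSum.decompose_of_mem_same 𝒜 h1
  rw [h] at h3
  have h4 : (DirectSum.decompose 𝒜 c (k + e) : A) * t = c * t := h2.symm.trans h3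
  have h5 := mul_right_cancel₀ ht0 h4
  rw [← h5]
  exact SetLike.coe_mem _

lemma graded_le_irrelevant_pow (hgen : ∀ i : ℕ, 𝒜 1 * 𝒜 i = 𝒜 (i + 1)) (m k : ℕ) :
    ∀ x ∈ 𝒜 (m + k), x ∈ (HomogeneousIdeal.irrelevant 𝒜).toIdeal ^ m := by
  induction m with
  | zero => intro x _; simp
  | succ m ih =>
    intro x hx
    have e : m + 1 + k = (m + k) + 1 := by omega
    rw [e, ← hgen (m + k)] at hx
    have hle : 𝒜 1 * 𝒜 (m + k) ≤
        (((HomogeneousIdeal.irrelevant 𝒜).toIdeal ^ (m+1)).restrictScalars R) := by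
      rw [Submodule.mul_le]
      intro y hy z hz
      show y * z ∈ (HomogeneousIdeal.irrelevant 𝒜).toIdeal ^ (m+1)
      rw [pow_succ']
      exact Ideal.mul_mem_mul (HomogeneousIdeal.mem_irrelevant_of_mem 𝒜 Nat.one_pos hy) (ih z hz)
    exact hle hx

/-- generic point -/
def eta [IsDomain A] (h1 : 𝒜 1 ≠ ⊥) : ProjectiveSpectrum 𝒜 where
  asHomogeneousIdeal := ⊥
  isPrime := by
    rw [HomogeneousIdeal.toIdeal_bot]
    exact Ideal.isPrime_bot
  not_irrelevant_le := by
    intro hle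
    obtain ⟨f, hf, hf0⟩ := (Submodule.ne_bot_iff _).1 h1
    have : f ∈ (⊥ : HomogeneousIdeal 𝒜).toIdeal :=
      hle (HomogeneousIdeal.mem_irrelevant_of_mem 𝒜 Nat.one_pos hf)
    rw [HomogeneousIdeal.toIdeal_bot, Ideal.mem_bot] at this
    exact hf0 this

lemma eta_ideal [IsDomain A] (h1 : 𝒜 1 ≠ ⊥) : (eta 𝒜 h1).asHomogeneousIdeal.toIdeal = ⊥ :=
  HomogeneousIdeal.toIdeal_bot

lemma eta_mem_open [IsDomain A] (h1 : 𝒜 1 ≠ ⊥) (V : Opens (ProjectiveSpectrum.top 𝒜))
    (x : ProjectiveSpectrum.top 𝒜) (hx : x ∈ V) : eta 𝒜 h1 ∈ V := by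
  by_contra hη
  obtain ⟨s, hs⟩ := (ProjectiveSpectrum.isOpen_iff (𝒜 := 𝒜) V.1).1 V.2
  have h2 : eta 𝒜 h1 ∈ ProjectiveSpectrum.zeroLocus 𝒜 s := by
    rw [← hs]; exact hη
  rw [ProjectiveSpectrum.mem_zeroLocus] at h2
  have h3 : x ∈ ProjectiveSpectrum.zeroLocus 𝒜 s := by
    show s ⊆ (x : ProjectiveSpectrum 𝒜).asHomogeneousIdeal
    intro y hy
    have : y ∈ (eta 𝒜 h1).asHomogeneousIdeal.toIdeal := h2 hy
    rw [eta_ideal] at this
    rw [Ideal.mem_bot] at this
    rw [this]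
    exact x.asHomogeneousIdeal.toIdeal.zero_mem
  rw [← hs] at h3
  exact h3 hx

lemma local_rep [IsDomain A] (h1 : 𝒜 1 ≠ ⊥) (d : ℕ)
    (s : Twist.sectN (𝒜 := 𝒜) (d : ℤ) (op ⊤)) (x : ProjectiveSpectrum 𝒜) :
    ∃ (j : ℕ) (a t : A) (_ : a ∈ 𝒜 (j + d)) (_ : t ∈ 𝒜 j) (hx : t ∉ x.asHomogeneousIdeal)
      (hη : t ∉ (eta 𝒜 h1).asHomogeneousIdeal),
      (s.1 ⟨x, trivial⟩).1 = Localization.mk a ⟨t, hx⟩ ∧
      (s.1 ⟨eta 𝒜 h1, trivial⟩).1 = Localization.mk a ⟨t, hη⟩ := by
  obtain ⟨V, hxV, i, ia, ja, a, t, tnin, hdeg, hrep⟩ := s.2 ⟨x, trivial⟩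
  have hηV : eta 𝒜 h1 ∈ V := eta_mem_open 𝒜 h1 V x hxV
  rcases hdeg with hdeg | ha0
  · have e : ia = ja + d := by exact_mod_cast hdeg
    subst e
    exact ⟨ja, a.1, t.1, a.2, t.2, tnin ⟨x, hxV⟩, tnin ⟨eta 𝒜 h1, hηV⟩, hrep ⟨x, hxV⟩,
      hrep ⟨eta 𝒜 h1, hηV⟩⟩
  · refine ⟨ja, 0, t.1, zero_mem _, t.2, tnin ⟨x, hxV⟩, tnin ⟨eta 𝒜 h1, hηV⟩, ?_, ?_⟩
    · have := hrep ⟨x, hxV⟩
      rw [ha0] at this
      exact this
    · have := hrep ⟨eta 𝒜 h1, hηV⟩
      rw [ha0] at this
      exact this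

theorem main [IsDomain A] [IsNoetherianRing A]
    (hgen : ∀ i : ℕ, 𝒜 1 * 𝒜 i = 𝒜 (i + 1)) (h1 : 𝒜 1 ≠ ⊥) (hint : IsIntegrallyClosed A) (d : ℕ) :
    Function.Bijective (fun a : ↥(𝒜 d) => Twist.globalOf 𝒜 a) := by
  classical
  have hηtop : eta 𝒜 h1 ∈ (⊤ : Opens (ProjectiveSpectrum.top 𝒜)) := trivial
  constructor
  · intro a b hab
    have hab' : Twist.globalOf 𝒜 a = Twist.globalOf 𝒜 b := hab
    have h2 : ((Twist.globalOf 𝒜 a).1 ⟨eta 𝒜 h1, hηtop⟩).1 =
        ((Twist.globalOf 𝒜 b).1 ⟨eta 𝒜 h1, hηtop⟩).1 := by rw [hab']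
    change Localization.mk a.1 _ = Localization.mk b.1 _ at h2
    rw [mk_eq_iff] at h2
    simp only [mul_one] at h2
    exact Subtype.ext h2
  · intro s
    obtain ⟨j₀, a₀, t₀, ha₀, ht₀, -, hη₀, -, hrep₀⟩ := local_rep 𝒜 h1 d s (eta 𝒜 h1)
    have ht₀0 : t₀ ≠ 0 := by
      intro h
      apply hη₀
      rw [h]
      exact (eta 𝒜 h1).asHomogeneousIdeal.toIdeal.zero_mem
    -- cross relation at each point
    have hcross : ∀ x : ProjectiveSpectrum 𝒜, ∃ (a t : A) (hx : t ∉ x.asHomogeneousIdeal),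
        (s.1 ⟨x, trivial⟩).1 = Localization.mk a ⟨t, hx⟩ ∧ a * t₀ = a₀ * t := by
      intro x
      obtain ⟨j, a, t, ha, ht, hx, hη, hrx, hrη⟩ := local_rep 𝒜 h1 d s x
      refine ⟨a, t, hx, hrx, ?_⟩
      have := hrη.symm.trans hrep₀
      rw [mk_eq_iff] at this
      exact this
    -- the denominator ideal
    let I : Ideal A := Submodule.comap (LinearMap.mulRight A a₀) (Ideal.span {t₀})
    have hImem : ∀ b : A, b ∈ I ↔ ∃ c, c * t₀ = b * a₀ := by
      intro b
      show b * a₀ ∈ Ideal.span {t₀} ↔ _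
      rw [Ideal.mem_span_singleton']
    have hIhom : I.IsHomogeneous 𝒜 := by
      intro i b hb
      obtain ⟨c, hc⟩ := (hImem b).1 hb
      rw [hImem]
      refine ⟨(DirectSum.decompose 𝒜 c (i + d) : A), ?_⟩
      have e1 : (DirectSum.decompose 𝒜 (b * a₀) (i + (j₀ + d)) : A)
          = (DirectSum.decompose 𝒜 b i : A) * a₀ :=
        DirectSum.coe_decompose_mul_add_of_right_mem 𝒜 ha₀
      have e2 : (DirectSum.decompose 𝒜 (c * t₀) ((i + d) + j₀) : A)
          = (DirectSum.decompose 𝒜 c (i + d) : A) * t₀ :=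
        DirectSum.coe_decompose_mul_add_of_right_mem 𝒜 ht₀
      have e3 : i + (j₀ + d) = (i + d) + j₀ := by omega
      rw [← e2, ← e1, hc, e3]
    have hInot : ∀ x : ProjectiveSpectrum 𝒜, ¬ I ≤ x.asHomogeneousIdeal.toIdeal := by
      intro x hle
      obtain ⟨a, t, hx, -, hcr⟩ := hcross x
      apply hx
      apply hle
      rw [hImem]
      exact ⟨a, by linear_combination hcr⟩
    have hrad : (HomogeneousIdeal.irrelevant 𝒜).toIdeal ≤ I.radical := by
      rw [hIhom.radical_eq]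
      refine le_sInf ?_
      rintro J ⟨hJhom, hIJ, hJprime⟩
      by_contra hnot
      exact hInot ⟨⟨J, hJhom⟩, hJprime, fun h' => hnot (fun y hy => h' hy)⟩ hIJ
    obtain ⟨N', hN'⟩ := Ideal.exists_pow_le_of_le_radical_of_fg hrad (IsNoetherian.noetherian _)
    -- the integrality argument
    let K := FractionRing A
    let q : K := algebraMap A K a₀ / algebraMap A K t₀
    have ht₀K : algebraMap A K t₀ ≠ 0 := by
      intro h
      exact ht₀0 ((IsFractionRing.injective A K) (by rw [h, map_zero]))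
    let J : Ideal A := Ideal.span {b | ∃ k, N' ≤ k ∧ b ∈ 𝒜 k}
    let N : Submodule A K := Submodule.map (Algebra.linearMap A K) J
    have hgenJ : ∀ (k : ℕ) (b : A), N' ≤ k → b ∈ 𝒜 k →
        ∃ c, c ∈ 𝒜 (k + d) ∧ q * algebraMap A K b = algebraMap A K c := by
      intro k b hk hb
      have hbI : b ∈ I := by
        apply hN'
        have e : N' + (k - N') = k := by omega
        have hb' : b ∈ 𝒜 (N' + (k - N')) := by rw [e]; exact hb
        exact graded_le_irrelevant_pow 𝒜 hgen N' (k - N') b hb'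
      obtain ⟨c, hc⟩ := (hImem b).1 hbI
      refine ⟨c, homog_of_mul_eq 𝒜 hb ha₀ ht₀ ht₀0 hc.symm, ?_⟩
      show algebraMap A K a₀ / algebraMap A K t₀ * algebraMap A K b = algebraMap A K c
      rw [div_mul_eq_mul_div, div_eq_iff ht₀K, ← map_mul, ← map_mul, hc, mul_comm]
    have hx : ∀ n ∈ N, q • n ∈ N := by
      rintro n ⟨b, hb, rfl⟩
      induction hb using Submodule.span_induction with
      | mem b hb =>
        obtain ⟨k, hk, hbk⟩ := hb
        obtain ⟨c, hc, hqc⟩ := hgenJ k b hk hbk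
        show q * algebraMap A K b ∈ N
        rw [hqc]
        exact ⟨c, Ideal.subset_span ⟨k + d, by omega, hc⟩, rfl⟩
      | zero => simp
      | add x y _ _ hx hy =>
        rw [map_add, smul_add]
        exact add_mem hx hy
      | smul r x _ hx =>
        rw [map_smul, smul_comm]
        exact N.smul_mem r hx
    have hNbot : N ≠ ⊥ := by
      obtain ⟨f, hf, hf0⟩ := (Submodule.ne_bot_iff _).1 h1
      have hfN : f ^ N' ∈ 𝒜 N' := by
        have := SetLike.pow_mem_graded N' hf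
        simpa using this
      intro h
      have hmem : algebraMap A K (f ^ N') ∈ N :=
        ⟨f ^ N', Ideal.subset_span ⟨N', le_rfl, hfN⟩, rfl⟩
      rw [h, Submodule.mem_bot] at hmem
      exact pow_ne_zero N' hf0 ((IsFractionRing.injective A K) (by rw [hmem, map_zero]))
    have hNfg : N.FG := (IsNoetherian.noetherian J).map _
    have hqint : IsIntegral A q := isIntegral_of_smul_mem_submodule N hNbot hNfg q hx
    obtain ⟨c₀, hc₀⟩ := IsIntegrallyClosed.algebraMap_eq_of_integral hqint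
    have hc₀' : a₀ = c₀ * t₀ := by
      apply IsFractionRing.injective A K
      rw [map_mul, hc₀]
      show _ = algebraMap A K a₀ / algebraMap A K t₀ * algebraMap A K t₀
      rw [div_mul_cancel₀ _ ht₀K]
    have hc₀d : c₀ ∈ 𝒜 d := by
      have := homog_of_mul_eq 𝒜 (k := 0) (b := 1) SetLike.GradedOne.one_mem ha₀ ht₀ ht₀0
        (by rw [one_mul]; exact hc₀')
      simpa using this
    refine ⟨⟨c₀, hc₀d⟩, ?_⟩
    apply Subtype.ext
    funext x
    apply Subtype.ext
    obtain ⟨x, hx⟩ := x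
    obtain ⟨a, t, hxt, hrx, hcr⟩ := hcross x
    have hat : a = c₀ * t := by
      apply mul_right_cancel₀ ht₀0
      rw [hcr, hc₀']
      ring
    show Localization.mk c₀ _ = (s.1 ⟨x, hx⟩).1
    rw [show (s.1 ⟨x, hx⟩).1 = Localization.mk a ⟨t, hxt⟩ from hrx, mk_eq_iff]
    show c₀ * t = a * 1
    rw [hat, mul_one]

end Aux

/-- Let S be a Noetherian graded integral domain, graded by the natural numbers as an algebra over a
ring R, generated by its degree-one part over S_0 (S_1 S_i = S_{i+1}) with S_1 ≠ 0, and integrally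
closed in its field of fractions (so that X = Proj S is projectively normal). Then for every d ≥ 0
the canonical map from S_d to the global sections of the twisting sheaf O_X(d), sending a to the
section a/1, is bijective. (The underlying lemma: every global section of O_X(d) is an element of
the homogeneous fraction ring integral over S.) (The published corollary takes the degree-zero part
to be a finitely generated algebra over a field; this row assumes only that the ring is Noetherian,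
which is all the argument uses.) -/
theorem result {R A : Type u} [CommRing R] [CommRing A] [IsDomain A]
    [IsNoetherianRing A] [Algebra R A] (𝒜 : ℕ → Submodule R A) [GradedAlgebra 𝒜]
    (hgen : ∀ i : ℕ, 𝒜 1 * 𝒜 i = 𝒜 (i + 1)) (h1 : 𝒜 1 ≠ ⊥) (hint : IsIntegrallyClosed A) (d : ℕ) :
    Function.Bijective (fun a : ↥(𝒜 d) => Twist.globalOf 𝒜 a) := by
  exact Aux.main 𝒜 hgen h1 hint d

end Groth.Agent.S10908
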