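import Groth.Statements.S10931
import Groth.Agent.Lib.R2H2PnBott3
import Groth.Agent.S9705

set_option autoImplicit false
universe u
open CategoryTheory CategoryTheory.Limits AlgebraicGeometry
open ProjDual

namespace Groth.Agent.S10931

/-- Let k be a field, p ≤ r and q ≤ r natural numbers, P = P^r_k with structure map to Spec k, Ω =
Ω^1_{P/k} (the conormal sheaf of the diagonal), L an O_P-module which is a p-th exterior power of Ω
and L' one which is an (r − p)-th exterior power of Ω, and d an integer; write M(d) = M ⊗ O_P(d).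
Then H^q(P, L(d)) = H^q(P^r, Ω^p(d)) and H^{r−q}(P, L'(−d)) = H^{r−q}(P^r, Ω^{r−p}(−d)) have the
same dimension over k. (The published statement asserts an isomorphism between these two cohomology
groups, obtained from Serre duality; this row records the equality of dimensions.) -/
theorem result (k : Type u) [Field k] (r p q : ℕ)
    (hp : p ≤ r) (hq : q ≤ r) (L L' : (CohB1.ProjSpace r k).Modules)
    (hL : ExtPow.IsExtPow p (Omega.sheaf (CohB1.ProjSpace.toSpec r k)) L)
    (hL' : ExtPow.IsExtPow (r - p) (Omega.sheaf (CohB1.ProjSpace.toSpec r k)) L') (d : ℤ) :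
    Module.finrank k (Coh.HH (CohB1.ProjSpace r k) (CohB1.tensorMod L (Twist.twistProjSpace r k d)) q) =
      Module.finrank k (Coh.HH (CohB1.ProjSpace r k)
        (CohB1.tensorMod L' (Twist.twistProjSpace r k (-d))) (r - q)) := by
  haveI : IsProper (CohB1.ProjSpace.toSpec r k) := Groth.Agent.S9705.isProper_projSpace_toSpec r k
  haveI : QuasiSeparated (CohB1.ProjSpace.toSpec r k) := inferInstance
  have hp' : r - p ≤ r := Nat.sub_le r p
  rcases lt_trichotomy d 0 with hd | hd | hd
  · -- `d < 0`
    obtain ⟨e, he⟩ := Int.eq_ofNat_of_zero_le (by linarith : 0 ≤ -d)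
    have hd' : d = -(e : ℤ) := by linarith
    subst hd'
    have he1 : 1 ≤ e := by
      have : (0 : ℤ) < e := by linarith
      exact_mod_cast this
    rw [neg_neg]
    by_cases hqr : q = r
    · subst hqr
      rw [Groth.Agent.Lib.R2H2.PnBott.finrank_Hn_extPow k q hL hp e he1, Nat.sub_self,
        Groth.Agent.Lib.R2H2.PnBott.finrank_H0_extPow k q hL' hp' e he1]
      have h1 : e + q - (q - p) = e + p := by omega
      rw [h1]
    · rw [Groth.Agent.Lib.R2H2.PnBott.finrank_extPow_eq_zero k r hL (-(e : ℤ)) q ?_ ?_ ?_,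
        Groth.Agent.Lib.R2H2.PnBott.finrank_extPow_eq_zero k r hL' (e : ℤ) (r - q) ?_ ?_ ?_]
      · rintro ⟨h1, -⟩
        omega
      · rintro ⟨-, h2⟩
        have : ((r - p : ℕ) : ℤ) ≤ r := by exact_mod_cast hp'
        linarith
      · intro h0
        omega
      · rintro ⟨-, h2⟩
        have : (0 : ℤ) ≤ p := Int.natCast_nonneg _
        linarith
      · rintro ⟨h1, -⟩
        exact hqr h1
      · intro h0
        omega
  · -- `d = 0`
    subst hd
    rw [neg_zero]
    by_cases hqp : q = p
    · subst hqp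
      rw [Groth.Agent.Lib.R2H2.PnBott.finrank_Hp_extPow_zero k r hL hp,
        Groth.Agent.Lib.R2H2.PnBott.finrank_Hp_extPow_zero k r hL' hp']
    · rw [Groth.Agent.Lib.R2H2.PnBott.finrank_extPow_eq_zero k r hL 0 q ?_ ?_ ?_,
        Groth.Agent.Lib.R2H2.PnBott.finrank_extPow_eq_zero k r hL' 0 (r - q) ?_ ?_ ?_]
      · rintro ⟨-, h2⟩
        have : (0 : ℤ) ≤ ((r - p : ℕ) : ℤ) := Int.natCast_nonneg _
        linarith
      · rintro ⟨-, h2⟩
        have : ((r - p : ℕ) : ℤ) ≤ r := by exact_mod_cast hp'
        linarith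
      · intro _
        omega
      · rintro ⟨-, h2⟩
        have : (0 : ℤ) ≤ p := Int.natCast_nonneg _
        linarith
      · rintro ⟨-, h2⟩
        have : (p : ℤ) ≤ r := by exact_mod_cast hp
        linarith
      · intro _
        exact hqp
  · -- `d > 0`
    obtain ⟨e, he⟩ := Int.eq_ofNat_of_zero_le (by linarith : 0 ≤ d)
    subst he
    have he1 : 1 ≤ e := by
      have : (0 : ℤ) < e := hd
      exact_mod_cast this
    by_cases hq0 : q = 0
    · subst hq0
      rw [Groth.Agent.Lib.R2H2.PnBott.finrank_H0_extPow k r hL hp e he1, Nat.sub_zero,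
        Groth.Agent.Lib.R2H2.PnBott.finrank_Hn_extPow k r hL' hp' e he1]
      have h1 : e + (r - p) = e + r - p := by omega
      have h2 : r - (r - p) = p := by omega
      rw [h1, h2]
    · rw [Groth.Agent.Lib.R2H2.PnBott.finrank_extPow_eq_zero k r hL (e : ℤ) q ?_ ?_ ?_,
        Groth.Agent.Lib.R2H2.PnBott.finrank_extPow_eq_zero k r hL' (-(e : ℤ)) (r - q) ?_ ?_ ?_]
      · rintro ⟨-, h2⟩
        have : (0 : ℤ) ≤ ((r - p : ℕ) : ℤ) := Int.natCast_nonneg _
        linarith
      · rintro ⟨h1, -⟩
        omega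
      · intro h0
        omega
      · rintro ⟨h1, -⟩
        exact hq0 h1
      · rintro ⟨-, h2⟩
        have : (p : ℤ) ≤ r := by exact_mod_cast hp
        linarith
      · intro h0
        omega

end Groth.Agent.S10931
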