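import Groth.Statements.S10934
import Groth.Agent.Lib.R2H3DepthEmb
import Groth.Agent.Lib.H9FreeFib
import Groth.Agent.Lib.Helper4FibDimL

set_option autoImplicit false
set_option linter.style.haveILetI false
universe u
open CategoryTheory CategoryTheory.Limits AlgebraicGeometry
open ProjDual

namespace Groth.Agent.S10934

/-- (a)⇔(b): let k be a field, i : X → P^N_k a closed immersion with X of dimension n, and write F(−q) =
F ⊗ i^*O(−q). Then X is an equidimensional Cohen–Macaulay scheme of dimension n — the local ring of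
X at every closed point is Cohen–Macaulay of Krull dimension n — if and only if for every finite
locally free O_X-module F (vector bundle) there is q₀ such that H^j(X, F(−q)) = 0 for all j < n and
all q ≥ q₀. -/
theorem result (k : Type u) [Field k] (N n : ℕ)
    {X : Scheme.{u}} (i : X ⟶ CohB1.ProjSpace N k) [IsClosedImmersion i] (hn : topologicalKrullDim ↥X = n) :
    (∀ x : X, IsClosed ({x} : Set ↥X) →
        LocCoh.IsCohenMacaulayLocalRing (X.presheaf.stalk x) ∧ ringKrullDim (X.presheaf.stalk x) = n) ↔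
      ∀ F : X.Modules, FlatMod.IsFinLocFree F → ∃ q₀ : ℕ, ∀ q : ℕ, q₀ ≤ q → ∀ j : ℕ, j < n →
        Subsingleton (Coh.HH X (CohB1.tensorMod F
          ((Scheme.Modules.pullback i).obj (Twist.twistProjSpace N k (-(q : ℤ))))) j) := by
  letI : X.Over (Spec (CommRingCat.of k)) := ⟨i ≫ CohB1.ProjSpace.toSpec N k⟩
  haveI : IsProper (X ↘ Spec (CommRingCat.of k)) := by
    haveI := Groth.Agent.S9705.isProper_projSpace_toSpec N k
    change IsProper (i ≫ CohB1.ProjSpace.toSpec N k)
    infer_instance
  haveI : IsLocallyNoetherian X :=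
    LocallyOfFiniteType.isLocallyNoetherian (X ↘ Spec (CommRingCat.of k))
  -- `depth ≥ n` at closed points implies Cohen–Macaulay of dimension `n`
  have key : ∀ x : X, (n : ℕ∞) ≤ LocCoh.depth (X.presheaf.stalk x) (X.presheaf.stalk x) →
      LocCoh.IsCohenMacaulayLocalRing (X.presheaf.stalk x) ∧
        ringKrullDim (X.presheaf.stalk x) = n := by
    intro x hx
    have h1 : ringKrullDim (X.presheaf.stalk x) ≤ (n : WithBot ℕ∞) := by
      rw [← hn]
      exact Groth.Agent.Lib.Helper4.FibDim.ringKrullDim_stalk_le_topologicalKrullDim X x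
    have h2 : ((LocCoh.depth (X.presheaf.stalk x) (X.presheaf.stalk x) : ℕ∞) : WithBot ℕ∞) ≤
        Module.supportDim (X.presheaf.stalk x) (X.presheaf.stalk x) :=
      Groth.Agent.Lib.Helper28.depth_le_supportDim
    rw [Module.supportDim_self_eq_ringKrullDim] at h2
    have h3 : ((n : ℕ∞) : WithBot ℕ∞) ≤
        ((LocCoh.depth (X.presheaf.stalk x) (X.presheaf.stalk x) : ℕ∞) : WithBot ℕ∞) :=
      WithBot.coe_le_coe.2 hx
    have h4 : ((n : ℕ∞) : WithBot ℕ∞) = (n : WithBot ℕ∞) := rfl
    have h5 : ringKrullDim (X.presheaf.stalk x) = (n : WithBot ℕ∞) :=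
      le_antisymm h1 (h4 ▸ h3.trans h2)
    refine ⟨{ supportDim_eq_depth := ?_ }, h5⟩
    rw [Module.supportDim_self_eq_ringKrullDim]
    exact le_antisymm (h5 ▸ h4 ▸ h3) h2
  constructor
  · intro hCM F hF
    have hFc : Coh.IsCoh F := Groth.Agent.Lib.R2H2.QProjK0.isCoh_of_isFinLocFree F hF
    haveI : F.IsQuasicoherent := hFc.1
    haveI : SheafOfModules.IsFiniteType (R := X.ringCatSheaf) F := hFc.2
    haveI : SheafOfModules.IsFinitePresentation (R := X.ringCatSheaf) F :=
      Groth.Agent.Lib.Helper2.LocFree.isFP_of_isFinLocFree F hF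
    rcases n with _ | n'
    · exact ⟨0, fun q _ j hj => absurd hj (Nat.not_lt_zero j)⟩
    · have hd : ∀ x : X, IsClosed ({x} : Set X) →
          ((n' + 1 : ℕ) : ℕ∞) ≤ LocCoh.depth (X.presheaf.stalk x) (F.presheaf.stalk x) := by
        intro x hcl
        obtain ⟨hcm, hdim⟩ := hCM x hcl
        have h1 := hcm.supportDim_eq_depth
        rw [Module.supportDim_self_eq_ringKrullDim, hdim] at h1
        have h2 : LocCoh.depth (X.presheaf.stalk x) (X.presheaf.stalk x) = ((n' + 1 : ℕ) : ℕ∞) := by
          have h3 : (((n' + 1 : ℕ) : ℕ∞) : WithBot ℕ∞) =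
              ((LocCoh.depth (X.presheaf.stalk x) (X.presheaf.stalk x) : ℕ∞) : WithBot ℕ∞) := h1
          exact (WithBot.coe_injective h3).symm
        haveI := Groth.Agent.Lib.Helper2.FibreCrit.finite_stalk F x
        haveI : Module.Free (X.presheaf.stalk x) (F.presheaf.stalk x) :=
          (Groth.Agent.Lib.H9FreeFib.isFinLocFree_iff_forall_free F).1 hF x
        have e := (Module.finBasis (X.presheaf.stalk x) (F.presheaf.stalk x)).equivFun
        have h4 := Groth.Agent.Lib.Helper28.idealDepth_congr e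
          (IsLocalRing.maximalIdeal (X.presheaf.stalk x))
        have h5 := Groth.Agent.Lib.Helper28.idealDepth_le_idealDepth_pi_fin
          (IsLocalRing.maximalIdeal (X.presheaf.stalk x)) (X.presheaf.stalk x)
          (Module.finrank (X.presheaf.stalk x) (F.presheaf.stalk x))
        change _ ≤ LocCoh.idealDepth (IsLocalRing.maximalIdeal (X.presheaf.stalk x))
          (F.presheaf.stalk x)
        rw [h4]
        refine le_trans (le_of_eq ?_) h5
        exact h2.symm
      obtain ⟨q₀, hq₀⟩ := (Groth.Agent.Lib.R2H3.DepthEmb.vanishing_iff_depth k N i F hFc n').2 hd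
      exact ⟨q₀, fun q hq j hj => hq₀ q hq j (Nat.lt_succ_iff.1 hj)⟩
  · intro h x hcl
    apply key x
    have hO : FlatMod.IsFinLocFree (Coh.structureModule X) :=
      Groth.Agent.Lib.R2H2.ProjOverPush.isFinLocFree_of_isInvertible
        (Groth.Agent.Lib.Helper23.TensorUnit.isInvertible_structureModule X)
    have hOc : Coh.IsCoh (Coh.structureModule X) :=
      Groth.Agent.Lib.R2H2.QProjK0.isCoh_of_isFinLocFree _ hO
    obtain ⟨q₀, hq₀⟩ := h _ hO
    rcases n with _ | n'
    · simp
    · have hd := (Groth.Agent.Lib.R2H3.DepthEmb.vanishing_iff_depth k N i _ hOc n').1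
        ⟨q₀, fun q hq j hj => hq₀ q hq j (Nat.lt_succ_of_le hj)⟩ x hcl
      have he : LocCoh.depth (X.presheaf.stalk x) (X.presheaf.stalk x) =
          LocCoh.depth (X.presheaf.stalk x) ((Coh.structureModule X).presheaf.stalk x) :=
        Groth.Agent.Lib.Helper28.idealDepth_congr
          (Groth.Agent.Lib.Helper23.UnitStalk.unitStalkEquiv x) _
      rw [he]
      exact hd

end Groth.Agent.S10934
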