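import Groth.Statements.S10940
import Groth.Agent.Lib.R2H3AffCoverDim

set_option autoImplicit false
universe u
open CategoryTheory CategoryTheory.Limits AlgebraicGeometry
open Variety

namespace Groth.Agent.S10940

/-- Let k be a field and X a quasi-projective variety over k of dimension r: an integral scheme with an
immersion j : X → P^n_k. Then X admits a cover by r + 1 affine open subschemes. (Consequently the
cohomology of every quasi-coherent O_X-module vanishes above degree r; that consequence is the
general vanishing above the number of affines in a cover and is not restated here. The published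
statement is for varieties over an algebraically closed field; the argument, r + 1 hypersurfaces
through the boundary of the closure of X, works over any field, so k is an arbitrary field here.) -/
theorem result (k : Type u) [Field k] (n r : ℕ)
    {X : Scheme.{u}} (j : X ⟶ CohB1.ProjSpace n k) [IsImmersion j] [IsIntegral X]
    (hX : topologicalKrullDim ↥X = r) :
    ∃ U : Fin (r + 1) → X.Opens, (∀ i, IsAffineOpen (U i)) ∧ ⨆ i, U i = ⊤ := by
  classical
  let S : Scheme.{u} := Spec (CommRingCat.of k)
  let p : CohB1.ProjSpace n k ⟶ S := CohB1.ProjSpace.toSpec n k
  have hp : IsProper p := Groth.Agent.S9705.isProper_projSpace_toSpec n k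
  have hSN : IsLocallyNoetherian S := inferInstance
  have hPN : IsLocallyNoetherian (CohB1.ProjSpace n k) := LocallyOfFiniteType.isLocallyNoetherian p
  have hPc : CompactSpace (CohB1.ProjSpace n k) := QuasiCompact.compactSpace_of_compactSpace p
  have hPNoeth : AlgebraicGeometry.IsNoetherian (CohB1.ProjSpace n k) := {}
  have hPsp : TopologicalSpace.NoetherianSpace (CohB1.ProjSpace n k) := inferInstance
  have hXsp : TopologicalSpace.NoetherianSpace X := j.isEmbedding.isInducing.noetherianSpace
  have hqcj : QuasiCompact j := inferInstance
  have h1 : RelAmple.IsRelAmple p (Twist.twistProjSpace n k 1) :=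
    (Groth.Agent.S4381.result _ _).2 (Groth.Agent.Lib.R2H3.VAmpleConv.isAmple_twistProjSpace_one n k)
  have h2 := Groth.Agent.S2359.result p j j.isEmbedding _ h1
  have hL : CohB1.IsAmple ((Scheme.Modules.pullback j).obj (Twist.twistProjSpace n k 1)) :=
    (Groth.Agent.S4381.result (j ≫ p) _).1 h2
  exact Groth.Agent.Lib.R2H3.AffCoverDim.exists_affine_cover_of_isAmple _ hL r hX

end Groth.Agent.S10940
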