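import Groth.Statements.S10947
import Groth.Agent.Lib.R2H2QProjK0
import Groth.Agent.Lib.R2H2PnMumford
import Groth.Agent.Lib.Helper23AffOpen3
import Groth.Agent.Lib.Helper23Restr2

set_option autoImplicit false
universe u
open CategoryTheory AlgebraicGeometry
open Coherent

namespace Groth.Agent.S10947

/-- Let k be a field and X a quasi-projective scheme over k, given with an immersion ι : X → P^N_k into
a projective space. If n is a natural number with H^i(X, E) = 0 for all finite locally free
O_X-modules E and all i > n, then H^i(X, F) = 0 for all coherent O_X-modules F (quasi-coherent of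
finite type) and all i > n. -/
theorem result
    (k : Type u) [Field k] (N : ℕ) {X : Scheme.{u}} (ι : X ⟶ CohB1.ProjSpace N k) [IsImmersion ι]
    (n : ℕ) (h : ∀ E : X.Modules, FlatMod.IsFinLocFree E → ∀ i : ℕ, n < i → Subsingleton (Coh.HH X E i))
    (F : X.Modules) (hF : Coh.IsCoh F) (i : ℕ) (hi : n < i) :
    Subsingleton (Coh.HH X F i) := by
  classical
  haveI : IsNoetherian (CohB1.ProjSpace N k) :=
    Groth.Agent.Lib.R2H2.QProjK0.isNoetherian_projSpace N k
  have hemb : Topology.IsEmbedding ι := ι.isEmbedding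
  haveI : TopologicalSpace.NoetherianSpace X := hemb.isInducing.noetherianSpace
  haveI : CompactSpace X := inferInstance
  haveI : IsLocallyNoetherian X := LocallyOfFiniteType.isLocallyNoetherian ι
  haveI : IsNoetherian X := {}
  have hX : KRR.HasEnoughLocFree X :=
    Groth.Agent.Lib.R2H2.QProjK0.hasEnoughLocFree_of_embedding N k ι hemb
  have hample : CohB1.IsAmple ((Scheme.Modules.pullback ι).obj (Twist.twistProjSpace N k 1)) :=
    Groth.Agent.Lib.Helper23.PB.isAmple_pullback_of_isEmbedding ι hemb _
      (Groth.Agent.Lib.R2H2.QProjK0.isAmple_twistProjSpace_one N k)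
  haveI hsep : X.IsSeparated := Groth.Agent.Lib.Helper23.SecTw.isSeparated_of_isAmple _ hample
  obtain ⟨t, U, hU, hcov⟩ : ∃ (t : ℕ) (W : Fin t → X.Opens), (∀ k, IsAffineOpen (W k)) ∧
      ⨆ k, W k = (⊤ : X.Opens) := by
    obtain ⟨s, hs, e⟩ := isCompact_iff_finite_and_eq_biUnion_affineOpens.mp
      (show IsCompact ((⊤ : X.Opens) : Set X) from isCompact_univ)
    have := hs.to_subtype
    obtain ⟨n, ⟨eq⟩⟩ := Finite.exists_equiv_fin s
    refine ⟨n, fun k => ((eq.symm k).1 : X.Opens), fun k => (eq.symm k).1.2, ?_⟩
    rw [e]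
    apply le_antisymm
    · refine iSup_le fun k => ?_
      exact le_iSup₂_of_le (eq.symm k).1 (eq.symm k).2 le_rfl
    · refine iSup₂_le fun i hi => ?_
      refine le_iSup_of_le (eq ⟨i, hi⟩) ?_
      simp
  have hd : ∀ V W : X.Opens, IsAffineOpen V → IsAffineOpen W → IsAffineOpen (V ⊓ W) := by
    intro V W hV hW
    have hdiag : IsAffineHom (Limits.pullback.diagonal (Limits.terminal.from X)) := inferInstance
    exact @IsAffineOpen.inf X hdiag V W hV hW
  -- descending induction on the degree
  have key : ∀ (j i : ℕ), t ≤ i + j → n < i → ∀ G : X.Modules, Coh.IsCoh G →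
      Subsingleton (Coh.HH X G i) := by
    intro j
    induction j with
    | zero =>
      intro i hti _ G hG
      haveI : Coh.IsQCoh G := hG.1
      exact Groth.Agent.Lib.Helper23.AffVanish.subsingleton_HH_of_cover t U hU hcov hd G i
        (by omega)
    | succ j ih =>
      intro i hti hni G hG
      obtain ⟨E, p, hE, hp⟩ := hX G hG
      haveI := hp
      have cE : Coh.IsCoh E := Groth.Agent.Lib.R2H2.QProjK0.isCoh_of_isFinLocFree E hE
      have cK : Coh.IsCoh (Limits.kernel p) := Groth.Agent.Lib.R2H2.PdSheaf.isCoh_kernel cE hG p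
      let S : ShortComplex X.Modules :=
        ShortComplex.mk (Limits.kernel.ι p) p (Limits.kernel.condition p)
      have hS : S.ShortExact := Groth.Agent.Lib.Helper17.Res.kernel_shortExact p
      have h1 : Subsingleton (Coh.HH X (Limits.kernel p) (i + 1)) :=
        ih (i + 1) (by omega) (by omega) _ cK
      have h2 : Subsingleton (Coh.HH X E i) := h E hE i hni
      refine ⟨fun a b => ?_⟩
      have hz : ∀ c : Coh.HH X G i, c = 0 := by
        intro c
        obtain ⟨x₂, hx₂⟩ := Groth.Agent.Lib.R2H2.HHLin.exact₃ S hS i c (Subsingleton.elim _ _)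
        rw [← hx₂, Subsingleton.elim x₂ 0, map_zero]
      rw [hz a, hz b]
  exact key t i (by omega) hi F hF

end Groth.Agent.S10947
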