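import Groth.Statements.S1108
import Groth.Agent.Lib.R2H2AmpleRes
import Groth.Agent.Lib.R2H2FinGenQC
import Groth.Agent.Lib.R2H4InvExists
set_option backward.isDefEq.respectTransparency.types false

set_option autoImplicit false
universe u
open CategoryTheory AlgebraicGeometry
open Perf

namespace Groth.Agent.S1108

/-- A scheme X admitting an ample invertible O_X-module has the resolution property: every
quasi-coherent O_X-module of finite type is a quotient of a finite locally free O_X-module. -/
theorem result (X : Scheme.{u}) (L : X.Modules) (hL : CohB1.IsAmple L) : PerfAux.HasResolutionProperty X := by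
  open Groth.Agent.Lib.R2H2.PnSerre in
  intro F hFq hFt
  haveI : F.IsQuasicoherent := hFq
  haveI : SheafOfModules.IsFiniteType (R := X.ringCatSheaf) F := hFt
  have hLn : ∀ n, PicF.IsInvertible (CohB1.tensorPow L n) := fun n =>
    Groth.Agent.Lib.Helper23.SecTw.isInvertible_tensorPow hL.1 n
  have hq : ∀ n, (CohB1.tensorMod F (CohB1.tensorPow L n)).IsQuasicoherent := fun n => by
    haveI : (CohB1.tensorPow L n).IsQuasicoherent :=
      Groth.Agent.Lib.Helper23.SecTw.isQuasicoherent_of_isInvertible _ (hLn n)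
    exact Groth.Agent.Lib.Helper23.TensorQCoh.isQuasicoherent_tensorMod F _
  have hft : ∀ n, SheafOfModules.IsFiniteType (R := X.ringCatSheaf)
      (CohB1.tensorMod F (CohB1.tensorPow L n)) := fun n => by
    haveI : (CohB1.tensorPow L n).IsQuasicoherent :=
      Groth.Agent.Lib.Helper23.SecTw.isQuasicoherent_of_isInvertible _ (hLn n)
    haveI : SheafOfModules.IsFiniteType (R := X.ringCatSheaf) (CohB1.tensorPow L n) :=
      Groth.Agent.Lib.R2H2.PnFinite.isFiniteType_of_isInvertible _ (hLn n)
    exact Groth.Agent.Lib.Helper23.TensorQCoh.isFiniteType_tensorMod F _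
  obtain ⟨n₀, hn₀⟩ := Groth.Agent.Lib.R2H2.FinGenQC.exists_finite_epi_twist L hL F hq hft
  obtain ⟨k, q, hqe⟩ := hn₀ n₀ le_rfl
  obtain ⟨N, hN, ⟨e⟩⟩ := Groth.Agent.Lib.R2H4InvExists.exists_inverse _ (hLn n₀)
  haveI := hqe
  haveI := Groth.Agent.Lib.R2H2.AmpleRes.epi_twR_map N hN q
  exact ⟨(twR N).obj (FlatMod.freeMod X k),
    (twR N).map q ≫ (Groth.Agent.Lib.R2H2.AmpleRes.cancelIso F (CohB1.tensorPow L n₀) N e).hom,
    Groth.Agent.Lib.R2H2.AmpleRes.isFinLocFree_twR_freeMod N hN k, epi_comp _ _⟩

end Groth.Agent.S1108
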