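import Groth.Statements.S11107
import Groth.Agent.Lib.Helper8RatCodim2

set_option autoImplicit false
universe u
open CategoryTheory AlgebraicGeometry
open Neron

namespace Groth.Agent.S11107

/-- Let R be a Dedekind domain, X → Spec R a smooth morphism, Y → Spec R a proper morphism, U ⊆ X a
dense open subscheme and f : U → Y a morphism over Spec R (a rational map X ⇢ Y over R). Then f
extends, over Spec R, to an open subscheme V ⊇ U of X such that every point of X outside V has a
local ring of Krull dimension at least 2: the locus where the rational map is undefined has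
codimension at least two. (The published statement assumes the rational map dominant; this row does
not.) -/
theorem result {R : Type u} [CommRing R] [IsDedekindDomain R]
    {X Y : Scheme.{u}} (pX : X ⟶ Spec (CommRingCat.of R)) (pY : Y ⟶ Spec (CommRingCat.of R))
    [Smooth pX] [IsProper pY] (U : X.Opens) (hU : Dense (U : Set X))
    (f : (U : Scheme.{u}) ⟶ Y) (hf : f ≫ pY = U.ι ≫ pX) :
    ∃ (V : X.Opens) (hUV : U ≤ V) (g : (V : Scheme.{u}) ⟶ Y),
      g ≫ pY = V.ι ≫ pX ∧ X.homOfLE hUV ≫ g = f ∧
      ∀ x : X, x ∉ V → (2 : WithBot ℕ∞) ≤ ringKrullDim (X.presheaf.stalk x) := by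
  haveI : IsLocallyNoetherian X := LocallyOfFiniteType.isLocallyNoetherian pX
  have hst := fun x => Groth.Agent.Lib.Helper8RatCodim2.stalk_normal_of_smooth pX x
  haveI : IsReduced X := by
    haveI : ∀ x : X, _root_.IsReduced (X.presheaf.stalk x) := fun x => by
      haveI := (hst x).1
      infer_instance
    exact isReduced_of_isReduced_stalk X
  have hval : ValuativeCriterion.Existence pY := by
    have h1 : UniversallyClosed pY := inferInstance
    rw [UniversallyClosed.eq_valuativeCriterion] at h1
    exact h1.1
  haveI : Y.IsSeparated :=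
    (HasAffineProperty.iff_of_isAffine (P := @IsSeparated) (f := pY)).mp inferInstance
  obtain ⟨V, hUV, g, hg1, hg2, hg3⟩ := Groth.Agent.Lib.Helper8RatCodim2.exists_extension pX pY hval
    (fun x => ¬ (2 : WithBot ℕ∞) ≤ ringKrullDim (X.presheaf.stalk x)) (by
      intro x hx
      obtain ⟨hd, hic⟩ := hst x
      exact ⟨inferInstance, hd,
        Groth.Agent.Lib.Helper8RatCodim2.valuationRing_of_dim_le_one _ hx⟩) U hU f hf
  exact ⟨V, hUV, g, hg1, hg2, fun x hx => by_contra fun h => hx (hg3 x h)⟩

end Groth.Agent.S11107
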