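import Groth.Statements.S11115
import Groth.Agent.Lib.H6xMVF
import Groth.Agent.Lib.H6xHasRD

set_option autoImplicit false
universe u
open CategoryTheory CategoryTheory.Limits AlgebraicGeometry
attribute [local instance] HasDerivedCategory.standard
open Perf

namespace Groth.Agent.S11115

/-- Let f : X ⟶ Y be a quasi-compact quasi-separated morphism of schemes and assume the unbounded
derived direct image Rf_* exists. If F in D(O_X) has cohomology sheaves vanishing below degree n,
then so has Rf_* F. (The published statement restricts F to complexes with quasi-coherent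
cohomology; this row allows any F.) -/
theorem result {X Y : Scheme.{u}} (f : X ⟶ Y) [QuasiCompact f] [QuasiSeparated f] [DCoh.HasRpush f]
    (F : DCoh.D X) (n : ℤ) [F.IsGE n] : ((DCoh.Rpush f).obj F).IsGE n := by
  haveI : IsGrothendieckAbelian.{u} X.Modules := Groth.Agent.Lib.H6xMV.isGrothendieckAbelian_modules
  obtain ⟨C, hC, ⟨e⟩⟩ := DerivedCategory.exists_iso_Q_obj_of_isGE F n
  obtain ⟨L, i, hi, hL, hLn⟩ :=
    CochainComplex.Plus.modelCategoryQuillen.exists_quasiIso_injective C n
  haveI : L.IsKInjective := CochainComplex.isKInjective_of_injective L n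
  let e' : DerivedCategory.Q.obj
      (((Scheme.Modules.pushforward f).mapHomologicalComplex (ComplexShape.up ℤ)).obj L) ≅
      (DCoh.Rpush f).obj F :=
    Groth.Agent.Lib.H6xMV.rdIso (Scheme.Modules.pushforward f) L ≪≫
      (DCoh.Rpush f).mapIso ((asIso (DerivedCategory.Q.map i)).symm ≪≫ e.symm)
  haveI : CochainComplex.IsStrictlyGE (((Scheme.Modules.pushforward f).mapHomologicalComplex
      (ComplexShape.up ℤ)).obj L) n := by
    rw [CochainComplex.isStrictlyGE_iff]
    intro k hk
    exact (Scheme.Modules.pushforward f).map_isZero (L.isZero_of_isStrictlyGE n k hk)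
  exact DerivedCategory.TStructure.t.isGE_of_iso e' n

end Groth.Agent.S11115
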