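import Groth.Statements.S11163
import Groth.Agent.Lib.R2H3QuotExtend
import Groth.Agent.Lib.R2H3ExtAffSec
import Groth.Agent.Lib.R2H2SheafHomExt
import Groth.Agent.Lib.R2H7InjDimBass
import Groth.Agent.Lib.H6xInjQcB
import Groth.Agent.Lib.H6xInjLocal
import Groth.Agent.Lib.Helper20OmegaUnr
set_option backward.isDefEq.respectTransparency.types false

set_option autoImplicit false
universe u
open CategoryTheory CategoryTheory.Limits AlgebraicGeometry
attribute [local instance] HasDerivedCategory.standard
open Coherent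


open Groth.Agent.Lib.Helper21.ModTensor Groth.Agent.Lib.Helper21.ModTensor2
  Groth.Agent.Lib.Helper21.ModTensor3 Groth.Agent.Lib.Helper21.ModTensor5
  Groth.Agent.Lib.Helper21.Dual in
/-- the prelude's sheaf Hom exists -/
theorem S11163_hasSheafHom {X : Scheme.{u}} (G : X.Modules) : DCoh.HasSheafHom G := by
  haveI : ModSite.HasSheafHom (O := X.sheaf) G :=
    Groth.Agent.Lib.Helper21.ExtShDelta.hasSheafHom _ _
  exact ((ModSite.sheafHomAdj (O := X.sheaf) G).ofNatIsoLeft
    ((brd X.sheaf).app G).symm).isLeftAdjoint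

section S11163Aux

attribute [local instance] Groth.Agent.Lib.Helper21.ExtShDelta.hasSheafHom

/-- sections over an affine open are injective when all `ℰxt^1(G, F)` vanish -/
theorem S11163_injective_sections {X : Scheme.{u}} [IsLocallyNoetherian X]
    [HasInjectiveResolutions (ModSite.Mod X.sheaf)] (F : X.Modules) [F.IsQuasicoherent]
    (h : ∀ G : X.Modules, Coh.IsCoh G →
      IsZero ((ModSite.extSh (O := X.sheaf) G 1).obj F))
    {U : X.Opens} (hU : IsAffineOpen U) : Module.Injective Γ(X, U) Γ(F, U) := by
  haveI : IsNoetherianRing Γ(X, U) := IsLocallyNoetherian.component_noetherian ⟨U, hU⟩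
  apply Module.Baer.injective
  apply Groth.Agent.Lib.R2H7.InjDimBass.baer_of_ext_one
  intro J
  let G := Groth.Agent.Lib.R2H3.QuotExtend.G hU J
  have hG : Coh.IsCoh G := Groth.Agent.Lib.R2H3.QuotExtend.isCoh_G hU J
  obtain ⟨eG⟩ := Groth.Agent.Lib.R2H3.QuotExtend.nonempty_sections_linearEquiv hU J
  obtain ⟨e⟩ := Groth.Agent.Lib.R2H3.ExtAffSec.nonempty_sections_linearEquiv_ext hU G F hG 1
  let E : X.Modules := (ModSite.extSh (O := X.sheaf) G 1).obj F
  haveI : Subsingleton Γ(E, U) :=
    Groth.Agent.Lib.Helper20.OmegaUnr.subsingleton_sections_of_isZero (h G hG) U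
  haveI : Subsingleton (Abelian.Ext.{u} (ModuleCat.of Γ(X, U) Γ(G, U))
      (ModuleCat.of Γ(X, U) Γ(F, U)) 1) := e.symm.toEquiv.subsingleton
  exact (Groth.Agent.Lib.R2H3.ExtAffSec.extCongrLeft Γ(X, U) eG.toModuleIso
    (ModuleCat.of Γ(X, U) Γ(F, U)) 1).symm.toEquiv.subsingleton

end S11163Aux

namespace Groth.Agent.S11163

/-- (i) ⇔ (iv): let X be a locally Noetherian scheme and F a quasi-coherent O_X-module. Then F is an
injective O_X-module if and only if the sheaf Ext¹_{O_X}(G, F) (the first right derived functor of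
the sheaf-Hom functor Hom_{O_X}(G, -), here the right adjoint of G ⊗ -) vanishes for every coherent
O_X-module G. (The binders asserting that G ⊗ - has a right adjoint, that this adjoint is additive
and that O_X-modules have injective resolutions always hold.) -/
theorem result {X : Scheme.{u}} [IsLocallyNoetherian X]
    [HasInjectiveResolutions X.Modules] (F : X.Modules) (hF : Coh.IsQCoh F) :
    Injective F ↔ ∀ (G : X.Modules) [DCoh.HasSheafHom G] [(DCoh.sheafHom G).Additive],
      Coh.IsCoh G → IsZero (((DCoh.sheafHom G).rightDerived 1).obj F) := by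
  haveI : F.IsQuasicoherent := hF
  letI : HasInjectiveResolutions (ModSite.Mod X.sheaf) := ‹HasInjectiveResolutions X.Modules›
  constructor
  · intro hI G _ _ _
    haveI := hI
    exact Functor.isZero_rightDerived_obj_injective_succ _ 0 F
  · intro h
    apply Groth.Agent.Lib.H6xInjLocal.injective_of_locally_injective
    intro x
    obtain ⟨_, ⟨U, hU, rfl⟩, hxU, -⟩ :=
      X.isBasis_affineOpens.exists_subset_of_mem_open (Set.mem_univ x) isOpen_univ
    haveI : IsNoetherianRing Γ(X, U) := IsLocallyNoetherian.component_noetherian ⟨U, hU⟩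
    refine ⟨U, hxU, ?_⟩
    apply Groth.Agent.Lib.H6xInjQc.injective_restrict_of_injective_sections hU F
    apply S11163_injective_sections F _ hU
    intro G hG
    haveI : DCoh.HasSheafHom G := S11163_hasSheafHom G
    haveI : ModSite.HasSheafHom (O := X.sheaf) G :=
      Groth.Agent.Lib.Helper21.ExtShDelta.hasSheafHom _ _
    have h1 := h G hG
    let e := Groth.Agent.Lib.Helper21.DerPost.natIsoRightDerived
      (Groth.Agent.Lib.R2H2.SheafHomExt.sheafHomIso G) 1
    exact h1.of_iso (e.app F).symm

end Groth.Agent.S11163
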