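import Groth.Statements.S11178
import Groth.Agent.Lib.H6xFtdC
import Groth.Agent.Lib.H6xUncB
import Groth.Agent.Lib.H6xBrgA

set_option autoImplicit false
universe u
open CategoryTheory
attribute [local instance] HasDerivedCategory.standard
open Dual

namespace Groth.Agent.S11178

/-- The affine form: let A be a Noetherian ring with a dualizing complex ω, and G a cochain complex of
A-modules whose cohomology modules are finite and vanish outside a bounded range of degrees, with
RHom_A(G, −) existing as a total right derived functor. Then G has finite Tor-dimension (G is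
isomorphic in D(A) to a bounded complex of flat modules) if and only if RHom_A(G, ω) has finite
injective dimension (is isomorphic in D(A) to a bounded complex of injective modules). -/
theorem result (A : Type u) [CommRing A] [IsNoetherianRing A] (ω : Dual.D A) (hω : Dual.IsDualizing A ω) (G : DRing.Cx A) [DRing.HasRHomCx G] (hfin : ∀ i : ℤ, Module.Finite A (Dual.HD A (DRing.toD G) i)) (hbdd : ∃ a b : ℤ, ∀ i : ℤ, (i < a ∨ b < i) → Subsingleton (Dual.HD A (DRing.toD G) i)) : DRing.HasFiniteTorDimCx A (DRing.toD G) ↔ DRing.HasFiniteInjDim A ((DRing.RHomCx G).obj ω) := by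
  haveI : DTen.HasLTen A := Groth.Agent.Lib.H6xUnc.hasLTen _
  haveI : DTen.HasLTen₃ A := Groth.Agent.Lib.H6xUnc.hasLTen₃ _
  haveI : DTen.IsSymMonoidal A := Groth.Agent.Lib.H6xUnc.isSymMonoidal _
  haveI : DTen.HasRHom A := Groth.Agent.Lib.H6xRH.hasRHom
  obtain ⟨e1⟩ := Groth.Agent.Lib.H6xBrg.nonempty_RHomCx_iso_RHomR G ω
  constructor
  · rintro ⟨lo, hi, hK⟩
    obtain ⟨aω, bω, -, -, hωinj⟩ := Groth.Agent.Lib.H6xBrg.exists_injAmp_of_isDualizing ω hω
    exact ⟨_, _, Groth.Agent.Lib.H6xFtd.hasInjAmp_of_iso e1.symm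
      (Groth.Agent.Lib.H6xFtd.hasInjAmp_RHom_of_torAmp hωinj (DRing.toD G) hK)⟩
  · rintro ⟨a', b', hW⟩
    obtain ⟨a, b, hab⟩ := hbdd
    obtain ⟨a₁, h⟩ := Groth.Agent.Lib.H6xFtd.hasTorAmp_of_injAmp_RHom ω hω (DRing.toD G) hfin a b hab
      (Groth.Agent.Lib.H6xFtd.hasInjAmp_of_iso e1 hW)
    exact ⟨a₁, b, h⟩

end Groth.Agent.S11178
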