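import Groth.Statements.S11187
import Groth.Agent.Lib.H6xTwD
import Groth.Agent.Lib.H6xUncB
import Groth.Agent.Lib.H6xRHb

set_option autoImplicit false
universe u
open CategoryTheory
attribute [local instance] HasDerivedCategory.standard
open Dual

namespace Groth.Agent.S11187

/-- Let A be a nonzero Noetherian ring, ω a dualizing complex for A, P and P' invertible A-modules
(finite locally free of rank one) and n, n' integers; assume the total left derived functors − ⊗^L_A
P and − ⊗^L_A P' exist on D(A). If (ω ⊗^L_A P)[n] and (ω ⊗^L_A P')[n'] are isomorphic in D(A), then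
n = n' and P is A-linearly isomorphic to P'. (The published statement is for a connected scheme; the
uniqueness does not need connectedness, only that A is nonzero, which is assumed here since over the
zero ring every shift of the zero object is zero.) -/
theorem result (A : Type u) [CommRing A] [IsNoetherianRing A] [Nontrivial A] (ω : Dual.D A) (hω : Dual.IsDualizing A ω) (P P' : Type u) [AddCommGroup P] [Module A P] [Module.Invertible A P] [AddCommGroup P'] [Module A P'] [Module.Invertible A P'] [DRing.HasLTensor A (ModuleCat.of A P)] [DRing.HasLTensor A (ModuleCat.of A P')] (n n' : ℤ) (h : Nonempty (((DRing.LTensor A (ModuleCat.of A P)).obj ω)⟦n⟧ ≅ ((DRing.LTensor A (ModuleCat.of A P')).obj ω)⟦n'⟧)) : n = n' ∧ Nonempty (P ≃ₗ[A] P') := by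
  haveI : DTen.HasLTen A := Groth.Agent.Lib.H6xUnc.hasLTen _
  haveI : DTen.HasLTen₃ A := Groth.Agent.Lib.H6xUnc.hasLTen₃ _
  haveI : DTen.IsSymMonoidal A := Groth.Agent.Lib.H6xUnc.isSymMonoidal _
  haveI : DTen.HasRHom A := Groth.Agent.Lib.H6xRH.hasRHom
  obtain ⟨e⟩ := Groth.Agent.Lib.H6xTw.nonempty_LTensor_iso (ModuleCat.of A P) ω
  obtain ⟨e'⟩ := Groth.Agent.Lib.H6xTw.nonempty_LTensor_iso (ModuleCat.of A P') ω
  obtain ⟨φ⟩ := h
  exact Groth.Agent.Lib.H6xTw.twist_unique P P' ω hω n n'
    ((shiftFunctor (Dual.D A) n).mapIso e.symm ≪≫ φ ≪≫ (shiftFunctor (Dual.D A) n').mapIso e')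

end Groth.Agent.S11187
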