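import Groth.Statements.S11231
import Mathlib


set_option autoImplicit false
universe u
open CategoryTheory MonoidalCategory CartesianMonoidalCategory MonObj GrpObj AlgebraicGeometry
open scoped TensorProduct
open AGF

namespace Groth.Agent.S11231

/-- cancellation of `1 ⊗ b` in `B ⊗[k] A` for a nonzero element `b` of a domain `A`. -/
lemma tmul_cancel {k : Type u} [Field k] {A : Type u} [CommRing A] [IsDomain A] [Algebra k A]
    (B : Type u) [CommRing B] [Algebra k B] (b : A) (hb : b ≠ 0) (s t : B ⊗[k] A)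
    (h : ((1 : B) ⊗ₜ[k] b) * s = ((1 : B) ⊗ₜ[k] b) * t) : s = t := by
  have hinj : Function.Injective (LinearMap.mulLeft k b) := by
    intro x y hxy
    exact mul_left_cancel₀ hb hxy
  have hinj' : Function.Injective (LinearMap.lTensor B (LinearMap.mulLeft k b)) :=
    Module.Flat.lTensor_preserves_injective_linearMap _ hinj
  have key : ∀ s : B ⊗[k] A, LinearMap.lTensor B (LinearMap.mulLeft k b) s =
      ((1 : B) ⊗ₜ[k] b) * s := by
    intro s
    induction s using TensorProduct.induction_on with
    | zero => simp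
    | tmul x y =>
      rw [LinearMap.lTensor_tmul, Algebra.TensorProduct.tmul_mul_tmul, _root_.one_mul]
      rfl
    | add x y hx hy => rw [map_add, hx, hy, mul_add]
  apply hinj'
  rw [key, key, h]

/-- a subalgebra of an integrally closed domain which is closed under exact division is
integrally closed. -/
lemma isIntegrallyClosed_of_div_mem {k A : Type u} [Field k] [CommRing A] [IsDomain A]
    [Algebra k A] [IsIntegrallyClosed A] (R : Subalgebra k A)
    (hR : ∀ a b : R, b ≠ 0 → ∀ x0 : A, (b : A) * x0 = (a : A) → x0 ∈ R) :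
    IsIntegrallyClosed R := by
  refine (isIntegrallyClosed_iff (FractionRing R)).2 ?_
  intro x hx
  have hginj : Function.Injective ((algebraMap A (FractionRing A)).comp R.val.toRingHom) :=
    (IsFractionRing.injective A (FractionRing A)).comp Subtype.val_injective
  obtain ⟨φ, hφ⟩ : ∃ φ : FractionRing R →+* FractionRing A,
      ∀ r : R, φ (algebraMap R (FractionRing R) r) = algebraMap A (FractionRing A) (r : A) :=
    ⟨IsFractionRing.lift hginj, fun r => IsFractionRing.lift_algebraMap hginj r⟩
  have hφinj : Function.Injective φ := φ.injective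
  have hint : IsIntegral A (φ x) := by
    obtain ⟨p, hp, hpx⟩ := hx
    refine ⟨p.map R.val.toRingHom, hp.map _, ?_⟩
    rw [Polynomial.eval₂_map]
    have h1 := congrArg φ hpx
    rw [Polynomial.hom_eval₂, map_zero] at h1
    have hcomp : φ.comp (algebraMap R (FractionRing R)) =
        (algebraMap A (FractionRing A)).comp R.val.toRingHom := RingHom.ext fun r => hφ r
    rw [hcomp] at h1
    exact h1
  obtain ⟨x0, hx0⟩ := IsIntegrallyClosed.isIntegral_iff.1 hint
  obtain ⟨a, b, hb, hab⟩ := IsFractionRing.div_surjective (A := R) x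
  have hb0 : b ≠ 0 := nonZeroDivisors.ne_zero hb
  have hbK : algebraMap R (FractionRing R) b ≠ 0 := by
    intro h
    exact hb0 ((IsFractionRing.injective R (FractionRing R)) (by rw [h, map_zero]))
  have hmul : (b : A) * x0 = (a : A) := by
    apply IsFractionRing.injective A (FractionRing A)
    rw [map_mul, hx0, ← hφ b, ← hφ a, ← map_mul, ← hab, mul_div_cancel₀ _ hbK]
  refine ⟨⟨x0, hR a b hb0 x0 hmul⟩, ?_⟩
  apply hφinj
  rw [hφ]
  exact hx0

/-- Let k an algebraically closed field, G a connected reductive linear algebraic group over k, B a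
Borel subgroup of G with unipotent radical U (a maximal unipotent subgroup), and let A be a
commutative k-algebra with a rational action of G by algebra automorphisms. If A is an integrally
closed domain then so is A^U. (The published statement is for A normal; its proof reduces to the
case of a domain, which is the case stated here.) -/
theorem result (k : Type u) [Field k] [IsAlgClosed k]
    (G : Over (Spec (CommRingCat.of k))) [GrpObj G] (hG : Red.IsReductiveOver k G)
    (Bo : Over (Spec (CommRingCat.of k))) [GrpObj Bo] (iB : Bo ⟶ G) (hB : Red.IsBorelOver k iB)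
    (U : Over (Spec (CommRingCat.of k))) [GrpObj U] (u : U ⟶ Bo) (hU : Par.IsUnipotentRadical u)
    (A : Type u) [CommRing A] [IsDomain A] [Algebra k A] [IsIntegrallyClosed A]
    (ρ : VecGrp.GMod G A) (hρ : ρ.IsMult) :
    IsIntegrallyClosed ↥(ρ.fixedSubalgebra hρ (u ≫ iB)) := by
  apply isIntegrallyClosed_of_div_mem
  intro a b hb0 x0 hmul
  have hb0' : (b : A) ≠ 0 := fun h => hb0 (Subtype.ext h)
  intro B _ _ h
  have h1 := b.2 B h
  have h2 := a.2 B h
  apply tmul_cancel B (b : A) hb0'
  have e : ((1 : B) ⊗ₜ[k] (b : A)) * ((1 : B) ⊗ₜ[k] x0) = (1 : B) ⊗ₜ[k] (a : A) := by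
    rw [Algebra.TensorProduct.tmul_mul_tmul, _root_.one_mul, hmul]
  calc ((1 : B) ⊗ₜ[k] (b : A)) * (ρ.ρ B (h ≫ u ≫ iB)) ((1 : B) ⊗ₜ[k] x0)
      = (ρ.ρ B (h ≫ u ≫ iB)) ((1 : B) ⊗ₜ[k] (b : A)) *
          (ρ.ρ B (h ≫ u ≫ iB)) ((1 : B) ⊗ₜ[k] x0) := by rw [h1]
    _ = (ρ.ρ B (h ≫ u ≫ iB)) (((1 : B) ⊗ₜ[k] (b : A)) * ((1 : B) ⊗ₜ[k] x0)) :=
        ((hρ B (h ≫ u ≫ iB)).1 _ _).symm
    _ = ((1 : B) ⊗ₜ[k] (b : A)) * ((1 : B) ⊗ₜ[k] x0) := by rw [e, h2]

end Groth.Agent.S11231
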