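import Groth.Statements.S11265
import Groth.Agent.Lib.H5bBitD

set_option autoImplicit false
universe u
open W4bk4grassmannian

namespace Groth.Agent.S11265

open W4bk4grassmannian in
/-- Standard monomial basis of a determinantal ring in bitableaux, which at the zero determinantal ideal
is the straightening basis of the polynomial ring: let K be an algebraically closed field, m, n ≥ 1,
1 ≤ t ≤ min(m, n) + 1, R = K[x_{ij}] the coordinate ring of m × n matrices, I_t the ideal of t × t
minors of the generic matrix. Order the minors of positive size by [A | B] ⪰ [A' | B'] when the size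
of [A | B] is at most that of [A' | B'] and a_j ≥ a'_j, b_j ≥ b'_j for every j below the size of [A
| B] (row and column indices listed increasingly). Then the classes in R/I_t of the products [A_1 |
B_1] ⋯ [A_k | B_k] (k ≥ 0) of minors of size at most t - 1 with [A_1 | B_1] ⪰ [A_2 | B_2] ⪰ ⋯ ⪰ [A_k
| B_k] are linearly independent over K and span R/I_t. -/
theorem result (K : Type u) [Field K] [IsAlgClosed K]
    (m n t : ℕ) (hm : 0 < m) (hn : 0 < n) (ht : 1 ≤ t) (htmn : t ≤ min m n + 1) :
    LinearIndependent K (fun c : (Σ k : ℕ, {c : Fin k → MinorIdx m n //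
        (∀ i, (c i).1 + 1 ≤ t - 1) ∧ ∀ i j, i < j → MinorGE (c i) (c j)}) =>
        Ideal.Quotient.mk (CAlgX.minorIdeal (genMatrix K m n) t)
          (Finset.univ.prod fun i => minorOf K (c.2.1 i))) ∧
      Submodule.span K (Set.range fun c : (Σ k : ℕ, {c : Fin k → MinorIdx m n //
        (∀ i, (c i).1 + 1 ≤ t - 1) ∧ ∀ i j, i < j → MinorGE (c i) (c j)}) =>
        Ideal.Quotient.mk (CAlgX.minorIdeal (genMatrix K m n) t)
          (Finset.univ.prod fun i => minorOf K (c.2.1 i))) = ⊤ := by
  have hinf : Infinite K := IsAlgClosed.instInfinite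
  by_cases hcase : t ≤ n ∧ t ≤ m
  · -- the determinantal Schubert variety
    have ht' : 0 < t := ht
    have hI := Groth.Agent.Lib.H5b.comap_minorIdeal_eq K n m t ht' hcase.1 hcase.2 hm
    have hsize : ∀ M : MinorIdx m n, M.1 + 1 ≤ t - 1 ↔
        Groth.Agent.Lib.H5b.thetaIdx M ≤ Groth.Agent.Lib.H5b.detIdx t ht' hcase.1 hcase.2 := by
      intro M
      rw [Groth.Agent.Lib.H5b.le_detIdx_iff, Groth.Agent.Lib.H5b.thetaIdx_val_lt_iff]
      have := Groth.Agent.Lib.H5b.idx_card_le M.2.2
      simp only
      omega
    exact Groth.Agent.Lib.H5b.bitableaux_basis K n m t hn hm _ hI hsize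
  · -- the polynomial ring
    have hbot := Groth.Agent.Lib.H5b.minorIdeal_eq_bot_of_lt K n m t hcase
    have hI : Ideal.comap (Groth.Agent.Lib.H5b.cellMap K n m)
        (CAlgX.minorIdeal (genMatrix K m n) t) =
        schubertVanishing K n (n + m)
            (Groth.Agent.Lib.H5b.topIdx (Nat.le_add_right n m)) ⊔
          Ideal.span {(MvPolynomial.X (Groth.Agent.Lib.H5b.cellBot n hm) - 1 :
            PlRing K n (n + m))} := by
      rw [hbot]
      exact Groth.Agent.Lib.H5b.comap_cellMap_bot_eq K n m hn hm
    have hsize : ∀ M : MinorIdx m n, M.1 + 1 ≤ t - 1 ↔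
        Groth.Agent.Lib.H5b.thetaIdx M ≤ Groth.Agent.Lib.H5b.topIdx (Nat.le_add_right n m) := by
      intro M
      have h1 := Groth.Agent.Lib.H5b.idx_card_le M.2.2
      have h2 := Groth.Agent.Lib.H5b.idx_card_le M.2.1
      constructor
      · intro _
        exact Groth.Agent.Lib.H5b.le_topIdx _ _
      · intro _
        have : t = min m n + 1 := by
          rcases Nat.le_total m n with h | h
          · rw [min_eq_left h] at htmn ⊢
            omega
          · rw [min_eq_right h] at htmn ⊢
            omega
        rw [this, Nat.add_sub_cancel]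
        exact le_min h2 h1
    exact Groth.Agent.Lib.H5b.bitableaux_basis K n m t hn hm _ hI hsize

end Groth.Agent.S11265
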