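import Groth.Statements.S11278
import Groth.Agent.S11277
import Mathlib

set_option autoImplicit false
universe u v
open W4bk4grassmannian

namespace Groth.Agent.S11278

open Polynomial

/-- The image in `R[1/s]` of an element of `R` is a polynomial in `s` with coefficients in the
homogeneous localization, when `s` has degree one. -/
lemma exists_aeval_eq {K : Type u} [Field K] {R : Type v} [CommRing R] [Algebra K R]
    (𝒜 : ℕ → Submodule K R) [GradedAlgebra 𝒜] (s : R) (hs : s ∈ 𝒜 1) (r : R) :
    ∃ p : (HomogeneousLocalization.Away 𝒜 s)[X],
      Polynomial.aeval (algebraMap R (Localization.Away s) s) p =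
        algebraMap R (Localization.Away s) r := by
  classical
  have key : ∀ (i : ℕ) (x : R), x ∈ 𝒜 i → ∃ p : (HomogeneousLocalization.Away 𝒜 s)[X],
      Polynomial.aeval (algebraMap R (Localization.Away s) s) p =
        algebraMap R (Localization.Away s) x := by
    intro i x hx
    have hx' : x ∈ 𝒜 (i • 1) := by simpa using hx
    refine ⟨Polynomial.C (HomogeneousLocalization.Away.mk 𝒜 hs i x hx') * Polynomial.X ^ i, ?_⟩
    rw [map_mul, map_pow, Polynomial.aeval_X, Polynomial.aeval_C,
      HomogeneousLocalization.algebraMap_apply, HomogeneousLocalization.Away.val_mk,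
      ← map_pow, Localization.mk_eq_mk']
    exact IsLocalization.mk'_spec _ x _
  rw [← DirectSum.sum_support_decompose 𝒜 r]
  have hsum : ∀ (t : Finset ℕ), ∃ p : (HomogeneousLocalization.Away 𝒜 s)[X],
      Polynomial.aeval (algebraMap R (Localization.Away s) s) p =
        algebraMap R (Localization.Away s) (∑ i ∈ t, ((DirectSum.decompose 𝒜 r) i : R)) := by
    intro t
    induction t using Finset.induction_on with
    | empty => exact ⟨0, by simp⟩
    | insert a t ha ih =>
      obtain ⟨p, hp⟩ := ih
      obtain ⟨q, hq⟩ := key a _ (SetLike.coe_mem ((DirectSum.decompose 𝒜 r) a))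
      refine ⟨q + p, ?_⟩
      rw [Finset.sum_insert ha, map_add, map_add, hp, hq]
  exact hsum _

/-- Unique factorization lifts from the homogeneous localization at a prime element of degree one, in
the generality of the published argument: let K be a field, R = ⊕_{i ≥ 0} R_i a Noetherian ℕ-graded
commutative K-algebra which is an integral domain, and s ∈ R_1 a homogeneous element of degree one
which is a prime element of R. If the homogeneous localization R_(s) (degree-zero part of R[1/s])
has unique factorization, then R is a unique factorization domain. (The published statement is the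
case where R is the homogeneous coordinate ring of a Schubert variety, s the Plücker coordinate of
the least index, which is a prime element there, and R_(s) the coordinate ring of the opposite
cell.) -/
theorem result (K : Type u) [Field K] (R : Type v)
    [CommRing R] [IsDomain R] [IsNoetherianRing R] [Algebra K R] (𝒜 : ℕ → Submodule K R) [GradedAlgebra 𝒜]
    (s : R) (hs : s ∈ 𝒜 1) (hp : Prime s)
    (h : UniqueFactorizationMonoid (HomogeneousLocalization.Away 𝒜 s)) :
    UniqueFactorizationMonoid R := by
  classical
  rw [UniqueFactorizationMonoid.iff_localizationAway_of_prime hp]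
  have hdomB : IsDomain (Localization.Away s) :=
    IsLocalization.Away.isDomain (Localization.Away s) hp.ne_zero
  have hdom0 : IsDomain (HomogeneousLocalization.Away 𝒜 s) :=
    Function.Injective.isDomain (algebraMap (HomogeneousLocalization.Away 𝒜 s) (Localization.Away s))
      (HomogeneousLocalization.val_injective _)
  have htr : Transcendental (HomogeneousLocalization.Away 𝒜 s)
      (algebraMap R (Localization.Away s) s) :=
    Groth.Agent.S11277.result K R 𝒜 1 one_pos s hs
  have hinj := transcendental_iff_injective.mp htr
  let _ : Algebra (HomogeneousLocalization.Away 𝒜 s)[X] (Localization.Away s) :=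
    (Polynomial.aeval (algebraMap R (Localization.Away s) s)).toRingHom.toAlgebra
  have halg : ∀ p : (HomogeneousLocalization.Away 𝒜 s)[X],
      algebraMap (HomogeneousLocalization.Away 𝒜 s)[X] (Localization.Away s) p =
        Polynomial.aeval (algebraMap R (Localization.Away s) s) p := fun _ => rfl
  have hloc : IsLocalization (Submonoid.powers (Polynomial.X : (HomogeneousLocalization.Away 𝒜 s)[X]))
      (Localization.Away s) := by
    rw [isLocalization_iff]
    refine ⟨?_, ?_, ?_⟩
    · rintro ⟨_, k, rfl⟩
      rw [halg, map_pow, Polynomial.aeval_X]
      exact (IsLocalization.Away.algebraMap_isUnit s).pow k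
    · intro z
      obtain ⟨r, ⟨_, k, rfl⟩, rfl⟩ := IsLocalization.exists_mk'_eq (Submonoid.powers s) z
      obtain ⟨p, hp'⟩ := exists_aeval_eq 𝒜 s hs r
      refine ⟨⟨p, ⟨Polynomial.X ^ k, k, rfl⟩⟩, ?_⟩
      rw [halg, halg, hp', map_pow, Polynomial.aeval_X, ← map_pow]
      exact IsLocalization.mk'_spec _ r _
    · intro x y hxy
      rw [halg, halg] at hxy
      exact ⟨1, by rw [hinj hxy]⟩
  exact UniqueFactorizationMonoid.of_isLocalization
    (Submonoid.powers (Polynomial.X : (HomogeneousLocalization.Away 𝒜 s)[X])) (Localization.Away s)

end Groth.Agent.S11278
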