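import Groth.Statements.S11282
import Mathlib

set_option autoImplicit false
universe u
open Deform

namespace Groth.Agent.S11282

namespace Aux

open IsLocalRing

variable {Λ : Type u} [CommRing Λ] {R : Type u} [CommRing R] [Algebra Λ R] [IsLocalRing R]

section Ext
variable (X : Exal.Ext Λ R (ResidueField R))

lemma mul_ker_eq_zero {e κ : X.E} (he : X.proj e ∈ maximalIdeal R) (hκ : X.proj κ = 0) :
    e * κ = 0 := by
  obtain ⟨z, rfl⟩ := (X.isExtension.exact κ).1 hκ
  rw [X.isExtension.mul_incl]
  have : X.proj e • z = 0 := by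
    rw [Algebra.smul_def, IsLocalRing.ResidueField.algebraMap_eq, (residue_eq_zero_iff _).2 he,
      zero_mul]
  rw [this, map_zero]

/-- preimage of the maximal ideal -/
noncomputable def ME : Ideal X.E := Ideal.comap X.proj (maximalIdeal R)

lemma mem_ME (a : X.E) : a ∈ ME X ↔ X.proj a ∈ maximalIdeal R := Iff.rfl

lemma pow_le_ME {d : ℕ} (hd : 1 ≤ d) : ME X ^ d ≤ ME X := Ideal.pow_le_self (by omega)

lemma exists_repr {ι : Type u} [Fintype ι] (x : ι → R)
    (hx : Ideal.span (Set.range x) = maximalIdeal R)
    (y : ι → X.E) (hy : ∀ i, X.proj (y i) = x i) (d : ℕ) (hd : 1 ≤ d) (ε : X.E)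
    (hε : ε ∈ ME X ^ (d + 1)) :
    ∃ e : ι → X.E, (∀ i, e i ∈ ME X ^ d) ∧ ε = ∑ i, e i * y i := by
  rw [pow_succ] at hε
  refine Submodule.mul_induction_on hε ?_ ?_
  · intro a ha b hb
    have hpb : X.proj b ∈ Ideal.span (Set.range x) := by rw [hx]; exact hb
    obtain ⟨r, hr⟩ := Ideal.mem_span_range_iff_exists_fun.1 hpb
    choose t ht using fun i => X.isExtension.proj_surjective (r i)
    refine ⟨fun i => a * t i, fun i => Ideal.mul_mem_right _ _ ha, ?_⟩
    have hκ : X.proj (b - ∑ i, t i * y i) = 0 := by
      rw [map_sub, map_sum, sub_eq_zero, ← hr]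
      refine Finset.sum_congr rfl fun i _ => ?_
      rw [map_mul, ht, hy]
    have h0 := mul_ker_eq_zero X (e := a) ((mem_ME X a).1 (pow_le_ME X hd ha)) hκ
    rw [mul_sub, sub_eq_zero, Finset.mul_sum] at h0
    rw [h0]
    refine Finset.sum_congr rfl fun i _ => ?_
    ring
  · rintro u v ⟨e, he, rfl⟩ ⟨e', he', rfl⟩
    refine ⟨fun i => e i + e' i, fun i => Ideal.add_mem _ (he i) (he' i), ?_⟩
    rw [← Finset.sum_add_distrib]
    refine Finset.sum_congr rfl fun i _ => ?_
    ring

lemma sum_eq_zero_of_mem_smul {ι : Type u} [Fintype ι] (x : ι → R)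
    (hxm : ∀ i, x i ∈ maximalIdeal R)
    (y : ι → X.E) (hy : ∀ i, X.proj (y i) = x i)
    (v : ι → R)
    (hv : v ∈ maximalIdeal R • LinearMap.ker (Fintype.linearCombination R x)) :
    ∀ e : ι → X.E, (∀ i, X.proj (e i) = v i) → ∑ i, e i * y i = 0 := by
  refine Submodule.smul_induction_on hv ?_ ?_
  · intro a ha z hz e he
    obtain ⟨a', ha'⟩ := X.isExtension.proj_surjective a
    choose z' hz' using fun i => X.isExtension.proj_surjective (z i)
    have h1 : ∀ i, e i * y i = a' * (z' i * y i) + y i * (e i - a' * z' i) := by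
      intro i; ring
    have h2 : ∀ i, y i * (e i - a' * z' i) = 0 := by
      intro i
      apply mul_ker_eq_zero X
      · rw [hy]; exact hxm i
      · rw [map_sub, map_mul, he, ha', hz']
        simp
    have h3 : a' * ∑ i, z' i * y i = 0 := by
      apply mul_ker_eq_zero X
      · rw [ha']; exact ha
      · rw [map_sum]
        have : (Fintype.linearCombination R x) z = 0 := LinearMap.mem_ker.1 hz
        rw [Fintype.linearCombination_apply] at this
        rw [← this]
        refine Finset.sum_congr rfl fun i _ => ?_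
        rw [map_mul, hz', hy, smul_eq_mul]
    rw [Finset.sum_congr rfl (fun i _ => h1 i), Finset.sum_add_distrib, ← Finset.mul_sum, h3,
      zero_add]
    exact Finset.sum_eq_zero (fun i _ => h2 i)
  · intro v w hv hw e he
    choose ev hev using fun i => X.isExtension.proj_surjective (v i)
    have h1 := hv ev hev
    have h2 := hw (fun i => e i - ev i) (fun i => by rw [map_sub, he, hev]; simp)
    have : ∀ i, e i * y i = ev i * y i + (e i - ev i) * y i := by intro i; ring
    rw [Finset.sum_congr rfl (fun i _ => this i), Finset.sum_add_distrib, h1, h2, add_zero]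

end Ext

theorem main [IsNoetherianRing R] :
    ∃ n : ℕ, ∀ X : Exal.Ext Λ R (ResidueField R),
      ∃ I : Ideal X.E, (∀ x ∈ I, X.proj x = 0 → x = 0) ∧
        Ideal.map X.proj I = maximalIdeal R ^ (n + 1) := by
  classical
  obtain ⟨s, hs⟩ := (IsNoetherian.noetherian (maximalIdeal R) : (maximalIdeal R).FG)
  let ι : Type u := {a // a ∈ s}
  let x : ι → R := Subtype.val
  have hx : Ideal.span (Set.range x) = maximalIdeal R := by
    rw [← hs]
    congr 1
    exact Subtype.range_coe
  have hxm : ∀ i, x i ∈ maximalIdeal R := fun i => by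
    rw [← hx]; exact Ideal.subset_span ⟨i, rfl⟩
  obtain ⟨c, hc⟩ := Ideal.exists_pow_inf_eq_pow_smul (maximalIdeal R)
    (LinearMap.ker (Fintype.linearCombination R x))
  refine ⟨c + 1, fun X => ⟨ME X ^ (c + 1 + 1), ?_, ?_⟩⟩
  · intro ε hε hpε
    choose y hy using fun i => X.isExtension.proj_surjective (x i)
    obtain ⟨e, he, rfl⟩ := exists_repr X x hx y hy (c + 1) (by omega) ε hε
    apply sum_eq_zero_of_mem_smul X x hxm y hy (fun i => X.proj (e i)) ?_ e (fun i => rfl)
    have hmem : ∀ i, X.proj (e i) ∈ maximalIdeal R ^ (c + 1) := by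
      intro i
      have := Ideal.mem_map_of_mem X.proj (he i)
      rw [Ideal.map_pow] at this
      exact Ideal.pow_right_mono (Ideal.map_comap_le) _ this
    have h1 : (fun i => X.proj (e i)) ∈
        (maximalIdeal R ^ (c + 1) • (⊤ : Submodule R (ι → R))) ⊓
          LinearMap.ker (Fintype.linearCombination R x) := by
      refine ⟨?_, ?_⟩
      · rw [pi_eq_sum_univ (fun i => X.proj (e i))]
        refine Submodule.sum_mem _ fun i _ => ?_
        exact Submodule.smul_mem_smul (hmem i) Submodule.mem_top
      · rw [SetLike.mem_coe, LinearMap.mem_ker, Fintype.linearCombination_apply]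
        have := hpε
        rw [map_sum] at this
        rw [← this]
        refine Finset.sum_congr rfl fun i _ => ?_
        rw [map_mul, hy, smul_eq_mul]
    rw [hc (c + 1) (by omega)] at h1
    have h2 : c + 1 - c = 1 := by omega
    rw [h2, pow_one] at h1
    exact Submodule.smul_mono le_rfl inf_le_right h1
  · rw [Ideal.map_pow, ME, Ideal.map_comap_of_surjective _ X.isExtension.proj_surjective]

end Aux

/-- Let k be an algebraically closed field, Λ a complete local Noetherian k-algebra with residue field
k, and R a local Noetherian Λ-algebra with local structure map, residue field k and maximal ideal m.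
Then for some n the pull-back map o((R/m^(n+1))/Λ) → o(R/Λ) on obstruction spaces is onto: every
Λ-extension 0 → k → E → R → 0 of R by its residue field is the inverse image of a Λ-extension of
R/m^(n+1) by k. Concretely, the middle ring E of every such extension contains an ideal I which
meets the kernel k only in 0 and whose image in R is exactly m^(n+1) (then E/I is an extension of
R/m^(n+1) by k whose inverse image along R → R/m^(n+1) is E). -/
theorem result
    {k : Type u} [Field k] [IsAlgClosed k]
    {Λ : Type u} [CommRing Λ] [Algebra k Λ] [IsLocalRing Λ] [IsNoetherianRing Λ]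
    [IsAdicComplete (IsLocalRing.maximalIdeal Λ) Λ]
    (hΛ : ∀ a : Λ, ∃ c : k, a - algebraMap k Λ c ∈ IsLocalRing.maximalIdeal Λ)
    {R : Type u} [CommRing R] [Algebra Λ R] [IsLocalRing R] [IsNoetherianRing R]
    [IsLocalHom (algebraMap Λ R)]
    (hR : ∀ r : R, ∃ c : k, r - algebraMap Λ R (algebraMap k Λ c) ∈ IsLocalRing.maximalIdeal R) :
    ∃ n : ℕ, ∀ X : Exal.Ext Λ R (IsLocalRing.ResidueField R),
      ∃ I : Ideal X.E, (∀ x ∈ I, X.proj x = 0 → x = 0) ∧
        Ideal.map X.proj I = IsLocalRing.maximalIdeal R ^ (n + 1) := by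
  exact Aux.main

end Groth.Agent.S11282
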