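import Groth.Statements.S11324
import Groth.Agent.Lib.R2H3ExtShVanish
import Groth.Agent.Lib.R2H3ZeroConn
import Groth.Agent.Lib.R2H2PushCoh
import Groth.Agent.S0458
-- import your own Groth.Agent.* helpers here

set_option autoImplicit false
universe u
open CategoryTheory CategoryTheory.Limits AlgebraicGeometry
open ProjDual

namespace Groth.Agent.AuxS11324

theorem aux_dim (D : WithBot ℕ∞) (r N i : ℕ) (h : D + (r : WithBot ℕ∞) ≤ (N : WithBot ℕ∞))
    (hi : i < r) (hD : D ≠ ⊥) : i < N ∧ D ≤ ((N - (i + 1) : ℕ) : WithBot ℕ∞) := by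
  obtain ⟨e, rfl⟩ := WithBot.ne_bot_iff_exists.1 hD
  have h1 : e + (r : ℕ∞) ≤ (N : ℕ∞) := by
    have : ((e + (r : ℕ∞) : ℕ∞) : WithBot ℕ∞) ≤ ((N : ℕ∞) : WithBot ℕ∞) := by
      push_cast
      exact h
    exact WithBot.coe_le_coe.1 this
  have he : e ≠ ⊤ := by
    rintro rfl
    simp at h1
  obtain ⟨d, rfl⟩ := ENat.ne_top_iff_exists.1 he
  have h2 : d + r ≤ N := by exact_mod_cast h1
  refine ⟨by omega, ?_⟩
  have h3 : d ≤ N - (i + 1) := by omega
  have h4 : ((d : ℕ∞) : WithBot ℕ∞) ≤ (((N - (i + 1) : ℕ) : ℕ∞) : WithBot ℕ∞) :=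
    WithBot.coe_le_coe.2 (by exact_mod_cast h3)
  exact h4

end Groth.Agent.AuxS11324

namespace Groth.Agent.S11324

/-- Let k be a field, P = P^N_k, ι : X → P a closed immersion, r a natural number with dim X + r ≤ N (so
X has codimension at least r in P), and ω_P = O_P(-N-1). Then for every i < r the Ext sheaf
Ext^i_{O_P}(ι_* O_X, ω_P) — the i-th right derived functor of the internal Hom functor Hom(ι_* O_X,
-) on O_P-modules (its existence and that of injective resolutions are the stated instance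
hypotheses, both true), evaluated at ω_P — is zero. -/
theorem result (k : Type u) [Field k] (N : ℕ)
    {X : Scheme.{u}} (ι : X ⟶ CohB1.ProjSpace N k) [IsClosedImmersion ι] (r : ℕ)
    (hr : topologicalKrullDim ↥X + (r : WithBot ℕ∞) ≤ (N : WithBot ℕ∞))
    [ModSite.HasSheafHom (O := (CohB1.ProjSpace N k).sheaf) ((Scheme.Modules.pushforward ι).obj (Coh.structureModule X))]
    [HasInjectiveResolutions (ModSite.Mod (CohB1.ProjSpace N k).sheaf)] (i : ℕ) (hi : i < r) :
    IsZero ((ModSite.extSh (O := (CohB1.ProjSpace N k).sheaf)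
      ((Scheme.Modules.pushforward ι).obj (Coh.structureModule X)) i).obj
        (Twist.twistProjSpace N k (-((N : ℤ) + 1)))) := by
  haveI : EnoughInjectives (CohB1.ProjSpace N k).Modules :=
    Groth.Agent.S0485.result (Opens.grothendieckTopology (CohB1.ProjSpace N k))
      (CohB1.ProjSpace N k).ringCatSheaf
  haveI : HasExt.{u} (CohB1.ProjSpace N k).Modules := hasExt_of_enoughInjectives.{u} _
  by_cases hX : IsEmpty X
  · -- `ι_* O_X = 0`
    have hz : IsZero ((Scheme.Modules.pushforward ι).obj (Coh.structureModule X)) :=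
      Functor.map_isZero _ (Groth.Agent.Lib.R2H2.PushCoh.isZero_of_isEmpty _)
    exact (Groth.Agent.Lib.Helper21.ExtShDelta.extShDelta (O := (CohB1.ProjSpace N k).sheaf)
      (Twist.twistProjSpace N k (-((N : ℤ) + 1)))).isZero_E_of_isZero _ hz i
  · rw [not_isEmpty_iff] at hX
    have hD : topologicalKrullDim ↥X ≠ ⊥ := by
      intro h
      unfold topologicalKrullDim at h
      rw [Order.krullDim_eq_bot_iff] at h
      obtain ⟨x⟩ := hX
      exact h.elim ⟨closure {x}, isIrreducible_singleton.closure, isClosed_closure⟩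
    obtain ⟨hiN, hd⟩ := Groth.Agent.AuxS11324.aux_dim _ r N i hr hi hD
    have hM : Coh.IsCoh ((Scheme.Modules.pushforward ι).obj (Coh.structureModule X)) :=
      Groth.Agent.Lib.R2H2.ClosedPn.isCoh_push ι _
        (Groth.Agent.Lib.R2H3.ZeroConn.isCoh_structureModule X)
    rw [Groth.Agent.Lib.R2H3.ExtShVanish.isZero_extSh_iff k N _ hM i hiN.le]
    refine ⟨0, fun m _ => ?_⟩
    rw [← Groth.Agent.Lib.R2H2.ClosedPn.subsingleton_HH_twistOn_iff N k ι
      (Coh.structureModule X) (Groth.Agent.Lib.R2H3.ZeroConn.isCoh_structureModule X).1 (-m) (N - i)]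
    haveI : IsNoetherian (CohB1.ProjSpace N k) :=
      Groth.Agent.Lib.R2H2.QProjK0.isNoetherian_projSpace N k
    haveI : TopologicalSpace.NoetherianSpace ↥X := ι.isEmbedding.isInducing.noetherianSpace
    exact Groth.Agent.S0458.result (X := X.carrier) (N - (i + 1)) hd (Coh.toAb _) (N - i) (by omega)

end Groth.Agent.S11324
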