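import Groth.Statements.S11326
import Groth.Agent.Lib.R2H2PnDualMain

set_option autoImplicit false
universe u
open CategoryTheory AlgebraicGeometry
open ProjDual

namespace Groth.Agent.S11326

/-- Let A be a Noetherian ring, r ≥ 1, X = P^r_A and ω = O_X(-r-1). Then there is an A-linear
isomorphism t : H^r(X, ω) ≅ A such that for every integer n and every A-linear form ψ on H^r(X,
O_X(-n-r-1)) there is exactly one morphism of O_X-modules φ : O_X(-n-r-1) → ω with ψ = t ∘ H^r(φ).
(The published form of the pairing assertion is a perfect pairing H^0(X, O_X(n)) × H^r(X,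
O_X(-n-r-1)) → H^r(X, ω) ≅ A of finitely generated free A-modules; here the first factor is written
as Hom(O_X(-n-r-1), ω), which the pairing identifies with H^0(X, O_X(n)), and only the resulting
bijection onto the A-dual of H^r(X, O_X(-n-r-1)) is stated.) -/
theorem result (A : Type u) [CommRing A]
    [IsNoetherianRing A] (r : ℕ) (hr : 1 ≤ r) :
    ∃ t : Coh.HH (CohB1.ProjSpace r A) (Twist.twistProjSpace r A (-((r : ℤ) + 1))) r ≃ₗ[A] A,
      ∀ (n : ℤ) (ψ : Coh.HH (CohB1.ProjSpace r A) (Twist.twistProjSpace r A (-(n + r + 1))) r →ₗ[A] A),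
        ∃! φ : Twist.twistProjSpace r A (-(n + r + 1)) ⟶ Twist.twistProjSpace r A (-((r : ℤ) + 1)),
          ∀ x : Coh.HH (CohB1.ProjSpace r A) (Twist.twistProjSpace r A (-(n + r + 1))) r,
            ψ x = t (Sheaf.H.map ((SheafOfModules.toSheaf (CohB1.ProjSpace r A).ringCatSheaf).map φ) r x) := by
  have key : ∀ (F : ℤ → (CohB1.ProjSpace r A).Modules),
      F = (fun d => Groth.Agent.Lib.R2H2.PnDual.Otw A r d) →
      ∃ t : Coh.HH (CohB1.ProjSpace r A) (F (-((r : ℤ) + 1))) r ≃ₗ[A] A,
        ∀ (n : ℤ) (ψ : Coh.HH (CohB1.ProjSpace r A) (F (-(n + r + 1))) r →ₗ[A] A),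
          ∃! φ : F (-(n + r + 1)) ⟶ F (-((r : ℤ) + 1)),
            ∀ x : Coh.HH (CohB1.ProjSpace r A) (F (-(n + r + 1))) r,
              ψ x = t (Sheaf.H.map ((SheafOfModules.toSheaf (CohB1.ProjSpace r A).ringCatSheaf).map φ) r x) := by
    intro F hF
    subst hF
    obtain ⟨t, ht⟩ := Groth.Agent.Lib.R2H2.PnDualMain.main A r
    exact ⟨t, fun n ψ => ht (-(n + r + 1)) (Or.inr hr) ψ⟩
  exact key (fun d => Twist.twistProjSpace r A d)
    (funext fun d => Groth.Agent.Lib.R2H2.PnDual.twist_eq A r d)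

end Groth.Agent.S11326
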