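import Groth.Statements.S11336
import Groth.Agent.Lib.R2H1OmegaDual
import Groth.Agent.Lib.R2H1SerreNum

set_option autoImplicit false
universe u
open CategoryTheory CategoryTheory.Limits AlgebraicGeometry
open Curves

namespace Groth.Agent.S11336

/-- Let k be an algebraically closed field and X a curve over k (an integral scheme, proper over k, of
dimension one, with all local rings regular), and L an invertible O_X-module with an inverse M (L ⊗
M ≅ O_X) such that H^0(X, L) ≠ 0 and H^0(X, Ω_{X/k} ⊗ M) ≠ 0 (L comes from an effective special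
divisor D). Then dim |D| ≤ deg D / 2, i.e. 2 (dim_k H^0(X, L) - 1) ≤ deg L, with deg L = χ(L) -
χ(O_X). -/
theorem result (k : Type u) [Field k] [IsAlgClosed k] (X : Scheme.{u}) [X.Over (Spec (CommRingCat.of k))]
    [IsIntegral X] [IsProper (X ↘ (Spec (CommRingCat.of k)))] (hdim : topologicalKrullDim X = 1)
    (hreg : ∀ x : X, IsRegularLocalRing (X.presheaf.stalk x))
    (L M : X.Modules) (hL : PicF.IsInvertible L) (hM : ClSub.IsInverseOf L M)
    (hs : Nontrivial (Coh.HH X L 0)) (hsp : Nontrivial (Coh.HH X (CohB1.tensorMod (Omega.sheaf (X ↘ (Spec (CommRingCat.of k)))) M) 0)) :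
    2 * (Module.finrank k (Coh.HH X L 0) : ℤ) ≤ Curv2.deg k X L 1 + 2 := by
  haveI := Groth.Agent.Lib.R2H1.CurveEuler.isNoetherian_of_proper k X
  have hMi := Groth.Agent.Lib.R2H3.NegTwist.isInvertible_of_isInverseOf L M hM
  obtain ⟨e₀⟩ := hM
  have hΩ := Groth.Agent.Lib.R2H1.OmegaCurve.isInvertible_Om k X hdim hreg
  have e : CohB1.tensorMod M L ≅ Coh.structureModule X :=
    Groth.Agent.Lib.R2H1.PicLaw.commI M L ≪≫ e₀
  obtain ⟨s1, -⟩ := Groth.Agent.Lib.R2H1.SerreNum.serre_numerics k X hdim hreg L M hL hMi e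
  have cL := Groth.Agent.Lib.R2H1.CurveDegSec.isCoh_of_isInvertible L hL
  have hΩM := Groth.Agent.Lib.Helper23.SecTw.isInvertible_tensorMod hΩ hMi
  have cΩM := Groth.Agent.Lib.R2H1.CurveDegSec.isCoh_of_isInvertible _ hΩM
  haveI := Groth.Agent.Lib.R2H1.EulerAdd.finite_HH k X _ cL 0
  haveI := Groth.Agent.Lib.R2H1.EulerAdd.finite_HH k X _ cΩM 0
  have h0 : 1 ≤ Module.finrank k (Coh.HH X L 0) := Module.finrank_pos
  have h1 : 1 ≤ Module.finrank k (Coh.HH X L 1) := by
    rw [s1, ← Groth.Agent.Lib.R2H2.ClosedPnLin.finrank_HH_of_iso (A := k)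
      (Groth.Agent.Lib.R2H1.PicLaw.commI (Omega.sheaf (X ↘ (Spec (CommRingCat.of k)))) M) 0]
    exact Module.finrank_pos
  exact Groth.Agent.Lib.R2H1.Clifford.clifford k X hdim hreg L hL h0 h1

end Groth.Agent.S11336
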