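import Groth.Statements.S11369
import Mathlib
import Groth.Agent.Lib.R2H4GGAmple

set_option autoImplicit false
universe u
open CategoryTheory CategoryTheory.Limits AlgebraicGeometry TopologicalSpace
open Variety

namespace Groth.Agent.S11369

/-- Let X be proper over an algebraically closed field k and L an invertible O_X-module generated by its
global sections. If for every integral closed subscheme C of X of dimension one the pullback of L to
C is ample, then L is ample. -/
theorem result (k : Type u) [Field k] [IsAlgClosed k] (X : Scheme.{u})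
    [X.Over (Spec (CommRingCat.of k))] [IsProper (X ↘ (Spec (CommRingCat.of k)))]
    (L : X.Modules) (hL : PicF.IsInvertible L) (hgen : Curv2.IsGloballyGenerated L)
    (hcurves : ∀ C : X.IdealSheafData, IsIntegral C.subscheme →
      topologicalKrullDim (C.support : Set X) = 1 →
        CohB1.IsAmple ((Scheme.Modules.pullback C.subschemeι).obj L)) :
    CohB1.IsAmple L := by
  refine Groth.Agent.Lib.R2H4GGAmple.isAmple_of_gg_of_deg_pos k X L hL hgen (fun C hCint hCdim => ?_)
  rw [Groth.Agent.Lib.R2H4GGAmple.euler_sub_eq_deg k X C hCint hCdim L hL]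
  letI : C.subscheme.Over (Spec (CommRingCat.of k)) :=
    ⟨C.subschemeι ≫ (X ↘ Spec (CommRingCat.of k))⟩
  haveI : IsProper (C.subscheme ↘ Spec (CommRingCat.of k)) :=
    inferInstanceAs (IsProper (C.subschemeι ≫ (X ↘ Spec (CommRingCat.of k))))
  haveI := hCint
  have hdimC : topologicalKrullDim C.subscheme = 1 := by
    rw [← Groth.Agent.Lib.R2H1.NefPull.dim_support_eq]
    exact hCdim
  have hinv := Groth.Agent.Lib.Helper23.PB.isInvertible_pullback C.subschemeι L hL
  exact (Groth.Agent.Lib.R2H1.CurveAmple.s1530 k C.subscheme hdimC _ hinv).mp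
    (hcurves C hCint hCdim)

end Groth.Agent.S11369
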