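import Groth.Statements.S11371
import Mathlib
import Groth.Agent.Lib.R2H4NumEquivInt
import Groth.Agent.Lib.R2H4NakaiMain
import Groth.Agent.Lib.R2H4FlatLF
import Groth.Agent.Lib.R2H4Quo

set_option autoImplicit false
universe u
open CategoryTheory CategoryTheory.Limits AlgebraicGeometry TopologicalSpace
open Variety

namespace Groth.Agent.S11371

/-- Let X be proper over an algebraically closed field k and L, L' invertible O_X-modules that are
numerically equivalent: (L · C) = (L' · C), i.e. χ(O_C ⊗ L) = χ(O_C ⊗ L'), for every integral closed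
subscheme C ⊆ X of dimension one. If L is ample then L' is ample. (The published statement is
phrased for Cartier divisors; it depends on them only through the associated invertible modules, and
the printed reduction to integral X covers every invertible module.) -/
theorem result (k : Type u) [Field k] [IsAlgClosed k] (X : Scheme.{u})
    [X.Over (Spec (CommRingCat.of k))] [IsProper (X ↘ (Spec (CommRingCat.of k)))]
    (L L' : X.Modules) (hL : PicF.IsInvertible L) (hL' : PicF.IsInvertible L')
    (hnum : ∀ C : X.IdealSheafData, IsIntegral C.subscheme →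
      topologicalKrullDim (C.support : Set X) = 1 →
        Curv2.euler k X (CohB1.tensorMod (ClSub.quotMod C) L) =
          Curv2.euler k X (CohB1.tensorMod (ClSub.quotMod C) L'))
    (hamp : CohB1.IsAmple L) : CohB1.IsAmple L' := by
  haveI := Groth.Agent.Lib.R2H1.CurveEuler.isNoetherian_of_proper k X
  have hNT := Groth.Agent.Lib.R2H4NumEquivInt.euler_tensor_eq_of_dim_lt_two k L L' hL hL' hnum
  refine Groth.Agent.Lib.R2H4NakaiMain.main k X L' hL' ?_
  intro Z hZ d hd hdim P' hP'
  have hsupp : CohB1.support (ClSub.quotMod Z) = (Z.support : Set X) := by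
    refine Set.Subset.antisymm (Groth.Agent.Lib.R2H1.DegCartier.support_quotMod_subset Z)
      (fun x hx => ?_)
    haveI := Groth.Agent.Lib.R2H4FlatLF.nontrivial_stalk_quotMod Z x hx
    exact not_subsingleton _
  have cQ := Groth.Agent.Lib.R2H4Quo.isCoh_quotMod Z
  have hdimQ : topologicalKrullDim (CohB1.support (ClSub.quotMod Z)) =
      ((d : ℕ) : WithBot ℕ∞) := by
    rw [hsupp]
    exact hdim
  obtain ⟨P, -, hP⟩ := Groth.Agent.Lib.R2H4Snapper.s1528 k (ClSub.quotMod Z) cQ d hdimQ.le d
    (fun _ => L) (fun _ => hL)
  have hpos := Groth.Agent.Lib.R2H4FGAPos.pos_coh k d (fun _ => L) (fun _ => hamp)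
    (ClSub.quotMod Z) cQ hdimQ P (fun n => hP n)
  rw [← Groth.Agent.Lib.R2H4NumEquivInt.coeff_ones_eq_of_numEquiv k (fun _ : Fin d => L)
    (fun _ => L') (fun _ => hL) (fun _ => hL') (fun _ => hNT) (ClSub.quotMod Z) cQ hdimQ.le
    P P' (fun n => hP n) (fun n => hP' n)]
  exact hpos

end Groth.Agent.S11371
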