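import Groth.Statements.S11418
import Groth.Prelude.Def_ChGrp

set_option autoImplicit false
universe u
open CategoryTheory MonoidalCategory CartesianMonoidalCategory MonObj GrpObj AlgebraicGeometry CategoryTheory.Limits
open AlgGrp

namespace Groth.Agent.S11418

/-- Over an algebraically closed field k, let G be an affine algebraic group (smooth affine k-group
scheme of finite type) and π : X → Y a principal G-bundle of k-schemes of finite type: G acts on X,
π is G-invariant, faithfully flat, and the square formed by the action, the second projection G × X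
→ X and π is cartesian. Then the map θ sending a G-equivariant morphism f : X → G (for the
conjugation action on G, i.e. f(g·x) = g f(x) g⁻¹ on points) to the automorphism x ↦ f(x)·x is a
bijection onto the bundle automorphisms: every G-equivariant automorphism φ of X with π ∘ φ = π
equals θ(f) for exactly one such f. -/
theorem result (k : Type u) [Field k] [IsAlgClosed k]
    (G X Y : Over (Spec (CommRingCat.of k))) [GrpObj G] [Smooth G.hom] [QuasiCompact G.hom] [IsAffine G.left]
    [LocallyOfFiniteType X.hom] [QuasiCompact X.hom] [LocallyOfFiniteType Y.hom] [QuasiCompact Y.hom]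
    (a : AlgGrp.Action G X) (π : X ⟶ Y) (hinv : a.act ≫ π = snd G X ≫ π) [Flat π.left] [Surjective π.left]
    (hcart : IsPullback (snd G X) a.act π π)
    (φ : X ≅ X) (hφ : φ.hom ≫ π = π) (hφeq : (G ◁ φ.hom) ≫ a.act = a.act ≫ φ.hom) :
    ∃! f : X ⟶ G, (∀ (S : Over (Spec (CommRingCat.of k))) (g : S ⟶ G) (x : S ⟶ X),
        lift g x ≫ a.act ≫ f = g * (x ≫ f) * g⁻¹) ∧ φ.hom = lift f (𝟙 X) ≫ a.act := by
  have huniq : ∀ (T : Over (Spec (CommRingCat.of k))) (h₁ h₂ : T ⟶ G) (x : T ⟶ X),
      lift h₁ x ≫ a.act = lift h₂ x ≫ a.act → h₁ = h₂ := by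
    intro T h₁ h₂ x he
    have h1 : lift h₁ x = lift h₂ x := by
      apply hcart.hom_ext
      · rw [lift_snd, lift_snd]
      · exact he
    have h2 := congrArg (fun m => m ≫ fst G X) h1
    simpa only [lift_fst] using h2
  obtain ⟨p, hp1, hp2⟩ : ∃ p : X ⟶ G ⊗ X, p ≫ snd G X = 𝟙 X ∧ p ≫ a.act = φ.hom :=
    ⟨hcart.lift (𝟙 X) φ.hom (by rw [Category.id_comp, hφ]), hcart.lift_fst _ _ _,
      hcart.lift_snd _ _ _⟩
  have hpl : p = lift (p ≫ fst G X) (𝟙 X) := by
    apply CartesianMonoidalCategory.hom_ext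
    · rw [lift_fst]
    · rw [lift_snd, hp1]
  have hφf : φ.hom = lift (p ≫ fst G X) (𝟙 X) ≫ a.act := by
    rw [← hpl, hp2]
  have hpt : ∀ (f : X ⟶ G), φ.hom = lift f (𝟙 X) ≫ a.act →
      ∀ (S : Over (Spec (CommRingCat.of k))) (y : S ⟶ X),
        lift (y ≫ f) y ≫ a.act = y ≫ φ.hom := by
    intro f hf S y
    rw [hf, ← Category.assoc, comp_lift, Category.comp_id]
  have hφpt : ∀ (S : Over (Spec (CommRingCat.of k))) (g : S ⟶ G) (x : S ⟶ X),
      lift g (x ≫ φ.hom) ≫ a.act = (lift g x ≫ a.act) ≫ φ.hom := by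
    intro S g x
    rw [Category.assoc, ← hφeq, ← Category.assoc, lift_whiskerLeft]
  refine ⟨p ≫ fst G X, ⟨?_, hφf⟩, ?_⟩
  · intro S g x
    apply huniq S _ _ (lift g x ≫ a.act)
    have hL : lift (lift g x ≫ a.act ≫ (p ≫ fst G X)) (lift g x ≫ a.act) ≫ a.act =
        (lift g x ≫ a.act) ≫ φ.hom := by
      have h1 := hpt _ hφf S (lift g x ≫ a.act)
      rw [Category.assoc] at h1
      exact h1
    have hR : lift (g * (x ≫ (p ≫ fst G X)) * g⁻¹) (lift g x ≫ a.act) ≫ a.act =
        (lift g x ≫ a.act) ≫ φ.hom := by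
      rw [a.lift_mul_act, ← a.lift_mul_act g⁻¹ g x, _root_.inv_mul_cancel, a.lift_one_act,
        a.lift_mul_act, hpt _ hφf S x, hφpt]
    exact hL.trans hR.symm
  · rintro f' ⟨-, hf'⟩
    have h1 : lift f' (𝟙 X) = p := by
      apply hcart.hom_ext
      · rw [lift_snd, hp1]
      · rw [← hf', hp2]
    rw [← h1, lift_fst]

end Groth.Agent.S11418
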