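import Groth.Statements.S11452
import Groth.Agent.Lib.R2LeadTrivDef
import Groth.Agent.Lib.Helper22ThickAffine
import Groth.Agent.Lib.Helper4RectDepthB

set_option autoImplicit false
universe u
open CategoryTheory AlgebraicGeometry
open DefT

namespace Groth.Agent.S11452

/-- Let k be an algebraically closed field, X an affine scheme of finite type over k whose local rings
are all regular, A a local Artin k-algebra with a k-algebra augmentation e : A → k, and g : X' →
Spec A a flat morphism whose fibre over the k-point Spec k → Spec A given by e is X (with its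
structure map to Spec k). Then there is an isomorphism from X' to the trivial deformation X ×_{Spec
k} Spec A compatible with the projections to Spec A. -/
theorem result (k : Type u) [Field k]
    [IsAlgClosed k] (X : Scheme.{u}) (hX : X ⟶ Spec (CommRingCat.of k)) [IsAffine X]
    [LocallyOfFiniteType hX] (hreg : ∀ x : X, IsRegularLocalRing (X.presheaf.stalk x))
    (A : Type u) [CommRing A] [IsLocalRing A] [IsArtinianRing A] [Algebra k A] (e : A →ₐ[k] k)
    (X' : Scheme.{u}) (g : X' ⟶ Spec (CommRingCat.of A)) [Flat g] (i : X ⟶ X')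
    (hsq : IsPullback i hX g (Spec.map (CommRingCat.ofHom e.toRingHom))) :
    ∃ φ : X' ≅ Limits.pullback hX (Spec.map (CommRingCat.ofHom (algebraMap k A))),
      φ.hom ≫ Limits.pullback.snd hX (Spec.map (CommRingCat.ofHom (algebraMap k A))) = g := by
  classical
  have hsurje : Function.Surjective e.toRingHom := fun κ =>
    ⟨algebraMap k A κ, by change e (algebraMap k A κ) = κ; rw [e.commutes]; rfl⟩
  haveI hci : IsClosedImmersion (Spec.map (CommRingCat.ofHom e.toRingHom)) :=
    IsClosedImmersion.spec_of_surjective _ hsurje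
  haveI hsj : Surjective (Spec.map (CommRingCat.ofHom e.toRingHom)) := by
    constructor
    intro q
    haveI : (RingHom.ker e.toRingHom).IsMaximal := RingHom.ker_isMaximal_of_surjective _ hsurje
    have h1 : RingHom.ker e.toRingHom = IsLocalRing.maximalIdeal A :=
      IsLocalRing.eq_maximalIdeal inferInstance
    have h2 : q.asIdeal = IsLocalRing.maximalIdeal A :=
      IsLocalRing.eq_maximalIdeal (IsArtinianRing.isMaximal_of_isPrime q.asIdeal)
    refine ⟨(⊥ : PrimeSpectrum k), ?_⟩
    apply PrimeSpectrum.ext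
    change Ideal.comap e.toRingHom ⊥ = q.asIdeal
    rw [h2, ← h1]
    rfl
  haveI : IsClosedImmersion i := MorphismProperty.of_isPullback hsq.flip hci
  haveI : Surjective i := MorphismProperty.of_isPullback hsq.flip hsj
  haveI : IsAffine X' :=
    Groth.Agent.Lib.Helper22.ThickAffine.isAffine_of_thickening i (Surjective.surj)
  haveI : IsLocallyNoetherian X := LocallyOfFiniteType.isLocallyNoetherian hX
  have hregB : IsRegularRing Γ(X, ⊤) :=
    Groth.Agent.Lib.Helper4.RectDepth.isRegularRing_sections hreg (isAffineOpen_top X)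
  let ψ := X.isoSpec
  let ψ' := X'.isoSpec
  let β : CommRingCat.of k ⟶ Γ(X, ⊤) := Spec.preimage (ψ.inv ≫ hX)
  let α : CommRingCat.of A ⟶ Γ(X', ⊤) := Spec.preimage (ψ'.inv ≫ g)
  let c : Γ(X', ⊤) ⟶ Γ(X, ⊤) := Spec.preimage (ψ.inv ≫ i ≫ ψ'.hom)
  have hβ : Spec.map β = ψ.inv ≫ hX := Spec.map_preimage _
  have hα : Spec.map α = ψ'.inv ≫ g := Spec.map_preimage _
  have hc : Spec.map c = ψ.inv ≫ i ≫ ψ'.hom := Spec.map_preimage _
  have hsq' : IsPullback (Spec.map c) (Spec.map β) (Spec.map α)
      (Spec.map (CommRingCat.ofHom e.toRingHom)) := by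
    rw [hc, hβ, hα]
    exact IsPullback.of_iso hsq ψ ψ' (Iso.refl _) (Iso.refl _) (by simp) (by simp) (by simp)
      (by simp)
  have hflat : α.hom.Flat := by
    rw [← Flat.SpecMap_iff, hα]
    infer_instance
  have hft : β.hom.FiniteType := by
    have : LocallyOfFiniteType (Spec.map β) := by rw [hβ]; infer_instance
    exact (HasRingHomProperty.Spec_iff (P := @LocallyOfFiniteType)).mp this
  obtain ⟨φ₁, hφ₁⟩ := Groth.Agent.Lib.R2LeadTrivDef.affine_case k A e _ _ β α c hflat hft hregB hsq'
  -- transport back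
  let kA := Spec.map (CommRingCat.ofHom (algebraMap k A))
  have hcomm : Spec.map β ≫ 𝟙 _ = ψ.inv ≫ hX := by rw [Category.comp_id, hβ]
  let μ : Limits.pullback (Spec.map β) kA ⟶ Limits.pullback hX kA :=
    Limits.pullback.map (Spec.map β) kA hX kA ψ.inv (𝟙 _) (𝟙 _) hcomm
      (by rw [Category.comp_id, Category.id_comp])
  haveI : IsIso μ := by
    dsimp only [μ]
    infer_instance
  refine ⟨ψ' ≪≫ φ₁ ≪≫ asIso μ, ?_⟩
  change (ψ'.hom ≫ φ₁.hom ≫ μ) ≫ Limits.pullback.snd hX kA = g
  rw [Category.assoc, Category.assoc]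
  have : μ ≫ Limits.pullback.snd hX kA = Limits.pullback.snd (Spec.map β) kA ≫ 𝟙 _ :=
    Limits.pullback.lift_snd _ _ _
  rw [this, Category.comp_id, hφ₁, hα, Iso.hom_inv_id_assoc]

end Groth.Agent.S11452
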