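import Groth.Statements.S11484
import Groth.Agent.Lib.R2H2PnTwEquiv

set_option autoImplicit false
universe u
open VBPn

namespace Groth.Agent.S11484

open CategoryTheory CategoryTheory.Limits AlgebraicGeometry in
/-- Let k be an algebraically closed field of characteristic zero and n ≥ 2. On P^n_k every short exact
sequence of O-modules whose first term is isomorphic to O(a) and whose third term is isomorphic to
O(b), for integers a and b, admits a splitting; in particular its middle term is isomorphic to O(a)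
⊕ O(b). -/
theorem result (k : Type u) [Field k] [IsAlgClosed k] [CharZero k]
    (n : ℕ) (hn : 2 ≤ n) (a b : ℤ) (S : ShortComplex (CohB1.ProjSpace n k).Modules) (hS : S.ShortExact)
    (ha : Nonempty (S.X₁ ≅ Twist.twistProjSpace n k a)) (hb : Nonempty (S.X₃ ≅ Twist.twistProjSpace n k b)) :
    Nonempty S.Splitting := by
  have : EnoughInjectives (CohB1.ProjSpace n k).Modules :=
    Groth.Agent.S0485.result (Opens.grothendieckTopology (CohB1.ProjSpace n k))
      (CohB1.ProjSpace n k).ringCatSheaf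
  have : HasExt.{u} (CohB1.ProjSpace n k).Modules := hasExt_of_enoughInjectives.{u} _
  obtain ⟨α⟩ := ha
  obtain ⟨β⟩ := hb
  have h0 : Subsingleton (Abelian.Ext (Twist.twistProjSpace n k b) (Twist.twistProjSpace n k a) 1) :=
    Groth.Agent.Lib.R2H2.PnTwEquiv.subsingleton_ext_twist n k b a 1
      (by rintro ⟨h, -⟩; omega) (by rintro ⟨h, -⟩; omega)
  have h1 : Subsingleton (Abelian.Ext S.X₃ S.X₁ 1) :=
    Groth.Agent.Lib.R2H2.PnTwEquiv.subsingleton_ext_of_iso β α 1 h0
  obtain ⟨x₂, hx₂⟩ := Abelian.Ext.covariant_sequence_exact₃ S.X₃ hS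
    (Abelian.Ext.mk₀ (𝟙 S.X₃)) rfl (Subsingleton.elim _ _)
  obtain ⟨s, rfl⟩ := (Abelian.Ext.mk₀_bijective S.X₃ S.X₂).2 x₂
  rw [Abelian.Ext.mk₀_comp_mk₀] at hx₂
  have hs : s ≫ S.g = 𝟙 S.X₃ := (Abelian.Ext.mk₀_bijective S.X₃ S.X₃).1 hx₂
  exact ⟨ShortComplex.Splitting.ofExactOfSection S hS.exact s hs hS.mono_f⟩

end Groth.Agent.S11484
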