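import Groth.Statements.S11486
import Groth.Agent.Lib.R2H2PnSplitType

set_option autoImplicit false
universe u
open VBPn

namespace Groth.Agent.S11486

open CategoryTheory CategoryTheory.Limits AlgebraicGeometry in
/-- Let k be a characteristic-zero algebraically closed field and E a finite locally free O-module of
rank r on P^n_k. Then E splits as a direct sum of twisting sheaves O(a_1) ⊕ ⋯ ⊕ O(a_r) if and only
if H^i(P^n_k, E ⊗ O(d)) = 0 for every 0 < i < n and every integer d. -/
theorem result (k : Type u) [Field k] [IsAlgClosed k] [CharZero k]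
    (n r : ℕ) (E : (CohB1.ProjSpace n k).Modules) (hE : FlatMod.IsFinLocFreeOfRank r E) :
    (∃ a : Fin r → ℤ, Nonempty (E ≅ ∐ fun j : Fin r => Twist.twistProjSpace n k (a j))) ↔
      ∀ (i : ℕ) (d : ℤ), 0 < i → i < n →
        Subsingleton (Coh.HH (CohB1.ProjSpace n k) (CohB1.tensorMod E (Twist.twistProjSpace n k d)) i) := by
  constructor
  · rintro ⟨a, ⟨e⟩⟩ i d h1 h2
    have hn : 1 ≤ n := by omega
    exact (Groth.Agent.Lib.R2H2.PnHorrocks.cohomology_of_split k n hn E r a e).2 d i h1 h2
  · intro h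
    rcases Nat.eq_zero_or_pos n with hn0 | hn
    · subst hn0
      exact Groth.Agent.Lib.R2H2.PnLocFree.split_projSpace_zero k E r hE
    · have hE' : FlatMod.IsFinLocFree E := Groth.Agent.Lib.R2H2.PnLocFree.isFinLocFree_of_rank hE
      have hcoh : Coh.IsCoh E := Groth.Agent.Lib.R2H2.PnLocFree.isCoh_of_isFinLocFree E hE'
      have hneg := Groth.Agent.Lib.R2H2.PnLocFree.exists_H0_vanishing k n E hE' hn
      obtain ⟨r', a, ⟨e⟩⟩ := (Groth.Agent.Lib.R2H2.PnHorrocks.horrocks k n hn E hcoh).2
        ⟨hneg, fun l i h1 h2 => h i l h1 h2⟩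
      have hr : r' = r := Groth.Agent.Lib.R2H2.PnLocFree.card_eq_rank k n E r r' hE a e
      subst hr
      exact ⟨a, ⟨e⟩⟩

end Groth.Agent.S11486
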