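import Groth.Statements.S11504
import Groth.Agent.Lib.R2H2PnOmSimple

set_option autoImplicit false
universe u
open VBPn

namespace Groth.Agent.S11504

open CategoryTheory CategoryTheory.Limits AlgebraicGeometry in
/-- Let k be an algebraically closed field of characteristic zero. The sheaf of relative differentials
Ω^1 of P^n_k → Spec k is simple: every O-module endomorphism of it is a homothety, i.e. its
underlying map of abelian sheaves is multiplication by some scalar c ∈ k. The published statement is
for the tangent bundle T, the dual of Ω^1; the two are equivalent since dualising identifies their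
endomorphisms. Simplicity implies indecomposability. -/
theorem result (k : Type u) [Field k] [IsAlgClosed k] [CharZero k] (n : ℕ)
    (φ : Omega.sheaf (CohB1.ProjSpace.toSpec n k) ⟶ Omega.sheaf (CohB1.ProjSpace.toSpec n k)) :
    ∃ c : k, (SheafOfModules.toSheaf (CohB1.ProjSpace n k).ringCatSheaf).map φ =
      Coh.smulAb (Omega.sheaf (CohB1.ProjSpace.toSpec n k)) (Coh.toGlobal (CohB1.ProjSpace.toSpec n k) c) := by
  haveI : EnoughInjectives (CohB1.ProjSpace n k).Modules :=
    Groth.Agent.S0485.result (Opens.grothendieckTopology (CohB1.ProjSpace n k))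
      (CohB1.ProjSpace n k).ringCatSheaf
  haveI : HasExt.{u} (CohB1.ProjSpace n k).Modules := hasExt_of_enoughInjectives.{u} _
  obtain ⟨c, hc⟩ := Groth.Agent.Lib.R2H2.PnOmSimple.end_omega k n φ
  refine ⟨c, ?_⟩
  rw [hc, KLin.smul_id]
  rfl

end Groth.Agent.S11504
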