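import Groth.Statements.S11509
import Groth.Agent.S9705
import Groth.Agent.S0844
import Groth.Agent.Lib.R2H2PnBott
import Groth.Agent.Lib.R2H2PnBeilinson
import Groth.Agent.Lib.R2H2ExtPowOne

set_option autoImplicit false
universe u
open VBPn

namespace Groth.Agent.S11509

open CategoryTheory CategoryTheory.Limits AlgebraicGeometry in
/-- Let k be an algebraically closed field of characteristic zero and u : O(−1) → Ω^1 ⊗ O(1) a
monomorphism of O-modules on P^3_k whose cokernel M is finite locally free of rank 2 (M is the dual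
N^* of a null-correlation bundle N, and N ≅ N^* as c_1(N) = 0). Then H^0(P^3_k, M) = 0. The
published statement says that the null-correlation bundle N is stable; this row states H^0(N^*) = 0,
which is equivalent since N ≅ N^* and c_1(N) = 0. -/
theorem result (k : Type u) [Field k] [IsAlgClosed k] [CharZero k]
    (u : Twist.twistProjSpace 3 k (-1) ⟶
      CohB1.tensorMod (Omega.sheaf (CohB1.ProjSpace.toSpec 3 k)) (Twist.twistProjSpace 3 k 1))
    [Mono u] (hM : FlatMod.IsFinLocFreeOfRank 2 (cokernel u)) :
    Subsingleton (Coh.HH (CohB1.ProjSpace 3 k) (cokernel u) 0) := by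
  haveI : IsProper (CohB1.ProjSpace.toSpec 3 k) := Groth.Agent.S9705.isProper_projSpace_toSpec 3 k
  haveI : QuasiSeparated (CohB1.ProjSpace.toSpec 3 k) := inferInstance
  have hL : ExtPow.IsExtPow 1 (Omega.sheaf (CohB1.ProjSpace.toSpec 3 k))
      (Omega.sheaf (CohB1.ProjSpace.toSpec 3 k)) :=
    Groth.Agent.Lib.R2H2.ExtPowOne.isExtPow_one _
  have h2 : Subsingleton (Coh.HH (CohB1.ProjSpace 3 k)
      (CohB1.tensorMod (Omega.sheaf (CohB1.ProjSpace.toSpec 3 k)) (Twist.twistProjSpace 3 k 1)) 0) :=
    Groth.Agent.Lib.R2H2.PnBott.vanish_extPow 3 k hL 1 0 (by omega) (by omega) (by omega)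
  have h1 : Subsingleton (Coh.HH (CohB1.ProjSpace 3 k) (Twist.twistProjSpace 3 k (-1)) (0 + 1)) :=
    Groth.Agent.S0844.result k 3 (-1) 1 (by omega) (by omega)
  let S : ShortComplex (CohB1.ProjSpace 3 k).Modules :=
    ShortComplex.mk u (cokernel.π u) (cokernel.condition u)
  have hS : S.ShortExact :=
    { exact := ShortComplex.exact_cokernel u
      mono_f := inferInstanceAs (Mono u)
      epi_g := inferInstanceAs (Epi (cokernel.π u)) }
  exact Groth.Agent.Lib.R2H2.PnBeilinson.subsingleton_X₃ S hS 0 h2 h1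

end Groth.Agent.S11509
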