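import Groth.Statements.S11514
import Groth.Agent.Lib.R2H2PnSerreCorr

set_option autoImplicit false
universe u
open VBPn

namespace Groth.Agent.S11514

open CategoryTheory CategoryTheory.Limits AlgebraicGeometry in
/-- Let k be an algebraically closed field of characteristic zero, n ≥ 2, i : Y → P^n_k a closed
immersion which is a local complete intersection of codimension 2 with ideal sheaf J_Y, and E a
rank-2 vector bundle belonging to Y: finite locally free of rank 2 with a short exact sequence 0 → O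
→ E → J_Y ⊗ O(c) → 0. Let k₀ satisfy c + 2k₀ = 0 or c + 2k₀ = −1. Then H^0(P^n_k, E ⊗ O(k₀)) = 0 if
and only if c > 0 and H^0(P^n_k, J_Y ⊗ O(d)) = 0 for all integers d with 2d ≤ c, i.e. Y lies on no
hypersurface of degree at most c/2. The published statement speaks of stability of E; for rank 2
this is the vanishing of H^0 of the normalised twist E ⊗ O(k₀) stated here. -/
theorem result (k : Type u) [Field k] [IsAlgClosed k] [CharZero k]
    (n : ℕ) (hn : 2 ≤ n) {Y : Scheme.{u}} (i : Y ⟶ CohB1.ProjSpace n k) [IsClosedImmersion i]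
    (hlci : RegImm.IsRegularImmersionOfCodim RegImm.Kind.regular 2 i) (c : ℤ)
    (S : ShortComplex (CohB1.ProjSpace n k).Modules) (hS : S.ShortExact) (hE : FlatMod.IsFinLocFreeOfRank 2 S.X₂)
    (h₁ : Nonempty (S.X₁ ≅ Coh.structureModule (CohB1.ProjSpace n k)))
    (h₃ : Nonempty (S.X₃ ≅ CohB1.tensorMod (ClSub.idealMod i.ker) (Twist.twistProjSpace n k c)))
    (k₀ : ℤ) (hk₀ : c + 2 * k₀ = 0 ∨ c + 2 * k₀ = -1) :
    Subsingleton (Coh.HH (CohB1.ProjSpace n k) (CohB1.tensorMod S.X₂ (Twist.twistProjSpace n k k₀)) 0) ↔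
      (0 < c ∧ ∀ d : ℤ, 2 * d ≤ c →
        Subsingleton (Coh.HH (CohB1.ProjSpace n k)
          (CohB1.tensorMod (ClSub.idealMod i.ker) (Twist.twistProjSpace n k d)) 0)) := by
  haveI : Mono (ClSub.idealModι i.ker) := by
    unfold ClSub.idealModι
    exact equalizer.ι_mono
  have hmain := Groth.Agent.Lib.R2H2.PnSerreCorr.main k n hn (ClSub.idealMod i.ker) c S hS h₁ h₃ k₀
  have hle : ∀ d' d : ℤ, d' ≤ d →
      Subsingleton (Coh.HH (CohB1.ProjSpace n k)
        (CohB1.tensorMod (ClSub.idealMod i.ker) (Twist.twistProjSpace n k d)) 0) →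
      Subsingleton (Coh.HH (CohB1.ProjSpace n k)
        (CohB1.tensorMod (ClSub.idealMod i.ker) (Twist.twistProjSpace n k d')) 0) :=
    fun d' d hd h =>
      Groth.Agent.Lib.R2H2.PnSerreCorr.subsingleton_H0_twist_of_le k n (ClSub.idealModι i.ker) d' d hd h
  rw [hmain]
  constructor
  · rintro ⟨hk, hJ⟩
    exact ⟨by omega, fun d hd => hle d (c + k₀) (by omega) hJ⟩
  · rintro ⟨hc, hJ⟩
    exact ⟨by omega, hJ (c + k₀) (by omega)⟩

end Groth.Agent.S11514
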