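import Groth.Statements.S11519
import Groth.Agent.Lib.R2H2PnNullCorrIso

set_option autoImplicit false
universe u
open VBPn

namespace Groth.Agent.S11519

open CategoryTheory CategoryTheory.Limits AlgebraicGeometry in
/-- Let k be an algebraically closed field of characteristic zero and a, a' : O(−1) → Ω^1 ⊗ O(1) two
bundle monomorphisms of O-modules on P^3_k, i.e. monomorphisms whose cokernels E, E' are finite
locally free of rank 2 (null-correlation bundles up to duality). Then E ≅ E' if and only if a' = c·a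
for a nonzero constant c ∈ k: the underlying map of abelian sheaves of a' equals that of a followed
by multiplication by c on Ω^1 ⊗ O(1). -/
theorem result (k : Type u) [Field k] [IsAlgClosed k] [CharZero k]
    (a a' : Twist.twistProjSpace 3 k (-1) ⟶
      CohB1.tensorMod (Omega.sheaf (CohB1.ProjSpace.toSpec 3 k)) (Twist.twistProjSpace 3 k 1))
    [Mono a] [Mono a'] (hE : FlatMod.IsFinLocFreeOfRank 2 (cokernel a)) (hE' : FlatMod.IsFinLocFreeOfRank 2 (cokernel a')) :
    Nonempty (cokernel a ≅ cokernel a') ↔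
      ∃ c : k, c ≠ 0 ∧ (SheafOfModules.toSheaf (CohB1.ProjSpace 3 k).ringCatSheaf).map a' =
        (SheafOfModules.toSheaf (CohB1.ProjSpace 3 k).ringCatSheaf).map a ≫
          Coh.smulAb (CohB1.tensorMod (Omega.sheaf (CohB1.ProjSpace.toSpec 3 k)) (Twist.twistProjSpace 3 k 1))
            (Coh.toGlobal (CohB1.ProjSpace.toSpec 3 k) c) := by
  haveI : EnoughInjectives (CohB1.ProjSpace 3 k).Modules :=
    Groth.Agent.S0485.result (Opens.grothendieckTopology (CohB1.ProjSpace 3 k))
      (CohB1.ProjSpace 3 k).ringCatSheaf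
  haveI : HasExt.{u} (CohB1.ProjSpace 3 k).Modules := hasExt_of_enoughInjectives.{u} _
  haveI : Nonempty (CohB1.ProjSpace 3 k) := Groth.Agent.Lib.R2H2.PnLocFree.nonempty_projSpace k 3
  have key : ∀ c : k, (SheafOfModules.toSheaf (CohB1.ProjSpace 3 k).ringCatSheaf).map
      (a ≫ (c • 𝟙 (Groth.Agent.Lib.R2H2.PnNullCorr.OmTw k 3))) =
      (SheafOfModules.toSheaf (CohB1.ProjSpace 3 k).ringCatSheaf).map a ≫
        Coh.smulAb (CohB1.tensorMod (Omega.sheaf (CohB1.ProjSpace.toSpec 3 k))
          (Twist.twistProjSpace 3 k 1)) (Coh.toGlobal (CohB1.ProjSpace.toSpec 3 k) c) := by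
    intro c
    refine ((SheafOfModules.toSheaf (CohB1.ProjSpace 3 k).ringCatSheaf).map_comp a _).trans ?_
    rw [KLin.smul_id]
    rfl
  constructor
  · rintro ⟨θ⟩
    obtain ⟨c, hc0, hc⟩ := Groth.Agent.Lib.R2H2.PnNullCorrIso.proportional_of_iso (k := k) (n := 3)
      a a' (Groth.Agent.Lib.R2H2.PnNullCorrIso.not_isZero_of_rank_pos hE (by norm_num)) θ
    refine ⟨c, hc0, ?_⟩
    rw [hc]
    exact key c
  · rintro ⟨c, hc0, hc⟩
    refine Groth.Agent.Lib.R2H2.PnNullCorrIso.iso_of_proportional (k := k) (n := 3) a a' c hc0 ?_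
    apply (SheafOfModules.toSheaf (CohB1.ProjSpace 3 k).ringCatSheaf).map_injective
    rw [hc]
    exact (key c).symm

end Groth.Agent.S11519
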