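import Groth.Statements.S5022
import Groth.Agent.Lib.Helper18OmLS15
import Groth.Agent.Lib.Helper20LocFree
import Groth.Agent.Lib.Helper3SmDim
import Groth.Agent.Lib.R2LeadJacJ

set_option autoImplicit false
universe u
open CategoryTheory CategoryTheory.Limits AlgebraicGeometry TopologicalSpace
open Unram17

namespace Groth.Agent.S5022

open Groth.Agent.Lib.Helper20.EtLocal Groth.Agent.Helper18FittSh Groth.Agent.Helper18Fitt
  Groth.Agent.Lib.Helper4.FibDim


/-- Let f : X ⟶ Y be locally of finite presentation, (Ω', d) a sheaf of differentials of X over Y (d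
universal) and x a point of X. Then f is smooth at x if and only if the stalk map at x is flat and
there are an open neighbourhood U of x and an integer n with Ω' free of rank n on U and n equal to
the local dimension at x of the fibre of f through x. -/
theorem result {X Y : Scheme.{u}} (f : X ⟶ Y)
    [LocallyOfFinitePresentation f] (Ω' : X.Modules) (d : OmegaSh.Der f Ω') (hd : OmegaSh.IsUniversal d) (x : ↥X) :
    x ∈ f.smoothLocus ↔
      (f.stalkMap x).hom.Flat ∧
        ∃ (U : X.Opens) (n : ℕ), x ∈ U ∧ Nonempty (Ω'.restrict U.ι ≅ FlatMod.freeMod (↑U) n) ∧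
          FlatMor.fibreDimAt f x = (n : WithBot ℕ∞) := by
  haveI := Groth.Agent.Helper18OmLS.isQuasicoherent_of_isUniversal f d hd
  constructor
  · intro hx
    refine ⟨?_, ?_⟩
    · obtain ⟨W, hxW, hW⟩ := Groth.Agent.Lib.Helper20.FlatDesc.exists_smooth_nbhd f x hx
      haveI : Flat (W.ι ≫ f) := inferInstance
      exact flat_stalkMap_of_nbhd f x W hxW
    · obtain ⟨V, hV, U₀, hU₀, hUV, hxU₀, hsm⟩ := exists_smooth_of_formallySmooth_stalk f x hx
      have hfp := f.finitePresentation_appLE hV hU₀ hUV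
      obtain ⟨r, hr, hst⟩ : ∃ r : Γ(X, U₀), r ∉ (hU₀.primeIdealOf ⟨x, hxU₀⟩).asIdeal ∧
          (f.appLE V (X.basicOpen r) ((X.basicOpen_le r).trans hUV)).hom.IsStandardSmooth := by
        algebraize [(f.appLE V U₀ hUV).hom]
        haveI : Algebra.IsSmoothAt Γ(Y, V) (hU₀.primeIdealOf ⟨x, hxU₀⟩).asIdeal := inferInstance
        obtain ⟨r, hr, hst⟩ := Algebra.IsSmoothAt.exists_notMem_isStandardSmooth Γ(Y, V)
          (hU₀.primeIdealOf ⟨x, hxU₀⟩).asIdeal
        refine ⟨r, hr, appLE_basicOpen_of_away RingHom.isStandardSmooth_respectsIso f hU₀ hUV r ?_⟩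
        rw [RingHom.isStandardSmooth_algebraMap]
        exact hst
      have hxU : x ∈ X.basicOpen r := mem_basicOpen_of_notMem_primeIdealOf hU₀ x hxU₀ r hr
      have hU : IsAffineOpen (X.basicOpen r) := hU₀.basicOpen r
      set U := X.basicOpen r with hUdef
      have e : U ≤ f ⁻¹ᵁ V := (X.basicOpen_le r).trans hUV
      obtain ⟨n, hn⟩ := Groth.Agent.Lib.Helper3.SmDim.exists_relDim_of_isStandardSmooth _ hst
      refine ⟨U, n, hxU, ?_, Groth.Agent.Lib.Helper3.SmDim.fibreDimAt_eq_of_chart f n x hV hU hxU e hn⟩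
      letI alg : Algebra Γ(Y, V) Γ(X, U) := (f.appLE V U e).hom.toAlgebra
      haveI hn' : Algebra.IsStandardSmoothOfRelativeDimension n Γ(Y, V) Γ(X, U) := hn
      haveI : Nonempty U := ⟨⟨x, hxU⟩⟩
      haveI : Nontrivial Γ(X, U) := inferInstance
      have hrank : Module.rank Γ(X, U) Ω[Γ(X, U)⁄Γ(Y, V)] = n :=
        Algebra.IsStandardSmoothOfRelativeDimension.rank_kaehlerDifferential n
      haveI : Algebra.IsStandardSmooth Γ(Y, V) Γ(X, U) :=
        Algebra.IsStandardSmoothOfRelativeDimension.isStandardSmooth n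
      haveI : Module.Free Γ(X, U) Ω[Γ(X, U)⁄Γ(Y, V)] := inferInstance
      haveI : Module.Finite Γ(X, U) Ω[Γ(X, U)⁄Γ(Y, V)] := Module.finite_of_rank_eq_nat hrank
      let b : Module.Basis (Fin n) Γ(X, U) Ω[Γ(X, U)⁄Γ(Y, V)] :=
        Module.finBasisOfFinrankEq _ _ (Module.finrank_eq_of_rank_eq hrank)
      let eΩ : ((Groth.Agent.Lib.Helper20.Thickening.ΓUF hU).obj Ω') ≃ₗ[Γ(X, U)] Ω[Γ(X, U)⁄Γ(Y, V)] :=
        (Groth.Agent.Helper18OmLS.ΓUFIso f d hd hU hV e rfl).toLinearEquiv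
      exact ⟨Groth.Agent.Lib.Helper20.LocFree.restrictIsoFreeMod' Ω' hU (b.map eΩ.symm)⟩
  · rintro ⟨hflat, U, n, hxU, ⟨e⟩, hdim⟩
    have hft : CohB1.IsFT Ω' := Groth.Agent.Helper18OmLS.isFiniteType_of_isUniversal f d hd
    have hns : x ∉ (Fitt.sheafIdeal Ω' n).support :=
      notMem_support_of_epi Ω' hft x n U hxU e.inv
    obtain ⟨V, hV, hfxV, -⟩ := exists_isAffineOpen_mem_and_subset (x := f x) (U := ⊤) trivial
    obtain ⟨U', hU', hxU', hUV⟩ := exists_isAffineOpen_mem_and_subset (x := x) (U := f ⁻¹ᵁ V) hfxV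
    rw [mem_support_iff Ω' n (finite_sections Ω' hft) x ⟨U', hU'⟩ hxU'] at hns
    rw [Scheme.Hom.mem_smoothLocus, formallySmooth_stalkMap_iff V hV U' hU' hUV hxU']
    letI := (f.appLE V U' hUV).hom.toAlgebra
    haveI : Algebra.FinitePresentation Γ(Y, V) Γ(X, U') := f.finitePresentation_appLE hV hU' hUV
    rw [fitt_congr' (Groth.Agent.Helper18OmLS.sectionsEquiv f d hd hU' hV hUV rfl) n] at hns
    set z := hU'.primeIdealOf ⟨x, hxU'⟩ with hz
    have hzx : hU'.fromSpec z = x := hU'.fromSpec_primeIdealOf ⟨x, hxU'⟩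
    have hdim' : fibLD (PrimeSpectrum.comap (algebraMap Γ(Y, V) Γ(X, U'))) z = (n : WithBot ℕ∞) := by
      rw [← hdim, fibreDimAt_eq_fibLD, ← hzx, fibLD_fromSpec f hU' hV hUV z]
      rfl
    have hfl := (flat_stalkMap_iff_chart V hV U' hU' hUV hxU').mp hflat
    haveI : z.asIdeal.LiesOver (hV.primeIdealOf ⟨f x, hUV hxU'⟩).asIdeal :=
      ⟨congr($(IsAffineOpen.comap_primeIdealOf_appLE V hV U' hU' hUV hxU').1).symm⟩
    letI := Localization.AtPrime.algebraOfLiesOver (hV.primeIdealOf ⟨f x, hUV hxU'⟩).asIdeal z.asIdeal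
    haveI := hfl
    exact Groth.Agent.Lib.R2LeadJacI.isSmoothAt_of_fitt z n
      (Module.Flat.trans Γ(Y, V) (Localization.AtPrime (hV.primeIdealOf ⟨f x, hUV hxU'⟩).asIdeal) _)
      hns hdim'


end Groth.Agent.S5022
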