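import Groth.Statements.S1194
import Mathlib
import Groth.Agent.Lib.R2H4LocEssFP

set_option autoImplicit false
universe u
open FlatMor

namespace Groth.Agent.S1194

open IsLocalRing in
/-- Let R → S be a local homomorphism of local rings which is essentially of finite presentation, and N
a finitely presented S-module flat over R. Then multiplication by any element of S acting
injectively on N/𝔪_R N is a universally injective map of R-modules on N, and the localization map
from N to its localization at all such elements is universally injective over R. -/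
theorem result {R S : Type u} [CommRing R] [IsLocalRing R] [CommRing S] [IsLocalRing S] [Algebra R S]
    [IsLocalHom (algebraMap R S)] (hS : FlatCA.EssFinitePresentation R S)
    (N : Type u) [AddCommGroup N] [Module S N] [Module R N] [IsScalarTower R S N] [Module.FinitePresentation S N] [Module.Flat R N] :
    (∀ s ∈ FlatCA.nzdFiber R S N, FlatCA.UnivInj R ((LinearMap.lsmul S N s).restrictScalars R)) ∧
    FlatCA.UnivInj R ((LocalizedModule.mkLinearMap (FlatCA.nzdFiber R S N) N).restrictScalars R) := by
  classical
  have part1 : ∀ s ∈ FlatCA.nzdFiber R S N, ∀ (Q : Type u) [AddCommGroup Q] [Module R Q],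
      Function.Injective (((LinearMap.lsmul S N s).restrictScalars R).rTensor Q) := by
    intro s hs Q _ _
    rw [injective_iff_map_eq_zero]
    intro z hz
    rw [Groth.Agent.S1200.rTensor_lsmul] at hz
    exact Groth.Agent.Lib.R2H4.LocEssFP.eq_zero_of_smul_eq_zero_of_mem_nzdFiber hS N hs Q z hz
  refine ⟨fun s hs Q _ _ => (LinearMap.lTensor_inj_iff_rTensor_inj _ _).2 (part1 s hs Q), ?_⟩
  intro Q _ _
  rw [LinearMap.lTensor_inj_iff_rTensor_inj]
  rw [injective_iff_map_eq_zero]
  intro x hx
  have hx' : (TensorProduct.AlgebraTensorModule.rTensor R Q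
      (LocalizedModule.mkLinearMap (FlatCA.nzdFiber R S N) N)) x = 0 := hx
  obtain ⟨c, hc⟩ := (IsLocalizedModule.eq_zero_iff (FlatCA.nzdFiber R S N)
    (TensorProduct.AlgebraTensorModule.rTensor R Q
      (LocalizedModule.mkLinearMap (FlatCA.nzdFiber R S N) N))).mp hx'
  apply part1 c.1 c.2 Q
  rw [map_zero, Groth.Agent.S1200.rTensor_lsmul]
  exact hc

end Groth.Agent.S1194
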