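import Groth.Statements.S12111
import Groth.Agent.Lib.R2H2ClosedPn
import Groth.Agent.Lib.R2H2PnGG
import Groth.Agent.Lib.R2H2PnMulSurj

set_option autoImplicit false
universe u
open CategoryTheory CategoryTheory.Limits AlgebraicGeometry
open Pic13

namespace Groth.Agent.S12111

/-- Let k be an algebraically closed field, i : X ⟶ P^n_k a closed immersion and O_X(1) = i^*O(1). If a
coherent O_X-module F is m-regular (H^q(X, F(m - q)) = 0 for every q ≥ 1) then for every integer n'
≥ m, F is n'-regular and F(n') is generated by its global sections. (The published statement is for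
a projective k-scheme with an ample O_X(1) generated by its sections at the points of the support of
F; this row is the case of a closed subscheme of projective space.) -/
theorem result (k : Type u) [Field k] [IsAlgClosed k] (n : ℕ) {X : Scheme.{u}}
    (i : X ⟶ CohB1.ProjSpace n k) [IsClosedImmersion i] (F : X.Modules) (hF : Coh.IsCoh F) (m : ℤ)
    (h : Pic13.IsMRegular k i F m) (n' : ℤ) (hn' : m ≤ n') :
    Pic13.IsMRegular k i F n' ∧ Curv2.IsGloballyGenerated (Pic13.twistOn k i F n') := by
  classical
  let G := (Scheme.Modules.pushforward i).obj F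
  have hG : Coh.IsCoh G := Groth.Agent.Lib.R2H2.ClosedPn.isCoh_push i F hF
  have tr : ∀ (d : ℤ) (q : ℕ), Subsingleton (Coh.HH X (Pic13.twistOn k i F d) q) ↔
      Subsingleton (Coh.HH (CohB1.ProjSpace n k)
        (CohB1.tensorMod G (Twist.twistProjSpace n k d)) q) :=
    fun d q => Groth.Agent.Lib.R2H2.ClosedPn.subsingleton_HH_twistOn_iff n k i F hF.1 d q
  have hreg : ∀ q : ℕ, 1 ≤ q → q ≤ n → Subsingleton (Coh.HH (CohB1.ProjSpace n k)
      (CohB1.tensorMod G (Twist.twistProjSpace n k (m - q))) q) :=
    fun q hq _ => (tr (m - q) q).1 (h q hq)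
  have hall := Groth.Agent.Lib.R2H2.PnMulSurj.regular_all n k G hG.1 m hreg
  refine ⟨fun q hq => (tr (n' - q) q).2 (hall q hq (n' - q) (by omega)), ?_⟩
  have hreg' : ∀ q : ℕ, 1 ≤ q → q ≤ n → Subsingleton (Coh.HH (CohB1.ProjSpace n k)
      (CohB1.tensorMod G (Twist.twistProjSpace n k (n' - q))) q) :=
    fun q hq _ => hall q hq (n' - q) (by omega)
  have gg := Groth.Agent.Lib.R2H2.PnGG.globallyGenerated_of_regular n k G hG n' hreg'
  obtain ⟨e⟩ := Groth.Agent.Lib.R2H2.ClosedPn.nonempty_push_twist_iso n k i F n'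
  exact Groth.Agent.Lib.R2H2.ClosedPn.isGloballyGenerated_of_push i
    i.isClosedEmbedding.isEmbedding _
    (Groth.Agent.Lib.R2H2.ClosedPn.isGloballyGenerated_of_iso e.symm gg)

end Groth.Agent.S12111
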