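import Groth.Statements.S12112
import Groth.Agent.Lib.R2H2ClosedPnLin
import Groth.Agent.Lib.R2H2PnMumford

set_option autoImplicit false
universe u
open CategoryTheory CategoryTheory.Limits AlgebraicGeometry
open Pic13

namespace Groth.Agent.S12112

/-- Let k be an algebraically closed field, i : X ⟶ P^n_k a closed k-immersion, O_X(1) = i^*O(1), and F,
G coherent O_X-modules with a short exact sequence 0 → F(-1) → F → G → 0 and G m-regular. Then (i)
H^q(X, F(n')) = 0 for q ≥ 2 and n' ≥ m - q; (ii) h^1(F(n' - 1)) ≥ h^1(F(n')) for n' ≥ m - 1, h^1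
being the dimension over k; (iii) H^1(X, F(n')) = 0 for n' ≥ (m - 1) + h^1(F(m - 1)); in particular
F is (m + h^1(F(m - 1)))-regular. (The published statement takes F(-1) → F given by a section of
O_X(1); the printed argument uses only the short exact sequence and its twists, so any short exact
sequence of this shape is allowed here.) -/
theorem result (k : Type u) [Field k] [IsAlgClosed k] (n : ℕ) (X : Scheme.{u})
    [X.Over (Spec (CommRingCat.of k))] (i : X ⟶ CohB1.ProjSpace n k) [IsClosedImmersion i]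
    (hi : i ≫ CohB1.ProjSpace.toSpec n k = X ↘ Spec (CommRingCat.of k))
    (F G : X.Modules) (hF : Coh.IsCoh F) (hG : Coh.IsCoh G)
    (f : Pic13.twistOn k i F (-1) ⟶ F) (g : F ⟶ G) (hfg : f ≫ g = 0) (hS : (ShortComplex.mk f g hfg).ShortExact)
    (m : ℤ) (hGm : Pic13.IsMRegular k i G m) :
    (∀ (q : ℕ) (n' : ℤ), 2 ≤ q → m - q ≤ n' → Subsingleton (Coh.HH X (Pic13.twistOn k i F n') q)) ∧
    (∀ n' : ℤ, m - 1 ≤ n' →
      Module.finrank k (Coh.HH X (Pic13.twistOn k i F n') 1) ≤ Module.finrank k (Coh.HH X (Pic13.twistOn k i F (n' - 1)) 1)) ∧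
    (∀ n' : ℤ, (m - 1) + (Module.finrank k (Coh.HH X (Pic13.twistOn k i F (m - 1)) 1) : ℤ) ≤ n' →
      Subsingleton (Coh.HH X (Pic13.twistOn k i F n') 1)) ∧
    Pic13.IsMRegular k i F (m + Module.finrank k (Coh.HH X (Pic13.twistOn k i F (m - 1)) 1)) := by
  classical
  have hce : Topology.IsClosedEmbedding i.base := i.isClosedEmbedding
  have hF' : Coh.IsCoh ((Scheme.Modules.pushforward i).obj F) :=
    Groth.Agent.Lib.R2H2.ClosedPn.isCoh_push i F hF
  have hS' := Groth.Agent.Lib.R2H2.ClosedPnLin.shortExact_map_push i hce _ hS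
  obtain ⟨e⟩ := Groth.Agent.Lib.R2H2.ClosedPn.nonempty_push_twist_iso n k i F (-1)
  have hT := Groth.Agent.Lib.R2H2.PnMumford.shortExact_precomp_iso _ hS' e.symm
  let ι : CohB1.tensorMod ((Scheme.Modules.pushforward i).obj F)
      (Twist.twistProjSpace n k (-1)) ⟶ (Scheme.Modules.pushforward i).obj F :=
    e.symm.hom ≫ (Scheme.Modules.pushforward i).map f
  have hmono : Mono ι := hT.mono_f
  have hepi : Epi ((Scheme.Modules.pushforward i).map g) := hT.epi_g
  let c : cokernel ι ≅ (Scheme.Modules.pushforward i).obj G :=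
    (cokernelIsCokernel ι).coconePointUniqueUpToIso (@ShortComplex.Exact.gIsCokernel _ _ _ _ _
      hT.exact hepi)
  have hG' : ∀ q : ℕ, 1 ≤ q → q ≤ n → Subsingleton (Coh.HH (CohB1.ProjSpace n k)
      (CohB1.tensorMod (cokernel ι) (Twist.twistProjSpace n k (m - q))) q) := by
    intro q hq _
    have h1 := (Groth.Agent.Lib.R2H2.ClosedPn.subsingleton_HH_twistOn_iff n k i G hG.1
      (m - q) q).1 (hGm q hq)
    exact Groth.Agent.Lib.R2H2.PnSerre.subsingleton_HH_of_iso
      ((Groth.Agent.Lib.R2H2.PnSerre.twR (Twist.twistProjSpace n k (m - q))).mapIso c.symm) q h1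
  obtain ⟨m1, m2, m3⟩ := @Groth.Agent.Lib.R2H2.PnMumford.main k _ n
    ((Scheme.Modules.pushforward i).obj F) hF' ι hmono m hG'
  have fr : ∀ d : ℤ, Module.finrank k (Coh.HH X (Pic13.twistOn k i F d) 1) =
      Module.finrank k (Coh.HH (CohB1.ProjSpace n k) (CohB1.tensorMod
        ((Scheme.Modules.pushforward i).obj F) (Twist.twistProjSpace n k d)) 1) :=
    fun d => Groth.Agent.Lib.R2H2.ClosedPnLin.finrank_HH_twistOn_eq n k i hi F hF.1 d 1
  have tr : ∀ (d : ℤ) (q : ℕ), Subsingleton (Coh.HH X (Pic13.twistOn k i F d) q) ↔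
      Subsingleton (Coh.HH (CohB1.ProjSpace n k) (CohB1.tensorMod
        ((Scheme.Modules.pushforward i).obj F) (Twist.twistProjSpace n k d)) q) :=
    fun d q => Groth.Agent.Lib.R2H2.ClosedPn.subsingleton_HH_twistOn_iff n k i F hF.1 d q
  have c1 : ∀ (q : ℕ) (n' : ℤ), 2 ≤ q → m - q ≤ n' →
      Subsingleton (Coh.HH X (Pic13.twistOn k i F n') q) :=
    fun q n' hq hn => (tr n' q).2 (m1 q n' hq hn)
  have c3 : ∀ n' : ℤ, (m - 1) +
      (Module.finrank k (Coh.HH X (Pic13.twistOn k i F (m - 1)) 1) : ℤ) ≤ n' →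
      Subsingleton (Coh.HH X (Pic13.twistOn k i F n') 1) := by
    intro n' hn
    refine (tr n' 1).2 (m3 n' ?_)
    rw [← fr]
    exact hn
  refine ⟨c1, fun n' hn => ?_, c3, ?_⟩
  · rw [fr, fr]
    exact m2 n' hn
  · intro q hq
    by_cases h1 : q = 1
    · subst h1
      exact c3 _ (by push_cast; omega)
    · exact c1 q _ (by omega) (by omega)

end Groth.Agent.S12112
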