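import Groth.Statements.S12129
import Mathlib
-- import your own Groth.Agent.* helpers here

set_option autoImplicit false
universe u
open EGA2

namespace Groth.Agent.S12129

open AlgebraicGeometry CategoryTheory in
/-- the closure of a point is an irreducible closed set whose generic point is that point; it is
contained strictly in the closure of any strict generization -/
private lemma closure_ssubset_of_lt {X : Scheme.{u}} {a b : X} (h : a < b) :
    closure ({a} : Set X) ⊂ closure ({b} : Set X) := by
  have hab : b ⤳ a := h.le
  have hba : ¬ a ⤳ b := fun h' => h.not_ge h'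
  refine ⟨?_, ?_⟩
  · exact closure_minimal (Set.singleton_subset_iff.mpr hab.mem_closure) isClosed_closure
  · intro hsub
    apply hba
    rw [specializes_iff_mem_closure]
    exact hsub (subset_closure rfl)

open AlgebraicGeometry CategoryTheory in
private lemma not_mem_components_of_lt {X : Scheme.{u}} {a b : X} (h : a < b) :
    closure ({a} : Set X) ∉ irreducibleComponents (X : Type u) := by
  intro hc
  have hss := closure_ssubset_of_lt h
  have hirr : IsIrreducible (closure ({b} : Set X)) := isIrreducible_singleton.closure
  exact hss.2 (hc.2 hirr hss.1)

open AlgebraicGeometry CategoryTheory in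
/-- an irreducible closed set which is not a component is the closure of a point having a strict
generization -/
private lemma exists_lt_of_not_mem_components {X : Scheme.{u}} {F : Set X} (hF : IsClosed F)
    (hirr : IsIrreducible F) (hnc : F ∉ irreducibleComponents (X : Type u)) :
    ∃ a b : X, a < b ∧ F = closure {a} := by
  obtain ⟨Z, hZ, hFZ⟩ := exists_mem_irreducibleComponents_subset_of_isIrreducible F hirr
  have hZc : IsClosed Z := isClosed_of_mem_irreducibleComponents Z hZ
  have hne : F ≠ Z := fun h => hnc (h ▸ hZ)
  have hZirr : IsIrreducible Z := hZ.1
  have ha : closure ({hirr.genericPoint} : Set X) = F := hirr.closure_genericPoint hF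
  have hb : closure ({hZirr.genericPoint} : Set X) = Z := hZirr.closure_genericPoint hZc
  refine ⟨hirr.genericPoint, hZirr.genericPoint, ?_, ha.symm⟩
  have hle : hirr.genericPoint ≤ hZirr.genericPoint := by
    show hZirr.genericPoint ⤳ hirr.genericPoint
    rw [specializes_iff_mem_closure, hb]
    exact hFZ (ha.subset (subset_closure rfl))
  refine lt_of_le_not_ge hle ?_
  intro hge
  have hge' : hirr.genericPoint ⤳ hZirr.genericPoint := hge
  apply hne
  apply subset_antisymm hFZ
  rw [← hb, ← ha]
  exact closure_minimal (Set.singleton_subset_iff.mpr hge'.mem_closure) isClosed_closure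

open AlgebraicGeometry CategoryTheory in
/-- Let X be a scheme of finite type over a field k. Then the local ring of X at every closed point has
dimension one if and only if the irreducible closed subsets of X other than its irreducible
components are exactly the (singletons of) closed points of X — that is, every irreducible closed
subset which is not an irreducible component is a closed point, and no closed point is by itself an
irreducible component. -/
theorem result (k : Type u) [Field k] (X : Scheme.{u})
    [X.Over (Spec (CommRingCat.of k))] [LocallyOfFiniteType (X ↘ (Spec (CommRingCat.of k)))]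
    [QuasiCompact (X ↘ (Spec (CommRingCat.of k)))] :
    (∀ x : X, IsClosed ({x} : Set X) → ringKrullDim (X.presheaf.stalk x) = 1) ↔
      ((∀ F : Set X, IsClosed F → IsIrreducible F → F ∉ irreducibleComponents (X : Type u) →
          ∃ x : X, IsClosed ({x} : Set X) ∧ F = {x}) ∧
        ∀ x : X, IsClosed ({x} : Set X) → ({x} : Set X) ∉ irreducibleComponents (X : Type u)) := by
  have : CompactSpace X :=
    QuasiCompact.compactSpace_of_compactSpace (X ↘ (Spec (CommRingCat.of k)))
  have hdim : ∀ x : X, ringKrullDim (X.presheaf.stalk x) = 1 ↔ Order.coheight x = 1 := by
    intro x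
    rw [ringKrullDim_stalk_eq_coheight]
    exact_mod_cast Iff.rfl
  have hone : ∀ x : X, Order.coheight x = 1 ↔ (¬ IsMax x ∧ ∀ y > x, IsMax y) := by
    intro x
    constructor
    · intro h
      refine ⟨?_, ?_⟩
      · rw [← Order.coheight_ne_zero, h]; exact one_ne_zero
      · have h1 : Order.coheight x ≤ (1 : ℕ) := by rw [h]; rfl
        rw [Order.coheight_le_coe_iff] at h1
        intro y hy
        have := h1 y hy
        rw [← Order.coheight_eq_zero]
        exact Order.lt_one_iff.mp (by exact_mod_cast this)
    · rintro ⟨h0, h1⟩
      apply le_antisymm
      · have : Order.coheight x ≤ (1 : ℕ) := by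
          rw [Order.coheight_le_coe_iff]
          intro y hy
          rw [Order.coheight_eq_zero.mpr (h1 y hy)]
          exact_mod_cast zero_lt_one
        exact_mod_cast this
      · rw [← Order.coheight_ne_zero] at h0
        exact Order.one_le_iff_ne_zero.mpr h0
  constructor
  · intro h
    refine ⟨?_, ?_⟩
    · intro F hF hirr hnc
      obtain ⟨a, b, hab, rfl⟩ := exists_lt_of_not_mem_components hF hirr hnc
      obtain ⟨x, hxF, hx⟩ := hF.exists_closed_singleton ⟨a, subset_closure rfl⟩
      refine ⟨x, hx, ?_⟩
      have hxa : x ≤ a := by
        show a ⤳ x
        rw [specializes_iff_mem_closure]; exact hxF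
      have h1 := ((hone x).mp ((hdim x).mp (h x hx))).2
      by_cases hge : a ≤ x
      swap
      · have hlt : x < a := lt_of_le_not_ge hxa hge
        exact absurd hab (fun hab => (h1 a hlt).not_lt hab)
      · have : a ⤳ x ∧ x ⤳ a := ⟨hxa, hge⟩
        have hEq : closure ({a} : Set X) = closure {x} :=
          subset_antisymm
            (closure_minimal (Set.singleton_subset_iff.mpr this.2.mem_closure) isClosed_closure)
            (closure_minimal (Set.singleton_subset_iff.mpr this.1.mem_closure) isClosed_closure)
        rw [hEq, hx.closure_eq]
    · intro x hx hc
      have h0 := ((hone x).mp ((hdim x).mp (h x hx))).1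
      rw [not_isMax_iff] at h0
      obtain ⟨y, hy⟩ := h0
      have := not_mem_components_of_lt hy
      rw [hx.closure_eq] at this
      exact this hc
  · rintro ⟨h1, h2⟩ x hx
    rw [hdim, hone]
    refine ⟨?_, ?_⟩
    · intro hmax
      apply h2 x hx
      by_contra hnc
      obtain ⟨a, b, hab, hF⟩ := exists_lt_of_not_mem_components hx isIrreducible_singleton hnc
      have hax : a = x := by
        have : a ∈ ({x} : Set X) := hF ▸ subset_closure rfl
        exact this
      subst hax
      exact hab.not_ge (hmax hab.le)
    · intro y hy z hyz
      by_contra hzy
      have hlt : y < z := lt_of_le_not_ge hyz hzy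
      have hnc := not_mem_components_of_lt hlt
      obtain ⟨w, hw, hFw⟩ := h1 _ isClosed_closure isIrreducible_singleton.closure hnc
      have hyw : y = w := by
        have : y ∈ ({w} : Set X) := hFw ▸ subset_closure rfl
        exact this
      subst hyw
      -- y is closed, but x < y means y ⤳ x so x ∈ closure {y} = {y}
      have hxy : y ⤳ x := hy.le
      have : x ∈ closure ({y} : Set X) := hxy.mem_closure
      rw [hw.closure_eq] at this
      have hxy' : x = y := this
      exact hy.ne hxy'

end Groth.Agent.S12129
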