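import Groth.Statements.S9966
import Mathlib
import Groth.Agent.S10192
import Groth.Agent.S10193
import Groth.Agent.S9934

set_option autoImplicit false
set_option linter.style.haveILetI false
universe u
open CategoryTheory CategoryTheory.Limits AlgebraicGeometry
open AlgSp

namespace Groth.Agent.S9966

/-- The scheme theoretic image of a morphism from a reduced algebraic space is the reduced induced
structure on the closure of its image. -/
theorem result {S : Scheme.{u}} {X Y Z : AlgSp.Space S} (f : X ⟶ Y) (i : Z ⟶ Y)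
    (hX : AlgSp.IsReducedSp X.obj) (hZ : AlgSp.IsSchImage f.hom i.hom) :
    AlgSp.IsRedInduced (closure (Set.range (AlgSp.Points.map f.hom))) i.hom := by
  obtain ⟨hi, ⟨f', hf'⟩, hmin⟩ := hZ
  obtain ⟨Z₀, i₀, hi₀, hr₀, hred₀⟩ :=
    Groth.Agent.S10192.result Y (closure (Set.range (AlgSp.Points.map f.hom))) isClosed_closure
  -- `f` factors through the reduced induced subspace
  obtain ⟨g, hg⟩ := (Groth.Agent.S10193.result i₀ hi₀ hX f).2 (by rw [hr₀]; exact subset_closure)
  obtain ⟨k, hk⟩ := hmin i₀.hom Z₀.property hi₀ ⟨g.hom, congrArg (fun m => m.hom) hg⟩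
  have himm : AlgSp.RepWith @IsImmersion i.hom := by
    refine ⟨hi.1, fun T W g pr w sq => ?_⟩
    haveI : IsClosedImmersion w.left := hi.2 g pr w sq
    change IsImmersion w.left
    infer_instance
  have hcl : IsClosed (Set.range (AlgSp.Points.map i.hom)) :=
    (Groth.Agent.S9934.result i himm).1 hi
  have hfi : Set.range (AlgSp.Points.map f.hom) ⊆ Set.range (AlgSp.Points.map i.hom) := by
    rintro _ ⟨x, rfl⟩
    exact ⟨AlgSp.Points.map f' x, by rw [← AlgSp.Points.map_comp, hf']⟩
  have hsub : closure (Set.range (AlgSp.Points.map f.hom)) ⊆ Set.range (AlgSp.Points.map i.hom) :=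
    closure_minimal hfi hcl
  obtain ⟨k', hk'⟩ := (Groth.Agent.S10193.result i hi hred₀ i₀).2 (by rw [hr₀]; exact hsub)
  have hk'' : k'.hom ≫ i.hom = i₀.hom := congrArg (fun m => m.hom) hk'
  refine ⟨hi, ?_, ?_⟩
  · apply Set.Subset.antisymm _ hsub
    rintro _ ⟨z, rfl⟩
    rw [← hr₀]
    exact ⟨AlgSp.Points.map k z, by rw [← AlgSp.Points.map_comp, hk]⟩
  · haveI : Mono i.hom := Groth.Agent.S9928.mono_of_repWith @IsClosedImmersion
      (fun X Y g hg => by haveI : IsClosedImmersion g := hg; infer_instance) _ hi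
    haveI : Mono i₀.hom := Groth.Agent.S9928.mono_of_repWith @IsClosedImmersion
      (fun X Y g hg => by haveI : IsClosedImmersion g := hg; infer_instance) _ hi₀
    obtain ⟨e, -⟩ : ∃ e : Z₀.obj ≅ Z.obj, e.hom = k'.hom := ⟨
      { hom := k'.hom
        inv := k
        hom_inv_id := by
          rw [← cancel_mono i₀.hom, Category.assoc, hk, hk'', Category.id_comp]
        inv_hom_id := by
          rw [← cancel_mono i.hom, Category.assoc, hk'', hk, Category.id_comp] }, rfl⟩
    obtain ⟨V, p, hpe, hps, hV⟩ := hred₀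
    exact ⟨V, p ≫ e.hom, MorphismProperty.RespectsIso.postcomp _ _ _ hpe,
      MorphismProperty.RespectsIso.postcomp _ _ _ hps, hV⟩

end Groth.Agent.S9966
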