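import Groth.Statements.S12193
import Mathlib
import Groth.Agent.S9966
import Groth.Agent.S10193
import Groth.Agent.S9934
import Groth.Agent.S10764
import Groth.Agent.S10209
import Groth.Agent.S10211
import Groth.Agent.Lib.Helper12Reduced
import Groth.Agent.Lib.Helper12EtSmST

set_option autoImplicit false
set_option linter.style.haveILetI false
universe u
open CategoryTheory CategoryTheory.Limits AlgebraicGeometry
open AlgSp

namespace Groth.Agent.S12193

/-- Let X be a reduced algebraic space over S, f : X → Y a morphism of algebraic spaces over S, and Z →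
Y the scheme theoretic image of f. Then forming the scheme theoretic image commutes with etale base
change: for every etale morphism V → Y of algebraic spaces and cartesian squares X ×_Y V, Z ×_Y V,
the closed subspace Z ×_Y V → V is the scheme theoretic image of X ×_Y V → V. -/
theorem result {S : Scheme.{u}} {X Y Z V XV ZV : AlgSp.Space S} (f : X ⟶ Y)
    (i : Z ⟶ Y) (hX : AlgSp.IsReducedSp X.obj) (hZ : AlgSp.IsSchImage f.hom i.hom) (b : V ⟶ Y)
    (hb : AlgSp.IsEtaleMor b.hom) (f₁ : XV ⟶ X) (fV : XV ⟶ V) (i₁ : ZV ⟶ Z) (iV : ZV ⟶ V)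
    (sqX : IsPullback f₁.hom fV.hom f.hom b.hom) (sqZ : IsPullback i₁.hom iV.hom i.hom b.hom) :
    AlgSp.IsSchImage fV.hom iV.hom := by
  obtain ⟨hiC, hrange, hZred⟩ := Groth.Agent.S9966.result f i hX hZ
  obtain ⟨-, ⟨f', hf'⟩, -⟩ := hZ
  -- `iV` is a closed immersion
  have hiV : AlgSp.RepWith @IsClosedImmersion iV.hom :=
    MorphismProperty.of_isPullback (P := AlgSp.RepWith @IsClosedImmersion) sqZ hiC
  -- `ZV` is reduced
  have hi₁ : AlgSp.IsEtaleMor i₁.hom :=
    Groth.Agent.S10209.isEtaleMor_of_isPullback V.property Z.property sqZ hb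
  have hZVred : AlgSp.IsReducedSp ZV.obj :=
    Groth.Agent.Lib.Helper12.Reduced.isReducedSp_of_smooth ZV.property i₁.hom
      (Groth.Agent.Lib.Helper12.EtSmST.locP_smooth_of_isEtaleMor _ hi₁) hZred
  refine ⟨hiV, ⟨sqZ.lift (f₁.hom ≫ f') fV.hom (by rw [Category.assoc, hf', sqX.w]), sqZ.lift_snd _ _ _⟩, ?_⟩
  intro Z' i' hZ' hi' ⟨f'', hf''⟩
  -- range computations
  have hbopen : IsOpenMap (AlgSp.Points.map b.hom) :=
    Groth.Agent.S10211.isOpenMap_map_of_isEtaleMor V.property b.hom hb
  have hbcont : Continuous (AlgSp.Points.map b.hom) := AlgSp.Points.continuous_map b.hom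
  have h1 : Set.range (AlgSp.Points.map iV.hom) =
      AlgSp.Points.map b.hom ⁻¹' Set.range (AlgSp.Points.map i.hom) :=
    Groth.Agent.S10764.range_map_of_isPullback sqZ
  have h2 : Set.range (AlgSp.Points.map fV.hom) =
      AlgSp.Points.map b.hom ⁻¹' Set.range (AlgSp.Points.map f.hom) :=
    Groth.Agent.S10764.range_map_of_isPullback sqX
  have himm : AlgSp.RepWith @IsImmersion i' := by
    refine ⟨hi'.1, fun T W g pr w sq => ?_⟩
    haveI : IsClosedImmersion w.left := hi'.2 g pr w sq
    change IsImmersion w.left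
    infer_instance
  let Z'' : AlgSp.Space S := ⟨Z', hZ'⟩
  let i'' : Z'' ⟶ V := ⟨i'⟩
  have hcl : IsClosed (Set.range (AlgSp.Points.map i')) :=
    (Groth.Agent.S9934.result i'' himm).1 hi'
  have hsub : Set.range (AlgSp.Points.map iV.hom) ⊆ Set.range (AlgSp.Points.map i') := by
    rw [h1, hrange, hbopen.preimage_closure_eq_closure_preimage hbcont, ← h2]
    refine closure_minimal ?_ hcl
    rintro _ ⟨x, rfl⟩
    exact ⟨AlgSp.Points.map f'' x, by rw [← AlgSp.Points.map_comp, hf'']⟩
  obtain ⟨k, hk⟩ := (Groth.Agent.S10193.result i'' hi' hZVred iV).2 hsub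
  exact ⟨k.hom, congrArg (fun m => m.hom) hk⟩

end Groth.Agent.S12193
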