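import Groth.Statements.S12195
import Mathlib
import Groth.Agent.Lib.H5bFormalDesc
import Groth.Agent.Lib.Helper8FOGlue

set_option autoImplicit false
universe u
open CategoryTheory CategoryTheory.Limits AlgebraicGeometry
open AlgSp

namespace Groth.Agent.S12195

/-- Let a : F ⟶ G be a representable, surjective and etale morphism of fppf sheaves on (Sch/S) and b : G
⟶ H a morphism such that a ≫ b is formally smooth. Consider a solid infinitesimal lifting square for
b: a square-zero thickening T = Spec (A/I) ⊂ T' = Spec A of affine schemes over S, a morphism T ⟶ G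
and a morphism T' ⟶ H making the square commute. Then for every point t of T' there exist an affine
scheme U', an etale morphism U' ⟶ T' whose image contains t, and a morphism U' ⟶ G lying over T' ⟶ H
whose restriction to T ×_{T'} U' agrees with the given T ⟶ G (stated for every scheme V mapping
compatibly to T and U'). (The published statement is for transformations of arbitrary presheaves of
sets on (Sch/S)_fppf; this row takes fppf sheaves, the case of algebraic spaces.) -/
theorem result {S : Scheme.{u}} {F G H : AlgSp.Sp S} (a : F ⟶ G)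
    (b : G ⟶ H) (ha : AlgSp.RepWith @Etale a) (ha' : AlgSp.RepWith @Surjective a)
    (hab : AlgSp.IsFormallySmoothMor (a ≫ b)) (sq : AlgSp.InfSq b) (t : ↥sq.ptT'.left) :
    ∃ (U' : Over S) (g : U' ⟶ sq.ptT') (l : (AlgSp.yon S).obj U' ⟶ G),
      IsAffine U'.left ∧ Etale g.left ∧ (∃ u : ↥U'.left, g.left u = t) ∧
        l ≫ b = (AlgSp.yon S).map g ≫ sq.bot ∧
          ∀ (V : Over S) (p : V ⟶ sq.ptT) (q : V ⟶ U'), p ≫ sq.j = q ≫ g →
            (AlgSp.yon S).map q ≫ l = (AlgSp.yon S).map p ≫ sq.top := by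
  obtain ⟨E, e, fstE, sE⟩ := ha.1 sq.top
  have he : Etale e.left := ha.2 sq.top fstE e sE
  have hes : Surjective e.left := ha'.2 sq.top fstE e sE
  obtain ⟨W, W₀, c, k, r, hWaff, hcet, hpb, hcov⟩ :=
    Groth.Agent.Lib.H5bFormal.exists_cover_lift sq E e he hes
  obtain ⟨m, u, hu⟩ := hcov t
  obtain ⟨hthj, hsqj⟩ := Groth.Agent.Lib.H5bFormal.isFirstOrderThickening_j sq
  haveI := hWaff m
  have hkcl : IsClosedImmersion (k m).left :=
    MorphismProperty.of_isPullback (P := @IsClosedImmersion) (hpb m).flip hthj.1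
  have hksq : (k m).left.ker * (k m).left.ker = ⊥ :=
    Groth.Agent.Lib.H5bFormal.sqZero_baseChange (k m).left sq.j.left (r m ≫ e).left (c m).left
      hthj hsqj (hpb m)
  have hw : (r m ≫ e) ≫ sq.j = k m ≫ c m := Over.OverMorphism.ext (hpb m).w.symm
  have hcomm : ((AlgSp.yon S).map (r m) ≫ fstE) ≫ a ≫ b =
      (AlgSp.yon S).map (k m) ≫ (AlgSp.yon S).map (c m) ≫ sq.bot := by
    calc ((AlgSp.yon S).map (r m) ≫ fstE) ≫ a ≫ b
        = (AlgSp.yon S).map (r m) ≫ (fstE ≫ a) ≫ b := by simp only [Category.assoc]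
      _ = (AlgSp.yon S).map (r m) ≫ ((AlgSp.yon S).map e ≫ sq.top) ≫ b := by rw [sE.w]
      _ = ((AlgSp.yon S).map (r m) ≫ (AlgSp.yon S).map e) ≫ sq.top ≫ b := by
          simp only [Category.assoc]
      _ = (AlgSp.yon S).map (r m ≫ e) ≫ (AlgSp.yon S).map sq.j ≫ sq.bot := by
          rw [← Functor.map_comp, sq.comm]
      _ = (AlgSp.yon S).map ((r m ≫ e) ≫ sq.j) ≫ sq.bot :=
          ((AlgSp.yon S).map_comp_assoc _ _ _).symm
      _ = (AlgSp.yon S).map (k m ≫ c m) ≫ sq.bot := by rw [hw]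
      _ = (AlgSp.yon S).map (k m) ≫ (AlgSp.yon S).map (c m) ≫ sq.bot :=
          (AlgSp.yon S).map_comp_assoc _ _ _
  obtain ⟨L, hL1, hL2⟩ := Groth.Agent.Lib.Helper8FOGlue.exists_lift_of_sqZero_affine (a ≫ b) hab
    (k m) hksq ((AlgSp.yon S).map (r m) ≫ fstE) ((AlgSp.yon S).map (c m) ≫ sq.bot) hcomm
  refine ⟨W m, c m, L ≫ a, hWaff m, hcet m, ⟨u, hu⟩, ?_, ?_⟩
  · rw [Category.assoc]
    exact hL2
  · intro V p q hpq
    have hpqL : q.left ≫ (c m).left = p.left ≫ sq.j.left :=
      (congrArg (fun φ => φ.left) hpq).symm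
    let v₀l := (hpb m).lift q.left p.left hpqL
    have hv1 : v₀l ≫ (k m).left = q.left := (hpb m).lift_fst _ _ _
    have hv2 : v₀l ≫ (r m ≫ e).left = p.left := (hpb m).lift_snd _ _ _
    let v₀ : V ⟶ W₀ m := Over.homMk v₀l (by
      rw [← Over.w (k m), ← Category.assoc, hv1]
      exact Over.w q)
    have e1 : v₀ ≫ k m = q := Over.OverMorphism.ext hv1
    have e2 : v₀ ≫ (r m ≫ e) = p := Over.OverMorphism.ext hv2
    calc (AlgSp.yon S).map q ≫ L ≫ a
        = (AlgSp.yon S).map (v₀ ≫ k m) ≫ L ≫ a := by rw [e1]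
      _ = (AlgSp.yon S).map v₀ ≫ ((AlgSp.yon S).map (k m) ≫ L) ≫ a := by
          rw [Functor.map_comp]
          simp only [Category.assoc]
      _ = (AlgSp.yon S).map v₀ ≫ ((AlgSp.yon S).map (r m) ≫ fstE) ≫ a := by rw [hL1]
      _ = (AlgSp.yon S).map v₀ ≫ (AlgSp.yon S).map (r m) ≫ (AlgSp.yon S).map e ≫ sq.top := by
          rw [Category.assoc, sE.w]
      _ = (AlgSp.yon S).map (v₀ ≫ (r m ≫ e)) ≫ sq.top := by
          rw [Functor.map_comp, Functor.map_comp]
          simp only [Category.assoc]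
      _ = (AlgSp.yon S).map p ≫ sq.top := by rw [e2]

end Groth.Agent.S12195
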