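import Groth.Statements.S12202
import Mathlib
import Groth.Agent.Lib.H5bELMain

set_option autoImplicit false
universe u
open CategoryTheory CategoryTheory.Limits AlgebraicGeometry
open Grpd

namespace Groth.Agent.S12202

open Groth.Agent.Lib.H5bEL Groth.Agent.Lib.Helper2.Grpd

/-- a field-valued point of the arrows at `e(u)` factors through the identity section. -/
lemma eq_of_at_e {S : Scheme.{u}} (G : Grpd.GroupoidScheme S) (u : ↥G.U) (K : Type u) [Field K]
    (α : Spec (CommRingCat.of K) ⟶ G.R) (hα : ∀ p, α p = G.e u) : α = (α ≫ G.s) ≫ G.e := by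
  haveI := isIso_residueFieldMap_of_section G.e G.s G.e_s u
  obtain ⟨b, hb, -⟩ := exists_lift_at G.e u K α hα
  rw [← hb, Category.assoc, Category.assoc, reassoc_of% G.e_s]

/-- Let (U, R, s, t, c) be a groupoid scheme over S with U affine and s, t separated, flat and locally
of finite presentation, and let u ∈ U be a point such that s is quasi-finite at e(u). Then there
exist an etale morphism U' → U with U' affine and a point u' of U' lying over u with trivial residue
field extension κ(u) = κ(u'), such that the restriction R' of R to U' (the groupoid scheme on U'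
whose arrows form the base change of j = (t, s) : R → U ×_S U along U' ×_S U' → U ×_S U) is
quasi-split over u': there is an open subscheme P ⊂ R' which is a subgroupoid (the identity of U',
the inverse of P and the composition of composable pairs of P land in P) with s'|_P and t'|_P finite
(then e'(u') ∈ P automatically). -/
theorem result (S : Scheme.{u}) (G : Grpd.GroupoidScheme S) [IsAffine G.U]
    [IsSeparated G.s] [IsSeparated G.t] [Flat G.s] [Flat G.t]
    [LocallyOfFinitePresentation G.s] [LocallyOfFinitePresentation G.t]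
    (u : ↥G.U) (hqf : Dual3.QuasiFiniteAt G.s (G.e u)) :
    ∃ (G' : Grpd.GroupoidScheme S) (φ : Grpd.GroupoidScheme.Hom G' G) (u' : ↥G'.U),
      IsAffine G'.U ∧ Etale φ.fU ∧ φ.fU u' = u ∧ IsIso (φ.fU.residueFieldMap u') ∧
      IsPullback φ.fR G'.j G.j
        (pullback.map G'.pU G'.pU G.pU G.pU φ.fU φ.fU (𝟙 S)
          ((Category.comp_id _).trans φ.fU_over.symm) ((Category.comp_id _).trans φ.fU_over.symm)) ∧
      ∃ (P : Scheme.{u}) (ιP : P ⟶ G'.R), IsOpenImmersion ιP ∧
        (∃ eP : G'.U ⟶ P, eP ≫ ιP = G'.e) ∧ (∃ iP : P ⟶ P, iP ≫ ιP = ιP ≫ G'.i) ∧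
        (∃ cP : pullback (ιP ≫ G'.s) (ιP ≫ G'.t) ⟶ P,
          cP ≫ ιP = pullback.map (ιP ≫ G'.s) (ιP ≫ G'.t) G'.s G'.t ιP ιP (𝟙 G'.U)
            (Category.comp_id _) (Category.comp_id _) ≫ G'.c) ∧
        IsFinite (ιP ≫ G'.s) ∧ IsFinite (ιP ≫ G'.t) := by
  classical
  have hZ : Z0Closed G u {G.e u} := by
    refine ⟨fun z hz => ?_, fun ω h1 h2 => ?_, fun z hz => ?_⟩
    · rw [Set.mem_singleton_iff] at hz
      rw [hz, ← Scheme.Hom.comp_apply, G.e_t]
      rfl
    · rw [Set.mem_singleton_iff] at h1 h2 ⊢
      obtain ⟨K, _, a, ha⟩ := exists_field_point ω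
      have hα := eq_of_at_e G u K (a ≫ pullback.fst G.s G.t) (by
        intro p
        rw [Scheme.Hom.comp_apply, ha, h1])
      have hβ := eq_of_at_e G u K (a ≫ pullback.snd G.s G.t) (by
        intro p
        rw [Scheme.Hom.comp_apply, ha, h2])
      have hcond : (a ≫ pullback.fst G.s G.t) ≫ G.s = (a ≫ pullback.snd G.s G.t) ≫ G.t := by
        rw [Category.assoc, Category.assoc, pullback.condition]
      have hvv : (a ≫ pullback.snd G.s G.t) ≫ G.s = (a ≫ pullback.fst G.s G.t) ≫ G.s := by
        have h5 := congrArg (fun f => f ≫ G.t) hβ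
        simp only [Category.assoc, G.e_t, Category.comp_id] at h5
        rw [hcond]
        simp only [Category.assoc]
        exact h5.symm
      have hac : a ≫ G.c = comp G (a ≫ pullback.fst G.s G.t) (a ≫ pullback.snd G.s G.t) hcond := by
        unfold comp
        congr 1
        apply pullback.hom_ext
        · rw [pullback.lift_fst]
        · rw [pullback.lift_snd]
      have h3 : a ≫ G.c = a ≫ pullback.fst G.s G.t := by
        rw [hac]
        refine comp_e G _ _ ?_ _
        rw [← Category.assoc, ← hvv]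
        exact hβ
      have h4 := congrArg (fun f : Spec (CommRingCat.of K) ⟶ G.R => f (pt K)) h3
      simp only [Scheme.Hom.comp_apply, ha] at h4
      rw [h4, h1]
    · rw [Set.mem_singleton_iff] at hz ⊢
      rw [hz, ← Scheme.Hom.comp_apply, e_i]
  have he : G.e u ∈ ({G.e u} : Set ↥G.R) := Set.mem_singleton _
  obtain ⟨G', φ, u', h1, h2, h3, h4, h5, P, ιP, h6, h7, h8, h9, h10, h11, -⟩ :=
    Groth.Agent.Lib.H5bEL.main u {G.e u} (Set.finite_singleton _)
      (fun z hz => by
        rw [Set.mem_singleton_iff] at hz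
        subst hz
        refine ⟨?_, quasiFiniteAt_of_dual3 _ _ hqf⟩
        rw [← Scheme.Hom.comp_apply, G.e_s]
        rfl) he hZ
  exact ⟨G', φ, u', h1, h2, h3, h4, h5, P, ιP, h6, h7, h8, h9, h10, h11⟩

end Groth.Agent.S12202
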