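import Groth.Statements.S12204
import Mathlib
import Groth.Agent.Lib.Helper12GeomRed
import Groth.Agent.Lib.Helper12FieldBC
import Groth.Agent.S2521

set_option autoImplicit false
universe u
open CategoryTheory CategoryTheory.Limits AlgebraicGeometry Topology TopologicalSpace
open AlgSp

namespace Groth.Agent.S12204

/-- (5) ⇒ (2): let k be a field of characteristic p > 0, k' a perfect closure of k (a perfect field
which is a purely inseparable extension of k) and X an algebraic space over k. If X_{k'} is reduced,
then X_K is reduced for every field extension K of k. -/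
theorem result (k : Type u) [Field k] (p : ℕ) [Fact p.Prime] [CharP k p]
    (X : AlgSp.Space (Spec (CommRingCat.of k))) (k' : Type u) [Field k'] [Algebra k k'] [PerfectField k']
    [IsPurelyInseparable k k']
    (h : AlgSp.EtaleLocally (fun U => IsReduced U) (X.obj ⨯ (AlgSp.yon (Spec (CommRingCat.of k))).obj (Over.mk (Spec.map (CommRingCat.ofHom (algebraMap k k'))))))
    (K : Type u) [Field K] [Algebra k K] : AlgSp.EtaleLocally (fun U => IsReduced U) (X.obj ⨯ (AlgSp.yon (Spec (CommRingCat.of k))).obj (Over.mk (Spec.map (CommRingCat.ofHom (algebraMap k K))))) := by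
  obtain ⟨U, a, hae, has⟩ := X.property.atlas
  haveI hred : IsReduced (FBase.bc U.hom k') :=
    Groth.Agent.Lib.Helper12.FieldBC.isReduced_bc_of_isReducedSp k' h a hae
  haveI : Surjective (Spec.map (CommRingCat.ofHom (algebraMap k k'))) := by
    refine ⟨fun x => ⟨(⊥ : PrimeSpectrum k'), ?_⟩⟩
    exact (inferInstance : Subsingleton (PrimeSpectrum k)).elim _ _
  haveI : Surjective (FBase.bcπ U.hom k') := by
    unfold FBase.bcπ
    exact MorphismProperty.pullback_fst (P := @Surjective) _ _ inferInstance
  refine Groth.Agent.Lib.Helper12.FieldBC.isReducedSp_bc_of_isReduced K a hae has ?_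
  haveI : ∀ x' : ↥(FBase.bc U.hom K), _root_.IsReduced ((FBase.bc U.hom K).presheaf.stalk x') := by
    intro x'
    obtain ⟨y, hy⟩ := (FBase.bcπ U.hom k').surjective ((FBase.bcπ U.hom K) x')
    have hg : FBase.IsGeomReducedAt U.hom ((FBase.bcπ U.hom K) x') :=
      Groth.Agent.S2521.result (Ω := k') U.hom _ y hy (by unfold FBase.IsReducedAt; infer_instance)
    exact hg K x' rfl
  exact isReduced_of_isReduced_stalk _

end Groth.Agent.S12204
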