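import Groth.Statements.S12210
import Mathlib
import Groth.Agent.Lib.Helper4PunctAffine3
import Groth.Agent.Lib.Helper8LocFact

set_option autoImplicit false
universe u
open CategoryTheory CategoryTheory.Limits AlgebraicGeometry
open Divisors

namespace Groth.Agent.S12210

/-- Let X be locally Noetherian and U an open subscheme whose inclusion is an affine morphism. If ξ is a
point outside U which is maximal under generization among points outside U (a generic point of an
irreducible component of the complement) and ξ lies in the closure of U, then the local ring of X at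
ξ has dimension exactly one. (The case X separated and U an affine open is the corresponding special
case, since then the inclusion of U is affine.) -/
theorem result (X : Scheme.{u}) [IsLocallyNoetherian X]
    (U : X.Opens) [IsAffineHom U.ι] (ξ : X) (hξ : ξ ∉ U) (hgen : ∀ y : X, y ∉ U → y ⤳ ξ → y = ξ)
    (hcl : ξ ∈ closure (U : Set X)) :
    ringKrullDim (X.presheaf.stalk ξ) = 1 := by
  classical
  have hle := Groth.Agent.Lib.Helper4.PunctAffine.ringKrullDim_stalk_le_one_of_isAffineHom X U ξ hξ hgen
  obtain ⟨η, hηU, hηξ⟩ : ∃ η : X, η ∈ U ∧ η ⤳ ξ := by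
    obtain ⟨V, hV, hξV, -⟩ := exists_isAffineOpen_mem_and_subset (x := ξ) (U := ⊤) trivial
    haveI : IsNoetherianRing Γ(X, V) := IsLocallyNoetherian.component_noetherian ⟨V, hV⟩
    haveI hNV : TopologicalSpace.NoetherianSpace ↥V := noetherianSpace_of_isAffineOpen V hV
    have hemb : Topology.IsEmbedding (Set.inclusion (inf_le_right : ((U ⊓ V : X.Opens) : Set X) ≤ V)) :=
      Topology.IsEmbedding.inclusion _
    haveI hNW : TopologicalSpace.NoetherianSpace ↥(U ⊓ V : X.Opens) :=
      hemb.isInducing.noetherianSpace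
    haveI hQW : QuasiSober ↥(U ⊓ V : X.Opens) :=
      (U ⊓ V : X.Opens).isOpenEmbedding'.quasiSober
    have hfin : (genericPoints ↥(U ⊓ V : X.Opens)).Finite :=
      genericPoints.finite TopologicalSpace.NoetherianSpace.finite_irreducibleComponents
    have hclg : closure (genericPoints ↥(U ⊓ V : X.Opens)) = Set.univ := genericPoints.closure
    have hi : Continuous (Subtype.val : ↥(U ⊓ V : X.Opens) → X) := continuous_subtype_val
    have h2 : ξ ∈ closure (((U ⊓ V : X.Opens) : Set X)) := by
      have := V.2.inter_closure (t := (U : Set X)) ⟨hξV, hcl⟩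
      rwa [Set.inter_comm] at this
    have h3 : ((U ⊓ V : X.Opens) : Set X) ⊆
        Subtype.val '' (closure (genericPoints ↥(U ⊓ V : X.Opens))) := by
      rw [hclg, Set.image_univ, Subtype.range_coe]
    have h1 : ξ ∈ closure ((Subtype.val : ↥(U ⊓ V : X.Opens) → X) ''
        genericPoints ↥(U ⊓ V : X.Opens)) :=
      closure_minimal (h3.trans (image_closure_subset_closure_image hi)) isClosed_closure h2
    have h4 : (Subtype.val : ↥(U ⊓ V : X.Opens) → X) '' genericPoints ↥(U ⊓ V : X.Opens) =
        ⋃ w ∈ genericPoints ↥(U ⊓ V : X.Opens), ({w.1} : Set X) := by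
      ext y
      simp only [Set.mem_image, Set.mem_iUnion, Set.mem_singleton_iff, exists_prop]
      constructor
      · rintro ⟨w, hw, rfl⟩; exact ⟨w, hw, rfl⟩
      · rintro ⟨w, hw, rfl⟩; exact ⟨w, hw, rfl⟩
    rw [h4, hfin.closure_biUnion] at h1
    simp only [Set.mem_iUnion, exists_prop] at h1
    obtain ⟨w, -, hw⟩ := h1
    exact ⟨w.1, w.2.1, specializes_iff_mem_closure.mpr hw⟩
  have hne : ξ ≠ η := fun h => hξ (h ▸ hηU)
  have hne0 := Groth.Agent.Lib.Helper8.LocFact.ringKrullDim_stalk_ne_zero_of_specializes_ne X hηξ hne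
  have h0 : (0 : WithBot ℕ∞) ≤ ringKrullDim (X.presheaf.stalk ξ) := ringKrullDim_nonneg_of_nontrivial
  apply le_antisymm hle
  have h1 : (0 : WithBot ℕ∞) < ringKrullDim (X.presheaf.stalk ξ) := lt_of_le_of_ne h0 (Ne.symm hne0)
  generalize ringKrullDim (X.presheaf.stalk ξ) = D at h1 ⊢
  induction D using WithBot.recBotCoe with
  | bot => exact absurd h1 (by simp)
  | coe a =>
    have h1' : (0 : ℕ∞) < a := by exact_mod_cast h1
    have : (1 : ℕ∞) ≤ a := Order.one_le_iff_pos.mpr h1'
    exact_mod_cast this

end Groth.Agent.S12210
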