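import Groth.Statements.S1223
import Mathlib
import Groth.Agent.Lib.R2H4PureGI

set_option autoImplicit false
universe u
open FlatMor

namespace Groth.Agent.S1223

/-- Ring form, X = Spec B affine: a finite type, flat A-algebra B with geometrically integral fibres is
universally pure relative to Spec A. -/
theorem result {A B : Type u} [CommRing A] [CommRing B] [Algebra A B] [Algebra.FiniteType A B] [Module.Flat A B]
    (h : FlatCA.GeomIntegralFibres A B) : FlatCA.IsUnivPure A B B := by
  intro p _ A' B' N' _ _ _ _ _ _ _ _ _ _ _ _ _ _ f t' t _ _ P _ himp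
  obtain ⟨hpush, hbc, hle, hlies, hPlies, hass, hno⟩ := himp
  have hflat : Module.Flat A' B' := Module.Flat.isBaseChange (R := A) (M := B) (S := A') B' hpush.symm.out
  have hd1 : IsDomain (t'.Fiber B') :=
    Groth.Agent.Lib.R2H4.PureGI.isDomain_tensor_of_isPushout hpush h t'.ResidueField
  have hd2 : IsDomain (t.Fiber B') :=
    Groth.Agent.Lib.R2H4.PureGI.isDomain_tensor_of_isPushout hpush h t.ResidueField
  let e0 : N' ≃ₗ[B'] B' := hbc.equiv.symm ≪≫ₗ TensorProduct.AlgebraTensorModule.rid B B' B'
  obtain ⟨P', hP', hPP', hP't⟩ :=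
    Groth.Agent.Lib.R2H4.PureGI.exists_prime_over_of_flat e0 t' t hle P hass
  exact hno P' hPP' hP't

end Groth.Agent.S1223
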