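import Groth.Statements.S12231
import Groth.Agent.Lib.H6xFibDim

set_option autoImplicit false
universe u
open TensorProduct
open FlatMor
attribute [local instance] Algebra.TensorProduct.rightAlgebra

namespace Groth.Agent.S12231

/-- All schemes are affine here, as in the ambient rendering of a one-step dévissage. Let R → S be a
ring map of finite type, N a finite S-module, p a prime of R and (C, D, G, n) a one-step dévissage
of N/S/R over p — C a finitely presented quotient of S with a finite C-module G identified with N
over S, D an R-algebra smooth of relative dimension n with geometrically irreducible fibres and a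
finite map D → C over R, n the dimension of the support of the fibre module of N over p. Let R → R'
be a ring map, p' a prime of R' over p, and let S', C', D' be the base changes of S, C, D to R'
(pushout squares, with the R'-algebra maps S' → C' ← D' induced from S → C ← D) and N' = N ⊗_S S',
G' = G ⊗_C C' (base-change maps f, g). Then (C', D', G', n) is a one-step dévissage of N'/S'/R' over
p'. -/
theorem result
    (R S : Type u) [CommRing R] [CommRing S] [Algebra R S] [Algebra.FiniteType R S]
    (N : Type u) [AddCommGroup N] [Module S N] [Module R N] [IsScalarTower R S N] [Module.Finite S N]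
    (p : Ideal R) [p.IsPrime]
    (C D G : Type u) [CommRing C] [CommRing D] [Algebra S C] [Algebra R C] [IsScalarTower R S C]
    [Algebra R D] [Algebra D C] [IsScalarTower R D C] [AddCommGroup G] [Module C G] [Module S G]
    [IsScalarTower S C G] (n : ℕ)
    (h : FlatCA.IsOneStepDevissage R S N p C D G n)
    (R' : Type u) [CommRing R'] [Algebra R R'] (p' : Ideal R') [p'.IsPrime] [p'.LiesOver p]
    (S' C' D' : Type u) [CommRing S'] [CommRing C'] [CommRing D']
    [Algebra R' S'] [Algebra R S'] [Algebra S S'] [IsScalarTower R R' S'] [IsScalarTower R S S']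
    [Algebra.IsPushout R R' S S']
    [Algebra R' C'] [Algebra R C'] [Algebra C C'] [IsScalarTower R R' C'] [IsScalarTower R C C']
    [Algebra.IsPushout R R' C C']
    [Algebra R' D'] [Algebra R D'] [Algebra D D'] [IsScalarTower R R' D'] [IsScalarTower R D D']
    [Algebra.IsPushout R R' D D']
    [Algebra S' C'] [IsScalarTower R' S' C'] [Algebra S C'] [IsScalarTower S S' C'] [IsScalarTower S C C']
    [Algebra D' C'] [IsScalarTower R' D' C'] [Algebra D C'] [IsScalarTower D D' C'] [IsScalarTower D C C']
    (N' : Type u) [AddCommGroup N'] [Module S' N'] [Module R' N'] [IsScalarTower R' S' N']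
    [Module S N'] [IsScalarTower S S' N'] (f : N →ₗ[S] N') (hf : IsBaseChange S' f)
    (G' : Type u) [AddCommGroup G'] [Module C' G'] [Module S' G'] [IsScalarTower S' C' G']
    [Module C G'] [IsScalarTower C C' G'] (g : G →ₗ[C] G') (hg : IsBaseChange C' g) :
    FlatCA.IsOneStepDevissage R' S' N' p' C' D' G' n := by
  obtain ⟨⟨e⟩, hsurj, hfp, hfinDC, hfinCG, hsm, hirr, hdim⟩ := h
  haveI : IsScalarTower R S' C' := .of_algebraMap_eq fun x => by
    rw [IsScalarTower.algebraMap_apply R R' C', IsScalarTower.algebraMap_apply R' S' C',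
      ← IsScalarTower.algebraMap_apply R R' S']
  haveI : IsScalarTower R D' C' := .of_algebraMap_eq fun x => by
    rw [IsScalarTower.algebraMap_apply R R' C', IsScalarTower.algebraMap_apply R' D' C',
      ← IsScalarTower.algebraMap_apply R R' D']
  haveI hRS : Algebra.IsPushout R S R' S' := Algebra.IsPushout.symm inferInstance
  haveI hRC : Algebra.IsPushout R C R' C' := Algebra.IsPushout.symm inferInstance
  haveI hRD : Algebra.IsPushout R D R' D' := Algebra.IsPushout.symm inferInstance
  have hSC : Algebra.IsPushout S C S' C' := (Algebra.IsPushout.comp_iff R S R' S').mp hRC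
  have hDC : Algebra.IsPushout D C D' C' := (Algebra.IsPushout.comp_iff R D R' D').mp hRC
  haveI hSC' : Algebra.IsPushout S S' C C' := hSC.symm
  haveI hDC' : Algebra.IsPushout D D' C C' := hDC.symm
  refine ⟨?_, ?_, ?_, ?_, ?_, ?_, ?_, ?_⟩
  · exact ⟨hf.equiv.symm ≪≫ₗ
      (TensorProduct.AlgebraTensorModule.congr (LinearEquiv.refl S' S') e) ≪≫ₗ
      (Algebra.IsPushout.cancelBaseChange S S' C C' G).symm ≪≫ₗ
      (hg.equiv.restrictScalars S')⟩
  · intro x
    have hb : IsBaseChange S' (IsScalarTower.toAlgHom S C C').toLinearMap := hSC'.out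
    refine hb.inductionOn x _ ⟨0, by simp⟩ ?_ ?_ ?_
    · intro c
      obtain ⟨s, rfl⟩ := hsurj c
      refine ⟨algebraMap S S' s, ?_⟩
      change _ = algebraMap C C' (algebraMap S C s)
      rw [← IsScalarTower.algebraMap_apply, ← IsScalarTower.algebraMap_apply]
    · rintro s' _ ⟨y, rfl⟩
      exact ⟨s' * y, by rw [map_mul, Algebra.smul_def]⟩
    · rintro _ _ ⟨y, rfl⟩ ⟨z, rfl⟩
      exact ⟨y + z, map_add _ _ _⟩
  · haveI := hfp
    exact Algebra.FinitePresentation.equiv (Algebra.IsPushout.equiv S S' C C')
  · haveI := hfinDC
    exact Module.Finite.equiv (Algebra.IsPushout.equiv D D' C C').toLinearEquiv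
  · haveI := hfinCG
    exact Module.Finite.equiv hg.equiv
  · have hpo := CommRingCat.isPushout_of_isPushout R R' D D'
    have hpb := (AlgebraicGeometry.isPullback_SpecMap_of_isPushout _ _ _ _ hpo).flip
    exact (AlgebraicGeometry.smoothOfRelativeDimension_isStableUnderBaseChange n).of_isPullback
      hpb hsm
  · have hpo := CommRingCat.isPushout_of_isPushout R R' D D'
    have hpb := (AlgebraicGeometry.isPullback_SpecMap_of_isPushout _ _ _ _ hpo).flip
    exact CategoryTheory.MorphismProperty.of_isPullback
      (P := @AlgebraicGeometry.GeometricallyIrreducible) hpb hirr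
  · letI : Algebra p.ResidueField p'.ResidueField :=
      (Ideal.ResidueField.mapₐ p p' (Algebra.ofId R R') (p'.over_def p)).toRingHom.toAlgebra
    haveI : IsScalarTower R p.ResidueField p'.ResidueField := .of_algebraMap_eq fun x =>
      ((Ideal.ResidueField.mapₐ p p' (Algebra.ofId R R') (p'.over_def p)).commutes x).symm
    haveI : IsScalarTower S (p.Fiber S) (FlatCA.fiberMod p S N) :=
      inferInstanceAs (IsScalarTower S (p.Fiber S) ((p.Fiber S) ⊗[S] N))
    letI : Module S' (FlatCA.fiberMod p' S' N') :=
      inferInstanceAs (Module S' ((p'.Fiber S') ⊗[S'] N'))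
    haveI : IsScalarTower S' (p'.Fiber S') (FlatCA.fiberMod p' S' N') :=
      inferInstanceAs (IsScalarTower S' (p'.Fiber S') ((p'.Fiber S') ⊗[S'] N'))
    rw [← hdim]
    exact Groth.Agent.Lib.H6xFibDim.supportDim_fiber_eq R S R' S' p.ResidueField p'.ResidueField
      (p.Fiber S) (p'.Fiber S') N N' (FlatCA.fiberMod p S N) (FlatCA.fiberMod p' S' N') f hf
      (FlatCA.toFiberMod p S N) (TensorProduct.isBaseChange S N (p.Fiber S))
      (FlatCA.toFiberMod p' S' N') (TensorProduct.isBaseChange S' N' (p'.Fiber S'))

end Groth.Agent.S12231
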