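import Groth.Statements.S12244
import Groth.Agent.Lib.H6xDevAt

set_option autoImplicit false
universe u
open FlatMor

namespace Groth.Agent.S12244

open TensorProduct in
/-- All schemes are affine. Let R → S be of finite type, N a finite S-module, p ⊆ R and q ⊆ S primes, 𝒟
a complete dévissage of N/S/R over p in the prelude's algebraic form and 𝒜 a datum making it a
complete dévissage at q (primes qB_i ⊆ B_i over p with purely transcendental residue fields, unique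
primes qA_i ⊆ A_i over them, threaded through q and through the maps B_i → A_{i+1}, relative
dimensions d_i of R → B_i equal to the local dimension of the fibre support of M_i at qB_i). Let R →
R' be a ring map and p' a prime over p with κ(p) → κ(p') bijective, S' the base change of S, N' = N
⊗_S S', and q' a prime of S' over q and over p'. Let 𝒟' be a complete dévissage of N'/S'/R' over p'
of the same length whose rings A'_i, B'_i (i below the length) are base changes of A_i, B_i along R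
→ R' compatibly with B_i → A_i, B_i → A_{i+1}, S → A_0 and S' → A'_0, and whose modules M'_i are
base changes of M_i along A_i → A'_i compatibly with N ≅ M_0 and N' ≅ M'_0. Assume moreover that at
every index at or beyond the length the ring B'_i has a prime over p' and A'_i a prime over that one
(the structure's families run over all natural numbers and constrain nothing at those indices, while
a datum at a point asks for such primes at every index; the condition touches only this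
unconstrained tail and holds, for instance, when the tail repeats the last genuine step — without it
the zero ring could sit there and no datum would exist). Then 𝒟' is a complete dévissage at q' with
the same relative dimensions: there is a datum 𝒜' for (𝒟', q') with d' = d whose primes qB'_i, qA'_i
lie over qB_i, qA_i for every step i below the length. -/
theorem result
    (R S : Type u) [CommRing R] [CommRing S] [Algebra R S] [Algebra.FiniteType R S]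
    (N : Type u) [AddCommGroup N] [Module S N] [Module.Finite S N]
    (p : Ideal R) [p.IsPrime] (q : Ideal S) [q.IsPrime] (𝒟 : FlatCA.CompleteDevissage R S N p)
    (𝒜 : FlatCA.CompleteDevissageAt R S N p q 𝒟)
    (R' : Type u) [CommRing R'] [Algebra R R'] (p' : Ideal R') [p'.IsPrime] [hp' : p'.LiesOver p]
    (hκ : Function.Bijective (Ideal.ResidueField.mapₐ p p' (Algebra.ofId R R') hp'.over))
    (S' : Type u) [CommRing S'] [Algebra R' S'] [Algebra R S'] [Algebra S S'] [IsScalarTower R R' S']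
    [IsScalarTower R S S'] [Algebra.IsPushout R R' S S']
    (N' : Type u) [AddCommGroup N'] [Module S' N'] [Module S N'] [IsScalarTower S S' N']
    (f : N →ₗ[S] N') (hf : IsBaseChange S' f)
    (q' : Ideal S') [q'.IsPrime] [q'.LiesOver q] [q'.LiesOver p']
    (𝒟' : FlatCA.CompleteDevissage R' S' N' p') (hn : 𝒟'.n = 𝒟.n)
    (htail : ∀ i, 𝒟.n ≤ i → ∃ (Q : Ideal (𝒟'.B i)) (P : Ideal (𝒟'.A i)),
      Q.IsPrime ∧ P.IsPrime ∧ Q.LiesOver p' ∧ P.LiesOver Q)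
    [aA : ∀ i : Fin 𝒟.n, Algebra (𝒟.A i) (𝒟'.A i)] [rA : ∀ i : Fin 𝒟.n, Algebra R (𝒟'.A i)]
      [∀ i : Fin 𝒟.n, IsScalarTower R (R') (𝒟'.A i)] [∀ i : Fin 𝒟.n, IsScalarTower R (𝒟.A i) (𝒟'.A i)]
      [aB : ∀ i : Fin 𝒟.n, Algebra (𝒟.B i) (𝒟'.B i)] [rB : ∀ i : Fin 𝒟.n, Algebra R (𝒟'.B i)]
      [∀ i : Fin 𝒟.n, IsScalarTower R (R') (𝒟'.B i)] [∀ i : Fin 𝒟.n, IsScalarTower R (𝒟.B i) (𝒟'.B i)]
      [bA : ∀ i : Fin 𝒟.n, Algebra (𝒟.B i) (𝒟'.A i)] [∀ i : Fin 𝒟.n, IsScalarTower (𝒟.B i) (𝒟.A i) (𝒟'.A i)]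
      [∀ i : Fin 𝒟.n, IsScalarTower (𝒟.B i) (𝒟'.B i) (𝒟'.A i)]
      [bA' : ∀ i : Fin 𝒟.n, Algebra (𝒟.B i) (𝒟'.A (i + 1))]
      [∀ i : Fin 𝒟.n, IsScalarTower (𝒟.B i) (𝒟'.B i) (𝒟'.A (i + 1))]
      [sA : Algebra S (𝒟'.A 0)] [IsScalarTower S (S') (𝒟'.A 0)]
      [mA : ∀ i : Fin 𝒟.n, Module (𝒟.A i) (𝒟'.M i)] [∀ i : Fin 𝒟.n, IsScalarTower (𝒟.A i) (𝒟'.A i) (𝒟'.M i)]
      (gM : ∀ i : Fin 𝒟.n, 𝒟.M i →ₗ[𝒟.A i] 𝒟'.M i)
    (hbc : (letI := aA ⟨0, 𝒟.pos⟩; IsScalarTower S (𝒟.A 0) (𝒟'.A 0)) ∧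
      (∀ x : N, 𝒟'.isoN (f x) = gM ⟨0, 𝒟.pos⟩ (𝒟.isoN x)) ∧
      (∀ (i : Fin 𝒟.n) (h : (i : ℕ) + 1 < 𝒟.n),
        letI := aA ⟨i + 1, h⟩; IsScalarTower (𝒟.B i) (𝒟.A (i + 1)) (𝒟'.A (i + 1))) ∧
      ∀ i : Fin 𝒟.n,
        Algebra.IsPushout R R' (𝒟.A i) (𝒟'.A i) ∧ Algebra.IsPushout R R' (𝒟.B i) (𝒟'.B i) ∧
        IsBaseChange (𝒟'.A i) (gM i)) :
    ∃ 𝒜' : FlatCA.CompleteDevissageAt R' S' N' p' q' 𝒟', 𝒜'.d = 𝒜.d ∧
      ∀ i : Fin 𝒟.n, (𝒜'.qB i).LiesOver (𝒜.qB i) ∧ (𝒜'.qA i).LiesOver (𝒜.qA i) := by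
  classical
  obtain ⟨T0, hN, T1, hpush⟩ := hbc
  have hκ' : Function.Bijective (Ideal.ResidueField.mapₐ p p' (Algebra.ofId R R')
      (p'.over_def p)) := hκ
  have cc : ∀ {X Y Z : Type u} [CommRing X] [CommRing Y] [CommRing Z] [Algebra X Y] [Algebra Y Z]
      [Algebra X Z] [IsScalarTower X Y Z] (P : Ideal Z),
      (P.comap (algebraMap Y Z)).comap (algebraMap X Y) = P.comap (algebraMap X Z) := by
    intro X Y Z _ _ _ _ _ _ _ P
    rw [Ideal.comap_comap, ← IsScalarTower.algebraMap_eq]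
  haveI hqBprime : ∀ i, (𝒜.qB i).IsPrime := 𝒜.hqB
  haveI hqAprime : ∀ i, (𝒜.qA i).IsPrime := 𝒜.hqA
  haveI hqBp : ∀ i, (𝒜.qB i).LiesOver p := 𝒜.overB
  haveI hqAqB : ∀ i, (𝒜.qA i).LiesOver (𝒜.qB i) := 𝒜.overA
  haveI hqAp : ∀ i, (𝒜.qA i).LiesOver p := fun i => Ideal.LiesOver.trans (𝒜.qA i) (𝒜.qB i) p
  -- existence of the primes at the genuine indices
  have exB : ∀ i : Fin 𝒟.n, ∃ Q : Ideal (𝒟'.B i), Q.IsPrime ∧ Q.LiesOver (𝒜.qB i) ∧
      Q.LiesOver p' := fun i => by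
    haveI := (hpush i).2.1
    exact Groth.Agent.Lib.H6xDevAt.exists_prime_over R (𝒟.B i) p R' p' (𝒟'.B i) hκ' (𝒜.qB i)
  have exA : ∀ i : Fin 𝒟.n, ∃ P : Ideal (𝒟'.A i), P.IsPrime ∧ P.LiesOver (𝒜.qA i) ∧
      P.LiesOver p' := fun i => by
    haveI := (hpush i).1
    exact Groth.Agent.Lib.H6xDevAt.exists_prime_over R (𝒟.A i) p R' p' (𝒟'.A i) hκ' (𝒜.qA i)
  choose QB hQB1 hQB2 hQB3 using exB
  choose PA hPA1 hPA2 hPA3 using exA
  have hPAQB : ∀ i : Fin 𝒟.n, (PA i).LiesOver (QB i) := fun i => by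
    haveI := hQB1 i
    haveI := hQB3 i
    haveI := hPA1 i
    haveI := (hpush i).2.1
    haveI : ((PA i).comap (algebraMap (𝒟'.B i) (𝒟'.A i))).IsPrime := Ideal.comap_isPrime _ _
    haveI : ((PA i).comap (algebraMap (𝒟'.B i) (𝒟'.A i))).LiesOver p' := by
      refine ⟨?_⟩
      change p' = ((PA i).comap (algebraMap (𝒟'.B i) (𝒟'.A i))).comap (algebraMap R' (𝒟'.B i))
      rw [cc]
      exact ((hPA3 i).over)
    refine ⟨?_⟩
    change QB i = (PA i).comap (algebraMap (𝒟'.B i) (𝒟'.A i))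
    apply Groth.Agent.Lib.H6xFibIso.prime_unique R (𝒟.B i) p R' p' (𝒟'.B i) hκ'
    have h1 : (PA i).comap (algebraMap (𝒟.A i) (𝒟'.A i)) = 𝒜.qA i := ((hPA2 i).over).symm
    have h2 : (𝒜.qA i).comap (algebraMap (𝒟.B i) (𝒟.A i)) = 𝒜.qB i := ((hqAqB i).over).symm
    have h3 : (QB i).comap (algebraMap (𝒟.B i) (𝒟'.B i)) = 𝒜.qB i := ((hQB2 i).over).symm
    rw [h3, cc, ← cc (Y := 𝒟.A i), h1, h2]
  have htail' : ∀ i, ¬ i < 𝒟.n → ∃ (Q : Ideal (𝒟'.B i)) (P : Ideal (𝒟'.A i)),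
      Q.IsPrime ∧ P.IsPrime ∧ Q.LiesOver p' ∧ P.LiesOver Q := fun i hi => htail i (not_lt.mp hi)
  choose QT PT hQT1 hPT1 hQT2 hPT2 using htail'
  obtain ⟨qB', qA', P1, P2, P3, P4, P5, P6⟩ : ∃ (qB' : ∀ i, Ideal (𝒟'.B i))
      (qA' : ∀ i, Ideal (𝒟'.A i)), (∀ i, (qB' i).IsPrime) ∧ (∀ i, (qB' i).LiesOver p') ∧
      (∀ i, (qA' i).IsPrime) ∧ (∀ i, (qA' i).LiesOver (qB' i)) ∧
      (∀ i : Fin 𝒟.n, (qB' i).LiesOver (𝒜.qB i)) ∧
      (∀ i : Fin 𝒟.n, (qA' i).LiesOver (𝒜.qA i)) := by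
    refine ⟨fun i => if h : i < 𝒟.n then QB ⟨i, h⟩ else QT i h,
      fun i => if h : i < 𝒟.n then PA ⟨i, h⟩ else PT i h, ?_, ?_, ?_, ?_, ?_, ?_⟩
    · intro i
      by_cases h : i < 𝒟.n
      · simp only [dif_pos h]; exact hQB1 ⟨i, h⟩
      · simp only [dif_neg h]; exact hQT1 i h
    · intro i
      by_cases h : i < 𝒟.n
      · simp only [dif_pos h]; exact hQB3 ⟨i, h⟩
      · simp only [dif_neg h]; exact hQT2 i h
    · intro i
      by_cases h : i < 𝒟.n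
      · simp only [dif_pos h]; exact hPA1 ⟨i, h⟩
      · simp only [dif_neg h]; exact hPT1 i h
    · intro i
      by_cases h : i < 𝒟.n
      · simp only [dif_pos h]; exact hPAQB ⟨i, h⟩
      · simp only [dif_neg h]; exact hPT2 i h
    · intro i
      simp only [dif_pos i.2]; exact hQB2 i
    · intro i
      simp only [dif_pos i.2]; exact hPA2 i
  haveI := P1
  haveI := P2
  haveI := P3
  haveI := P4
  haveI hqA'p' : ∀ i, (qA' i).LiesOver p' := fun i => Ideal.LiesOver.trans (qA' i) (qB' i) p'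
  -- per-index facts
  have F_pure : ∀ j : Fin 𝒟.n, FlatCA.PurelyTranscendental p' (qB' j) := fun j => by
    haveI := (hpush j).2.1
    haveI := P5 j
    exact Groth.Agent.Lib.H6xFibIso.purelyTranscendental_baseChange R (𝒟.B j) p R' p' (𝒟'.B j) hκ'
      (𝒜.qB j) (qB' j) (𝒜.pureTrans j j.2)
  have F_uniq : ∀ j : Fin 𝒟.n, ∀ (Q : Ideal (𝒟'.A j)) [Q.IsPrime], Q.LiesOver (qB' j) →
      Q = qA' j := fun j Q _ hQ => by
    haveI := hQ
    haveI : Q.LiesOver p' := Ideal.LiesOver.trans Q (qB' j) p'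
    haveI := (hpush j).1
    apply Groth.Agent.Lib.H6xFibIso.prime_unique R (𝒟.A j) p R' p' (𝒟'.A j) hκ'
    have h1 : (qA' j).comap (algebraMap (𝒟.A j) (𝒟'.A j)) = 𝒜.qA j := ((P6 j).over).symm
    rw [h1]
    haveI : (Q.comap (algebraMap (𝒟.A j) (𝒟'.A j))).IsPrime := Ideal.comap_isPrime _ _
    apply 𝒜.uniq j j.2
    refine ⟨?_⟩
    change 𝒜.qB j = (Q.comap (algebraMap (𝒟.A j) (𝒟'.A j))).comap (algebraMap (𝒟.B j) (𝒟.A j))
    have h2 : Q.comap (algebraMap (𝒟'.B j) (𝒟'.A j)) = qB' j := (hQ.over).symm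
    have h3 : (qB' j).comap (algebraMap (𝒟.B j) (𝒟'.B j)) = 𝒜.qB j := ((P5 j).over).symm
    rw [cc, ← cc (Y := 𝒟'.B j), h2, h3]
  have F_rel : ∀ j : Fin 𝒟.n, FlatCA.SmoothRelDim (𝒜.d j) R' (𝒟'.B j) := fun j => by
    haveI := (hpush j).2.1
    have hpo := CommRingCat.isPushout_of_isPushout R R' (𝒟.B j) (𝒟'.B j)
    have hpb := (AlgebraicGeometry.isPullback_SpecMap_of_isPushout _ _ _ _ hpo).flip
    exact (AlgebraicGeometry.smoothOfRelativeDimension_isStableUnderBaseChange (𝒜.d j)).of_isPullback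
      hpb (𝒜.relDim j j.2)
  have F_loc : ∀ j : Fin 𝒟.n, ∃ (x : PrimeSpectrum (p'.Fiber (𝒟'.B j)))
      (hx : x ∈ Module.support (p'.Fiber (𝒟'.B j)) (FlatCA.fiberMod p' (𝒟'.B j) (𝒟'.M j))),
      x.asIdeal = FlatCA.fiberIdeal p' (qB' j) ∧
      FlatMor.localDim (Module.support (p'.Fiber (𝒟'.B j))
        (FlatCA.fiberMod p' (𝒟'.B j) (𝒟'.M j))) ⟨x, hx⟩ = 𝒜.d j := fun j => by
    haveI := (hpush j).2.1
    haveI := (hpush j).1
    haveI := P5 j
    exact Groth.Agent.Lib.H6xDevAt.exists_localDim_fiber_of_pushout R p R' p' hκ' (𝒟.B j) (𝒟.A j)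
      (𝒟'.B j) (𝒟'.A j) (𝒟.M j) (𝒟'.M j) (gM j) (hpush j).2.2 (𝒜.qB j) (qB' j) (𝒜.d j)
      (𝒜.locDim j j.2)
  have F_q0 : (qA' 0).comap (algebraMap S' (𝒟'.A 0)) = q' := by
    letI : Algebra (𝒟.A 0) (𝒟'.A 0) := aA ⟨0, 𝒟.pos⟩
    haveI : IsScalarTower S (𝒟.A 0) (𝒟'.A 0) := T0
    haveI : ((qA' 0).comap (algebraMap S' (𝒟'.A 0))).IsPrime := Ideal.comap_isPrime _ _
    haveI : ((qA' 0).comap (algebraMap S' (𝒟'.A 0))).LiesOver p' := by
      refine ⟨?_⟩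
      change p' = ((qA' 0).comap (algebraMap S' (𝒟'.A 0))).comap (algebraMap R' S')
      rw [cc]
      exact (hqA'p' 0).over
    apply Groth.Agent.Lib.H6xFibIso.prime_unique R S p R' p' S' hκ'
    have h1 : (qA' 0).comap (algebraMap (𝒟.A 0) (𝒟'.A 0)) = 𝒜.qA 0 :=
      ((P6 ⟨0, 𝒟.pos⟩).over).symm
    have h2 : q'.comap (algebraMap S S') = q := (q'.over_def q).symm
    rw [h2, cc, ← cc (Y := 𝒟.A 0), h1, 𝒜.q0]
  have F_step : ∀ (j : Fin 𝒟.n) (h : (j : ℕ) + 1 < 𝒟.n),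
      (qA' (j + 1)).comap (algebraMap (𝒟'.B j) (𝒟'.A (j + 1))) = qB' j := fun j h => by
    letI : Algebra (𝒟.A (j + 1)) (𝒟'.A (j + 1)) := aA ⟨j + 1, h⟩
    haveI : IsScalarTower (𝒟.B j) (𝒟.A (j + 1)) (𝒟'.A (j + 1)) := T1 j h
    haveI := (hpush j).2.1
    haveI : ((qA' (j + 1)).comap (algebraMap (𝒟'.B j) (𝒟'.A (j + 1)))).IsPrime :=
      Ideal.comap_isPrime _ _
    haveI : ((qA' (j + 1)).comap (algebraMap (𝒟'.B j) (𝒟'.A (j + 1)))).LiesOver p' := by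
      refine ⟨?_⟩
      change p' = ((qA' (j + 1)).comap (algebraMap (𝒟'.B j) (𝒟'.A (j + 1)))).comap
        (algebraMap R' (𝒟'.B j))
      rw [cc]
      exact (hqA'p' (j + 1)).over
    apply Groth.Agent.Lib.H6xFibIso.prime_unique R (𝒟.B j) p R' p' (𝒟'.B j) hκ'
    have h1 : (qA' (j + 1)).comap (algebraMap (𝒟.A (j + 1)) (𝒟'.A (j + 1))) = 𝒜.qA (j + 1) :=
      ((P6 ⟨j + 1, h⟩).over).symm
    have h3 : (qB' j).comap (algebraMap (𝒟.B j) (𝒟'.B j)) = 𝒜.qB j := ((P5 j).over).symm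
    rw [h3, cc, ← cc (Y := 𝒟.A (j + 1)), h1, 𝒜.qStep j h]
  refine ⟨{ qB := qB', qA := qA', hqB := P1, hqA := P3, overB := P2, overA := P4,
            pureTrans := fun i hi => F_pure ⟨i, hn ▸ hi⟩
            uniq := fun i hi => F_uniq ⟨i, hn ▸ hi⟩
            q0 := F_q0
            qStep := fun i hi => F_step ⟨i, by omega⟩ (hn ▸ hi)
            d := 𝒜.d
            relDim := fun i hi => F_rel ⟨i, hn ▸ hi⟩
            locDim := fun i hi => F_loc ⟨i, hn ▸ hi⟩ }, rfl, fun i => ⟨P5 i, P6 i⟩⟩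

end Groth.Agent.S12244
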