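import Groth.Statements.S1232
import Groth.Agent.Lib.R2H1WeakAssFin

set_option autoImplicit false
universe u
open FlatMor

namespace Groth.Agent.S1232

open TensorProduct in
/-- Let A → B be a finite flat ring map, M an A-module and t a prime of B lying over the prime p of A.
Then t is a weakly associated prime of the B-module B ⊗_A M if and only if p is a weakly associated
prime of M. -/
theorem result {A B : Type u} [CommRing A] [CommRing B] [Algebra A B] [Module.Finite A B] [Module.Flat A B]
    (M : Type u) [AddCommGroup M] [Module A M] (p : Ideal A) [p.IsPrime] (t : Ideal B) [t.IsPrime] [t.LiesOver p] :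
    t ∈ FlatCA.weakAss B (B ⊗[A] M) ↔ p ∈ FlatCA.weakAss A M := by
  have : Algebra.IsIntegral A B := Algebra.IsIntegral.of_finite A B
  constructor
  · intro h
    exact Groth.Agent.Lib.R2H1.WeakAssFin.mem_weakAss_of_tensor_finite_flat B M p
      (Groth.Agent.Lib.R2H1.WeakAssFin.under_mem_weakAss_of_finite (B ⊗[A] M) p t h)
  · intro h
    exact Groth.Agent.Lib.R2H1.WeakAssFin.mem_weakAss_tensor_of_mem M p t h

end Groth.Agent.S1232
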