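import Groth.Statements.S12440
import Groth.Agent.Lib.H6xUqE
import Groth.Agent.Lib.H6xUncB
import Groth.Agent.Lib.H6xRHb

set_option autoImplicit false
universe u
open CategoryTheory
attribute [local instance] HasDerivedCategory.standard
open Dual

namespace Groth.Agent.S12440

/-- Let A be a Noetherian ring whose prime spectrum is connected, and let ω and ω′ be dualizing
complexes for A. Then there exist an invertible A-module P (finite locally free of rank one) and an
integer n such that ω′ ≅ (ω ⊗^L_A P)[n] in D(A); here the total left derived functor − ⊗^L_A P is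
assumed to exist (a true statement carried as a hypothesis). The published statement is for a
connected locally Noetherian scheme; the affine case is stated. -/
theorem result (A : Type u) [CommRing A] [IsNoetherianRing A]
    [ConnectedSpace (PrimeSpectrum A)] (ω ω' : Dual.D A) (hω : Dual.IsDualizing A ω) (hω' : Dual.IsDualizing A ω') :
    ∃ (P : ModuleCat.{u} A) (_ : Module.Invertible A P) (n : ℤ),
      ∀ [DRing.HasLTensor A P], Nonempty (ω' ≅ ((DRing.LTensor A P).obj ω)⟦n⟧) := by
  haveI : DTen.HasLTen A := Groth.Agent.Lib.H6xUnc.hasLTen _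
  haveI : DTen.HasLTen₃ A := Groth.Agent.Lib.H6xUnc.hasLTen₃ _
  haveI : DTen.IsSymMonoidal A := Groth.Agent.Lib.H6xUnc.isSymMonoidal _
  haveI : DTen.HasRHom A := Groth.Agent.Lib.H6xRH.hasRHom
  obtain ⟨P, hP, n, ⟨e⟩⟩ := Groth.Agent.Lib.H6xUq.exists_invertible_twist ω ω' hω hω'
  refine ⟨P, hP, n, ?_⟩
  intro inst
  obtain ⟨e'⟩ := Groth.Agent.Lib.H6xTw.nonempty_LTensor_iso P ω
  exact ⟨e ≪≫ (shiftFunctor (Dual.D A) n).mapIso e'.symm⟩

end Groth.Agent.S12440
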