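import Groth.Statements.S12789
import Groth.Agent.Lib.Helper8ProdMap
import Groth.Agent.Lib.Helper17FibFp3
import Groth.Agent.S12780

set_option autoImplicit false
open CategoryTheory AlgebraicGeometry
universe u
open AlgSt


namespace Groth.Agent.S12789.Aux

set_option backward.isDefEq.respectTransparency false
set_option backward.isDefEq.respectTransparency.types false

open Groth.Agent.Lib.Helper17 Groth.Agent.Lib.Helper8DiagCancel Groth.Agent.Lib.Helper8ProdMap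

theorem aux_w {D : Type*} [Category D] {X Y : D} (u : X ⟶ X) (v : Y ⟶ Y) (hu : u = 𝟙 X)
    (hv : v = 𝟙 Y) (m m' : X ⟶ Y) (hm : m = m') : u ≫ m = m' ≫ v := by
  subst hu hv hm
  simp

theorem main {S : Scheme.{u}} {𝒳₁ 𝒳₂ 𝒴₁ 𝒴₂ : AlgSt.Cat S}
    (h𝒳₁ : FibCat.IsFibGrpd 𝒳₁.p) (h𝒳₂ : FibCat.IsFibGrpd 𝒳₂.p) (h𝒴₁ : FibCat.IsFibGrpd 𝒴₁.p) (h𝒴₂ : FibCat.IsFibGrpd 𝒴₂.p)
    (P : MorphismProperty (AlgSp.Sp S))
    (hPb : ∀ ⦃X₁ Y₁ X₂ Y₂ : AlgSp.Sp S⦄, AlgSp.IsAlgSpace X₁ → AlgSp.IsAlgSpace Y₁ → AlgSp.IsAlgSpace X₂ →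
      AlgSp.IsAlgSpace Y₂ → ∀ (a : X₁ ⟶ Y₁) (b : Y₂ ⟶ Y₁) (a' : X₂ ⟶ Y₂) (b' : X₂ ⟶ X₁),
      IsPullback b' a' a b → P a → P a')
    (hPc : ∀ ⦃X Y Z : AlgSp.Sp S⦄, AlgSp.IsAlgSpace X → AlgSp.IsAlgSpace Y → AlgSp.IsAlgSpace Z →
      ∀ (a : X ⟶ Y) (b : Y ⟶ Z), P a → P b → P (a ≫ b))
    (hP : AlgSp.IsLocalOnBase AlgSp.IsFppfCover P)
    (f₁ : 𝒳₁ ⥤ᵇ 𝒴₁) (f₂ : 𝒳₂ ⥤ᵇ 𝒴₂) (hf₁ : AlgSt.RepByAlgSpWith P f₁) (hf₂ : AlgSt.RepByAlgSpWith P f₂)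
    (e : BasedFunctor.comp (BasedFunctor.comp (FibCat.fpFst (FibCat.toSelf 𝒳₁) (FibCat.toSelf 𝒳₂)) f₁) (FibCat.toSelf 𝒴₁) ≅ BasedFunctor.comp (BasedFunctor.comp (FibCat.fpSnd (FibCat.toSelf 𝒳₁) (FibCat.toSelf 𝒳₂)) f₂) (FibCat.toSelf 𝒴₂)) :
    AlgSt.RepByAlgSpWith P (FibCat.fpLift (BasedFunctor.comp (FibCat.fpFst (FibCat.toSelf 𝒳₁) (FibCat.toSelf 𝒳₂)) f₁) (BasedFunctor.comp (FibCat.fpSnd (FibCat.toSelf 𝒳₁) (FibCat.toSelf 𝒳₂)) f₂) e) := by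
  have hT : FibCat.IsFibGrpd (FibCat.selfOver (Over S)).p := isFibGrpd_selfOver (Over S)
  have hL := repByAlgSpWith_mapLeft P (FibCat.toSelf 𝒴₁) f₁
    (BasedFunctor.comp f₂ (FibCat.toSelf 𝒴₂)) hf₁
  have hR := repByAlgSpWith_mapRight P (FibCat.toSelf 𝒴₁) f₂ (FibCat.toSelf 𝒴₂) hf₂
  have hLR := Groth.Agent.S12780.result
    (isFibGrpd_fp (BasedFunctor.comp f₁ (FibCat.toSelf 𝒴₁)) (BasedFunctor.comp f₂ (FibCat.toSelf 𝒴₂))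
      h𝒳₁ h𝒳₂ hT)
    (isFibGrpd_fp (FibCat.toSelf 𝒴₁) (BasedFunctor.comp f₂ (FibCat.toSelf 𝒴₂)) h𝒴₁ h𝒳₂ hT)
    (isFibGrpd_fp (FibCat.toSelf 𝒴₁) (FibCat.toSelf 𝒴₂) h𝒴₁ h𝒴₂ hT)
    P hPb hPc hP _ _ hL hR
  -- the comparison equivalence on the source
  let E := fpMap (BasedFunctor.comp f₁ (FibCat.toSelf 𝒴₁)) (BasedFunctor.comp f₂ (FibCat.toSelf 𝒴₂))
    (FibCat.toSelf 𝒳₁) (FibCat.toSelf 𝒳₂) (BasedFunctor.id _) (BasedFunctor.id _)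
    (BasedFunctor.id _) (selfOverIso _ _) (selfOverIso _ _)
  have : (BasedFunctor.id (FibCat.selfOver (Over S))).toFunctor.Full :=
    inferInstanceAs (𝟭 _).Full
  have : (BasedFunctor.id (FibCat.selfOver (Over S))).toFunctor.Faithful :=
    inferInstanceAs (𝟭 _).Faithful
  have hE : FibCat.IsEquivOver E := isEquivOver_fpMap _ _ _ _ _ _ _ _ _ (isEquivOver_id _)
    (isEquivOver_id _)
  refine (repByAlgSpWith_of_square P _ _ E (BasedFunctor.id _) hE (isEquivOver_id _) ?_).1 hLR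
  refine fpIsoMk (FibCat.toSelf 𝒴₁) (FibCat.toSelf 𝒴₂) (Iso.refl _) (Iso.refl _) (fun a => ?_)
  refine aux_w _ _ ((FibCat.toSelf 𝒴₁).toFunctor.map_id _) ((FibCat.toSelf 𝒴₂).toFunctor.map_id _)
    _ _ ?_
  exact selfOver_hom_ext _ _
    (ObjectProperty.FullSubcategory.property
      ((BasedFunctor.comp E (BasedFunctor.comp
        (mapLeft (FibCat.toSelf 𝒴₁) f₁ (BasedFunctor.comp f₂ (FibCat.toSelf 𝒴₂)))
        (mapRight (FibCat.toSelf 𝒴₁) f₂ (FibCat.toSelf 𝒴₂)))).toFunctor.obj a))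
    (ObjectProperty.FullSubcategory.property
      ((BasedFunctor.comp (FibCat.fpLift
        (BasedFunctor.comp (FibCat.fpFst (FibCat.toSelf 𝒳₁) (FibCat.toSelf 𝒳₂)) f₁)
        (BasedFunctor.comp (FibCat.fpSnd (FibCat.toSelf 𝒳₁) (FibCat.toSelf 𝒳₂)) f₂) e)
        (BasedFunctor.id _)).toFunctor.obj a))

end Groth.Agent.S12789.Aux

namespace Groth.Agent.S12789

/-- Let `P` be a property of morphisms of algebraic spaces which is stable under base change, fppf local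
on the base and stable under composition, and `f₁ : 𝒳₁ ⟶ 𝒴₁`, `f₂ : 𝒳₂ ⟶ 𝒴₂` 1-morphisms of
categories fibred in groupoids over `(Sch/S)` which are representable by algebraic spaces and have
`P`. Then `f₁ × f₂ : 𝒳₁ × 𝒳₂ ⟶ 𝒴₁ × 𝒴₂` (products over the base category; the functor induced on
2-fibre products, for any choice of the 2-isomorphism `e` filling the square) has `P`. (Stability
under base change is asked for every pullback square of fppf sheaves whose four corners are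
algebraic spaces, and stability under composition for composable morphisms between algebraic
spaces.) -/
theorem result {S : Scheme.{u}} {𝒳₁ 𝒳₂ 𝒴₁ 𝒴₂ : AlgSt.Cat S}
    (h𝒳₁ : FibCat.IsFibGrpd 𝒳₁.p) (h𝒳₂ : FibCat.IsFibGrpd 𝒳₂.p) (h𝒴₁ : FibCat.IsFibGrpd 𝒴₁.p) (h𝒴₂ : FibCat.IsFibGrpd 𝒴₂.p)
    (P : MorphismProperty (AlgSp.Sp S))
    (hPb : ∀ ⦃X₁ Y₁ X₂ Y₂ : AlgSp.Sp S⦄, AlgSp.IsAlgSpace X₁ → AlgSp.IsAlgSpace Y₁ → AlgSp.IsAlgSpace X₂ →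
      AlgSp.IsAlgSpace Y₂ → ∀ (a : X₁ ⟶ Y₁) (b : Y₂ ⟶ Y₁) (a' : X₂ ⟶ Y₂) (b' : X₂ ⟶ X₁),
      IsPullback b' a' a b → P a → P a')
    (hPc : ∀ ⦃X Y Z : AlgSp.Sp S⦄, AlgSp.IsAlgSpace X → AlgSp.IsAlgSpace Y → AlgSp.IsAlgSpace Z →
      ∀ (a : X ⟶ Y) (b : Y ⟶ Z), P a → P b → P (a ≫ b))
    (hP : AlgSp.IsLocalOnBase AlgSp.IsFppfCover P)
    (f₁ : 𝒳₁ ⥤ᵇ 𝒴₁) (f₂ : 𝒳₂ ⥤ᵇ 𝒴₂) (hf₁ : AlgSt.RepByAlgSpWith P f₁) (hf₂ : AlgSt.RepByAlgSpWith P f₂)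
    (e : BasedFunctor.comp (BasedFunctor.comp (FibCat.fpFst (FibCat.toSelf 𝒳₁) (FibCat.toSelf 𝒳₂)) f₁) (FibCat.toSelf 𝒴₁) ≅ BasedFunctor.comp (BasedFunctor.comp (FibCat.fpSnd (FibCat.toSelf 𝒳₁) (FibCat.toSelf 𝒳₂)) f₂) (FibCat.toSelf 𝒴₂)) :
    AlgSt.RepByAlgSpWith P (FibCat.fpLift (BasedFunctor.comp (FibCat.fpFst (FibCat.toSelf 𝒳₁) (FibCat.toSelf 𝒳₂)) f₁) (BasedFunctor.comp (FibCat.fpSnd (FibCat.toSelf 𝒳₁) (FibCat.toSelf 𝒳₂)) f₂) e) := by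
  open Groth.Agent.Lib.Helper17 Groth.Agent.Lib.Helper8DiagCancel Groth.Agent.Lib.Helper8ProdMap in
  exact Aux.main h𝒳₁ h𝒳₂ h𝒴₁ h𝒴₂ P hPb hPc hP f₁ f₂ hf₁ hf₂ e

end Groth.Agent.S12789
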