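import Groth.Statements.S12943
import Mathlib
import Groth.Agent.Lib.Helper8DiagEq

set_option autoImplicit false
universe u
open CategoryTheory AlgebraicGeometry
open AlgSt

namespace Groth.Agent.S12943

/-- For a morphism f of algebraic stacks that is representable by algebraic spaces, the following are
equivalent: f is separated (every base change to a scheme is a separated morphism of algebraic
spaces); the diagonal of f is a closed immersion; the diagonal of f is proper; the diagonal of f is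
universally closed. -/
theorem result
    (S : Scheme.{u}) (𝒳 : AlgSt.Cat S) (𝒴 : AlgSt.Cat S)
    (h𝒳 : AlgSt.IsAlgStack Scheme.fppfPrecoverage 𝒳)
    (h𝒴 : AlgSt.IsAlgStack Scheme.fppfPrecoverage 𝒴)
    (f : 𝒳 ⥤ᵇ 𝒴)
    (hf : AlgSt.RepByAlgSp1 f) :
    [AlgSt.RepByAlgSpWith AlgSp.IsSeparatedMor f, AlgSt.IsClosedImm (FibCat.diag f),
      AlgSt.IsSeparatedMor f, AlgSt.RepByAlgSpWith AlgSp.IsUnivClosedMor (FibCat.diag f)].TFAE := by
  have hΔ : AlgSt.RepByAlgSp1 (FibCat.diag f) :=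
    Groth.Agent.Lib.Helper15DiagRepSp.repByAlgSp1_diag_of_diag f h𝒳.diag h𝒴.diag
  have h1 := Groth.Agent.Lib.Helper8DiagEq.sep_iff_eqP f
  have h2 : AlgSt.IsClosedImm (FibCat.diag f) ↔ _ :=
    Groth.Agent.Lib.Helper8DiagEq.repWith_diag_iff_eqP f @IsClosedImmersion hf hΔ
  have h3 : AlgSt.IsSeparatedMor f ↔ _ :=
    Groth.Agent.Lib.Helper8DiagEq.proper_diag_iff_eqP f hf hΔ
  have h4 := Groth.Agent.Lib.Helper8DiagEq.univClosed_diag_iff_eqP f hf hΔ
  tfae_have 1 ↔ 2 := h1.trans h2.symm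
  tfae_have 2 ↔ 3 := h2.trans h3.symm
  tfae_have 3 ↔ 4 := h3.trans h4.symm
  tfae_finish

end Groth.Agent.S12943
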