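import Groth.Statements.S12972
import Mathlib
import Groth.Agent.Lib.Helper8InertiaSep

set_option autoImplicit false
universe u
open CategoryTheory AlgebraicGeometry
open AlgSt

namespace Groth.Agent.S12972

/-- For a morphism f : 𝒳 → 𝒴 of algebraic stacks the following are equivalent: the relative inertia
𝓘_{𝒳/𝒴} → 𝒳 is separated; the diagonal of f is separated; the neutral section 𝒳 → 𝓘_{𝒳/𝒴} (the
second diagonal) is a closed immersion. All three morphisms are representable by algebraic spaces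
and the properties are the ones of such morphisms. -/
theorem result
    (S : Scheme.{u}) (𝒳 : AlgSt.Cat S) (𝒴 : AlgSt.Cat S)
    (h𝒳 : AlgSt.IsAlgStack Scheme.fppfPrecoverage 𝒳)
    (h𝒴 : AlgSt.IsAlgStack Scheme.fppfPrecoverage 𝒴)
    (f : 𝒳 ⥤ᵇ 𝒴) :
    [AlgSt.RepByAlgSpWith AlgSp.IsSeparatedMor (FibCat.inertiaToBase f),
      AlgSt.RepByAlgSpWith AlgSp.IsSeparatedMor (FibCat.diag f),
      AlgSt.IsClosedImm (FibCat.inertiaNeutral f)].TFAE := by
  exact Groth.Agent.Lib.Helper8InertiaSep.inertia_tfae_core AlgSp.IsSeparatedMor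
    (AlgSp.RepWith @IsClosedImmersion)
    (fun k hk hΔk => (Groth.Agent.Lib.Helper8DiagEq.sep_iff_eqP k).trans
      (Groth.Agent.Lib.Helper8DiagEq.repWith_diag_iff_eqP k @IsClosedImmersion hk hΔk).symm)
    h𝒳 h𝒴 f

end Groth.Agent.S12972
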