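import Groth.Statements.S12979
import Mathlib
import Groth.Agent.Lib.Helper8DiagEq
import Groth.Agent.Lib.Helper15DiagOfComp
import Groth.Agent.Lib.Helper8WNA2
import Groth.Agent.S9925

set_option autoImplicit false
universe u
open CategoryTheory AlgebraicGeometry
open AlgSt

namespace Groth.Agent.S12979

/-- If the first and second diagonals of a morphism f of algebraic stacks are both universally closed
(as morphisms representable by algebraic spaces), then f is separated. (The published statement is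
an equivalence; this row states the implication from the two diagonals to separatedness.) -/
theorem result
    (S : Scheme.{u}) (𝒳 : AlgSt.Cat S) (𝒴 : AlgSt.Cat S)
    (h𝒳 : AlgSt.IsAlgStack Scheme.fppfPrecoverage 𝒳)
    (h𝒴 : AlgSt.IsAlgStack Scheme.fppfPrecoverage 𝒴)
    (f : 𝒳 ⥤ᵇ 𝒴) :
    AlgSt.RepByAlgSpWith AlgSp.IsUnivClosedMor (FibCat.diag f) →
      AlgSt.RepByAlgSpWith AlgSp.IsUnivClosedMor (FibCat.diag (FibCat.diag f)) → AlgSt.IsSeparatedMor f := by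
  intro h1 h2
  have hΔ : AlgSt.RepByAlgSp1 (FibCat.diag f) :=
    Groth.Agent.Lib.Helper15DiagRepSp.repByAlgSp1_diag_of_diag f h𝒳.diag h𝒴.diag
  have hfp : AlgSt.RepByAlgSp1 (FibCat.diag (FibCat.toSelf (FibCat.fp f f))) :=
    Groth.Agent.Lib.Helper15DiagOfComp.repByAlgSp1_diag_toSelf_fp h𝒳.isStack.1 h𝒳.isStack.1
      h𝒴.isStack.1 h𝒳.diag h𝒳.diag h𝒴.diag f f
  have hΔΔ : AlgSt.RepByAlgSp1 (FibCat.diag (FibCat.diag f)) :=
    Groth.Agent.Lib.Helper15DiagRepSp.repByAlgSp1_diag_of_diag (FibCat.diag f) h𝒳.diag hfp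
  have hsep : AlgSt.RepByAlgSpWith AlgSp.IsSeparatedMor (FibCat.diag f) :=
    (Groth.Agent.Lib.Helper8DiagEq.sep_iff_eqP (FibCat.diag f)).2
      ((Groth.Agent.Lib.Helper8DiagEq.univClosed_diag_iff_eqP (FibCat.diag f) hΔ hΔΔ).1 h2)
  have hlft := Groth.Agent.Lib.Helper15DiagLft.repByAlgSpWith_lft_diag h𝒳 h𝒴 f
  have hqc : AlgSt.RepByAlgSpWith AlgSp.IsQuasiCompactMor (FibCat.diag f) :=
    Groth.Agent.Lib.Helper8WNA2.repByAlgSpWith_mono'
      (fun F T a ha => Groth.Agent.S9925.result (X := F)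
        (Y := ⟨(AlgSp.yon S).obj T, AlgSp.IsAlgSpace.yon_obj T⟩) (ObjectProperty.homMk a) ha)
      (FibCat.diag f) h1
  have bsep := Groth.Agent.Lib.Helper8DiagEq.bcStable_isSeparatedMor (S := S)
  have hft := Groth.Agent.Lib.Helper8DiagEq.repByAlgSpWith_inf _ _
    Groth.Agent.Lib.Helper8DiagEq.bcStable_isQuasiCompactMor (FibCat.diag f) hlft hqc
  have h3 := Groth.Agent.Lib.Helper8DiagEq.repByAlgSpWith_inf _ _
    Groth.Agent.Lib.Helper8DiagEq.bcStable_isUnivClosedMor (FibCat.diag f) hft h1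
  have h4 := Groth.Agent.Lib.Helper8DiagEq.repByAlgSpWith_inf _ _ bsep (FibCat.diag f) h3 hsep
  exact Groth.Agent.Lib.Helper15PtsTop.repByAlgSpWith_mono
    (P := ((AlgSp.LocP @LocallyOfFiniteType ⊓ AlgSp.IsQuasiCompactMor) ⊓ AlgSp.IsUnivClosedMor) ⊓
      AlgSp.IsSeparatedMor) (Q := AlgSp.IsProperMor)
    (fun _ _ _ hh => ⟨hh.2, ⟨hh.1.1.1, hh.1.1.2⟩, hh.1.2⟩) h4

end Groth.Agent.S12979
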