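import Groth.Statements.S12980
import Mathlib
import Groth.Agent.Lib.Helper8DiagEq
import Groth.Agent.Lib.Helper15DiagOfComp

set_option autoImplicit false
universe u
open CategoryTheory AlgebraicGeometry
open AlgSt

namespace Groth.Agent.S12980

/-- A morphism f of algebraic stacks is quasi-separated if and only if its first and second diagonals
are both quasi-compact (as morphisms representable by algebraic spaces). -/
theorem result
    (S : Scheme.{u}) (𝒳 : AlgSt.Cat S) (𝒴 : AlgSt.Cat S)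
    (h𝒳 : AlgSt.IsAlgStack Scheme.fppfPrecoverage 𝒳)
    (h𝒴 : AlgSt.IsAlgStack Scheme.fppfPrecoverage 𝒴)
    (f : 𝒳 ⥤ᵇ 𝒴) :
    AlgSt.IsQuasiSeparatedMor f ↔
      AlgSt.RepByAlgSpWith AlgSp.IsQuasiCompactMor (FibCat.diag f) ∧
        AlgSt.RepByAlgSpWith AlgSp.IsQuasiCompactMor (FibCat.diag (FibCat.diag f)) := by
  have hΔ : AlgSt.RepByAlgSp1 (FibCat.diag f) :=
    Groth.Agent.Lib.Helper15DiagRepSp.repByAlgSp1_diag_of_diag f h𝒳.diag h𝒴.diag
  have hfp : AlgSt.RepByAlgSp1 (FibCat.diag (FibCat.toSelf (FibCat.fp f f))) :=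
    Groth.Agent.Lib.Helper15DiagOfComp.repByAlgSp1_diag_toSelf_fp h𝒳.isStack.1 h𝒳.isStack.1
      h𝒴.isStack.1 h𝒳.diag h𝒳.diag h𝒴.diag f f
  have hΔΔ : AlgSt.RepByAlgSp1 (FibCat.diag (FibCat.diag f)) :=
    Groth.Agent.Lib.Helper15DiagRepSp.repByAlgSp1_diag_of_diag (FibCat.diag f) h𝒳.diag hfp
  constructor
  · intro h
    have h1 : AlgSt.RepByAlgSpWith AlgSp.IsQuasiCompactMor (FibCat.diag f) :=
      Groth.Agent.Lib.Helper15PtsTop.repByAlgSpWith_mono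
        (P := AlgSp.IsQuasiCompactMor ⊓ AlgSp.IsQuasiSeparatedMor) (Q := AlgSp.IsQuasiCompactMor)
        (fun _ _ _ hh => hh.1) h
    have h2 : AlgSt.RepByAlgSpWith AlgSp.IsQuasiSeparatedMor (FibCat.diag f) :=
      Groth.Agent.Lib.Helper15PtsTop.repByAlgSpWith_mono
        (P := AlgSp.IsQuasiCompactMor ⊓ AlgSp.IsQuasiSeparatedMor) (Q := AlgSp.IsQuasiSeparatedMor)
        (fun _ _ _ hh => hh.2) h
    exact ⟨h1, (Groth.Agent.Lib.Helper8DiagEq.qc_diag_iff_eqP (FibCat.diag f) hΔ hΔΔ).2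
      ((Groth.Agent.Lib.Helper8DiagEq.qs_iff_eqP (FibCat.diag f)).1 h2)⟩
  · rintro ⟨h1, h2⟩
    have h3 : AlgSt.RepByAlgSpWith AlgSp.IsQuasiSeparatedMor (FibCat.diag f) :=
      (Groth.Agent.Lib.Helper8DiagEq.qs_iff_eqP (FibCat.diag f)).2
        ((Groth.Agent.Lib.Helper8DiagEq.qc_diag_iff_eqP (FibCat.diag f) hΔ hΔΔ).1 h2)
    exact Groth.Agent.Lib.Helper8DiagEq.repByAlgSpWith_inf _ _
      Groth.Agent.Lib.Helper8QsCancel.bcStable_isQuasiSeparatedMor (FibCat.diag f) h1 h3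

end Groth.Agent.S12980
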