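import Groth.Statements.S12988
import Mathlib
import Groth.Agent.Lib.Helper8QcOverBase
import Groth.Agent.Lib.Helper8QsCancel
import Groth.Agent.S12954

set_option autoImplicit false
universe u
open CategoryTheory AlgebraicGeometry
open AlgSt

namespace Groth.Agent.S12988

/-- Over a quasi-separated base scheme, a 2-fibre product of algebraic stacks that are quasi-compact and
quasi-separated over the base scheme is quasi-compact and quasi-separated over the base scheme. (The
published statement is about stacks quasi-compact and quasi-separated over the integers and puts no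
condition on the base scheme; this row assumes the base scheme quasi-separated and uses
quasi-separatedness over it. Without quasi-separatedness of the base the quasi-compactness
conclusion fails: for the base glued from two copies of infinite-dimensional affine space along the
complement of the origin, the two copies are quasi-compact and quasi-separated over the base while
their fibre product over the base is that complement, which is not quasi-compact.) -/
theorem result
    (S : Scheme.{u}) [QuasiSeparatedSpace S] (𝒳 : AlgSt.Cat S) (𝒴 : AlgSt.Cat S) (𝒵 : AlgSt.Cat S)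
    (h𝒳 : AlgSt.IsAlgStack Scheme.fppfPrecoverage 𝒳)
    (h𝒴 : AlgSt.IsAlgStack Scheme.fppfPrecoverage 𝒴)
    (h𝒵 : AlgSt.IsAlgStack Scheme.fppfPrecoverage 𝒵)
    (a : 𝒳 ⥤ᵇ 𝒴) (b : 𝒵 ⥤ᵇ 𝒴) :
    AlgSt.IsQuasiCompact 𝒳 → AlgSt.IsQuasiSeparatedOver 𝒳 →
      AlgSt.IsQuasiCompact 𝒴 → AlgSt.IsQuasiSeparatedOver 𝒴 →
      AlgSt.IsQuasiCompact 𝒵 → AlgSt.IsQuasiSeparatedOver 𝒵 →
      AlgSt.IsQuasiCompact (FibCat.fp a b) ∧ AlgSt.IsQuasiSeparatedOver (FibCat.fp a b) := by
  intro hq𝒳 hs𝒳 hq𝒴 hs𝒴 hq𝒵 hs𝒵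
  have hbqc : AlgSt.IsQuasiCompactMor Scheme.fppfPrecoverage b :=
    Groth.Agent.Lib.Helper8QcOverBase.isQuasiCompactMor_of_isQuasiCompact_of_isQuasiSeparatedOver
      h𝒵 h𝒴 b hq𝒵 hs𝒴
  refine ⟨hbqc 𝒳 h𝒳 hq𝒳 a, ?_⟩
  have hbqs : AlgSt.IsQuasiSeparatedMor b := by
    refine Groth.Agent.Lib.Helper8QsCancel.isQuasiSeparatedMor_of_comp_st b (FibCat.toSelf 𝒴) ?_ ?_
    · rw [Groth.Agent.Lib.Helper15QsComp.comp_toSelf]
      exact hs𝒵
    · exact Groth.Agent.Lib.Helper15DiagLft.repByAlgSpWith_mono (fun _ _ _ h => h.2) _ hs𝒴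
  have h1 : AlgSt.IsQuasiSeparatedMor (FibCat.fpFst a b) :=
    Groth.Agent.S12954.result S 𝒵 𝒴 𝒳 h𝒵 h𝒴 h𝒳 b a hbqs
  have hfp : FibCat.IsFibGrpd (FibCat.fp a b).p :=
    Groth.Agent.Lib.Helper17.isFibGrpd_fp a b h𝒳.isStack.1 h𝒵.isStack.1 h𝒴.isStack.1
  have h2 := Groth.Agent.Lib.Helper15QsComp.isQuasiSeparatedMor_comp_st hfp h𝒳.isStack.1
    (FibCat.fpFst a b) (FibCat.toSelf 𝒳) h1 hs𝒳
  rw [Groth.Agent.Lib.Helper15QsComp.comp_toSelf] at h2
  exact h2

end Groth.Agent.S12988
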