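import Groth.Statements.S12995
import Mathlib
import Groth.Agent.S12843
import Groth.Agent.Lib.Helper15LocQComp
import Groth.Agent.Lib.Helper15LocQProps
import Groth.Agent.Lib.Helper15PtsComp
import Groth.Agent.Lib.Helper15PtsTop
import Groth.Agent.Lib.Helper15SrcCancel
import Groth.Agent.Lib.Helper15DiagRepSp
import Groth.Agent.Lib.Helper17StkPts3

set_option autoImplicit false
universe u
open CategoryTheory AlgebraicGeometry
open AlgSt

namespace Groth.Agent.S12995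

/-- Let P be a property of morphisms of algebraic spaces that is fppf local on the target and stable
under base change, f : 𝒳 → 𝒴 a morphism of algebraic stacks representable by algebraic spaces, and 𝒵
→ 𝒴 a surjective, flat, locally finitely presented morphism of algebraic stacks. Then f has P (every
base change to a scheme has P) if and only if the projection 𝒵 ×_𝒴 𝒳 → 𝒵 has P. -/
theorem result
    (S : Scheme.{u}) (P : MorphismProperty (AlgSp.Sp S))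
    (hP₁ : ∀ ⦃X₁ Y₁ X₂ Y₂ : AlgSp.Sp S⦄, AlgSp.IsAlgSpace X₁ → AlgSp.IsAlgSpace Y₁ → AlgSp.IsAlgSpace X₂ →
      AlgSp.IsAlgSpace Y₂ → ∀ (a : X₁ ⟶ Y₁) (b : Y₂ ⟶ Y₁) (a' : X₂ ⟶ Y₂) (b' : X₂ ⟶ X₁),
      IsPullback b' a' a b → P a → P a')
    (hP₂ : AlgSp.IsLocalOnBase AlgSp.IsFppfCover P)
    (𝒳 : AlgSt.Cat S) (𝒴 : AlgSt.Cat S)
    (h𝒳 : AlgSt.IsAlgStack Scheme.fppfPrecoverage 𝒳)
    (h𝒴 : AlgSt.IsAlgStack Scheme.fppfPrecoverage 𝒴)
    (f : 𝒳 ⥤ᵇ 𝒴) (hf : AlgSt.RepByAlgSp1 f)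
    (𝒵 : AlgSt.Cat S) (h𝒵 : AlgSt.IsAlgStack Scheme.fppfPrecoverage 𝒵) (z : 𝒵 ⥤ᵇ 𝒴)
    (hz₁ : AlgSt.LocQ (AlgSp.LocP @Flat) z) (hz₂ : AlgSt.LocQ (AlgSp.LocP @LocallyOfFinitePresentation) z)
    (hz₃ : AlgSt.IsSurjective z) :
    AlgSt.RepByAlgSpWith P f ↔ AlgSt.RepByAlgSpWith P (FibCat.fpFst z f) := by
  open Groth.Agent.Lib.Helper17 Groth.Agent.Lib.Helper15LocQRep
    Groth.Agent.Lib.Helper15LocQComp Groth.Agent.Lib.Helper15LocQProps
    Groth.Agent.Lib.Helper15PtsComp Groth.Agent.Lib.Helper15PtsTop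
    Groth.Agent.Lib.Helper15SrcCancel Groth.Agent.Lib.Helper15DiagRepSp
    Groth.Agent.Lib.Helper15DiagDescent in
  refine ⟨fun h => repByAlgSpWith_fpFst P f z h, fun h' => ?_⟩
  obtain ⟨W, x, hx₁, hx₂⟩ := h𝒵.atlas
  have hW := isAlgStack_overCat W
  let z' : FibCat.overCat W ⥤ᵇ 𝒴 := BasedFunctor.comp x z
  have hz'rep : AlgSt.RepByAlgSp1 z' := repByAlgSp1_of_repByAlgSp1_diag h𝒴.diag W z'
  have hxrep : AlgSt.RepByAlgSp1 x := repByAlgSp1_of_repByAlgSpWith _ x hx₁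
  -- flat
  have hfl : AlgSt.LocQ (AlgSp.LocP @Flat) z' :=
    locQ_comp _ isSmoothLocalST_flat
      (fun _ _ _ _ hY hZ a b ha hb => locP_flat_comp hY hZ a b ha hb) hW h𝒵 h𝒴 x z
      (locQ_of_repByAlgSpWith _ isSmoothLocalST_flat hW h𝒵 x (flat_of_smooth hx₁)) hz₁
  have hfl' : AlgSt.RepByAlgSpWith (AlgSp.LocP @Flat) z' :=
    repByAlgSpWith_of_locQ _ isSmoothLocalST_flat bcStable_flat
      (isLocalOnBase_fppf_of_fpqc _ (Groth.Agent.S10530.result S)) hW h𝒴 z' hz'rep hfl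
  -- locally of finite presentation
  have hfp : AlgSt.LocQ (AlgSp.LocP @LocallyOfFinitePresentation) z' :=
    locQ_comp _ isSmoothLocalST_lfp
      (fun _ _ _ _ hY hZ a b ha hb => locP_lfp_comp hY hZ a b ha hb) hW h𝒵 h𝒴 x z
      (locQ_of_repByAlgSpWith _ isSmoothLocalST_lfp hW h𝒵 x (lfp_of_smooth hx₁)) hz₂
  have hfp' : AlgSt.RepByAlgSpWith (AlgSp.LocP @LocallyOfFinitePresentation) z' :=
    repByAlgSpWith_of_locQ _ isSmoothLocalST_lfp bcStable_lfp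
      (isLocalOnBase_fppf_of_fpqc _ (Groth.Agent.S10527.result S)) hW h𝒴 z' hz'rep hfp
  -- surjective
  have hxs : AlgSt.IsSurjective x := (isSurjective_iff_repByAlgSpWith hW h𝒵 x hxrep).2 hx₂
  have hz's : AlgSt.IsSurjective z' := by
    intro η
    obtain ⟨ζ, rfl⟩ := hz₃ η
    obtain ⟨ξ, rfl⟩ := hxs ζ
    exact ⟨ξ, points_map_comp x z ξ⟩
  have hsurj' : AlgSt.RepByAlgSpWith AlgSp.IsSurjectiveMor z' :=
    (isSurjective_iff_repByAlgSpWith hW h𝒴 z' hz'rep).1 hz's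
  -- conclude with the representable case
  refine (Groth.Agent.S12843.result h𝒳 h𝒴 hW P hP₁ hP₂ f hf z' hfl' hfp' hsurj').2 ?_
  have h1 : AlgSt.RepByAlgSpWith P (FibCat.fpFst x (FibCat.fpFst z f)) :=
    repByAlgSpWith_fpFst P (FibCat.fpFst z f) x h'
  exact (repByAlgSpWith_of_square P (FibCat.fpFst z' f) (FibCat.fpFst x (FibCat.fpFst z f))
    (pasteL f z x) (BasedFunctor.id _) (isEquivOver_pasteL f z x) (isEquivOver_id _)
    (Iso.refl _)).2 h1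

end Groth.Agent.S12995
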