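import Groth.Statements.S13000
import Mathlib
import Groth.Agent.Lib.Helper8LocQFppf
import Groth.Agent.S10526

set_option autoImplicit false
universe u
open CategoryTheory AlgebraicGeometry
open AlgSt

namespace Groth.Agent.S13000

/-- Let f : 𝒳 → 𝒴 be a morphism of algebraic stacks and W → 𝒴 a surjective, flat, locally finitely
presented morphism whose source is an algebraic space. Whenever the projection to W from W ×_𝒴 𝒳 is
locally of finite type, so is f. -/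
theorem result
    (S : Scheme.{u}) (𝒳 : AlgSt.Cat S) (𝒴 : AlgSt.Cat S)
    (h𝒳 : AlgSt.IsAlgStack Scheme.fppfPrecoverage 𝒳)
    (h𝒴 : AlgSt.IsAlgStack Scheme.fppfPrecoverage 𝒴)
    (f : 𝒳 ⥤ᵇ 𝒴)
    (W : AlgSp.Space S) (w : AlgSt.ofSp W.obj ⥤ᵇ 𝒴)
    (hw₁ : AlgSt.RepByAlgSpWith (AlgSp.LocP @Flat) w)
    (hw₂ : AlgSt.RepByAlgSpWith (AlgSp.LocP @LocallyOfFinitePresentation) w)
    (hw₃ : AlgSt.RepByAlgSpWith AlgSp.IsSurjectiveMor w) :
    AlgSt.LocQ (AlgSp.LocP @LocallyOfFiniteType) (FibCat.fpFst w f) → AlgSt.LocQ (AlgSp.LocP @LocallyOfFiniteType) f := by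
  open Groth.Agent.Lib.Helper17 Groth.Agent.Lib.Helper15LocQRep
    Groth.Agent.Lib.Helper15LocQComp Groth.Agent.Lib.Helper15LocQProps
    Groth.Agent.Lib.Helper15PtsComp Groth.Agent.Lib.Helper15PtsTop
    Groth.Agent.Lib.Helper15SrcCancel Groth.Agent.Lib.Helper15DiagRepSp
    Groth.Agent.Lib.Helper15DiagDescent in
  intro hL
  have hW := isAlgStack_ofSp W
  exact Groth.Agent.Lib.Helper8LocQFppf.locQ_of_locQ_fpFst_of_fppf _ isSmoothLocalST_lft
    (isLocalOnBase_fppf_of_fpqc _ (Groth.Agent.S10526.result S)) h𝒳 h𝒴 hW f w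
    (locQ_of_repByAlgSpWith _ isSmoothLocalST_flat hW h𝒴 w hw₁)
    (locQ_of_repByAlgSpWith _ isSmoothLocalST_lfp hW h𝒴 w hw₂)
    ((isSurjective_iff_repByAlgSpWith hW h𝒴 w (repByAlgSp1_of_repByAlgSpWith _ w hw₃)).2 hw₃) hL

end Groth.Agent.S13000
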