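import Groth.Statements.S13053
import Mathlib
import Groth.Agent.Lib.R2H4ZetaPn
import Groth.Agent.S13055

set_option autoImplicit false
universe u
open CategoryTheory AlgebraicGeometry
open Zeta

namespace Groth.Agent.S13053

/-- For a finite field k with q elements, Z(P^n_k, t) = 1 / ((1 − t)(1 − qt) ⋯ (1 − q^n t)); stated as
Z(P^n_k, t) · ∏_{i = 0}^{n} (1 − q^i t) = 1 in ℚ⟦t⟧. -/
theorem result (k : Type u) [Field k] [Finite k] (n : ℕ) :
    Zeta.zetaFun (CohB1.ProjSpace.toSpec n k) *
        ∏ i ∈ Finset.range (n + 1), (1 - PowerSeries.C ((Nat.card k : ℚ) ^ i) * PowerSeries.X) = 1 := by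
  classical
  haveI : IsProper (CohB1.ProjSpace.toSpec n k) :=
    Groth.Agent.S9705.isProper_projSpace_toSpec n k
  set P : Polynomial ℤ := ∑ i ∈ Finset.range (n + 1), Polynomial.X ^ i with hPdef
  have hcoeff : ∀ i, P.coeff i = if i ≤ n then 1 else 0 := by
    intro i
    rw [hPdef, Polynomial.finsetSum_coeff]
    simp only [Polynomial.coeff_X_pow]
    by_cases hi : i ≤ n
    · rw [if_pos hi, Finset.sum_eq_single i]
      · simp
      · intro b _ hb
        rw [if_neg (Ne.symm hb)]
      · intro h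
        exact absurd (Finset.mem_range.mpr (Nat.lt_succ_of_le hi)) h
    · rw [if_neg hi]
      apply Finset.sum_eq_zero
      intro b hb
      have hb' : b ≤ n := Nat.lt_succ_iff.mp (Finset.mem_range.mp hb)
      rw [if_neg]
      omega
  have hdeg : P.natDegree = n := by
    apply le_antisymm
    · rw [Polynomial.natDegree_le_iff_coeff_eq_zero]
      intro N hN
      rw [hcoeff, if_neg (by omega)]
    · apply Polynomial.le_natDegree_of_ne_zero
      rw [hcoeff, if_pos le_rfl]
      exact one_ne_zero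
  have hP : ∀ m : ℕ, 1 ≤ m → (Zeta.nPts (CohB1.ProjSpace.toSpec n k) m : ℤ) =
      P.eval ((Nat.card k : ℤ) ^ m) := by
    intro m hm
    rw [Groth.Agent.Lib.R2H4ZetaPn.nPts_projSpace n m hm, hPdef, Polynomial.eval_finsetSum]
    push_cast
    simp
  have key := Groth.Agent.S13055.result (CohB1.ProjSpace.toSpec n k) P hP
  rw [hdeg] at key
  have h1 : ∀ i ∈ Finset.range (n + 1), (P.coeff i).toNat = 1 := by
    intro i hi
    rw [hcoeff, if_pos (Nat.lt_succ_iff.mp (Finset.mem_range.mp hi))]
    rfl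
  have h2 : ∀ i ∈ Finset.range (n + 1), (-P.coeff i).toNat = 0 := by
    intro i hi
    rw [hcoeff, if_pos (Nat.lt_succ_iff.mp (Finset.mem_range.mp hi))]
    rfl
  have e1 : ∏ i ∈ Finset.range (n + 1),
      (1 - PowerSeries.C ((Nat.card k : ℚ) ^ i) * PowerSeries.X) ^ (P.coeff i).toNat =
      ∏ i ∈ Finset.range (n + 1), (1 - PowerSeries.C ((Nat.card k : ℚ) ^ i) * PowerSeries.X) :=
    Finset.prod_congr rfl (fun i hi => by rw [h1 i hi, pow_one])
  have e2 : ∏ i ∈ Finset.range (n + 1),
      (1 - PowerSeries.C ((Nat.card k : ℚ) ^ i) * PowerSeries.X) ^ (-P.coeff i).toNat = 1 := by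
    rw [Finset.prod_congr rfl (fun i hi => by rw [h2 i hi, pow_zero]), Finset.prod_const_one]
  rw [e1, e2] at key
  exact key

end Groth.Agent.S13053
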