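import Groth.Statements.S13070
import Groth.Agent.Lib.H6xPointCountZ2

set_option autoImplicit false
universe u
open CategoryTheory AlgebraicGeometry
open Zeta

namespace Groth.Agent.S13070

/-- For an arithmetic scheme X (of finite type over ℤ) of dimension r there are c_X > 0 and p₀ such that
#X(F_{p^m}) ≤ c_X p^{m(r−1)} for all primes p ≥ p₀ and m ≥ 1, and #X(F_{p^m}) ≤ c_X p^{mr} for p <
p₀ and m ≥ 1. Here #X(F) is the number of morphisms Spec F → X, and the dimension is only assumed ≤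
r. -/
theorem result {X : Scheme.{u}}
    (f : X ⟶ Spec (CommRingCat.of (ULift.{u} ℤ))) [LocallyOfFiniteType f] [QuasiCompact f] (r : ℕ)
    (hr : topologicalKrullDim X ≤ r) :
    ∃ (c : ℝ) (p₀ : ℕ), 0 < c ∧ ∀ (p m : ℕ), p.Prime → 1 ≤ m →
      ∀ (F : Type u) [Field F], Nat.card F = p ^ m →
        (p₀ ≤ p → (Nat.card (Spec (CommRingCat.of F) ⟶ X) : ℝ) ≤
            c * (p : ℝ) ^ ((m : ℝ) * ((r : ℝ) - 1))) ∧
        (p < p₀ → (Nat.card (Spec (CommRingCat.of F) ⟶ X) : ℝ) ≤ c * (p : ℝ) ^ ((m : ℝ) * r)) := by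
  obtain ⟨C, p₀, hC⟩ := Groth.Agent.Lib.H6xPointCountZ.main f r hr
  refine ⟨(C : ℝ) + 1, p₀, by positivity, fun p m hp hm F _ hF => ?_⟩
  obtain ⟨hfin, h1, h2⟩ := hC p m hp hm F hF
  have hp0 : (0 : ℝ) < p := by exact_mod_cast hp.pos
  have hpm : (0 : ℝ) < (p : ℝ) ^ m := pow_pos hp0 m
  have hpmr : (0 : ℝ) < (p : ℝ) ^ (m * r) := pow_pos hp0 _
  constructor
  · intro hp₀
    have h3 := h1 hp₀
    have h4 : ((Nat.card (Spec (CommRingCat.of F) ⟶ X) : ℝ)) * (p : ℝ) ^ m ≤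
        (C : ℝ) * (p : ℝ) ^ (m * r) := by exact_mod_cast h3
    have h5 : (p : ℝ) ^ ((m : ℝ) * ((r : ℝ) - 1)) = (p : ℝ) ^ (m * r) / (p : ℝ) ^ m := by
      rw [mul_sub, mul_one, Real.rpow_sub hp0, ← Nat.cast_mul, Real.rpow_natCast,
        Real.rpow_natCast]
    rw [h5]
    calc ((Nat.card (Spec (CommRingCat.of F) ⟶ X) : ℝ))
        = (Nat.card (Spec (CommRingCat.of F) ⟶ X) : ℝ) * (p : ℝ) ^ m / (p : ℝ) ^ m := by
          field_simp
      _ ≤ (C : ℝ) * (p : ℝ) ^ (m * r) / (p : ℝ) ^ m := div_le_div_of_nonneg_right h4 hpm.le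
      _ = (C : ℝ) * ((p : ℝ) ^ (m * r) / (p : ℝ) ^ m) := mul_div_assoc _ _ _
      _ ≤ ((C : ℝ) + 1) * ((p : ℝ) ^ (m * r) / (p : ℝ) ^ m) := by
          apply mul_le_mul_of_nonneg_right (by linarith) (div_pos hpmr hpm).le
  · intro _
    have h4 : ((Nat.card (Spec (CommRingCat.of F) ⟶ X) : ℝ)) ≤ (C : ℝ) * (p : ℝ) ^ (m * r) := by
      exact_mod_cast h2
    have h5 : (p : ℝ) ^ ((m : ℝ) * (r : ℝ)) = (p : ℝ) ^ (m * r) := by
      rw [← Nat.cast_mul, Real.rpow_natCast]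
    rw [h5]
    calc ((Nat.card (Spec (CommRingCat.of F) ⟶ X) : ℝ)) ≤ (C : ℝ) * (p : ℝ) ^ (m * r) := h4
      _ ≤ ((C : ℝ) + 1) * (p : ℝ) ^ (m * r) :=
          mul_le_mul_of_nonneg_right (by linarith) hpmr.le

end Groth.Agent.S13070
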