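import Groth.Statements.S13104
import Groth.Agent.Lib.H6xEpiSpec

set_option autoImplicit false
universe u
open GrpSch

namespace Groth.Agent.S13104

open CategoryTheory AlgebraicGeometry in
/-- Let B be a commutative ring, B[ε] the ring of dual numbers (ε² = 0) and B[α, β]/(α², β²) the double
dual numbers, realised as dual numbers over the dual numbers with α the inner and β the outer
generator, and let ψ : B[ε] → B[α, β]/(α², β²) be the B-algebra homomorphism with ψ(ε) = αβ. Then
for every scheme G the map u ↦ Spec(ψ) ≫ u from morphisms Spec B[ε] → G to morphisms Spec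
B[α,β]/(α²,β²) → G is injective. (The printed statement is its consequence for a group scheme G: the
map Lie(G)(B) → G(B[α,β]/(α²,β²)), x ↦ exp(αβ x), is injective; the injectivity on all B[ε]-points
stated here is what the printed argument establishes.) -/
theorem result (B : Type u) [CommRing B]
    (ψ : DualNumber B →+* DualNumber (DualNumber B))
    (hψB : ∀ b : B, ψ (algebraMap B (DualNumber B) b) = algebraMap B (DualNumber (DualNumber B)) b)
    (hψ : ψ DualNumber.eps = algebraMap (DualNumber B) (DualNumber (DualNumber B)) DualNumber.eps * DualNumber.eps)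
    (G : Scheme.{u}) :
    Function.Injective (fun u : Spec (CommRingCat.of (DualNumber B)) ⟶ G =>
      Spec.map (CommRingCat.ofHom (R := DualNumber B) (S := DualNumber (DualNumber B)) ψ) ≫ u) := by
  classical
  have h1 : ∀ z : B, algebraMap B (DualNumber (DualNumber B)) z =
      TrivSqZeroExt.inl (TrivSqZeroExt.inl z) := by
    intro z
    rw [IsScalarTower.algebraMap_apply B (DualNumber B) (DualNumber (DualNumber B))]
    rfl
  -- explicit formula for `ψ`
  have hform : ∀ r : DualNumber B, ψ r =
      TrivSqZeroExt.inl (TrivSqZeroExt.inl r.fst) + TrivSqZeroExt.inr (TrivSqZeroExt.inr r.snd) := by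
    intro r
    have hr : r = algebraMap B (DualNumber B) r.fst +
        algebraMap B (DualNumber B) r.snd * DualNumber.eps := by
      ext
      · simp [TrivSqZeroExt.algebraMap_eq_inl]
      · simp [TrivSqZeroExt.algebraMap_eq_inl]
    conv_lhs => rw [hr]
    rw [map_add, map_mul, hψB, hψB, hψ, h1, h1]
    ext
    · simp [TrivSqZeroExt.algebraMap_eq_inl]
    · simp [TrivSqZeroExt.algebraMap_eq_inl]
    · simp [TrivSqZeroExt.algebraMap_eq_inl]
    · simp [TrivSqZeroExt.algebraMap_eq_inl]
  have hinj : Function.Injective ψ := by
    intro r r' h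
    rw [hform, hform] at h
    have e1 := congrArg (fun z => z.fst.fst) h
    have e2 := congrArg (fun z => z.snd.snd) h
    simp at e1 e2
    ext
    · exact e1
    · exact e2
  have hnil : ∀ t : DualNumber (DualNumber B), ∃ r : DualNumber B, IsNilpotent (t - ψ r) := by
    intro t
    refine ⟨TrivSqZeroExt.inl t.fst.fst, 3, ?_⟩
    rw [hform]
    ext
    · simp [pow_succ]
    · simp [pow_succ]
    · simp [pow_succ]
    · simp [pow_succ]
  have hepi := Groth.Agent.Lib.H6xEpiSpec.epi_specMap (R := DualNumber B) (S := DualNumber (DualNumber B)) ψ hinj hnil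
  intro u v huv
  exact (cancel_epi _).mp huv

end Groth.Agent.S13104
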