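import Groth.Statements.S13115
import Mathlib

set_option autoImplicit false
universe u
open scoped TensorProduct
open HilbChow

namespace Groth.Agent.S13115

/-- two functions on a finite type with the same fibre cardinalities differ by a permutation -/
theorem exists_perm_of_card_fibre_eq {m : ℕ} {I : Type*} [DecidableEq I] (p p' : Fin m → I)
    (h : ∀ j, Fintype.card {l // p' l = j} = Fintype.card {l // p l = j}) :
    ∃ σ : Equiv.Perm (Fin m), ∀ l, p (σ l) = p' l := by
  let e : ∀ j, {l // p' l = j} ≃ {l // p l = j} := fun j => Fintype.equivOfCardEq (h j)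
  refine ⟨(Equiv.sigmaFiberEquiv p').symm.trans
    ((Equiv.sigmaCongrRight e).trans (Equiv.sigmaFiberEquiv p)), ?_⟩
  intro l
  exact ((e (p' l)) ⟨l, rfl⟩).2

/-- Let k be an infinite field, V a k-vector space and m a natural number. Then every symmetric tensor
in the m-fold tensor power of V — one fixed by every permutation of the factors — is a k-linear
combination of pure powers v ⊗ ⋯ ⊗ v with v in V. (The published statement concerns the ring of
functions of an affine scheme over an infinite field, where it gives the uniqueness of the algebra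
map defining the Hilbert-to-Chow morphism for zero-cycles; this row states it for any vector space.) -/
theorem result
    (k V : Type u) [Field k] [Infinite k] [AddCommGroup V] [Module k V] (m : ℕ)
    (x : ⨂[k] _ : Fin m, V)
    (hx : ∀ σ : Equiv.Perm (Fin m), PiTensorProduct.reindex k (fun _ : Fin m => V) σ x = x) :
    x ∈ Submodule.span k (Set.range fun v : V => PiTensorProduct.tprod k (fun _ : Fin m => v)) := by
  classical
  by_contra hxW
  obtain ⟨φ, hφx, hφW⟩ := Submodule.exists_le_ker_of_notMem hxW
  -- a basis of `V` and of the tensor power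
  let I := Module.Free.ChooseBasisIndex k V
  let b : Module.Basis I k V := Module.Free.chooseBasis k V
  let B : Module.Basis (Fin m → I) k (⨂[k] _ : Fin m, V) :=
    Basis.piTensorProduct (fun _ : Fin m => b)
  have hB : ∀ p, B p = PiTensorProduct.tprod k (fun l => b (p l)) := fun p =>
    Basis.piTensorProduct_apply _ p
  let c := B.repr x
  -- symmetry of the coefficients
  have hc : ∀ (σ : Equiv.Perm (Fin m)) (p : Fin m → I), c (p ∘ σ) = c p := by
    intro σ p
    have hlin : B.repr.toLinearMap ∘ₗ (PiTensorProduct.reindex k (fun _ : Fin m => V) σ).toLinearMap =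
        (Finsupp.lmapDomain k k (fun q : Fin m → I => q ∘ σ.symm)) ∘ₗ B.repr.toLinearMap := by
      apply B.ext
      intro q
      simp only [LinearMap.coe_comp, LinearEquiv.coe_coe, Function.comp_apply, Module.Basis.repr_self,
        Finsupp.lmapDomain_apply, Finsupp.mapDomain_single]
      rw [hB, PiTensorProduct.reindex_tprod, ← Module.Basis.repr_self B, hB]
      rfl
    have h1 := congrArg (fun f => f x) hlin
    simp only [LinearMap.coe_comp, LinearEquiv.coe_coe, Function.comp_apply, hx σ,
      Finsupp.lmapDomain_apply] at h1
    have hinj : Function.Injective (fun q : Fin m → I => q ∘ σ.symm) := by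
      intro q q' hqq'
      funext l
      have := congrFun hqq' (σ l)
      simpa using this
    have h2 := Finsupp.mapDomain_apply hinj c (p ∘ σ)
    rw [← h1] at h2
    rw [← h2]
    congr 1
    funext l
    simp
  -- types
  let ty : (Fin m → I) → (I →₀ ℕ) := fun p => ∑ l, Finsupp.single (p l) 1
  have hty : ∀ p p', ty p = ty p' → c p = c p' := by
    intro p p' h
    have hcard : ∀ q : Fin m → I, ∀ j, ty q j = Fintype.card {l // q l = j} := by
      intro q j
      show (∑ l, Finsupp.single (q l) 1) j = _
      rw [Finsupp.finsetSum_apply, Fintype.card_subtype]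
      simp only [Finsupp.single_apply]
      rw [Finset.card_filter]
    obtain ⟨σ, hσ⟩ := exists_perm_of_card_fibre_eq p p' (fun j => by
      rw [← hcard, ← hcard, h])
    have : p' = p ∘ σ := funext fun l => (hσ l).symm
    rw [this, hc]
  let d : (I →₀ ℕ) → k := fun α => if h : ∃ p, ty p = α then c h.choose else 0
  have hd : ∀ p, d (ty p) = c p := by
    intro p
    have h : ∃ q, ty q = ty p := ⟨p, rfl⟩
    show (if h : ∃ q, ty q = ty p then c h.choose else 0) = c p
    rw [dif_pos h]
    exact hty _ _ h.choose_spec
  -- the finite index set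
  let J : Finset I := c.support.biUnion (fun p => Finset.univ.image p)
  let S : Finset (Fin m → I) := Fintype.piFinset (fun _ : Fin m => J)
  have hsupp : c.support ⊆ S := by
    intro p hp
    rw [Fintype.mem_piFinset]
    intro l
    exact Finset.mem_biUnion.mpr ⟨p, hp, Finset.mem_image.mpr ⟨l, Finset.mem_univ _, rfl⟩⟩
  -- the polynomial
  let P : MvPolynomial I k := ∑ p ∈ S, φ (B p) • ∏ l, MvPolynomial.X (p l)
  have hP : P = 0 := by
    apply MvPolynomial.funext
    intro a
    rw [map_zero]
    have h1 : MvPolynomial.eval a P = ∑ p ∈ S, φ (B p) * ∏ l, a (p l) := by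
      simp only [P, map_sum, MvPolynomial.smul_eval, map_prod, MvPolynomial.eval_X]
    have h2 : φ (PiTensorProduct.tprod k (fun _ : Fin m => ∑ j ∈ J, a j • b j)) =
        ∑ p ∈ S, φ (B p) * ∏ l, a (p l) := by
      rw [MultilinearMap.map_sum_finset (PiTensorProduct.tprod k)
        (A := fun _ : Fin m => J) (g := fun _ j => a j • b j), map_sum]
      refine Finset.sum_congr rfl fun p _ => ?_
      rw [MultilinearMap.map_smul_univ, map_smul, hB, smul_eq_mul, mul_comm]
    rw [h1, ← h2]
    exact hφW (Submodule.subset_span ⟨_, rfl⟩)
  -- evaluate the functional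
  let Λ : MvPolynomial I k →ₗ[k] k := (MvPolynomial.basisMonomials I k).constr k d
  have hΛ : Λ P = φ x := by
    have hmon : ∀ p : Fin m → I, (∏ l, MvPolynomial.X (p l) : MvPolynomial I k) =
        MvPolynomial.monomial (ty p) 1 := by
      intro p
      show _ = MvPolynomial.monomial (∑ l, Finsupp.single (p l) 1) 1
      rw [MvPolynomial.monomial_sum_one]
      rfl
    have h1 : Λ P = ∑ p ∈ S, φ (B p) * c p := by
      simp only [P, map_sum, map_smul, smul_eq_mul]
      refine Finset.sum_congr rfl fun p _ => ?_
      rw [hmon]
      have : (MvPolynomial.monomial (ty p) 1 : MvPolynomial I k) =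
          MvPolynomial.basisMonomials I k (ty p) := by
        rw [MvPolynomial.coe_basisMonomials]
      rw [this]
      show φ (B p) * (MvPolynomial.basisMonomials I k).constr k d
        (MvPolynomial.basisMonomials I k (ty p)) = _
      rw [Module.Basis.constr_basis, hd]
    have h2 : φ x = ∑ p ∈ S, φ (B p) * c p := by
      conv_lhs => rw [← B.linearCombination_repr x]
      rw [Finsupp.linearCombination_apply, Finsupp.sum, map_sum]
      rw [Finset.sum_subset hsupp]
      · refine Finset.sum_congr rfl fun p _ => ?_
        rw [map_smul, smul_eq_mul, mul_comm]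
      · intro p _ hp
        rw [Finsupp.notMem_support_iff.mp hp, zero_smul, map_zero]
    rw [h1, h2]
  rw [hP, map_zero] at hΛ
  exact hφx hΛ.symm

end Groth.Agent.S13115
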