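import Groth.Statements.S13434
import Mathlib
import Groth.Agent.Lib.R2H7TgtDecomp

set_option autoImplicit false
universe u
open W4c1hilbpn

namespace Groth.Agent.S13434

open W4c1hilbpn in
/-- Let k be an infinite field, n ≥ 2, S the polynomial ring over k in n variables, I a monomial ideal
of S of finite colength and T(I) = Hom_S(I, S/I) with its grading by integer vectors. The graded
piece of T(I) in every multidegree all of whose entries are nonnegative, or all of whose entries are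
negative, vanishes, and T(I) is spanned by its pieces of non-constant sign pattern (the spans, over
the sets N of variable indices that are neither empty nor all indices, of the graded pieces whose
multidegree is negative exactly at N). -/
theorem result (k : Type u) [Field k] [Infinite k]
    (n : ℕ) (hn : 2 ≤ n) (I : Ideal (MvPolynomial (Fin n) k)) (hI : IsMonomial I)
    [Module.Finite k (MvPolynomial (Fin n) k ⧸ I)] :
    (∀ α : Fin n → ℤ, ((∀ i, 0 ≤ α i) ∨ (∀ i, α i < 0)) → tPiece I α = ⊥) ∧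
      (⨆ N : {N : Set (Fin n) // N.Nonempty ∧ N ≠ Set.univ}, sigPiece I N.1) = ⊤ := by
  have hσ : (⟨0, by omega⟩ : Fin n) ≠ ⟨1, by omega⟩ := by simp [Fin.ext_iff]
  have h1 : ∀ α : Fin n → ℤ, ((∀ i, 0 ≤ α i) ∨ (∀ i, α i < 0)) → tPiece I α = ⊥ := by
    rintro α (h | h)
    · exact Groth.Agent.Lib.R2H7.TgtDecomp.tPiece_eq_bot_of_nonneg hI α h
    · exact Groth.Agent.Lib.R2H7.TgtDecomp.tPiece_eq_bot_of_neg hI α h _ _ hσ
  refine ⟨h1, ?_⟩
  rw [eq_top_iff, ← Groth.Agent.Lib.R2H7.TgtDecomp.iSup_tPiece_eq_top hI]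
  apply iSup_le
  intro α
  by_cases hc : (∀ i, 0 ≤ α i) ∨ (∀ i, α i < 0)
  · rw [h1 α hc]; exact bot_le
  · push Not at hc
    obtain ⟨⟨i, hi⟩, ⟨j, hj⟩⟩ := hc
    obtain ⟨N, hNdef⟩ : ∃ N : Set (Fin n), N = {i | α i < 0} := ⟨_, rfl⟩
    have hmemN : ∀ l, α l < 0 ↔ l ∈ N := fun l => by rw [hNdef]; exact Iff.rfl
    have hN : N.Nonempty ∧ N ≠ Set.univ := by
      refine ⟨⟨i, (hmemN i).mp hi⟩, fun h => ?_⟩
      have hjN : j ∈ N := h ▸ Set.mem_univ j
      exact absurd ((hmemN j).mpr hjN) (not_lt.mpr hj)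
    refine le_trans ?_ (le_iSup (fun N : {N : Set (Fin n) // N.Nonempty ∧ N ≠ Set.univ} => sigPiece I N.1) ⟨N, hN⟩)
    exact le_iSup (fun a : {a : Fin n → ℤ // ∀ l, a l < 0 ↔ l ∈ N} => tPiece I a.1) ⟨α, hmemN⟩

end Groth.Agent.S13434
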