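import Groth.Statements.S13550
import Groth.Agent.S13564
import Groth.Agent.Lib.H6xRHb
import Groth.Agent.Lib.H6xPCevE
import Groth.Agent.Lib.H6xPFD
import Groth.Agent.Lib.H6xUncB
import Groth.Agent.Lib.Helper1TorDim

set_option autoImplicit false
universe u
open CategoryTheory
attribute [local instance] HasDerivedCategory.standard
open Dual2

namespace Groth.Agent.S13550

/-- Let R → A and R → R' be ring maps and A' = A ⊗_R R', with A pseudo-coherent as an R-module, R' of
finite tor dimension as an R-module, and A, R' tor independent over R (Tor_p^R(A, R') = 0 for p ≥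
1). The derived base-change functors − ⊗^L_R R' and − ⊗^L_A A' (left adjoint to restriction) and the
trivial-duality functors R Hom(A, −) : D(R) ⥤ D(A), R Hom(A', −) : D(R') ⥤ D(A') (right adjoint to
restriction) are given as adjunction data. Then for every K in D^+(R) (K in D^{≥ n} for some integer
n), and every proof that the comparison map (K|_R) ⊗^L_R R' → (K ⊗^L_A A')|_{R'} at R Hom(A, K) is
an isomorphism, the base-change map of trivial duality R Hom(A, K) ⊗^L_A A' → R Hom(A', K ⊗^L_R R')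
is an isomorphism. -/
theorem result (R A R' A' : Type u) [CommRing R] [CommRing A] [CommRing R'] [CommRing A']
    [Algebra R A] [Algebra R R'] [Algebra A A'] [Algebra R' A'] [Algebra R A'] [IsScalarTower R A A'] [IsScalarTower R R' A']
    [Algebra.IsPushout R A R' A']
    (hpc : DRing.IsPseudoCoherentModule' R A)
    (hfd : DRing.HasFiniteTorDim R R')
    (htor : ∀ p : ℕ, 1 ≤ p → Subsingleton (DRing.Tor R p A R'))
    [DRing.HasLBaseChange (algebraMap R R')] [DRing.HasLBaseChange (algebraMap A A')]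
    (adjρ : DRing.LBaseChange (algebraMap R R') ⊣ DRing.restrictD (algebraMap R R'))
    (adjα : DRing.LBaseChange (algebraMap A A') ⊣ DRing.restrictD (algebraMap A A'))
    (h : (algebraMap A A').comp (algebraMap R A) = (algebraMap R' A').comp (algebraMap R R'))
    (Rφ : Dual.D R ⥤ Dual.D A) (adj : DRing.restrictD (algebraMap R A) ⊣ Rφ)
    (Rφ' : Dual.D R' ⥤ Dual.D A') (adj' : DRing.restrictD (algebraMap R' A') ⊣ Rφ')
    (K : Dual.D R) (n : ℤ) [K.IsGE n] (hc : IsIso (TrivBC.cmp adjρ adjα h (Rφ.obj K))) :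
    IsIso (TrivBC.bcMap adjρ adjα h adj adj' K hc) := by
  haveI : DTen.HasLTen R := Groth.Agent.Lib.H6xUnc.hasLTen R
  haveI : DTen.HasLTen₃ R := Groth.Agent.Lib.H6xUnc.hasLTen₃ R
  haveI : DTen.IsSymMonoidal R := Groth.Agent.Lib.H6xUnc.isSymMonoidal R
  haveI : DTen.HasRHom R := Groth.Agent.Lib.H6xRH.hasRHom
  obtain ⟨d, hd⟩ := hfd
  have hN : DRing.HasTorAmplitudeIn R (-(d : ℤ)) 0 (Groth.Agent.Lib.H6xPF.NN (algebraMap R R')) := by
    obtain ⟨E, hE, hEf, ⟨e⟩⟩ := (Groth.Agent.Lib.Helper1.TorDim.hasTorDimLE_iff_hasTorAmp R' d).1 hd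
    exact ⟨E, hE, hEf, ⟨e ≪≫ (Groth.Agent.Lib.H6xPF.NNIsoInD R R').symm⟩⟩
  have hB : DRing.IsPseudoCoherent' R (Groth.Agent.Lib.H6xPF.NN (algebraMap R A)) := by
    obtain ⟨E, b, hb, hE, ⟨e⟩⟩ := hpc
    exact ⟨E, b, hb, hE, ⟨e ≪≫ (Groth.Agent.Lib.H6xPF.NNIsoInD R A).symm⟩⟩
  refine (Groth.Agent.S13564.result R A R' A' htor adjρ adjα h Rφ adj Rφ' adj' K hc).2 ?_
  exact Groth.Agent.Lib.H6xPCev.isIso_evalTen_of_isPseudoCoherent _ K _ hN n inferInstance hB

end Groth.Agent.S13550
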