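import Groth.Statements.S13589
import Groth.Agent.Lib.H6xPtD
import Groth.Agent.Lib.H6xPtF
import Groth.Agent.Lib.H6xPtG
import Groth.Agent.Lib.H6xUncB
import Groth.Agent.Lib.H6xRHb
import Groth.Agent.Lib.H6xBidL
import Groth.Agent.Lib.H6xLDD

set_option autoImplicit false
universe u
open CategoryTheory CategoryTheory.Limits MonoidalCategory
attribute [local instance] HasDerivedCategory.standard
open DTen

namespace Groth.Agent.S13589

/-- Let `A` be a Noetherian commutative ring and `F` an `A`-linear triangulated equivalence from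
`D^b_{Coh}(A)` (the full subcategory of `D(A)` of objects with bounded cohomology consisting of
finite `A`-modules, a triangulated subcategory) to itself. Then `F(A)` is an invertible object of
`D(A)`: there is an object `L` with `F(A) ⊗^L L ≅ A` and `L ⊗^L F(A) ≅ A`. The membership of `A[0]`
in `D^b_{Coh}(A)` and the fact that this subcategory is triangulated are taken as (true) hypotheses.
(The published statement asks only for an `A`-linear equivalence of categories; this row takes the
equivalence compatible with shifts and distinguished triangles, which is what the published proof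
uses and how the result is applied.) -/
theorem result (A : Type u) [CommRing A]
    [IsNoetherianRing A] [DTen.HasLTen A] [DTen.KFlatComputes A]
    (P : ObjectProperty (Dual.D A))
    (hP : ∀ K : Dual.D A, P K ↔
      ((∀ i : ℤ, Module.Finite A (Dual.HD A K i)) ∧ ∃ a b : ℤ, ∀ i : ℤ, (i < a ∨ b < i) → Subsingleton (Dual.HD A K i)))
    [P.IsTriangulated]
    (F : P.FullSubcategory ⥤ P.FullSubcategory) [F.CommShift ℤ] [F.IsTriangulated] [F.IsEquivalence]
    [F.Additive] [F.Linear A]
    (hA : P (DTen.unit A)) :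
    DTen.IsInvertible A (F.obj ⟨DTen.unit A, hA⟩).obj := by
  haveI : DTen.HasLTen₃ A := Groth.Agent.Lib.H6xUnc.hasLTen₃ _
  haveI : DTen.IsSymMonoidal A := Groth.Agent.Lib.H6xUnc.isSymMonoidal _
  haveI : DTen.HasRHom A := Groth.Agent.Lib.H6xRH.hasRHom
  let U : P.FullSubcategory := ⟨DTen.unit A, hA⟩
  let eU : U.obj ≅ Dual.inD A A := Groth.Agent.Lib.H6xPCev.unitIsoInD
  obtain ⟨hfin, hbdd⟩ := (hP (F.obj U).obj).1 (F.obj U).property
  have hperf : DRing.IsPerfect A (F.obj U).obj :=
    Groth.Agent.Lib.H6xPt.isPerfect_of_hom_residue (F.obj U).obj hfin hbdd (fun m _ => by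
      obtain ⟨j, hj1, ⟨l⟩⟩ := Groth.Agent.Lib.H6xPt.exists_degree_hom_residue P hP F U eU m
      refine ⟨j, hj1, ?_⟩
      haveI : Nontrivial (A ⧸ m) := Ideal.Quotient.nontrivial_iff.2 (Ideal.IsMaximal.ne_top ‹_›)
      exact l.toEquiv.nontrivial)
  have key : ∀ i : ℤ, Nonempty (((F.obj U).obj ⟶ (F.obj U).obj⟦i⟧) ≃ₗ[A]
      Dual.HD A (Dual.inD A A) i) := fun i => by
    obtain ⟨l⟩ := Groth.Agent.Lib.H6xBid.nonempty_hom_linearEquiv_HD (Dual.inD A A) i
    exact ⟨(Groth.Agent.Lib.H6xPt.homEquivOfEquivalence P F U U i).symm ≪≫ₗ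
      Linear.homCongr A eU ((shiftFunctor (Dual.D A) i).mapIso eU) ≪≫ₗ l⟩
  obtain ⟨l0⟩ := key 0
  refine Groth.Agent.Lib.H6xPt.isInvertible_of_isPerfect_of_end (F.obj U).obj hperf ?_
    (l0 ≪≫ₗ Groth.Agent.Lib.H6xLD.HDInDZeroEquiv (A := A) A)
  intro i hi
  obtain ⟨l⟩ := key i
  haveI := Groth.Agent.Lib.H6xLD.subsingleton_HD_inD (A := A) A i hi
  exact l.toEquiv.subsingleton

end Groth.Agent.S13589
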