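import Groth.Statements.S13626
import Mathlib
import Groth.Agent.Lib.R2H3PushEdge
import Groth.Agent.Lib.R2H1ProjLF
import Groth.Agent.Lib.R2H2BridgeL
import Groth.Agent.Lib.R2H4TensorPows
import Groth.Agent.Lib.Helper18PBUnit2

set_option autoImplicit false
universe u
open CategoryTheory CategoryTheory.Limits AlgebraicGeometry
open Coh

namespace Groth.Agent.S13626

/-- Let f : X → Y be a morphism of schemes with R^i f_* O_X = 0 for every i ≥ 1 and f_* O_X ≅ O_Y. Then
for every invertible O_Y-module L and every p ≥ 0 the groups H^p(X, f^* L) and H^p(Y, L) are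
isomorphic (existence of a group isomorphism; the higher direct images are the right derived
functors of f_* on O_X-modules, under the instance argument recording that O_X-modules have
injective resolutions). -/
theorem result
    {X Y : Scheme.{u}} (f : X ⟶ Y) [HasInjectiveResolutions X.Modules]
    (hR : ∀ i : ℕ, IsZero ((Coh.Rpush f (i + 1)).obj (Coh.structureModule X)))
    (h0 : Nonempty ((Coh.push f).obj (Coh.structureModule X) ≅ Coh.structureModule Y))
    (L : Y.Modules) (hL : PicF.IsInvertible L) (p : ℕ) :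
    Nonempty (Coh.HH X ((Scheme.Modules.pullback f).obj L) p ≃+ Coh.HH Y L p) := by
  classical
  have hLf : FlatMod.IsFinLocFree L :=
    Groth.Agent.Helper18PBUnit.isFinLocFree_of_isInvertible hL
  obtain ⟨e00⟩ := h0
  let G : X.Modules := (Scheme.Modules.pullback f).obj L
  let G' : X.Modules := (DCoh.tensorBi.obj G).obj (Coh.structureModule X)
  have eG : G' ≅ G := Groth.Agent.Lib.R2H4TensorPows.rUnit G
  have hv' : ∀ q : ℕ, 0 < q → Limits.IsZero ((Coh.Rpush f q).obj G') := by
    intro q hq
    obtain ⟨q, rfl⟩ : ∃ k, q = k + 1 := ⟨q - 1, by omega⟩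
    obtain ⟨e⟩ := Groth.Agent.Lib.R2H1.ProjLF.nonempty_projection_iso f
      (Coh.structureModule X) L hLf (q + 1)
    exact Limits.IsZero.of_iso ((DCoh.tensorBi.obj L).map_isZero (hR q)) e.symm
  have hv : ∀ q : ℕ, 0 < q → Limits.IsZero ((Coh.Rpush f q).obj G) := fun q hq =>
    Limits.IsZero.of_iso (hv' q hq) ((Coh.Rpush f q).mapIso eG.symm)
  obtain ⟨e0⟩ := Groth.Agent.Lib.R2H1.ProjLF.nonempty_projection_iso f
    (Coh.structureModule X) L hLf 0
  have i0 : (Scheme.Modules.pushforward f).rightDerived 0 ≅ Scheme.Modules.pushforward f :=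
    Functor.rightDerivedZeroIsoSelf _
  have ePush : (Scheme.Modules.pushforward f).obj G ≅ L :=
    (Scheme.Modules.pushforward f).mapIso eG.symm ≪≫ (i0.app G').symm ≪≫ e0.symm ≪≫
      (DCoh.tensorBi.obj L).mapIso (i0.app (Coh.structureModule X) ≪≫ e00) ≪≫
      Groth.Agent.Lib.R2H4TensorPows.rUnit L
  exact ⟨((AddEquiv.ofBijective _
    (Groth.Agent.Lib.R2H3.PushEdge.pushEdge_bijective f G hv p)).symm).trans
    (Groth.Agent.Lib.R2H2.BridgeL.HHEquiv ePush p)⟩

end Groth.Agent.S13626
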