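import Groth.Statements.S1367
import Groth.Agent.Lib.R2H3TopBCD

set_option autoImplicit false
universe u
open FlatMor

namespace Groth.Agent.S1367

open AlgebraicGeometry CategoryTheory Limits in
/-- Let f : X → Y be proper and y a point whose fibre has dimension at most 1 and satisfies H^1(X_y, O)
= 0. Then there is an open neighbourhood V of y such that R^1 f_* O_X vanishes on V, in the concrete
sense that H^1 of the structure sheaf vanishes on the preimage of every affine open of V, and the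
same holds for the base change of f along any morphism to V. -/
theorem result {X Y : Scheme.{u}} (f : X ⟶ Y) [IsProper f] (y : Y)
    (hdim : topologicalKrullDim ↑(f.fiber y) ≤ 1) (hH1 : Subsingleton (Coh.HH (f.fiber y) (Coh.structureModule (f.fiber y)) 1)) :
    ∃ V : Y.Opens, y ∈ V ∧ ∀ (Y' : Scheme.{u}) (g : Y' ⟶ (V : Scheme.{u})) (U : Y'.Opens), IsAffineOpen U →
      Subsingleton (Coh.HHon (pullback f (g ≫ V.ι)) (Coh.structureModule (pullback f (g ≫ V.ι))) (pullback.snd f (g ≫ V.ι) ⁻¹ᵁ U) 1) := by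
  have hd : topologicalKrullDim ↥(f.fiber y) ≤ ((1 : ℕ) : WithBot ℕ∞) := by
    rw [Nat.cast_one]; exact hdim
  have hy : y ∈ Groth.Agent.Lib.R2H3.FibDimLimD.goodLocus f 1 := hd
  obtain ⟨(V : Y.Opens), hV0, hyV, hVg⟩ :=
    (TopologicalSpace.Opens.isBasis_iff_nbhd.mp Y.isBasis_affineOpens) hy
  have hV : IsAffineOpen V := hV0
  have := Groth.Agent.Lib.R2H3.TopBCD.finite_MA f 1 hV hVg
  have h1 := (Groth.Agent.Lib.R2H3.TopBCD.fiber_iff f 1 hV hVg y hyV).mp hH1
  obtain ⟨s, hs1, hs2⟩ := Groth.Agent.Lib.R2H3.TopBCD.TV.exists_smul_eq_zero _ h1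
  refine ⟨Y.basicOpen s,
    Groth.Agent.Lib.R2H3.TopBCD.mem_basicOpen_of_psi_ne_zero hV y hyV s hs1, ?_⟩
  intro Y' g U hU
  have hle : Y.basicOpen s ≤ V := Y.basicOpen_le s
  have hrange : ∀ z : Y', (g ≫ (Y.basicOpen s).ι) z ∈ Y.basicOpen s := fun z => (g z).2
  have hUV : U ≤ (g ≫ (Y.basicOpen s).ι) ⁻¹ᵁ V := fun z _ => hle (hrange z)
  refine (Groth.Agent.Lib.R2H3.TopBCD.HHon_iff f 1 hV hVg (g ≫ (Y.basicOpen s).ι) U hU hUV).mpr ?_
  refine Groth.Agent.Lib.R2H3.TopBCD.TV.of_isUnit _ s ?_ hs2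
  apply Groth.Agent.Lib.R2H3.TopBCD.isUnit_psi_of_range_subset
  rintro _ ⟨z, rfl⟩
  exact hrange _

end Groth.Agent.S1367
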