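import Groth.Statements.S13692
import Groth.Agent.Lib.H6xH1Units

set_option autoImplicit false
universe u v w
open scoped TensorProduct
attribute [local instance] CSAGal.tensorAction GpH1.unitsAction
open GalCoh

namespace Groth.Agent.S13692

/-- Let K be a finite Galois extension of a field k with Galois group G = Aut_k(K), and A a
finite-dimensional associative unital k-algebra, not assumed simple or central. Then H¹(G, (K ⊗_k
A)ˣ) is trivial, G acting on K ⊗_k A through the first factor. (The published statement allows any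
Galois extension and reduces to the finite case by a direct limit; the finite case is stated.) -/
theorem result (k : Type u) [Field k] (K : Type v)
    [Field K] [Algebra k K] [FiniteDimensional k K] [IsGalois k K]
    (A : Type w) [Ring A] [Algebra k A] [FiniteDimensional k A] :
    GpH1.H1.IsTrivial (K ≃ₐ[k] K) (K ⊗[k] A)ˣ := by
  intro x
  obtain ⟨c, rfl⟩ := GpH1.OneCocycle.cl_surjective x
  unfold GpH1.H1.pt
  rw [GpH1.OneCocycle.cl_eq_cl_iff]
  have hsl : ∀ (σ : K ≃ₐ[k] K) (l : K) (b : K ⊗[k] A), σ • (l • b) = σ l • σ • b := by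
    intro σ l b
    rw [CSAGal.smul_eq_map, CSAGal.smul_eq_map, Algebra.smul_def, Algebra.smul_def, map_mul]
    congr 1
  have hc : ∀ σ τ : K ≃ₐ[k] K,
      ((c (σ * τ) : (K ⊗[k] A)ˣ) : K ⊗[k] A) =
        ((c σ : (K ⊗[k] A)ˣ) : K ⊗[k] A) * σ • ((c τ : (K ⊗[k] A)ˣ) : K ⊗[k] A) := by
    intro σ τ
    rw [c.2 σ τ, Units.val_mul]
    rfl
  have hc1 : ((c 1 : (K ⊗[k] A)ˣ) : K ⊗[k] A) = 1 := by
    have h := c.2 1 1
    rw [one_smul, mul_one] at h
    have h' : (c 1 : (K ⊗[k] A)ˣ) = 1 := by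
      have := congrArg (fun z => (c 1 : (K ⊗[k] A)ˣ)⁻¹ * z) h
      simp only [inv_mul_cancel, inv_mul_cancel_left] at this
      exact this.symm
    rw [h']
    rfl
  obtain ⟨m, hm, hmc⟩ := Groth.Agent.Lib.H6xH1Units.exists_isUnit_mul_smul_eq
    (k := k) (K := K) (B := K ⊗[k] A) hsl
    (a := fun σ => ((c σ : (K ⊗[k] A)ˣ) : K ⊗[k] A)) hc hc1
  refine ⟨(hm.unit)⁻¹, fun σ => ?_⟩
  have h1 : (c σ : (K ⊗[k] A)ˣ) * σ • hm.unit = hm.unit := by
    apply Units.ext
    rw [Units.val_mul]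
    exact hmc σ
  have h2 : (GpH1.OneCocycle.trivial : GpH1.OneCocycle (K ≃ₐ[k] K) (K ⊗[k] A)ˣ) σ = 1 := rfl
  rw [h2, inv_inv, mul_one, smul_inv', eq_mul_inv_iff_mul_eq]
  exact h1

end Groth.Agent.S13692
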