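import Groth.Statements.S13903
import Groth.Agent.Lib.H6xEtaleHoms

set_option autoImplicit false
universe u
open EtAlg

namespace Groth.Agent.S13903

open Groth.Agent.Lib.H6xEtaleHoms in
/-- Let K be a field and L a finite-dimensional reduced commutative K-algebra of dimension d all of
whose elements are separable over K, generated as a K-algebra by z and t. In any finite set of at
least d^(4d) elements of K there is an element c such that c • z + t generates L as a K-algebra.
(The published statement does not require separability; for K of characteristic p and L obtained by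
adjoining p-th roots of two independent indeterminates, L is a reduced finite K-algebra generated by
two elements with no single generator, so separability over K is assumed here, as the counting in
the published proof requires.) -/
theorem result (K L : Type u) [Field K] [CommRing L]
    [Algebra K L] [Module.Finite K L] [IsReduced L] [Algebra.IsSeparable K L] (z t : L)
    (hgen : Algebra.adjoin K ({z, t} : Set L) = ⊤) (S : Finset K)
    (hS : Module.finrank K L ^ (4 * Module.finrank K L) ≤ S.card) :
    ∃ c ∈ S, Algebra.adjoin K ({c • z + t} : Set L) = ⊤ := by
  classical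
  haveI : Algebra.FormallyEtale K L := formallyEtale_of_reduced_separable K L
  set d := Module.finrank K L with hd
  haveI : Finite (L →ₐ[K] AlgebraicClosure K) := inferInstance
  letI : Fintype (L →ₐ[K] AlgebraicClosure K) := Fintype.ofFinite _
  have hH : Fintype.card (L →ₐ[K] AlgebraicClosure K) = d := by
    rw [Fintype.card_eq_nat_card]; exact card_algHom_eq_finrank K L
  by_contra hcon
  push Not at hcon
  have hbad : ∀ c : S, ∃ p : (L →ₐ[K] AlgebraicClosure K) × (L →ₐ[K] AlgebraicClosure K),
      p.1 ≠ p.2 ∧ p.1 ((c : K) • z + t) = p.2 ((c : K) • z + t) := by
    rintro ⟨c, hc⟩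
    by_contra hno
    push Not at hno
    apply hcon c hc
    apply adjoin_eq_top_of_injective
    intro σ τ hστ
    by_contra hne
    exact hno (σ, τ) hne hστ
  choose f hf using hbad
  have hinj : Function.Injective f := by
    intro c c' hcc'
    obtain ⟨hne, heq⟩ := hf c
    obtain ⟨hne', heq'⟩ := hf c'
    rw [← hcc'] at heq'
    by_contra hcne'
    have hcne : (c : K) ≠ (c' : K) := fun h => hcne' (Subtype.ext h)
    have e1 : (c : K) • (f c).1 z + (f c).1 t = (c : K) • (f c).2 z + (f c).2 t := by
      simpa only [map_add, map_smul] using heq
    have e2 : (c' : K) • (f c).1 z + (f c).1 t = (c' : K) • (f c).2 z + (f c).2 t := by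
      simpa only [map_add, map_smul] using heq'
    have h0 : ((c : K) - (c' : K)) • ((f c).1 z - (f c).2 z) = 0 := by
      rw [sub_smul, smul_sub, smul_sub]
      linear_combination e1 - e2
    have hz : (f c).1 z = (f c).2 z := by
      rcases smul_eq_zero.mp h0 with h | h
      · exact absurd (sub_eq_zero.mp h) hcne
      · exact sub_eq_zero.mp h
    have ht : (f c).1 t = (f c).2 t := by
      rw [hz] at e1
      exact add_left_cancel e1
    apply hne
    apply AlgHom.ext_of_adjoin_eq_top hgen
    intro x hx
    rcases hx with rfl | rfl
    · exact hz
    · exact ht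
  have himg : (Finset.univ : Finset S).image f ⊆
      (Finset.univ : Finset (L →ₐ[K] AlgebraicClosure K)).offDiag := by
    intro p hp
    obtain ⟨c, hc, rfl⟩ := Finset.mem_image.mp hp
    rw [Finset.mem_offDiag]
    exact ⟨Finset.mem_univ _, Finset.mem_univ _, (hf c).1⟩
  have hcard : S.card ≤ d * d - d := by
    have h1 : S.card = ((Finset.univ : Finset S).image f).card := by
      rw [Finset.card_image_of_injective _ hinj, Finset.card_univ, Fintype.card_coe]
    rw [h1]
    refine (Finset.card_le_card himg).trans ?_
    rw [Finset.offDiag_card, Finset.card_univ, hH]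
  have hlt : d * d - d < d ^ (4 * d) := by
    rcases Nat.lt_or_ge d 2 with h | h
    · interval_cases d <;> simp
    · have h1 : d * d ≤ d ^ (4 * d) := by
        calc d * d = d ^ 2 := (sq d).symm
          _ ≤ d ^ (4 * d) := Nat.pow_le_pow_right (by omega) (by omega)
      have h2 : d * d - d < d * d := Nat.sub_lt (Nat.mul_pos (by omega) (by omega)) (by omega)
      omega
  omega

end Groth.Agent.S13903
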