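import Groth.Statements.S14065
import Groth.Agent.Lib.R2H1SerreNum

set_option autoImplicit false
universe u
open CategoryTheory CategoryTheory.Limits AlgebraicGeometry TopologicalSpace
open Curves

namespace Groth.Agent.S14065

/-- Let k be an algebraically closed field and C a smooth projective connected curve over k — an
integral scheme, proper and smooth over k, of dimension 1 — of genus g = dim_k H¹(C, O_C) with g ≥
2, and let T be the tangent module of C, a tensor inverse of the module of differentials Ω_{C/k}.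
Then dim_k H¹(C, T) = 3g − 3. (The published proof makes this computation, together with the
vanishing of H⁰(C, T), to find the dimension of the tangent space of the moduli stack of genus-g
curves at C; only the dimension of H¹(C, T) is stated here.) -/
theorem result (k : Type u) [Field k] [IsAlgClosed k]
    (C : Scheme.{u}) [C.Over (Spec (CommRingCat.of k))] [IsProper (C ↘ (Spec (CommRingCat.of k)))] [Smooth (C ↘ (Spec (CommRingCat.of k)))] [IsIntegral C]
    (hdim : topologicalKrullDim C = 1) (g : ℕ) (hg : Curv2.genus k C = g) (h2 : 2 ≤ g)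
    (T : C.Modules) (hT : ClSub.IsInverseOf T (Omega.sheaf (C ↘ (Spec (CommRingCat.of k))))) :
    Module.finrank k (Coh.HH C T 1) = 3 * g - 3 := by
  subst hg
  have hreg : ∀ x : C, IsRegularLocalRing (C.presheaf.stalk x) := fun x =>
    Groth.Agent.Lib.R2H1.RegPoint.isRegularLocalRing_stalk_of_mem_smoothLocus k C
      (C ↘ (Spec (CommRingCat.of k))) x (by
        rw [Scheme.Hom.smoothLocus_eq_top_iff.mpr inferInstance]
        trivial)
  haveI := Groth.Agent.Lib.R2H1.CurveEuler.isNoetherian_of_proper k C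
  have hΩ := Groth.Agent.Lib.R2H1.OmegaCurve.isInvertible_Om k C hdim hreg
  obtain ⟨e₀⟩ := hT
  have e : CohB1.tensorMod (Groth.Agent.Lib.R2H1.OmegaCurve.Om k C) T ≅
      Coh.structureModule C := Groth.Agent.Lib.R2H1.PicLaw.commI _ _ ≪≫ e₀
  have hTi : PicF.IsInvertible T :=
    Groth.Agent.Lib.R2H3.NegTwist.isInvertible_of_isInverseOf _ T ⟨e⟩
  obtain ⟨s1, -⟩ := Groth.Agent.Lib.R2H1.SerreNum.serre_numerics k C hdim hreg T
    (Groth.Agent.Lib.R2H1.OmegaCurve.Om k C) hTi hΩ e
  obtain ⟨-, -, dΩ⟩ := Groth.Agent.Lib.R2H1.OmegaDual.numerics_Om k C hdim hreg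
  have hΩΩ := Groth.Agent.Lib.Helper23.SecTw.isInvertible_tensorMod hΩ hΩ
  have d2 := Groth.Agent.Lib.R2H1.VBIndecTwo.deg_tensor_invertible k C hdim hΩ hΩ
  have r := Groth.Agent.Lib.R2H1.SerreNum.riemann_roch k C hdim hreg _ hΩΩ
  have h2z : (2 : ℤ) ≤ (Curv2.genus k C : ℤ) := by exact_mod_cast h2
  have hss := Groth.Agent.Lib.R2H1.NonSpecial.s1522 k C hdim _ hΩΩ (by rw [d2, dΩ]; omega)
  have h1 : Module.finrank k (Coh.HH C (CohB1.tensorMod (Groth.Agent.Lib.R2H1.OmegaCurve.Om k C)
      (Groth.Agent.Lib.R2H1.OmegaCurve.Om k C)) 1) = 0 := Module.finrank_zero_of_subsingleton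
  rw [s1]
  omega

end Groth.Agent.S14065
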