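import Groth.Statements.S14087
import Mathlib
import Groth.Agent.Lib.R2H7TruncSub
import Groth.Agent.S14091

set_option autoImplicit false
universe u
open ArSing

namespace Groth.Agent.S14087

open Polynomial in
/-- Over an algebraically closed field k, if B = k[t]/(t^n) with n ≥ 1 is flat over a k-subalgebra A ⊆ B
(a finite flat extension of pointed finite algebras with curvilinear top), then A is curvilinear
too: A is isomorphic as a k-algebra to k[t]/(t^m) for some m. -/
theorem result (k : Type u) [Field k] [IsAlgClosed k]
    (n : ℕ) (hn : 0 < n)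
    (A : Subalgebra k (Polynomial k ⧸ Ideal.span {(X : Polynomial k) ^ n}))
    [Module.Flat A (Polynomial k ⧸ Ideal.span {(X : Polynomial k) ^ n})] :
    ∃ m : ℕ, Nonempty (A ≃ₐ[k] (Polynomial k ⧸ Ideal.span {(X : Polynomial k) ^ m})) := by
  haveI := Groth.Agent.Lib.R2H7.TruncSub.isLocalRing_sub k n A hn
  have hfk : Module.Finite k (Polynomial k ⧸ Ideal.span {(Polynomial.X : Polynomial k) ^ n}) :=
    (Polynomial.monic_X_pow n).finite_quotient
  haveI : Module.Finite k A := inferInstance
  have hNk : IsNoetherian k A := inferInstance
  haveI : IsNoetherianRing A := isNoetherian_of_tower k hNk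
  have hprin := Groth.Agent.Lib.R2H7.TruncSub.maximalIdeal_isPrincipal k n A hn
  have hcurv := IsLocalRing.finrank_cotangentSpace_le_one_iff.mpr hprin
  exact ⟨Module.finrank k A, Groth.Agent.S14091.result k A hcurv⟩

end Groth.Agent.S14087
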