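import Groth.Statements.S6034
import Groth.Agent.Lib.R2H3LocDepthC

set_option linter.style.haveILetI false
set_option linter.unusedVariables false

set_option autoImplicit false
universe u
open CategoryTheory CategoryTheory.Limits TopologicalSpace AlgebraicGeometry
open LocCohZ

namespace Groth.Agent.S6034

/-- Let X be a locally Noetherian scheme, Y a closed subset with open complement U, M a coherent
O_X-module with underlying abelian sheaf F and n a natural number. Then ℋ^i_Y(F) = 0 for all i < n
if and only if depth M_x ≥ n for every x ∈ Y. -/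
theorem result (X : Scheme.{u}) [IsLocallyNoetherian X] (U : X.Opens)
    (M : X.Modules) (hM : Coh.IsCoh M) (n : ℕ) :
    (∀ i : ℕ, i < n → IsZero ((LocCohZ.HZsh (X := X.carrier) U i).obj (Coh.toAb M))) ↔
      ∀ x : X, x ∉ (U : Set X) →
        (n : ℕ∞) ≤ LocCoh.depth (X.presheaf.stalk x) (M.presheaf.stalk x) := by
  haveI : M.IsQuasicoherent := hM.1
  haveI : SheafOfModules.IsFiniteType (R := X.ringCatSheaf) M := hM.2
  constructor
  · intro h x hxU
    have h1 := (Groth.Agent.Lib.Helper16.LocCohShift.HZsh_isZero_iff_HZ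
      (X := X.carrier) (Coh.toAb M) U n).1 h
    obtain ⟨V, hV, hxV, -⟩ :=
      (Opens.isBasis_iff_nbhd.mp X.isBasis_affineOpens) (Opens.mem_top x)
    exact (Groth.Agent.Lib.R2H3.LocDepthC.subsingleton_HZ_iff_depth U M hV n).1
      (fun i hi => h1 V i hi) x hxV hxU
  · intro h
    refine Groth.Agent.Lib.R2H3.LocDepthA.HZsh_isZero_of_basis (X := X.carrier) (Coh.toAb M) U n
      (X.affineOpens : Set X.Opens) X.isBasis_affineOpens ?_
    intro V hV i hi
    exact (Groth.Agent.Lib.R2H3.LocDepthC.subsingleton_HZ_iff_depth U M hV n).2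
      (fun x _ hxU => h x hxU) i hi

end Groth.Agent.S6034
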