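import Groth.Statements.S14116
import Groth.Agent.S6034
import Groth.Agent.Lib.R2H3LocSectEdge
import Groth.Agent.Lib.Helper18FinFlat3
import Groth.Agent.Lib.Helper23FinTypeLocal
import Groth.Agent.Lib.Helper23FinType2
import Groth.Agent.Lib.Helper20LocFree
import Groth.Agent.Lib.Helper4DimFormulaAW
import Groth.Agent.Lib.Helper28DepthMore
import Groth.Agent.Lib.Helper28Normal

set_option linter.style.haveILetI false
set_option linter.unusedVariables false

set_option autoImplicit false
universe u
open CategoryTheory CategoryTheory.Limits AlgebraicGeometry Opposite TopologicalSpace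
open LocCohZ

namespace Groth.Agent.S14116

/-- Let X be a locally Noetherian scheme, U ⊆ X open with closed complement Y, d a natural number such
that the depth of O_X along Y is at least d (every local ring O_{X,y}, y ∈ Y, has depth at least d),
and M a finite locally free O_X-module. Then Γ(X, ℋ^d_Y(M)) is isomorphic to H^d_Y(X, M), where
ℋ^d_Y is the d-th right derived functor of the sheaf of sections with support in Y (applied to the
underlying abelian sheaf of M) and H^d_Y(X, M) is cohomology with support in Y. Existence of an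
additive isomorphism only; the published statement asserts a canonical functorial isomorphism that
is linear over the global functions Γ(X, O_X) (obtained in its proof as the edge map of the
local-to-global spectral sequence), and adds that U ↦ H^d_{Y∩U}(U, M), U ⊆ X open, is a sheaf; none
of this is part of this row. (The published statement assumes a flat morphism X → S with
Cohen–Macaulay fibres and relative codimension of Y at least d; these enter only through the depth
bound, which is the hypothesis of this row.) -/
theorem result (X : Scheme.{u}) [IsLocallyNoetherian X]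
    (U : X.Opens) (d : ℕ)
    (hdepth : ∀ x : ↥X, x ∉ (U : Set ↥X) → (d : ℕ∞) ≤ LocCoh.depth ↑(X.presheaf.stalk x) ↑(X.presheaf.stalk x))
    (M : X.Modules) (hM : FlatMod.IsFinLocFree M) :
    Nonempty (↑(((LocCohZ.HZsh (X := X.carrier) U d).obj (Coh.toAb M)).obj.obj (op ⊤)) ≃+ LocCohZ.HZM X M d U) := by
  -- local bases on affine opens
  have key : ∀ x : X, ∃ (W : X.Opens) (_ : IsAffineOpen W) (n : ℕ), x ∈ W ∧
      Nonempty (Module.Basis (Fin n) Γ(X, W) Γ(M, W)) := by
    intro x
    obtain ⟨V, n, hxV, ⟨e⟩⟩ := hM x
    obtain ⟨W, hW, hxW, hb⟩ :=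
      Groth.Agent.Helper18FinFlat.exists_affine_basis_of_restrict_iso_freeMod' M V.ι e ⟨x, hxV⟩
    exact ⟨W, hW, n, hxW, hb⟩
  -- quasi-coherence
  haveI hq : M.IsQuasicoherent := by
    choose V n hxV e using hM
    refine Groth.Agent.Lib.Helper23.FinType.isQuasicoherent_of_open_cover M V ?_ (fun x => ?_)
    · rw [TopologicalSpace.IsOpenCover, eq_top_iff]
      intro x _
      exact TopologicalSpace.Opens.mem_iSup.2 ⟨x, hxV x⟩
    · obtain ⟨e'⟩ := e x
      exact (SheafOfModules.isQuasicoherent ((V x : Scheme.{u}).ringCatSheaf)).prop_of_iso e'.symm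
        (Groth.Agent.Lib.Helper20.LocFree.isQuasicoherent_freeMod _ _)
  haveI hft : SheafOfModules.IsFiniteType (R := X.ringCatSheaf) M := by
    choose W hW n hxW hb using key
    refine Groth.Agent.Lib.Helper23.FinType.isFiniteType_of_finite M W ?_ hW (fun x => ?_)
    · rw [TopologicalSpace.IsOpenCover, eq_top_iff]
      intro x _
      exact TopologicalSpace.Opens.mem_iSup.2 ⟨x, hxW x⟩
    · obtain ⟨b⟩ := hb x
      exact Module.Finite.of_basis b
  have hcoh : Coh.IsCoh M := ⟨hq, hft⟩
  have hvan := (Groth.Agent.S6034.result X U M hcoh d).2 (fun x hxU => ?_)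
  · exact Groth.Agent.Lib.R2H3.LocSectEdge.nonempty_sections_equiv (X := X.carrier) U (Coh.toAb M) d hvan
  · obtain ⟨W, hW, n, hxW, ⟨b⟩⟩ := key x
    haveI : IsNoetherianRing Γ(X, W) := IsLocallyNoetherian.component_noetherian ⟨W, hW⟩
    haveI : Module.Finite Γ(X, W) Γ(M, W) := Module.Finite.of_basis b
    obtain ⟨⟨er⟩, hd, -⟩ := Groth.Agent.Lib.Helper4.DimFormula.stalk_vs_localization hW M x hxW
    rw [hd]
    refine (hdepth x hxU).trans ?_
    rw [← Groth.Agent.Lib.Helper28.depth_self_eq_of_ringEquiv er,
      ← Groth.Agent.Lib.Helper28.depth_localizedModule_self,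
      Groth.Agent.Lib.Helper28.depth_localization_congr b.equivFun]
    unfold LocCoh.depth
    rw [Groth.Agent.Lib.Helper28.idealDepth_congr
      (Groth.Agent.Lib.Helper28.localizedPiFinEquiv _ Γ(X, W) n)]
    exact Groth.Agent.Lib.Helper28.idealDepth_le_idealDepth_pi_fin _ _ n

end Groth.Agent.S14116
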