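import Groth.Statements.S19618
import Mathlib

set_option autoImplicit false
universe u
open CategoryTheory CategoryTheory.Limits AlgebraicGeometry Opposite TopologicalSpace
open BlowUp

namespace Groth.Agent.S19618

namespace Aux

theorem mem_basicOpen_iff_primeIdealOf {X : Scheme.{u}} {V : X.Opens} (hV : IsAffineOpen V)
    (z : V) (r : Γ(X, V)) : z.1 ∈ X.basicOpen r ↔ r ∉ (hV.primeIdealOf z).asIdeal := by
  have h1 : hV.primeIdealOf z ∈ PrimeSpectrum.basicOpen r ↔ r ∉ (hV.primeIdealOf z).asIdeal :=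
    Iff.rfl
  rw [← h1, ← hV.fromSpec_preimage_basicOpen]
  change _ ↔ hV.fromSpec (hV.primeIdealOf z) ∈ X.basicOpen r
  rw [hV.fromSpec_primeIdealOf]

theorem one_le_dim {X : Scheme.{u}} (𝓘 : X.IdealSheafData) (hY : BlowUp.IsEffCartierIdeal 𝓘)
    (y : X) (hy : y ∈ 𝓘.support) : 1 ≤ ringKrullDim (X.presheaf.stalk y) := by
  obtain ⟨U, hyU, f, hf, hIf⟩ := hY y
  have hf𝔭 : f ∈ (U.2.primeIdealOf ⟨y, hyU⟩).asIdeal := by
    have h1 := (Scheme.IdealSheafData.mem_support_iff_of_mem hyU).mp hy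
    rw [Scheme.mem_zeroLocus_iff] at h1
    have hxf : y ∉ X.basicOpen f := h1 f (by rw [hIf]; exact Ideal.mem_span_singleton_self f)
    rw [mem_basicOpen_iff_primeIdealOf U.2 ⟨y, hyU⟩ f, not_not] at hxf
    exact hxf
  letI : Algebra Γ(X, U.1) (X.presheaf.stalk y) :=
    TopCat.Presheaf.algebra_section_stalk X.presheaf ⟨y, hyU⟩
  haveI : IsLocalization.AtPrime (X.presheaf.stalk y) (U.2.primeIdealOf ⟨y, hyU⟩).asIdeal :=
    U.2.isLocalization_stalk ⟨y, hyU⟩
  rw [IsLocalization.AtPrime.ringKrullDim_eq_height (U.2.primeIdealOf ⟨y, hyU⟩).asIdeal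
    (X.presheaf.stalk y)]
  have h1 := Ideal.one_le_height_span_singleton_of_mem_nonZeroDivisors hf
  have h2 : (Ideal.span {f}).height ≤ (U.2.primeIdealOf ⟨y, hyU⟩).asIdeal.height :=
    Ideal.height_mono ((Ideal.span_singleton_le_iff_mem _).2 hf𝔭)
  exact_mod_cast h1.trans h2

theorem arith {a c : WithBot ℕ∞} (h0 : 0 ≤ a) (htop : a < ⊤) (hc : 1 ≤ c) (h : a = c + a) :
    False := by
  have ha_bot : a ≠ ⊥ := by
    rintro rfl
    simp at h0
  obtain ⟨e, rfl⟩ := WithBot.ne_bot_iff_exists.1 ha_bot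
  have he : e ≠ ⊤ := by
    rintro rfl
    exact lt_irrefl _ htop
  obtain ⟨n, rfl⟩ := ENat.ne_top_iff_exists.1 he
  have h1 : (((n : ℕ∞) : WithBot ℕ∞)) + 1 ≤ c + ((n : ℕ∞) : WithBot ℕ∞) := by
    rw [add_comm]
    gcongr
  rw [← h] at h1
  have h2 : ((n + 1 : ℕ) : WithBot ℕ∞) ≤ ((n : ℕ) : WithBot ℕ∞) := by exact_mod_cast h1
  have h3 : n + 1 ≤ n := by exact_mod_cast h2
  omega

end Aux

/-- Let X be a locally Noetherian scheme, Y an effective Cartier divisor on X (a quasi-coherent ideal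
sheaf which, near every point, is generated on some affine open by one nonzerodivisor; Y is its
support) and Z a closed integral subscheme (a closed immersion i from an integral scheme with
generic point ξ). If Y and Z intersect properly — every point ζ of Y ∩ Z which is maximal under
generization inside Y ∩ Z satisfies dim O_{X,ζ} = codim(Y,X) + codim(Z,X), where codim(Y,X) is the
infimum over y ∈ Y of dim O_{X,y} and codim(Z,X) = dim O_{X,i(ξ)} — then Z is not contained in Y. -/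
theorem result {X Z : Scheme.{u}}
    [IsLocallyNoetherian X] (𝓘 : X.IdealSheafData) (hY : BlowUp.IsEffCartierIdeal 𝓘)
    (i : Z ⟶ X) [IsClosedImmersion i] [IsIntegral Z]
    (hprop : ∀ ζ : ↥X, ζ ∈ (𝓘.support : Set ↥X) ∩ Set.range i.base →
        (∀ ζ' : ↥X, ζ' ∈ (𝓘.support : Set ↥X) ∩ Set.range i.base → ζ' ⤳ ζ → ζ' = ζ) →
        ringKrullDim ↑(X.presheaf.stalk ζ) =
          (⨅ y : (𝓘.support : Set ↥X), ringKrullDim ↑(X.presheaf.stalk y.1)) +
            ringKrullDim ↑(X.presheaf.stalk (i (genericPoint ↥Z)))) :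
    ¬ Set.range i.base ⊆ (𝓘.support : Set ↥X) := by
  intro hsub
  have hξY : i (genericPoint ↥Z) ∈ (𝓘.support : Set X) ∩ Set.range i.base :=
    ⟨hsub ⟨genericPoint ↥Z, rfl⟩, ⟨genericPoint ↥Z, rfl⟩⟩
  have hmax : ∀ ζ' : X, ζ' ∈ (𝓘.support : Set X) ∩ Set.range i.base →
      ζ' ⤳ i (genericPoint ↥Z) → ζ' = i (genericPoint ↥Z) := by
    rintro _ ⟨-, z', rfl⟩ hspec
    have h1 : z' ⤳ genericPoint ↥Z := (i.isEmbedding.isInducing.specializes_iff).1 hspec
    have h2 : genericPoint ↥Z ⤳ z' := genericPoint_specializes z'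
    exact congrArg _ (Specializes.antisymm h1 h2).eq
  have hdim := hprop _ hξY hmax
  have hc : 1 ≤ ⨅ y : (𝓘.support : Set ↥X), ringKrullDim ↑(X.presheaf.stalk y.1) :=
    le_iInf (fun y => Aux.one_le_dim 𝓘 hY y.1 y.2)
  exact Aux.arith ringKrullDim_nonneg_of_nontrivial ringKrullDim_lt_top hc hdim

end Groth.Agent.S19618
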