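import Groth.Statements.S14119
import Mathlib
import Groth.Agent.Lib.Helper8IntProp
import Groth.Agent.S19618

set_option autoImplicit false
universe u
open CategoryTheory CategoryTheory.Limits AlgebraicGeometry Opposite TopologicalSpace
open BlowUp

namespace Groth.Agent.S14119

/-- Let X be a locally Noetherian scheme, Y an effective Cartier divisor on X (a quasi-coherent ideal
sheaf which, near every point, is generated on some affine open by one nonzerodivisor; Y is its
support) and Z a closed integral subscheme (a closed immersion i from an integral scheme with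
generic point ξ). Assume X irreducible with all local rings catenary (the first of the two printed
sufficient conditions), and assume that the inverse image ideal sheaf of Y on Z is the ideal of an
effective Cartier divisor on Z. Then Y and Z intersect properly: every point ζ of Y ∩ Z that is
maximal under generization inside Y ∩ Z satisfies dim O_{X,ζ} = codim(Y,X) + codim(Z,X), where
codim(Y,X) is the infimum over y ∈ Y of dim O_{X,y} and codim(Z,X) = dim O_{X,i(ξ)}. (The published
statement also has a second sufficient condition, X biequidimensional, and a fourth equivalent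
condition, vanishing of the higher Tor sheaves of O_Y against O_Z; neither is included in this row.) -/
theorem result {X Z : Scheme.{u}}
    [IsLocallyNoetherian X] [IrreducibleSpace ↥X] (hcat : ∀ x : ↥X, CAlg.IsCatenary ↑(X.presheaf.stalk x))
    (𝓘 : X.IdealSheafData) (hY : BlowUp.IsEffCartierIdeal 𝓘)
    (i : Z ⟶ X) [IsClosedImmersion i] [IsIntegral Z] (hc : BlowUp.IsEffCartierIdeal (𝓘.comap i)) :
    (∀ ζ : ↥X, ζ ∈ (𝓘.support : Set ↥X) ∩ Set.range i.base →
        (∀ ζ' : ↥X, ζ' ∈ (𝓘.support : Set ↥X) ∩ Set.range i.base → ζ' ⤳ ζ → ζ' = ζ) →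
        ringKrullDim ↑(X.presheaf.stalk ζ) =
          (⨅ y : (𝓘.support : Set ↥X), ringKrullDim ↑(X.presheaf.stalk y.1)) +
            ringKrullDim ↑(X.presheaf.stalk (i (genericPoint ↥Z)))) := by
  intro ζ hζ hmax
  obtain ⟨hζY, ζ', rfl⟩ := hζ
  -- codim(Y, X) = 1
  have hinf : (⨅ y : (𝓘.support : Set ↥X), ringKrullDim ↑(X.presheaf.stalk y.1)) = 1 := by
    apply le_antisymm
    · obtain ⟨y, hyT, hyζ, hymax⟩ := Groth.Agent.Lib.Helper4.Pur21.exists_maximal_point
        (𝓘.support : Set ↥X) 𝓘.support.isClosed (i.base ζ') hζY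
      obtain ⟨U, hyU, f, hf, hIf⟩ := hY y
      have h1 := Groth.Agent.Lib.Helper2.ringKrullDim_stalk_eq_one 𝓘 y U hyU f hIf hf hyT hymax
      exact (iInf_le (fun y : (𝓘.support : Set ↥X) => ringKrullDim ↑(X.presheaf.stalk y.1))
        ⟨y, hyT⟩).trans h1.le
    · exact le_iInf (fun y => Groth.Agent.S19618.Aux.one_le_dim 𝓘 hY y.1 y.2)
  -- dim O_{Z,ζ'} = 1
  haveI : IsLocallyNoetherian Z := LocallyOfFiniteType.isLocallyNoetherian i
  have hsupp : ∀ z : ↥Z, z ∈ (𝓘.comap i).support ↔ i.base z ∈ 𝓘.support := by
    intro z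
    rw [Scheme.IdealSheafData.support_comap]
    exact Iff.rfl
  have hZ1 : ringKrullDim ↑(Z.presheaf.stalk ζ') = 1 := by
    obtain ⟨U', hU', f', hf', hIf'⟩ := hc ζ'
    refine Groth.Agent.Lib.Helper2.ringKrullDim_stalk_eq_one (𝓘.comap i) ζ' U' hU' f' hIf' hf'
      ((hsupp ζ').mpr hζY) ?_
    intro z hz hzs
    have h1 : i.base z ⤳ i.base ζ' := hzs.map i.continuous
    have h2 := hmax (i.base z) ⟨(hsupp z).mp hz, z, rfl⟩ h1
    exact i.isEmbedding.injective h2
  have hdim := Groth.Agent.Lib.Helper8.IntProp.ringKrullDim_stalk_eq_add_of_catenary i ζ'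
    (hcat (i.base ζ'))
  rw [hinf, hdim, hZ1, add_comm]

end Groth.Agent.S14119
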