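import Groth.Statements.S14173
import Groth.Agent.Lib.R2H2PnSerre

set_option autoImplicit false
universe u
open CategoryTheory CategoryTheory.Limits AlgebraicGeometry
open Variety

namespace Groth.Agent.S14173

/-- Let k be an algebraically closed field of characteristic zero (the published statement is over the
complex numbers; this row allows any algebraically closed field of characteristic zero) and 0 → F₁ →
F₂ → F₃ → 0 a short exact sequence of coherent modules on P^n_k. If F₁ and F₃ are m-regular then so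
is F₂; equivalently reg F₂ ≤ max(reg F₁, reg F₃). -/
theorem result (k : Type u) [Field k] [IsAlgClosed k] [CharZero k]
    (n : ℕ) (S : ShortComplex (CohB1.ProjSpace n k).Modules) (hS : S.ShortExact)
    (h₁ : Coh.IsCoh S.X₁) (h₂ : Coh.IsCoh S.X₂) (h₃ : Coh.IsCoh S.X₃) (m : ℤ)
    (hreg₁ : Curv2.IsMRegular k n S.X₁ m) (hreg₃ : Curv2.IsMRegular k n S.X₃ m) :
    Curv2.IsMRegular k n S.X₂ m := by
  intro i hi1 hin
  have hL := Groth.Agent.Lib.R2H2.PnSerre.isInv n k (m - i)
  have hSe : (S.map (Groth.Agent.Lib.R2H2.PnSerre.twR (Twist.twistProjSpace n k (m - i)))).ShortExact :=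
    Groth.Agent.Lib.R2H2.PnSerre.shortExact_map_twR _ hL S hS
  have h1 : Subsingleton (Coh.HH (CohB1.ProjSpace n k)
      (S.map (Groth.Agent.Lib.R2H2.PnSerre.twR (Twist.twistProjSpace n k (m - i)))).X₁ i) :=
    hreg₁ i hi1 hin
  have h3 : Subsingleton (Coh.HH (CohB1.ProjSpace n k)
      (S.map (Groth.Agent.Lib.R2H2.PnSerre.twR (Twist.twistProjSpace n k (m - i)))).X₃ i) :=
    hreg₃ i hi1 hin
  refine ⟨fun a b => ?_⟩
  have key : ∀ x : Coh.HH (CohB1.ProjSpace n k)
      (S.map (Groth.Agent.Lib.R2H2.PnSerre.twR (Twist.twistProjSpace n k (m - i)))).X₂ i, x = 0 := fun x => by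
    obtain ⟨y, hy⟩ := Groth.Agent.Lib.R2H2.HHLin.exact₂
      (S.map (Groth.Agent.Lib.R2H2.PnSerre.twR (Twist.twistProjSpace n k (m - i)))) hSe i x
      (Subsingleton.elim _ _)
    rw [← hy, Subsingleton.elim y 0, map_zero]
  exact (key a).trans (key b).symm

end Groth.Agent.S14173
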