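import Groth.Statements.S14194
import Mathlib

set_option autoImplicit false
universe u
open W4c1btstackcounts
open StackCount

namespace Groth.Agent.S14194

namespace Aux

open Module

variable {k : Type u} [Field k] {d : ℕ → ℕ}

/-- image of `k^{d i}` in `k^{d j}`, recursion on `j`. -/
noncomputable def W (f : (i : ℕ) → Matrix (Fin (d (i + 1))) (Fin (d i)) k) (i : ℕ) :
    (j : ℕ) → Submodule k (Fin (d j) → k)
  | 0 => if i = 0 then ⊤ else ⊥
  | j + 1 => if i = j + 1 then ⊤ else (W f i j).map (Matrix.toLin' (f j))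

theorem W_self (f : (i : ℕ) → Matrix (Fin (d (i + 1))) (Fin (d i)) k) (i : ℕ) :
    W f i i = ⊤ := by
  cases i with
  | zero => simp [W]
  | succ n => simp [W]

theorem W_succ (f : (i : ℕ) → Matrix (Fin (d (i + 1))) (Fin (d i)) k) {i j : ℕ} (h : i ≤ j) :
    W f i (j + 1) = (W f i j).map (Matrix.toLin' (f j)) := by
  have : i ≠ j + 1 := by omega
  simp [W, this]

theorem iterImage_eq (f : (i : ℕ) → Matrix (Fin (d (i + 1))) (Fin (d i)) k) (i n : ℕ) :
    iterImage f i n = W f i (i + n) := by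
  induction n with
  | zero => exact (W_self f i).symm
  | succ n ih =>
    have h2 : W f i (i + (n + 1)) = (W f i (i + n)).map (Matrix.toLin' (f (i + n))) :=
      W_succ f (Nat.le_add_right i n)
    rw [h2, ← ih]
    rfl

theorem rankArray_eq (f : (i : ℕ) → Matrix (Fin (d (i + 1))) (Fin (d i)) k) {i j : ℕ}
    (h : i ≤ j) : rankArray f i j = finrank k (W f i j) := by
  unfold rankArray
  rw [if_pos h, iterImage_eq]
  have : i + (j - i) = j := by omega
  exact congrArg (fun m => finrank k (W f i m)) this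

/-- The linear equivalence attached to an element of `GL`. -/
noncomputable def glEquiv {n : ℕ} (g : Matrix.GeneralLinearGroup (Fin n) k) :
    (Fin n → k) ≃ₗ[k] (Fin n → k) :=
  Matrix.toLin'OfInv (M := ((g⁻¹ : Matrix.GeneralLinearGroup (Fin n) k) : Matrix (Fin n) (Fin n) k))
    (M' := (g : Matrix (Fin n) (Fin n) k))
    (by rw [← Units.val_mul]; simp) (by rw [← Units.val_mul]; simp)

theorem glEquiv_coe {n : ℕ} (g : Matrix.GeneralLinearGroup (Fin n) k) :
    ((glEquiv g : (Fin n → k) ≃ₗ[k] (Fin n → k)) : (Fin n → k) →ₗ[k] (Fin n → k)) =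
      Matrix.toLin' (g : Matrix (Fin n) (Fin n) k) := by
  ext v
  rfl

theorem W_conj (g : (j : ℕ) → Matrix.GeneralLinearGroup (Fin (d j)) k)
    (f : (i : ℕ) → Matrix (Fin (d (i + 1))) (Fin (d i)) k) (i j : ℕ) :
    W (conj g f) i j = (W f i j).map
      ((glEquiv (g j) : (Fin (d j) → k) ≃ₗ[k] (Fin (d j) → k)) : (Fin (d j) → k) →ₗ[k] (Fin (d j) → k)) := by
  induction j with
  | zero =>
    by_cases h : i = 0
    · simp only [W, if_pos h]
      rw [Submodule.map_top]
      exact (LinearMap.range_eq_top.mpr (glEquiv (g 0)).surjective).symm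
    · simp only [W, if_neg h]
      rw [Submodule.map_bot]
  | succ j ih =>
    by_cases h : i = j + 1
    · simp only [W, if_pos h]
      rw [Submodule.map_top]
      exact (LinearMap.range_eq_top.mpr (glEquiv (g (j + 1))).surjective).symm
    · simp only [W, if_neg h]
      rw [ih, ← Submodule.map_comp, ← Submodule.map_comp]
      congr 1
      rw [glEquiv_coe, glEquiv_coe, ← Matrix.toLin'_mul, ← Matrix.toLin'_mul]
      congr 1
      unfold conj
      rw [Matrix.mul_assoc, ← Units.val_mul]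
      simp

theorem part1 (g : (j : ℕ) → Matrix.GeneralLinearGroup (Fin (d j)) k)
    (f : (i : ℕ) → Matrix (Fin (d (i + 1))) (Fin (d i)) k) (i j : ℕ) (hij : i ≤ j) :
    rankArray (conj g f) i j = rankArray f i j := by
  rw [rankArray_eq _ hij, rankArray_eq _ hij, W_conj]
  exact LinearEquiv.finrank_map_eq _ _

/-- rank–nullity for the restriction to a subspace -/
theorem rank_nullity {V V' : Type u} [AddCommGroup V] [Module k V] [FiniteDimensional k V]
    [AddCommGroup V'] [Module k V'] (φ : V →ₗ[k] V') (p : Submodule k V) :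
    finrank k (p.map φ) + finrank k ↥(LinearMap.ker φ ⊓ p) = finrank k p := by
  have h := LinearMap.finrank_range_add_finrank_ker (φ.domRestrict p)
  rw [LinearMap.range_domRestrict, LinearMap.ker_domRestrict] at h
  have e : finrank k ↥(Submodule.comap p.subtype (LinearMap.ker φ)) =
      finrank k ↥(LinearMap.ker φ ⊓ p) := by
    have h1 : Submodule.comap p.subtype (LinearMap.ker φ) =
        Submodule.comap p.subtype (LinearMap.ker φ ⊓ p) := by
      rw [Submodule.comap_inf, Submodule.comap_subtype_self, inf_top_eq]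
    rw [h1]
    exact (Submodule.comapSubtypeEquivOfLe (inf_le_right)).finrank_eq
  rw [e] at h
  exact h

theorem W_mono (f : (i : ℕ) → Matrix (Fin (d (i + 1))) (Fin (d i)) k) (i j : ℕ) (h : i < j) :
    W f i j ≤ W f (i + 1) j := by
  induction j with
  | zero => omega
  | succ j ih =>
    rw [W_succ f (by omega : i ≤ j)]
    by_cases hj : i = j
    · subst hj
      rw [W_self f (i + 1)]
      exact le_top
    · rw [W_succ f (by omega : i + 1 ≤ j)]
      exact Submodule.map_mono (ih (by omega))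

theorem part2 (f : (i : ℕ) → Matrix (Fin (d (i + 1))) (Fin (d i)) k) (r : ℕ) :
    IsRankArray d r (rankArray f) := by
  refine ⟨?_, ?_, ?_, ?_⟩
  · intro j _ _
    rw [rankArray_eq f le_rfl, W_self, finrank_top, Module.finrank_fin_fun]
  · intro i j _ hij _
    rw [rankArray_eq f hij.le, rankArray_eq f (by omega : i + 1 ≤ j)]
    exact Submodule.finrank_mono (W_mono f i j hij)
  · intro i j _ hij _
    rw [rankArray_eq f hij, rankArray_eq f (by omega : i ≤ j + 1), W_succ f hij]
    exact Submodule.finrank_map_le _ _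
  · intro i j hi hij _
    obtain ⟨i', rfl⟩ : ∃ i', i = i' + 1 := ⟨i - 1, by omega⟩
    simp only [Nat.add_sub_cancel]
    rw [rankArray_eq f hij, rankArray_eq f (by omega : i' + 1 ≤ j + 1),
      rankArray_eq f (by omega : i' ≤ j), rankArray_eq f (by omega : i' ≤ j + 1),
      W_succ f hij, W_succ f (by omega : i' ≤ j)]
    have h1 := rank_nullity (Matrix.toLin' (f j)) (W f (i' + 1) j)
    have h2 := rank_nullity (Matrix.toLin' (f j)) (W f i' j)
    have h3 : finrank k ↥(LinearMap.ker (Matrix.toLin' (f j)) ⊓ W f i' j) ≤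
        finrank k ↥(LinearMap.ker (Matrix.toLin' (f j)) ⊓ W f (i' + 1) j) :=
      Submodule.finrank_mono (inf_le_inf_left _ (W_mono f i' j (by omega)))
    omega


open Module

section L

variable {k : Type u} [Field k] {V V' : Type u} [AddCommGroup V] [Module k V]
  [FiniteDimensional k V] [AddCommGroup V'] [Module k V']

/-- partial isomorphism data -/
structure PI (ψ ν : V →ₗ[k] V') (γ : V →ₗ[k] V) (W C : Submodule k V) : Prop where
  comm : ∀ w ∈ W, ν (γ w) = ψ w
  map_eq : W.map γ = C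
  inj : ∀ w ∈ W, γ w = 0 → w = 0

variable {ψ ν : V →ₗ[k] V'} {γ : V →ₗ[k] V} {W C : Submodule k V}

theorem PI.map_psi (h : PI ψ ν γ W C) : W.map ψ = C.map ν := by
  rw [← h.map_eq, ← Submodule.map_comp]
  ext y
  simp only [Submodule.mem_map]
  constructor
  · rintro ⟨w, hw, rfl⟩
    exact ⟨w, hw, by simp [h.comm w hw]⟩
  · rintro ⟨w, hw, rfl⟩
    exact ⟨w, hw, by simp [h.comm w hw]⟩

theorem PI.finrank_eq (h : PI ψ ν γ W C) : finrank k W = finrank k C := by
  have hinj : Function.Injective (γ.domRestrict W) := by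
    rw [← LinearMap.ker_eq_bot, LinearMap.ker_eq_bot']
    intro w hw
    exact Subtype.ext (h.inj w.1 w.2 hw)
  have := LinearMap.finrank_range_of_inj hinj
  rw [LinearMap.range_domRestrict, h.map_eq] at this
  exact this.symm

theorem PI.finrank_ker (h : PI ψ ν γ W C) :
    finrank k ↥(LinearMap.ker ψ ⊓ W) = finrank k ↥(LinearMap.ker ν ⊓ C) := by
  have h1 := rank_nullity ψ W
  have h2 := rank_nullity ν C
  have h3 := h.finrank_eq
  rw [h.map_psi] at h1
  omega

theorem PI.mem (h : PI ψ ν γ W C) {w : V} (hw : w ∈ W) : γ w ∈ C :=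
  h.map_eq ▸ Submodule.mem_map_of_mem hw

theorem exists_y (h : PI ψ ν γ W C) {W' C' : Submodule k V} (hW : W ≤ W') (hC : C ≤ C')
    (hfr : finrank k W' = finrank k C') (hmap : W'.map ψ = C'.map ν) {x : V} (hx : x ∈ W')
    (hxW : x ∉ W) : ∃ y ∈ C', y ∉ C ∧ ν y = ψ x := by
  have hψx : ψ x ∈ C'.map ν := hmap ▸ Submodule.mem_map_of_mem hx
  obtain ⟨c, hc, hcx⟩ := Submodule.mem_map.mp hψx
  by_cases hcC : c ∈ C
  · rw [← h.map_eq] at hcC
    obtain ⟨w, hw, rfl⟩ := Submodule.mem_map.mp hcC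
    have hψ : ψ (x - w) = 0 := by rw [map_sub, ← h.comm w hw, hcx, sub_self]
    have hlt : LinearMap.ker ψ ⊓ W < LinearMap.ker ψ ⊓ W' := by
      refine lt_of_le_of_ne (inf_le_inf_left _ hW) ?_
      intro heq
      have hm : x - w ∈ LinearMap.ker ψ ⊓ W' := ⟨hψ, W'.sub_mem hx (hW hw)⟩
      rw [← heq] at hm
      exact hxW (by simpa using W.add_mem hm.2 hw)
    have h1 := Submodule.finrank_lt_finrank_of_lt hlt
    have h2 := rank_nullity ψ W'
    have h3 := rank_nullity ν C'
    have h4 := h.finrank_ker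
    rw [hmap] at h2
    have h5 : finrank k ↥(LinearMap.ker ν ⊓ C) < finrank k ↥(LinearMap.ker ν ⊓ C') := by omega
    have hex : ∃ l ∈ LinearMap.ker ν ⊓ C', l ∉ LinearMap.ker ν ⊓ C := by
      by_contra hcon
      push_neg at hcon
      have hle : LinearMap.ker ν ⊓ C' ≤ LinearMap.ker ν ⊓ C := hcon
      have := Submodule.finrank_mono hle
      omega
    obtain ⟨l, hl, hlC⟩ := hex
    refine ⟨γ w + l, C'.add_mem (hC (h.mem hw)) hl.2, ?_, ?_⟩
    · intro hmem
      have hlC' : l ∈ C := by simpa using C.sub_mem hmem (h.mem hw)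
      exact hlC ⟨hl.1, hlC'⟩
    · rw [map_add, hcx, LinearMap.mem_ker.mp hl.1, add_zero]
  · exact ⟨c, hc, hcC, hcx⟩

theorem extend_one (h : PI ψ ν γ W C) {x y : V} (hxW : x ∉ W) (hyC : y ∉ C)
    (hxy : ν y = ψ x) :
    ∃ γ' : V →ₗ[k] V, PI ψ ν γ' (W ⊔ Submodule.span k {x}) (C ⊔ Submodule.span k {y}) ∧
      ∀ w ∈ W, γ' w = γ w := by
  obtain ⟨l0, hlx0, hlW0⟩ := Submodule.exists_dual_map_eq_bot_of_notMem hxW inferInstance
  have hlW0' : ∀ w ∈ W, l0 w = 0 := by
    intro w hw
    have : l0 w ∈ W.map l0 := Submodule.mem_map_of_mem hw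
    rw [hlW0] at this
    exact (Submodule.mem_bot k).mp this
  obtain ⟨lam, hlx, hlW⟩ : ∃ lam : V →ₗ[k] k, lam x = 1 ∧ ∀ w ∈ W, lam w = 0 := by
    refine ⟨(l0 x)⁻¹ • l0, ?_, ?_⟩
    · simp [hlx0]
    · intro w hw
      simp [hlW0' w hw]
  have key : ∀ w ∈ W, ∀ t : k,
      (γ + lam.smulRight (y - γ x)) (w + t • x) = γ w + t • y := by
    intro w hw t
    have hl : lam (w + t • x) = t := by
      rw [map_add, map_smul, hlW w hw, hlx, zero_add, smul_eq_mul, mul_one]
    rw [LinearMap.add_apply, LinearMap.smulRight_apply, hl, map_add, map_smul, smul_sub]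
    abel
  have dec : ∀ v ∈ W ⊔ Submodule.span k {x}, ∃ w ∈ W, ∃ t : k, v = w + t • x := by
    intro v hv
    obtain ⟨w, hw, z, hz, rfl⟩ := Submodule.mem_sup.mp hv
    obtain ⟨t, rfl⟩ := Submodule.mem_span_singleton.mp hz
    exact ⟨w, hw, t, rfl⟩
  refine ⟨γ + lam.smulRight (y - γ x), ⟨?_, ?_, ?_⟩, ?_⟩
  · intro v hv
    obtain ⟨w, hw, t, rfl⟩ := dec v hv
    rw [key w hw t, map_add, map_smul, map_add, map_smul, h.comm w hw, hxy]
  · apply le_antisymm
    · rw [Submodule.map_le_iff_le_comap]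
      intro v hv
      obtain ⟨w, hw, t, rfl⟩ := dec v hv
      rw [Submodule.mem_comap, key w hw t]
      exact Submodule.add_mem_sup (h.mem hw)
        (Submodule.smul_mem _ t (Submodule.mem_span_singleton_self y))
    · refine sup_le ?_ ?_
      · intro c hc
        rw [← h.map_eq] at hc
        obtain ⟨w, hw, rfl⟩ := Submodule.mem_map.mp hc
        refine Submodule.mem_map.mpr ⟨w + (0 : k) • x, ?_, ?_⟩
        · simpa using Submodule.mem_sup_left hw
        · rw [key w hw 0, zero_smul, add_zero]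
      · rw [Submodule.span_le, Set.singleton_subset_iff]
        refine Submodule.mem_map.mpr ⟨0 + (1 : k) • x, ?_, ?_⟩
        · simpa using Submodule.mem_sup_right (Submodule.mem_span_singleton_self x)
        · rw [key 0 W.zero_mem 1, map_zero, zero_add, one_smul]
  · intro v hv hv0
    obtain ⟨w, hw, t, rfl⟩ := dec v hv
    rw [key w hw t] at hv0
    by_cases ht : t = 0
    · subst ht
      rw [zero_smul, add_zero] at hv0
      rw [h.inj w hw hv0, zero_smul, add_zero]
    · exfalso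
      apply hyC
      have hy : y = -(t⁻¹ • γ w) := by
        have : t • y = -γ w := by
          rw [eq_neg_iff_add_eq_zero, add_comm]; exact hv0
        calc y = t⁻¹ • (t • y) := by rw [smul_smul, inv_mul_cancel₀ ht, one_smul]
          _ = -(t⁻¹ • γ w) := by rw [this, smul_neg]
      rw [hy]
      exact C.neg_mem (C.smul_mem _ (h.mem hw))
  · intro w hw
    have := key w hw 0
    rwa [zero_smul, add_zero, zero_smul, add_zero] at this

theorem extend (ψ ν : V →ₗ[k] V') : ∀ (n : ℕ) (γ : V →ₗ[k] V) (W C W' C' : Submodule k V),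
    PI ψ ν γ W C → W ≤ W' → C ≤ C' → finrank k W' = finrank k C' → W'.map ψ = C'.map ν →
    finrank k W' - finrank k W = n →
    ∃ γ' : V →ₗ[k] V, PI ψ ν γ' W' C' ∧ ∀ w ∈ W, γ' w = γ w := by
  intro n
  induction n using Nat.strong_induction_on with
  | _ n ih =>
    intro γ W C W' C' h hW hC hfr hmap hn
    by_cases hWW : W = W'
    · subst hWW
      have hCC : C = C' :=
        Submodule.eq_of_le_of_finrank_le hC (by have := h.finrank_eq; omega)
      subst hCC
      exact ⟨γ, h, fun _ _ => rfl⟩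
    · have hlt : W < W' := lt_of_le_of_ne hW hWW
      obtain ⟨x, hx, hxW⟩ := SetLike.exists_of_lt hlt
      obtain ⟨y, hy, hyC, hxy⟩ := exists_y h hW hC hfr hmap hx hxW
      obtain ⟨γ₁, h₁, hag⟩ := extend_one h hxW hyC hxy
      have hW1 : W ⊔ Submodule.span k {x} ≤ W' :=
        sup_le hW (by rw [Submodule.span_le, Set.singleton_subset_iff]; exact hx)
      have hC1 : C ⊔ Submodule.span k {y} ≤ C' :=
        sup_le hC (by rw [Submodule.span_le, Set.singleton_subset_iff]; exact hy)
      have hlt1 : W < W ⊔ Submodule.span k {x} := by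
        refine lt_of_le_of_ne le_sup_left ?_
        intro heq
        apply hxW
        rw [heq]
        exact Submodule.mem_sup_right (Submodule.mem_span_singleton_self x)
      have hf1 := Submodule.finrank_lt_finrank_of_lt hlt1
      have hf2 := Submodule.finrank_mono hW1
      obtain ⟨γ₂, h₂, hag₂⟩ := ih (finrank k W' - finrank k ↥(W ⊔ Submodule.span k {x}))
        (by omega) γ₁ _ _ W' C' h₁ hW1 hC1 hfr hmap rfl
      refine ⟨γ₂, h₂, fun w hw => ?_⟩
      rw [hag₂ w (Submodule.mem_sup_left hw), hag w hw]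

theorem flag_mono (Wf : ℕ → Submodule k V) (n : ℕ) (hWm : ∀ i < n, Wf i ≤ Wf (i + 1))
    {i m : ℕ} (him : i ≤ m) (hm : m ≤ n) : Wf i ≤ Wf m := by
  induction m with
  | zero =>
    have : i = 0 := by omega
    subst this
    exact le_rfl
  | succ m ih =>
    by_cases h : i = m + 1
    · subst h
      exact le_rfl
    · exact (ih (by omega) (by omega)).trans (hWm m (by omega))

theorem flag_lemma (ψ ν : V →ₗ[k] V') (Wf Cf : ℕ → Submodule k V) (n : ℕ)
    (hWm : ∀ i < n, Wf i ≤ Wf (i + 1)) (hCm : ∀ i < n, Cf i ≤ Cf (i + 1))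
    (hWn : Wf n = ⊤) (hCn : Cf n = ⊤)
    (hfr : ∀ i ≤ n, finrank k (Wf i) = finrank k (Cf i))
    (hmap : ∀ i ≤ n, (Wf i).map ψ = (Cf i).map ν) :
    ∃ γ : V ≃ₗ[k] V, (∀ v, ν (γ v) = ψ v) ∧
      ∀ i ≤ n, (Wf i).map (γ : V →ₗ[k] V) = Cf i := by
  have main : ∀ m ≤ n, ∃ γ : V →ₗ[k] V, PI ψ ν γ (Wf m) (Cf m) ∧
      ∀ i ≤ m, (Wf i).map γ = Cf i := by
    intro m
    induction m with
    | zero =>
      intro _
      have h0 : PI ψ ν (0 : V →ₗ[k] V) ⊥ ⊥ := by
        refine ⟨?_, ?_, ?_⟩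
        · intro w hw
          rw [(Submodule.mem_bot k).mp hw]
          simp
        · rw [Submodule.map_bot]
        · intro w hw _
          exact (Submodule.mem_bot k).mp hw
      obtain ⟨γ, hγ, -⟩ := extend ψ ν _ 0 ⊥ ⊥ (Wf 0) (Cf 0) h0 bot_le bot_le
        (hfr 0 (Nat.zero_le _)) (hmap 0 (Nat.zero_le _)) rfl
      refine ⟨γ, hγ, fun i hi => ?_⟩
      have : i = 0 := by omega
      subst this
      exact hγ.map_eq
    | succ m ih =>
      intro hm
      obtain ⟨γ, hγ, hflag⟩ := ih (by omega)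
      obtain ⟨γ', hγ', hag⟩ := extend ψ ν _ γ (Wf m) (Cf m) (Wf (m + 1)) (Cf (m + 1)) hγ
        (hWm m (by omega)) (hCm m (by omega)) (hfr _ hm) (hmap _ hm) rfl
      refine ⟨γ', hγ', fun i hi => ?_⟩
      by_cases him : i = m + 1
      · subst him
        exact hγ'.map_eq
      · have hle : Wf i ≤ Wf m := flag_mono Wf n hWm (by omega) (by omega)
        rw [← hflag i (by omega)]
        ext v
        simp only [Submodule.mem_map]
        constructor
        · rintro ⟨w, hw, rfl⟩
          exact ⟨w, hw, (hag w (hle hw)).symm⟩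
        · rintro ⟨w, hw, rfl⟩
          exact ⟨w, hw, hag w (hle hw)⟩
  obtain ⟨γ, hγ, hflag⟩ := main n le_rfl
  rw [hWn, hCn] at hγ
  have hinj : Function.Injective γ := by
    rw [← LinearMap.ker_eq_bot, LinearMap.ker_eq_bot']
    intro v hv
    exact hγ.inj v Submodule.mem_top hv
  refine ⟨LinearEquiv.ofInjectiveEndo γ hinj, fun v => ?_, fun i hi => ?_⟩
  · exact hγ.comm v Submodule.mem_top
  · have hc : ((LinearEquiv.ofInjectiveEndo γ hinj : V ≃ₗ[k] V) : V →ₗ[k] V) = γ :=
      LinearMap.ext fun _ => rfl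
    rw [hc]
    exact hflag i hi

end L


open Module

section P3

variable {k : Type u} [Field k] {d : ℕ → ℕ}

theorem level (f f' : (i : ℕ) → Matrix (Fin (d (i + 1))) (Fin (d i)) k) (r : ℕ)
    (h : ∀ i j, 1 ≤ i → i ≤ j → j ≤ r → rankArray f i j = rankArray f' i j)
    (j : ℕ) (hj1 : 1 ≤ j) (hjr : j ≤ r)
    (ψ ν : (Fin (d j) → k) →ₗ[k] (Fin (d (j + 1)) → k))
    (hψν : ∀ i, 1 ≤ i → i ≤ j → (W f i j).map ψ = (W f' i j).map ν) :
    ∃ γ : (Fin (d j) → k) ≃ₗ[k] (Fin (d j) → k), (∀ v, ν (γ v) = ψ v) ∧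
      ∀ i, 1 ≤ i → i ≤ j →
        (W f i j).map ((γ : (Fin (d j) → k) ≃ₗ[k] (Fin (d j) → k)) :
          (Fin (d j) → k) →ₗ[k] (Fin (d j) → k)) = W f' i j := by
  have hj : j - 1 + 1 = j := by omega
  obtain ⟨γ, hγ1, hγ2⟩ := flag_lemma ψ ν (fun i => W f (i + 1) j) (fun i => W f' (i + 1) j)
    (j - 1) (fun i hi => W_mono f (i + 1) j (by omega)) (fun i hi => W_mono f' (i + 1) j (by omega))
    (by show W f (j - 1 + 1) j = ⊤; rw [hj]; exact W_self f j)
    (by show W f' (j - 1 + 1) j = ⊤; rw [hj]; exact W_self f' j)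
    (fun i hi => by
      have h1 := h (i + 1) j (by omega) (by omega) hjr
      rw [rankArray_eq f (by omega : i + 1 ≤ j), rankArray_eq f' (by omega : i + 1 ≤ j)] at h1
      exact h1)
    (fun i hi => hψν (i + 1) (by omega) (by omega))
  refine ⟨γ, hγ1, fun i hi1 hij => ?_⟩
  obtain ⟨i', rfl⟩ : ∃ i', i = i' + 1 := ⟨i - 1, by omega⟩
  exact hγ2 i' (by omega)

theorem part3_lin (f f' : (i : ℕ) → Matrix (Fin (d (i + 1))) (Fin (d i)) k) (r : ℕ)
    (h : ∀ i j, 1 ≤ i → i ≤ j → j ≤ r → rankArray f i j = rankArray f' i j) :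
    ∀ m j, j + m = r → 1 ≤ j →
      ∃ g : (l : ℕ) → ((Fin (d l) → k) ≃ₗ[k] (Fin (d l) → k)),
        (∀ l, j ≤ l → l ≤ r → ∀ i, 1 ≤ i → i ≤ l →
          (W f i l).map ((g l : (Fin (d l) → k) ≃ₗ[k] (Fin (d l) → k)) :
            (Fin (d l) → k) →ₗ[k] (Fin (d l) → k)) = W f' i l) ∧
        (∀ l, j ≤ l → l + 1 ≤ r → ∀ v, Matrix.toLin' (f' l) (g l v) =
          g (l + 1) (Matrix.toLin' (f l) v)) := by
  intro m
  induction m with
  | zero =>
    intro j hjr hj1
    have hjr' : j = r := by omega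
    subst hjr'
    obtain ⟨γ, -, hγ⟩ := level f f' j h j hj1 le_rfl 0 0 (fun i _ _ => by
      rw [Submodule.map_zero, Submodule.map_zero])
    refine ⟨Function.update (fun l => LinearEquiv.refl k (Fin (d l) → k)) j γ, ?_, ?_⟩
    · intro l hl1 hl2 i hi1 hil
      have : l = j := by omega
      subst this
      rw [Function.update_self]
      exact hγ i hi1 hil
    · intro l hl1 hl2
      omega
  | succ m ih =>
    intro j hjr hj1
    obtain ⟨g, hg1, hg2⟩ := ih (j + 1) (by omega) (by omega)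
    have hψν : ∀ i, 1 ≤ i → i ≤ j →
        (W f i j).map (((g (j + 1) : (Fin (d (j + 1)) → k) ≃ₗ[k] (Fin (d (j + 1)) → k)) :
          (Fin (d (j + 1)) → k) →ₗ[k] (Fin (d (j + 1)) → k)) ∘ₗ Matrix.toLin' (f j)) =
        (W f' i j).map (Matrix.toLin' (f' j)) := by
      intro i hi1 hij
      rw [Submodule.map_comp, ← W_succ f hij, ← W_succ f' hij]
      exact hg1 (j + 1) le_rfl (by omega) i hi1 (by omega)
    obtain ⟨γ, hγ1, hγ2⟩ := level f f' r h j hj1 (by omega) _ _ hψν
    refine ⟨Function.update g j γ, ?_, ?_⟩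
    · intro l hl1 hl2 i hi1 hil
      by_cases hlj : l = j
      · subst hlj
        rw [Function.update_self]
        exact hγ2 i hi1 hil
      · rw [Function.update_of_ne hlj]
        exact hg1 l (by omega) hl2 i hi1 hil
    · intro l hl1 hl2 v
      by_cases hlj : l = j
      · subst hlj
        rw [Function.update_self, Function.update_of_ne (by omega : l + 1 ≠ l)]
        exact hγ1 v
      · rw [Function.update_of_ne hlj, Function.update_of_ne (by omega : l + 1 ≠ j)]
        exact hg2 l (by omega) hl2 v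

/-- GL element attached to a linear equivalence. -/
noncomputable def toGL {n : ℕ} (e : (Fin n → k) ≃ₗ[k] (Fin n → k)) :
    Matrix.GeneralLinearGroup (Fin n) k :=
  ⟨LinearMap.toMatrix' (e : (Fin n → k) →ₗ[k] (Fin n → k)),
   LinearMap.toMatrix' (e.symm : (Fin n → k) →ₗ[k] (Fin n → k)),
   by
    rw [← LinearMap.toMatrix'_comp]
    have : (e : (Fin n → k) →ₗ[k] (Fin n → k)) ∘ₗ (e.symm : (Fin n → k) →ₗ[k] (Fin n → k)) =
        LinearMap.id := LinearMap.ext fun v => by simp
    rw [this, LinearMap.toMatrix'_id],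
   by
    rw [← LinearMap.toMatrix'_comp]
    have : (e.symm : (Fin n → k) →ₗ[k] (Fin n → k)) ∘ₗ (e : (Fin n → k) →ₗ[k] (Fin n → k)) =
        LinearMap.id := LinearMap.ext fun v => by simp
    rw [this, LinearMap.toMatrix'_id]⟩

theorem part3 (f f' : (i : ℕ) → Matrix (Fin (d (i + 1))) (Fin (d i)) k) (r : ℕ)
    (h : ∀ i j, 1 ≤ i → i ≤ j → j ≤ r → rankArray f i j = rankArray f' i j) :
    ∃ g : (j : ℕ) → Matrix.GeneralLinearGroup (Fin (d j)) k,
      ∀ i : ℕ, 1 ≤ i → i + 1 ≤ r → conj g f i = f' i := by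
  by_cases hr : r = 0
  · exact ⟨fun _ => 1, fun i h1 h2 => by omega⟩
  obtain ⟨g, -, hg⟩ := part3_lin f f' r h (r - 1) 1 (by omega) le_rfl
  refine ⟨fun j => toGL (g j), fun i hi1 hi2 => ?_⟩
  apply Matrix.toLin'.injective
  have hc : conj (fun j => toGL (g j)) f i =
      LinearMap.toMatrix' ((g (i + 1) : (Fin (d (i + 1)) → k) ≃ₗ[k] (Fin (d (i + 1)) → k)) :
        (Fin (d (i + 1)) → k) →ₗ[k] (Fin (d (i + 1)) → k)) * f i *
      LinearMap.toMatrix' (((g i).symm : (Fin (d i) → k) ≃ₗ[k] (Fin (d i) → k)) :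
        (Fin (d i) → k) →ₗ[k] (Fin (d i) → k)) := rfl
  rw [hc, Matrix.toLin'_mul, Matrix.toLin'_mul, Matrix.toLin'_toMatrix', Matrix.toLin'_toMatrix']
  refine LinearMap.ext fun v => ?_
  show (g (i + 1)) (Matrix.toLin' (f i) ((g i).symm v)) = Matrix.toLin' (f' i) v
  rw [← hg i hi1 hi2, LinearEquiv.apply_symm_apply]

end P3


open Module

section P4

theorem le_of_step (c : ℕ → ℕ) (n : ℕ) (h : ∀ i < n, c i ≤ c (i + 1)) {i m : ℕ}
    (him : i ≤ m) (hm : m ≤ n) : c i ≤ c m := by
  induction m with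
  | zero =>
    have : i = 0 := by omega
    subst this
    exact le_rfl
  | succ m ih =>
    by_cases h' : i = m + 1
    · subst h'
      exact le_rfl
    · exact (ih (by omega) (by omega)).trans (h m (by omega))

/-- the band function -/
def G (c b : ℕ → ℕ) (junk : ℕ) : ℕ → ℕ → ℕ
  | 0, _ => junk
  | i + 1, t => if t < c i then G c b junk i t
      else if t < c i + (b (i + 1) - b i) then b i + (t - c i) else junk

theorem G_succ (c b : ℕ → ℕ) (junk i t : ℕ) :
    G c b junk (i + 1) t = if t < c i then G c b junk i t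
      else if t < c i + (b (i + 1) - b i) then b i + (t - c i) else junk := rfl

theorem G_stable (c b : ℕ → ℕ) (junk n : ℕ) (hc : ∀ i < n, c i ≤ c (i + 1)) {i m : ℕ}
    (him : i ≤ m) (hm : m ≤ n) {t : ℕ} (ht : t < c i) :
    G c b junk m t = G c b junk i t := by
  induction m with
  | zero =>
    have : i = 0 := by omega
    subst this
    rfl
  | succ m ih =>
    by_cases h' : i = m + 1
    · subst h'
      rfl
    · have h1 : c i ≤ c m := le_of_step c n hc (by omega) (by omega)
      rw [G_succ, if_pos (by omega)]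
      exact ih (by omega) (by omega)

theorem G_P1 (c b : ℕ → ℕ) (junk n : ℕ) (hb : ∀ i < n, b i ≤ b (i + 1)) (hc0 : c 0 = 0) :
    ∀ i ≤ n, ∀ t < c i, G c b junk i t < b i ∨ G c b junk i t = junk := by
  intro i
  induction i with
  | zero =>
    intro _ t ht
    omega
  | succ i ih =>
    intro hi t ht
    rw [G_succ]
    have := hb i (by omega)
    split_ifs with h1 h2
    · rcases ih (by omega) t h1 with h | h
      · left
        omega
      · right
        exact h
    · left
      omega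
    · right
      rfl

theorem G_P2 (c b : ℕ → ℕ) (junk n : ℕ) (hb : ∀ i < n, b i ≤ b (i + 1))
    (hc : ∀ i < n, c i ≤ c (i + 1)) (hd : ∀ i < n, b (i + 1) + c i ≤ c (i + 1) + b i)
    (hb0 : b 0 = 0) :
    ∀ i ≤ n, ∀ s < b i, ∃ t < c i, G c b junk i t = s := by
  intro i
  induction i with
  | zero =>
    intro _ s hs
    omega
  | succ i ih =>
    intro hi s hs
    have h1 := hb i (by omega)
    have h2 := hc i (by omega)
    have h3 := hd i (by omega)
    by_cases hsi : s < b i
    · obtain ⟨t, ht, hG⟩ := ih (by omega) s hsi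
      exact ⟨t, by omega, by rw [G_succ, if_pos ht]; exact hG⟩
    · refine ⟨c i + (s - b i), by omega, ?_⟩
      rw [G_succ, if_neg (by omega), if_pos (by omega)]
      omega

variable (k : Type u) [Field k]

/-- partial permutation matrix attached to `g` -/
def Mg (m n : ℕ) (g : ℕ → ℕ) : Matrix (Fin m) (Fin n) k :=
  Matrix.of fun s t => if s.val = g t.val then 1 else 0

/-- coordinate subspace spanned by the first `c` basis vectors -/
def Cc (n c : ℕ) : Submodule k (Fin n → k) :=
  Submodule.span k ((fun t : Fin n => (Pi.single t 1 : Fin n → k)) '' {t | t.val < c})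

theorem Mg_single (m n : ℕ) (g : ℕ → ℕ) (t : Fin n) :
    Matrix.toLin' (Mg k m n g) (Pi.single t 1) =
      fun s : Fin m => if s.val = g t.val then (1 : k) else 0 := by
  rw [Matrix.toLin'_apply, Matrix.mulVec_single_one]
  rfl

theorem Mg_single_lt (m n : ℕ) (g : ℕ → ℕ) (t : Fin n) (h : g t.val < m) :
    Matrix.toLin' (Mg k m n g) (Pi.single t 1) = Pi.single (⟨g t.val, h⟩ : Fin m) 1 := by
  rw [Mg_single]
  funext s
  rw [Pi.single_apply]
  simp only [Fin.ext_iff]

theorem Mg_single_ge (m n : ℕ) (g : ℕ → ℕ) (t : Fin n) (h : m ≤ g t.val) :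
    Matrix.toLin' (Mg k m n g) (Pi.single t 1) = 0 := by
  rw [Mg_single]
  funext s
  have := s.2
  rw [if_neg (by omega)]
  rfl

theorem map_Cc (m n c b : ℕ) (g : ℕ → ℕ) (hcn : c ≤ n) (hbm : b ≤ m)
    (H1 : ∀ t < c, g t < b ∨ m ≤ g t) (H2 : ∀ s < b, ∃ t < c, g t = s) :
    (Cc k n c).map (Matrix.toLin' (Mg k m n g)) = Cc k m b := by
  unfold Cc
  rw [Submodule.map_span]
  apply le_antisymm
  · rw [Submodule.span_le]
    rintro _ ⟨_, ⟨t, ht, rfl⟩, rfl⟩
    rcases H1 t.val ht with h | h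
    · have hm : g t.val < m := lt_of_lt_of_le h hbm
      rw [Mg_single_lt k m n g t hm]
      exact Submodule.subset_span ⟨⟨g t.val, hm⟩, h, rfl⟩
    · rw [Mg_single_ge k m n g t h]
      exact Submodule.zero_mem _
  · rw [Submodule.span_le]
    rintro _ ⟨s, hs, rfl⟩
    obtain ⟨t, ht, hgt⟩ := H2 s.val hs
    have htn : t < n := by omega
    refine Submodule.subset_span ⟨Pi.single ⟨t, htn⟩ 1, ⟨⟨t, htn⟩, ht, rfl⟩, ?_⟩
    have hm : g (⟨t, htn⟩ : Fin n).val < m := by
      show g t < m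
      rw [hgt]
      exact s.2
    rw [Mg_single_lt k m n g ⟨t, htn⟩ hm]
    congr 1
    exact Fin.ext hgt

theorem Cc_top (n : ℕ) : Cc k n n = ⊤ := by
  unfold Cc
  have h1 : {t : Fin n | t.val < n} = Set.univ := by
    ext t
    simp [t.2]
  have h2 : (fun t : Fin n => (Pi.single t 1 : Fin n → k)) = ⇑(Pi.basisFun k (Fin n)) := by
    funext t
    rw [Pi.basisFun_apply]
  rw [h1, Set.image_univ, h2]
  exact Basis.span_eq _

theorem finrank_Cc (n c : ℕ) (hcn : c ≤ n) : finrank k (Cc k n c) = c := by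
  unfold Cc
  rw [Set.image_eq_range]
  have hli : LinearIndependent k
      (fun t : {t : Fin n | t.val < c} => (Pi.single t.1 1 : Fin n → k)) := by
    have := (Pi.basisFun k (Fin n)).linearIndependent.comp
      (Subtype.val : {t : Fin n | t.val < c} → Fin n) Subtype.val_injective
    have h2 : (⇑(Pi.basisFun k (Fin n)) ∘ (Subtype.val : {t : Fin n | t.val < c} → Fin n)) =
        (fun t : {t : Fin n | t.val < c} => (Pi.single t.1 1 : Fin n → k)) := by
      funext t
      simp [Pi.basisFun_apply]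
    rw [h2] at this
    exact this
  rw [finrank_span_eq_card hli]
  have e : {t : Fin n | t.val < c} ≃ Fin c :=
    { toFun := fun t => ⟨t.1.1, t.2⟩
      invFun := fun s => ⟨⟨s.1, by omega⟩, s.2⟩
      left_inv := fun t => rfl
      right_inv := fun s => rfl }
  rw [Fintype.card_congr e, Fintype.card_fin]

variable {d : ℕ → ℕ}

/-- the array with `a 0 j` replaced by `0` -/
def AA (a : ℕ → ℕ → ℕ) (i j : ℕ) : ℕ := if i = 0 then 0 else a i j

theorem AA_zero (a : ℕ → ℕ → ℕ) (j : ℕ) : AA a 0 j = 0 := by simp [AA]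

theorem AA_succ (a : ℕ → ℕ → ℕ) (i j : ℕ) : AA a (i + 1) j = a (i + 1) j := by simp [AA]

theorem AA_pos (a : ℕ → ℕ → ℕ) {i : ℕ} (hi : 1 ≤ i) (j : ℕ) : AA a i j = a i j := by
  obtain ⟨i', rfl⟩ : ∃ i', i = i' + 1 := ⟨i - 1, by omega⟩
  exact AA_succ a i' j

theorem AA_col_mono {a : ℕ → ℕ → ℕ} {r : ℕ} (ha : IsRankArray d r a) (j : ℕ) (hj : j ≤ r) :
    ∀ i < j, AA a i j ≤ AA a (i + 1) j := by
  intro i hi
  cases i with
  | zero =>
    rw [AA_zero]
    exact Nat.zero_le _
  | succ i =>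
    rw [AA_succ, AA_succ]
    exact ha.2.1 (i + 1) j (by omega) hi hj

theorem AA_le_d {a : ℕ → ℕ → ℕ} {r : ℕ} (ha : IsRankArray d r a) (j : ℕ) (hj : j ≤ r)
    (i : ℕ) (hi1 : 1 ≤ i) (hij : i ≤ j) : a i j ≤ d j := by
  have h1 := le_of_step (fun i => AA a i j) j (AA_col_mono ha j hj) hij le_rfl
  rw [AA_pos a hi1, AA_pos a (by omega : 1 ≤ j), ha.1 j (by omega) hj] at h1
  exact h1

/-- normal form chain -/
noncomputable def nf (d : ℕ → ℕ) (a : ℕ → ℕ → ℕ) :
    (j : ℕ) → Matrix (Fin (d (j + 1))) (Fin (d j)) k :=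
  fun j => Mg k (d (j + 1)) (d j)
    (G (fun i => AA a i j) (fun i => AA a i (j + 1)) (d (j + 1)) j)

theorem W_nf {a : ℕ → ℕ → ℕ} {r : ℕ} (ha : IsRankArray d r a) :
    ∀ j, ∀ i, 1 ≤ i → i ≤ j → j ≤ r → W (nf k d a) i j = Cc k (d j) (a i j) := by
  intro j
  induction j with
  | zero =>
    intro i hi1 hij
    omega
  | succ j ih =>
    intro i hi1 hij hjr
    by_cases hi : i = j + 1
    · subst hi
      rw [W_self, ha.1 (j + 1) hi1 hjr, Cc_top]
    · have hij' : i ≤ j := by omega
      have hj1 : 1 ≤ j := by omega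
      rw [W_succ _ hij', ih i hi1 hij' (by omega)]
      have hc : ∀ i < j, AA a i j ≤ AA a (i + 1) j := AA_col_mono ha j (by omega)
      have hb : ∀ i < j, AA a i (j + 1) ≤ AA a (i + 1) (j + 1) := fun i hi =>
        AA_col_mono ha (j + 1) hjr i (by omega)
      have hd : ∀ i < j, AA a (i + 1) (j + 1) + AA a i j ≤ AA a (i + 1) j + AA a i (j + 1) := by
        intro i hi
        cases i with
        | zero =>
          rw [AA_zero, AA_zero, AA_succ, AA_succ]
          have := ha.2.2.1 1 j le_rfl hj1 (by omega)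
          simpa using this
        | succ i =>
          rw [AA_succ, AA_succ, AA_succ, AA_succ]
          have := ha.2.2.2 (i + 1 + 1) j (by omega) (by omega) (by omega)
          simpa using this
      apply map_Cc k _ _ _ _ _ (AA_le_d ha j (by omega) i hi1 hij')
        (AA_le_d ha (j + 1) hjr i hi1 hij)
      · intro t ht
        have hst := G_stable (fun i => AA a i j) (fun i => AA a i (j + 1)) (d (j + 1)) j hc
          hij' le_rfl (t := t) (by rw [AA_pos a hi1]; exact ht)
        rw [hst]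
        rcases G_P1 (fun i => AA a i j) (fun i => AA a i (j + 1)) (d (j + 1)) j hb (AA_zero a j)
          i hij' t (by rw [AA_pos a hi1]; exact ht) with h | h
        · left
          rw [AA_pos a hi1] at h
          exact h
        · right
          exact h.ge
      · intro s hs
        obtain ⟨t, ht, hG⟩ := G_P2 (fun i => AA a i j) (fun i => AA a i (j + 1)) (d (j + 1)) j
          hb hc hd (AA_zero a (j + 1)) i hij' s (by rw [AA_pos a hi1]; exact hs)
        have hst := G_stable (fun i => AA a i j) (fun i => AA a i (j + 1)) (d (j + 1)) j hc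
          hij' le_rfl (t := t) ht
        rw [AA_pos a hi1] at ht
        exact ⟨t, ht, hst.trans hG⟩

theorem part4 (a : ℕ → ℕ → ℕ) (r : ℕ) (ha : IsRankArray d r a) :
    ∃ f : (i : ℕ) → Matrix (Fin (d (i + 1))) (Fin (d i)) k,
      ∀ i j : ℕ, 1 ≤ i → i ≤ j → j ≤ r → rankArray f i j = a i j := by
  refine ⟨nf k d a, fun i j hi1 hij hjr => ?_⟩
  rw [rankArray_eq _ hij, W_nf k ha j i hi1 hij hjr]
  exact finrank_Cc k (d j) (a i j) (AA_le_d ha j hjr i hi1 hij)

end P4

end Aux

/-- Let k be a field and d_1, …, d_r sizes (given as a function d on the naturals; only d_1, …, d_r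
matter). The group Π_j GL_{d_j}(k) acts on chains of matrices f_i of size d_{i+1} × d_i (1 ≤ i < r)
by f_i ↦ g_{i+1} f_i g_i^(-1). Sending a chain to the array a_{i,j} = dim (f_{j-1} ⋯ f_i)(k^{d_i})
(1 ≤ i ≤ j ≤ r) is constant on orbits, takes values in the set of admissible arrays (a_{j,j} = d_j;
a_{i,j} ≤ a_{i+1,j} for i < j; a_{i,j+1} ≤ a_{i,j} for j < r; a_{i,j} - a_{i-1,j} ≥ a_{i,j+1} -
a_{i-1,j+1} for 1 < i ≤ j < r), separates orbits, and reaches every admissible array: it is a
bijection from the orbit set onto the admissible arrays. (The published statement also asserts that,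
when k is Galois over a subfield, the bijection is compatible with the Galois group acting entrywise
on matrices and trivially on arrays; this row omits that clause.) -/
theorem result (k : Type u) [Field k] (d : ℕ → ℕ) (r : ℕ) :
    (∀ (g : (j : ℕ) → Matrix.GeneralLinearGroup (Fin (d j)) k)
        (f : (i : ℕ) → Matrix (Fin (d (i + 1))) (Fin (d i)) k) (i j : ℕ),
        1 ≤ i → i ≤ j → j ≤ r → rankArray (conj g f) i j = rankArray f i j) ∧
    (∀ f : (i : ℕ) → Matrix (Fin (d (i + 1))) (Fin (d i)) k, IsRankArray d r (rankArray f)) ∧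
    (∀ f f' : (i : ℕ) → Matrix (Fin (d (i + 1))) (Fin (d i)) k,
        (∀ i j : ℕ, 1 ≤ i → i ≤ j → j ≤ r → rankArray f i j = rankArray f' i j) →
        ∃ g : (j : ℕ) → Matrix.GeneralLinearGroup (Fin (d j)) k,
          ∀ i : ℕ, 1 ≤ i → i + 1 ≤ r → conj g f i = f' i) ∧
    (∀ a : ℕ → ℕ → ℕ, IsRankArray d r a →
        ∃ f : (i : ℕ) → Matrix (Fin (d (i + 1))) (Fin (d i)) k,
          ∀ i j : ℕ, 1 ≤ i → i ≤ j → j ≤ r → rankArray f i j = a i j) := by
  exact ⟨fun g f i j _ hij _ => Aux.part1 g f i j hij, fun f => Aux.part2 f r,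
    fun f f' h => Aux.part3 f f' r h, fun a ha => Aux.part4 k a r ha⟩

end Groth.Agent.S14194
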