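import Groth.Statements.S14237
import Mathlib
import Groth.Agent.Lib.R2H7RootChSum

set_option autoImplicit false
universe u v w x
open RootCh RootCh.Facet

namespace Groth.Agent.S14237

/-- For a finite reduced crystallographic root system over a linearly ordered field and a facet F with
parabolic set of roots R(F) (the roots whose sign on F is not negative), the sum of the roots of
R(F) lies in F. -/
theorem result {ι : Type u} {R : Type v} {M : Type w} {N : Type x}
    [Field R] [LinearOrder R] [IsStrictOrderedRing R]
    [AddCommGroup M] [Module R M] [AddCommGroup N] [Module R N] [Finite ι]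
    (P : RootPairing ι R M N) [P.IsRootSystem] [P.IsCrystallographic] [P.IsReduced] (F : RootCh.Facet P) :
    (∑ i ∈ (Set.toFinite F.parab).toFinset, P.root i) ∈ F.carrier := by
  classical
  have := Fintype.ofFinite ι
  obtain ⟨ξ, hξ⟩ := F.exists_sgnVec_eq
  have hF : F = Facet.ofVec P ξ := Groth.Agent.Lib.R2H7.RootCh.Facet.eq_ofVec F hξ
  have hset : (Set.toFinite F.parab).toFinset =
      Finset.univ.filter (fun k => 0 ≤ P.coroot' k ξ) := by
    ext k
    rw [Set.Finite.mem_toFinset, Finset.mem_filter, hF,
      Groth.Agent.Lib.R2H7.RootCh.mem_parab_ofVec_iff]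
    exact ⟨fun h => ⟨Finset.mem_univ _, h⟩, fun h => h.2⟩
  rw [hset]
  change sgnVec P _ = F.sgn
  rw [← hξ]
  convert Groth.Agent.Lib.R2H7.RootCh.sgnVec_sum_nonneg_roots P ξ

end Groth.Agent.S14237
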