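import Groth.Statements.S14340
import Groth.Agent.Lib.R2H1DblCoverGeom

set_option autoImplicit false
set_option backward.isDefEq.respectTransparency.types false
universe u
open CategoryTheory CategoryTheory.Limits AlgebraicGeometry
open Curves

namespace Groth.Agent.S14340

/-- Let k be a field and C a smooth proper geometrically connected curve over k (of dimension one) of
genus g = dim_k H^1(C, O_C) ≥ 2 which is hyperelliptic: there is a morphism f : C → P^1_k over k,
finite and flat of constant rank 2; let L = f^*O(1) be its g^1_2. Then for every r with 0 ≤ r ≤ g −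
1 the k-vector space H^0(C, L^{⊗r}) has dimension r + 1. (The published statement asserts that the
pullback of sections H^0(P^1_k, O(r)) → H^0(C, L^{⊗r}) is an isomorphism and takes C projective;
this row states the equivalent dimension count, that map being injective for the dominant f with
source of dimension r + 1, and takes C proper, which for curves over a field is the same.) -/
theorem result (k : Type u) [Field k] (C : Scheme.{u}) [C.Over (Spec (CommRingCat.of k))] [IsProper (C ↘ Spec (CommRingCat.of k))] [Smooth (C ↘ Spec (CommRingCat.of k))] [GeometricallyConnected (C ↘ Spec (CommRingCat.of k))] (hC : topologicalKrullDim C = 1) (g : ℕ) (hg2 : 2 ≤ g) (hg : Curv2.genus k C = g) (f : C ⟶ CohB1.ProjSpace 1 k) (hf : f ≫ CohB1.ProjSpace.toSpec 1 k = C ↘ Spec (CommRingCat.of k)) [IsFinite f] [Flat f] (hrk : ∀ y : ↥(CohB1.ProjSpace 1 k), Scheme.Hom.finrank f y = 2) (r : ℕ) (hr : r + 1 ≤ g) : Module.finrank k (Coh.HH C (CohB1.tensorPow ((Scheme.Modules.pullback f).obj (Twist.twistProjSpace 1 k 1)) r) 0) = r + 1 := by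
  haveI : IsIntegral C := Groth.Agent.Lib.R2H1.VBSub.isIntegral_of_smooth_geomConn k C
  have hX0 := Groth.Agent.Lib.R2H1.DblCoverGeom.hX0_of_geomConn k C
  have hfin : @IsFinite C (Proj (CohB1.polyGrading 1 k)) f := ‹IsFinite f›
  have hflat : @Flat C (Proj (CohB1.polyGrading 1 k)) f := ‹Flat f›
  have hres := @Groth.Agent.Lib.R2H1.DblCoverGeom.residueDegree_of_finrank k _ C _ _ _ _ _ hC f hf
    hfin hflat 2 hrk
  obtain ⟨y, P, Q, -, -, -, -, -, -, -, -, c9⟩ :=
    @Groth.Agent.Lib.R2H1.DblCoverGeom.geom_main k _ C _ _ _ _ _ hC hX0 f hf hfin hres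
  exact c9 r (by omega)

end Groth.Agent.S14340
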