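import Groth.Statements.S14423
import Mathlib
import Groth.Agent.Lib.R2H7GrFreeTor

set_option autoImplicit false
universe u
open CategoryTheory
open CAlg

namespace Groth.Agent.S14423

/-- Graded freeness criterion: let k be a field, S = k[x_0, …, x_n] with its standard grading by degree,
and M a finitely generated graded S-module. If Tor_1^S(M, k) = 0, where k = S/S_+ (S modulo the
ideal of polynomials with zero constant term) and Tor_1^S(M, ·) is the first left derived functor of
M ⊗_S ·, then M is free with a basis of homogeneous elements, i.e. M is isomorphic as a graded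
module to a finite direct sum of shifted copies S(−d_i). (Here the module is graded in non-negative
degrees; the published statement allows any integer degrees.) -/
theorem result (k : Type u) [Field k] (n : ℕ)
    (M : Type u) [AddCommGroup M] [Module (MvPolynomial (Fin (n + 1)) k) M]
    [Module.Finite (MvPolynomial (Fin (n + 1)) k) M]
    (ℳ : ℕ → AddSubgroup M)
    [SetLike.GradedSMul (MvPolynomial.homogeneousSubmodule (Fin (n + 1)) k) ℳ]
    [DirectSum.Decomposition ℳ]
    (h : Limits.IsZero (((Tor (ModuleCat.{u} (MvPolynomial (Fin (n + 1)) k)) 1).obj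
      (ModuleCat.of (MvPolynomial (Fin (n + 1)) k) M)).obj
      (ModuleCat.of (MvPolynomial (Fin (n + 1)) k)
        (MvPolynomial (Fin (n + 1)) k ⧸
          RingHom.ker (MvPolynomial.constantCoeff : MvPolynomial (Fin (n + 1)) k →+* k))))) :
    ∃ (ι : Type u) (b : Module.Basis ι (MvPolynomial (Fin (n + 1)) k) M),
      ∀ i, SetLike.IsHomogeneousElem ℳ (b i) := by
  classical
  apply Groth.Agent.Lib.R2H7.GrFreeTor.exists_homogeneous_basis ℳ
  have hS := Groth.Agent.Helper13Ses.sesSub_shortExact (R := MvPolynomial (Fin (n + 1)) k)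
    (M := MvPolynomial (Fin (n + 1)) k)
    (RingHom.ker (MvPolynomial.constantCoeff : MvPolynomial (Fin (n + 1)) k →+* k))
  haveI : Module.Flat (MvPolynomial (Fin (n + 1)) k)
      ((Groth.Agent.Helper13Ses.sesSub (R := MvPolynomial (Fin (n + 1)) k)
        (M := MvPolynomial (Fin (n + 1)) k)
        (RingHom.ker (MvPolynomial.constantCoeff : MvPolynomial (Fin (n + 1)) k →+* k))).X₂ :
        ModuleCat (MvPolynomial (Fin (n + 1)) k)) :=
    inferInstanceAs (Module.Flat (MvPolynomial (Fin (n + 1)) k) (MvPolynomial (Fin (n + 1)) k))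
  have h₂ := Groth.Agent.Helper13Tor.isZero_tor_of_flat_right
    (ModuleCat.of (MvPolynomial (Fin (n + 1)) k) M)
    ((Groth.Agent.Helper13Ses.sesSub (R := MvPolynomial (Fin (n + 1)) k)
        (M := MvPolynomial (Fin (n + 1)) k)
        (RingHom.ker (MvPolynomial.constantCoeff : MvPolynomial (Fin (n + 1)) k →+* k))).X₂) 1 Nat.one_pos
  exact (Groth.Agent.Helper13Tor.isZero_tor_one_iff_lTensor_injective
    (ModuleCat.of (MvPolynomial (Fin (n + 1)) k) M) _ hS h₂).1 h

end Groth.Agent.S14423
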