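import Groth.Statements.S1445
import Groth.Agent.Lib.R2H3UFOpenA
import Groth.Agent.Lib.R2H3UFOpenE

set_option autoImplicit false
set_option linter.style.haveILetI false
universe u
open FlatMor

namespace Groth.Agent.S1445

open AlgebraicGeometry CategoryTheory Limits in
/-- Let f : X → Y be quasi-finite and of finite presentation with X and Y affine. Then there are a
morphism Y_u → Y of finite presentation and an open U_u of Y_u ×_Y X finite over Y_u such that for
every morphism Y' → Y with Y' affine and every open U' of Y' ×_Y X finite over Y', some morphism Y'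
→ Y_u over Y pulls U_u back to U'. -/
theorem result {X Y : Scheme.{u}} (f : X ⟶ Y) [IsAffine X] [IsAffine Y] [LocallyQuasiFinite f] [LocallyOfFinitePresentation f] :
    ∃ (Yu : Scheme.{u}) (a : Yu ⟶ Y) (Uu : (pullback f a).Opens), LocallyOfFinitePresentation a ∧ QuasiCompact a ∧ QuasiSeparated a ∧
      IsFinite (Uu.ι ≫ pullback.snd f a) ∧
      ∀ (Y' : Scheme.{u}) (b : Y' ⟶ Y) (U' : (pullback f b).Opens), IsAffine Y' → IsFinite (U'.ι ≫ pullback.snd f b) →
        ∃ (c : Y' ⟶ Yu) (hc : c ≫ a = b),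
          (pullback.map f b f a (𝟙 X) c (𝟙 Y) ((Category.comp_id f).trans (Category.id_comp f).symm) ((Category.comp_id b).trans hc.symm)) ⁻¹ᵁ Uu = U' := by
  classical
  letI algB : Algebra Γ(Y, ⊤) Γ(X, ⊤) := f.appTop.hom.toAlgebra
  haveI : Algebra.FinitePresentation Γ(Y, ⊤) Γ(X, ⊤) :=
    (HasRingHomProperty.iff_of_isAffine (P := @LocallyOfFinitePresentation)).mp ‹_›
  haveI : Algebra.QuasiFinite Γ(Y, ⊤) Γ(X, ⊤) :=
    (HasRingHomProperty.iff_of_isAffine (P := @LocallyQuasiFinite)).mp ‹_›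
  obtain ⟨C, _, _, hfinC, hfpC, φ, s, hspan, hgood⟩ :=
    Groth.Agent.Lib.R2H3.UFOpenA.exists_finite_model (A := Γ(Y, ⊤)) (B := Γ(X, ⊤))
  let αC : Γ(Y, ⊤) ⟶ CommRingCat.of C := CommRingCat.ofHom (algebraMap Γ(Y, ⊤) C)
  let φC : CommRingCat.of C ⟶ Γ(X, ⊤) := CommRingCat.ofHom (φ : C →+* Γ(X, ⊤))
  let T : Scheme.{u} := Spec (CommRingCat.of C)
  let π : T ⟶ Y := Spec.map αC ≫ Y.isoSpec.inv
  let j : X ⟶ T := X.isoSpec.hom ≫ Spec.map φC
  have hαφ : αC ≫ φC = f.appTop := by
    ext r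
    show φ (algebraMap Γ(Y, ⊤) C r) = f.appTop.hom r
    rw [φ.commutes]; rfl
  have hjπ : j ≫ π = f := by
    show (X.isoSpec.hom ≫ Spec.map φC) ≫ Spec.map αC ≫ Y.isoSpec.inv = f
    rw [Category.assoc, ← Spec.map_comp_assoc, hαφ, ← Category.assoc,
      Scheme.isoSpec_hom_naturality, Category.assoc, Iso.hom_inv_id, Category.comp_id]
  haveI : IsOpenImmersion (Spec.map φC) :=
    Groth.Agent.Lib.R2H3.UFOpenC.isOpenImmersion_SpecMap_of_awayMap (φ : C →+* Γ(X, ⊤)) s hspan
      hgood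
  haveI : IsOpenImmersion j := inferInstance
  haveI : IsFinite (Spec.map αC) :=
    (IsFinite.SpecMap_iff (f := αC)).mpr (RingHom.finite_algebraMap.mpr hfinC)
  haveI : IsFinite π := inferInstance
  let gs : Finset Γ(T, ⊤) := s.image (Scheme.ΓSpecIso (CommRingCat.of C)).inv.hom
  have hgs : j.opensRange = ⨆ g ∈ gs, T.basicOpen g := by
    ext y
    have hsurj : Function.Surjective X.isoSpec.hom := X.isoSpec.hom.homeomorph.surjective
    have h1 : y ∈ j.opensRange ↔ y ∈ Set.range (Spec.map φC) := by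
      show y ∈ Set.range (X.isoSpec.hom ≫ Spec.map φC) ↔ _
      rw [Scheme.Hom.comp_base, TopCat.coe_comp, Set.range_comp]
      have : Set.range (X.isoSpec.hom) = Set.univ := Set.range_eq_univ.mpr hsurj
      erw [this, Set.image_univ]
    have h2 : Set.range (Spec.map φC) = ⋃ g ∈ s,
        (PrimeSpectrum.basicOpen g : Set (PrimeSpectrum C)) :=
      Groth.Agent.Lib.R2H3.UFOpenC.range_SpecMap_of_awayMap (φ : C →+* Γ(X, ⊤)) s hspan hgood
    have h3 : y ∈ Set.range (Spec.map φC) ↔ ∃ g ∈ s, y ∈ (PrimeSpectrum.basicOpen g :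
        Set (PrimeSpectrum C)) := by
      rw [h2]
      exact Set.mem_iUnion₂.trans (by simp only [exists_prop]; rfl)
    rw [SetLike.mem_coe, SetLike.mem_coe, h1, h3]
    simp only [TopologicalSpace.Opens.mem_iSup, gs, Finset.mem_image, exists_prop]
    constructor
    · rintro ⟨g, hg, hy⟩
      refine ⟨_, ⟨g, hg, rfl⟩, ?_⟩
      have := basicOpen_eq_of_affine (R := CommRingCat.of C) g
      rw [this]
      exact hy
    · rintro ⟨_, ⟨g, hg, rfl⟩, hy⟩
      refine ⟨g, hg, ?_⟩
      have := basicOpen_eq_of_affine (R := CommRingCat.of C) g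
      rw [this] at hy
      exact hy
  have hfp : π.appTop.hom.FinitePresentation := by
    have h1 : π.appTop = αC ≫ (Scheme.ΓSpecIso (CommRingCat.of C)).inv := by
      show (Spec.map αC ≫ Y.isoSpec.inv).appTop = _
      rw [Scheme.Hom.comp_appTop, Groth.Agent.Lib.R2H3.UFOpenD.isoSpec_inv_appTop,
        Scheme.ΓSpecIso_inv_naturality]
    rw [h1]
    have h2 : (algebraMap Γ(Y, ⊤) C).FinitePresentation :=
      RingHom.finitePresentation_algebraMap.mpr hfpC
    exact RingHom.finitePresentation_respectsIso.1 _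
      (Scheme.ΓSpecIso (CommRingCat.of C)).symm.commRingCatIsoToRingEquiv h2
  exact Groth.Agent.Lib.R2H3.UFOpenE.core f j π hjπ gs hgs hfp

end Groth.Agent.S1445
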