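import Groth.Statements.S14473
import Groth.Agent.Lib.R2H1EllAut

set_option autoImplicit false
universe u
open CategoryTheory CategoryTheory.Limits AlgebraicGeometry
open Curves

namespace Groth.Agent.S14473

/-- Let k be an algebraically closed field and C a smooth proper connected curve over k (proper and
smooth over k, integral, of dimension one) of genus 1, the genus being the dimension of H¹(C, O_C).
Then the group of k-automorphisms of C is infinite: there are infinitely many automorphisms of the
scheme C over Spec k. -/
theorem result (k : Type u) [Field k] [IsAlgClosed k]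
    (C : Scheme.{u}) [C.Over (Spec (CommRingCat.of k))] (hC : Curve.IsSmoothProperCurve k C (C ↘ (Spec (CommRingCat.of k))))
    (hg : Curv2.genus k C = 1) :
    Infinite {e : C ≅ C // e.hom ≫ (C ↘ (Spec (CommRingCat.of k))) = C ↘ (Spec (CommRingCat.of k))} := by
  obtain ⟨h1, h2, h3, h4⟩ := hC
  haveI := h1
  haveI := h2
  haveI := h3
  have hreg := Groth.Agent.Lib.R2H1.VBSub.hreg_of_smooth k C
  exact Groth.Agent.Lib.R2H1.EllAut.infinite_aut k C h4 hreg hg

end Groth.Agent.S14473
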