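import Groth.Statements.S14497
import Mathlib

set_option autoImplicit false
set_option linter.style.haveILetI false
universe v u
open IndCof

namespace Groth.Agent.S14497

section aux
open CategoryTheory CategoryTheory.Limits

variable {V : Type u} [Category.{v} V] [Abelian V]

/-- precomposing with an epimorphism does not change the image subobject (abelian case) -/
lemma imageSubobject_epi_comp {X' X Y : V} (h : X' ⟶ X) [Epi h] (f : X ⟶ Y) :
    imageSubobject (h ≫ f) = imageSubobject f := by
  refine le_antisymm (imageSubobject_comp_le h f) ?_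
  haveI : IsIso (Subobject.ofLE _ _ (imageSubobject_comp_le h f)) :=
    isIso_of_mono_of_epi _
  exact Subobject.le_of_comm (inv (Subobject.ofLE _ _ (imageSubobject_comp_le h f))) (by simp)

lemma imageSubobject_eq_of_eq {X Y : V} {f g : X ⟶ Y} (h : f = g) :
    imageSubobject f = imageSubobject g := by
  subst h; rfl

/-- the image subobject of the arrow of a subobject is the subobject itself -/
lemma imageSubobject_arrow_self {B : V} (S : Subobject B) : imageSubobject S.arrow = S := by
  rw [imageSubobject_mono, Subobject.mk_arrow]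

/-- if the image of `g ≫ S.arrow` is all of `S`, then `g` is an epimorphism -/
lemma epi_of_imageSubobject_comp_arrow_eq {B X : V} (S : Subobject B) (g : X ⟶ (S : V))
    (h : imageSubobject (g ≫ S.arrow) = S) : Epi g := by
  have hle : imageSubobject (g ≫ S.arrow) ≤ S := h.le
  have hge : S ≤ imageSubobject (g ≫ S.arrow) := h.ge
  have hg : g = factorThruImageSubobject (g ≫ S.arrow) ≫ Subobject.ofLE _ _ hle := by
    rw [← cancel_mono S.arrow, Category.assoc, Subobject.ofLE_arrow, imageSubobject_arrow_comp]
  haveI : IsIso (Subobject.ofLE _ _ hle) := by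
    refine ⟨Subobject.ofLE _ _ hge, ?_, ?_⟩
    · rw [Subobject.ofLE_comp_ofLE, Subobject.ofLE_refl]
    · rw [Subobject.ofLE_comp_ofLE, Subobject.ofLE_refl]
  rw [hg]
  exact epi_comp _ _

/-- if `f ≫ cokernel.π S.arrow = 0` then `f` factors through `S` -/
lemma imageSubobject_le_of_comp_cokernel_zero {A B : V} (S : Subobject B) (f : A ⟶ B)
    (h : f ≫ cokernel.π S.arrow = 0) : imageSubobject f ≤ S := by
  -- `S.arrow` is the kernel of its cokernel
  let hk := Abelian.monoIsKernelOfCokernel _ (colimit.isColimit (parallelPair S.arrow 0))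
  let l : A ⟶ (S : V) := hk.lift (KernelFork.ofι f h)
  have hl : l ≫ S.arrow = f := hk.fac (KernelFork.ofι f h) WalkingParallelPair.zero
  exact imageSubobject_le f l hl

/-- multiplication by `n` commutes with any morphism -/
lemma nsmul_id_comp {A B : V} (n : ℕ) (f : A ⟶ B) : (n • 𝟙 A) ≫ f = f ≫ (n • 𝟙 B) := by
  simp

/-- a divisible subobject is contained in a subobject with bounded-torsion cokernel -/
lemma le_of_divisible_of_killed {B : V} (B' D : Subobject B) (M : ℕ)
    (hD : Epi (M • 𝟙 (D : V))) (hM : M • 𝟙 (cokernel B'.arrow) = 0) : D ≤ B' := by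
  have h0 : D.arrow ≫ cokernel.π B'.arrow = 0 := by
    haveI := hD
    rw [← cancel_epi (M • 𝟙 (D : V)), comp_zero]
    have : (M • 𝟙 (D : V)) ≫ D.arrow ≫ cokernel.π B'.arrow =
        (D.arrow ≫ cokernel.π B'.arrow) ≫ (M • 𝟙 (cokernel B'.arrow)) := by simp
    rw [this, hM, comp_zero]
  have := imageSubobject_le_of_comp_cokernel_zero B' D.arrow h0
  rwa [imageSubobject_arrow_self] at this

end aux


open CategoryTheory CategoryTheory.Limits in
/-- Let B be an object of an abelian category and consider the inverse system, indexed by the positive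
integers ordered by divisibility, with every term equal to B and transition map from the m-th to the
n-th term (n ∣ m) given by multiplication by m/n. This system is Mittag-Leffler, i.e. for every n
the images in the n-th term of the transition maps are eventually constant, if and only if B has a
divisible sub-object B' (multiplication by every positive integer is an epimorphism of B') with B/B'
killed by some positive integer. Moreover such a B' is the largest divisible sub-object of B. -/
theorem result
    {V : Type u} [Category.{v} V] [Abelian V] (B : V) :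
    ((∀ n : ℕ, 0 < n → ∃ m : ℕ, 0 < m ∧ n ∣ m ∧ ∀ m' : ℕ, 0 < m' → m ∣ m' →
        imageSubobject ((m' / n) • 𝟙 B) = imageSubobject ((m / n) • 𝟙 B)) ↔
      ∃ B' : Subobject B, (∀ k : ℕ, 0 < k → Epi (k • 𝟙 (B' : V))) ∧
        ∃ M : ℕ, 0 < M ∧ M • 𝟙 (cokernel B'.arrow) = 0) ∧
    (∀ B' : Subobject B, (∀ k : ℕ, 0 < k → Epi (k • 𝟙 (B' : V))) →
      (∃ M : ℕ, 0 < M ∧ M • 𝟙 (cokernel B'.arrow) = 0) →
      ∀ D : Subobject B, (∀ k : ℕ, 0 < k → Epi (k • 𝟙 (D : V))) → D ≤ B') := by
  have keyfwd : ∀ (B' : Subobject B) (M : ℕ), (∀ k : ℕ, 0 < k → Epi (k • 𝟙 (B' : V))) → 0 < M →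
      M • 𝟙 (cokernel B'.arrow) = 0 → ∀ j : ℕ, 0 < j → imageSubobject ((M * j) • 𝟙 B) = B' := by
    intro B' M hdiv hMpos hM j hj
    apply le_antisymm
    · apply imageSubobject_le_of_comp_cokernel_zero
      have : ((M * j) • 𝟙 B) ≫ cokernel.π B'.arrow =
          (j • cokernel.π B'.arrow) ≫ (M • 𝟙 (cokernel B'.arrow)) := by
        simp only [Preadditive.nsmul_comp, Preadditive.comp_nsmul, Category.id_comp, Category.comp_id,
          mul_smul]
      rw [this, hM, comp_zero]
    · haveI := hdiv (M * j) (Nat.mul_pos hMpos hj)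
      calc B' = imageSubobject B'.arrow := (imageSubobject_arrow_self B').symm
        _ = imageSubobject (((M * j) • 𝟙 (B' : V)) ≫ B'.arrow) :=
            (imageSubobject_epi_comp _ _).symm
        _ = imageSubobject (B'.arrow ≫ ((M * j) • 𝟙 B)) := by rw [nsmul_id_comp]
        _ ≤ imageSubobject ((M * j) • 𝟙 B) := imageSubobject_comp_le _ _
  refine ⟨⟨?_, ?_⟩, ?_⟩
  · -- Mittag-Leffler ⇒ divisible subobject with bounded cokernel
    intro hML
    obtain ⟨m, hmpos, -, hm⟩ := hML 1 Nat.one_pos
    simp only [Nat.div_one] at hm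
    refine ⟨imageSubobject (m • 𝟙 B), ?_, m, hmpos, ?_⟩
    · intro k hk
      apply epi_of_imageSubobject_comp_arrow_eq (imageSubobject (m • 𝟙 B))
      have h1 : (m * k) • 𝟙 B = factorThruImageSubobject (m • 𝟙 B) ≫
          ((k • 𝟙 ((imageSubobject (m • 𝟙 B) : Subobject B) : V)) ≫
            (imageSubobject (m • 𝟙 B)).arrow) := by
        rw [nsmul_id_comp, ← Category.assoc, imageSubobject_arrow_comp]
        simp [mul_smul, mul_comm m k]
      have h2 := hm (m * k) (Nat.mul_pos hmpos hk) (Dvd.intro k rfl)
      exact (imageSubobject_epi_comp (factorThruImageSubobject (m • 𝟙 B)) _).symm.trans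
        ((imageSubobject_eq_of_eq h1).symm.trans h2)
    · have h0 : (m • 𝟙 B) ≫ cokernel.π (imageSubobject (m • 𝟙 B)).arrow = 0 := by
        calc (m • 𝟙 B) ≫ cokernel.π (imageSubobject (m • 𝟙 B)).arrow
            = (factorThruImageSubobject (m • 𝟙 B) ≫ (imageSubobject (m • 𝟙 B)).arrow) ≫
                cokernel.π (imageSubobject (m • 𝟙 B)).arrow := by
              rw [imageSubobject_arrow_comp]
          _ = 0 := by rw [Category.assoc, cokernel.condition, comp_zero]
      rw [← cancel_epi (cokernel.π (imageSubobject (m • 𝟙 B)).arrow), comp_zero]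
      rw [← nsmul_id_comp]
      exact h0
  · -- converse
    rintro ⟨B', hdiv, M, hMpos, hM⟩ n hn
    refine ⟨n * M, Nat.mul_pos hn hMpos, Dvd.intro M rfl, ?_⟩
    intro m' hm' hdvd
    obtain ⟨j, rfl⟩ := hdvd
    have hj : 0 < j := by
      rcases Nat.eq_zero_or_pos j with h | h
      · subst h; simp at hm'
      · exact h
    have e1 : n * M * j / n = M * j := by
      rw [mul_assoc]; exact Nat.mul_div_cancel_left _ hn
    have e2 : n * M / n = M * 1 := by
      rw [mul_one]; exact Nat.mul_div_cancel_left _ hn
    rw [e1, e2, keyfwd B' M hdiv hMpos hM j hj, keyfwd B' M hdiv hMpos hM 1 Nat.one_pos]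
  · -- maximality
    rintro B' hdiv ⟨M, hMpos, hM⟩ D hD
    exact le_of_divisible_of_killed B' D M (hD M hMpos) hM

end Groth.Agent.S14497
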