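import Groth.Statements.S14525
import Mathlib
import Groth.Agent.Lib.R2H4HodgeIdx

set_option autoImplicit false
universe u
open CategoryTheory CategoryTheory.Limits AlgebraicGeometry
open Surf

namespace Groth.Agent.S14525

/-- Let k be an algebraically closed field, X a smooth projective surface over k (integral, smooth over
k, of dimension two, with a closed immersion over k into some projective space), L an invertible
O_X-module with tensor inverse L' such that (L·L) > 0, and M an ample invertible module with tensor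
inverse M'; intersection numbers are the alternating Euler-characteristic sums in the inverses (the
prelude's FGA.intNum, so (L·L) is computed in L', L' and (L·M) in L', M'). Then (L·M) ≠ 0; if (L·M)
> 0 there is c > 0 with dim_k H^0(X, L^{⊗m}) > c·m² for all large m, and if (L·M) < 0 the same holds
for L' in place of L. -/
theorem result (k : Type u) [Field k] [IsAlgClosed k]
    (X : Scheme.{u}) [X.Over (Spec (CommRingCat.of k))] [IsIntegral X] [Smooth (X ↘ (Spec (CommRingCat.of k)))] (hdim : topologicalKrullDim X = 2)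
    (hprojX : ∃ (N : ℕ) (ι : X ⟶ CohB1.ProjSpace N k), IsClosedImmersion ι ∧ ι ≫ CohB1.ProjSpace.toSpec N k = (X ↘ (Spec (CommRingCat.of k))))
    (L L' : X.Modules) (hL : PicF.IsInvertible L) (hLL' : ClSub.IsInverseOf L L')
    (hpos : 0 < FGA.intNum k X 2 ![L', L'] (Coh.structureModule X))
    (M M' : X.Modules) (hM : CohB1.IsAmple M) (hMM' : ClSub.IsInverseOf M M') :
    FGA.intNum k X 2 ![L', M'] (Coh.structureModule X) ≠ 0 ∧
    (0 < FGA.intNum k X 2 ![L', M'] (Coh.structureModule X) →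
      ∃ c : ℚ, 0 < c ∧ ∃ m₀ : ℕ, ∀ m : ℕ, m₀ ≤ m →
        c * (m : ℚ) ^ 2 < (Module.finrank k (Coh.HH X (CohB1.tensorPow L m) 0) : ℚ)) ∧
    (FGA.intNum k X 2 ![L', M'] (Coh.structureModule X) < 0 →
      ∃ c : ℚ, 0 < c ∧ ∃ m₀ : ℕ, ∀ m : ℕ, m₀ ≤ m →
        c * (m : ℚ) ^ 2 < (Module.finrank k (Coh.HH X (CohB1.tensorPow L' m) 0) : ℚ)) := by
  obtain ⟨N, ι, hιc, hι⟩ := hprojX
  haveI := hιc
  haveI : IsProper (X ↘ Spec (CommRingCat.of k)) :=
    Groth.Agent.Lib.R2H3.DualCount.isProper_of_closedImmersion k N ι hι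
  obtain ⟨eL⟩ := hLL'
  obtain ⟨eM⟩ := hMM'
  have hd : topologicalKrullDim X ≤ ((2 : ℕ) : WithBot ℕ∞) := hdim.le
  have hL' : PicF.IsInvertible L' :=
    Groth.Agent.Lib.Helper2.TensorInv.isInvertible_of_tensor_iso L' L
      (Groth.Agent.Lib.R2H4TensorPows.tComm _ _ ≪≫ eL)
  have hO : PicF.IsInvertible (Coh.structureModule X) :=
    Groth.Agent.Lib.Helper23.TensorUnit.isInvertible_structureModule X
  have cO : Coh.IsCoh (Coh.structureModule X) :=
    Groth.Agent.Lib.R2H4SSDescent.isCoh_of_isInvertible _ hO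
  have hsuppO : topologicalKrullDim (CohB1.support (Coh.structureModule X)) ≤
      ((1 + 1 : ℕ) : WithBot ℕ∞) :=
    (Topology.IsInducing.subtypeVal).topologicalKrullDim_le.trans hd
  have h1 := Groth.Agent.Lib.R2H4SurfDual.intNum_inv_inv k hdim L L' L L' hL hL eL eL
  have h2 := Groth.Agent.Lib.R2H4SurfDual.intNum_inv_inv k hdim L L' M M' hL hM.1 eL eM
  -- `(L' · M) = -(L · M)`
  have h3 : FGA.intNum k X 2 ![L', M] (Coh.structureModule X) =
      - FGA.intNum k X 2 ![L, M] (Coh.structureModule X) :=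
    Groth.Agent.Lib.R2H4SurfHyp.intNum_cons_inv k 2 hd
      (Fin.cons M (Fin.elim0 : Fin 0 → X.Modules) : Fin 1 → X.Modules)
      (Groth.Agent.Lib.R2H4SurfDual.inv1 M hM.1) L' L hL' hL
      (Groth.Agent.Lib.R2H4TensorPows.tComm L' L ≪≫ eL) (Coh.structureModule X) cO hsuppO
  rw [h2]
  rw [h1] at hpos
  refine ⟨?_, ?_, ?_⟩
  · intro h0
    have := Groth.Agent.Lib.R2H4HodgeIdx.hodge_ample k hdim M hM L hL h0
    exact absurd hpos (not_lt.2 this)
  · intro hLM
    obtain ⟨m₀, hm₀⟩ := Groth.Agent.Lib.R2H4SurfDual.pow_sections' k hdim M hM L hL hpos hLM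
    refine ⟨(FGA.intNum k X 2 ![L, L] (Coh.structureModule X) : ℚ) / 4, ?_, m₀, hm₀⟩
    have : (0 : ℚ) < (FGA.intNum k X 2 ![L, L] (Coh.structureModule X) : ℚ) := by
      exact_mod_cast hpos
    positivity
  · intro hLM
    have hpos' : 0 < FGA.intNum k X 2 ![L', L'] (Coh.structureModule X) := by rw [h1]; exact hpos
    have hLM' : 0 < FGA.intNum k X 2 ![L', M] (Coh.structureModule X) := by rw [h3]; linarith
    obtain ⟨m₀, hm₀⟩ := Groth.Agent.Lib.R2H4SurfDual.pow_sections' k hdim M hM L' hL' hpos' hLM'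
    refine ⟨(FGA.intNum k X 2 ![L', L'] (Coh.structureModule X) : ℚ) / 4, ?_, m₀, hm₀⟩
    have : (0 : ℚ) < (FGA.intNum k X 2 ![L', L'] (Coh.structureModule X) : ℚ) := by
      exact_mod_cast hpos'
    positivity

end Groth.Agent.S14525
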