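import Groth.Statements.S14608
import Mathlib

set_option autoImplicit false
universe u v
open CAlg

namespace Groth.Agent.S14608

namespace Aux
open TensorProduct

section nat
variable {A : Type u} [CommRing A] (p : Ideal A) [p.IsPrime]

/-- cancel base change, `κ ⊗[S] (S ⊗[A] X) ≃ κ ⊗[A] X` -/
noncomputable def cb (X : Type v) [AddCommGroup X] [Module A X] :
    p.ResidueField ⊗[Localization.AtPrime p] (Localization.AtPrime p ⊗[A] X) ≃ₗ[p.ResidueField]
      p.ResidueField ⊗[A] X :=
  AlgebraTensorModule.cancelBaseChange A (Localization.AtPrime p) p.ResidueField p.ResidueField X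

theorem cb_nat {X Y : Type v} [AddCommGroup X] [Module A X] [AddCommGroup Y] [Module A Y]
    (f : X →ₗ[A] Y)
    (z : p.ResidueField ⊗[Localization.AtPrime p] (Localization.AtPrime p ⊗[A] X)) :
    cb p Y (LinearMap.lTensor p.ResidueField (f.baseChange (Localization.AtPrime p)) z) =
      LinearMap.lTensor p.ResidueField f (cb p X z) := by
  induction z using TensorProduct.induction_on with
  | zero => simp
  | tmul k y =>
    induction y using TensorProduct.induction_on with
    | zero => simp
    | tmul s x => simp [cb]
    | add y1 y2 h1 h2 =>
      rw [TensorProduct.tmul_add, map_add, map_add, map_add, map_add, h1, h2]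
  | add z1 z2 h1 h2 => rw [map_add, map_add, map_add, map_add, h1, h2]

theorem injective_iff {X Y : Type v} [AddCommGroup X] [Module A X] [AddCommGroup Y] [Module A Y]
    (f : X →ₗ[A] Y) :
    Function.Injective (LinearMap.lTensor p.ResidueField (f.baseChange (Localization.AtPrime p))) ↔
      Function.Injective (LinearMap.lTensor p.ResidueField f) := by
  constructor
  · intro h x y hxy
    obtain ⟨x', rfl⟩ := (cb p X).surjective x
    obtain ⟨y', rfl⟩ := (cb p X).surjective y
    rw [← cb_nat, ← cb_nat] at hxy
    rw [h ((cb p Y).injective hxy)]
  · intro h x y hxy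
    apply (cb p X).injective
    apply h
    rw [← cb_nat, ← cb_nat, hxy]

end nat

section main
variable {A : Type u} [CommRing A]
    {M : Type v} {F : Type v} [AddCommGroup M] [Module A M] [Module.Finite A M]
    [AddCommGroup F] [Module A F] [Module.Finite A F] [Module.Free A F]
    (δ : M →ₗ[A] F) (p : Ideal A) [p.IsPrime]

theorem a_iff :
    Function.Exact (LinearMap.lTensor p.ResidueField (LinearMap.ker δ).subtype)
        (LinearMap.lTensor p.ResidueField δ) ↔
      Function.Injective (LinearMap.lTensor p.ResidueField (LinearMap.range δ).subtype) := by
  have hex : Function.Exact (LinearMap.lTensor p.ResidueField (LinearMap.ker δ).subtype)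
      (LinearMap.lTensor p.ResidueField δ.rangeRestrict) := by
    apply lTensor_exact
    · intro x
      constructor
      · intro hx
        exact ⟨⟨x, by
          have := congrArg Subtype.val hx
          simpa using this⟩, rfl⟩
      · rintro ⟨y, rfl⟩
        apply Subtype.ext
        simp
    · exact δ.surjective_rangeRestrict
  have hsurj : Function.Surjective (LinearMap.lTensor p.ResidueField δ.rangeRestrict) :=
    LinearMap.lTensor_surjective _ δ.surjective_rangeRestrict
  have hcomp : ∀ x, LinearMap.lTensor p.ResidueField δ x =
      LinearMap.lTensor p.ResidueField (LinearMap.range δ).subtype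
        (LinearMap.lTensor p.ResidueField δ.rangeRestrict x) := by
    intro x
    rw [← LinearMap.comp_apply, ← LinearMap.lTensor_comp, LinearMap.subtype_comp_codRestrict]
  constructor
  · intro ha
    rw [injective_iff_map_eq_zero]
    intro y hy
    obtain ⟨x, rfl⟩ := hsurj y
    rw [← hcomp] at hy
    exact (hex x).mpr ((ha x).mp hy)
  · intro hinj x
    rw [hcomp, ← hex x]
    constructor
    · intro h
      apply hinj
      rw [h, map_zero]
    · intro h
      rw [h, map_zero]

end main

section main2
variable {A : Type u} [CommRing A] [IsNoetherianRing A]
    {M : Type v} {F : Type v} [AddCommGroup M] [Module A M] [Module.Finite A M]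
    [AddCommGroup F] [Module A F] [Module.Finite A F] [Module.Free A F]
    (δ : M →ₗ[A] F) (p : Ideal A) [p.IsPrime]

theorem exact_baseChange {X Y Z : Type v} [AddCommGroup X] [Module A X] [AddCommGroup Y] [Module A Y]
    [AddCommGroup Z] [Module A Z] (f : X →ₗ[A] Y) (g : Y →ₗ[A] Z) (h : Function.Exact f g) :
    Function.Exact (f.baseChange (Localization.AtPrime p)) (g.baseChange (Localization.AtPrime p)) :=
  Module.Flat.lTensor_exact (Localization.AtPrime p) h

theorem injective_baseChange {X Y : Type v} [AddCommGroup X] [Module A X] [AddCommGroup Y] [Module A Y]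
    (f : X →ₗ[A] Y) (h : Function.Injective f) :
    Function.Injective (f.baseChange (Localization.AtPrime p)) :=
  Module.Flat.lTensor_preserves_injective_linearMap f h

theorem surjective_baseChange {X Y : Type v} [AddCommGroup X] [Module A X] [AddCommGroup Y] [Module A Y]
    (f : X →ₗ[A] Y) (h : Function.Surjective f) :
    Function.Surjective (f.baseChange (Localization.AtPrime p)) :=
  LinearMap.lTensor_surjective _ h

theorem injective_lTensor_of_retraction {X Y : Type v} [AddCommGroup X] [Module A X]
    [AddCommGroup Y] [Module A Y] (f : X →ₗ[A] Y)
    (r : Localization.AtPrime p ⊗[A] Y →ₗ[Localization.AtPrime p] Localization.AtPrime p ⊗[A] X)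
    (hr : r ∘ₗ f.baseChange (Localization.AtPrime p) = LinearMap.id) :
    Function.Injective (LinearMap.lTensor p.ResidueField f) := by
  rw [← injective_iff]
  have : (LinearMap.lTensor p.ResidueField r) ∘ₗ
      (LinearMap.lTensor p.ResidueField (f.baseChange (Localization.AtPrime p))) = LinearMap.id := by
    rw [← LinearMap.lTensor_comp, hr, LinearMap.lTensor_id]
  exact Function.HasLeftInverse.injective ⟨_, LinearMap.congr_fun this⟩

theorem free_localized_iff (X : Type v) [AddCommGroup X] [Module A X] :
    Module.Free (Localization.AtPrime p) (LocalizedModule p.primeCompl X) ↔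
      Module.Free (Localization.AtPrime p) (Localization.AtPrime p ⊗[A] X) := by
  constructor
  · intro h
    exact Module.Free.of_equiv (LocalizedModule.equivTensorProduct p.primeCompl X)
  · intro h
    exact Module.Free.of_equiv (LocalizedModule.equivTensorProduct p.primeCompl X).symm

/-- (a) ⇒ `S ⊗ C` free -/
theorem c_of_inj (h : Function.Injective (LinearMap.lTensor p.ResidueField (LinearMap.range δ).subtype)) :
    Module.Free (Localization.AtPrime p) (Localization.AtPrime p ⊗[A] (F ⧸ LinearMap.range δ)) := by
  have h1 := (injective_iff p (LinearMap.range δ).subtype).mpr h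
  exact Module.free_of_lTensor_residueField_injective
    ((LinearMap.range δ).subtype.baseChange (Localization.AtPrime p))
    ((LinearMap.range δ).mkQ.baseChange (Localization.AtPrime p))
    (surjective_baseChange p _ (Submodule.mkQ_surjective _))
    (exact_baseChange p _ _ (LinearMap.exact_subtype_mkQ _)) h1

/-- `S ⊗ C` free ⇒ retraction of `S ⊗ I → S ⊗ F` -/
theorem exists_retraction_of_c
    (h : Module.Free (Localization.AtPrime p) (Localization.AtPrime p ⊗[A] (F ⧸ LinearMap.range δ))) :
    ∃ r, r ∘ₗ (LinearMap.range δ).subtype.baseChange (Localization.AtPrime p) = LinearMap.id := by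
  have hsurj := surjective_baseChange p _ (Submodule.mkQ_surjective (LinearMap.range δ))
  have := (Function.Exact.split_tfae (exact_baseChange p _ _ (LinearMap.exact_subtype_mkQ (LinearMap.range δ)))
    (injective_baseChange p _ (Submodule.injective_subtype _)) hsurj).out 0 1
  exact this.mp (Module.projective_lifting_property _ _ hsurj)

theorem exists_retraction_ker_of_c
    (h : Module.Free (Localization.AtPrime p) (Localization.AtPrime p ⊗[A] (F ⧸ LinearMap.range δ))) :
    ∃ r, r ∘ₗ (LinearMap.ker δ).subtype.baseChange (Localization.AtPrime p) = LinearMap.id := by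
  obtain ⟨r, hr⟩ := exists_retraction_of_c δ p h
  haveI : Module.Projective (Localization.AtPrime p) (Localization.AtPrime p ⊗[A] (LinearMap.range δ)) :=
    Module.Projective.of_split _ _ hr
  have hex : Function.Exact (LinearMap.ker δ).subtype δ.rangeRestrict := by
    intro x
    constructor
    · intro hx
      exact ⟨⟨x, by
        have := congrArg Subtype.val hx
        simpa using this⟩, rfl⟩
    · rintro ⟨y, rfl⟩
      apply Subtype.ext
      simp
  have hsurj := surjective_baseChange p _ δ.surjective_rangeRestrict
  have := (Function.Exact.split_tfae (exact_baseChange p _ _ hex)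
    (injective_baseChange p _ (Submodule.injective_subtype _)) hsurj).out 0 1
  exact this.mp (Module.projective_lifting_property _ _ hsurj)

theorem main :
    [ Function.Exact (LinearMap.lTensor p.ResidueField (LinearMap.ker δ).subtype)
        (LinearMap.lTensor p.ResidueField δ),
      Function.Exact (LinearMap.lTensor p.ResidueField (LinearMap.ker δ).subtype)
        (LinearMap.lTensor p.ResidueField δ) ∧
        Function.Injective (LinearMap.lTensor p.ResidueField (LinearMap.ker δ).subtype),
      Module.Free (Localization.AtPrime p)
        (LocalizedModule p.primeCompl (F ⧸ LinearMap.range δ)) ].TFAE ∧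
    (Function.Exact (LinearMap.lTensor p.ResidueField (LinearMap.ker δ).subtype)
        (LinearMap.lTensor p.ResidueField δ) →
      Module.Free (Localization.AtPrime p)
        (LocalizedModule p.primeCompl (LinearMap.range δ))) := by
  have h13 : Function.Exact (LinearMap.lTensor p.ResidueField (LinearMap.ker δ).subtype)
        (LinearMap.lTensor p.ResidueField δ) →
      Module.Free (Localization.AtPrime p) (Localization.AtPrime p ⊗[A] (F ⧸ LinearMap.range δ)) :=
    fun ha => c_of_inj δ p ((a_iff δ p).mp ha)
  constructor
  · tfae_have 1 → 3 := fun ha => (free_localized_iff p _).mpr (h13 ha)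
    tfae_have 3 → 2 := by
      intro hc
      have hc' := (free_localized_iff p _).mp hc
      obtain ⟨r, hr⟩ := exists_retraction_of_c δ p hc'
      obtain ⟨r', hr'⟩ := exists_retraction_ker_of_c δ p hc'
      exact ⟨(a_iff δ p).mpr (injective_lTensor_of_retraction p _ r hr),
        injective_lTensor_of_retraction p _ r' hr'⟩
    tfae_have 2 → 1 := fun h => h.1
    tfae_finish
  · intro ha
    have hc' := h13 ha
    obtain ⟨r, hr⟩ := exists_retraction_of_c δ p hc'
    haveI : Module.Projective (Localization.AtPrime p) (Localization.AtPrime p ⊗[A] (LinearMap.range δ)) :=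
      Module.Projective.of_split _ _ hr
    rw [free_localized_iff]
    exact Module.free_of_flat_of_isLocalRing

end main2

end Aux

open TensorProduct in
/-- Let A be a Noetherian ring, M a finitely generated A-module, F a finitely generated free A-module, δ
: M → F an A-linear map and p a prime of A with residue field κ(p). The following are equivalent:
(a) the natural map (ker δ) ⊗ κ(p) → ker(δ ⊗ κ(p)) is surjective (its image is the whole kernel);
(b) that map is bijective; (c) (F / im δ) localized at p is a free module over the local ring A_p.
Moreover, if these hold then (im δ) localized at p is free over A_p. (The published statement takes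
M to be the cokernel of a map of finitely generated free modules; over a Noetherian ring this is
every finitely generated M, which is what this row takes.) -/
theorem result (A : Type u) [CommRing A] [IsNoetherianRing A]
    (M : Type v) (F : Type v) [AddCommGroup M] [Module A M] [Module.Finite A M]
    [AddCommGroup F] [Module A F] [Module.Finite A F] [Module.Free A F]
    (δ : M →ₗ[A] F) (p : Ideal A) [p.IsPrime] :
    [ Function.Exact (LinearMap.lTensor p.ResidueField (LinearMap.ker δ).subtype)
        (LinearMap.lTensor p.ResidueField δ),
      Function.Exact (LinearMap.lTensor p.ResidueField (LinearMap.ker δ).subtype)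
        (LinearMap.lTensor p.ResidueField δ) ∧
        Function.Injective (LinearMap.lTensor p.ResidueField (LinearMap.ker δ).subtype),
      Module.Free (Localization.AtPrime p)
        (LocalizedModule p.primeCompl (F ⧸ LinearMap.range δ)) ].TFAE ∧
    (Function.Exact (LinearMap.lTensor p.ResidueField (LinearMap.ker δ).subtype)
        (LinearMap.lTensor p.ResidueField δ) →
      Module.Free (Localization.AtPrime p)
        (LocalizedModule p.primeCompl (LinearMap.range δ))) := by
  exact Aux.main δ p

end Groth.Agent.S14608
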