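import Groth.Statements.S14611
import Mathlib
import Groth.Agent.S7754

set_option autoImplicit false
universe u
open FlatCx

namespace Groth.Agent.S14611

section Concrete
open TensorProduct
variable {A : Type u} [CommRing A] {L M N : Type u} [AddCommGroup L] [Module A L]
  [AddCommGroup M] [Module A M] [AddCommGroup N] [Module A N]

/-- transfer of injectivity of a base-changed map along an isomorphism of the coefficient algebras -/
theorem baseChange_injective_of_algEquiv {κ₀ κ : Type*} [CommRing κ₀] [CommRing κ] [Algebra A κ₀]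
    [Algebra A κ] (e : κ₀ ≃ₐ[A] κ) (f : M →ₗ[A] N)
    (h : Function.Injective (f.baseChange κ₀)) : Function.Injective (f.baseChange κ) := by
  let EM : κ₀ ⊗[A] M ≃ₗ[A] κ ⊗[A] M := TensorProduct.congr e.toLinearEquiv (LinearEquiv.refl A M)
  let EN : κ₀ ⊗[A] N ≃ₗ[A] κ ⊗[A] N := TensorProduct.congr e.toLinearEquiv (LinearEquiv.refl A N)
  have hcomm : ∀ x, f.baseChange κ (EM x) = EN (f.baseChange κ₀ x) := by
    intro x
    induction x using TensorProduct.induction_on with
    | zero => simp
    | add x y hx hy => simp only [map_add, hx, hy]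
    | tmul a m => simp [EM, EN]
  intro x y hxy
  obtain ⟨x, rfl⟩ := EM.surjective x
  obtain ⟨y, rfl⟩ := EM.surjective y
  rw [hcomm, hcomm] at hxy
  rw [h (EN.injective hxy)]

theorem projective_coker_of_exact_mod_maximal [Module.Finite A M] [Module.Finite A N]
    [Module.Projective A N] (δ' : L →ₗ[A] M) (δ : M →ₗ[A] N) (hδ : δ ∘ₗ δ' = 0)
    (h : ∀ (I : Ideal A) [I.IsMaximal], ∀ y : (A ⧸ I) ⊗[A] M, δ.lTensor (A ⧸ I) y = 0 →
      ∃ z, δ'.lTensor (A ⧸ I) z = y) :
    Module.Projective A (N ⧸ LinearMap.range δ) := by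
  have hfp := Groth.Agent.S7754.finitePresentation_coker δ
  apply Module.projective_of_localization_maximal' (R := A) (M := N ⧸ LinearMap.range δ)
    (fun P _ => Localization.AtPrime P)
    (fun P _ => Localization.AtPrime P ⊗[A] (N ⧸ LinearMap.range δ))
    (fun P _ => TensorProduct.mk A (Localization.AtPrime P) (N ⧸ LinearMap.range δ) 1)
  intro I hI
  have hI' : I.IsPrime := hI.isPrime
  -- condition A over `A ⧸ I`
  have hker : ∀ l, δ' l ∈ LinearMap.ker δ := fun l => by
    rw [LinearMap.mem_ker, ← LinearMap.comp_apply, hδ, LinearMap.zero_apply]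
  have hcondA : LinearMap.ker (δ.baseChange (A ⧸ I)) ≤
      LinearMap.range ((LinearMap.ker δ).subtype.baseChange (A ⧸ I)) := by
    intro y hy
    rw [LinearMap.mem_ker, LinearMap.baseChange_eq_ltensor] at hy
    obtain ⟨z, rfl⟩ := h I y hy
    refine ⟨(δ'.codRestrict (LinearMap.ker δ) hker).lTensor (A ⧸ I) z, ?_⟩
    rw [LinearMap.baseChange_eq_ltensor, ← LinearMap.comp_apply, ← LinearMap.lTensor_comp]
    rfl
  have hinj₀ := Groth.Agent.S7754.injective_of_condA (A ⧸ I) δ hcondA
  let e : (A ⧸ I) ≃ₐ[A] I.ResidueField :=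
    AlgEquiv.ofBijective (IsScalarTower.toAlgHom A (A ⧸ I) I.ResidueField)
      I.bijective_algebraMap_quotient_residueField
  have hinj := baseChange_injective_of_algEquiv e _ hinj₀
  have := Groth.Agent.S7754.free_localization_of_injective ⟨I, hI'⟩ δ hinj
  infer_instance

end Concrete

section Glue
open TensorProduct CategoryTheory CategoryTheory.Limits MonoidalCategory
variable {A : Type u} [CommRing A]

/-- `opcycles` of a cochain complex of modules is the concrete cokernel. -/
noncomputable def opcyclesLinearEquiv (Q : CochainComplex (ModuleCat.{u} A) ℤ) (d : ℤ) :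
    Q.opcycles d ≃ₗ[A] (Q.X d ⧸ LinearMap.range (Q.d (d - 1) d).hom) :=
  (IsColimit.coconePointUniqueUpToIso (Q.opcyclesIsCokernel (d - 1) d (by simp))
    (ModuleCat.cokernelIsColimit (Q.d (d - 1) d))).toLinearEquiv

theorem exact_of_isZero_homology (Q : CochainComplex (ModuleCat.{u} A) ℤ) (M : Type u)
    [AddCommGroup M] [Module A M]
    (d : ℤ) (h : IsZero ((CohIII.tensorObj Q (ModuleCat.of A M)).homology (d - 1)))
    (y : Q.X (d - 1) ⊗[A] M) (hy : (Q.d (d - 1) d).hom.rTensor M y = 0) :
    ∃ z : Q.X (d - 2) ⊗[A] M, (Q.d (d - 2) (d - 1)).hom.rTensor M z = y := by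
  let K := CohIII.tensorObj Q (ModuleCat.of A M)
  have hex : K.ExactAt (d - 1) := (K.exactAt_iff_isZero_homology (d - 1)).mpr h
  rw [K.exactAt_iff' (d - 2) (d - 1) d (by simp; omega) (by simp)] at hex
  rw [ShortComplex.moduleCat_exact_iff] at hex
  exact hex y hy

/-- the `lTensor` form of the previous statement -/
theorem exact_of_isZero_homology' (Q : CochainComplex (ModuleCat.{u} A) ℤ) (M : Type u)
    [AddCommGroup M] [Module A M]
    (d : ℤ) (h : IsZero ((CohIII.tensorObj Q (ModuleCat.of A M)).homology (d - 1)))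
    (y : M ⊗[A] Q.X (d - 1)) (hy : (Q.d (d - 1) d).hom.lTensor M y = 0) :
    ∃ z : M ⊗[A] Q.X (d - 2), (Q.d (d - 2) (d - 1)).hom.lTensor M z = y := by
  have hy' : (Q.d (d - 1) d).hom.rTensor M (TensorProduct.comm A M (Q.X (d - 1)) y) = 0 := by
    rw [LinearMap.rTensor_comm, hy, map_zero]
  obtain ⟨z, hz⟩ := exact_of_isZero_homology Q M d h _ hy'
  refine ⟨TensorProduct.comm A (Q.X (d - 2)) M z, ?_⟩
  apply (TensorProduct.comm A M (Q.X (d - 1))).injective
  rw [← LinearMap.rTensor_comm, ← hz]
  congr 1
  exact (TensorProduct.comm A M (Q.X (d - 2))).apply_symm_apply z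

end Glue

open CategoryTheory CategoryTheory.Limits in
/-- Let A be a Noetherian ring, Q a cochain complex whose terms are finitely generated projective
A-modules, and d an integer such that H^p(Q) = 0 for every p < d and H^p(Q ⊗_A A/m) = 0 for every p
< d and every maximal ideal m of A. Then Q^d / im(Q^{d-1} → Q^d), the degree-d term of the
truncation τ_{≥ d} Q, is a projective A-module, so that τ_{≥ d} Q is again a complex of projective
modules. (The published statement also asserts that Q → τ_{≥ d} Q is a quasi-isomorphism when H^p(Q)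
= 0 for p < d; this row omits that clause.) -/
theorem result (A : Type u) [CommRing A] [IsNoetherianRing A]
    (Q : CochainComplex (ModuleCat.{u} A) ℤ)
    (hQ : ∀ i, Module.Finite A (Q.X i) ∧ Module.Projective A (Q.X i)) (d : ℤ)
    (h1 : ∀ p < d, IsZero (Q.homology p))
    (h2 : ∀ (m : Ideal A) [m.IsMaximal], ∀ p < d,
      IsZero ((CohIII.tensorObj Q (ModuleCat.of A (A ⧸ m))).homology p)) :
    Module.Projective A (Q.opcycles d) := by
  have hfin := fun i => (hQ i).1
  have hproj := fun i => (hQ i).2
  have := hfin (d - 1)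
  have := hfin d
  have := hproj d
  suffices hP : Module.Projective A (Q.X d ⧸ LinearMap.range (Q.d (d - 1) d).hom) from
    Module.Projective.of_equiv (opcyclesLinearEquiv Q d).symm
  apply projective_coker_of_exact_mod_maximal (Q.d (d - 2) (d - 1)).hom (Q.d (d - 1) d).hom
  · ext x
    have := Q.d_comp_d (d - 2) (d - 1) d
    exact congrArg (fun k => k.hom x) this
  · intro I hI y hy
    exact exact_of_isZero_homology' Q (A ⧸ I) d (h2 I (d - 1) (by omega)) y hy

end Groth.Agent.S14611
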