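import Groth.Statements.S14619
import Groth.Agent.Lib.R2H2Bridge
import Groth.Agent.Lib.R2H2BridgeL
import Groth.Agent.Lib.R2H2FibRank
import Groth.Agent.Lib.R2H2LocalCx
import Groth.Agent.Lib.R2H2BcTFun
import Groth.Agent.Lib.R2H2AmpVanish
import Groth.Agent.Lib.R2H2TruncCx

set_option autoImplicit false
universe u
open Coherent

namespace Groth.Agent.S14619

open CategoryTheory CategoryTheory.Limits AlgebraicGeometry in
/-- Let A be a Noetherian ring, X a proper scheme over Spec A and F a coherent O_X-module flat over Spec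
A. Suppose H^p(X, F) = 0 for all p > d and H^p(X_y, F|X_y) = 0 for every point y of Spec A and every
p < d'. Then there is a cochain complex L of finitely generated projective A-modules, with L^i = 0
unless d' ≤ i ≤ d and with L = 0 when all H^p(X, F) vanish, such that for every A-algebra B and
every p the cohomology H^p(X ×_A Spec B, ξ^*F) of the pulled-back module is isomorphic to H^p(L ⊗_A
B). Only the existence of these isomorphisms of abelian groups is asserted (no naturality in B). -/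
theorem result (A : Type u) [CommRing A] [IsNoetherianRing A] (X : Scheme.{u}) [X.Over (Spec (CommRingCat.of A))]
    [IsProper (X ↘ Spec (CommRingCat.of A))] (F : X.Modules) (hF : Coh.IsCoh F)
    (hfl : FlatMod.IsFlatOver (X ↘ Spec (CommRingCat.of A)) F) (d' d : ℕ)
    (hd : ∀ p : ℕ, d < p → Subsingleton (Coh.HH X F p))
    (hd' : ∀ (y : ↑(Spec (CommRingCat.of A))) (p : ℕ), p < d' →
      Subsingleton (CohIII.fiberH (X ↘ Spec (CommRingCat.of A)) F y p)) :
    ∃ L : CochainComplex (ModuleCat.{u} A) ℤ,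
      (∀ i, Module.Finite A (L.X i) ∧ Module.Projective A (L.X i)) ∧
      (∀ i : ℤ, i < (d' : ℤ) ∨ (d : ℤ) < i → IsZero (L.X i)) ∧
      ((∀ p : ℕ, Subsingleton (Coh.HH X F p)) → ∀ i, IsZero (L.X i)) ∧
      ∀ (B : Type u) [CommRing B] [Algebra A B] (p : ℕ),
        Nonempty (Coh.HH (pullback (X ↘ Spec (CommRingCat.of A)) (Spec.map (CommRingCat.ofHom (algebraMap A B))))
            ((Scheme.Modules.pullback (pullback.fst (X ↘ Spec (CommRingCat.of A))
              (Spec.map (CommRingCat.ofHom (algebraMap A B))))).obj F) p ≃+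
          CohIII.T L (p : ℤ) (ModuleCat.of A B)) := by
  classical
  haveI : F.IsQuasicoherent := hF.1
  haveI : CompactSpace X :=
    QuasiCompact.compactSpace_of_compactSpace (X ↘ Spec (CommRingCat.of A))
  obtain ⟨Q, b, hQ, hQz, hQv, hQi⟩ := Groth.Agent.Lib.R2H2.Bridge.bridge' A X F hF hfl
  have hQff : ∀ i, Module.Finite A (Q.X i) ∧ Module.Flat A (Q.X i) := fun i =>
    ⟨(hQ i).1, haveI := (hQ i).2; inferInstance⟩
  have hQfl : ∀ i, Module.Flat A (Q.X i) := fun i => (hQff i).2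
  -- the effective upper bound
  let dd : ℤ := if (∀ p : ℕ, Subsingleton (Coh.HH X F p)) then -1 else (d : ℤ)
  have hdd1 : -1 ≤ dd := by
    by_cases hall : ∀ p : ℕ, Subsingleton (Coh.HH X F p)
    · simp [dd, hall]
    · simp [dd, hall]
  have hdd2 : dd ≤ d := by
    by_cases hall : ∀ p : ℕ, Subsingleton (Coh.HH X F p)
    · simp [dd, hall]
    · simp [dd, hall]
  have hdd : ∀ p : ℕ, dd < (p : ℤ) → Subsingleton (Coh.HH X F p) := by
    intro p hp
    by_cases hall : ∀ p : ℕ, Subsingleton (Coh.HH X F p)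
    · exact hall p
    · have h1 : dd = (d : ℤ) := if_neg hall
      exact hd p (by rw [h1] at hp; exact_mod_cast hp)
  -- the homology of `Q` in low degrees
  have hQh : ∀ k : ℤ, k < -dd → IsZero (Q.homology k) := by
    intro k hk
    obtain ⟨p, rfl⟩ : ∃ p : ℕ, k = -(p : ℤ) := ⟨(-k).toNat, by omega⟩
    obtain ⟨l⟩ := Groth.Agent.Lib.R2H2.LocalCx.nonempty_HH_linearEquiv_homology F Q
      (-(p : ℤ)) p (hQi p).some
    haveI := hdd p (by omega)
    haveI : Subsingleton (Q.homology (-(p : ℤ))) := l.symm.toEquiv.subsingleton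
    exact ModuleCat.isZero_of_subsingleton _
  have hhiQ := Groth.Agent.Lib.R2H2.AmpVanish.isZero_T_of_lt Q hQfl (1 - (b : ℤ)) hQz (-dd) hQh
  have hloQ : ∀ k : ℤ, -(d' : ℤ) < k → ∀ M : ModuleCat.{u} A,
      IsZero ((CohIII.TFun Q k).obj M) := by
    intro k hk M
    by_cases hk0 : 0 < k
    · exact hQv k hk0 M
    obtain ⟨p, rfl⟩ : ∃ p : ℕ, k = -(p : ℤ) := ⟨(-k).toNat, by omega⟩
    refine Groth.Agent.Lib.R2H2.AmpVanish.isZero_T_of_dRank_eq_zero Q hQff _ (fun y => ?_) M
    rw [← Groth.Agent.Lib.R2H2.FibRank.fiberRank_eq_dRank F Q hQfl (-(p : ℤ)) p (hQi p).some y]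
    haveI := hd' y p (by omega)
    exact Module.finrank_zero_of_subsingleton
  -- the cochain complex
  have hK : ∀ i, Module.Finite A ((Groth.Agent.Lib.R2H2.BridgeL.cochainOf Q).X i) ∧
      Module.Flat A ((Groth.Agent.Lib.R2H2.BridgeL.cochainOf Q).X i) := fun i => hQff (-i)
  have hKb : ∀ i : ℤ, (b : ℤ) - 1 < i → IsZero ((Groth.Agent.Lib.R2H2.BridgeL.cochainOf Q).X i) :=
    fun i hi => hQz (-i) (by omega)
  have hKlo : ∀ (M : ModuleCat.{u} A) (i : ℤ), i < (d' : ℤ) →
      IsZero ((CohIII.TFun (Groth.Agent.Lib.R2H2.BridgeL.cochainOf Q) i).obj M) := fun M i hi =>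
    (hloQ (-i) (by omega) M).of_iso (Groth.Agent.Lib.R2H2.BridgeL.homologyIso Q M i)
  have hKhi : ∀ (M : ModuleCat.{u} A) (i : ℤ), dd < i →
      IsZero ((CohIII.TFun (Groth.Agent.Lib.R2H2.BridgeL.cochainOf Q) i).obj M) := fun M i hi =>
    (hhiQ (-i) (by omega) M).of_iso (Groth.Agent.Lib.R2H2.BridgeL.homologyIso Q M i)
  obtain ⟨L, hL1, hL2, hL3⟩ := Groth.Agent.Lib.R2H2.TruncCx.exists_amplitude
    (Groth.Agent.Lib.R2H2.BridgeL.cochainOf Q) hK ((b : ℤ) - 1) hKb (d' : ℤ) dd hKlo hKhi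
  refine ⟨L, hL1, ?_, ?_, ?_⟩
  · rintro i (hi | hi)
    · exact hL2 i (Or.inl hi)
    · exact hL2 i (Or.inr (by omega))
  · intro hall i
    have h1 : dd = -1 := if_pos hall
    refine hL2 i ?_
    by_cases h : i < (d' : ℤ)
    · exact Or.inl h
    · exact Or.inr (by omega)
  · intro B _ _ p
    letI : (pullback (X ↘ Spec (CommRingCat.of A))
        (Spec.map (CommRingCat.ofHom (algebraMap A B)))).Over (Spec (CommRingCat.of B)) :=
      ⟨pullback.snd _ _⟩
    have hsq : IsPullback (pullback.fst (X ↘ Spec (CommRingCat.of A))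
        (Spec.map (CommRingCat.ofHom (algebraMap A B))))
        ((pullback (X ↘ Spec (CommRingCat.of A))
          (Spec.map (CommRingCat.ofHom (algebraMap A B)))) ↘ Spec (CommRingCat.of B))
        (X ↘ Spec (CommRingCat.of A)) (Spec.map (CommRingCat.ofHom (algebraMap A B))) :=
      IsPullback.of_hasPullback _ _
    obtain ⟨l1⟩ := Groth.Agent.Lib.R2H2.FibRank.nonempty_HH_linearEquiv
      (pullback.fst (X ↘ Spec (CommRingCat.of A)) (Spec.map (CommRingCat.ofHom (algebraMap A B))))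
      hsq F Q (-(p : ℤ)) p (hQi p).some
    let M' : ModuleCat.{u} B := ModuleCat.of B B
    let j1 := (forget₂ (ModuleCat.{u} B) AddCommGrpCat.{u}).mapIso
      (Groth.Agent.Lib.Helper3.TUnitIso (CohIII.bcCx (algebraMap A B) Q) (-(p : ℤ))).symm
    let j2 := ((Groth.Agent.Lib.R2H2.BcTFun.TFunBcIso B Q (-(p : ℤ))).app M').symm
    let eA : ((ModuleCat.restrictScalars.{u} (algebraMap A B)).obj M') ≃ₗ[A] B :=
      { toFun := fun x => x
        invFun := fun x => x
        left_inv := fun _ => rfl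
        right_inv := fun _ => rfl
        map_add' := fun _ _ => rfl
        map_smul' := fun r x => (Algebra.smul_def r (show B from x)).symm }
    let j3 : (ModuleCat.restrictScalars.{u} (algebraMap A B)).obj M' ≅ ModuleCat.of A B :=
      eA.toModuleIso
    let j4 := (CohIII.TFun Q (-(p : ℤ))).mapIso j3
    let j5 := (Groth.Agent.Lib.R2H2.BridgeL.homologyIso Q (ModuleCat.of A B) (p : ℤ)).symm
    let j6 := (hL3 (ModuleCat.of A B) (p : ℤ)).some.symm
    have a1 : (CohIII.bcCx (algebraMap A B) Q).homology (-(p : ℤ)) ≃+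
        CohIII.T L (p : ℤ) (ModuleCat.of A B) :=
      (j1 ≪≫ j2 ≪≫ (forget₂ (ModuleCat.{u} A) AddCommGrpCat.{u}).mapIso
        (j4 ≪≫ j5 ≪≫ j6)).addCommGroupIsoToAddEquiv
    exact ⟨l1.toAddEquiv.trans a1⟩

end Groth.Agent.S14619
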