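import Groth.Statements.S14730
import Mathlib
import Groth.Agent.Lib.R2H7PruferDim

set_option autoImplicit false
universe u
open ValPrufer

namespace Groth.Agent.S14730

/-- Let R be a semilocal Prüfer domain (an integral domain with finitely many maximal ideals whose
localisations at primes are valuation rings). Then R is the increasing union of subrings that are
semilocal Prüfer domains of finite Krull dimension; equivalently, every finite subset of R is
contained in such a subring. -/
theorem result
    (R : Type u) [CommRing R] [IsDomain R]
    (hR : ∀ (p : Ideal R) [p.IsPrime], ValuationRing (Localization.AtPrime p))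
    (hfin : Finite (MaximalSpectrum R)) (s : Finset R) :
    ∃ R' : Subring R, (↑s : Set R) ⊆ R' ∧
      (∀ (p : Ideal R') [p.IsPrime], ValuationRing (Localization.AtPrime p)) ∧
      Finite (MaximalSpectrum R') ∧ ringKrullDim R' < ⊤ := by
  classical
  obtain ⟨t, ht⟩ : ∃ t : Finset (FractionRing R), t = s.image (algebraMap R (FractionRing R)) :=
    ⟨_, rfl⟩
  obtain ⟨h1, h2, -⟩ := Groth.Agent.Lib.R2H7.ValInter.semilocal_prufer_inf_subfield R
    (FractionRing R) hR hfin (Subfield.closure (t : Set (FractionRing R)))
  have h3 := Groth.Agent.Lib.R2H7.PruferDim.semilocal_prufer_dim R (FractionRing R) hR hfin t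
  have hinjL : Function.Injective (algebraMap R (FractionRing R)) :=
    IsFractionRing.injective R (FractionRing R)
  -- the subring of R
  refine ⟨(Subfield.closure (t : Set (FractionRing R))).toSubring.comap
    (algebraMap R (FractionRing R)), ?_, ?_⟩
  · intro x hx
    show algebraMap R (FractionRing R) x ∈ Subfield.closure (t : Set (FractionRing R))
    refine Subfield.subset_closure ?_
    rw [ht]
    exact Finset.mem_coe.mpr (Finset.mem_image_of_mem _ hx)
  -- the ring isomorphism
  let f : ↥((Subfield.closure (t : Set (FractionRing R))).toSubring.comap
      (algebraMap R (FractionRing R))) →+*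
      ↥((algebraMap R (FractionRing R)).range ⊓
        (Subfield.closure (t : Set (FractionRing R))).toSubring) :=
    ((algebraMap R (FractionRing R)).comp (Subring.subtype _)).codRestrict _
      (fun r => ⟨⟨r.1, rfl⟩, r.2⟩)
  have hfbij : Function.Bijective f := by
    constructor
    · intro a b hab
      have h := congrArg Subtype.val hab
      exact Subtype.ext (hinjL h)
    · intro x
      obtain ⟨r, hr⟩ := x.2.1
      refine ⟨⟨r, ?_⟩, Subtype.ext hr⟩
      show algebraMap R (FractionRing R) r ∈ Subfield.closure (t : Set (FractionRing R))
      rw [hr]
      exact x.2.2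
  let e := RingEquiv.ofBijective f hfbij
  refine ⟨?_, ?_, ?_⟩
  · intro p hp
    have hq : (p.comap e.symm.toRingHom).IsPrime := Ideal.comap_isPrime _ _
    have hv := h1 (p.comap e.symm.toRingHom)
    have H : Submonoid.map e.toMonoidHom p.primeCompl =
        (p.comap e.symm.toRingHom).primeCompl := by
      ext x
      constructor
      · rintro ⟨y, hy, rfl⟩
        show ¬ (e.symm (e y) ∈ p)
        rw [RingEquiv.symm_apply_apply]
        exact hy
      · intro hx
        exact ⟨e.symm x, hx, e.apply_symm_apply x⟩
    let F := IsLocalization.ringEquivOfRingEquiv (Localization.AtPrime p)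
      (Localization.AtPrime (p.comap e.symm.toRingHom)) e H
    exact Function.Surjective.valuationRing
      (R := Localization.AtPrime (p.comap e.symm.toRingHom)) F.symm.toRingHom F.symm.surjective
  · haveI := h2
    refine Finite.of_injective (fun m : MaximalSpectrum _ =>
      (⟨m.asIdeal.comap e.symm.toRingHom,
        Ideal.comap_isMaximal_of_surjective _ e.symm.surjective (H := m.isMaximal)⟩ :
        MaximalSpectrum ↥((algebraMap R (FractionRing R)).range ⊓
          (Subfield.closure (t : Set (FractionRing R))).toSubring))) ?_
    intro m1 m2 h
    have h' := congrArg MaximalSpectrum.asIdeal h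
    exact MaximalSpectrum.ext
      (Ideal.comap_injective_of_surjective e.symm.toRingHom e.symm.surjective h')
  · rw [ringKrullDim_eq_of_ringEquiv e]
    exact h3

end Groth.Agent.S14730
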