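import Groth.Statements.S1483
import Groth.Agent.Lib.H9FCM9

set_option autoImplicit false
universe u
open FlatMor

namespace Groth.Agent.S1483

open AlgebraicGeometry CategoryTheory Limits in
/-- Fibrewise flatness criterion (critère de platitude par fibres), pointwise equivalence for a module:
let f : X → Y and g : Y → S be morphisms of schemes with X locally of finite presentation over S
(via g ∘ f) and Y locally of finite type over S, F a finitely presented quasi-coherent O_X-module,
and x a point of X with images y = f(x) and s = g(y) at which the stalk F_x is nonzero. The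
following are equivalent: (a) F is flat over S at x and F_x / 𝔪_s F_x is flat over O_{Y,y} / 𝔪_s
O_{Y,y}; (b) the morphism g is flat at the point y and F is Y-flat at x. The published statement
also asserts that the locus of such x is open in the support of F; that is not restated here (the
companion statement for F = O_X carries it). -/
theorem result {X Y S : Scheme.{u}} (f : X ⟶ Y) (g : Y ⟶ S) [LocallyOfFinitePresentation (f ≫ g)] [LocallyOfFiniteType g]
    (F : X.Modules) (hq : Coh.IsQCoh F) (hfp : CohB1.IsFP F) (x : X) (hx : Nontrivial ↑(F.presheaf.stalk x)) :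
    letI := FlatMod.moduleStalkOver f F x
    (FlatMod.IsFlatOverAt (f ≫ g) F x ∧
      Module.Flat (↑(Y.presheaf.stalk (f x)) ⧸ Ideal.map (g.stalkMap (f x)).hom (IsLocalRing.maximalIdeal ↑(S.presheaf.stalk (g (f x)))))
        (↑(F.presheaf.stalk x) ⧸ (Ideal.map (g.stalkMap (f x)).hom (IsLocalRing.maximalIdeal ↑(S.presheaf.stalk (g (f x)))) •
          (⊤ : Submodule ↑(Y.presheaf.stalk (f x)) ↑(F.presheaf.stalk x))))) ↔
    ((g.stalkMap (f x)).hom.Flat ∧ FlatMod.IsFlatOverAt f F x) := by
  haveI : F.IsQuasicoherent := hq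
  haveI : SheafOfModules.IsFinitePresentation (R := X.ringCatSheaf) F := hfp
  letI aAB : Algebra (S.presheaf.stalk (g (f x))) (Y.presheaf.stalk (f x)) :=
    (g.stalkMap (f x)).hom.toAlgebra
  letI aBC : Algebra (Y.presheaf.stalk (f x)) (X.presheaf.stalk x) :=
    (f.stalkMap x).hom.toAlgebra
  letI mBM : Module (Y.presheaf.stalk (f x)) (F.presheaf.stalk x) :=
    FlatMod.moduleStalkOver f F x
  letI mAM : Module (S.presheaf.stalk (g (f x))) (F.presheaf.stalk x) :=
    Module.compHom _ ((f.stalkMap x).hom.comp (g.stalkMap (f x)).hom)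
  haveI tBCM : IsScalarTower (Y.presheaf.stalk (f x)) (X.presheaf.stalk x)
      (F.presheaf.stalk x) := IsScalarTower.of_algebraMap_smul (fun b n => rfl)
  haveI tABM : IsScalarTower (S.presheaf.stalk (g (f x))) (Y.presheaf.stalk (f x))
      (F.presheaf.stalk x) := IsScalarTower.of_algebraMap_smul (fun b n => rfl)
  haveI : IsLocalHom (algebraMap (Y.presheaf.stalk (f x)) (X.presheaf.stalk x)) :=
    inferInstanceAs (IsLocalHom (f.stalkMap x).hom)
  haveI : SheafOfModules.IsFiniteType (R := X.ringCatSheaf) F := inferInstance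
  haveI := Groth.Agent.Lib.Helper2.FibreCrit.finite_stalk F x
  -- identify the module structure used by `IsFlatOverAt (f ≫ g)`
  have hcomp : FlatMod.IsFlatOverAt (f ≫ g) F x ↔
      Module.Flat (S.presheaf.stalk (g (f x))) (F.presheaf.stalk x) := by
    unfold FlatMod.IsFlatOverAt
    refine @Groth.Agent.Lib.Helper2.FlatOver.flat_iff_of_semilinear_equiv _
      (S.presheaf.stalk (g (f x)))
      (F.presheaf.stalk x) (F.presheaf.stalk x) _ _ _ _ (FlatMod.moduleStalkOver (f ≫ g) F x) mAM
      (RingEquiv.refl _) (AddEquiv.refl _) ?_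
    intro a n
    change ((f ≫ g).stalkMap x).hom a • n = (f.stalkMap x).hom ((g.stalkMap (f x)).hom a) • n
    rw [Scheme.Hom.stalkMap_comp]
    rfl
  constructor
  · rintro ⟨hAM, hfib⟩
    have hBM : FlatMod.IsFlatOverAt f F x :=
      Groth.Agent.Lib.H9FCM9.isFlatOverAt_of_fibre f g F x hAM hfib
    refine ⟨?_, hBM⟩
    haveI : Module.Flat (S.presheaf.stalk (g (f x))) (F.presheaf.stalk x) := hcomp.mp hAM
    haveI : Module.Flat (Y.presheaf.stalk (f x)) (F.presheaf.stalk x) := hBM
    exact Groth.Agent.Lib.H9FCM8.flat_of_flat_of_finite_of_isLocalHom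
      (R := S.presheaf.stalk (g (f x))) (S := Y.presheaf.stalk (f x))
      (S' := X.presheaf.stalk x) (M := F.presheaf.stalk x)
  · rintro ⟨hAB, hBM⟩
    haveI : Module.Flat (S.presheaf.stalk (g (f x))) (Y.presheaf.stalk (f x)) := hAB
    haveI : Module.Flat (Y.presheaf.stalk (f x)) (F.presheaf.stalk x) := hBM
    refine ⟨hcomp.mpr (Module.Flat.trans (S.presheaf.stalk (g (f x)))
      (Y.presheaf.stalk (f x)) (F.presheaf.stalk x)), ?_⟩
    exact Module.Flat.of_linearEquiv
      (Groth.Agent.Lib.Helper2.FibreCrit.quotTensorEquiv _ (F.presheaf.stalk x)).symm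

end Groth.Agent.S1483
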