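import Groth.Statements.S1485
import Groth.Agent.Lib.R2H3TopBCD

set_option autoImplicit false
universe u
open FlatMor

namespace Groth.Agent.S1485

open AlgebraicGeometry CategoryTheory Limits in
/-- Let f : X → Y be proper and y a point with fibre of dimension ≤ 1. Suppose there is a morphism g :
Y' → Y whose image contains y such that, for the base change f' : X' → Y', H^1 of the structure
sheaf vanishes over the preimage of every affine open of Y' (that is, R^1 f'_* O = 0; taking g the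
identity covers the case R^1 f_* O_X = 0). Then H^1(X_y, O_{X_y}) = 0. -/
theorem result {X Y Y' : Scheme.{u}} (f : X ⟶ Y) [IsProper f] (y : Y) (hdim : topologicalKrullDim ↑(f.fiber y) ≤ 1)
    (g : Y' ⟶ Y) (hy : y ∈ Set.range ⇑g)
    (hR1 : ∀ U : Y'.Opens, IsAffineOpen U → Subsingleton (Coh.HHon (pullback f g) (Coh.structureModule (pullback f g)) (pullback.snd f g ⁻¹ᵁ U) 1)) :
    Subsingleton (Coh.HH (f.fiber y) (Coh.structureModule (f.fiber y)) 1) := by
  obtain ⟨y', rfl⟩ := hy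
  have hd : topologicalKrullDim ↥(f.fiber (g y')) ≤ ((1 : ℕ) : WithBot ℕ∞) := by
    rw [Nat.cast_one]; exact hdim
  have hy : g y' ∈ Groth.Agent.Lib.R2H3.FibDimLimD.goodLocus f 1 := hd
  obtain ⟨(V : Y.Opens), hV0, hyV, hVg⟩ :=
    (TopologicalSpace.Opens.isBasis_iff_nbhd.mp Y.isBasis_affineOpens) hy
  have hV : IsAffineOpen V := hV0
  have hy' : y' ∈ g ⁻¹ᵁ V := hyV
  obtain ⟨(U : Y'.Opens), hU0, hy'U, hUV⟩ :=
    (TopologicalSpace.Opens.isBasis_iff_nbhd.mp Y'.isBasis_affineOpens) hy'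
  have hU : IsAffineOpen U := hU0
  -- the base change to `U`
  have h1 := (Groth.Agent.Lib.R2H3.TopBCD.HHon_iff f 1 hV hVg g U hU hUV).mp (hR1 U hU)
  -- the point `y'` of `U`
  let χ := Groth.Agent.Lib.R2H3.TopBCD.psi hU (Y'.fromSpecResidueField y')
    (Groth.Agent.Lib.R2H3.TopBCD.range_fromSpecResidueField_subset y' hy'U)
  have hχ : Spec.map (CommRingCat.ofHom χ) ≫ hU.fromSpec = Y'.fromSpecResidueField y' :=
    Groth.Agent.Lib.R2H3.TopBCD.specMap_psi_fromSpec hU _ _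
  have h2 := Groth.Agent.Lib.R2H3.TopBCD.TV.comp _ χ h1
  -- the residue field extension
  let ρ := (g.residueFieldMap y').hom
  have hρ : Spec.map (CommRingCat.ofHom ρ) ≫ Y.fromSpecResidueField (g y') =
      Spec.map (CommRingCat.ofHom χ) ≫ (hU.fromSpec ≫ g) := by
    rw [← Category.assoc, hχ]
    exact Scheme.Hom.SpecMap_residueFieldMap_fromSpecResidueField g y'
  have hr1 : Set.range (Spec.map (CommRingCat.ofHom χ) ≫ (hU.fromSpec ≫ g)) ⊆ (V : Set Y) := by
    rintro _ ⟨z, rfl⟩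
    exact Groth.Agent.Lib.R2H3.TopBCD.range_fromSpec_comp_subset g hU hUV ⟨_, rfl⟩
  have hr2 : Set.range (Spec.map (CommRingCat.ofHom ρ) ≫ Y.fromSpecResidueField (g y')) ⊆
      (V : Set Y) := by
    rw [hρ]; exact hr1
  have e1 := Groth.Agent.Lib.R2H3.TopBCD.psi_comp hV (hU.fromSpec ≫ g)
    (Groth.Agent.Lib.R2H3.TopBCD.range_fromSpec_comp_subset g hU hUV) χ hr1
  have e2 := Groth.Agent.Lib.R2H3.TopBCD.psi_comp hV (Y.fromSpecResidueField (g y'))
    (Groth.Agent.Lib.R2H3.TopBCD.range_fromSpecResidueField_subset (g y') hyV) ρ hr2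
  have e3 := Groth.Agent.Lib.R2H3.TopBCD.psi_congr hV hρ hr2 hr1
  have e := e1.symm.trans (e3.symm.trans e2)
  have h2' := (congrArg (fun ψ => Groth.Agent.Lib.R2H3.TopBCD.TV ψ
    (Groth.Agent.Lib.R2H3.TopBCD.MA f 1 hV)) e).mp h2
  have h3 := Groth.Agent.Lib.R2H3.TopBCD.TV.of_field_comp _ ρ h2'
  exact (Groth.Agent.Lib.R2H3.TopBCD.fiber_iff f 1 hV hVg (g y') hyV).mpr h3

end Groth.Agent.S1485
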