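import Groth.Statements.S14875
import Mathlib
-- import your own Groth.Agent.* helpers here

set_option autoImplicit false
set_option linter.unusedSectionVars false
universe u v
open PLie

namespace Groth.Agent.S14875

section aux

variable {k : Type u} [Field k] {p : ℕ} [Fact p.Prime] [CharP k p]
variable {L : Type v} [LieRing L] [LieAlgebra k L]

/-- iterating the `p`-map raises `ad` to the `p^n`-th power -/
lemma ad_iterate (φ : PLie.PMap k p L) (x : L) (n : ℕ) :
    LieAlgebra.ad k L (φ.toFun^[n] x) = LieAlgebra.ad k L x ^ p ^ n := by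
  induction n generalizing x with
  | zero => simp
  | succ n ih =>
    rw [Function.iterate_succ, Function.comp_apply, ih, φ.ad_map, ← pow_mul, pow_succ']

lemma ad_isNilpotent_of_isPNilpotent (φ : PLie.PMap k p L) (x : L) (hx : PLie.IsPNilpotent φ x) :
    IsNilpotent (LieAlgebra.ad k L x) := by
  obtain ⟨n, hn⟩ := hx
  refine ⟨p ^ n, ?_⟩
  rw [← ad_iterate φ x n, hn, map_zero]

end aux

section aux2

variable {k : Type u} [Field k] {L : Type v} [LieRing L] [LieAlgebra k L] [Module.Finite k L]

open LieModule

/-- a Lie subalgebra all of whose elements are ad-nilpotent on `L` acts nilpotently on `L` (Engel) -/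
lemma isNilpotent_module_of_ad_nilpotent (U : LieSubalgebra k L)
    (h : ∀ x ∈ U, IsNilpotent (LieAlgebra.ad k L x)) : LieModule.IsNilpotent U L := by
  have hE : LieAlgebra.IsEngelian.{u, v, v} k U := LieAlgebra.isEngelian_of_isNoetherian
  apply hE L
  intro x
  have : toEnd k U L x = LieAlgebra.ad k L (x : L) := by
    ext m
    rfl
  rw [this]
  exact h x x.2

/-- the normalizer of `U` preserves each term of the lower central series of the `U`-module `L` -/
lemma lie_mem_lcs_of_mem_normalizer (U : LieSubalgebra k L) (i : ℕ) (h : L) (hh : h ∈ U.normalizer)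
    (n : L) (hn : n ∈ lowerCentralSeries k U L i) : ⁅h, n⁆ ∈ lowerCentralSeries k U L i := by
  induction i generalizing n with
  | zero => simp
  | succ i ih =>
    rw [lowerCentralSeries_succ, ← LieSubmodule.mem_toSubmodule,
      LieSubmodule.lieIdeal_oper_eq_linear_span'] at hn
    refine Submodule.span_induction ?_ ?_ ?_ ?_ hn
    · rintro _ ⟨u, -, m, hm, rfl⟩
      have h1 : ⁅h, ⁅u, m⁆⁆ = ⁅(⟨⁅h, (u : L)⁆, (U.mem_normalizer_iff h).1 hh u u.2⟩ : U), m⁆ + ⁅u, ⁅h, m⁆⁆ := by
        simp only [LieSubalgebra.coe_bracket_of_module]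
        exact leibniz_lie h (u : L) m
      rw [h1]
      refine add_mem ?_ ?_
      · rw [lowerCentralSeries_succ]
        exact LieSubmodule.lie_mem_lie (LieSubmodule.mem_top _) hm
      · rw [lowerCentralSeries_succ]
        exact LieSubmodule.lie_mem_lie (LieSubmodule.mem_top _) (ih m hm)
    · simp
    · intro a b _ _ ha hb
      rw [lie_add]
      exact add_mem ha hb
    · intro c a _ ha
      rw [lie_smul]
      exact (lowerCentralSeries k U L (i + 1)).smul_mem c ha

end aux2

section aux3

variable {k : Type u} [Field k] {L : Type v} [LieRing L] [LieAlgebra k L] [Module.Finite k L]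

open LieModule

/-- if `U` acts nilpotently, `x ∈ U` and `h` normalizes `U`, then `ad h ∘ ad x` is nilpotent -/
lemma isNilpotent_ad_comp_ad (U : LieSubalgebra k L) (hU : LieModule.IsNilpotent U L)
    (h x : L) (hh : h ∈ U.normalizer) (hx : x ∈ U) :
    IsNilpotent (LieAlgebra.ad k L h ∘ₗ LieAlgebra.ad k L x) := by
  obtain ⟨m, hm⟩ := hU.nilpotent k
  refine ⟨m, ?_⟩
  have key : ∀ (j : ℕ) (l : L),
      ((LieAlgebra.ad k L h ∘ₗ LieAlgebra.ad k L x) ^ j) l ∈ lowerCentralSeries k U L j := by
    intro j
    induction j with
    | zero => intro l; simp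
    | succ j ih =>
      intro l
      rw [pow_succ', Module.End.mul_apply]
      have h1 := ih l
      set y := ((LieAlgebra.ad k L h ∘ₗ LieAlgebra.ad k L x) ^ j) l with hy
      have h2 : ⁅x, y⁆ ∈ lowerCentralSeries k U L (j + 1) := by
        rw [lowerCentralSeries_succ]
        have : ⁅x, y⁆ = ⁅(⟨x, hx⟩ : U), y⁆ := rfl
        rw [this]
        exact LieSubmodule.lie_mem_lie (LieSubmodule.mem_top _) h1
      have h3 := lie_mem_lcs_of_mem_normalizer U (j + 1) h hh _ h2
      simpa using h3
  ext l
  have := key m l
  rw [hm] at this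
  simpa using this

end aux3

/-- Let `L` be a finite-dimensional Lie algebra over a field of characteristic `p` equipped with a
`p`-mapping `φ`, whose Killing form is non-degenerate. Let `U` and `H` be Lie subalgebras of `L`
such that `H` is the normaliser of `U`, `U` is the set of elements of `H` that lie in the solvable
radical of `H` and are `p`-nilpotent, and the orthogonal of `U` for the Killing form is closed under
the bracket. Then `U` is the orthogonal of `H` for the Killing form. (The published statement is for
the Lie algebra of a reductive group over a field of characteristic `p` with its canonical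
`p`-structure; this row states it for any finite-dimensional Lie algebra with a `p`-mapping.) -/
theorem result
    (k : Type u) [Field k] (p : ℕ) [Fact p.Prime] [CharP k p]
    (L : Type v) [LieRing L] [LieAlgebra k L] [Module.Finite k L]
    (φ : PLie.PMap k p L) (hκ : (killingForm k L).Nondegenerate)
    (U H : LieSubalgebra k L) (hH : H = U.normalizer)
    (hU : ∀ x : L, x ∈ U ↔ ∃ hx : x ∈ H, (⟨x, hx⟩ : ↥H) ∈ LieAlgebra.radical k ↥H ∧ PLie.IsPNilpotent φ x)
    (hperp : ∀ a b : L, (∀ y ∈ U, killingForm k L a y = 0) → (∀ y ∈ U, killingForm k L b y = 0) →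
      ∀ y ∈ U, killingForm k L ⁅a, b⁆ y = 0) :
    ∀ x : L, x ∈ U ↔ ∀ h ∈ H, killingForm k L h x = 0 := by
  intro x
  -- `U` consists of ad-nilpotent elements, hence acts nilpotently on `L`
  have hUnil : ∀ y ∈ U, IsNilpotent (LieAlgebra.ad k L y) := by
    intro y hy
    obtain ⟨_, _, hy3⟩ := (hU y).1 hy
    exact ad_isNilpotent_of_isPNilpotent φ y hy3
  have hUmod : LieModule.IsNilpotent U L := isNilpotent_module_of_ad_nilpotent U hUnil
  -- first inclusion: `U ⊆ H^⊥`
  have hperp1 : ∀ y ∈ U, ∀ h ∈ H, killingForm k L h y = 0 := by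
    intro y hy h hh
    rw [killingForm_apply_apply]
    have hh' : h ∈ U.normalizer := hH ▸ hh
    exact (LinearMap.isNilpotent_trace_of_isNilpotent
      (isNilpotent_ad_comp_ad U hUmod h y hh' hy)).eq_zero
  -- bilinear form facts
  set B : LinearMap.BilinForm k L := killingForm k L with hB
  have hsymm : ∀ a b : L, B a b = B b a := fun a b => LieModule.traceForm_comm k L L a b
  have hrefl : B.IsRefl := fun a b hab => by rw [hsymm]; exact hab
  have hoo : B.orthogonal (B.orthogonal U.toSubmodule) = U.toSubmodule :=
    LinearMap.BilinForm.orthogonal_orthogonal hκ hrefl _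
  -- membership in the orthogonal
  have hmemo : ∀ a : L, a ∈ B.orthogonal U.toSubmodule ↔ ∀ y ∈ U, B a y = 0 := by
    intro a
    rw [LinearMap.BilinForm.mem_orthogonal_iff]
    constructor
    · intro h y hy
      rw [hsymm]
      exact h y hy
    · intro h y hy
      have := h y hy
      rw [hsymm] at this
      exact this
  -- `U^⊥ ⊆ N(U) = H`
  have hPH : ∀ a : L, a ∈ B.orthogonal U.toSubmodule → a ∈ H := by
    intro a ha
    rw [hH, LieSubalgebra.mem_normalizer_iff]
    intro u hu
    have : ⁅a, u⁆ ∈ B.orthogonal (B.orthogonal U.toSubmodule) := by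
      rw [LinearMap.BilinForm.mem_orthogonal_iff]
      intro b hb
      -- `B b ⁅a, u⁆ = 0`
      show B b ⁅a, u⁆ = 0
      have h1 : B b ⁅a, u⁆ = B ⁅b, a⁆ u := by
        rw [hB]
        exact (LieModule.traceForm_apply_lie_apply k L L b a u).symm
      rw [h1]
      exact hperp b a ((hmemo b).1 hb) ((hmemo a).1 ha) u hu
    rw [hoo] at this
    exact this
  constructor
  · intro hx h hh
    exact hperp1 x hx h hh
  · intro hx
    have : x ∈ B.orthogonal (B.orthogonal U.toSubmodule) := by
      rw [LinearMap.BilinForm.mem_orthogonal_iff]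
      intro a ha
      exact hx a (hPH a ha)
    rw [hoo] at this
    exact this

end Groth.Agent.S14875
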