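import Groth.Statements.S1493
import Groth.Agent.Lib.R2H3KzLCIEquiv
import Groth.Agent.Lib.Helper6SmRegSch2
import Groth.Agent.Lib.Helper5RegImm2
import Groth.Agent.S8905

set_option linter.style.haveILetI false
set_option linter.unusedVariables false
set_option linter.unusedSectionVars false

set_option autoImplicit false
universe u
attribute [local instance] HasDerivedCategory.standard
open FlatMor

namespace Groth.Agent.S1493

open AlgebraicGeometry CategoryTheory Limits in
/-- a locally finite type morphism of regular schemes is Koszul at every point -/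
theorem isKoszulAt {X Y : Scheme.{u}} (f : X ⟶ Y) [LocallyOfFiniteType f] [IsLocallyNoetherian X]
    [IsLocallyNoetherian Y]
    (hX : ∀ x : X, IsRegularLocalRing ↑(X.presheaf.stalk x))
    (hY : ∀ y : Y, IsRegularLocalRing ↑(Y.presheaf.stalk y)) (x : X) : Synt.IsKoszulAt f x := by
  obtain ⟨V, hV, hyV, -⟩ := exists_isAffineOpen_mem_and_subset (X := Y) (x := f x)
    (U := ⊤) trivial
  obtain ⟨U, hU, hxU, e⟩ := exists_isAffineOpen_mem_and_subset (X := X) (x := x)
    (U := f ⁻¹ᵁ V) hyV
  letI := (f.appLE V U e).hom.toAlgebra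
  have hft : Algebra.FiniteType Γ(Y, V) Γ(X, U) := by
    have := f.finiteType_appLE hV hU e
    exact this
  obtain ⟨n, α, hα⟩ := Algebra.FiniteType.iff_quotient_mvPolynomial''.mp hft
  haveI : IsAffine (U : Scheme.{u}) := hU
  haveI : IsNoetherianRing Γ(Y, V) := IsLocallyNoetherian.component_noetherian ⟨V, hV⟩
  haveI : IsNoetherianRing (MvPolynomial (Fin n) Γ(Y, V)) := inferInstance
  haveI : IsNoetherianRing ↑(CommRingCat.of (MvPolynomial (Fin n) Γ(Y, V))) :=
    inferInstanceAs (IsNoetherianRing (MvPolynomial (Fin n) Γ(Y, V)))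
  haveI : IsLocallyNoetherian (Spec (CommRingCat.of (MvPolynomial (Fin n) Γ(Y, V)))) :=
    inferInstance
  haveI : Smooth (Spec.map (CommRingCat.ofHom (algebraMap Γ(Y, V) (MvPolynomial (Fin n) Γ(Y, V))))) :=
    Groth.Agent.Lib.R2H3.KzLCIEquiv.smooth_Spec_mvPolynomial _ n
  haveI : IsClosedImmersion (Spec.map (CommRingCat.ofHom α.toRingHom)) :=
    IsClosedImmersion.spec_of_surjective _ hα
  set π : Spec (CommRingCat.of (MvPolynomial (Fin n) Γ(Y, V))) ⟶ Y :=
    Spec.map (CommRingCat.ofHom (algebraMap Γ(Y, V) (MvPolynomial (Fin n) Γ(Y, V)))) ≫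
      hV.fromSpec with hπ
  haveI : Smooth π := by rw [hπ]; infer_instance
  set i : (U : Scheme.{u}) ⟶ Spec (CommRingCat.of (MvPolynomial (Fin n) Γ(Y, V))) :=
    hU.isoSpec.hom ≫ Spec.map (CommRingCat.ofHom α.toRingHom) with hi
  haveI : IsImmersion i := by rw [hi]; infer_instance
  have hcomm : i ≫ π = U.ι ≫ f := by
    have h1 : Spec.map (CommRingCat.ofHom α.toRingHom) ≫
        Spec.map (CommRingCat.ofHom (algebraMap Γ(Y, V) (MvPolynomial (Fin n) Γ(Y, V)))) =
        Spec.map (f.appLE V U e) := by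
      rw [← Spec.map_comp]
      congr 1
      ext a
      exact α.commutes a
    rw [hi, hπ, Category.assoc, ← Category.assoc (Spec.map (CommRingCat.ofHom α.toRingHom)), h1,
      IsAffineOpen.SpecMap_appLE_fromSpec f hV hU e, ← Category.assoc,
      IsAffineOpen.isoSpec_hom_fromSpec]
  have hregP : ∀ p : Spec (CommRingCat.of (MvPolynomial (Fin n) Γ(Y, V))),
      IsRegularLocalRing ((Spec (CommRingCat.of (MvPolynomial (Fin n) Γ(Y, V)))).presheaf.stalk p) :=
    fun p => (Groth.Agent.Lib.Helper6.SmRegSch2.isRegularLocalRing_stalk_iff_of_smooth π p).mpr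
      (hY _)
  have hregU : ∀ z : (U : Scheme.{u}), IsRegularLocalRing ((U : Scheme.{u}).presheaf.stalk z) :=
    fun z => (Groth.Agent.Lib.Helper6.SmRegSch2.isRegularLocalRing_stalk_iff_of_smooth U.ι z).mpr
      (hX _)
  have hreg : RegImm.IsRegularImmersion RegImm.Kind.regular i :=
    Groth.Agent.Lib.Helper5.RegImm.isRegularImmersion_of_regular i hregP hregU
  have hkos : RegImm.IsRegularImmersion RegImm.Kind.koszul i :=
    (Groth.Agent.S8905.result i).1 hreg
  refine ⟨U, _, i, π, hxU, inferInstance, hkos, inferInstance, hcomm⟩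

open AlgebraicGeometry CategoryTheory Limits in
/-- Let f : X → Y be locally of finite type with X and Y regular (locally Noetherian with regular local
rings). Then f is a local complete intersection morphism (affine-locally: local complete
intersection ring maps). -/
theorem result {X Y : Scheme.{u}} (f : X ⟶ Y) [LocallyOfFiniteType f] [IsLocallyNoetherian X] [IsLocallyNoetherian Y]
    (hX : ∀ x : X, IsRegularLocalRing ↑(X.presheaf.stalk x)) (hY : ∀ y : Y, IsRegularLocalRing ↑(Y.presheaf.stalk y)) :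
    (∀ (U : X.Opens) (V : Y.Opens) (hU : IsAffineOpen U) (hV : IsAffineOpen V) (hUV : U ≤ f ⁻¹ᵁ V),
        letI := (f.appLE V U hUV).hom.toAlgebra
        LCI.IsLCI Γ(Y, V) Γ(X, U)) := by
  intro U V hU hV hUV
  exact Groth.Agent.Lib.R2H3.KzLCIEquiv.isLCI_of_isKoszulAt f (isKoszulAt f hX hY) U hU V hV hUV

end Groth.Agent.S1493
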