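import Groth.Statements.S1500
import Mathlib
import Groth.Agent.Lib.Helper23TwExt
import Groth.Agent.Lib.Helper23PB2
import Groth.Agent.Lib.Helper23TensorUnit
import Groth.Agent.Lib.Helper18Cart1
import Groth.Agent.Lib.R2H4InvExists
import Groth.Agent.Lib.R2H4TensorPows
import Groth.Agent.Lib.R2H1CurveAffProj

set_option autoImplicit false
universe u
open FlatMor

namespace Groth.Agent.S1500
open CategoryTheory CategoryTheory.Limits AlgebraicGeometry TopologicalSpace
open Groth.Agent.Lib.Helper23.AmpleIso Groth.Agent.Lib.Helper23.SecTw Groth.Agent.Lib.Helper23.TwExt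
open Groth.Agent.Lib.Helper23.PB Groth.Agent.Lib.Helper23.TensorUnit

open AlgebraicGeometry CategoryTheory Limits in
/-- Let D_1, …, D_m be effective Cartier divisors on X (ideal sheaves locally generated by a
nonzerodivisor) with empty common support, and L_1, …, L_m invertible O_X-modules with L_i ample on
the open complement of D_i. Then X has an ample family of invertible modules. -/
theorem result {X : Scheme.{u}} {m : ℕ} (D : Fin m → X.IdealSheafData)
    (hD : ∀ i, BlowUp.IsEffCartierIdeal (D i)) (hcap : ⋂ i, ((D i).support : Set ↑X) = ∅)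
    (L : Fin m → X.Modules) (hL : ∀ i, PicF.IsInvertible (L i)) (hamp : ∀ i, CohB1.IsAmple ((L i).restrict (Scheme.Opens.ι (D i).support.compl))) :
    MoreMor.HasAmpleFamily X := by
  classical
  have hDinv : ∀ i, PicF.IsInvertible (ClSub.idealMod (D i)) := fun i =>
    Groth.Agent.Helper18Cart.isInvertible_of_isEffCartier (D i) (hD i)
  have hP : ∀ i, ∃ P : X.Modules, PicF.IsInvertible P ∧
      Nonempty (CohB1.tensorMod (ClSub.idealMod (D i)) P ≅ Coh.structureModule X) := fun i =>
    Groth.Agent.Lib.R2H4InvExists.exists_inverse _ (hDinv i)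
  choose P hPinv hPe using hP
  let e : ∀ i, CohB1.tensorMod (P i) (ClSub.idealMod (D i)) ≅ Coh.structureModule X := fun i =>
    Groth.Agent.Lib.R2H4TensorPows.tComm _ _ ≪≫ (hPe i).some
  let σ : ∀ i, Coh.structureModule X ⟶ P i := fun i =>
    Groth.Agent.Lib.R2H1.CurveAffProj.canonSec (D i) (P i) (e i)
  have hgl : ∀ i, CohB1.genLocus (P i) (σ i) = (D i).support.compl := by
    intro i
    apply le_antisymm
    · intro y hy
      exact Groth.Agent.Lib.R2H1.CurveAffProj.notMem_support_of_mem_genLocus_canonSec (D i) (P i) (hPinv i) (e i) y hy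
    · intro y hy
      exact Groth.Agent.Lib.R2H1.CurveAffProj.mem_genLocus_canonSec (D i) (P i) (hPinv i) (e i) y hy
  have hamp' : ∀ i, CohB1.IsAmple ((L i).restrict (CohB1.genLocus (P i) (σ i)).ι) := by
    intro i
    rw [hgl i]
    exact hamp i
  have hcov : ∀ x : X, ∃ i, x ∈ CohB1.genLocus (P i) (σ i) := by
    intro x
    by_contra hcon
    push Not at hcon
    have hx : x ∈ ⋂ i, ((D i).support : Set ↑X) := by
      refine Set.mem_iInter.2 (fun i => ?_)
      by_contra hxi
      exact hcon i ((hgl i).symm ▸ hxi)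
    rw [hcap] at hx
    exact hx
  -- compactness
  have hXc : CompactSpace X := by
    refine ⟨?_⟩
    have h1 : (Set.univ : Set X) = ⋃ i, ((CohB1.genLocus (P i) (σ i) : X.Opens) : Set X) := by
      ext x
      simp only [Set.mem_univ, Set.mem_iUnion, true_iff]
      exact hcov x
    rw [h1]
    refine isCompact_iUnion (fun i => ?_)
    have : CompactSpace ↥(CohB1.genLocus (P i) (σ i)) := (hamp' i).2.1
    exact isCompact_iff_compactSpace.2 this
  -- data at each point
  have key : ∀ x : X, ∃ (M : X.Modules) (P : X.Modules) (σ : Coh.structureModule X ⟶ P), PicF.IsInvertible M ∧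
      PicF.IsInvertible P ∧ x ∈ CohB1.genLocus P σ ∧ CohB1.IsAmple (M.restrict (CohB1.genLocus P σ).ι) := by
    intro x
    obtain ⟨i, hi⟩ := hcov x
    exact ⟨L i, P i, σ i, hL i, hPinv i, hi, hamp' i⟩
  have : QuasiSeparatedSpace X := by
    refine quasiSeparatedSpace_of_opens_cover X (fun x => ?_)
    obtain ⟨M, P, σ, -, hP, hx, hamp⟩ := key x
    refine ⟨CohB1.genLocus P σ, hx, quasiSeparatedSpace_of_isAmple _ hamp, fun A => ?_⟩
    exact (isAffineOpen_inf_genLocus P hP σ A.1 A.2).isCompact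
  refine ⟨hXc, fun x => ?_⟩
  obtain ⟨M, P, σ, hMinv, hP, hx, hamp⟩ := key x
  obtain ⟨U, hU⟩ : ∃ U : X.Opens, U = CohB1.genLocus P σ := ⟨_, rfl⟩
  rw [← hU] at hx hamp
  obtain ⟨m, s', hxs', haff'⟩ := hamp.2.2 (⟨x, hx⟩ : (↑U : Scheme.{u}))
  obtain ⟨Φ⟩ := nonempty_restrict_tensorPow_iso M hMinv U (m + 1)
  have hQ := isInvertible_tensorPow hMinv (m + 1)
  obtain ⟨n', u, hu⟩ := exists_twisted_section_genLocus_eq P hP σ (CohB1.tensorPow M (m + 1)) hQ U hU (s' ≫ Φ.inv)
  have hgl' : CohB1.genLocus _ (s' ≫ Φ.inv) = CohB1.genLocus _ s' := genLocus_comp_iso Φ.symm s'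
  rw [hgl'] at hu
  have hM : PicF.IsInvertible (CohB1.tensorMod (CohB1.tensorMod (CohB1.tensorPow M (m + 1)) (CohB1.tensorPow P n')) P) :=
    isInvertible_tensorMod (isInvertible_tensorMod hQ (isInvertible_tensorPow hP n')) hP
  refine ⟨_, 1, u ≫ (unitTensorIso _).inv, hM, le_rfl, ?_, ?_⟩
  · have h1 : CohB1.genLocus _ (u ≫ (unitTensorIso _).inv) = CohB1.genLocus _ u := genLocus_comp_iso (unitTensorIso _).symm u
    change x ∈ CohB1.genLocus _ (u ≫ (unitTensorIso _).inv)
    rw [h1, hu]
    exact ⟨⟨x, hx⟩, hxs', rfl⟩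
  · have h1 : CohB1.genLocus _ (u ≫ (unitTensorIso _).inv) = CohB1.genLocus _ u := genLocus_comp_iso (unitTensorIso _).symm u
    change IsAffineOpen (CohB1.genLocus _ (u ≫ (unitTensorIso _).inv))
    rw [h1, hu]
    exact haff'.image_of_isOpenImmersion U.ι

end Groth.Agent.S1500
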