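import Groth.Statements.S7168
import Groth.Agent.Lib.R2H3PCMod

set_option autoImplicit false
universe u
attribute [local instance] HasDerivedCategory.standard
open FlatMor

namespace Groth.Agent.S7168


/-- A pseudo-coherent ring map is of finite presentation. -/
lemma finitePresentation_of_isPseudoCoherentHom (A B : Type u) [CommRing A] [CommRing B]
    [Algebra A B] (h : MoreMor.IsPseudoCoherentHom A B) : Algebra.FinitePresentation A B := by
  obtain ⟨n, φ, hφ, hpc⟩ := h
  letI := φ.toRingHom.toAlgebra
  have hfp : Module.FinitePresentation (MvPolynomial (Fin n) A) B :=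
    Groth.Agent.Lib.R2H3.PCMod.finitePresentation_of_isPseudoCoherentModule' B hpc
  have hker : (LinearMap.ker (Algebra.linearMap (MvPolynomial (Fin n) A) B)).FG :=
    Module.FinitePresentation.fg_ker (Algebra.linearMap (MvPolynomial (Fin n) A) B) hφ
  refine Algebra.FinitePresentation.of_surjective (f := φ) hφ ?_
  exact hker

open AlgebraicGeometry CategoryTheory Limits in
/-- A pseudo-coherent morphism of schemes is locally of finite presentation. -/
theorem result {X S : Scheme.{u}} (f : X ⟶ S) (hf : MoreMor.IsPseudoCoherentMor f) :
    LocallyOfFinitePresentation f := by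
  rw [HasRingHomProperty.iff_appLE (P := @LocallyOfFinitePresentation)]
  intro V U e
  have h := hf U.1 V.1 U.2 V.2 e
  letI := (f.appLE V.1 U.1 e).hom.toAlgebra
  have := finitePresentation_of_isPseudoCoherentHom Γ(S, V.1) Γ(X, U.1) h
  rw [RingHom.FinitePresentation]
  convert this

end Groth.Agent.S7168
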