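import Groth.Statements.S15126
import Mathlib
import Groth.Agent.Lib.R2H7Arcs

set_option autoImplicit false
universe u
open Formal

namespace Groth.Agent.S15126

/-- Affine case. Let k be a field, n > 0, and R a commutative algebra over the power series ring
k[[z_1,…,z_n]]; for a commutative k-algebra Q regard Q[[z_1,…,z_n]] as a k[[z]]-algebra
coefficientwise. Then the functor Q ↦ Hom_{k[[z]]-alg}(R, Q[[z]]) on commutative k-algebras is
corepresentable: there exist a commutative k-algebra P and a k[[z]]-algebra homomorphism u : R →
P[[z]] such that every k[[z]]-algebra homomorphism R → Q[[z]] arises from u by applying a unique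
k-algebra homomorphism P → Q coefficientwise. If moreover R is countably generated as a
k[[z]]-algebra, P may be taken countably generated over k. (The published statement is for an adic
formal scheme Y over the formal disc Spf k[[z]], asserting that the sheaf of sections of Y over the
disc is a scheme, affine over the fibre of Y at the origin, and of pro-finite type when Y is; this
row is the case Y = Spf R, to which the published argument reduces, stated for the underlying
algebra R; k is algebraically closed there, which is not used.) -/
theorem result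
    (k : Type u) [Field k] (n : ℕ) (hn : 0 < n)
    (R : Type u) [CommRing R] [Algebra (MvPowerSeries (Fin n) k) R] :
    ∃ (P : Type u) (_ : CommRing P) (_ : Algebra k P)
      (u : R →ₐ[MvPowerSeries (Fin n) k] MvPowerSeries (Fin n) P),
      (∀ (Q : Type u) [CommRing Q] [Algebra k Q]
          (f : R →ₐ[MvPowerSeries (Fin n) k] MvPowerSeries (Fin n) Q),
          ∃! g : P →ₐ[k] Q,
            (MvPowerSeries.map (σ := Fin n) (g : P →+* Q)).comp (u : R →+* MvPowerSeries (Fin n) P) =
              (f : R →+* MvPowerSeries (Fin n) Q)) ∧
      ((∃ s : Set R, s.Countable ∧ Algebra.adjoin (MvPowerSeries (Fin n) k) s = ⊤) →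
        ∃ t : Set P, t.Countable ∧ Algebra.adjoin k t = ⊤) := by
  classical
  refine ⟨Groth.Agent.Lib.R2H7.Arcs.P k (Fin n) R, inferInstance, inferInstance,
    Groth.Agent.Lib.R2H7.Arcs.u k (Fin n) R, ?_, ?_⟩
  · intro Q _ _ f
    refine ⟨Groth.Agent.Lib.R2H7.Arcs.lift f, Groth.Agent.Lib.R2H7.Arcs.map_lift_comp_u f, ?_⟩
    intro g hg
    exact Groth.Agent.Lib.R2H7.Arcs.lift_unique f g hg
  · rintro ⟨s, hs, hs2⟩
    exact ⟨Groth.Agent.Lib.R2H7.Arcs.genSet s, Groth.Agent.Lib.R2H7.Arcs.genSet_countable s hs,
      Groth.Agent.Lib.R2H7.Arcs.adjoin_genSet s hs2⟩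

end Groth.Agent.S15126
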