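import Groth.Statements.S1514
import Groth.Agent.Lib.R2H3TorLoc
import Groth.Agent.Lib.Helper1TorH
import Groth.Agent.S7168
import Groth.Agent.S7019
import Groth.Agent.S6954

set_option autoImplicit false
set_option linter.style.haveILetI false
set_option linter.unusedVariables false
set_option linter.unusedSectionVars false
universe u
attribute [local instance] HasDerivedCategory.standard
open FlatMor

namespace Groth.Agent.S1514

open Groth.Agent.Lib.R2H3.PerfLocal Groth.Agent.Lib.R2H3.TorLoc Groth.Agent.Lib.Helper14.TorSyz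
  Groth.Agent.Lib.Helper1.Tor

/-- A local complete intersection ring map is a perfect ring map. -/
lemma isPerfectHom_of_isLCI (A B : Type u) [CommRing A] [CommRing B] [Algebra A B]
    (h : LCI.IsLCI A B) : MoreMor.IsPerfectHom A B := by
  obtain ⟨-, n, f, hf, hK⟩ := h
  have hperf : DRing.IsPerfectModule (MvPolynomial (Fin n) A)
      (MvPolynomial (Fin n) A ⧸ RingHom.ker f.toRingHom) :=
    isPerfectModule_quotient_of_isKoszulRegularIdeal _ hK
  letI algPB : Algebra (MvPolynomial (Fin n) A) B := f.toRingHom.toAlgebra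
  haveI : IsScalarTower A (MvPolynomial (Fin n) A) B :=
    IsScalarTower.of_algebraMap_eq' f.comp_algebraMap.symm
  have hsurj : Function.Surjective (Algebra.linearMap (MvPolynomial (Fin n) A) B) := hf
  have hker : LinearMap.ker (Algebra.linearMap (MvPolynomial (Fin n) A) B) =
      RingHom.ker f.toRingHom := by
    ext x
    simp only [LinearMap.mem_ker, Algebra.linearMap_apply, RingHom.mem_ker]
    rfl
  let e : (MvPolynomial (Fin n) A ⧸ RingHom.ker f.toRingHom) ≃ₗ[MvPolynomial (Fin n) A] B :=
    (Submodule.quotEquivOfEq _ _ hker.symm).trans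
      (LinearMap.quotKerEquivOfSurjective (Algebra.linearMap (MvPolynomial (Fin n) A) B) hsurj)
  have hperfB : DRing.IsPerfectModule (MvPolynomial (Fin n) A) B :=
    isPerfectModule_of_linearEquiv e hperf
  obtain ⟨hpc, a, b, hab⟩ := (Groth.Agent.S6954.result (MvPolynomial (Fin n) A) _).1 hperfB
  refine ⟨⟨n, f, hf, hpc⟩, ?_⟩
  have h1 : DRing.HasTorAmplitudeIn (MvPolynomial (Fin n) A) (-(((-a).toNat : ℕ) : ℤ)) b
      (Dual.inD (MvPolynomial (Fin n) A) B) :=
    hasTorAmp_mono (by omega) le_rfl hab
  have h2 : DRing.HasTorDimLE (MvPolynomial (Fin n) A) (-a).toNat B :=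
    hasTorDimLE_of_hasTorAmp B _ b h1
  exact ⟨(-a).toNat, hasTorDimLE_restrict_of_flat A (MvPolynomial (Fin n) A) _ B h2⟩


open AlgebraicGeometry CategoryTheory Limits in
/-- A local complete intersection morphism (affine-locally: lci ring maps) is locally of finite
presentation, pseudo-coherent and perfect. -/
theorem result {X S : Scheme.{u}} (f : X ⟶ S)
    (hf : (∀ (U : X.Opens) (V : S.Opens) (hU : IsAffineOpen U) (hV : IsAffineOpen V) (hUV : U ≤ f ⁻¹ᵁ V),
        letI := (f.appLE V U hUV).hom.toAlgebra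
        LCI.IsLCI Γ(S, V) Γ(X, U))) :
    LocallyOfFinitePresentation f ∧ MoreMor.IsPseudoCoherentMor f ∧ MoreMor.IsPerfectMor f := by
  have hperf : MoreMor.IsPerfectMor f := by
    intro U V hU hV hUV
    letI := (f.appLE V U hUV).hom.toAlgebra
    exact isPerfectHom_of_isLCI Γ(S, V) Γ(X, U) (hf U V hU hV hUV)
  have hpc : MoreMor.IsPseudoCoherentMor f := by
    intro U V hU hV hUV
    exact (hperf U V hU hV hUV).1
  exact ⟨Groth.Agent.S7168.result f hpc, hpc, hperf⟩

end Groth.Agent.S1514
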