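import Groth.Statements.S15155
import Mathlib

set_option autoImplicit false
open CAlg

namespace Groth.Agent.S15155

namespace Aux

open Matrix

theorem diag_zero {F : Type*} [Field F] (h2 : (2 : F) ≠ 0) {ι : Type*}
    (M : Matrix ι ι F) (hM : Mᵀ = -M) (i : ι) : M i i = 0 := by
  have h := congrFun (congrFun hM i) i
  simp only [Matrix.transpose_apply, Matrix.neg_apply] at h
  have h' : (2 : F) * M i i = 0 := by linear_combination h
  rcases mul_eq_zero.1 h' with h'' | h''
  · exact absurd h'' h2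
  · exact h''

theorem anti {F : Type*} [Field F] {ι : Type*}
    (M : Matrix ι ι F) (hM : Mᵀ = -M) (i j : ι) : M j i = - M i j := by
  have h := congrFun (congrFun hM i) j
  simpa only [Matrix.transpose_apply, Matrix.neg_apply] using h

/-- 2×2 alternating determinant. -/
theorem det_of_card_two {F : Type*} [Field F] (h2 : (2 : F) ≠ 0) {ι : Type*} [Fintype ι]
    [DecidableEq ι] (hc : Fintype.card ι = 2) (M : Matrix ι ι F) (hM : Mᵀ = -M) (i j : ι)
    (hij : i ≠ j) : M.det = (M i j) ^ 2 := by
  let e : ι ≃ Fin 2 := Fintype.equivFinOfCardEq hc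
  have hdet : M.det = (Matrix.reindex e e M).det := (Matrix.det_reindex_self e M).symm
  rw [hdet, Matrix.det_fin_two]
  simp only [Matrix.reindex_apply, Matrix.submatrix_apply]
  rw [diag_zero h2 M hM, diag_zero h2 M hM, anti M hM (e.symm 0) (e.symm 1)]
  have hne : e i ≠ e j := fun h => hij (e.injective h)
  have h01 : (e i = 0 ∧ e j = 1) ∨ (e i = 1 ∧ e j = 0) := by
    have hi : e i = 0 ∨ e i = 1 := by
      rcases Fin.exists_fin_two.1 ⟨e i, rfl⟩ with h | h
      · exact Or.inl h
      · exact Or.inr h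
    have hj : e j = 0 ∨ e j = 1 := by
      rcases Fin.exists_fin_two.1 ⟨e j, rfl⟩ with h | h
      · exact Or.inl h
      · exact Or.inr h
    rcases hi with hi | hi <;> rcases hj with hj | hj
    · exact absurd (hi.trans hj.symm) hne
    · exact Or.inl ⟨hi, hj⟩
    · exact Or.inr ⟨hi, hj⟩
    · exact absurd (hi.trans hj.symm) hne
  rcases h01 with ⟨hi, hj⟩ | ⟨hi, hj⟩
  · rw [← hi, ← hj, e.symm_apply_apply, e.symm_apply_apply]; ring
  · rw [← hi, ← hj, e.symm_apply_apply, e.symm_apply_apply, anti M hM i j]; ring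

theorem neg_inv' {F : Type*} [Field F] {ι : Type*} [Fintype ι] [DecidableEq ι]
    (A : Matrix ι ι F) (hA : IsUnit A.det) : (-A)⁻¹ = -A⁻¹ := by
  apply Matrix.inv_eq_left_inv
  rw [neg_mul_neg, Matrix.nonsing_inv_mul A hA]

/-- determinant of an alternating matrix over a field of char ≠ 2 is a square. -/
theorem isSquare_det_of_alternating {F : Type*} [Field F] (h2 : (2 : F) ≠ 0) :
    ∀ (n : ℕ) (ι : Type) [Fintype ι] [DecidableEq ι], Fintype.card ι = n →
      ∀ M : Matrix ι ι F, Mᵀ = -M → IsSquare M.det := by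
  intro n
  induction n using Nat.strong_induction_on with
  | _ n ih =>
    intro ι _ _ hc M hM
    by_cases h0 : M = 0
    · subst h0
      rcases Nat.eq_zero_or_pos n with rfl | hpos
      · haveI : IsEmpty ι := Fintype.card_eq_zero_iff.1 hc
        rw [Matrix.det_isEmpty]; exact ⟨1, by simp⟩
      · haveI : Nonempty ι := Fintype.card_pos_iff.1 (hc ▸ hpos)
        rw [Matrix.det_zero]; exact ⟨0, by simp⟩
    · obtain ⟨i, j, hij⟩ : ∃ i j, M i j ≠ 0 := by
        by_contra hcon
        push Not at hcon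
        exact h0 (Matrix.ext hcon)
      have hne : i ≠ j := fun h => hij (h ▸ diag_zero h2 M hM i)
      let p : ι → Prop := fun x => x = i ∨ x = j
      let e : ι ≃ {x // p x} ⊕ {x // ¬ p x} := (Equiv.sumCompl p).symm
      have hdet : M.det = (Matrix.reindex e e M).det := (Matrix.det_reindex_self e M).symm
      set M' : Matrix ({x // p x} ⊕ {x // ¬ p x}) ({x // p x} ⊕ {x // ¬ p x}) F :=
        Matrix.reindex e e M with hM'def
      have hM' : M'ᵀ = -M' := by
        ext a b
        simp only [hM'def, Matrix.transpose_apply, Matrix.reindex_apply, Matrix.submatrix_apply,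
          Matrix.neg_apply]
        exact anti M hM _ _
      set A := M'.toBlocks₁₁ with hA
      set B := M'.toBlocks₁₂ with hB
      set C := M'.toBlocks₂₁ with hC
      set D := M'.toBlocks₂₂ with hD
      have hblocks : M' = Matrix.fromBlocks A B C D := (Matrix.fromBlocks_toBlocks M').symm
      have hAalt : Aᵀ = -A := by
        ext a b
        have := anti M' hM' (Sum.inl a) (Sum.inl b)
        simpa [hA, Matrix.toBlocks₁₁] using this
      have hDalt : Dᵀ = -D := by
        ext a b
        have := anti M' hM' (Sum.inr a) (Sum.inr b)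
        simpa [hD, Matrix.toBlocks₂₂] using this
      have hCB : Cᵀ = -B := by
        ext a b
        have := anti M' hM' (Sum.inl a) (Sum.inr b)
        simpa [hC, hB, Matrix.toBlocks₂₁, Matrix.toBlocks₁₂] using this
      have hBC : Bᵀ = -C := by
        ext a b
        have := anti M' hM' (Sum.inr a) (Sum.inl b)
        simpa [hC, hB, Matrix.toBlocks₂₁, Matrix.toBlocks₁₂] using this
      have hcardA : Fintype.card {x // p x} = 2 := by
        rw [Fintype.card_subtype]
        have : (Finset.univ.filter fun x => p x) = {i, j} := by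
          ext x; simp [p]
        rw [this, Finset.card_pair hne]
      have hcardD : Fintype.card {x // ¬ p x} = n - 2 := by
        rw [Fintype.card_subtype_compl, hc, hcardA]
      have hAdet : A.det = (M i j) ^ 2 := by
        have := det_of_card_two h2 hcardA A hAalt ⟨i, Or.inl rfl⟩ ⟨j, Or.inr rfl⟩
          (fun h => hne (congrArg Subtype.val h))
        rw [this]
        simp [hA, Matrix.toBlocks₁₁, hM'def, e]
      have hAunit : IsUnit A.det := by
        rw [hAdet]; exact isUnit_iff_ne_zero.2 (pow_ne_zero 2 hij)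
      haveI : Invertible A := Matrix.invertibleOfIsUnitDet A hAunit
      rw [hdet, hblocks, Matrix.det_fromBlocks₁₁, Matrix.invOf_eq_nonsing_inv]
      have hSalt : (D - C * A⁻¹ * B)ᵀ = -(D - C * A⁻¹ * B) := by
        rw [Matrix.transpose_sub, Matrix.transpose_mul, Matrix.transpose_mul,
          Matrix.transpose_nonsing_inv, hDalt, hAalt, hCB, hBC, neg_inv' A hAunit]
        simp only [Matrix.neg_mul, Matrix.mul_neg, neg_neg, Matrix.mul_assoc]
        abel
      have hn2 : 2 ≤ n := by
        rw [← hc]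
        calc 2 = Fintype.card {x // p x} := hcardA.symm
          _ ≤ Fintype.card ι := Fintype.card_subtype_le p
      have hS := ih (n - 2) (by omega) {x // ¬ p x} hcardD _ hSalt
      rw [hAdet]
      exact IsSquare.mul ⟨M i j, sq _⟩ hS

theorem isSquare_of_isSquare_fraction {R : Type*} [CommRing R] [IsDomain R] [IsIntegrallyClosed R]
    (r : R) (h : IsSquare (algebraMap R (FractionRing R) r)) : IsSquare r := by
  obtain ⟨y, hy⟩ := h
  have hint : IsIntegral R y := by
    refine ⟨Polynomial.X ^ 2 - Polynomial.C r, Polynomial.monic_X_pow_sub_C r (by norm_num), ?_⟩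
    simp [hy, sq]
  obtain ⟨x, rfl⟩ := IsIntegrallyClosed.isIntegral_iff.1 hint
  refine ⟨x, IsFractionRing.injective R (FractionRing R) ?_⟩
  rw [hy, map_mul]

end Aux

/-- Let J be the 2m × 2m block matrix with blocks 0, I_m in the first row and −I_m, 0 in the second,
over the complex numbers. On the set of complex 2m × 2m matrices A with ᵗA · J = J · A (equivalently
ᵗA = J A J⁻¹, J being invertible), the characteristic polynomial is the square of a single
polynomial in the entries of A with coefficients in ℂ[X], and the determinant is the square of a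
single polynomial in the entries of A. -/
theorem result (m : ℕ) :
    (∃ P : MvPolynomial ((Fin m ⊕ Fin m) × (Fin m ⊕ Fin m)) (Polynomial ℂ),
      ∀ A : Matrix (Fin m ⊕ Fin m) (Fin m ⊕ Fin m) ℂ,
        A.transpose * Matrix.fromBlocks 0 1 (-1) 0 = Matrix.fromBlocks 0 1 (-1) 0 * A →
        A.charpoly = (MvPolynomial.eval (fun ij => Polynomial.C (A ij.1 ij.2)) P) ^ 2) ∧
    (∃ Q : MvPolynomial ((Fin m ⊕ Fin m) × (Fin m ⊕ Fin m)) ℂ,
      ∀ A : Matrix (Fin m ⊕ Fin m) (Fin m ⊕ Fin m) ℂ,
        A.transpose * Matrix.fromBlocks 0 1 (-1) 0 = Matrix.fromBlocks 0 1 (-1) 0 * A →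
        A.det = (MvPolynomial.eval (fun ij => A ij.1 ij.2) Q) ^ 2) := by
  classical
  set J : Matrix (Fin m ⊕ Fin m) (Fin m ⊕ Fin m) (Polynomial ℂ) :=
    Matrix.fromBlocks 0 1 (-1) 0 with hJ
  have hJt : J.transpose = -J := by
    rw [hJ, Matrix.fromBlocks_transpose, Matrix.fromBlocks_neg]
    simp
  have hJJ : J.det * J.det = 1 := by
    have h1 : J * J.transpose = 1 := by
      rw [hJt, hJ, Matrix.fromBlocks_neg, Matrix.fromBlocks_multiply]
      simp [Matrix.fromBlocks_one]
    have := congrArg Matrix.det h1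
    rwa [Matrix.det_mul, Matrix.det_transpose, Matrix.det_one] at this
  have core : ∃ P₀ : MvPolynomial ((Fin m ⊕ Fin m) × (Fin m ⊕ Fin m)) (Polynomial ℂ),
      ∀ A : Matrix (Fin m ⊕ Fin m) (Fin m ⊕ Fin m) ℂ,
        A.transpose * Matrix.fromBlocks 0 1 (-1) 0 = Matrix.fromBlocks 0 1 (-1) 0 * A →
        J.det * A.charpoly = (MvPolynomial.eval (fun ij => Polynomial.C (A ij.1 ij.2)) P₀) ^ 2 := by
    let Agen : Matrix (Fin m ⊕ Fin m) (Fin m ⊕ Fin m)
        (MvPolynomial ((Fin m ⊕ Fin m) × (Fin m ⊕ Fin m)) (Polynomial ℂ)) :=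
      fun i j => MvPolynomial.X (i, j)
    let J₀ : Matrix (Fin m ⊕ Fin m) (Fin m ⊕ Fin m)
        (MvPolynomial ((Fin m ⊕ Fin m) × (Fin m ⊕ Fin m)) (Polynomial ℂ)) :=
      Matrix.fromBlocks 0 1 (-1) 0
    let Xs : MvPolynomial ((Fin m ⊕ Fin m) × (Fin m ⊕ Fin m)) (Polynomial ℂ) :=
      MvPolynomial.C Polynomial.X
    let hh : MvPolynomial ((Fin m ⊕ Fin m) × (Fin m ⊕ Fin m)) (Polynomial ℂ) :=
      MvPolynomial.C (Polynomial.C (1 / 2 : ℂ))
    have hh2 : (2 : MvPolynomial ((Fin m ⊕ Fin m) × (Fin m ⊕ Fin m)) (Polynomial ℂ)) * hh = 1 := by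
      have e : (2 : MvPolynomial ((Fin m ⊕ Fin m) × (Fin m ⊕ Fin m)) (Polynomial ℂ))
          = MvPolynomial.C (Polynomial.C (2 : ℂ)) := by rw [map_ofNat, map_ofNat]
      rw [e, ← map_mul, ← map_mul]
      norm_num
    let M₀ : Matrix (Fin m ⊕ Fin m) (Fin m ⊕ Fin m)
        (MvPolynomial ((Fin m ⊕ Fin m) × (Fin m ⊕ Fin m)) (Polynomial ℂ)) :=
      J₀ * (Xs • (1 : Matrix (Fin m ⊕ Fin m) (Fin m ⊕ Fin m) _) - Agen)
    let S₀ : Matrix (Fin m ⊕ Fin m) (Fin m ⊕ Fin m)
        (MvPolynomial ((Fin m ⊕ Fin m) × (Fin m ⊕ Fin m)) (Polynomial ℂ)) :=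
      hh • (M₀ - M₀.transpose)
    have hS₀ : S₀.transpose = -S₀ := by
      show (hh • (M₀ - M₀.transpose)).transpose = -(hh • (M₀ - M₀.transpose))
      rw [Matrix.transpose_smul, Matrix.transpose_sub, Matrix.transpose_transpose, ← neg_sub M₀,
        smul_neg]
    have h2F : (2 : FractionRing (MvPolynomial ((Fin m ⊕ Fin m) × (Fin m ⊕ Fin m)) (Polynomial ℂ))) ≠ 0 := by
      intro h
      have := congrArg (algebraMap (MvPolynomial ((Fin m ⊕ Fin m) × (Fin m ⊕ Fin m)) (Polynomial ℂ))
        (FractionRing (MvPolynomial ((Fin m ⊕ Fin m) × (Fin m ⊕ Fin m)) (Polynomial ℂ)))) hh2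
      rw [map_mul, map_ofNat, h, zero_mul, map_one] at this
      exact zero_ne_one this
    have hsqF : IsSquare ((algebraMap (MvPolynomial ((Fin m ⊕ Fin m) × (Fin m ⊕ Fin m)) (Polynomial ℂ))
        (FractionRing (MvPolynomial ((Fin m ⊕ Fin m) × (Fin m ⊕ Fin m)) (Polynomial ℂ)))).mapMatrix S₀).det :=
      Aux.isSquare_det_of_alternating h2F _ (Fin m ⊕ Fin m) rfl _ (by
        ext a b
        have := congrFun (congrFun hS₀ a) b
        simp only [Matrix.transpose_apply, Matrix.neg_apply] at this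
        simp only [RingHom.mapMatrix_apply, Matrix.transpose_apply, Matrix.map_apply,
          Matrix.neg_apply, this, map_neg])
    rw [← RingHom.map_det] at hsqF
    obtain ⟨P₀, hP₀⟩ := Aux.isSquare_of_isSquare_fraction _ hsqF
    refine ⟨P₀, fun A hA => ?_⟩
    let ev : MvPolynomial ((Fin m ⊕ Fin m) × (Fin m ⊕ Fin m)) (Polynomial ℂ) →+* Polynomial ℂ :=
      MvPolynomial.eval (fun ij => Polynomial.C (A ij.1 ij.2))
    have hev : ev (S₀.det) = ev P₀ ^ 2 := by rw [hP₀, map_mul, sq]
    show J.det * A.charpoly = ev P₀ ^ 2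
    rw [← hev, RingHom.map_det]
    set CA : Matrix (Fin m ⊕ Fin m) (Fin m ⊕ Fin m) (Polynomial ℂ) :=
      (Polynomial.C : ℂ →+* Polynomial ℂ).mapMatrix A with hCA
    have hJ₀ : ev.mapMatrix J₀ = J := by
      refine Matrix.ext fun a b => ?_
      rcases a with a | a <;> rcases b with b | b <;>
        simp [J₀, hJ, Matrix.one_apply, apply_ite]
    have hsc : ev.mapMatrix (Xs • (1 : Matrix (Fin m ⊕ Fin m) (Fin m ⊕ Fin m) _))
        = (Polynomial.X : Polynomial ℂ) • (1 : Matrix (Fin m ⊕ Fin m) (Fin m ⊕ Fin m) (Polynomial ℂ)) := by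
      refine Matrix.ext fun a b => ?_
      by_cases hab : a = b <;> simp [Matrix.one_apply, ev, Xs, hab]
    have hAg : ev.mapMatrix Agen = CA := by
      refine Matrix.ext fun a b => ?_
      simp [ev, Agen, CA]
    have hch : A.charmatrix = (Polynomial.X : Polynomial ℂ) • (1 : Matrix (Fin m ⊕ Fin m) (Fin m ⊕ Fin m) (Polynomial ℂ)) - CA := by
      refine Matrix.ext fun a b => ?_
      simp [Matrix.charmatrix_apply, Matrix.diagonal_apply, Matrix.one_apply, CA]
    have hmapM : ev.mapMatrix M₀ = J * A.charmatrix := by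
      rw [show M₀ = J₀ * (Xs • (1 : Matrix (Fin m ⊕ Fin m) (Fin m ⊕ Fin m) _) - Agen) from rfl,
        map_mul, map_sub, hJ₀, hsc, hAg, hch]
    have hA' : CA.transpose * J = J * CA := by
      have := congrArg ((Polynomial.C : ℂ →+* Polynomial ℂ).mapMatrix) hA
      rw [map_mul, map_mul] at this
      have hJC : (Polynomial.C : ℂ →+* Polynomial ℂ).mapMatrix (Matrix.fromBlocks 0 1 (-1) 0) = J := by
        refine Matrix.ext fun a b => ?_
        rcases a with a | a <;> rcases b with b | b <;>
          simp [hJ, Matrix.one_apply, apply_ite]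
      rw [hJC] at this
      rw [← this]
      rfl
    have halt : (J * A.charmatrix).transpose = -(J * A.charmatrix) := by
      rw [hch, Matrix.transpose_mul, Matrix.transpose_sub, Matrix.transpose_smul,
        Matrix.transpose_one, hJt]
      simp only [Matrix.sub_mul, Matrix.mul_sub, Matrix.mul_neg, Matrix.smul_mul, Matrix.mul_smul,
        Matrix.one_mul, Matrix.mul_one, hA']
    have hev2 : ev hh * 2 = 1 := by
      have := congrArg ev hh2
      rw [map_mul, map_ofNat, map_one] at this
      rw [mul_comm]; exact this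
    have hmapS : ev.mapMatrix S₀ = J * A.charmatrix := by
      refine Matrix.ext fun a b => ?_
      have hN : ∀ a b, ev (M₀ a b) = (J * A.charmatrix) a b := fun a b => by rw [← hmapM]; rfl
      have hanti : (J * A.charmatrix) b a = -(J * A.charmatrix) a b := by
        have := congrFun (congrFun halt a) b
        simpa using this
      show ev (hh * (M₀ a b - M₀ b a)) = _
      rw [map_mul, map_sub, hN, hN, hanti, sub_neg_eq_add, ← two_mul, ← mul_assoc, hev2, one_mul]
    rw [hmapS, Matrix.det_mul]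
    rfl
  obtain ⟨P₀, hP₀⟩ := core
  have part1 : ∃ P : MvPolynomial ((Fin m ⊕ Fin m) × (Fin m ⊕ Fin m)) (Polynomial ℂ),
      ∀ A : Matrix (Fin m ⊕ Fin m) (Fin m ⊕ Fin m) ℂ,
        A.transpose * Matrix.fromBlocks 0 1 (-1) 0 = Matrix.fromBlocks 0 1 (-1) 0 * A →
        A.charpoly = (MvPolynomial.eval (fun ij => Polynomial.C (A ij.1 ij.2)) P) ^ 2 := by
    have hc : J.det = 1 ∨ J.det = -1 := by
      have : (J.det - 1) * (J.det + 1) = 0 := by linear_combination hJJ
      rcases mul_eq_zero.1 this with h | h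
      · left; linear_combination h
      · right; linear_combination h
    rcases hc with hc | hc
    · exact ⟨P₀, fun A hA => by rw [← hP₀ A hA, hc, one_mul]⟩
    · refine ⟨MvPolynomial.C (Polynomial.C Complex.I) * P₀, fun A hA => ?_⟩
      rw [map_mul, mul_pow, ← hP₀ A hA, hc, MvPolynomial.eval_C, ← map_pow, Complex.I_sq]
      simp
  refine ⟨part1, ?_⟩
  obtain ⟨P, hP⟩ := part1
  refine ⟨MvPolynomial.map (Polynomial.evalRingHom 0) P, fun A hA => ?_⟩
  have h1 := hP A hA
  have hdet : A.det = (A.charpoly).eval 0 := by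
    rw [Matrix.det_eq_sign_charpoly_coeff, Polynomial.coeff_zero_eq_eval_zero]
    simp [Fintype.card_sum, ← two_mul, pow_mul]
  rw [hdet, h1, Polynomial.eval_pow]
  congr 1
  rw [MvPolynomial.eval_map]
  have := MvPolynomial.eval₂_comp_left (Polynomial.evalRingHom 0) (RingHom.id _)
    (fun ij : (Fin m ⊕ Fin m) × (Fin m ⊕ Fin m) => Polynomial.C (A ij.1 ij.2)) P
  have hg : (⇑(Polynomial.evalRingHom (0:ℂ)) ∘
      fun ij : (Fin m ⊕ Fin m) × (Fin m ⊕ Fin m) => Polynomial.C (A ij.1 ij.2))
      = fun ij => A ij.1 ij.2 := by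
    funext ij; simp
  rw [MvPolynomial.eval₂_id, RingHom.comp_id, hg] at this
  exact this

end Groth.Agent.S15155
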