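import Groth.Statements.S15173
import Mathlib

set_option autoImplicit false
universe u v
open Polynomial
open BddFin

namespace Groth.Agent.S15173

/-- A field of characteristic `p` over which every `X^n - 1` splits is infinite. -/
theorem infinite_of_splits (K : Type u) [Field K] (p : ℕ) [Fact p.Prime] [CharP K p]
    (hK : ∀ n : ℕ, 0 < n → (X ^ n - 1 : K[X]).Splits) : Infinite K := by
  classical
  by_contra hfin
  rw [not_infinite_iff_finite] at hfin
  have := Fintype.ofFinite K
  set q := Fintype.card K
  set n := q * p + 1 with hn
  have hn0 : (n : K) ≠ 0 := by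
    simp [hn, CharP.cast_eq_zero]
  have hsep : (X ^ n - 1 : K[X]).Separable := X_pow_sub_one_separable_iff.mpr hn0
  have hcard : Multiset.card (X ^ n - 1 : K[X]).roots = n := by
    rw [← (hK n (by omega)).natDegree_eq_card_roots]
    exact natDegree_X_pow_sub_C (R := K) (n := n) (r := 1)
  have hnodup := nodup_roots hsep
  have h1 : (X ^ n - 1 : K[X]).roots.toFinset.card = n := by
    rw [Multiset.toFinset_card_of_nodup hnodup, hcard]
  have h2 := Finset.card_le_univ (X ^ n - 1 : K[X]).roots.toFinset
  rw [h1] at h2
  have hp : 0 < p := (Fact.out : p.Prime).pos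
  have : q ≤ q * p := Nat.le_mul_of_pos_right q hp
  omega

open scoped IsMulCommutative in
/-- A subgroup generated by finitely many commuting elements of exponent `p` is finite. -/
theorem finite_closure_of_comm_of_pow {G : Type*} [Group G] (p : ℕ) (hp : 0 < p) (s : Set G) (hs : s.Finite)
    (hcomm : ∀ x ∈ s, ∀ y ∈ s, x * y = y * x) (hpow : ∀ x ∈ s, x ^ p = 1) :
    Finite (Subgroup.closure s) := by
  have := Subgroup.isMulCommutative_closure hcomm
  have : Finite s := hs.to_subtype
  have : Group.FG (Subgroup.closure s) := Group.closure_finite_fg s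
  apply CommGroup.finite_of_fg_isMulTorsion
  have htop : (powMonoidHom p : Subgroup.closure s →* Subgroup.closure s).ker = ⊤ := by
    rw [eq_top_iff, ← Subgroup.closure_closure_coe_preimage, Subgroup.closure_le]
    intro x hx
    rw [SetLike.mem_coe, MonoidHom.mem_ker, powMonoidHom_apply]
    ext
    simpa using hpow _ hx
  intro x
  have hx : x ∈ (powMonoidHom p : Subgroup.closure s →* Subgroup.closure s).ker := by
    rw [htop]; trivial
  rw [MonoidHom.mem_ker, powMonoidHom_apply] at hx
  exact isOfFinOrder_iff_pow_eq_one.mpr ⟨p, hp, hx⟩

/-- Let K be a field of characteristic p > 0 such that K contains all roots of unity (for every n ≥ 1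
the polynomial X^n − 1 splits into linear factors over K), and A a finite-dimensional central
division algebra over K. If A contains an element w not in K with w ^ p in K, then the quotient of
the unit group of A by that of K has unbounded finite subgroups: for every N there is a subgroup H
of the units of A containing the units of K as a subgroup of finite index greater than N. (The
published statement assumes only that some element of A is inseparable over K and passes at once to
a purely inseparable subfield of degree p; this row assumes an element generating such a subfield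
directly, which is what the rest of the printed argument uses.) -/
theorem result
    (K : Type u) [Field K] (p : ℕ) [Fact p.Prime] [CharP K p] (hK : ∀ n : ℕ, 0 < n → (X ^ n - 1 : K[X]).Splits)
    (A : Type v) [DivisionRing A] [Algebra K A] [Algebra.IsCentral K A] [FiniteDimensional K A]
    (w : A) (hw : w ^ p ∈ (algebraMap K A).range) (hwK : w ∉ (algebraMap K A).range) (N : ℕ) :
    ∃ H : Subgroup Aˣ, (Units.map (algebraMap K A : K →* A)).range ≤ H ∧
      N < ((Units.map (algebraMap K A : K →* A)).range).relIndex H := by
  classical
  have hp : 0 < p := (Fact.out : p.Prime).pos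
  have hinj : Function.Injective (algebraMap K A) := (algebraMap K A).injective
  have : CharP A p := charP_of_injective_algebraMap hinj p
  obtain ⟨k0, hk0⟩ := hw
  have : Infinite K := infinite_of_splits K p hK
  -- the elements `1 + c w` are nonzero
  have hne : ∀ c : K, (1 + c • w : A) ≠ 0 := by
    intro c hc
    by_cases hc0 : c = 0
    · simp [hc0] at hc
    · apply hwK
      refine ⟨-c⁻¹, ?_⟩
      have h1 : c • w = -1 := eq_neg_of_add_eq_zero_right hc
      have h2 : w = c⁻¹ • (c • w) := by rw [smul_smul, inv_mul_cancel₀ hc0, one_smul]
      rw [h2, h1, map_neg, smul_neg, Algebra.smul_def, mul_one]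
  let u : K → Aˣ := fun c => Units.mk0 (1 + c • w) (hne c)
  set R : Subgroup Aˣ := (Units.map (algebraMap K A : K →* A)).range with hR
  -- R is central hence normal
  have hRmem : ∀ x : Aˣ, x ∈ R ↔ ∃ k : K, algebraMap K A k = x := by
    intro x
    constructor
    · rintro ⟨k, rfl⟩
      exact ⟨k, rfl⟩
    · rintro ⟨k, hk⟩
      have hk0 : k ≠ 0 := by
        rintro rfl
        rw [map_zero] at hk
        exact x.ne_zero hk.symm
      exact ⟨Units.mk0 k hk0, Units.ext hk⟩
  have : R.Normal := by
    constructor
    intro n hn g
    obtain ⟨k, hk⟩ := (hRmem n).1 hn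
    have hc : g * n = n * g := by
      ext
      push_cast
      rw [← hk, Algebra.commutes]
    have : g * n * g⁻¹ = n := by
      rw [hc, mul_inv_cancel_right]
    rw [this]; exact hn
  let π : Aˣ →* Aˣ ⧸ R := QuotientGroup.mk' R
  have hker : π.ker = R := QuotientGroup.ker_mk' R
  -- injectivity of the classes
  have hπu : Function.Injective (fun c => π (u c)) := by
    intro c d hcd
    change π (u c) = π (u d) at hcd
    have h1 : (u d)⁻¹ * u c ∈ R := by
      rw [← hker, MonoidHom.mem_ker, map_mul, map_inv, ← hcd, inv_mul_cancel]
    obtain ⟨k, hk⟩ := (hRmem _).1 h1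
    -- u c = u d * k
    have h2 : (1 + c • w : A) = (1 + d • w) * algebraMap K A k := by
      have : u c = u d * ((u d)⁻¹ * u c) := by group
      have h3 := congrArg Units.val this
      rw [Units.val_mul, ← hk] at h3
      exact h3
    -- compare coefficients
    rw [add_mul, one_mul, smul_mul_assoc, ← Algebra.commutes, ← Algebra.smul_def, smul_smul] at h2
    -- 1 + c w = k + (d k) w  so (c - d k) w = k - 1
    by_contra hne'
    have h4 : (c - d * k) • w = algebraMap K A (k - 1) := by
      rw [sub_smul, map_sub, map_one, sub_eq_sub_iff_add_eq_add, add_comm, h2, add_comm]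
    by_cases h5 : c - d * k = 0
    · rw [h5, zero_smul] at h4
      have h6 : k - 1 = 0 := hinj (by rw [← h4, map_zero])
      have hk1 : k = 1 := sub_eq_zero.mp h6
      rw [hk1, mul_one, sub_eq_zero] at h5
      exact hne' h5
    · apply hwK
      refine ⟨(c - d * k)⁻¹ * (k - 1), ?_⟩
      rw [map_mul, ← h4, ← Algebra.smul_def, smul_smul, inv_mul_cancel₀ h5, one_smul]
  obtain ⟨S, hS⟩ := Infinite.exists_subset_card_eq K (N + 1)
  set gens : Set (Aˣ ⧸ R) := (fun c => π (u c)) '' (S : Set K) with hgens
  have hgfin : gens.Finite := (Finset.finite_toSet S).image _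
  have hcomm : ∀ x ∈ gens, ∀ y ∈ gens, x * y = y * x := by
    rintro _ ⟨c, -, rfl⟩ _ ⟨d, -, rfl⟩
    simp only [← map_mul]
    congr 1
    ext
    simp only [u, Units.val_mul, Units.val_mk0]
    have : Commute (1 + c • w : A) (1 + d • w) := by
      apply Commute.add_left (Commute.one_left _)
      apply Commute.smul_left
      apply Commute.add_right (Commute.one_right _)
      apply Commute.smul_right
      exact Commute.refl w
    exact this.eq
  have hpow : ∀ x ∈ gens, x ^ p = 1 := by
    rintro _ ⟨c, -, rfl⟩
    rw [← map_pow, ← MonoidHom.mem_ker, hker, hRmem]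
    refine ⟨1 + c ^ p * k0, ?_⟩
    simp only [u, Units.val_pow_eq_pow_val, Units.val_mk0]
    have hc : Commute (1 : A) (c • w) := Commute.one_left _
    rw [add_pow_char_of_commute p hc, one_pow, _root_.smul_pow, ← hk0, map_add, map_one, map_mul,
      Algebra.smul_def, map_pow]
  have hTfin : Finite (Subgroup.closure gens) :=
    finite_closure_of_comm_of_pow p hp gens hgfin hcomm hpow
  refine ⟨(Subgroup.closure gens).comap π, ?_, ?_⟩
  · refine le_trans (le_of_eq hker.symm) ?_
    exact fun x hx => by
      rw [Subgroup.mem_comap, (MonoidHom.mem_ker).1 hx]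
      exact one_mem _
  · rw [show R.relIndex ((Subgroup.closure gens).comap π) =
        π.ker.relIndex ((Subgroup.closure gens).comap π) from by rw [hker], Subgroup.relIndex_ker,
      Subgroup.map_comap_eq_self_of_surjective (QuotientGroup.mk'_surjective R)]
    -- card of closure ≥ N+1
    have hsub : gens ⊆ (Subgroup.closure gens : Set (Aˣ ⧸ R)) := Subgroup.subset_closure
    have hcard : Nat.card gens = N + 1 := by
      rw [hgens, Nat.card_coe_set_eq, Set.ncard_image_of_injective _ hπu, Set.ncard_coe_finset, hS]
    have hle : Nat.card gens ≤ Nat.card (Subgroup.closure gens) := by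
      apply Nat.card_le_card_of_injective (fun x : gens => (⟨x.1, hsub x.2⟩ : Subgroup.closure gens))
      intro x y hxy
      exact Subtype.ext (by simpa using congrArg Subtype.val hxy)
    omega

end Groth.Agent.S15173
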