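import Groth.Statements.S15271
import Mathlib
import Groth.Agent.Lib.R2H7HilbPolyB
import Groth.Agent.Lib.R2H7JHSummand
import Groth.Agent.Lib.R2H7RetractLF

set_option autoImplicit false
open CategoryTheory CategoryTheory.Limits AlgebraicGeometry
open Coherent

namespace Groth.Agent.S15271

/-- Over the complex numbers, let X be a proper scheme with an ample invertible sheaf L and let ξ be a
complex point of X. Let E be a coherent sheaf on X which is semistable of dimension d with respect
to L (nonzero, pure of dimension d, and the reduced Hilbert polynomial of every nonzero proper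
coherent subsheaf is at most that of E for large arguments) and which has a filtration by coherent
subsheaves with stable d-dimensional successive quotients of the reduced Hilbert polynomial of E
whose associated graded sheaf (the direct sum of the quotients) is finite locally free on an open
neighbourhood of ξ. Let G be a coherent subsheaf of E whose reduced Hilbert polynomial equals that
of E (r(E)·p_G = r(G)·p_E for Hilbert polynomials p_G, p_E with respect to L, r denoting d! times
the degree-d coefficient). Then G, and likewise the quotient E/G, has a filtration by coherent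
subsheaves with stable d-dimensional successive quotients of the same reduced Hilbert polynomial
whose associated graded sheaf is finite locally free on an open neighbourhood of ξ. (The published
statement is for modules over a sheaf of rings of differential operators on the closed fibres of a
projective flat family with a section; this row is the case of the structure sheaf on one complex
fibre, and does not assume the fibre irreducible.) -/
theorem result
    (X : Scheme.{0}) [X.Over (Spec (CommRingCat.of ℂ))] [IsProper (X ↘ Spec (CommRingCat.of ℂ))]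
    (L : X.Modules) (hL : CohB1.IsAmple L) (d : ℕ)
    (E : X.Modules) (hE : ShStab.IsSemistable ℂ X L E d)
    (ξ : Spec (CommRingCat.of ℂ) ⟶ X) (hξ : ξ ≫ (X ↘ Spec (CommRingCat.of ℂ)) = 𝟙 (Spec (CommRingCat.of ℂ)))
    (sE : LTSeries (Subobject E)) (hsE : ShStab.IsJHFiltration ℂ X L E d sE)
    (hgrE : ∀ x ∈ Set.range ξ.base, ∃ U : X.Opens, x ∈ U ∧ FlatMod.IsFinLocFree ((StabCat.grObj sE).restrict U.ι))
    (G : X.Modules) (ι : G ⟶ E) [Mono ι] (hG : Coh.IsCoh G)
    (pG pE : Polynomial ℚ) (hpG : ShStab.IsHilbPoly ℂ X L G pG) (hpE : ShStab.IsHilbPoly ℂ X L E pE)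
    (hred : StabCat.RedEq d pG pE) :
    (∃ sG : LTSeries (Subobject G), ShStab.IsJHFiltration ℂ X L G d sG ∧
        ∀ x ∈ Set.range ξ.base, ∃ U : X.Opens, x ∈ U ∧ FlatMod.IsFinLocFree ((StabCat.grObj sG).restrict U.ι)) ∧
    (∃ sQ : LTSeries (Subobject (cokernel ι)), ShStab.IsJHFiltration ℂ X L (cokernel ι) d sQ ∧
        ∀ x ∈ Set.range ξ.base, ∃ U : X.Opens, x ∈ U ∧ FlatMod.IsFinLocFree ((StabCat.grObj sQ).restrict U.ι)) := by
  have ax := Groth.Agent.Lib.R2H7.HilbPoly.hilbAx ℂ L hL
  have axn := Groth.Agent.Lib.R2H7.HilbPoly.hilbAxN ℂ L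
  obtain ⟨⟨sG, hsG, i, r, hir⟩, ⟨sQ, hsQ, i', r', hir'⟩⟩ :=
    Groth.Agent.Lib.R2H7.JHSummand.gr_retracts ax axn
      (fun hQ => Groth.Agent.Lib.R2H7.HilbPoly.hilbAcc ℂ hQ)
      (fun hA hB => Groth.Agent.Lib.R2H7.HilbPoly.hilbBiprod hA hB) hE sE hsE ι hG hpG hpE hred
  refine ⟨⟨sG, hsG, fun x hx => ?_⟩, ⟨sQ, hsQ, fun x hx => ?_⟩⟩
  · obtain ⟨U, hxU, hU⟩ := hgrE x hx
    exact ⟨U, hxU,
      Groth.Agent.Lib.R2H7.RetractLF.isFinLocFree_restrict_of_retract i r hir U hU⟩
  · obtain ⟨U, hxU, hU⟩ := hgrE x hx
    exact ⟨U, hxU,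
      Groth.Agent.Lib.R2H7.RetractLF.isFinLocFree_restrict_of_retract i' r' hir' U hU⟩

end Groth.Agent.S15271
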