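import Groth.Statements.S15513
import Groth.Agent.Lib.R2H3OmegaPn
import Groth.Agent.Lib.R2H3ExtCodimVan
set_option backward.isDefEq.respectTransparency.types false
set_option linter.style.haveILetI false

set_option autoImplicit false
universe u
open CategoryTheory CategoryTheory.Limits AlgebraicGeometry
open ProjDual

namespace Groth.Agent.S15513

/-- Let k be a field, P = P^N_k, ι : X → P a closed immersion, r a natural number with dim X + r ≤ N (X
has codimension at least r), and E a finite locally free O_P-module. Then for every i < r the Ext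
sheaf Ext^i_{O_P}(ι_* O_X, E) — the i-th right derived functor of the internal Hom functor Hom(ι_*
O_X, -) on O_P-modules (its existence and that of injective resolutions are the stated instance
hypotheses, both true), evaluated at E — is zero. (The published statement takes N ≥ 1 and r = N -
dim X; the case N = 0 and smaller r are trivially included.) -/
theorem result (k : Type u) [Field k] (N : ℕ)
    {X : Scheme.{u}} (ι : X ⟶ CohB1.ProjSpace N k) [IsClosedImmersion ι] (r : ℕ)
    (hr : topologicalKrullDim ↥X + (r : WithBot ℕ∞) ≤ (N : WithBot ℕ∞))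
    (E : (CohB1.ProjSpace N k).Modules) (hE : FlatMod.IsFinLocFree E)
    [ModSite.HasSheafHom (O := (CohB1.ProjSpace N k).sheaf) ((Scheme.Modules.pushforward ι).obj (Coh.structureModule X))]
    [HasInjectiveResolutions (ModSite.Mod (CohB1.ProjSpace N k).sheaf)] (i : ℕ) (hi : i < r) :
    IsZero ((ModSite.extSh (O := (CohB1.ProjSpace N k).sheaf)
      ((Scheme.Modules.pushforward ι).obj (Coh.structureModule X)) i).obj E) := by
  letI : (CohB1.ProjSpace N k).Over (Spec (CommRingCat.of k)) := ⟨CohB1.ProjSpace.toSpec N k⟩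
  letI : X.Over (Spec (CommRingCat.of k)) := ⟨ι ≫ CohB1.ProjSpace.toSpec N k⟩
  have hι : ι ≫ ((CohB1.ProjSpace N k) ↘ Spec (CommRingCat.of k)) =
      X ↘ Spec (CommRingCat.of k) := rfl
  haveI : IsNoetherian (CohB1.ProjSpace N k) :=
    Groth.Agent.Lib.R2H2.QProjK0.isNoetherian_projSpace N k
  haveI : IsProper (CohB1.ProjSpace.toSpec N k) := Groth.Agent.S9705.isProper_projSpace_toSpec N k
  haveI : LocallyOfFiniteType ((CohB1.ProjSpace N k) ↘ Spec (CommRingCat.of k)) := by
    change LocallyOfFiniteType (CohB1.ProjSpace.toSpec N k)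
    infer_instance
  haveI : LocallyOfFiniteType (X ↘ Spec (CommRingCat.of k)) := by
    change LocallyOfFiniteType (ι ≫ CohB1.ProjSpace.toSpec N k)
    infer_instance
  have hF : Coh.IsCoh ((Scheme.Modules.pushforward ι).obj (Coh.structureModule X)) :=
    Groth.Agent.Lib.R2H2.DevE.isCoh_pushO ι
  have hsupp := Groth.Agent.Lib.R2H2.DevE.support_push_subset ι (Coh.structureModule X)
  refine Groth.Agent.Lib.R2H3.ExtCodimVan.isZero_extSh_of_codim _ E hF hE r
    (fun x _ => Groth.Agent.Lib.R2H3.OmegaPn.isRegularLocalRing_stalk k N x) ?_ i hi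
  intro x hx
  obtain ⟨x', rfl⟩ := hsupp hx
  obtain ⟨b, hb, hbn⟩ := Groth.Agent.Lib.R2H3.PureDim.ringKrullDim_stalk_add_trdegNat k
    (CohB1.ProjSpace N k) N (Groth.Agent.Lib.R2H3.OmegaPn.pure_projSpace k N) (ι x')
  have h1 := Groth.Agent.Lib.R2H3.PureDim.trdegNat_eq_of_isFinite k (X := CohB1.ProjSpace N k) ι hι x'
  have h2 : topologicalKrullDim ↥(closure ({x'} : Set X)) ≤ topologicalKrullDim ↥X :=
    topologicalKrullDim_subspace_le _ _
  rw [Groth.Agent.Lib.Helper4.VarDim.topologicalKrullDim_closure_singleton k X x'] at h2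
  have h3 : ((Groth.Agent.Lib.Helper4.VarDim.trdegNat k X x' : ℕ) : WithBot ℕ∞) + (r : WithBot ℕ∞) ≤
      (N : WithBot ℕ∞) := (add_le_add_left h2 _).trans hr
  have h4 : Groth.Agent.Lib.Helper4.VarDim.trdegNat k X x' + r ≤ N := by exact_mod_cast h3
  rw [hb]
  exact_mod_cast (by omega : r ≤ b)

end Groth.Agent.S15513
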