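import Groth.Statements.S15515
import Groth.Agent.Lib.R2H3CMVanish
import Groth.Agent.Lib.R2H3ExtTwist
import Groth.Agent.Lib.R2H2ClosedPnGamma

set_option autoImplicit false
set_option linter.style.haveILetI false
universe u
open CategoryTheory AlgebraicGeometry
open ProjDual

namespace Groth.Agent.S15515

/-- (iii) ⇒ (i): let k be a field and X a k-scheme of dimension n with a closed immersion ι into P^N_k
over k. Let (ω, t) be a dualizing sheaf for X: ω is a coherent O_X-module and t : H^n(X, ω) → k a
k-linear map such that for every coherent F and every k-linear form ψ on H^n(X, F) there is exactly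
one φ : F → ω with ψ = t ∘ H^n(φ). Suppose that for every coherent O_X-module F and every i ≤ n, the
group Ext^i(F, ω) in the category of all O_X-modules (the Ext instance is the stated hypothesis; it
holds) vanishes if and only if H^(n-i)(X, F) vanishes. Then the local ring of X at every closed
point is Cohen–Macaulay of Krull dimension n. (The published statement assumes X connected and that
the duality maps Ext^i(F, ω) → H^(n-i)(X, F)' are bijective for all i and F, and concludes that X is
Cohen–Macaulay; the weaker vanishing hypothesis used here suffices for the published proof, which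
also yields the dimension of the local rings at closed points.) -/
theorem result
    (k : Type u) [Field k] (N n : ℕ) (X : Scheme.{u}) [X.Over (Spec (CommRingCat.of k))]
    (ι : X ⟶ CohB1.ProjSpace N k) [IsClosedImmersion ι]
    (hι : ι ≫ CohB1.ProjSpace.toSpec N k = X ↘ Spec (CommRingCat.of k))
    (hn : topologicalKrullDim ↥X = n) [HasExt.{u} X.Modules]
    (ω : X.Modules) (hω : Coh.IsCoh ω) (t : Coh.HH X ω n →ₗ[k] k)
    (hdual : ∀ F : X.Modules, Coh.IsCoh F → ∀ ψ : Coh.HH X F n →ₗ[k] k,
        ∃! φ : F ⟶ ω, ∀ x : Coh.HH X F n,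
          ψ x = t (Sheaf.H.map ((SheafOfModules.toSheaf X.ringCatSheaf).map φ) n x))
    (h : ∀ F : X.Modules, Coh.IsCoh F → ∀ i : ℕ, i ≤ n →
        (Subsingleton (Abelian.Ext F ω i) ↔ Subsingleton (Coh.HH X F (n - i)))) :
    ∀ x : X, IsClosed ({x} : Set ↥X) →
      LocCoh.IsCohenMacaulayLocalRing (X.presheaf.stalk x) ∧ ringKrullDim (X.presheaf.stalk x) = n := by
  intro x hcl
  refine Groth.Agent.Lib.R2H3.CMVanish.isCM_of_vanishing k N ι n hn ?_ x hcl
  haveI := Groth.Agent.Lib.R2H3.CMVanish.isLocallyNoetherian_of_closedImmersion k N ι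
  obtain ⟨d₀, hd₀⟩ := Groth.Agent.Lib.R2H2.ClosedPnGamma.serre_vanishing_closed N k ι
    (fun m => (Scheme.Modules.pullback ι).obj (Twist.twistProjSpace N k m))
    (fun m => ⟨Iso.refl _⟩) ω hω
  refine ⟨d₀.toNat, fun q hq j hj => ?_⟩
  have hd : d₀ ≤ (q : ℤ) := (Int.self_le_toNat d₀).trans (by exact_mod_cast hq)
  have hinv : PicF.IsInvertible
      ((Scheme.Modules.pullback ι).obj (Twist.twistProjSpace N k (-(q : ℤ)))) :=
    Groth.Agent.Lib.Helper23.PB.isInvertible_pullback ι _
      (Groth.Agent.Lib.R2Lead.KRR.isInvertible_twistProjSpace N k _)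
  have hG : Coh.IsCoh (CohB1.tensorMod (Coh.structureModule X)
      ((Scheme.Modules.pullback ι).obj (Twist.twistProjSpace N k (-(q : ℤ))))) :=
    Groth.Agent.Lib.R2H3.AmpleSV.isCoh_tensorMod_invertible _ _
      (Groth.Agent.Lib.R2H3.ZeroConn.isCoh_structureModule X) hinv
  have hi : n - j ≤ n := Nat.sub_le n j
  have hnj : n - (n - j) = j := by omega
  have hpos : 0 < n - j := by omega
  obtain ⟨e⟩ := Groth.Agent.Lib.R2H3.CMVanish.nonempty_pullback_twist_neg_iso k N ι (q : ℤ)
  have hext : Subsingleton (Abelian.Ext (CohB1.tensorMod (Coh.structureModule X)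
      ((Scheme.Modules.pullback ι).obj (Twist.twistProjSpace N k (-(q : ℤ))))) ω (n - j)) :=
    Groth.Agent.Lib.R2H3.ExtTwist.subsingleton_ext_twR _ _ e (Coh.structureModule X) ω (n - j)
      (Groth.Agent.Lib.R2H2.PnTwEquiv.subsingleton_ext_unit _ (n - j) (hd₀ q hd (n - j) hpos))
  have h1 := (h _ hG (n - j) hi).1 hext
  rw [hnj] at h1
  exact h1

end Groth.Agent.S15515
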