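import Groth.Statements.S15522
import Groth.Agent.Lib.R2H2Bridge
import Groth.Agent.Lib.R2H2BridgeTr
import Groth.Agent.Lib.R2H2FibRank
import Groth.Agent.S2406
import Groth.Agent.S2381

set_option autoImplicit false
universe u
attribute [local instance] HasDerivedCategory.standard
open Coherent

namespace Groth.Agent.S15522

open AlgebraicGeometry CategoryTheory in
/-- Let A be a reduced Noetherian ring, X a proper scheme over Spec A with structure morphism f, F a
coherent O_X-module flat over Spec A, and p a natural number such that the function y ↦ dim_{κ(y)}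
H^p(X_y, F_y) is locally constant on Spec A. For each q write T^q for the functor M ↦ H^q(X, f^*(M~)
⊗ F) from A-modules to abelian groups. Then T^p takes surjections to surjections, and so does
T^(p-1) when p ≥ 1; equivalently, every base-change map H^q(X, F) ⊗_A M → H^q(X, F ⊗_A M) is
bijective for q = p and q = p - 1. (The published statement also asserts that R^p f_*F is locally
free of finite rank; this row states the two exchange properties only, over an affine base.) -/
theorem result (A : Type u) [CommRing A]
    [IsNoetherianRing A] [IsReduced A] (X : Scheme.{u}) [X.Over (Spec (CommRingCat.of A))]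
    [IsProper (X ↘ Spec (CommRingCat.of A))] (F : X.Modules) (hF : Coh.IsCoh F)
    (hfl : FlatMod.IsFlatOver (X ↘ Spec (CommRingCat.of A)) F) (p : ℕ)
    (hconst : IsLocallyConstant (CohIII.fiberRank (X ↘ Spec (CommRingCat.of A)) F p)) :
    (CohIII.tensorAFunctor A F ⋙ CohIII.HAb X p).PreservesEpimorphisms ∧
      ∀ q : ℕ, q + 1 = p → (CohIII.tensorAFunctor A F ⋙ CohIII.HAb X q).PreservesEpimorphisms := by
  haveI : F.IsQuasicoherent := hF.1
  haveI : CompactSpace X :=
    QuasiCompact.compactSpace_of_compactSpace (X ↘ Spec (CommRingCat.of A))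
  obtain ⟨Q₀, b, hQ, -, hQi⟩ := Groth.Agent.Lib.R2H2.Bridge.bridge A X F hF hfl
  have e0 := (hQi p).some
  have hfl' : ∀ i, Module.Flat A (Q₀.X i) := fun i => by
    haveI := (hQ i).2
    infer_instance
  have hff : ∀ i, Module.Finite A (Q₀.X i) ∧ Module.Flat A (Q₀.X i) := fun i => ⟨(hQ i).1, hfl' i⟩
  have hrank : CohIII.dRank Q₀ (-(p : ℤ)) = CohIII.fiberRank (X ↘ Spec (CommRingCat.of A)) F p := by
    funext q
    exact (Groth.Agent.Lib.R2H2.FibRank.fiberRank_eq_dRank F Q₀ hfl' (-(p : ℤ)) p e0 q).symm
  have hlc : IsLocallyConstant (CohIII.dRank Q₀ (-(p : ℤ))) := by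
    rw [hrank]
    exact hconst
  obtain ⟨hmono, hepi⟩ := (Groth.Agent.S2381.result Q₀ hff (-(p : ℤ))).2 inferInstance hlc
  constructor
  · exact (Groth.Agent.Lib.R2H2.BridgeTr.preservesEpimorphisms_iff e0).1 hepi
  · intro q hq
    have e1 := (hQi q).some
    have h06 := Groth.Agent.S2406.result Q₀ hfl' (-(q : ℤ)) (-(p : ℤ))
      (by rw [← hq]; push_cast; ring)
    exact (Groth.Agent.Lib.R2H2.BridgeTr.preservesEpimorphisms_iff e1).1 (h06.2 hmono)

end Groth.Agent.S15522
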