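import Groth.Statements.S15530
import Groth.Agent.Lib.R2H2PnBridge
import Groth.Agent.Lib.R2H2KoszulShift
import Groth.Agent.Lib.R2H2PnSerre
import Groth.Agent.Lib.R2H2PnCoh

set_option autoImplicit false
universe u
open Coherent

namespace Groth.Agent.S15530

open CategoryTheory AlgebraicGeometry in
/-- For a ring A, n ≥ 1 and an O-module L on projective n-space P^n_A which is a p-th exterior power of
the sheaf of relative differentials of P^n_A over A, the cohomology group H^q(P^n_A, L) = H^q(P^n_A,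
Ω^p) is zero unless 0 ≤ p = q ≤ n, i.e. it vanishes when p ≠ q or n < p. -/
theorem result (A : Type u) [CommRing A] (n : ℕ) (hn : 1 ≤ n)
    [QuasiSeparated (CohB1.ProjSpace.toSpec n A)] (p : ℕ) (L : (CohB1.ProjSpace n A).Modules)
    (hL : ExtPow.IsExtPow p (Omega.sheaf (CohB1.ProjSpace.toSpec n A)) L) (q : ℕ) (h : p ≠ q ∨ n < p) :
    Subsingleton (Coh.HH (CohB1.ProjSpace n A) L q) := by
  classical
  by_cases hp : n + 1 < p
  · exact Groth.Agent.Lib.R2H2.KoszulShift.subsingleton_HH_of_isZero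
      (Groth.Agent.Lib.R2H2.PnBridge.isZero_of_lt hL hp) q
  · have hpt : p + (n + 1 - p) = n + 1 := by omega
    obtain ⟨e⟩ := Groth.Agent.Lib.R2H2.PnBridge.nonempty_iso_kernel hL (n + 1 - p) hpt
    refine Groth.Agent.Lib.R2H2.PnSerre.subsingleton_HH_of_iso e.symm q ?_
    refine Groth.Agent.Lib.R2H2.KoszulShift.subsingleton_HH_Z
      (Groth.Agent.Lib.R2H2.PnBridge.KP n A) (Groth.Agent.Lib.R2H2.PnBridge.KP_exact n A)
      (Groth.Agent.Lib.R2H2.PnBridge.KP_mono n A) (n + 1 - p) q (fun i hi => ?_)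
    refine Groth.Agent.Lib.R2H2.PnCoh.subsingleton_HH_tilde A n (-((n : ℤ) + 1) + i) _ ?_ ?_
    · rintro ⟨-, h0⟩
      omega
    · rintro ⟨h1, h2⟩
      have hi0 : i = 0 := by omega
      subst hi0
      rcases h with h | h
      · omega
      · omega

end Groth.Agent.S15530
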