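import Groth.Statements.S15768
import Mathlib
import Groth.Agent.Lib.R2H7HensLaurent

set_option autoImplicit false
universe u
open Polynomial
open CAlg

namespace Groth.Agent.S15768

/-- For any ring R and a henselization B of R[t] along (t), every idempotent of B[1/t] comes from a
unique idempotent of R under R → R[t] → B → B[1/t]. -/
theorem result (R : Type u) [CommRing R]
    (B : Type u) [CommRing B] [Algebra R[X] B] (hB : Hens2.IsPairHenselization R[X] (Ideal.span {(X : R[X])}) B)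
    (e : Localization.Away (algebraMap R[X] B X)) (he : IsIdempotentElem e) :
    ∃! r : R, IsIdempotentElem r ∧
      algebraMap B (Localization.Away (algebraMap R[X] B X)) (algebraMap R[X] B (Polynomial.C r)) = e := by
  obtain ⟨Γ, hΓC, hΓ0⟩ := Groth.Agent.Lib.R2H7.HensLaurent.exists_toLaurentSeries hB
  have hΓe : IsIdempotentElem (Γ e) := by
    unfold IsIdempotentElem
    rw [← map_mul, he.eq]
  obtain ⟨r, ⟨hr, hre⟩, -⟩ := Groth.Agent.S15749.result R (Γ e) hΓe
  set ρ := algebraMap B (Localization.Away (algebraMap R[X] B X)) (algebraMap R[X] B (Polynomial.C r))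
    with hρ
  have hρid : ρ * ρ = ρ := by
    rw [hρ, ← map_mul, ← map_mul, ← map_mul, hr.eq]
  have hee : e * e = e := he.eq
  have hδid : IsIdempotentElem ((e - ρ) * (e - ρ)) := by
    unfold IsIdempotentElem
    linear_combination (4*(ρ*ρ-ρ) + 2*(e+ρ-2*e*ρ) + (e*e-e) + (ρ*ρ-ρ)) * hee +
      (2*(e+ρ-2*e*ρ) + (e*e-e) + (ρ*ρ-ρ)) * hρid
  have hδ0 : Γ ((e - ρ) * (e - ρ)) = 0 := by
    rw [map_mul, map_sub, hΓC, hre, sub_self, zero_mul]
  have hsq : (e - ρ) * (e - ρ) = 0 := hΓ0 _ hδid hδ0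
  have hcube : e - ρ = (e - ρ) * ((e - ρ) * (e - ρ)) := by
    linear_combination (-(1 + e - 3*ρ)) * hee + (-(3*e - 1 - ρ)) * hρid
  have heρ : ρ = e := by
    have : e - ρ = 0 := by rw [hcube, hsq, mul_zero]
    exact (sub_eq_zero.mp this).symm
  refine ⟨r, ⟨hr, heρ⟩, ?_⟩
  rintro r2 ⟨-, hr2⟩
  have h1 := hΓC r2
  rw [hr2, ← heρ, hρ, hΓC] at h1
  exact (HahnSeries.C_injective h1).symm

end Groth.Agent.S15768
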