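import Groth.Statements.S15807
import Mathlib
import Groth.Agent.Lib.R2H7ArtinSchreierFam2
import Groth.Agent.Lib.R2H7ArtinSchreierAut

set_option autoImplicit false
universe u
open WildQuot

namespace Groth.Agent.S15807

namespace Aux

open TensorProduct

section rank
variable {R : Type u} [CommRing R] [IsDomain R]
variable {A : Type u} [CommRing A] [Algebra R A] [Module.Free R A] [Module.Finite R A]
variable {B : Type u} [CommRing B] [Algebra R B] [Module.Free R B] [Module.Finite R B]

theorem injective_of_rank (p m : ℕ) (hp : 0 < p) (hB : Module.finrank R B = p ^ m)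
    (hA : Module.finrank R A = p ^ (m + 1))
    (ψ : B →ₐ[R] A) (u₀ : A) (a₀ : R) (ha₀ : a₀ ≠ 0)
    (hspan : ∀ t : A, ∃ (D : ℕ) (b : Fin p → B),
      algebraMap R A a₀ ^ D * t = ∑ i, ψ (b i) * u₀ ^ (i : ℕ)) :
    Function.Injective ψ := by
  classical
  let K := FractionRing R
  let ψK : K ⊗[R] B →ₗ[K] K ⊗[R] A := ψ.toLinearMap.baseChange K
  let Φ : (Fin p → K ⊗[R] B) →ₗ[K] K ⊗[R] A :=
    ∑ i : Fin p, (LinearMap.mulLeft K ((1 : K) ⊗ₜ[R] (u₀ ^ (i : ℕ)))) ∘ₗ ψK ∘ₗ (LinearMap.proj i)
  have hΦ : ∀ v, Φ v = ∑ i : Fin p, ((1 : K) ⊗ₜ[R] (u₀ ^ (i : ℕ))) * ψK (v i) := by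
    intro v
    simp only [Φ, LinearMap.sum_apply, LinearMap.comp_apply, LinearMap.mulLeft_apply,
      LinearMap.proj_apply]
  have hsurj : Function.Surjective Φ := by
    rw [← LinearMap.range_eq_top, eq_top_iff]
    suffices h : ∀ y, y ∈ LinearMap.range Φ from fun y _ => h y
    intro y
    induction y using TensorProduct.induction_on with
    | zero => exact zero_mem _
    | add x y hx hy => exact add_mem hx hy
    | tmul x t =>
      have h1 : x ⊗ₜ[R] t = x • ((1 : K) ⊗ₜ[R] t) := by
        rw [TensorProduct.smul_tmul', smul_eq_mul, mul_one]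
      rw [h1]
      refine Submodule.smul_mem _ _ ?_
      obtain ⟨D, b, hb⟩ := hspan t
      have haK : (algebraMap R K (a₀ ^ D)) ≠ 0 := by
        intro h
        exact pow_ne_zero D ha₀ ((IsFractionRing.injective R K) (by rw [h, map_zero]))
      refine ⟨fun i => (algebraMap R K (a₀ ^ D))⁻¹ • ((1 : K) ⊗ₜ[R] b i), ?_⟩
      rw [hΦ]
      have h2 : ∀ i : Fin p, ((1 : K) ⊗ₜ[R] (u₀ ^ (i : ℕ))) *
          ψK ((algebraMap R K (a₀ ^ D))⁻¹ • ((1 : K) ⊗ₜ[R] b i)) =
          (algebraMap R K (a₀ ^ D))⁻¹ • ((1 : K) ⊗ₜ[R] (ψ (b i) * u₀ ^ (i : ℕ))) := by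
        intro i
        rw [map_smul]
        simp only [ψK, LinearMap.baseChange_tmul, AlgHom.toLinearMap_apply]
        rw [mul_smul_comm, Algebra.TensorProduct.tmul_mul_tmul, mul_one, mul_comm]
      simp_rw [h2]
      rw [← Finset.smul_sum, ← TensorProduct.tmul_sum, ← hb]
      have h3 : (1 : K) ⊗ₜ[R] (algebraMap R A a₀ ^ D * t) =
          algebraMap R K (a₀ ^ D) • ((1 : K) ⊗ₜ[R] t) := by
        rw [← map_pow, ← Algebra.smul_def, TensorProduct.tmul_smul, TensorProduct.smul_tmul',
          TensorProduct.smul_tmul', Algebra.smul_def, mul_one, smul_eq_mul, mul_one]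
      rw [h3, smul_smul, inv_mul_cancel₀ haK, one_smul]
  have hfA : Module.finrank K (K ⊗[R] A) = p ^ (m + 1) := by
    rw [Module.finrank_baseChange, hA]
  have hfB : Module.finrank K (K ⊗[R] B) = p ^ m := by
    rw [Module.finrank_baseChange, hB]
  have hfin : Module.finrank K (Fin p → K ⊗[R] B) = Module.finrank K (K ⊗[R] A) := by
    rw [Module.finrank_pi_fintype, hfA]
    simp only [hfB, Finset.sum_const, Finset.card_univ, Fintype.card_fin, smul_eq_mul]
    rw [pow_succ, mul_comm]
  have hinj : Function.Injective Φ :=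
    (LinearMap.injective_iff_surjective_of_finrank_eq_finrank hfin).2 hsurj
  have hψK : Function.Injective ψK := by
    rw [injective_iff_map_eq_zero]
    intro v hv
    have h0 : Φ (Pi.single (⟨0, hp⟩ : Fin p) v) = 0 := by
      rw [hΦ, Finset.sum_eq_single (⟨0, hp⟩ : Fin p)]
      · rw [Pi.single_eq_same, hv, mul_zero]
      · intro i _ hi
        rw [Pi.single_eq_of_ne hi, map_zero, mul_zero]
      · intro h; exact absurd (Finset.mem_univ _) h
    have := hinj (h0.trans (map_zero Φ).symm)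
    have h1 := congrFun this (⟨0, hp⟩ : Fin p)
    rwa [Pi.single_eq_same, Pi.zero_apply] at h1
  rw [injective_iff_map_eq_zero]
  intro b hb
  have h1 : ψK ((1 : K) ⊗ₜ[R] b) = 0 := by
    simp only [ψK, LinearMap.baseChange_tmul, AlgHom.toLinearMap_apply, hb, TensorProduct.tmul_zero]
  have h2 : (1 : K) ⊗ₜ[R] b = 0 := hψK (h1.trans (map_zero ψK).symm)
  have h3 : Function.Injective ((Algebra.linearMap R K).rTensor B) :=
    Module.Flat.rTensor_preserves_injective_linearMap _ (IsFractionRing.injective R K)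
  have h4 : (Algebra.linearMap R K).rTensor B ((1 : R) ⊗ₜ[R] b) = 0 := by
    rw [LinearMap.rTensor_tmul, Algebra.linearMap_apply, map_one, h2]
  have h5 : (1 : R) ⊗ₜ[R] b = 0 := h3 (h4.trans (map_zero _).symm)
  have h6 := congrArg (TensorProduct.lid R B) h5
  rwa [TensorProduct.lid_tmul, one_smul, map_zero] at h6

end rank

section struct
variable {R : Type u} [CommRing R] [Nontrivial R] {A : Type u} [CommRing A] [Algebra R A]

open Polynomial in
theorem exists_repr (p : ℕ) (hp : 2 ≤ p) {ι : Type} (u : ι → A) (i₀ : ι) (a : ι → R) (c' x₀' : R)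
    (hgen : Algebra.adjoin R (Set.range u) = ⊤)
    (hrel : u i₀ ^ p = algebraMap R A c' * u i₀ + algebraMap R A x₀') (t : A) :
    ∃ (D : ℕ) (b : Fin p → MvPolynomial {j : ι // j ≠ i₀} R),
      algebraMap R A (a i₀) ^ D * t = ∑ i : Fin p,
        MvPolynomial.aeval (fun j : {j : ι // j ≠ i₀} =>
          algebraMap R A (a i₀) * u j.1 - algebraMap R A (a j.1) * u i₀) (b i) * u i₀ ^ (i : ℕ) := by
  classical
  set z : {j : ι // j ≠ i₀} → A := fun j =>
    algebraMap R A (a i₀) * u j.1 - algebraMap R A (a j.1) * u i₀ with hz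
  set u₀ : A := u i₀ with hu₀
  set ψ : MvPolynomial {j : ι // j ≠ i₀} R →ₐ[R] A := MvPolynomial.aeval z with hψ
  set Su : Subalgebra R A := Algebra.adjoin R (Set.range z ∪ {u₀}) with hSu
  -- every element of A, times a power of a₀, lies in S[u₀]
  have hW : ∀ x : A, ∃ D : ℕ, algebraMap R A (a i₀) ^ D * x ∈ Su := by
    intro x
    have hx : x ∈ Algebra.adjoin R (Set.range u) := by rw [hgen]; exact Algebra.mem_top
    induction hx using Algebra.adjoin_induction with
    | mem x hx =>
      obtain ⟨j, rfl⟩ := hx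
      by_cases hj : j = i₀
      · refine ⟨0, ?_⟩
        rw [pow_zero, one_mul, hj]
        exact Algebra.subset_adjoin (Or.inr rfl)
      · refine ⟨1, ?_⟩
        rw [pow_one]
        have : algebraMap R A (a i₀) * u j = z ⟨j, hj⟩ + algebraMap R A (a j) * u₀ := by
          simp only [hz]; ring
        rw [this]
        exact add_mem (Algebra.subset_adjoin (Or.inl ⟨⟨j, hj⟩, rfl⟩))
          (mul_mem (Subalgebra.algebraMap_mem _ _) (Algebra.subset_adjoin (Or.inr rfl)))
    | algebraMap r => exact ⟨0, by rw [pow_zero, one_mul]; exact Subalgebra.algebraMap_mem _ _⟩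
    | add x y _ _ hx hy =>
      obtain ⟨D₁, h₁⟩ := hx
      obtain ⟨D₂, h₂⟩ := hy
      refine ⟨D₁ + D₂, ?_⟩
      have : algebraMap R A (a i₀) ^ (D₁ + D₂) * (x + y) =
          algebraMap R A (a i₀) ^ D₂ * (algebraMap R A (a i₀) ^ D₁ * x) +
          algebraMap R A (a i₀) ^ D₁ * (algebraMap R A (a i₀) ^ D₂ * y) := by
        rw [pow_add]; ring
      rw [this]
      exact add_mem (mul_mem (pow_mem (Subalgebra.algebraMap_mem _ _) _) h₁)
        (mul_mem (pow_mem (Subalgebra.algebraMap_mem _ _) _) h₂)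
    | mul x y _ _ hx hy =>
      obtain ⟨D₁, h₁⟩ := hx
      obtain ⟨D₂, h₂⟩ := hy
      refine ⟨D₁ + D₂, ?_⟩
      have : algebraMap R A (a i₀) ^ (D₁ + D₂) * (x * y) =
          (algebraMap R A (a i₀) ^ D₁ * x) * (algebraMap R A (a i₀) ^ D₂ * y) := by
        rw [pow_add]; ring
      rw [this]
      exact mul_mem h₁ h₂
  -- evaluation of polynomials in u₀ with coefficients polynomials in z
  let E : (MvPolynomial {j : ι // j ≠ i₀} R)[X] →+* A := Polynomial.eval₂RingHom (ψ : _ →+* A) u₀
  have hE : ∀ q, E q = Polynomial.eval₂ (ψ : _ →+* A) u₀ q := fun q => rfl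
  have hSuE : ∀ x ∈ Su, ∃ q, E q = x := by
    intro x hx
    induction hx using Algebra.adjoin_induction with
    | mem x hx =>
      rcases hx with ⟨j, rfl⟩ | hx
      · refine ⟨Polynomial.C (MvPolynomial.X j), ?_⟩
        rw [hE, Polynomial.eval₂_C]
        simp [hψ]
      · rw [Set.mem_singleton_iff] at hx
        refine ⟨Polynomial.X, ?_⟩
        rw [hE, Polynomial.eval₂_X, hx]
    | algebraMap r =>
      refine ⟨Polynomial.C (MvPolynomial.C r), ?_⟩
      rw [hE, Polynomial.eval₂_C]
      simp [hψ]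
    | add x y _ _ hx hy =>
      obtain ⟨q₁, h₁⟩ := hx
      obtain ⟨q₂, h₂⟩ := hy
      exact ⟨q₁ + q₂, by rw [map_add, h₁, h₂]⟩
    | mul x y _ _ hx hy =>
      obtain ⟨q₁, h₁⟩ := hx
      obtain ⟨q₂, h₂⟩ := hy
      exact ⟨q₁ * q₂, by rw [map_mul, h₁, h₂]⟩
  -- the monic relation
  set g : (MvPolynomial {j : ι // j ≠ i₀} R)[X] :=
    Polynomial.X ^ p - (Polynomial.C (MvPolynomial.C c') * Polynomial.X +
      Polynomial.C (MvPolynomial.C x₀')) with hg
  have hlow : (Polynomial.C (MvPolynomial.C c') * Polynomial.X +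
      Polynomial.C (MvPolynomial.C x₀') : (MvPolynomial {j : ι // j ≠ i₀} R)[X]).degree
      < ((p : ℕ) : WithBot ℕ) := by
    refine lt_of_le_of_lt (Polynomial.degree_linear_le) ?_
    exact_mod_cast (by omega : 1 < p)
  have hgmonic : g.Monic := Polynomial.monic_X_pow_sub hlow
  have hgdeg : g.natDegree = p := by
    apply Polynomial.natDegree_eq_of_degree_eq_some
    rw [hg, Polynomial.degree_sub_eq_left_of_degree_lt, Polynomial.degree_X_pow]
    rw [Polynomial.degree_X_pow]
    exact hlow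
  have hEg : E g = 0 := by
    rw [hg, map_sub, map_add, map_mul, map_pow]
    simp only [hE, Polynomial.eval₂_X, Polynomial.eval₂_C]
    have e1 : ∀ r : R, (ψ : MvPolynomial {j : ι // j ≠ i₀} R →+* A) (MvPolynomial.C r)
        = algebraMap R A r := by
      intro r; simp [hψ]
    rw [e1, e1, hrel]
    ring
  obtain ⟨D, hD⟩ := hW t
  obtain ⟨q, hq⟩ := hSuE _ hD
  refine ⟨D, fun i => (q %ₘ g).coeff (i : ℕ), ?_⟩
  have h1 : E (q %ₘ g) = E q := by
    conv_rhs => rw [← Polynomial.modByMonic_add_div q g]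
    rw [map_add, map_mul, hEg, zero_mul, add_zero]
  have h2 : (q %ₘ g).natDegree < p := by
    by_cases h0 : q %ₘ g = 0
    · rw [h0, Polynomial.natDegree_zero]; omega
    · have := Polynomial.degree_modByMonic_lt q hgmonic
      rw [← hgdeg]
      exact (Polynomial.natDegree_lt_natDegree_iff h0).2 this
  rw [← hq, ← h1, hE, Polynomial.eval₂_eq_sum_range' _ h2, Finset.sum_range]
  rfl

end struct

section Bfree
open Polynomial Groth.Agent.Lib.R2H7

theorem monic_AS {R : Type u} [CommRing R] [Nontrivial R] (p : ℕ) (hp : 2 ≤ p) (c d : R) :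
    (X ^ p - C c * X - C d : R[X]).Monic ∧ (X ^ p - C c * X - C d : R[X]).natDegree = p := by
  have hlow : (C c * X + C d : R[X]).degree < ((p : ℕ) : WithBot ℕ) := by
    refine lt_of_le_of_lt (Polynomial.degree_linear_le) ?_
    exact_mod_cast (by omega : 1 < p)
  rw [sub_sub]
  refine ⟨Polynomial.monic_X_pow_sub hlow, ?_⟩
  apply Polynomial.natDegree_eq_of_degree_eq_some
  rw [Polynomial.degree_sub_eq_left_of_degree_lt, Polynomial.degree_X_pow]
  rw [Polynomial.degree_X_pow]
  exact hlow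

theorem free_of_monic_family {R : Type u} [CommRing R] [Nontrivial R] {J : Type} [Fintype J]
    (f : J → R[X]) (hf : ∀ j, (f j).Monic) (d : ℕ) (hd : 0 < d) (hdeg : ∀ j, (f j).natDegree = d) :
    Module.Free R (MvPolynomial J R ⧸ Ideal.span (Set.range fun j : J =>
        Polynomial.aeval (MvPolynomial.X j : MvPolynomial J R) (f j))) ∧
      Module.Finite R (MvPolynomial J R ⧸ Ideal.span (Set.range fun j : J =>
        Polynomial.aeval (MvPolynomial.X j : MvPolynomial J R) (f j))) ∧
      Module.finrank R (MvPolynomial J R ⧸ Ideal.span (Set.range fun j : J =>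
        Polynomial.aeval (MvPolynomial.X j : MvPolynomial J R) (f j))) = d ^ Fintype.card J := by
  classical
  set m := Fintype.card J with hm
  let e : Fin m ≃ J := (Fintype.equivFin J).symm
  obtain ⟨h1, h2, h3⟩ := MonicTower.main m R (fun i => f (e i)) (fun i => hf _)
    (fun i => by rw [hdeg]; exact hd)
  let ρ : MvPolynomial (Fin m) R ≃ₐ[R] MvPolynomial J R := MvPolynomial.renameEquiv R e
  have hI : Ideal.span (Set.range fun j : J =>
      Polynomial.aeval (MvPolynomial.X j : MvPolynomial J R) (f j)) =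
      (MonicTower.relIdeal (fun i => f (e i))).map (ρ : MvPolynomial (Fin m) R →+* MvPolynomial J R) := by
    rw [MonicTower.relIdeal, Ideal.map_span, ← Set.range_comp]
    congr 1
    have : ((ρ : MvPolynomial (Fin m) R →+* MvPolynomial J R) ∘ fun i : Fin m =>
        Polynomial.aeval (MvPolynomial.X i : MvPolynomial (Fin m) R) (f (e i))) =
        (fun j : J => Polynomial.aeval (MvPolynomial.X j : MvPolynomial J R) (f j)) ∘ e := by
      funext i
      simp only [Function.comp_apply]
      have := Polynomial.aeval_algHom_apply (ρ : MvPolynomial (Fin m) R →ₐ[R] MvPolynomial J R)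
        (MvPolynomial.X i) (f (e i))
      rw [show ((ρ : MvPolynomial (Fin m) R →+* MvPolynomial J R)
        (Polynomial.aeval (MvPolynomial.X i : MvPolynomial (Fin m) R) (f (e i)))) =
        (ρ : MvPolynomial (Fin m) R →ₐ[R] MvPolynomial J R)
          (Polynomial.aeval (MvPolynomial.X i : MvPolynomial (Fin m) R) (f (e i))) from rfl, ← this]
      congr 1
      simp [ρ]
    rw [this, Set.range_comp, Equiv.range_eq_univ, Set.image_univ]
  let E := Ideal.quotientEquivAlg (MonicTower.relIdeal (fun i => f (e i)))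
    (Ideal.span (Set.range fun j : J =>
      Polynomial.aeval (MvPolynomial.X j : MvPolynomial J R) (f j))) ρ hI
  refine ⟨Module.Free.of_equiv E.toLinearEquiv, Module.Finite.equiv E.toLinearEquiv, ?_⟩
  rw [← LinearEquiv.finrank_eq E.toLinearEquiv, h3]
  simp [hdeg, hm]

end Bfree

theorem rel_z {A : Type*} [CommRing A] (p : ℕ) [Fact p.Prime] [CharP A p]
    (a0 aj mu uj u0 xj x0 : A) (hj : uj ^ p = (mu * aj) ^ (p - 1) * uj + xj)
    (h0 : u0 ^ p = (mu * a0) ^ (p - 1) * u0 + x0) :
    (a0 * uj - aj * u0) ^ p - (mu * a0 * aj) ^ (p - 1) * (a0 * uj - aj * u0)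
      - (a0 ^ p * xj - aj ^ p * x0) = 0 := by
  have hp : p.Prime := Fact.out
  rw [sub_pow_char, mul_pow, mul_pow, hj, h0]
  obtain ⟨q, rfl⟩ : ∃ q, p = q + 1 := ⟨p - 1, by have := hp.pos; omega⟩
  simp only [Nat.add_sub_cancel]
  ring

section final
open MvPolynomial Groth.Agent.Lib.R2H7 Groth.Agent.Lib.R2H7.ArtinSchreierFam

abbrev RR (k : Type u) [Field k] (n : ℕ) := MvPowerSeries (Fin n) k
abbrev AA (p : ℕ) [Fact p.Prime] (k : Type u) [Field k] (n : ℕ) (a' : Fin n → RR k n) :=
  MvPolynomial (Fin n) (RR k n) ⧸ relIdeal p a'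
abbrev JJ {n : ℕ} (i₀ : Fin n) := {j : Fin n // j ≠ i₀}

theorem main (p : ℕ) [Fact p.Prime] (k : Type u) [Field k] [CharP k p] (n : ℕ) (hn : 3 ≤ n)
    (a : Fin n → MvPowerSeries (Fin n) k) (μ : MvPowerSeries (Fin n) k)
    (ham : ∀ i, MvPowerSeries.constantCoeff (a i) = 0) (hcop : ∀ i j, i ≠ j → IsRelPrime (a i) (a j))
    (i₀ : Fin n) :
    RingHom.ker (MvPolynomial.aeval (fun j : JJ i₀ =>
        algebraMap (RR k n) (AA p k n (fun i => μ * a i)) (a i₀) * uu p (fun i => μ * a i) j.1 -
        algebraMap (RR k n) (AA p k n (fun i => μ * a i)) (a j.1) * uu p (fun i => μ * a i) i₀) :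
        MvPolynomial (JJ i₀) (RR k n) →ₐ[RR k n] (AA p k n (fun i => μ * a i))) =
      Ideal.span (Set.range fun j : JJ i₀ =>
        (X j ^ p - C ((μ * a i₀ * a j.1) ^ (p - 1)) * X j
          - C (a i₀ ^ p * MvPowerSeries.X j.1 - a j.1 ^ p * MvPowerSeries.X i₀) :
          MvPolynomial (JJ i₀) (RR k n))) := by
  classical
  have hp : p.Prime := Fact.out
  haveI : IsDomain (RR k n) := NoZeroDivisors.to_isDomain _
  obtain ⟨hAfree, hAfin, hArank⟩ := free_finite_finrank p (fun i => μ * a i)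
  haveI : Module.Free (RR k n) (AA p k n (fun i => μ * a i)) := hAfree
  haveI : Module.Finite (RR k n) (AA p k n (fun i => μ * a i)) := hAfin
  haveI : CharP (AA p k n (fun i => μ * a i)) p := charP_quot p (fun i => μ * a i)
  -- a i₀ ≠ 0
  have ha₀ : a i₀ ≠ 0 := by
    intro h0
    obtain ⟨j, hj⟩ : ∃ j : Fin n, j ≠ i₀ := by
      by_contra hcon
      push Not at hcon
      have h1 : (⟨0, by omega⟩ : Fin n) = i₀ := hcon _
      have h2 : (⟨1, by omega⟩ : Fin n) = i₀ := hcon _
      have := h1.trans h2.symm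
      simp [Fin.ext_iff] at this
    have h1 := hcop i₀ j (Ne.symm hj)
    rw [h0, isRelPrime_zero_left] at h1
    have h2 := (MvPowerSeries.isUnit_iff_constantCoeff).1 h1
    rw [ham j] at h2
    exact not_isUnit_zero h2
  -- B
  let fJ : JJ i₀ → Polynomial (RR k n) := fun j =>
    Polynomial.X ^ p - Polynomial.C ((μ * a i₀ * a j.1) ^ (p - 1)) * Polynomial.X -
      Polynomial.C (a i₀ ^ p * MvPowerSeries.X j.1 - a j.1 ^ p * MvPowerSeries.X i₀)
  let r : JJ i₀ → MvPolynomial (JJ i₀) (RR k n) := fun j =>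
    X j ^ p - C ((μ * a i₀ * a j.1) ^ (p - 1)) * X j
          - C (a i₀ ^ p * MvPowerSeries.X j.1 - a j.1 ^ p * MvPowerSeries.X i₀)
  have hIr : Ideal.span (Set.range r) = Ideal.span (Set.range fun j : JJ i₀ =>
      Polynomial.aeval (MvPolynomial.X j : MvPolynomial (JJ i₀) (RR k n)) (fJ j)) := by
    congr 2
    funext j
    simp [fJ, r]
  obtain ⟨hBfree, hBfin, hBrank⟩ := free_of_monic_family fJ
    (fun j => (monic_AS p hp.two_le _ _).1) p hp.pos (fun j => (monic_AS p hp.two_le _ _).2)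
  rw [← hIr] at hBfree hBfin hBrank
  haveI := hBfree
  haveI := hBfin
  have hcard : Fintype.card (JJ i₀) = n - 1 := by
    rw [Fintype.card_subtype_compl, Fintype.card_fin, Fintype.card_subtype_eq]
  rw [hcard] at hBrank
  -- the relations lie in the kernel
  let z : JJ i₀ → AA p k n (fun i => μ * a i) := fun j =>
        algebraMap (RR k n) (AA p k n (fun i => μ * a i)) (a i₀) * uu p (fun i => μ * a i) j.1 -
        algebraMap (RR k n) (AA p k n (fun i => μ * a i)) (a j.1) * uu p (fun i => μ * a i) i₀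
  let ψ : MvPolynomial (JJ i₀) (RR k n) →ₐ[RR k n] AA p k n (fun i => μ * a i) :=
    MvPolynomial.aeval z
  have hker : ∀ j, ψ (r j) = 0 := by
    intro j
    simp only [ψ, r, map_sub, map_mul, map_pow, aeval_X, aeval_C]
    have hj := uu_rel p (fun i => μ * a i) j.1
    have h0 := uu_rel p (fun i => μ * a i) i₀
    beta_reduce at hj h0
    rw [map_pow, map_mul] at hj h0
    have := rel_z p (algebraMap (RR k n) (AA p k n (fun i => μ * a i)) (a i₀))
      (algebraMap (RR k n) (AA p k n (fun i => μ * a i)) (a j.1))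
      (algebraMap (RR k n) (AA p k n (fun i => μ * a i)) μ)
      (uu p (fun i => μ * a i) j.1) (uu p (fun i => μ * a i) i₀)
      (algebraMap (RR k n) (AA p k n (fun i => μ * a i)) (MvPowerSeries.X j.1))
      (algebraMap (RR k n) (AA p k n (fun i => μ * a i)) (MvPowerSeries.X i₀)) hj h0
    simp only [z]
    exact this
  have hle : Ideal.span (Set.range r) ≤
      RingHom.ker (ψ : MvPolynomial (JJ i₀) (RR k n) →+* AA p k n (fun i => μ * a i)) := by
    rw [Ideal.span_le]
    rintro _ ⟨j, rfl⟩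
    exact hker j
  let ψ' : (MvPolynomial (JJ i₀) (RR k n) ⧸ Ideal.span (Set.range r)) →ₐ[RR k n]
      AA p k n (fun i => μ * a i) :=
    Ideal.Quotient.liftₐ (Ideal.span (Set.range r)) ψ (fun x hx => hle hx)
  have hinj : Function.Injective ψ' := by
    refine injective_of_rank p (n - 1) hp.pos hBrank ?_ ψ' (uu p (fun i => μ * a i) i₀) (a i₀) ha₀ ?_
    · rw [hArank]; congr 1; omega
    · intro t
      obtain ⟨D, b, hb⟩ := exists_repr p hp.two_le (uu p (fun i => μ * a i)) i₀ a
        ((μ * a i₀) ^ (p - 1))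
        (MvPowerSeries.X i₀) (adjoin_uu p (fun i => μ * a i)) (uu_rel p (fun i => μ * a i) i₀) t
      exact ⟨D, fun i => Ideal.Quotient.mk _ (b i), hb⟩
  apply le_antisymm
  · intro f hf
    have h1 : ψ' (Ideal.Quotient.mk _ f) = 0 := hf
    have h2 := hinj (h1.trans (map_zero ψ').symm)
    exact Ideal.Quotient.eq_zero_iff_mem.1 h2
  · exact hle

end final

end Aux

open MvPolynomial in
/-- Let `k` be a field of characteristic `p > 0`, `n ≥ 3`, `R = k[[x_1, …, x_n]]`, `a_1, …, a_n ∈ R`
with zero constant term and pairwise coprime, `μ ∈ R` nonzero and coprime to each `a_i`, and `A =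
R[u_1, …, u_n] / (u_i ^ p - (μ a_i) ^ (p-1) u_i - x_i : i = 1..n)`. Fix an index `i₀`. Then the
`R`-algebra map `R[Z_j : j ≠ i₀] → A` sending `Z_j` to the minor element `z_j = a_{i₀} u_j - a_j
u_{i₀}` has kernel generated by the polynomials `Z_j ^ p - (μ a_{i₀} a_j) ^ (p-1) Z_j - (a_{i₀} ^ p
x_j - a_j ^ p x_{i₀})`; i.e. the complete intersection `R[Z_j] /` (these relations) maps
isomorphically onto the subring of `A` generated over `R` by the minor elements through `u_{i₀}`.
(The published statement uses the first index for `i₀` and allows `n ≥ 2`; this row allows any index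
`i₀` and takes `n ≥ 3`.) -/
theorem result
    (p : ℕ) [Fact p.Prime] (k : Type u) [Field k] [CharP k p] (n : ℕ) (hn : 3 ≤ n)
    (a : Fin n → MvPowerSeries (Fin n) k) (μ : MvPowerSeries (Fin n) k)
    (ham : ∀ i, MvPowerSeries.constantCoeff (a i) = 0) (hcop : ∀ i j, i ≠ j → IsRelPrime (a i) (a j))
    (hμ : μ ≠ 0) (hμa : ∀ i, IsRelPrime μ (a i)) (i₀ : Fin n) :
    let R := MvPowerSeries (Fin n) k
    let I : Ideal (MvPolynomial (Fin n) R) :=
      Ideal.span (Set.range fun i : Fin n =>
        X i ^ p - C ((μ * a i) ^ (p - 1)) * X i - C (MvPowerSeries.X i))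
    let A := MvPolynomial (Fin n) R ⧸ I
    let u : Fin n → A := fun i => Ideal.Quotient.mk I (X i)
    let z : {j : Fin n // j ≠ i₀} → A := fun j =>
      algebraMap R A (a i₀) * u j.1 - algebraMap R A (a j.1) * u i₀
    let r : {j : Fin n // j ≠ i₀} → MvPolynomial {j : Fin n // j ≠ i₀} R := fun j =>
      X j ^ p - C ((μ * a i₀ * a j.1) ^ (p - 1)) * X j
        - C (a i₀ ^ p * MvPowerSeries.X j.1 - a j.1 ^ p * MvPowerSeries.X i₀)
    RingHom.ker (MvPolynomial.aeval z : MvPolynomial {j : Fin n // j ≠ i₀} R →ₐ[R] A) =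
      Ideal.span (Set.range r) := by
  intro R I A u z r
  exact Aux.main p k n hn a μ ham hcop i₀

end Groth.Agent.S15807
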