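import Groth.Statements.S19997
import Mathlib

set_option autoImplicit false
universe u
open WildQuot

namespace Groth.Agent.S19997

namespace Aux

section powersum
variable (p : ℕ) [Fact p.Prime]

lemma zmod_sum_pow (m : ℕ) (hm : m < p) :
    ∑ i ∈ Finset.range p, ((i : ZMod p)) ^ m = if m = p - 1 then -1 else 0 := by
  have hp : p.Prime := Fact.out
  have hconv : ∑ i ∈ Finset.range p, ((i : ZMod p)) ^ m = ∑ x : ZMod p, x ^ m := by
    symm
    refine Finset.sum_nbij' (fun x => x.val) (fun i => (i : ZMod p)) ?_ ?_ ?_ ?_ ?_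
    · intro x _; exact Finset.mem_range.2 (ZMod.val_lt x)
    · intro i _; exact Finset.mem_univ _
    · intro x _; exact ZMod.natCast_zmod_val x
    · intro i hi; exact ZMod.val_natCast_of_lt (Finset.mem_range.1 hi)
    · intro x _; rw [ZMod.natCast_zmod_val]
  rw [hconv]
  split_ifs with h
  · rw [h]
    have h1 : ∀ x : ZMod p, x ^ (p - 1) = if x ≠ 0 then 1 else 0 := ZMod.pow_card_sub_one
    simp_rw [h1]
    rw [Finset.sum_boole, Finset.filter_ne' Finset.univ (0 : ZMod p), Finset.card_erase_of_mem (Finset.mem_univ _),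
      Finset.card_univ, ZMod.card, Nat.cast_sub hp.one_le, ZMod.natCast_self]
    simp
  · exact FiniteField.sum_pow_lt_card_sub_one _ m (by rw [ZMod.card]; omega)

lemma field_sum_pow (k : Type*) [Field k] [CharP k p] (m : ℕ) (hm : m < p) :
    ∑ i ∈ Finset.range p, ((i : k)) ^ m = if m = p - 1 then -1 else 0 := by
  have h := congrArg (ZMod.castHom (dvd_refl p) k) (zmod_sum_pow p m hm)
  rw [map_sum] at h
  simp only [map_pow, map_natCast] at h
  rw [h]
  split_ifs <;> simp

end powersum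

section main
variable {k R A : Type*} [Field k] [CommRing R] [CommRing A] [Algebra R A]
variable (p : ℕ) [Fact p.Prime] [CharP k p] (φ : k →+* A)

include φ in
lemma sum_natCast_pow (m : ℕ) (hm : m < p) :
    ∑ i ∈ Finset.range p, ((i : A)) ^ m = if m = p - 1 then -1 else 0 := by
  have h := congrArg φ (field_sum_pow p k m hm)
  rw [map_sum] at h
  simp only [map_pow, map_natCast] at h
  rw [h]; split_ifs <;> simp

variable (σ : A ≃ₐ[R] A)

lemma pow_fixed {s : A} (hs : σ s = s) (i : ℕ) : (σ ^ i) s = s := by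
  induction i with
  | zero => simp
  | succ i ih => rw [pow_succ, AlgEquiv.mul_apply, hs, ih]

lemma pow_shift {u₀ c : A} (hc : σ c = c) (hu : σ u₀ = u₀ + c) (i : ℕ) :
    (σ ^ i) u₀ = u₀ + (i : A) * c := by
  induction i with
  | zero => simp
  | succ i ih =>
    rw [pow_succ, AlgEquiv.mul_apply, hu, map_add, ih, pow_fixed σ hc]
    push_cast
    ring

/-- the trace -/
noncomputable def tr (x : A) : A := ∑ i ∈ Finset.range p, (σ ^ i) x

lemma tr_add (x y : A) : tr p σ (x + y) = tr p σ x + tr p σ y := by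
  simp only [tr, map_add, Finset.sum_add_distrib]

lemma tr_fixed_mul {s : A} (hs : σ s = s) (x : A) : tr p σ (s * x) = s * tr p σ x := by
  simp only [tr, map_mul, pow_fixed σ hs, Finset.mul_sum]

lemma tr_mul_fixed {s : A} (hs : σ s = s) (x : A) : tr p σ (x * s) = tr p σ x * s := by
  rw [mul_comm, tr_fixed_mul p σ hs, mul_comm]

include φ in
lemma tr_pow_small {u₀ c : A} (hc : σ c = c) (hu : σ u₀ = u₀ + c) (N : ℕ) (hN : N < p) :
    tr p σ (u₀ ^ N) = if N = p - 1 then - c ^ (p - 1) else 0 := by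
  have hp : p.Prime := Fact.out
  have h1 : tr p σ (u₀ ^ N) = ∑ m ∈ Finset.range (N + 1),
      (∑ i ∈ Finset.range p, ((i : A)) ^ m) * c ^ m * u₀ ^ (N - m) * (N.choose m : A) := by
    simp only [tr, map_pow, pow_shift σ hc hu]
    have : ∀ i : ℕ, (u₀ + (i : A) * c) ^ N = ∑ m ∈ Finset.range (N + 1),
        ((i : A)) ^ m * c ^ m * u₀ ^ (N - m) * (N.choose m : A) := by
      intro i
      rw [add_comm, add_pow]
      refine Finset.sum_congr rfl fun m _ => ?_
      rw [mul_pow]
    simp_rw [this]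
    rw [Finset.sum_comm]
    refine Finset.sum_congr rfl fun m _ => ?_
    simp only [Finset.sum_mul]
  rw [h1]
  have h2 : ∀ m ∈ Finset.range (N + 1), (∑ i ∈ Finset.range p, ((i : A)) ^ m) =
      if m = p - 1 then -1 else 0 := by
    intro m hm
    exact sum_natCast_pow p φ m (by have := Finset.mem_range.1 hm; omega)
  rw [Finset.sum_congr rfl fun m hm => by rw [h2 m hm]]
  split_ifs with h
  · subst h
    rw [Finset.sum_eq_single (p - 1)]
    · simp
    · intro m _ hm
      rw [if_neg hm]; ring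
    · intro h; exact absurd (Finset.mem_range.2 (Nat.lt_succ_self _)) h
  · apply Finset.sum_eq_zero
    intro m hm
    have : m ≠ p - 1 := by have := Finset.mem_range.1 hm; omega
    rw [if_neg this]; ring

include φ in
lemma tr_pow_mem {u₀ c x₀ : A} (hc : σ c = c) (hx : σ x₀ = x₀) (hu : σ u₀ = u₀ + c)
    (hrel : u₀ ^ p = c ^ (p - 1) * u₀ + x₀) (S : Subalgebra R A) (hcS : c ∈ S) (hxS : x₀ ∈ S) (N : ℕ) :
    tr p σ (u₀ ^ N) ∈ S := by
  induction N using Nat.strong_induction_on with
  | _ N ih =>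
    by_cases hN : N < p
    · rw [tr_pow_small p φ σ hc hu N hN]
      split_ifs
      · exact neg_mem (pow_mem hcS _)
      · exact zero_mem _
    · obtain ⟨M, rfl⟩ : ∃ M, N = M + p := ⟨N - p, by omega⟩
      have hp : p.Prime := Fact.out
      have hrec : tr p σ (u₀ ^ (M + p)) = c ^ (p - 1) * tr p σ (u₀ ^ (M + 1)) + x₀ * tr p σ (u₀ ^ M) := by
        have : u₀ ^ (M + p) = c ^ (p - 1) * u₀ ^ (M + 1) + x₀ * u₀ ^ M := by
          rw [pow_add, hrel]; ring
        rw [this, tr_add, tr_fixed_mul p σ (by rw [map_pow, hc]), tr_fixed_mul p σ hx]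
      rw [hrec]
      have hp2 := hp.two_le
      exact add_mem (mul_mem (pow_mem hcS _) (ih (M + 1) (by omega)))
        (mul_mem hxS (ih M (by omega)))

end main

section generic
variable {k R A : Type*} [Field k] [CommRing R] [CommRing A] [Algebra R A]
variable (p : ℕ) [Fact p.Prime] [CharP k p] (φ : k →+* A)

include φ in
theorem generic_main {ι : Type*} (u : ι → A) (i₀ : ι) (a : ι → R) (μ x₀ : R)
    (hgen : Algebra.adjoin R (Set.range u) = ⊤)
    (hrel : u i₀ ^ p = algebraMap R A ((μ * a i₀) ^ (p - 1)) * u i₀ + algebraMap R A x₀)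
    (σ : A ≃ₐ[R] A) (hσ : ∀ i, σ (u i) = u i + algebraMap R A (μ * a i))
    (t : A) (ht : σ t = t) :
    ∃ N : ℕ, algebraMap R A (μ * a i₀) ^ N * t ∈ Algebra.adjoin R
      (Set.range (fun j : {j : ι // j ≠ i₀} =>
        algebraMap R A (a i₀) * u j.1 - algebraMap R A (a j.1) * u i₀)) := by
  classical
  set z : {j : ι // j ≠ i₀} → A := fun j =>
    algebraMap R A (a i₀) * u j.1 - algebraMap R A (a j.1) * u i₀ with hz
  set S : Subalgebra R A := Algebra.adjoin R (Set.range z) with hS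
  set c : A := algebraMap R A (μ * a i₀) with hcdef
  set u₀ : A := u i₀ with hu₀
  have hc : σ c = c := σ.commutes _
  have hu : σ u₀ = u₀ + c := hσ i₀
  have hrel' : u₀ ^ p = c ^ (p - 1) * u₀ + algebraMap R A x₀ := by
    rw [hrel, hcdef, map_pow]
  have hzfix : ∀ j, σ (z j) = z j := by
    intro j
    simp only [hz, map_sub, map_mul, AlgEquiv.commutes, hσ]
    rw [hu, hcdef, map_mul]
    ring
  have hSfix : ∀ s ∈ S, σ s = s := by
    intro s hs
    induction hs using Algebra.adjoin_induction with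
    | mem x hx => obtain ⟨j, rfl⟩ := hx; exact hzfix j
    | algebraMap r => exact σ.commutes r
    | add x y _ _ hx hy => rw [map_add, hx, hy]
    | mul x y _ _ hx hy => rw [map_mul, hx, hy]
  have hQ : ∀ N, tr p σ (u₀ ^ N) ∈ S := fun N =>
    tr_pow_mem p φ σ hc (σ.commutes x₀) hu hrel' S (Subalgebra.algebraMap_mem _ _)
      (Subalgebra.algebraMap_mem _ _) N
  -- the class V
  let InV : A → Prop := fun v => ∀ N, tr p σ (u₀ ^ N * v) ∈ S
  have hV1 : InV 1 := fun N => by rw [mul_one]; exact hQ N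
  have hVS : ∀ s ∈ S, ∀ v, InV v → InV (s * v) := by
    intro s hs v hv N
    have : u₀ ^ N * (s * v) = s * (u₀ ^ N * v) := by ring
    rw [this, tr_fixed_mul p σ (hSfix s hs)]
    exact mul_mem hs (hv N)
  have hVu : ∀ v, InV v → InV (u₀ * v) := by
    intro v hv N
    have : u₀ ^ N * (u₀ * v) = u₀ ^ (N + 1) * v := by ring
    rw [this]
    exact hv (N + 1)
  have hVadd : ∀ v w, InV v → InV w → InV (v + w) := by
    intro v w hv hw N
    rw [mul_add, tr_add]
    exact add_mem (hv N) (hw N)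
  -- S[u₀]
  set Su : Subalgebra R A := Algebra.adjoin R (Set.range z ∪ {u₀}) with hSu
  have hSuV : ∀ t' ∈ Su, ∀ v, InV v → InV (t' * v) := by
    intro t' ht'
    induction ht' using Algebra.adjoin_induction with
    | mem x hx =>
      rcases hx with ⟨j, rfl⟩ | hx
      · exact hVS _ (Algebra.subset_adjoin ⟨j, rfl⟩)
      · rw [Set.mem_singleton_iff] at hx
        rw [hx]
        exact hVu
    | algebraMap r => exact hVS _ (Subalgebra.algebraMap_mem _ _)
    | add x y _ _ hx hy =>
      intro v hv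
      rw [add_mul]
      exact hVadd _ _ (hx v hv) (hy v hv)
    | mul x y _ _ hx hy =>
      intro v hv
      rw [mul_assoc]
      exact hx _ (hy v hv)
  -- every element of A, times a power of a₀, lies in S[u₀]
  have hW : ∀ x : A, ∃ D : ℕ, algebraMap R A (a i₀) ^ D * x ∈ Su := by
    intro x
    have hx : x ∈ Algebra.adjoin R (Set.range u) := by rw [hgen]; exact Algebra.mem_top
    induction hx using Algebra.adjoin_induction with
    | mem x hx =>
      obtain ⟨j, rfl⟩ := hx
      by_cases hj : j = i₀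
      · refine ⟨0, ?_⟩
        rw [pow_zero, one_mul, hj]
        exact Algebra.subset_adjoin (Or.inr rfl)
      · refine ⟨1, ?_⟩
        rw [pow_one]
        have : algebraMap R A (a i₀) * u j = z ⟨j, hj⟩ + algebraMap R A (a j) * u₀ := by
          simp only [hz]; ring
        rw [this]
        exact add_mem (Algebra.subset_adjoin (Or.inl ⟨⟨j, hj⟩, rfl⟩))
          (mul_mem (Subalgebra.algebraMap_mem _ _) (Algebra.subset_adjoin (Or.inr rfl)))
    | algebraMap r => exact ⟨0, by rw [pow_zero, one_mul]; exact Subalgebra.algebraMap_mem _ _⟩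
    | add x y _ _ hx hy =>
      obtain ⟨D₁, h₁⟩ := hx
      obtain ⟨D₂, h₂⟩ := hy
      refine ⟨D₁ + D₂, ?_⟩
      have : algebraMap R A (a i₀) ^ (D₁ + D₂) * (x + y) =
          algebraMap R A (a i₀) ^ D₂ * (algebraMap R A (a i₀) ^ D₁ * x) +
          algebraMap R A (a i₀) ^ D₁ * (algebraMap R A (a i₀) ^ D₂ * y) := by
        rw [pow_add]; ring
      rw [this]
      exact add_mem (mul_mem (pow_mem (Subalgebra.algebraMap_mem _ _) _) h₁)
        (mul_mem (pow_mem (Subalgebra.algebraMap_mem _ _) _) h₂)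
    | mul x y _ _ hx hy =>
      obtain ⟨D₁, h₁⟩ := hx
      obtain ⟨D₂, h₂⟩ := hy
      refine ⟨D₁ + D₂, ?_⟩
      have : algebraMap R A (a i₀) ^ (D₁ + D₂) * (x * y) =
          (algebraMap R A (a i₀) ^ D₁ * x) * (algebraMap R A (a i₀) ^ D₂ * y) := by
        rw [pow_add]; ring
      rw [this]
      exact mul_mem h₁ h₂
  obtain ⟨D, hD⟩ := hW t
  set t' : A := algebraMap R A (a i₀) ^ D * t with ht'
  have ht'fix : σ t' = t' := by
    rw [ht', map_mul, map_pow, σ.commutes, ht]
  have h1 : tr p σ (u₀ ^ (p - 1) * (t' * 1)) ∈ S := hSuV t' hD 1 hV1 (p - 1)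
  have hp : p.Prime := Fact.out
  have h2 : tr p σ (u₀ ^ (p - 1) * (t' * 1)) = - c ^ (p - 1) * t' := by
    rw [mul_one, tr_mul_fixed p σ ht'fix, tr_pow_small p φ σ hc hu (p - 1) (by have := hp.two_le; omega),
      if_pos rfl]
  rw [h2] at h1
  have h3 : c ^ (p - 1) * t' ∈ S := by
    have := neg_mem h1
    rwa [neg_mul, neg_neg] at this
  refine ⟨p - 1 + D, ?_⟩
  have h4 : c ^ (p - 1 + D) * t = algebraMap R A μ ^ D * (c ^ (p - 1) * t') := by
    rw [ht', hcdef, map_mul, pow_add, mul_pow]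
    ring
  rw [h4]
  exact mul_mem (pow_mem (Subalgebra.algebraMap_mem _ _) _) h3

end generic

section concrete
open MvPolynomial

lemma concrete_gen (R : Type*) [CommRing R] (n : ℕ) (I : Ideal (MvPolynomial (Fin n) R)) :
    Algebra.adjoin R (Set.range (fun i : Fin n =>
      (Ideal.Quotient.mk I (X i) : MvPolynomial (Fin n) R ⧸ I))) = ⊤ := by
  have h1 : Algebra.adjoin R (Set.range (X : Fin n → MvPolynomial (Fin n) R)) = ⊤ :=
    MvPolynomial.adjoin_range_X
  have h2 := congrArg (Subalgebra.map (Ideal.Quotient.mkₐ R I)) h1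
  rw [AlgHom.map_adjoin, Algebra.map_top] at h2
  have h3 : (Ideal.Quotient.mkₐ R I).range = ⊤ :=
    (AlgHom.range_eq_top _).2 (Ideal.Quotient.mkₐ_surjective R I)
  rw [h3] at h2
  rw [← h2]
  congr 1
  ext y
  constructor
  · rintro ⟨i, rfl⟩; exact ⟨X i, ⟨i, rfl⟩, rfl⟩
  · rintro ⟨_, ⟨i, rfl⟩, rfl⟩; exact ⟨i, rfl⟩

lemma concrete_rel (R : Type*) [CommRing R] (n : ℕ) (p : ℕ) (c x : Fin n → R) (i₀ : Fin n) :
    let I : Ideal (MvPolynomial (Fin n) R) :=
      Ideal.span (Set.range fun i : Fin n => X i ^ p - C (c i) * X i - C (x i))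
    (Ideal.Quotient.mk I (X i₀) : MvPolynomial (Fin n) R ⧸ I) ^ p =
      algebraMap R (MvPolynomial (Fin n) R ⧸ I) (c i₀) * Ideal.Quotient.mk I (X i₀) +
        algebraMap R (MvPolynomial (Fin n) R ⧸ I) (x i₀) := by
  intro I
  have h : Ideal.Quotient.mk I (X i₀ ^ p - C (c i₀) * X i₀ - C (x i₀)) = 0 :=
    Ideal.Quotient.eq_zero_iff_mem.2 (Ideal.subset_span ⟨i₀, rfl⟩)
  rw [map_sub, map_sub, map_mul, map_pow] at h
  have e1 : ∀ r : R, algebraMap R (MvPolynomial (Fin n) R ⧸ I) r = Ideal.Quotient.mk I (C r) := fun r => rfl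
  rw [e1, e1]
  linear_combination h

end concrete

end Aux

open MvPolynomial in
/-- Let `k` be a field of characteristic `p > 0`, `n ≥ 2`, `R = k[[x_1, …, x_n]]`, `a_1, …, a_n ∈ R`
with zero constant term and pairwise coprime, `μ ∈ R` nonzero and coprime to each `a_i`, `A = R[u_1,
…, u_n] / (u_i ^ p - (μ a_i) ^ (p-1) u_i - x_i : i = 1..n)`, and `σ` the `R`-algebra automorphism of
`A` with `σ u_i = u_i + μ a_i` for every `i` (it generates a group `G` of order `p`). Fix an index
`i₀` and let `A_ci ⊆ A` be the `R`-subalgebra generated by the minor elements `z_j = a_{i₀} u_j -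
a_j u_{i₀}`, `j ≠ i₀` (these are `σ`-invariant). Then `A_ci[1/(μ a_{i₀})] = A^G[1/(μ a_{i₀})]`: for
every `σ`-invariant `t ∈ A` some power `(μ a_{i₀}) ^ N t` lies in `A_ci`. (The published statement
uses the first index for `i₀`.) -/
theorem result
    (p : ℕ) [Fact p.Prime] (k : Type u) [Field k] [CharP k p] (n : ℕ) (hn : 2 ≤ n)
    (a : Fin n → MvPowerSeries (Fin n) k) (μ : MvPowerSeries (Fin n) k)
    (ham : ∀ i, MvPowerSeries.constantCoeff (a i) = 0) (hcop : ∀ i j, i ≠ j → IsRelPrime (a i) (a j))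
    (hμ : μ ≠ 0) (hμa : ∀ i, IsRelPrime μ (a i)) (i₀ : Fin n) :
    let R := MvPowerSeries (Fin n) k
    let I : Ideal (MvPolynomial (Fin n) R) :=
      Ideal.span (Set.range fun i : Fin n =>
        X i ^ p - C ((μ * a i) ^ (p - 1)) * X i - C (MvPowerSeries.X i))
    let A := MvPolynomial (Fin n) R ⧸ I
    let u : Fin n → A := fun i => Ideal.Quotient.mk I (X i)
    let z : {j : Fin n // j ≠ i₀} → A := fun j =>
      algebraMap R A (a i₀) * u j.1 - algebraMap R A (a j.1) * u i₀
    ∀ σ : A ≃ₐ[R] A, (∀ i, σ (u i) = u i + algebraMap R A (μ * a i)) →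
      ∀ t : A, σ t = t →
        ∃ N : ℕ, algebraMap R A (μ * a i₀) ^ N * t ∈ Algebra.adjoin R (Set.range z) := by
  intro R I A u z σ hσ t ht
  exact Aux.generic_main (k := k) p
    ((algebraMap R A).comp (algebraMap k R)) u i₀ a μ (MvPowerSeries.X i₀)
    (Aux.concrete_gen R n I)
    (Aux.concrete_rel R n p (fun i => (μ * a i) ^ (p - 1)) (fun i => MvPowerSeries.X i) i₀)
    σ hσ t ht

end Groth.Agent.S19997
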