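import Groth.Statements.S15808
import Mathlib
import Groth.Agent.S19997
import Groth.Agent.S15807
import Groth.Agent.Lib.Helper28Catenary

set_option autoImplicit false
universe u
open WildQuot

namespace Groth.Agent.S15808

namespace Aux

section generic

theorem isIntegrallyClosed_fixed {A : Type*} [CommRing A] [IsDomain A] [IsIntegrallyClosed A]
    (σ : A → A) (hmul : ∀ x y, σ (x * y) = σ x * σ y) (T : Subring A)
    (hT : ∀ x, x ∈ T ↔ σ x = x) : IsIntegrallyClosed T := by
  let K := FractionRing T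
  let M := FractionRing A
  rw [isIntegrallyClosed_iff K]
  intro x hx
  let g : T →+* M := (algebraMap A M).comp T.subtype
  have hg : Function.Injective g := (IsFractionRing.injective A M).comp Subtype.val_injective
  let ι : K →+* M := IsFractionRing.lift hg
  have hι : ∀ t : T, ι (algebraMap T K t) = algebraMap A M t := fun t => IsFractionRing.lift_algebraMap hg t
  have hint : IsIntegral A (ι x) := by
    obtain ⟨P, hPm, hP⟩ := hx
    refine ⟨P.map T.subtype, hPm.map _, ?_⟩
    rw [Polynomial.eval₂_map]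
    have : (algebraMap A M).comp T.subtype = ι.comp (algebraMap T K) := by
      ext t; exact (hι t).symm
    rw [this, ← Polynomial.hom_eval₂, hP, map_zero]
  obtain ⟨w, hw⟩ := IsIntegrallyClosed.algebraMap_eq_of_integral hint
  obtain ⟨s, t, ht, rfl⟩ := IsFractionRing.div_surjective (A := T) x
  have ht0 : t ≠ 0 := nonZeroDivisors.ne_zero ht
  have htA : (t : A) ≠ 0 := fun h => ht0 (Subtype.ext h)
  have htM : algebraMap A M (t : A) ≠ 0 := by
    intro h
    exact htA ((IsFractionRing.injective A M) (by rw [h, map_zero]))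
  rw [map_div₀, hι, hι] at hw
  have hwt : w * (t : A) = (s : A) := by
    apply IsFractionRing.injective A M
    rw [map_mul, hw, div_mul_cancel₀ _ htM]
  have hσw : σ w = w := by
    have hs : σ (s : A) = (s : A) := (hT _).1 s.2
    have htt : σ (t : A) = (t : A) := (hT _).1 t.2
    have h1 : σ w * (t : A) = w * (t : A) := by
      rw [← htt, ← hmul, hwt, hs, htt, hwt]
    exact mul_right_cancel₀ htA h1
  refine ⟨⟨w, (hT _).2 hσw⟩, ?_⟩
  have htK : algebraMap T K t ≠ 0 := by
    intro h
    exact ht0 ((IsFractionRing.injective T K) (by rw [h, map_zero]))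
  rw [eq_div_iff htK, ← map_mul]
  congr 1
  exact Subtype.ext hwt

theorem isLocalization_away_of {B T D' : Type*} [CommRing B] [CommRing T] [IsDomain T] [CommRing D']
    [Algebra T D'] (f : B →+* T) (c : B)
    [IsLocalization.Away (f c) D'] (hinj : Function.Injective f)
    (hc : f c ≠ 0)
    (hsur : ∀ t : T, ∃ (N : ℕ) (b : B), f c ^ N * t = f b) :
    letI : Algebra B D' := ((algebraMap T D').comp f).toAlgebra
    IsLocalization.Away c D' := by
  letI : Algebra B D' := ((algebraMap T D').comp f).toAlgebra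
  have halg : ∀ x : B, algebraMap B D' x = algebraMap T D' (f x) := fun x => rfl
  have hle : Submonoid.powers (f c) ≤ nonZeroDivisors T := by
    rintro _ ⟨m, rfl⟩
    exact mem_nonZeroDivisors_of_ne_zero (pow_ne_zero m hc)
  have hinjT : Function.Injective (algebraMap T D') :=
    IsLocalization.injective D' hle
  show IsLocalization (Submonoid.powers c) D'
  rw [isLocalization_iff]
  refine ⟨?_, ?_, ?_⟩
  · rintro ⟨_, ⟨m, rfl⟩⟩
    rw [halg, map_pow]
    exact IsLocalization.map_units D' (⟨f c ^ m, ⟨m, rfl⟩⟩ : Submonoid.powers (f c))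
  · intro z
    obtain ⟨⟨t, ⟨_, ⟨m, rfl⟩⟩⟩, hz⟩ := IsLocalization.surj (Submonoid.powers (f c)) z
    obtain ⟨N, b, hb⟩ := hsur t
    refine ⟨(b, ⟨c ^ (N + m), ⟨N + m, rfl⟩⟩), ?_⟩
    simp only at hz ⊢
    rw [halg, halg b, ← hb, map_pow,
      pow_add, map_mul, map_mul, ← mul_assoc, mul_comm z, mul_assoc, hz]
  · intro x y hxy
    refine ⟨1, ?_⟩
    rw [halg, halg y] at hxy
    rw [hinj (hinjT hxy)]

end generic

section final
open MvPolynomial Groth.Agent.Lib.R2H7 Groth.Agent.Lib.R2H7.ArtinSchreierFam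
open Groth.Agent.S15807.Aux (RR AA JJ)

theorem main (p : ℕ) [Fact p.Prime] (k : Type u) [Field k] [CharP k p] (n : ℕ) (hn : 2 ≤ n)
    (a : Fin n → MvPowerSeries (Fin n) k) (μ : MvPowerSeries (Fin n) k)
    (ham : ∀ i, MvPowerSeries.constantCoeff (a i) = 0) (hcop : ∀ i j, i ≠ j → IsRelPrime (a i) (a j))
    (hμ : μ ≠ 0) (i₀ : Fin n) :
    Module.Free (RR k n) (MvPolynomial (JJ i₀) (RR k n) ⧸ Ideal.span (Set.range fun j : JJ i₀ =>
        (X j ^ p - C ((μ * a i₀ * a j.1) ^ (p - 1)) * X j
          - C (a i₀ ^ p * MvPowerSeries.X j.1 - a j.1 ^ p * MvPowerSeries.X i₀) :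
          MvPolynomial (JJ i₀) (RR k n)))) ∧
    Module.finrank (RR k n) (MvPolynomial (JJ i₀) (RR k n) ⧸ Ideal.span (Set.range fun j : JJ i₀ =>
        (X j ^ p - C ((μ * a i₀ * a j.1) ^ (p - 1)) * X j
          - C (a i₀ ^ p * MvPowerSeries.X j.1 - a j.1 ^ p * MvPowerSeries.X i₀) :
          MvPolynomial (JJ i₀) (RR k n)))) = p ^ (n - 1) ∧
    IsDomain (MvPolynomial (JJ i₀) (RR k n) ⧸ Ideal.span (Set.range fun j : JJ i₀ =>
        (X j ^ p - C ((μ * a i₀ * a j.1) ^ (p - 1)) * X j
          - C (a i₀ ^ p * MvPowerSeries.X j.1 - a j.1 ^ p * MvPowerSeries.X i₀) :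
          MvPolynomial (JJ i₀) (RR k n)))) ∧
    IsIntegrallyClosed (Localization.Away (algebraMap (RR k n)
      (MvPolynomial (JJ i₀) (RR k n) ⧸ Ideal.span (Set.range fun j : JJ i₀ =>
        (X j ^ p - C ((μ * a i₀ * a j.1) ^ (p - 1)) * X j
          - C (a i₀ ^ p * MvPowerSeries.X j.1 - a j.1 ^ p * MvPowerSeries.X i₀) :
          MvPolynomial (JJ i₀) (RR k n)))) (μ * a i₀))) := by
  classical
  have hp : p.Prime := Fact.out
  haveI : IsDomain (RR k n) := NoZeroDivisors.to_isDomain _
  have ham' : ∀ i, MvPowerSeries.constantCoeff ((fun i => μ * a i) i) = 0 := by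
    intro i
    simp only [map_mul, ham i, mul_zero]
  obtain ⟨hAfree, hAfin, hArank⟩ := free_finite_finrank p (fun i => μ * a i)
  haveI : Module.Free (RR k n) (AA p k n (fun i => μ * a i)) := hAfree
  haveI : Module.Finite (RR k n) (AA p k n (fun i => μ * a i)) := hAfin
  haveI : CharP (AA p k n (fun i => μ * a i)) p := charP_quot p (fun i => μ * a i)
  haveI : IsDomain (AA p k n (fun i => μ * a i)) := isDomain p (fun i => μ * a i) ham'
  haveI : IsRegularLocalRing (AA p k n (fun i => μ * a i)) :=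
    isRegularLocalRing p (fun i => μ * a i) ham'
  haveI : IsIntegrallyClosed (AA p k n (fun i => μ * a i)) :=
    Groth.Agent.Lib.Helper28.isIntegrallyClosed_of_isRegularLocalRing _
  -- a i₀ ≠ 0
  have ha₀ : a i₀ ≠ 0 := by
    intro h0
    obtain ⟨j, hj⟩ : ∃ j : Fin n, j ≠ i₀ := by
      by_contra hcon
      push Not at hcon
      have h1 : (⟨0, by omega⟩ : Fin n) = i₀ := hcon _
      have h2 : (⟨1, by omega⟩ : Fin n) = i₀ := hcon _
      have := h1.trans h2.symm
      simp [Fin.ext_iff] at this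
    have h1 := hcop i₀ j (Ne.symm hj)
    rw [h0, isRelPrime_zero_left] at h1
    have h2 := (MvPowerSeries.isUnit_iff_constantCoeff).1 h1
    rw [ham j] at h2
    exact not_isUnit_zero h2
  -- B
  let fJ : JJ i₀ → Polynomial (RR k n) := fun j =>
    Polynomial.X ^ p - Polynomial.C ((μ * a i₀ * a j.1) ^ (p - 1)) * Polynomial.X -
      Polynomial.C (a i₀ ^ p * MvPowerSeries.X j.1 - a j.1 ^ p * MvPowerSeries.X i₀)
  let r : JJ i₀ → MvPolynomial (JJ i₀) (RR k n) := fun j =>
    X j ^ p - C ((μ * a i₀ * a j.1) ^ (p - 1)) * X j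
          - C (a i₀ ^ p * MvPowerSeries.X j.1 - a j.1 ^ p * MvPowerSeries.X i₀)
  have hIr : Ideal.span (Set.range r) = Ideal.span (Set.range fun j : JJ i₀ =>
      Polynomial.aeval (MvPolynomial.X j : MvPolynomial (JJ i₀) (RR k n)) (fJ j)) := by
    congr 2
    funext j
    simp [fJ, r]
  obtain ⟨hBfree, hBfin, hBrank⟩ := Groth.Agent.S15807.Aux.free_of_monic_family fJ
    (fun j => (Groth.Agent.S15807.Aux.monic_AS p hp.two_le _ _).1) p hp.pos
    (fun j => (Groth.Agent.S15807.Aux.monic_AS p hp.two_le _ _).2)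
  rw [← hIr] at hBfree hBfin hBrank
  haveI := hBfree
  haveI := hBfin
  have hcard : Fintype.card (JJ i₀) = n - 1 := by
    rw [Fintype.card_subtype_compl, Fintype.card_fin, Fintype.card_subtype_eq]
  rw [hcard] at hBrank
  -- the relations lie in the kernel
  let z : JJ i₀ → AA p k n (fun i => μ * a i) := fun j =>
        algebraMap (RR k n) (AA p k n (fun i => μ * a i)) (a i₀) * uu p (fun i => μ * a i) j.1 -
        algebraMap (RR k n) (AA p k n (fun i => μ * a i)) (a j.1) * uu p (fun i => μ * a i) i₀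
  let ψ : MvPolynomial (JJ i₀) (RR k n) →ₐ[RR k n] AA p k n (fun i => μ * a i) :=
    MvPolynomial.aeval z
  have hker : ∀ j, ψ (r j) = 0 := by
    intro j
    simp only [ψ, r, map_sub, map_mul, map_pow, aeval_X, aeval_C]
    have hj := uu_rel p (fun i => μ * a i) j.1
    have h0 := uu_rel p (fun i => μ * a i) i₀
    beta_reduce at hj h0
    rw [map_pow, map_mul] at hj h0
    have := Groth.Agent.S15807.Aux.rel_z p (algebraMap (RR k n) (AA p k n (fun i => μ * a i)) (a i₀))
      (algebraMap (RR k n) (AA p k n (fun i => μ * a i)) (a j.1))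
      (algebraMap (RR k n) (AA p k n (fun i => μ * a i)) μ)
      (uu p (fun i => μ * a i) j.1) (uu p (fun i => μ * a i) i₀)
      (algebraMap (RR k n) (AA p k n (fun i => μ * a i)) (MvPowerSeries.X j.1))
      (algebraMap (RR k n) (AA p k n (fun i => μ * a i)) (MvPowerSeries.X i₀)) hj h0
    simp only [z]
    exact this
  have hle : Ideal.span (Set.range r) ≤
      RingHom.ker (ψ : MvPolynomial (JJ i₀) (RR k n) →+* AA p k n (fun i => μ * a i)) := by
    rw [Ideal.span_le]
    rintro _ ⟨j, rfl⟩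
    exact hker j
  obtain ⟨ψ', hψ'mk⟩ : ∃ ψ' : (MvPolynomial (JJ i₀) (RR k n) ⧸ Ideal.span (Set.range r)) →ₐ[RR k n]
      AA p k n (fun i => μ * a i), ∀ f, ψ' (Ideal.Quotient.mk _ f) = ψ f :=
    ⟨Ideal.Quotient.liftₐ (Ideal.span (Set.range r)) ψ (fun x hx => hle hx), fun f => rfl⟩
  have hinj : Function.Injective ψ' := by
    refine Groth.Agent.S15807.Aux.injective_of_rank p (n - 1) hp.pos hBrank ?_ ψ'
      (uu p (fun i => μ * a i) i₀) (a i₀) ha₀ ?_
    · rw [hArank]; congr 1; omega
    · intro t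
      obtain ⟨D, b, hb⟩ := Groth.Agent.S15807.Aux.exists_repr p hp.two_le (uu p (fun i => μ * a i)) i₀ a
        ((μ * a i₀) ^ (p - 1))
        (MvPowerSeries.X i₀) (adjoin_uu p (fun i => μ * a i)) (uu_rel p (fun i => μ * a i) i₀) t
      refine ⟨D, fun i => Ideal.Quotient.mk _ (b i), ?_⟩
      simp only [hψ'mk]
      exact hb
  have hBdom : IsDomain (MvPolynomial (JJ i₀) (RR k n) ⧸ Ideal.span (Set.range r)) :=
    Function.Injective.isDomain ψ'.toRingHom hinj
  refine ⟨hBfree, hBrank, hBdom, ?_⟩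
  haveI := hBdom
  -- the automorphism
  obtain ⟨σ, hσ⟩ : ∃ σ : AA p k n (fun i => μ * a i) ≃ₐ[RR k n] AA p k n (fun i => μ * a i),
      ∀ i, σ (uu p (fun i => μ * a i) i) = uu p (fun i => μ * a i) i +
      algebraMap (RR k n) (AA p k n (fun i => μ * a i)) (μ * a i) := by
    refine ⟨shiftEquiv p (fun i => μ * a i) (fun _ => 1), ?_⟩
    intro i
    simp only [shiftEquiv_apply, shift_uu, map_one, one_mul]
  have hzfix : ∀ j, σ (z j) = z j := by
    intro j
    simp only [z, map_sub, map_mul, AlgEquiv.commutes, hσ]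
    ring
  have hψfix : ∀ f, σ (ψ f) = ψ f := by
    have h : (σ : AA p k n (fun i => μ * a i) →ₐ[RR k n] AA p k n (fun i => μ * a i)).comp ψ = ψ := by
      apply MvPolynomial.algHom_ext
      intro j
      simp only [AlgHom.comp_apply, ψ, aeval_X]
      exact hzfix j
    intro f
    exact congrArg (fun g => g f) h
  -- the fixed ring
  obtain ⟨T, hT⟩ : ∃ T : Subring (AA p k n (fun i => μ * a i)), ∀ x, x ∈ T ↔ σ x = x :=
    ⟨{ carrier := {x | σ x = x}
       mul_mem' := by
         intro x y hx hy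
         show σ (x * y) = x * y
         rw [map_mul, show σ x = x from hx, show σ y = y from hy]
       one_mem' := map_one σ
       add_mem' := by
         intro x y hx hy
         show σ (x + y) = x + y
         rw [map_add, show σ x = x from hx, show σ y = y from hy]
       zero_mem' := map_zero σ
       neg_mem' := by
         intro x hx
         show σ (-x) = -x
         rw [map_neg, show σ x = x from hx] }, fun x => Iff.rfl⟩
  haveI : IsIntegrallyClosed T :=
    isIntegrallyClosed_fixed (fun x => σ x) (fun x y => map_mul σ x y) T hT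
  have hψ'T : ∀ b, ψ'.toRingHom b ∈ T := by
    intro b
    obtain ⟨f, rfl⟩ := Ideal.Quotient.mk_surjective b
    rw [hT]
    show σ (ψ' (Ideal.Quotient.mk _ f)) = ψ' (Ideal.Quotient.mk _ f)
    rw [hψ'mk]
    exact hψfix f
  obtain ⟨fT, hfT⟩ : ∃ fT : (MvPolynomial (JJ i₀) (RR k n) ⧸ Ideal.span (Set.range r)) →+* T,
      ∀ b, (fT b : AA p k n (fun i => μ * a i)) = ψ' b :=
    ⟨RingHom.codRestrict ψ'.toRingHom T hψ'T, fun b => rfl⟩
  have hfTinj : Function.Injective fT := by
    intro x y hxy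
    have h1 := congrArg Subtype.val hxy
    rw [hfT, hfT] at h1
    exact hinj h1
  obtain ⟨cB, hcB⟩ : ∃ cB : MvPolynomial (JJ i₀) (RR k n) ⧸ Ideal.span (Set.range r),
      cB = algebraMap (RR k n) (MvPolynomial (JJ i₀) (RR k n) ⧸ Ideal.span (Set.range r)) (μ * a i₀) :=
    ⟨_, rfl⟩
  show IsIntegrallyClosed (Localization.Away (algebraMap (RR k n)
    (MvPolynomial (JJ i₀) (RR k n) ⧸ Ideal.span (Set.range r)) (μ * a i₀)))
  rw [← hcB]
  have hfTc : (fT cB : AA p k n (fun i => μ * a i)) =
      algebraMap (RR k n) (AA p k n (fun i => μ * a i)) (μ * a i₀) := by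
    rw [hfT, hcB, AlgHom.commutes]
  have hcne : fT cB ≠ 0 := by
    intro h
    have h1 := congrArg Subtype.val h
    rw [hfTc] at h1
    have h2 : algebraMap (RR k n) (AA p k n (fun i => μ * a i)) (μ * a i₀) = 0 := h1
    have h3 := (algebraMap_injective p (fun i => μ * a i)) (h2.trans (map_zero _).symm)
    exact mul_ne_zero hμ ha₀ h3
  have hsur : ∀ t : T, ∃ (N : ℕ) (b : MvPolynomial (JJ i₀) (RR k n) ⧸ Ideal.span (Set.range r)),
      fT cB ^ N * t = fT b := by
    intro t
    obtain ⟨N, hN⟩ := Groth.Agent.S19997.Aux.generic_main (k := k) p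
      ((algebraMap (RR k n) (AA p k n (fun i => μ * a i))).comp (algebraMap k (RR k n)))
      (uu p (fun i => μ * a i)) i₀ a μ (MvPowerSeries.X i₀) (adjoin_uu p (fun i => μ * a i))
      (uu_rel p (fun i => μ * a i) i₀) σ hσ t.1 ((hT _).1 t.2)
    have hrange : Algebra.adjoin (RR k n) (Set.range z) = ψ.range :=
      Algebra.adjoin_range_eq_range_aeval (RR k n) z
    have hN' : algebraMap (RR k n) (AA p k n (fun i => μ * a i)) (μ * a i₀) ^ N * t.1 ∈ ψ.range := by
      rw [← hrange]; exact hN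
    obtain ⟨f, hf⟩ := hN'
    refine ⟨N, Ideal.Quotient.mk _ f, ?_⟩
    apply Subtype.ext
    show (fT cB : AA p k n (fun i => μ * a i)) ^ N * t.1 = fT (Ideal.Quotient.mk _ f)
    rw [hfTc, hfT, hψ'mk]
    exact hf.symm
  -- the localizations
  letI : Algebra (MvPolynomial (JJ i₀) (RR k n) ⧸ Ideal.span (Set.range r))
      (Localization.Away (fT cB)) := ((algebraMap T (Localization.Away (fT cB))).comp fT).toAlgebra
  haveI hloc : IsLocalization.Away cB (Localization.Away (fT cB)) :=
    isLocalization_away_of fT cB hfTinj hcne hsur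
  have hleT : Submonoid.powers (fT cB) ≤ nonZeroDivisors T := by
    rintro _ ⟨m, rfl⟩
    exact mem_nonZeroDivisors_of_ne_zero (pow_ne_zero m hcne)
  haveI : IsIntegrallyClosed (Localization.Away (fT cB)) :=
    isIntegrallyClosed_of_isLocalization _ (Submonoid.powers (fT cB)) hleT
  let e : Localization.Away cB ≃ₐ[MvPolynomial (JJ i₀) (RR k n) ⧸ Ideal.span (Set.range r)]
      Localization.Away (fT cB) :=
    IsLocalization.algEquiv (Submonoid.powers cB) _ _
  exact IsIntegrallyClosed.of_equiv e.symm.toRingEquiv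

end final

end Aux

open MvPolynomial in
/-- Let `k` be a field of characteristic `p > 0`, `n ≥ 2`, `R = k[[x_1, …, x_n]]`, `a_1, …, a_n ∈ R`
with zero constant term and pairwise coprime, `μ ∈ R` nonzero and coprime to each `a_i`; fix an
index `i₀` and let `B = R[Z_j : j ≠ i₀] / (Z_j ^ p - (μ a_{i₀} a_j) ^ (p-1) Z_j - (a_{i₀} ^ p x_j -
a_j ^ p x_{i₀}) : j ≠ i₀)`, the complete-intersection ring of the minor elements through `u_{i₀}`.
Then `B` is a free `R`-module of rank `p ^ (n-1)`, `B` is an integral domain, and the localisation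
`B[1/(μ a_{i₀})]` is integrally closed. (The published statement uses the first index for `i₀`; this
row allows any index.) -/
theorem result
    (p : ℕ) [Fact p.Prime] (k : Type u) [Field k] [CharP k p] (n : ℕ) (hn : 2 ≤ n)
    (a : Fin n → MvPowerSeries (Fin n) k) (μ : MvPowerSeries (Fin n) k)
    (ham : ∀ i, MvPowerSeries.constantCoeff (a i) = 0) (hcop : ∀ i j, i ≠ j → IsRelPrime (a i) (a j))
    (hμ : μ ≠ 0) (hμa : ∀ i, IsRelPrime μ (a i)) (i₀ : Fin n) :
    let R := MvPowerSeries (Fin n) k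
    let r : {j : Fin n // j ≠ i₀} → MvPolynomial {j : Fin n // j ≠ i₀} R := fun j =>
      X j ^ p - C ((μ * a i₀ * a j.1) ^ (p - 1)) * X j
        - C (a i₀ ^ p * MvPowerSeries.X j.1 - a j.1 ^ p * MvPowerSeries.X i₀)
    let B := MvPolynomial {j : Fin n // j ≠ i₀} R ⧸ Ideal.span (Set.range r)
    Module.Free R B ∧ Module.finrank R B = p ^ (n - 1) ∧ IsDomain B ∧
      IsIntegrallyClosed (Localization.Away (algebraMap R B (μ * a i₀))) := by
  intro R r B
  exact Aux.main p k n hn a μ ham hcop hμ i₀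

end Groth.Agent.S15808
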