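import Groth.Statements.S15814
import Mathlib
import Groth.Agent.Lib.R2H7WildCoprod

set_option autoImplicit false
universe u v w
open WildQuot

namespace Groth.Agent.S15814

/-- Let `R` be a regular local ring and `A` a regular local ring, finite over `R` (with `R → A`
injective) and with the same residue field; let a finite commutative group `H` of order `p ^ n` (`p`
prime) act faithfully on `A` by `R`-algebra automorphisms with ring of invariants exactly `R`, and
let `G_1, …, G_n ≤ H` be subgroups of order `p` generating `H`, each the inertia subgroup of some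
height-one prime of `A`. Put `G_i^⊥ =` the subgroup generated by the `G_j` with `j ≠ i` and `B_i =
A^{G_i^⊥}`. Suppose `A` is the coproduct of the `R`-algebras `B_1, …, B_n`: every family of
`R`-algebra maps `B_i → C` into a commutative `R`-algebra `C` is the restriction of a unique
`R`-algebra map `A → C` (that is, the product map `B_1 ⊗_R ⋯ ⊗_R B_n → A` is an isomorphism). Then
every `B_i` is a free `R`-module and a regular local ring. (The published statement is for `A`
complete regular with an action ramified precisely at the origin, `R` a norm subring and `H` the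
Galois group of `Frac(A)/Frac(R)`, when that extension is Galois, and adds that the branch-locus
equations `a_1, …, a_n` of the `B_i` over `R` form a system of parameters of `R`; that last clause
is not included, and the test algebras `C` are taken in one universe large enough to contain the
tensor product.) -/
theorem result
    (p : ℕ) [Fact p.Prime] (R : Type u) [CommRing R] [IsRegularLocalRing R]
    (A : Type v) [CommRing A] [IsRegularLocalRing A]
    [Algebra R A] [Module.Finite R A] (hinj : Function.Injective (algebraMap R A))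
    (hres : Function.Surjective (IsLocalRing.residue A ∘ algebraMap R A))
    (H : Type w) [Group H] [Finite H] [MulSemiringAction H A] [SMulCommClass H R A] [FaithfulSMul H A]
    (hfix : ∀ a : A, (∀ h : H, h • a = a) → a ∈ Set.range (algebraMap R A))
    (hcomm : ∀ g h : H, g * h = h * g)
    (n : ℕ) (hcard : Nat.card H = p ^ n) (Gi : Fin n → Subgroup H)
    (hGi : ∀ i, Nat.card (Gi i) = p) (hsup : (⨆ i, Gi i) = ⊤)
    (hinert : ∀ i, ∃ P : Ideal A, P.IsPrime ∧ P.height = 1 ∧ P.inertia H = Gi i)
    (hcoprod : ∀ (C : Type (max u v)) [CommRing C] [Algebra R C]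
      (φ : ∀ i : Fin n,
        FixedPoints.subalgebra R A ↥(⨆ j ∈ (Finset.univ.erase i : Finset (Fin n)), Gi j : Subgroup H) →ₐ[R] C),
      ∃! ψ : A →ₐ[R] C, ∀ i
        (x : FixedPoints.subalgebra R A ↥(⨆ j ∈ (Finset.univ.erase i : Finset (Fin n)), Gi j : Subgroup H)),
        ψ x = φ i x) :
    ∀ i, Module.Free R
        (FixedPoints.subalgebra R A ↥(⨆ j ∈ (Finset.univ.erase i : Finset (Fin n)), Gi j : Subgroup H)) ∧
      IsRegularLocalRing
        (FixedPoints.subalgebra R A ↥(⨆ j ∈ (Finset.univ.erase i : Finset (Fin n)), Gi j : Subgroup H)) := by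
  intro i
  classical
  let Bf : Fin n → Subalgebra R A := fun j => FixedPoints.subalgebra R A
    ↥(⨆ l ∈ (Finset.univ.erase j : Finset (Fin n)), Gi l : Subgroup H)
  let E : Subalgebra R A := Algebra.adjoin R (⋃ j ∈ {j : Fin n | j ≠ i}, (Bf j : Set A))
  have hle : ∀ j, j ≠ i → Bf j ≤ E := fun j hj x hx =>
    Algebra.subset_adjoin (Set.mem_biUnion hj hx)
  apply Groth.Agent.Lib.R2H7.WildCoprod.free_and_regular_of_coproduct hinj (Bf i) E
  · intro C _ _ f g
    let φ : ∀ j : Fin n, Bf j →ₐ[R] C := fun j =>
      if h : j = i then f.comp (Subalgebra.inclusion (by subst h; exact le_rfl : Bf j ≤ Bf i))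
      else g.comp (Subalgebra.inclusion (hle j h))
    obtain ⟨ψ, hψ, -⟩ := hcoprod C φ
    refine ⟨ψ, fun x => ?_, fun x => ?_⟩
    · have h1 := hψ i x
      have h2 : φ i = f.comp (Subalgebra.inclusion (le_refl (Bf i))) := dif_pos rfl
      rw [h1, h2]
      rfl
    · have hcomp : (ψ.comp E.val) = g := by
        apply AlgHom.adjoin_ext
        intro y hy
        obtain ⟨j, hj, hyj⟩ := Set.mem_iUnion₂.mp hy
        have h1 := hψ j ⟨y, hyj⟩
        have h2 : φ j = g.comp (Subalgebra.inclusion (hle j hj)) := dif_neg hj
        rw [h2] at h1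
        exact h1
      exact DFunLike.congr_fun hcomp x
  · intro C _ _ ψ₁ ψ₂ hB hE
    obtain ⟨ψ, -, huni⟩ := hcoprod C (fun j => ψ₂.comp (Bf j).val)
    have key : ∀ ψ' : A →ₐ[R] C, (∀ x : Bf i, ψ' x = ψ₂ x) → (∀ x : E, ψ' x = ψ₂ x) →
        ψ' = ψ := by
      intro ψ' h1 h2
      apply huni
      intro j x
      by_cases hj : j = i
      · subst hj
        exact h1 x
      · exact h2 ⟨x, hle j hj x.2⟩
    rw [key ψ₁ hB hE, key ψ₂ (fun _ => rfl) (fun _ => rfl)]

end Groth.Agent.S15814
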