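import Groth.Statements.S15837
import Groth.Agent.Lib.R2H3TranspFin
import Groth.Agent.Lib.Helper8FixedPt

set_option autoImplicit false
universe u
open CategoryTheory MonoidalCategory CartesianMonoidalCategory MonObj GrpObj AlgebraicGeometry
open SprIso

namespace Groth.Agent.S15837

/-- Let S be a scheme, G an S-group scheme of finite presentation acting on an S-scheme X which is
affine and of finite presentation over S, and Y a closed subscheme of X which is finite, flat and of
finite presentation over S. Then the functorial stabilizer of Y in G — whose points with values in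
an S-scheme T are the points g of G such that g acts as the identity on every point of Y with values
in a scheme over T — is represented by a closed subscheme of G whose inclusion is of finite
presentation. -/
theorem result (S : Scheme.{u}) (G X Y : Over S) [GrpObj G]
    [LocallyOfFinitePresentation G.hom] [QuasiCompact G.hom] [QuasiSeparated G.hom]
    [IsAffineHom X.hom] [LocallyOfFinitePresentation X.hom] (a : AlgGrp.Action G X)
    (i : Y ⟶ X) [IsClosedImmersion i.left] [IsFinite Y.hom] [Flat Y.hom] [LocallyOfFinitePresentation Y.hom] :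
    ∃ (Z : Over S) (j : Z ⟶ G), IsClosedImmersion j.left ∧ LocallyOfFinitePresentation j.left ∧
      ∀ (T : Over S) (g : T ⟶ G), (∃ z : T ⟶ Z, z ≫ j = g) ↔
        ∀ (T' : Over S) (t : T' ⟶ T) (y : T' ⟶ Y), lift (t ≫ g) (y ≫ i) ≫ a.act = y ≫ i := by
  let c : Y ⊗ G ⟶ X ⊗ X := lift (lift (snd Y G) (fst Y G ≫ i) ≫ a.act) (fst Y G ≫ i)
  let k : X ⟶ X ⊗ X := lift (𝟙 X) (𝟙 X)
  have hk : k.left = Limits.pullback.diagonal X.hom := by
    apply Limits.pullback.hom_ext
    · rw [Limits.pullback.diagonal_fst]
      exact congrArg (fun m => Over.Hom.left m) (lift_fst (𝟙 X) (𝟙 X))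
    · rw [Limits.pullback.diagonal_snd]
      exact congrArg (fun m => Over.Hom.left m) (lift_snd (𝟙 X) (𝟙 X))
  haveI : IsClosedImmersion k.left := by
    rw [hk]
    infer_instance
  haveI : LocallyOfFinitePresentation k.left := by
    rw [hk]
    exact Groth.Agent.Lib.Helper8FixedPt.lfp_diagonal X.hom
  obtain ⟨C, j, h1, h2, h3⟩ := Groth.Agent.Lib.R2H3.TranspFin.exists_closed_finite_fp c k
  refine ⟨C, j, h1, h2, fun T g => ?_⟩
  rw [h3 T g]
  have hc : ∀ (T' : Over S) (t : T' ⟶ T) (y : T' ⟶ Y),
      lift y (t ≫ g) ≫ c = lift (lift (t ≫ g) (y ≫ i) ≫ a.act) (y ≫ i) := by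
    intro T' t y
    apply CartesianMonoidalCategory.hom_ext
    · rw [Category.assoc, lift_fst, lift_fst, ← Category.assoc, comp_lift, lift_snd,
        ← Category.assoc, lift_fst]
    · rw [Category.assoc, lift_snd, lift_snd, ← Category.assoc, lift_fst]
  constructor
  · intro h T' t y
    obtain ⟨κ, hκ⟩ := h T' t y
    rw [hc] at hκ
    have e1 := congrArg (fun m => m ≫ fst X X) hκ
    have e2 := congrArg (fun m => m ≫ snd X X) hκ
    simp only [lift_fst, lift_snd, Category.assoc, k, Category.comp_id] at e1 e2
    rw [e1, e2]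
  · intro h T' t y
    refine ⟨y ≫ i, ?_⟩
    rw [hc, h T' t y]
    apply CartesianMonoidalCategory.hom_ext
    · rw [lift_fst, Category.assoc, lift_fst, Category.comp_id]
    · rw [lift_snd, Category.assoc, lift_snd, Category.comp_id]

end Groth.Agent.S15837
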