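import Groth.Statements.S15910
import Groth.Agent.Lib.Helper8DPTriple

set_option autoImplicit false
open Surf

namespace Groth.Agent.S15910

open Groth.Agent.Lib.Helper8DP

open W4c3severiratdp in
/-- Work in the lattice of vectors (a; b_1, …, b_δ), standing for divisor classes a ℓ − Σ b_i e_i on the
blow-up of the projective plane at δ points written in a standard basis, with intersection form a a'
− Σ b_i b_i' and canonical class K = (−3; −1, …, −1); a conic class is a class Q with Q·Q = 0 and
K·Q = −2, an exceptional class (the class of a (−1)-curve) is a class E with E·E = −1 and K·E = −1,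
and the Weyl group W_δ is the group of additive automorphisms of the lattice preserving the form and
fixing K. Let δ = 8 and let L be an exceptional class. Let B be the set of unordered triples {λ_1,
λ_2, λ_3} of exceptional classes (repetitions allowed) with λ_1 + λ_2 + λ_3 = −2K + L. Then the
stabilizer of L in W_8 has exactly four orbits on B. Triples are written as maps Fin 3 → lattice and
compared up to reordering: there are four members of B, no two of which are identified by an element
of the stabilizer followed by a reordering, and every member of B is so identified with one of the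
four. -/
theorem result (L : DP 8) (hL : IsExc L) :
    ∃ r : Fin 4 → (Fin 3 → DP 8),
      (∀ j, (∀ i, IsExc (r j i)) ∧ r j 0 + r j 1 + r j 2 = L - 2 • canon 8) ∧
      (∀ j j', (∃ g : DP 8 ≃ₗ[ℤ] DP 8, IsWeyl g ∧ g L = L ∧ ∃ σ : Equiv.Perm (Fin 3), ∀ i, g (r j (σ i)) = r j' i) → j = j') ∧
      ∀ t : Fin 3 → DP 8, (∀ i, IsExc (t i)) → t 0 + t 1 + t 2 = L - 2 • canon 8 →
        ∃ j, ∃ g : DP 8 ≃ₗ[ℤ] DP 8, IsWeyl g ∧ g L = L ∧ ∃ σ : Equiv.Perm (Fin 3), ∀ i, g (t (σ i)) = r j i := by
  obtain ⟨g₀, hg₀, hg₀L, -⟩ := conj_e8 L hL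
  have hs := isWeyl_symm hg₀
  have hsE : g₀.symm (toDP e8L) = L := by rw [LinearEquiv.symm_apply_eq, hg₀L]
  have hTL : g₀.symm (toDP TL) = L - 2 • canon 8 := by
    rw [toDP_TL, map_sub, map_nsmul, hsE, hs.2]
  have hTL' : g₀ (L - 2 • canon 8) = toDP TL := by
    rw [← hTL, LinearEquiv.apply_symm_apply]
  have hform : ∀ j i, form (g₀.symm (toDP (R0 j i))) L = lform (R0 j i) e8L := by
    intro j i
    rw [← hsE, hs.1, form_toDP]
  refine ⟨fun j i => g₀.symm (toDP (R0 j i)), ?_, ?_, ?_⟩
  · intro j
    refine ⟨fun i => isExc_of_isWeyl hs (isExc_toDP (R0_isExc j i)), ?_⟩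
    rw [← map_add, ← map_add, R0_sum j, hTL]
  · rintro j j' ⟨g, hg, hgL, σ, h⟩
    apply Groth.Agent.Lib.Helper8DP.Inv_injective
    have key : ∀ i, lform (R0 j' i) e8L = lform (R0 j (σ i)) e8L := by
      intro i
      have hi : g (g₀.symm (toDP (R0 j (σ i)))) = g₀.symm (toDP (R0 j' i)) := h i
      rw [← hform j' i, ← hform j (σ i), ← hi]
      conv_lhs => rw [← hgL]
      rw [hg.1]
    unfold Groth.Agent.Lib.Helper8DP.Inv
    rw [← Equiv.sum_comp σ (fun i => (lform (R0 j i) e8L) ^ 2)]
    exact Finset.sum_congr rfl fun i _ => by rw [key i]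
  · intro t ht hsum
    obtain ⟨j, g', hg', he', σ, h⟩ := triple_std (fun i => g₀ (t i))
      (fun i => isExc_of_isWeyl hg₀ (ht i)) (by
        show g₀ (t 0) + g₀ (t 1) + g₀ (t 2) = toDP TL
        rw [← map_add, ← map_add, hsum, hTL'])
    refine ⟨j, (g₀.trans g').trans g₀.symm,
      isWeyl_trans (isWeyl_trans hg₀ hg') hs, ?_, σ, fun i => ?_⟩
    · simp only [LinearEquiv.trans_apply]
      rw [hg₀L, he', hsE]
    · simp only [LinearEquiv.trans_apply]
      rw [h i]

end Groth.Agent.S15910
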