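import Groth.Statements.S15916
import Mathlib
import Groth.Agent.Lib.R2H4HodgeEq
import Groth.Agent.Lib.H9NegDefGeo
import Groth.Agent.Lib.R2H1NefPull
import Groth.Agent.Lib.R2H2QProjK0
import Groth.Agent.Lib.Helper23PB

set_option autoImplicit false
universe u
open CategoryTheory CategoryTheory.Limits AlgebraicGeometry TopologicalSpace
open Surf

namespace Groth.Agent.S15916

/-- Let k be an algebraically closed field of characteristic zero and X a smooth projective surface over
k (integral, proper and smooth over k of dimension 2, with a closed immersion over k into some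
projective space); intersection numbers of invertible modules are (L·M) = χ(O_X) − χ(L) − χ(M) + χ(L
⊗ M), and for an integral closed one-dimensional subscheme C ⊆ X write (L·C) = χ(O_C ⊗ L) − χ(O_C);
an invertible module is nef when (L·C) ≥ 0 for all such C. Let D be an invertible module generated
by its global sections, nef, with (D·D) > 0, and let N be a nef invertible module with (D·N) = 0.
Then N is numerically trivial: (N·C) = 0 for every integral curve C ⊆ X. (The published statement
concludes that N is zero in Pic X; on the product of an elliptic curve with the projective line, the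
pull-back N of a non-trivial degree-zero class of the elliptic curve is nef, orthogonal to an ample
base-point-free D, and non-zero, while the printed proof establishes numerical triviality, which is
what this row states.) -/
theorem result (k : Type u) [Field k] [IsAlgClosed k]
    [CharZero k] (X : Scheme.{u}) [X.Over (Spec (CommRingCat.of k))] [IsIntegral X] [IsProper (X ↘ (Spec (CommRingCat.of k)))] [Smooth (X ↘ (Spec (CommRingCat.of k)))]
    (hdim : topologicalKrullDim X = 2)
    (hproj : ∃ (n : ℕ) (ι : X ⟶ CohB1.ProjSpace n k), IsClosedImmersion ι ∧ ι ≫ CohB1.ProjSpace.toSpec n k = (X ↘ (Spec (CommRingCat.of k))))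
    (D N : X.Modules) (hDi : PicF.IsInvertible D) (hNi : PicF.IsInvertible N)
    (hDgg : Curv2.IsGloballyGenerated D)
    (hDnef : ∀ C : X.IdealSheafData, IsIntegral C.subscheme → topologicalKrullDim (C.support : Set X) = 1 → 0 ≤ (Curv2.euler k X (CohB1.tensorMod (ClSub.quotMod C) D) - Curv2.euler k X (ClSub.quotMod C)))
    (hD2 : 0 < FGA.intNum k X 2 ![D, D] (Coh.structureModule X))
    (hNnef : ∀ C : X.IdealSheafData, IsIntegral C.subscheme → topologicalKrullDim (C.support : Set X) = 1 → 0 ≤ (Curv2.euler k X (CohB1.tensorMod (ClSub.quotMod C) N) - Curv2.euler k X (ClSub.quotMod C)))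
    (hDN : FGA.intNum k X 2 ![D, N] (Coh.structureModule X) = 0) :
    ∀ C : X.IdealSheafData, IsIntegral C.subscheme → topologicalKrullDim (C.support : Set X) = 1 → (Curv2.euler k X (CohB1.tensorMod (ClSub.quotMod C) N) - Curv2.euler k X (ClSub.quotMod C)) = 0 := by
  classical
  intro C hCi hCd
  haveI := hCi
  obtain ⟨n, ι, hι, hιk⟩ := hproj
  haveI := hι
  haveI : CompactSpace X :=
    QuasiCompact.compactSpace_of_compactSpace (X ↘ Spec (CommRingCat.of k))
  have hH : CohB1.IsAmple ((Scheme.Modules.pullback ι).obj (Twist.twistProjSpace n k 1)) :=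
    Groth.Agent.Lib.Helper23.PB.isAmple_pullback_of_isEmbedding ι
      ι.isClosedEmbedding.isEmbedding _
      (Groth.Agent.Lib.R2H2.QProjK0.isAmple_twistProjSpace_one n k)
  have hnefN : Groth.Agent.Lib.R2H4KleimanA.Nef k X N := by
    intro C' hC'i hC'd
    have h := hNnef C' hC'i hC'd
    rw [Groth.Agent.Lib.R2H1.NefPull.euler_quotMod_tensor_sub k X C' hC'd.le N hNi] at h
    exact h
  have h1 : 0 ≤ Groth.Agent.Lib.R2H4HodgeIneq.P k N N :=
    Groth.Agent.Lib.R2H4HodgeEq.self_nonneg_of_nef k hdim _ hH N hNi hnefN
  have h2 : Groth.Agent.Lib.R2H4HodgeIneq.P k N N ≤ 0 :=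
    Groth.Agent.Lib.R2H4HodgeIdx.hodge_index k hdim _ hH D N hDi hNi hD2 hDN
  have h3 : Groth.Agent.Lib.R2H4HodgeIneq.P k N N = 0 := le_antisymm h2 h1
  have hIC := Groth.Agent.Lib.H9NegDefGeo.isEffCartier_curve k hdim C hCd
  have hICinv : PicF.IsInvertible (ClSub.idealMod C) :=
    Groth.Agent.Helper18Cart.isInvertible_of_isEffCartier _ hIC
  have h4 := Groth.Agent.Lib.R2H4HodgeEq.orth_of_self_zero k hdim _ hH D N hDi hNi hD2 hDN h3
    (ClSub.idealMod C) hICinv
  rw [Groth.Agent.Lib.R2H4HodgeIneq.P_symm k hdim] at h4
  have h5 := Groth.Agent.Lib.H9NegDefGeo.intNum_cartier_eq_euler k hdim C hIC N hNi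
  rw [Groth.Agent.Lib.R2H4HodgeIneq.P_eq, h4] at h5
  linarith

end Groth.Agent.S15916
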