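import Groth.Statements.S15938
import Groth.Agent.Lib.Helper8CanonFib5
import Groth.Agent.Lib.Helper8CounitDesc3
import Groth.Agent.Lib.Helper23PB

set_option autoImplicit false
universe u
open CategoryTheory CategoryTheory.Limits AlgebraicGeometry
open Canon

namespace Groth.Agent.S15938

/-- Let S be a locally Noetherian scheme, f : X ⟶ S locally projective and smooth of relative dimension
n with non-empty geometrically connected fibres, ω an n-th exterior power of the relative
differentials (the relative canonical sheaf K_{X/S}), and m ≥ 1 such that the evaluation map f^* f_*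
K^{⊗m} ⟶ K^{⊗m} is an isomorphism. Then the formation of f_* K^{⊗m} commutes with base change: for
every morphism g : S′ ⟶ S with S′ locally Noetherian, writing f′ : X ×_S S′ ⟶ S′ and g′ : X ×_S S′ ⟶
X for the projections, the base-change morphism g^* f_* K^{⊗m} ⟶ f′_* g′^* K^{⊗m} (adjoint to g′^*
of the evaluation map, through the canonical identifications of iterated pullbacks) is an
isomorphism. (The published statement has f projective and smooth, of possibly varying relative
dimension; this row takes f locally projective of constant relative dimension n and base changes by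
locally Noetherian schemes.) -/
theorem result
    {X S : Scheme.{u}} [IsLocallyNoetherian S] (f : X ⟶ S)
    (hproj : RedSub.IsLocallyProjective (Over.mk f))
    (n : ℕ) [SmoothOfRelativeDimension n f] [GeometricallyConnected f]
    (ω : X.Modules) (hω : Canon.IsTopDiff f n ω) (m : ℕ) (hm : 1 ≤ m)
    (hev : IsIso ((Scheme.Modules.pullbackPushforwardAdjunction f).counit.app (CohB1.tensorPow ω m)))
    {S' : Scheme.{u}} [IsLocallyNoetherian S'] (g : S' ⟶ S) :
    IsIso (((Scheme.Modules.pullbackPushforwardAdjunction (pullback.snd f g)).homEquiv _ _)
      ((Scheme.Modules.pullbackComp (pullback.snd f g) g).hom.app _ ≫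
        (Scheme.Modules.pullbackCongr (pullback.condition (f := f) (g := g))).inv.app _ ≫
        (Scheme.Modules.pullbackComp (pullback.fst f g) f).inv.app _ ≫
        (Scheme.Modules.pullback (pullback.fst f g)).map
          ((Scheme.Modules.pullbackPushforwardAdjunction f).counit.app (CohB1.tensorPow ω m)))) := by
  obtain ⟨h1, h2, h3⟩ := Groth.Agent.Lib.Helper8CanonFib5.setup f hproj n
  haveI := h1
  haveI := h2
  haveI := h3
  haveI := hev
  have hN := Groth.Agent.Lib.Helper8CanonFib5.isInvertible_pluricanon f n ω hω m
  have hfV : ∀ V : S.Opens, IsIso (f.app V) := fun V =>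
    Groth.Agent.Lib.H9CbH.main f
      (fun s => Groth.Agent.Lib.Helper8CanonFib1.isIso_fiber_appTop f s) V
  have hsurj : Function.Surjective f := f.surjective
  have hcl : IsClosedMap f := f.isClosedMap
  have hM := Groth.Agent.Lib.Helper8CounitDesc3.push_invertible_of_counit_iso f _ hN hcl hsurj hfV
  have hgM := Groth.Agent.Lib.Helper23.PB.isInvertible_pullback g _ hM
  have hfV' : ∀ V : S'.Opens, IsIso ((pullback.snd f g).app V) := fun V =>
    Groth.Agent.Lib.H9CbH.main (pullback.snd f g)
      (fun s => Groth.Agent.Lib.Helper8CanonFib1.isIso_fiber_appTop (pullback.snd f g) s) V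
  haveI := Groth.Agent.Lib.R2H4FibTriv.isIso_unit_of_isInvertible (pullback.snd f g) hfV' _ hgM
  rw [Adjunction.homEquiv_unit]
  infer_instance

end Groth.Agent.S15938
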