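import Groth.Statements.S15939
import Mathlib

set_option autoImplicit false
universe u
open CAlg

namespace Groth.Agent.S15939

open Polynomial

section
variable {κ A : Type u} [Field κ] [CommRing A] [Algebra κ A]

theorem adjoin_eq_top (h : IsSimpleOrder (Subalgebra κ A)) {x : A}
    (hx : x ∉ (⊥ : Subalgebra κ A)) : Algebra.adjoin κ {x} = ⊤ := by
  rcases h.eq_bot_or_eq_top (Algebra.adjoin κ {x}) with h1 | h1
  · exact absurd (h1 ▸ Algebra.self_mem_adjoin_singleton κ x) hx
  · exact h1

theorem exists_not_mem_bot (h : IsSimpleOrder (Subalgebra κ A)) :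
    ∃ x : A, x ∉ (⊥ : Subalgebra κ A) := by
  by_contra hcon
  push_neg at hcon
  have : (⊥ : Subalgebra κ A) = ⊤ := by
    rw [eq_top_iff]
    intro x _
    exact hcon x
  exact bot_ne_top this

theorem isIntegral_of_simple (h : IsSimpleOrder (Subalgebra κ A)) (x : A) :
    IsIntegral κ x := by
  by_cases hx2 : x ^ 2 ∈ (⊥ : Subalgebra κ A)
  · obtain ⟨c, hc⟩ := Algebra.mem_bot.mp hx2
    refine ⟨X ^ 2 - C c, monic_X_pow_sub_C c (by norm_num), ?_⟩
    simp [hc]
  · have htop := adjoin_eq_top h hx2
    have hx : x ∈ Algebra.adjoin κ {x ^ 2} := by rw [htop]; exact Algebra.mem_top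
    rw [Algebra.adjoin_singleton_eq_range_aeval] at hx
    obtain ⟨q, hq⟩ := hx
    have halg : IsAlgebraic κ x := by
      refine ⟨X - expand κ 2 q, ?_, ?_⟩
      · intro h0
        have := congrArg (fun P => P.coeff 1) h0
        simp [coeff_expand] at this
      · simp only [map_sub, aeval_X, expand_aeval]
        change x - aeval (x ^ 2) q = 0
        rw [show aeval (x ^ 2) q = x from hq, sub_self]
    exact halg.isIntegral

theorem finiteDimensional_of_simple (h : IsSimpleOrder (Subalgebra κ A)) :
    FiniteDimensional κ A := by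
  obtain ⟨x, hx⟩ := exists_not_mem_bot h
  have htop := adjoin_eq_top h hx
  have hfin : Module.Finite κ (Algebra.adjoin κ {x}) :=
    Algebra.finite_adjoin_simple_of_isIntegral (isIntegral_of_simple h x)
  rw [htop] at hfin
  exact Module.Finite.equiv (Subalgebra.topEquiv (R := κ) (A := A)).toLinearEquiv

end

section
variable {κ A : Type u} [Field κ] [CommRing A] [Algebra κ A]

theorem nontrivial_of_simple (h : IsSimpleOrder (Subalgebra κ A)) : Nontrivial A := by
  obtain ⟨x, hx⟩ := exists_not_mem_bot h
  refine ⟨⟨x, 0, ?_⟩⟩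
  rintro rfl
  exact hx (Subalgebra.zero_mem _)

/-- An element of `κ` (inside `A`) which lies in a proper ideal is zero. -/
theorem algebraMap_eq_zero_of_mem [Nontrivial A] {I : Ideal A} (hI : I ≠ ⊤) {c : κ}
    (hc : algebraMap κ A c ∈ I) : c = 0 := by
  by_contra hne
  apply hI
  rw [Ideal.eq_top_iff_one]
  have : (1 : A) = algebraMap κ A c⁻¹ * algebraMap κ A c := by
    rw [← map_mul, inv_mul_cancel₀ hne, map_one]
  rw [this]
  exact I.mul_mem_left _ hc

/-- The dual number case. -/
theorem dualNumber_case (h : IsSimpleOrder (Subalgebra κ A)) (ε : A) (hε0 : ε ≠ 0)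
    (hε : ε * ε = 0) : Nonempty (A ≃ₐ[κ] DualNumber κ) := by
  have := nontrivial_of_simple h
  have hεbot : ε ∉ (⊥ : Subalgebra κ A) := by
    intro hmem
    obtain ⟨c, hc⟩ := Algebra.mem_bot.mp hmem
    have hc2 : algebraMap κ A (c * c) = 0 := by rw [map_mul, hc, hε]
    have : c * c = 0 := (algebraMap κ A).injective (by rw [hc2, map_zero])
    have hc0 : c = 0 := by simpa using this
    apply hε0
    rw [← hc, hc0, map_zero]
  let φ : DualNumber κ →ₐ[κ] A := DualNumber.lift ⟨(Algebra.ofId κ A, ε), hε, fun _ => Commute.all _ _⟩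
  have hφε : φ DualNumber.eps = ε := by
    simp [φ]
  have hsurj : Function.Surjective φ := by
    rw [← AlgHom.range_eq_top]
    rcases h.eq_bot_or_eq_top φ.range with h1 | h1
    · exfalso
      apply hεbot
      rw [← h1]
      exact ⟨DualNumber.eps, hφε⟩
    · exact h1
  have hinj : Function.Injective φ := by
    rw [injective_iff_map_eq_zero]
    intro d hd
    have hd' : algebraMap κ A d.fst + d.snd • ε = 0 := by
      have : φ d = algebraMap κ A d.fst + d.snd • ε := by
        conv_lhs => rw [← TrivSqZeroExt.inl_fst_add_inr_snd_eq d]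
        simp [φ, DualNumber.lift_apply_apply, Algebra.ofId_apply, Algebra.smul_def,
          TrivSqZeroExt.algebraMap_eq_inl]
      rw [← this, hd]
    by_cases hs : d.snd = 0
    · rw [hs, zero_smul, add_zero] at hd'
      have : d.fst = 0 := (algebraMap κ A).injective (by rw [hd', map_zero])
      exact TrivSqZeroExt.ext this hs
    · exfalso
      apply hεbot
      rw [Algebra.mem_bot]
      refine ⟨-(d.snd⁻¹ * d.fst), ?_⟩
      have h3 : d.snd • ε = -algebraMap κ A d.fst := eq_neg_of_add_eq_zero_right hd'
      have h4 : ε = d.snd⁻¹ • (d.snd • ε) := by rw [smul_smul, inv_mul_cancel₀ hs, one_smul]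
      rw [h4, h3, map_neg, map_mul, Algebra.smul_def, mul_neg]
  exact ⟨(AlgEquiv.ofBijective φ ⟨hinj, hsurj⟩).symm⟩

end

section
variable {κ A : Type u} [Field κ] [CommRing A] [Algebra κ A]

/-- The `κ × κ` case. -/
theorem prod_case (h : IsSimpleOrder (Subalgebra κ A)) (e : A) (he : IsIdempotentElem e)
    (he0 : e ≠ 0) (he1 : e ≠ 1) : Nonempty (A ≃ₐ[κ] (κ × κ)) := by
  have := nontrivial_of_simple h
  have hee : e * e = e := he
  have hebot : e ∉ (⊥ : Subalgebra κ A) := by
    intro hmem
    obtain ⟨c, hc⟩ := Algebra.mem_bot.mp hmem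
    have hc2 : algebraMap κ A (c * c) = algebraMap κ A c := by rw [map_mul, hc, hee]
    have hcc : c * c = c := (algebraMap κ A).injective hc2
    have : c = 0 ∨ c = 1 := by
      have : c * (c - 1) = 0 := by rw [mul_sub, hcc, mul_one, sub_self]
      rcases mul_eq_zero.mp this with h0 | h0
      · exact Or.inl h0
      · exact Or.inr (sub_eq_zero.mp h0)
    rcases this with h0 | h0
    · apply he0; rw [← hc, h0, map_zero]
    · apply he1; rw [← hc, h0, map_one]
  have h1e : (1 - e) * (1 - e) = 1 - e := by ring_nf; rw [pow_two, hee]; ring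
  have he1e : e * (1 - e) = 0 := by rw [mul_sub, mul_one, hee, sub_self]
  let φ : (κ × κ) →ₐ[κ] A :=
    { toFun := fun p => algebraMap κ A p.1 * e + algebraMap κ A p.2 * (1 - e)
      map_one' := by simp
      map_mul' := by
        intro p q
        simp only [Prod.fst_mul, Prod.snd_mul, map_mul]
        have : ∀ a b c d : A, (a * e + b * (1 - e)) * (c * e + d * (1 - e)) =
            a * c * (e * e) + (a * d + b * c) * (e * (1 - e)) + b * d * ((1 - e) * (1 - e)) := by
          intros; ring
        rw [this, hee, he1e, h1e]; ring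
      map_zero' := by simp
      map_add' := by
        intro p q
        simp only [Prod.fst_add, Prod.snd_add, map_add]; ring
      commutes' := by
        intro c
        simp only [Prod.algebraMap_apply, Algebra.algebraMap_self, RingHom.id_apply]
        ring }
  have hφ : ∀ p : κ × κ, φ p = algebraMap κ A p.1 * e + algebraMap κ A p.2 * (1 - e) := fun _ => rfl
  have hsurj : Function.Surjective φ := by
    rw [← AlgHom.range_eq_top]
    rcases h.eq_bot_or_eq_top φ.range with h1 | h1
    · exfalso
      apply hebot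
      rw [← h1]
      exact ⟨(1, 0), by simp [hφ]⟩
    · exact h1
  have hinj : Function.Injective φ := by
    rw [injective_iff_map_eq_zero]
    intro d hd
    rw [hφ] at hd
    have h1 : algebraMap κ A d.1 * e = 0 := by
      have := congrArg (fun y => y * e) hd
      simp only [add_mul, zero_mul] at this
      rw [mul_assoc, hee, mul_assoc, mul_comm (1 - e) e, he1e, mul_zero, add_zero] at this
      exact this
    have h2 : algebraMap κ A d.2 * (1 - e) = 0 := by
      have := congrArg (fun y => y * (1 - e)) hd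
      simp only [add_mul, zero_mul] at this
      rw [mul_assoc, he1e, mul_zero, zero_add, mul_assoc, h1e] at this
      exact this
    have hd1 : d.1 = 0 := by
      by_contra hne
      apply he0
      have : e = algebraMap κ A d.1⁻¹ * (algebraMap κ A d.1 * e) := by
        rw [← mul_assoc, ← map_mul, inv_mul_cancel₀ hne, map_one, one_mul]
      rw [this, h1, mul_zero]
    have hd2 : d.2 = 0 := by
      by_contra hne
      apply he1
      have : 1 - e = algebraMap κ A d.2⁻¹ * (algebraMap κ A d.2 * (1 - e)) := by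
        rw [← mul_assoc, ← map_mul, inv_mul_cancel₀ hne, map_one, one_mul]
      rw [h2, mul_zero] at this
      exact (sub_eq_zero.mp this).symm
    exact Prod.ext hd1 hd2
  exact ⟨(AlgEquiv.ofBijective φ ⟨hinj, hsurj⟩).symm⟩

/-- The subalgebra `κ + I` for an ideal `I`. -/
def addIdeal (I : Ideal A) : Subalgebra κ A :=
  Subalgebra.comap (Ideal.Quotient.mkₐ κ I) ⊥

theorem mem_addIdeal {I : Ideal A} {y : A} :
    y ∈ addIdeal (κ := κ) I ↔ ∃ c : κ, y - algebraMap κ A c ∈ I := by
  unfold addIdeal
  rw [Subalgebra.mem_comap, Algebra.mem_bot]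
  constructor
  · rintro ⟨c, hc⟩
    refine ⟨c, ?_⟩
    rw [← Ideal.Quotient.eq]
    rw [Ideal.Quotient.mkₐ_eq_mk] at hc
    rw [← hc]
    rfl
  · rintro ⟨c, hc⟩
    refine ⟨c, ?_⟩
    rw [← Ideal.Quotient.eq] at hc
    rw [Ideal.Quotient.mkₐ_eq_mk, hc]
    rfl

/-- Not a field: dual numbers or a product. -/
theorem nonfield_case (h : IsSimpleOrder (Subalgebra κ A)) (hA : ¬ IsField A) :
    Nonempty (A ≃ₐ[κ] DualNumber κ) ∨ Nonempty (A ≃ₐ[κ] (κ × κ)) := by
  have := nontrivial_of_simple h
  have hfd := finiteDimensional_of_simple h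
  obtain ⟨m, hm⟩ := Ideal.exists_maximal A
  have hmtop : m ≠ ⊤ := hm.ne_top
  have hmbot : m ≠ ⊥ := Ring.ne_bot_of_isMaximal_of_not_isField hm hA
  -- κ + m = ⊤
  have hB1 : addIdeal (κ := κ) m = ⊤ := by
    rcases h.eq_bot_or_eq_top (addIdeal (κ := κ) m) with h1 | h1
    · exfalso
      apply hmbot
      rw [eq_bot_iff]
      intro y hy
      have hy' : y ∈ addIdeal (κ := κ) m := mem_addIdeal.mpr ⟨0, by simpa using hy⟩
      rw [h1] at hy'
      obtain ⟨c, hc⟩ := Algebra.mem_bot.mp hy'
      have hc0 : c = 0 := algebraMap_eq_zero_of_mem hmtop (hc ▸ hy)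
      rw [Ideal.mem_bot, ← hc, hc0, map_zero]
    · exact h1
  rcases h.eq_bot_or_eq_top (addIdeal (κ := κ) (m ^ 2)) with h2 | h2
  · -- m^2 = 0
    left
    have hm2 : m ^ 2 = ⊥ := by
      rw [eq_bot_iff]
      intro y hy
      have hy' : y ∈ addIdeal (κ := κ) (m ^ 2) := mem_addIdeal.mpr ⟨0, by simpa using hy⟩
      rw [h2] at hy'
      obtain ⟨c, hc⟩ := Algebra.mem_bot.mp hy'
      have hym : y ∈ m := Ideal.pow_le_self (by norm_num) hy
      have hc0 : c = 0 := algebraMap_eq_zero_of_mem hmtop (hc ▸ hym)
      rw [Ideal.mem_bot, ← hc, hc0, map_zero]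
    obtain ⟨ε, hεm, hε0⟩ := Submodule.exists_mem_ne_zero_of_ne_bot hmbot
    refine dualNumber_case h ε hε0 ?_
    have : ε * ε ∈ m ^ 2 := by rw [pow_two]; exact Ideal.mul_mem_mul hεm hεm
    rw [hm2] at this
    exact this
  · -- m^2 = m
    right
    have hmm : m ≤ m ^ 2 := by
      intro y hy
      have hy' : y ∈ addIdeal (κ := κ) (m ^ 2) := by rw [h2]; exact Algebra.mem_top
      obtain ⟨c, hc⟩ := mem_addIdeal.mp hy'
      have hcm : algebraMap κ A c ∈ m := by
        have h3 : y - algebraMap κ A c ∈ m := Ideal.pow_le_self (by norm_num) hc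
        have : algebraMap κ A c = y - (y - algebraMap κ A c) := by ring
        rw [this]
        exact m.sub_mem hy h3
      have hc0 : c = 0 := algebraMap_eq_zero_of_mem hmtop hcm
      rw [hc0, map_zero, sub_zero] at hc
      exact hc
    have hidem : IsIdempotentElem m := by
      change m * m = m
      rw [← pow_two]
      exact le_antisymm (Ideal.pow_le_self (by norm_num)) hmm
    have hfg : m.FG := by
      have : IsNoetherianRing A := IsNoetherianRing.of_finite κ A
      exact IsNoetherian.noetherian m
    obtain ⟨e, he, rfl⟩ := (Ideal.isIdempotentElem_iff_of_fg m hfg).mp hidem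
    refine prod_case h e he ?_ ?_
    · rintro rfl
      apply hmbot
      simp
    · rintro rfl
      apply hmtop
      simp

end

section
variable {κ L : Type u} [Field κ] [Field L] [Algebra κ L]

/-- The field case. -/
theorem field_case' (h : IsSimpleOrder (Subalgebra κ L)) :
    Algebra.IsSeparable κ L ∨
      ∃ (p : ℕ) (a : κ), p.Prime ∧ CharP κ p ∧ (∀ b : κ, b ^ p ≠ a) ∧
        Nonempty (L ≃ₐ[κ] AdjoinRoot (X ^ p - C a)) := by
  have hfd := finiteDimensional_of_simple h
  by_cases hsep : Algebra.IsSeparable κ L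
  · exact Or.inl hsep
  right
  obtain ⟨p, hp⟩ := CharP.exists κ
  rcases CharP.char_is_prime_or_zero κ p with hpp | hp0
  swap
  · exfalso
    subst hp0
    have : CharZero κ := CharP.charP_to_charZero κ
    exact hsep inferInstance
  have : Fact p.Prime := ⟨hpp⟩
  have : ExpChar κ p := ExpChar.prime hpp
  have : CharP L p := charP_of_injective_algebraMap (algebraMap κ L).injective p
  -- the separable closure is ⊥
  have hsc : separableClosure κ L = ⊥ := by
    rcases h.eq_bot_or_eq_top (separableClosure κ L).toSubalgebra with h1 | h1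
    · rw [← IntermediateField.toSubalgebra_inj, h1, IntermediateField.bot_toSubalgebra]
    · exfalso
      apply hsep
      rw [← separableClosure.eq_top_iff, ← IntermediateField.toSubalgebra_inj, h1,
        IntermediateField.top_toSubalgebra]
  have hpi : IsPurelyInseparable κ L := separableClosure.eq_bot_iff.mp hsc
  obtain ⟨x, hx⟩ := exists_not_mem_bot h
  have hex := IsPurelyInseparable.pow_mem κ p x
  classical
  let n := Nat.find hex
  have hn : x ^ p ^ n ∈ (algebraMap κ L).range := Nat.find_spec hex
  have hn0 : n ≠ 0 := by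
    intro h0
    rw [h0, pow_zero, pow_one] at hn
    apply hx
    obtain ⟨c, hc⟩ := hn
    exact Algebra.mem_bot.mpr ⟨c, hc⟩
  obtain ⟨k, hk⟩ := Nat.exists_eq_succ_of_ne_zero hn0
  set y := x ^ p ^ k with hy
  have hyp : y ^ p ∈ (algebraMap κ L).range := by
    rw [hy, ← pow_mul, ← pow_succ]
    have hk' : n = k + 1 := hk
    rw [← hk']
    exact hn
  have hynot : y ∉ (⊥ : Subalgebra κ L) := by
    intro hmem
    obtain ⟨c, hc⟩ := Algebra.mem_bot.mp hmem
    have : k < n := by omega
    exact Nat.find_min hex this ⟨c, hc⟩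
  obtain ⟨a, ha⟩ := hyp
  refine ⟨p, a, hpp, hp, ?_, ?_⟩
  · intro b hb
    apply hynot
    have : (y - algebraMap κ L b) ^ p = 0 := by
      rw [sub_pow_char, ← ha, ← map_pow, hb, sub_self]
    have := pow_eq_zero_iff (hpp.ne_zero) |>.mp this
    rw [sub_eq_zero] at this
    exact Algebra.mem_bot.mpr ⟨b, this.symm⟩
  · -- a is not a p-th power
    have hnp : ∀ b : κ, b ^ p ≠ a := by
      intro b hb
      apply hynot
      have : (y - algebraMap κ L b) ^ p = 0 := by
        rw [sub_pow_char, ← ha, ← map_pow, hb, sub_self]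
      have := pow_eq_zero_iff (hpp.ne_zero) |>.mp this
      rw [sub_eq_zero] at this
      exact Algebra.mem_bot.mpr ⟨b, this.symm⟩
    have hirr : Irreducible (X ^ p - C a : κ[X]) := X_pow_sub_C_irreducible_of_prime hpp hnp
    have : Fact (Irreducible (X ^ p - C a : κ[X])) := ⟨hirr⟩
    let φ : AdjoinRoot (X ^ p - C a : κ[X]) →ₐ[κ] L :=
      AdjoinRoot.liftAlgHom (X ^ p - C a) (Algebra.ofId κ L) y (by
        simp [ha])
    have hφ : φ (AdjoinRoot.root _) = y := by simp [φ]
    have hsurj : Function.Surjective φ := by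
      rw [← AlgHom.range_eq_top]
      rcases h.eq_bot_or_eq_top φ.range with h1 | h1
      · exfalso
        apply hynot
        rw [← h1]
        exact ⟨_, hφ⟩
      · exact h1
    have hinj : Function.Injective φ := φ.toRingHom.injective
    exact ⟨(AlgEquiv.ofBijective φ ⟨hinj, hsurj⟩).symm⟩

end

section
variable {κ A : Type u} [Field κ] [CommRing A] [Algebra κ A]

theorem field_case (h : IsSimpleOrder (Subalgebra κ A)) (hA : IsField A) :
    Algebra.IsSeparable κ A ∨
      ∃ (p : ℕ) (a : κ), p.Prime ∧ CharP κ p ∧ (∀ b : κ, b ^ p ≠ a) ∧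
        Nonempty (A ≃ₐ[κ] AdjoinRoot (X ^ p - C a)) := by
  letI := hA.toField
  exact field_case' h

end

open Polynomial in
/-- Let κ be a field and A a commutative κ-algebra whose only κ-subalgebras are the image of κ and A
itself, these two being different. Then A is finite-dimensional over κ, and A is isomorphic as a
κ-algebra to the dual numbers over κ, or to κ × κ, or A is a field which is either separable over κ
or isomorphic to κ[X]/(X^p - a) with p the (positive) characteristic of κ and a an element of κ that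
is not a p-th power. (The published statement also records that these four cases exclude one
another; that part is not restated.) -/
theorem result (κ A : Type u) [Field κ] [CommRing A] [Algebra κ A]
    (h : IsSimpleOrder (Subalgebra κ A)) :
    FiniteDimensional κ A ∧
    (Nonempty (A ≃ₐ[κ] DualNumber κ) ∨ Nonempty (A ≃ₐ[κ] (κ × κ)) ∨
      (IsField A ∧ (Algebra.IsSeparable κ A ∨
        ∃ (p : ℕ) (a : κ), p.Prime ∧ CharP κ p ∧ (∀ b : κ, b ^ p ≠ a) ∧
          Nonempty (A ≃ₐ[κ] AdjoinRoot (X ^ p - C a))))) := by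
  refine ⟨finiteDimensional_of_simple h, ?_⟩
  by_cases hA : IsField A
  · exact Or.inr (Or.inr ⟨hA, field_case h hA⟩)
  · rcases nonfield_case h hA with h1 | h1
    · exact Or.inl h1
    · exact Or.inr (Or.inl h1)

end Groth.Agent.S15939
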