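import Groth.Statements.S15985
import Groth.Agent.Lib.R2H2LocalCBC5

set_option autoImplicit false
universe u
open Coherent

namespace Groth.Agent.S15985

open AlgebraicGeometry CategoryTheory Scheme.Modules in
/-- Let π : X → Y be proper of finite presentation, F a quasi-coherent O_X-module of finite
presentation, flat over Y, and p a natural number such that H^p(X_y, F|_{X_y}) = 0 for every point y
of Y (cohomology of the restriction of F to the scheme-theoretic fibre at y). Then the higher direct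
image R^p π_* F (the p-th right derived functor of π_* on O_X-modules, applied to F) is zero. -/
theorem result
    {X Y : Scheme.{u}} (π : X ⟶ Y) [IsProper π] [LocallyOfFinitePresentation π]
    [HasInjectiveResolutions X.Modules]
    (F : X.Modules) [Coh.IsQCoh F] (hfp : CohB1.IsFP F) (hfl : FlatMod.IsFlatOver π F) (p : ℕ)
    (h0 : ∀ y : Y, Subsingleton (CohIII.fiberH π F y p)) :
    Limits.IsZero ((Coh.Rpush π p).obj F) := by
  haveI : F.IsQuasicoherent := ‹Coh.IsQCoh F›
  have key : ∀ s : Y, ∃ V : Y.Opens, s ∈ V ∧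
      Limits.IsZero (((Coh.Rpush π p).obj F).restrict V.ι) := by
    intro s
    obtain ⟨V₁, hs, A, _, _, Q, γ, hγ, hQ, hQv, hrank, hmain⟩ :=
      Groth.Agent.Lib.R2H2.LocalCBC.local_main π F hfp hfl s
    have h1 : CohIII.dRank Q (-(p : ℤ)) (γ ⟨s, hs⟩) = 0 := by
      rw [← hrank p s hs]
      haveI := h0 s
      exact Module.finrank_zero_of_subsingleton
    obtain ⟨a, V, hV, hsV, hVV₁, hVa, haO⟩ :=
      Groth.Agent.Lib.R2H2.LocalCBC.exists_affine_nhd γ hγ s hs _
        (Groth.Agent.Lib.R2H2.LocalCBC.isOpen_dRank_lt Q hQ (-(p : ℤ)) 1)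
        (show CohIII.dRank Q (-(p : ℤ)) (γ ⟨s, hs⟩) < 1 by rw [h1]; exact Nat.one_pos)
    refine ⟨V, hsV, (hmain p V a hV hVV₁ hVa).1 (fun y hy => ?_)⟩
    have h2 : CohIII.dRank Q (-(p : ℤ)) y < 1 := haO y hy
    exact Nat.lt_one_iff.mp h2
  choose V hsV hz using key
  exact Groth.Agent.Lib.Helper23.ModLocal.isZero_of_isZero_restrict
    (fun s : Y => ((V s : Y.Opens) : Scheme.{u})) (fun s => (V s).ι)
    (fun x => ⟨x, ⟨x, hsV x⟩, rfl⟩) hz

end Groth.Agent.S15985
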