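import Groth.Statements.S1596
import Groth.Agent.Lib.R2H2NodalRed
import Groth.Agent.Lib.R2H4CurveR1
import Groth.Agent.Lib.R2H4GVSch
import Groth.Agent.Lib.H9Models
import Groth.Agent.S15985

set_option autoImplicit false
universe u
open CategoryTheory CategoryTheory.Limits AlgebraicGeometry
open Curves

namespace Groth.Agent.S1596

/-- Let f : X → S be a proper morphism of schemes that is at-worst-nodal of relative dimension one with
geometrically connected fibres. Then R¹f_*O_X is a finite locally free O_S-module and R^q f_*O_X = 0
for every q ≥ 2. The published statement also includes the compatibility of these direct images with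
base change, which is not asserted here. (Existence of injective resolutions in the category of
O_X-modules is carried as an instance binder.) -/
theorem result {X S : Scheme.{u}} (f : X ⟶ S) [IsProper f] (hf : Curv2.IsNodalFamily f)
    [GeometricallyConnected f] [HasInjectiveResolutions X.Modules] :
    FlatMod.IsFinLocFree ((Coh.Rpush f 1).obj (Coh.structureModule X)) ∧
      ∀ q : ℕ, 2 ≤ q → IsZero ((Coh.Rpush f q).obj (Coh.structureModule X)) := by
  obtain ⟨hflat, hlfp, hfib⟩ := hf
  haveI := hflat
  haveI := hlfp
  have hdim : ∀ s : S, topologicalKrullDim ↥(f.fiber s) ≤ 1 := fun s =>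
    Groth.Agent.Lib.R2H2.NodalRed.topologicalKrullDim_le_of_irreducibleComponents 1
      (fun Z hZ => ((hfib s).1 Z hZ).le)
  haveI : (Coh.structureModule X).IsQuasicoherent :=
    Groth.Agent.Lib.Helper23.Serre.isQuasicoherent_structureModule' X
  have hO : PicF.IsInvertible (Coh.structureModule X) :=
    Groth.Agent.Lib.Helper23.TensorUnit.isInvertible_structureModule X
  have hfp : CohB1.IsFP (Coh.structureModule X) :=
    Groth.Agent.Lib.Helper2.LocFree.isFP_of_isFinLocFree _
      (Groth.Agent.Helper18PBUnit.isFinLocFree_of_isInvertible hO)
  have hfl : FlatMod.IsFlatOver f (Coh.structureModule X) :=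
    Groth.Agent.Lib.R2H3.SchemDense.isFlatOver_structureModule f
  have hprop : ∀ s : S, IsProper (f.fiberToSpecResidueField s) := fun s =>
    MorphismProperty.of_isPullback (IsPullback.of_hasPullback f (S.fromSpecResidueField s))
      inferInstance
  have hnoeth : ∀ s : S, IsNoetherian (f.fiber s) := fun s => by
    haveI := hprop s
    haveI : IsLocallyNoetherian (f.fiber s) :=
      LocallyOfFiniteType.isLocallyNoetherian (f.fiberToSpecResidueField s)
    haveI : CompactSpace (f.fiber s) :=
      QuasiCompact.compactSpace_of_compactSpace (f.fiberToSpecResidueField s)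
    exact { }
  have hvan : ∀ (s : S) (q : ℕ), 2 ≤ q →
      Subsingleton (CohIII.fiberH f (Coh.structureModule X) s q) := by
    intro s q hq
    haveI := hnoeth s
    exact Groth.Agent.Lib.R2H4GVSch.subsingleton_HH (f.fiber s) 1 (hdim s) _ q hq
  constructor
  · refine Groth.Agent.Lib.R2H2.LocalCBC.isFinLocFree_of_restrict_cover _ (fun s => ?_)
    have hiso : IsIso (f.fiberToSpecResidueField s).appTop := by
      haveI := hprop s
      haveI := hnoeth s
      letI : (f.fiber s).Over (Spec (CommRingCat.of ↑(S.residueField s))) :=
        ⟨f.fiberToSpecResidueField s⟩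
      haveI : LocallyOfFiniteType (f.fiber s ↘ Spec (CommRingCat.of ↑(S.residueField s))) :=
        inferInstanceAs (LocallyOfFiniteType (f.fiberToSpecResidueField s))
      haveI : GeometricallyReduced (f.fiberToSpecResidueField s) :=
        Groth.Agent.Lib.R2H2.NodalRed.geometricallyReduced_of_atWorstNodal
          (S.residueField s) (f.fiber s) (hfib s).2
      exact Groth.Agent.Lib.H9Models.isIso_appTop_of_geometricallyConnected
        (S.residueField s) (f.fiberToSpecResidueField s)
    have hsurj : Function.Surjective (f.fiberToSpecResidueField s).appTop.hom :=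
      (ConcreteCategory.bijective_of_isIso (f.fiberToSpecResidueField s).appTop).2
    exact Groth.Agent.Lib.R2H4CurveR1.exists_nhd_isFinLocFree_R1 f _ hfp hfl s (hvan s 2 le_rfl)
      (Groth.Agent.Lib.R2H4CurveR1.epi_bc0_structure f s hsurj)
  · intro q hq
    exact Groth.Agent.S15985.result f _ hfp hfl q (fun y => hvan y q hq)

end Groth.Agent.S1596
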