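import Groth.Statements.S15991
import Groth.Agent.Lib.R2LeadTrivDefMk
import Groth.Agent.Lib.Helper22ThickAffine

set_option autoImplicit false
set_option linter.style.haveILetI false
universe u v
open Deform

namespace Groth.Agent.S15991

open AlgebraicGeometry CategoryTheory in
/-- Let k be a field and X an affine scheme smooth over k, with finitely many pairwise distinct
k-rational points p_j (j ∈ ι). Let X' → Spec k[ε] be flat, i : X → X' a morphism making X the fibre
over the closed point Spec k → Spec k[ε] (cartesian square), and p'_j : Spec k[ε] → X' sections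
restricting to the p_j. Then there is an isomorphism φ : X' ≅ X ×_{Spec k} Spec k[ε] over Spec k[ε]
such that i followed by φ is the inclusion of X at the closed point (its first component is the
identity of X) and each p'_j followed by φ is the constant section through p_j: every first-order
deformation of a smooth affine scheme with marked points is trivial. (The source says non-singular;
smooth over k is assumed here, and the marked points are taken pairwise distinct and finite in
number.) -/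
theorem result
    (k : Type u) [Field k] (X : Scheme.{u}) (hX : X ⟶ Spec (CommRingCat.of k)) [IsAffine X] [Smooth hX]
    {ι : Type v} [Finite ι] (p : ι → (Spec (CommRingCat.of k) ⟶ X)) (hp : ∀ j, p j ≫ hX = 𝟙 _)
    (hinj : Function.Injective p)
    (X' : Scheme.{u}) (g : X' ⟶ Spec (CommRingCat.of (DualNumber k))) [Flat g] (i : X ⟶ X')
    (hsq : IsPullback i hX g
      (Spec.map (CommRingCat.ofHom (TrivSqZeroExt.fstHom k k k).toRingHom)))
    (p' : ι → (Spec (CommRingCat.of (DualNumber k)) ⟶ X')) (hp' : ∀ j, p' j ≫ g = 𝟙 _)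
    (hpp' : ∀ j, p j ≫ i = Spec.map (CommRingCat.ofHom (TrivSqZeroExt.fstHom k k k).toRingHom) ≫ p' j) :
    ∃ φ : X' ≅ Limits.pullback hX (Spec.map (CommRingCat.ofHom (algebraMap k (DualNumber k)))),
      φ.hom ≫ Limits.pullback.snd hX (Spec.map (CommRingCat.ofHom (algebraMap k (DualNumber k)))) = g ∧
        i ≫ φ.hom ≫ Limits.pullback.fst hX (Spec.map (CommRingCat.ofHom (algebraMap k (DualNumber k)))) = 𝟙 X ∧
          ∀ j, p' j ≫ φ.hom ≫
              Limits.pullback.fst hX (Spec.map (CommRingCat.ofHom (algebraMap k (DualNumber k)))) =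
            Spec.map (CommRingCat.ofHom (algebraMap k (DualNumber k))) ≫ p j := by
  classical
  set e : DualNumber k →ₐ[k] k := TrivSqZeroExt.fstHom k k k with he
  have hsurje : Function.Surjective e.toRingHom := fun κ => ⟨TrivSqZeroExt.inl κ, rfl⟩
  haveI hci : IsClosedImmersion (Spec.map (CommRingCat.ofHom e.toRingHom)) :=
    IsClosedImmersion.spec_of_surjective _ hsurje
  haveI hsj : Surjective (Spec.map (CommRingCat.ofHom e.toRingHom)) := by
    constructor
    intro q
    haveI hmax : (RingHom.ker e.toRingHom).IsMaximal := RingHom.ker_isMaximal_of_surjective _ hsurje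
    have hsq0 : (RingHom.ker e.toRingHom) ^ 2 = ⊥ := TrivSqZeroExt.kerIdeal_sq k k
    have hle : RingHom.ker e.toRingHom ≤ q.asIdeal := by
      haveI := q.isPrime
      exact Ideal.IsPrime.le_of_pow_le (n := 2) (by rw [hsq0]; exact bot_le)
    have h2 : RingHom.ker e.toRingHom = q.asIdeal := hmax.eq_of_le q.isPrime.ne_top hle
    refine ⟨(⊥ : PrimeSpectrum k), ?_⟩
    apply PrimeSpectrum.ext
    change Ideal.comap e.toRingHom ⊥ = q.asIdeal
    rw [← h2]
    rfl
  haveI : IsClosedImmersion i := MorphismProperty.of_isPullback hsq.flip hci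
  haveI : Surjective i := MorphismProperty.of_isPullback hsq.flip hsj
  haveI : IsAffine X' :=
    Groth.Agent.Lib.Helper22.ThickAffine.isAffine_of_thickening i (Surjective.surj)
  let ψ := X.isoSpec
  let ψ' := X'.isoSpec
  let β : CommRingCat.of k ⟶ Γ(X, ⊤) := Spec.preimage (ψ.inv ≫ hX)
  let α : CommRingCat.of (DualNumber k) ⟶ Γ(X', ⊤) := Spec.preimage (ψ'.inv ≫ g)
  let c : Γ(X', ⊤) ⟶ Γ(X, ⊤) := Spec.preimage (ψ.inv ≫ i ≫ ψ'.hom)
  have hβ : Spec.map β = ψ.inv ≫ hX := Spec.map_preimage _
  have hα : Spec.map α = ψ'.inv ≫ g := Spec.map_preimage _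
  have hc : Spec.map c = ψ.inv ≫ i ≫ ψ'.hom := Spec.map_preimage _
  have hsq' : IsPullback (Spec.map c) (Spec.map β) (Spec.map α)
      (Spec.map (CommRingCat.ofHom e.toRingHom)) := by
    rw [hc, hβ, hα]
    exact IsPullback.of_iso hsq ψ ψ' (Iso.refl _) (Iso.refl _) (by simp) (by simp) (by simp)
      (by simp)
  have hflat : α.hom.Flat := by
    rw [← Flat.SpecMap_iff, hα]
    infer_instance
  have hsm : β.hom.FormallySmooth := by
    have : Smooth (Spec.map β) := by rw [hβ]; infer_instance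
    have h1 : β.hom.Smooth := (HasRingHomProperty.Spec_iff (P := @Smooth)).mp this
    exact (RingHom.smooth_def.mp h1).1
  let π : ι → (Γ(X, ⊤) ⟶ CommRingCat.of k) := fun j => Spec.preimage (p j ≫ ψ.hom)
  let π' : ι → (Γ(X', ⊤) ⟶ CommRingCat.of (DualNumber k)) := fun j =>
    Spec.preimage (p' j ≫ ψ'.hom)
  have hπ : ∀ j, Spec.map (π j) = p j ≫ ψ.hom := fun j => Spec.map_preimage _
  have hπ' : ∀ j, Spec.map (π' j) = p' j ≫ ψ'.hom := fun j => Spec.map_preimage _
  have hπβ : ∀ j, β ≫ π j = 𝟙 _ := by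
    intro j
    apply Spec.map_injective
    rw [Spec.map_comp, hπ, hβ, Category.assoc, Iso.hom_inv_id_assoc, hp, Spec.map_id]
  have hπ'α : ∀ j, α ≫ π' j = 𝟙 _ := by
    intro j
    apply Spec.map_injective
    rw [Spec.map_comp, hπ', hα, Category.assoc, Iso.hom_inv_id_assoc, hp', Spec.map_id]
  have hπinj : Function.Injective π := by
    intro j j' hjj
    apply hinj
    have h1 : p j ≫ ψ.hom = p j' ≫ ψ.hom := by rw [← hπ, ← hπ, hjj]
    exact (cancel_mono ψ.hom).mp h1
  have hππ' : ∀ j, c ≫ π j = π' j ≫ CommRingCat.ofHom e.toRingHom := by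
    intro j
    apply Spec.map_injective
    rw [Spec.map_comp, Spec.map_comp, hπ, hπ', hc, Category.assoc, Iso.hom_inv_id_assoc,
      ← Category.assoc, hpp', Category.assoc]
  obtain ⟨φ₁, sh, h1, h2, h3, h4⟩ := Groth.Agent.Lib.R2LeadTrivDefMk.affine_case_mk k _ _ β α c
    hflat hsm hsq' π hπβ hπinj π' hπ'α hππ'
  let kA := Spec.map (CommRingCat.ofHom (algebraMap k (DualNumber k)))
  have hcomm : Spec.map β ≫ 𝟙 _ = ψ.inv ≫ hX := by rw [Category.comp_id, hβ]
  let μ : Limits.pullback (Spec.map β) kA ⟶ Limits.pullback hX kA :=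
    Limits.pullback.map (Spec.map β) kA hX kA ψ.inv (𝟙 _) (𝟙 _) hcomm
      (by rw [Category.comp_id, Category.id_comp])
  haveI : IsIso μ := by
    dsimp only [μ]
    infer_instance
  have hμ2 : μ ≫ Limits.pullback.snd hX kA = Limits.pullback.snd (Spec.map β) kA ≫ 𝟙 _ :=
    Limits.pullback.lift_snd _ _ _
  have hμ1 : μ ≫ Limits.pullback.fst hX kA = Limits.pullback.fst (Spec.map β) kA ≫ ψ.inv :=
    Limits.pullback.lift_fst _ _ _
  have hfst : (ψ'.hom ≫ φ₁.hom ≫ μ) ≫ Limits.pullback.fst hX kA =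
      ψ'.hom ≫ Spec.map sh ≫ ψ.inv := by
    rw [Category.assoc, Category.assoc, hμ1, ← Category.assoc φ₁.hom, h2]
  refine ⟨ψ' ≪≫ φ₁ ≪≫ asIso μ, ?_, ?_, ?_⟩
  · change (ψ'.hom ≫ φ₁.hom ≫ μ) ≫ Limits.pullback.snd hX kA = g
    rw [Category.assoc, Category.assoc, hμ2, Category.comp_id, h1, hα, Iso.hom_inv_id_assoc]
  · change i ≫ (ψ'.hom ≫ φ₁.hom ≫ μ) ≫ Limits.pullback.fst hX kA = 𝟙 X
    rw [hfst]
    have h5 : i ≫ ψ'.hom = ψ.hom ≫ Spec.map c := by
      rw [hc, Iso.hom_inv_id_assoc]
    rw [← Category.assoc, h5, Category.assoc, ← Category.assoc (Spec.map c), ← Spec.map_comp, h3,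
      Spec.map_id, Category.id_comp, Iso.hom_inv_id]
  · intro j
    change p' j ≫ (ψ'.hom ≫ φ₁.hom ≫ μ) ≫ Limits.pullback.fst hX kA = kA ≫ p j
    rw [hfst, ← Category.assoc, ← hπ', ← Category.assoc, ← Spec.map_comp, h4, Spec.map_comp,
      Category.assoc, hπ, Category.assoc, Iso.hom_inv_id, Category.comp_id]

end Groth.Agent.S15991
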