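import Groth.Statements.S15993
import Mathlib

set_option autoImplicit false
open CategoryTheory AlgebraicGeometry
universe u
open EtHull

namespace Groth.Agent.S15993

/-- Let f : X → S be a morphism of schemes which is faithfully flat (flat and surjective), quasi-compact
and separated, and schematically birational in the following sense: there are schematically dense
opens U of S and V of X, with the inclusion V → X quasi-compact, such that f maps V into U and the
induced morphism V → U is an isomorphism. Then f is an isomorphism. (The source states this for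
algebraic spaces and puts no quasi-compactness condition on the dense opens. Its proof base-changes
along f and uses that the inverse image of V in X ×_S X is again schematically dense, which holds
when V → X is quasi-compact, for instance when X is locally Noetherian, and fails in general: over
the Boolean ring of eventually constant sequences of elements of the field with two elements, the
spectrum of the ring of eventually two-periodic sequences is faithfully flat and affine, and it is
an isomorphism above the open set of principal points, which is schematically dense on both sides,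
yet it is not an isomorphism, the point at infinity being doubled. So V is taken retrocompact in X
here, and X, S are schemes.) -/
theorem result {X S : Scheme.{u}} (f : X ⟶ S)
    [Flat f] [Surjective f] [QuasiCompact f] [IsSeparated f]
    (U : S.Opens) (V : X.Opens) [QuasiCompact V.ι]
    (hU : CInt.IsSchematicallyDense U) (hV : CInt.IsSchematicallyDense V)
    (hle : V ≤ f ⁻¹ᵁ U) (hiso : IsIso (f.resLE U V hle)) : IsIso f := by
  open CategoryTheory.Limits in
  -- `V → X` is scheme-theoretically dominant
  haveI hVd : IsSchemeTheoreticallyDominant V.ι := by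
    refine ⟨Scheme.IdealSheafData.ext (funext fun W => ?_)⟩
    rw [Scheme.Hom.ker_apply, Scheme.IdealSheafData.ideal_bot, Pi.bot_apply,
      ← RingHom.injective_iff_ker_eq_bot]
    rw [injective_iff_map_eq_zero]
    intro s hs
    have hle' : W.1 ⊓ V ≤ V.ι ''ᵁ V.ι ⁻¹ᵁ W.1 := by
      rintro x ⟨hxW, hxV⟩
      exact ⟨⟨x, hxV⟩, hxW, rfl⟩
    apply hV W.1
    rw [map_zero]
    have hle'' : V.ι ''ᵁ V.ι ⁻¹ᵁ W.1 ≤ W.1 := Set.image_preimage_subset _ _
    have hs' : (X.presheaf.map (homOfLE hle'').op).hom s = 0 := hs
    have h1 : (X.presheaf.map (homOfLE hle').op).hom ((X.presheaf.map (homOfLE hle'').op).hom s) = 0 := by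
      rw [hs', map_zero]
    rw [← CommRingCat.comp_apply, ← Functor.map_comp] at h1
    exact h1
  -- `V → S` is a monomorphism
  haveI hmono : Mono (V.ι ≫ f) := by
    rw [← Scheme.Hom.resLE_comp_ι f hle]
    infer_instance
  -- the two-step base change `W₂ → W₁ → X ×_S X` of `V → X`
  let pr₁ : pullback f f ⟶ X := pullback.fst f f
  let pr₂ : pullback f f ⟶ X := pullback.snd f f
  let a : pullback pr₂ V.ι ⟶ pullback f f := pullback.fst pr₂ V.ι
  let b : pullback pr₂ V.ι ⟶ V := pullback.snd pr₂ V.ι
  let c : pullback (a ≫ pr₁) V.ι ⟶ pullback pr₂ V.ι := pullback.fst (a ≫ pr₁) V.ι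
  let d : pullback (a ≫ pr₁) V.ι ⟶ V := pullback.snd (a ≫ pr₁) V.ι
  haveI : Flat pr₂ := inferInstanceAs (Flat (pullback.snd f f))
  haveI : Flat pr₁ := inferInstanceAs (Flat (pullback.fst f f))
  haveI : IsSchemeTheoreticallyDominant a := IsSchemeTheoreticallyDominant.pullbackFst pr₂ V.ι
  haveI : IsOpenImmersion a := inferInstanceAs (IsOpenImmersion (pullback.fst pr₂ V.ι))
  haveI : Flat (a ≫ pr₁) := inferInstance
  haveI : IsSchemeTheoreticallyDominant c := IsSchemeTheoreticallyDominant.pullbackFst (a ≫ pr₁) V.ι
  have hcb : c ≫ b = d := by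
    rw [← cancel_mono (V.ι ≫ f)]
    have h1 : a ≫ pr₂ = b ≫ V.ι := pullback.condition
    have h2 : c ≫ a ≫ pr₁ = d ≫ V.ι := pullback.condition
    have h3 : pr₁ ≫ f = pr₂ ≫ f := pullback.condition
    calc (c ≫ b) ≫ V.ι ≫ f = c ≫ (b ≫ V.ι) ≫ f := by simp only [Category.assoc]
      _ = c ≫ (a ≫ pr₂) ≫ f := by rw [h1]
      _ = c ≫ a ≫ pr₁ ≫ f := by simp only [Category.assoc, h3]
      _ = (c ≫ a ≫ pr₁) ≫ f := by simp only [Category.assoc]
      _ = d ≫ V.ι ≫ f := by rw [h2, Category.assoc]
  have hfac : c ≫ a = (d ≫ V.ι) ≫ pullback.diagonal f := by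
    apply pullback.hom_ext
    · have h2 : c ≫ a ≫ pr₁ = d ≫ V.ι := pullback.condition
      rw [Category.assoc, Category.assoc, pullback.diagonal_fst, Category.comp_id]
      exact h2
    · have h1 : a ≫ pr₂ = b ≫ V.ι := pullback.condition
      rw [Category.assoc, Category.assoc, pullback.diagonal_snd, Category.comp_id]
      change c ≫ a ≫ pr₂ = d ≫ V.ι
      rw [h1, ← Category.assoc, hcb]
  have hker : (pullback.diagonal f).ker = ⊥ := by
    have h1 := Scheme.Hom.le_ker_comp (d ≫ V.ι) (pullback.diagonal f)
    rw [← hfac, (c ≫ a).ker_eq_bot] at h1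
    exact le_bot_iff.1 h1
  haveI : IsIso (pullback.diagonal f) := IsClosedImmersion.isIso_iff_ker_eq_bot.2 hker
  haveI : Mono f := (pullback.isIso_diagonal_iff f).1 inferInstance
  exact Flat.isIso_of_surjective_of_mono f

end Groth.Agent.S15993
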