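import Groth.Statements.S15995
import Mathlib

set_option autoImplicit false
open CategoryTheory AlgebraicGeometry
universe u
open FrobSch

namespace Groth.Agent.S15995

open CategoryTheory.Limits

section aux

variable (p : ℕ) [Fact p.Prime]

/-- relatively perfect iff the Frobenius square is cartesian -/
theorem isPullback_of_isIso_relFrob {Y S : Scheme.{u}} [IsCharP S p] [IsCharP Y p] (r : Y ⟶ S)
    (h : IsIso (relFrob r p)) : IsPullback (frob Y p) r r (frob S p) := by
  refine IsPullback.of_iso_pullback ⟨frob_comp p r⟩ (asIso (relFrob r p)) ?_ ?_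
  · simp
  · simp

theorem isIso_relFrob_of_isPullback {Y S : Scheme.{u}} [IsCharP S p] [IsCharP Y p] (r : Y ⟶ S)
    (h : IsPullback (frob Y p) r r (frob S p)) : IsIso (relFrob r p) := by
  have e : relFrob r p = h.isoPullback.hom := by
    apply pullback.hom_ext
    · simp
    · simp
  rw [e]
  infer_instance

end aux

theorem result (p : ℕ) [Fact p.Prime] {X X' T S : Scheme.{u}}
    [FrobSch.IsCharP S p] [FrobSch.IsCharP T p] (f : T ⟶ S) (hf : IsIso (FrobSch.relFrob f p))
    (g : X ⟶ T) (π : X' ⟶ T) (hπ : IsIso (FrobSch.relFrob π p)) (c : X ⟶ X') (hc : c ≫ π = g)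
    (huniv : ∀ (Y : Scheme.{u}) (q : Y ⟶ T), IsIso (FrobSch.relFrob q p) →
      ∀ k : X ⟶ Y, k ≫ q = g → ∃! h : X' ⟶ Y, h ≫ q = π ∧ c ≫ h = k) :
    IsIso (FrobSch.relFrob (π ≫ f) p) ∧
      ∀ (Y : Scheme.{u}) (r : Y ⟶ S), IsIso (FrobSch.relFrob r p) →
        ∀ k : X ⟶ Y, k ≫ r = g ≫ f → ∃! h : X' ⟶ Y, h ≫ r = π ≫ f ∧ c ≫ h = k := by
  have hX' : IsCharP X' p := IsCharP.of_hom π p
  have sqf := isPullback_of_isIso_relFrob p f hf
  have sqπ := isPullback_of_isIso_relFrob p π hπ
  refine ⟨?_, ?_⟩
  · apply isIso_relFrob_of_isPullback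
    exact sqπ.paste_vert sqf
  · intro Y r hr k hk
    have hY : IsCharP Y p := IsCharP.of_hom r p
    have sqr := isPullback_of_isIso_relFrob p r hr
    -- base change of r along f
    let YT := pullback r f
    let q : YT ⟶ T := pullback.snd r f
    have hYT : IsCharP YT p := IsCharP.of_hom q p
    have sqA : IsPullback (pullback.fst r f) q r f := IsPullback.of_hasPullback r f
    have sqq : IsPullback (frob YT p) q q (frob T p) := by
      refine IsPullback.of_right ?_ (frob_comp p q) sqA
      have h1 : frob YT p ≫ pullback.fst r f = pullback.fst r f ≫ frob Y p := frob_comp p _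
      have h2 : frob T p ≫ f = f ≫ frob S p := frob_comp p _
      rw [h1, h2]
      exact sqA.paste_horiz sqr
    have hq : IsIso (relFrob q p) := isIso_relFrob_of_isPullback p q sqq
    obtain ⟨h', ⟨hh'1, hh'2⟩, hh'u⟩ := huniv YT q hq (pullback.lift k g hk) (pullback.lift_snd _ _ _)
    refine ⟨h' ≫ pullback.fst r f, ⟨?_, ?_⟩, ?_⟩
    · rw [Category.assoc, pullback.condition, ← Category.assoc]
      change (h' ≫ q) ≫ f = _
      rw [hh'1]
    · rw [← Category.assoc, hh'2, pullback.lift_fst]
    · rintro h ⟨hh1, hh2⟩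
      have := hh'u (pullback.lift h π hh1) ⟨pullback.lift_snd _ _ _, by
        apply pullback.hom_ext
        · rw [Category.assoc, pullback.lift_fst, pullback.lift_fst, hh2]
        · rw [Category.assoc, pullback.lift_snd, pullback.lift_snd, hc]⟩
      rw [← this, pullback.lift_fst]

end Groth.Agent.S15995
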