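import Groth.Statements.S16082
import Mathlib

set_option autoImplicit false
universe u
open CategoryTheory CategoryTheory.Limits AlgebraicGeometry TopologicalSpace
open SDiv

namespace Groth.Agent.S16082

/-- Let X be an integral scheme and F, G quasi-coherent O_X-modules with F of finite presentation and G
torsion free (every stalk G_x is a torsion-free module over the domain O_{X,x}). Then every stalk of
the sheaf Hom 𝓗om_{O_X}(F, G) is torsion free as well. -/
theorem result (X : Scheme.{u}) [IsIntegral X] (F G : X.Modules) (hF : Coh.IsQCoh F)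
    (hFp : CohB1.IsFP F) (hG : Coh.IsQCoh G) (hGt : TorSh.IsTorsionFree G) :
    TorSh.IsTorsionFree (RefHull.homSh F G) := by
  intro x
  refine ⟨fun r hr s₁ s₂ h => ?_⟩
  have hr0 : r ≠ 0 := hr.ne_zero
  obtain ⟨Ua, ha, a, rfl⟩ := TopCat.Presheaf.exists_germ_eq X.presheaf r
  obtain ⟨U₁, h₁, g₁, rfl⟩ := TopCat.Presheaf.exists_germ_eq (RefHull.homSh F G).presheaf s₁
  obtain ⟨U₂, h₂, g₂, rfl⟩ := TopCat.Presheaf.exists_germ_eq (RefHull.homSh F G).presheaf s₂
  have hxU : x ∈ Ua ⊓ U₁ ⊓ U₂ := ⟨⟨ha, h₁⟩, h₂⟩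
  have la : Ua ⊓ U₁ ⊓ U₂ ≤ Ua := inf_le_left.trans inf_le_left
  have l₁ : Ua ⊓ U₁ ⊓ U₂ ≤ U₁ := inf_le_left.trans inf_le_right
  have l₂ : Ua ⊓ U₁ ⊓ U₂ ≤ U₂ := inf_le_right
  dsimp only at h
  rw [← TopCat.Presheaf.germ_res_apply X.presheaf (homOfLE la) x hxU,
    ← TopCat.Presheaf.germ_res_apply (RefHull.homSh F G).presheaf (homOfLE l₁) x hxU,
    ← TopCat.Presheaf.germ_res_apply (RefHull.homSh F G).presheaf (homOfLE l₂) x hxU,
    ← Mero.germ_smul, ← Mero.germ_smul] at h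
  rw [← TopCat.Presheaf.germ_res_apply (RefHull.homSh F G).presheaf (homOfLE l₁) x hxU,
    ← TopCat.Presheaf.germ_res_apply (RefHull.homSh F G).presheaf (homOfLE l₂) x hxU]
  generalize (ConcreteCategory.hom ((RefHull.homSh F G).presheaf.map (homOfLE l₁).op)) g₁ = k₁ at h ⊢
  generalize (ConcreteCategory.hom ((RefHull.homSh F G).presheaf.map (homOfLE l₂).op)) g₂ = k₂ at h ⊢
  generalize ha' : (ConcreteCategory.hom (X.presheaf.map (homOfLE la).op)) a = a' at h
  obtain ⟨W, hW, iU, iV, e⟩ := (RefHull.homSh F G).presheaf.germ_eq _ hxU hxU _ _ h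
  cases Subsingleton.elim iU iV
  rw [← TopCat.Presheaf.germ_res_apply (RefHull.homSh F G).presheaf iU x hW,
    ← TopCat.Presheaf.germ_res_apply (RefHull.homSh F G).presheaf iU x hW]
  congr 1
  refine Subtype.ext (funext fun y => ?_)
  have ey : X.presheaf.germ (Ua ⊓ U₁ ⊓ U₂) y.1 (iU.le y.2) a' •
        (k₁ : Γ(RefHull.homSh F G, Ua ⊓ U₁ ⊓ U₂)).1 ⟨y.1, iU.le y.2⟩ =
      X.presheaf.germ (Ua ⊓ U₁ ⊓ U₂) y.1 (iU.le y.2) a' •
        (k₂ : Γ(RefHull.homSh F G, Ua ⊓ U₁ ⊓ U₂)).1 ⟨y.1, iU.le y.2⟩ :=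
    congrArg (fun t : Γ(RefHull.homSh F G, W) => t.1 y) e
  refine LinearMap.ext fun m => ?_
  have em := congrArg (fun t => t m) ey
  simp only [LinearMap.smul_apply] at em
  have hay : X.presheaf.germ (Ua ⊓ U₁ ⊓ U₂) y.1 (iU.le y.2) a' ≠ 0 := by
    intro h0
    apply hr0
    rw [← TopCat.Presheaf.germ_res_apply X.presheaf (homOfLE la) x hxU, ha']
    have := germ_injective_of_isIntegral (X := X) y.1 (iU.le y.2)
      (h0.trans (map_zero _).symm)
    rw [this, map_zero]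
  haveI := hGt y.1
  exact (smul_right_injective _ hay) em

end Groth.Agent.S16082
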