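import Groth.Statements.S16083
import Mathlib
import Groth.Agent.Lib.R2H7ReflExt
import Groth.Agent.Lib.R2LeadHartD

set_option autoImplicit false
universe u
open CategoryTheory CategoryTheory.Limits AlgebraicGeometry TopologicalSpace
open SDiv

namespace Groth.Agent.S16083

/-- Suppose X is a normal scheme that is integral and locally Noetherian, write η for its generic point,
let F and G be coherent O_X-modules, and let T : G_η → F_η be an O_{X,η}-linear map of generic
stalks. Then T extends to a morphism G ⟶ F^** — there is a morphism ψ whose stalk map at η is T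
followed by the stalk map at η of the canonical map F ⟶ F^** — if and only if for every point x with
dim O_{X,x} = 1 the map T sends the image of G_x in G_η into the image of F_x in F_η. -/
theorem result (X : Scheme.{u}) [IsIntegral X] [IsLocallyNoetherian X]
    (hX : Pi1.IsNormalScheme X) (F G : X.Modules) (hF : Coh.IsCoh F) (hG : Coh.IsCoh G)
    (T : ↑(G.presheaf.stalk (genericPoint ↥X)) →ₗ[↑(X.presheaf.stalk (genericPoint ↥X))]
      ↑(F.presheaf.stalk (genericPoint ↥X))) :
    (∃ ψ : G ⟶ RefHull.ddual F, RefHull.stalkMapₗ ψ (genericPoint ↥X) =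
        (RefHull.stalkMapₗ (RefHull.bidualMap F) (genericPoint ↥X)).comp T) ↔
      ∀ x : ↥X, ringKrullDim ↑(X.presheaf.stalk x) = 1 →
        Set.MapsTo ⇑T
          (Set.range ⇑(G.presheaf.stalkSpecializes ((genericPoint_spec ↥X).specializes (Set.mem_univ x))).hom)
          (Set.range ⇑(F.presheaf.stalkSpecializes ((genericPoint_spec ↥X).specializes (Set.mem_univ x))).hom) := by
  constructor
  · rintro ⟨ψ, hψ⟩ x hx
    haveI := (hX x).2
    haveI : IsPrincipalIdealRing (X.presheaf.stalk x) :=
      Groth.Agent.Lib.R2H7.ReflAlg.isPrincipalIdealRing_of_dim_le_one _ hx.le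
    exact Groth.Agent.Lib.R2H7.ReflExt.mapsTo_of_hom F G T ψ hψ x
      (Groth.Agent.Lib.R2H7.ReflExt.surjective_stalkMap_bidualMap F hF x)
      (Groth.Agent.Lib.R2H7.ReflExt.bijective_stalkMap_bidualMap_generic F hF).1
  · intro hT
    exact Groth.Agent.Lib.R2H7.ReflExt.exists_hom F G T
      (Groth.Agent.Lib.R2H7.ReflExt.spInj_ddual F hF)
      (fun U' V hVU h => Groth.Agent.Lib.R2LeadHartD.hartogs hX (RefHull.ddual F)
        (Groth.Agent.Lib.R2H7.ReflExt.isCoh_ddual F hF)
        (Groth.Agent.Lib.R2H7.ReflExt.isReflexiveAt_ddual F hF) U' V hVU h) hT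

end Groth.Agent.S16083
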