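import Groth.Statements.S16103
import Groth.Agent.Lib.R2H2LocalCBC5

set_option autoImplicit false
universe u
open Coherent

namespace Groth.Agent.S16103

open AlgebraicGeometry CategoryTheory Scheme.Modules in
/-- Let π : X → Y be proper of finite presentation, F a quasi-coherent O_X-module of finite
presentation, flat over Y, and q a natural number such that H^q(X_y, F|_{X_y}) = 0 and H^{q+2}(X_y,
F|_{X_y}) = 0 for every point y of Y (cohomology of the restriction of F to the scheme-theoretic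
fibre). Then R^{q+1} π_* F, the (q+1)-st right derived functor of π_* on O_X-modules applied to F,
is a finite locally free O_Y-module. (The source's statement, with p = q + 2, asks instead of the
vanishing in degree q only that the degree-q base change map to the fibre be surjective at every
point; the vanishing assumed here is the special case in which that map has zero target.) -/
theorem result
    {X Y : Scheme.{u}} (π : X ⟶ Y) [IsProper π] [LocallyOfFinitePresentation π]
    [HasInjectiveResolutions X.Modules]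
    (F : X.Modules) [Coh.IsQCoh F] (hfp : CohB1.IsFP F) (hfl : FlatMod.IsFlatOver π F) (q : ℕ)
    (hq : ∀ y : Y, Subsingleton (CohIII.fiberH π F y q))
    (hq2 : ∀ y : Y, Subsingleton (CohIII.fiberH π F y (q + 2))) :
    FlatMod.IsFinLocFree ((Coh.Rpush π (q + 1)).obj F) := by
  haveI : F.IsQuasicoherent := ‹Coh.IsQCoh F›
  refine Groth.Agent.Lib.R2H2.LocalCBC.isFinLocFree_of_restrict_cover _ (fun s => ?_)
  obtain ⟨V₁, hs, A, _, _, Q, γ, hγ, hQ, hQv, hrank, hmain⟩ :=
    Groth.Agent.Lib.R2H2.LocalCBC.local_main π F hfp hfl s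
  have hQfl : ∀ i, Module.Finite A (Q.X i) ∧ Module.Flat A (Q.X i) := fun i => by
    haveI := (hQ i).2
    exact ⟨(hQ i).1, inferInstance⟩
  have h1 : CohIII.dRank Q (-(q : ℤ)) (γ ⟨s, hs⟩) = 0 := by
    rw [← hrank q s hs]
    haveI := hq s
    exact Module.finrank_zero_of_subsingleton
  have h2 : CohIII.dRank Q (-((q + 2 : ℕ) : ℤ)) (γ ⟨s, hs⟩) = 0 := by
    rw [← hrank (q + 2) s hs]
    haveI := hq2 s
    exact Module.finrank_zero_of_subsingleton
  obtain ⟨a, V, hV, hsV, hVV₁, hVa, haO⟩ :=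
    Groth.Agent.Lib.R2H2.LocalCBC.exists_affine_nhd γ hγ s hs
      ({y | CohIII.dRank Q (-(q : ℤ)) y < 1} ∩ {y | CohIII.dRank Q (-((q + 2 : ℕ) : ℤ)) y < 1})
      ((Groth.Agent.Lib.R2H2.LocalCBC.isOpen_dRank_lt Q hQ (-(q : ℤ)) 1).inter
        (Groth.Agent.Lib.R2H2.LocalCBC.isOpen_dRank_lt Q hQ (-((q + 2 : ℕ) : ℤ)) 1))
      ⟨show CohIII.dRank Q (-(q : ℤ)) (γ ⟨s, hs⟩) < 1 by rw [h1]; exact Nat.one_pos,
        show CohIII.dRank Q (-((q + 2 : ℕ) : ℤ)) (γ ⟨s, hs⟩) < 1 by rw [h2]; exact Nat.one_pos⟩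
  refine ⟨V, hsV, (hmain (q + 1) V a hV hVV₁ hVa).2 ?_ ?_⟩
  · have e1 : -((q + 1 : ℕ) : ℤ) - 1 = -((q + 2 : ℕ) : ℤ) := by push_cast; ring
    rw [e1]
    exact Groth.Agent.Lib.R2H2.BcAlg.isZero_T_away_of_dRank Q hQfl _ a
      (fun y hy => Nat.lt_one_iff.mp (haO y hy).2)
  · have e1 : -((q + 1 : ℕ) : ℤ) + 1 = -(q : ℤ) := by push_cast; ring
    rw [e1]
    exact Groth.Agent.Lib.R2H2.BcAlg.isZero_T_away_of_dRank Q hQfl _ a
      (fun y hy => Nat.lt_one_iff.mp (haO y hy).1)

end Groth.Agent.S16103
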