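import Groth.Statements.S16124
import Groth.Agent.Lib.Helper8FinGrpAffine

set_option autoImplicit false
universe u
open CategoryTheory MonoidalCategory CartesianMonoidalCategory MonObj GrpObj AlgebraicGeometry CategoryTheory.Limits
open AlgGrp

namespace Groth.Agent.S16124

/-- Over an algebraically closed field k, let X be a quasi-projective variety (a reduced separated
k-scheme, quasi-projective over k) with an action of a finite group Γ by k-automorphisms. Then X is
covered by Γ-stable affine open subschemes: every point x of X lies in an affine open U with σ⁻¹(U)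
= U for every σ in Γ. -/
theorem result (k : Type u) [Field k] [IsAlgClosed k]
    (X : Over (Spec (CommRingCat.of k))) [IsReduced X.left] [IsSeparated X.hom] (hX : RelProj.IsQuasiProjective X.hom)
    (Γgrp : Type u) [Group Γgrp] [Finite Γgrp] (ρ : Γgrp →* Aut X.left)
    (hρ : ∀ σ : Γgrp, (ρ σ).hom ≫ X.hom = X.hom) (x : ↥X.left) :
    ∃ U : X.left.Opens, x ∈ U ∧ IsAffineOpen U ∧ ∀ σ : Γgrp, (ρ σ).hom ⁻¹ᵁ U = U := by
  obtain ⟨hlft, hqc, L, hL⟩ := hX
  haveI := hqc
  haveI : CompactSpace X.left := QuasiCompact.compactSpace_of_compactSpace X.hom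
  have hN : CohB1.IsAmple (Coh.structureModule (Spec (CommRingCat.of k))) :=
    (Groth.Agent.Lib.Helper23.AmpleIso.isQuasiAffine_iff_isAmple_structureModule _).1 inferInstance
  obtain ⟨L', hL'⟩ := Groth.Agent.Lib.R2H3.QProj.exists_isAmple_of_isRelAmple X.hom L hL _ hN
  haveI : IsSeparated (terminal.from X.left) := by
    have h : terminal.from X.left = X.hom ≫ terminal.from (Spec (CommRingCat.of k)) :=
      terminal.hom_ext _ _
    rw [h]
    infer_instance
  exact Groth.Agent.Lib.Helper8FinGrpAffine.exists_invariant_affine L' hL' Γgrp ρ x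

end Groth.Agent.S16124
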