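import Groth.Statements.S1613
import Groth.Agent.Lib.R2H1OmegaDual

set_option autoImplicit false
universe u
open CategoryTheory CategoryTheory.Limits AlgebraicGeometry
open Curves

namespace Groth.Agent.S1613

/-- Let X be a smooth proper connected curve over an algebraically closed field k, of genus g ≥ 2. Then
every O_X-linear map from the sheaf of differentials Ω_{X/k} to O_X is zero (X has no nonzero
k-derivations of its structure sheaf). -/
theorem result (k : Type u) [Field k] [IsAlgClosed k] (X : Scheme.{u}) [X.Over (Spec (CommRingCat.of k))]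
    (hX : Curve.IsSmoothProperCurve k X (X ↘ (Spec (CommRingCat.of k)))) (hg : 2 ≤ Curv2.genus k X)
    (θ : Omega.sheaf (X ↘ (Spec (CommRingCat.of k))) ⟶ Coh.structureModule X) : θ = 0 := by
  obtain ⟨hp, hs, hi, hdim⟩ := hX
  haveI := hp
  haveI := hs
  haveI := hi
  have hreg : ∀ x : X, IsRegularLocalRing (X.presheaf.stalk x) := fun x =>
    Groth.Agent.Lib.R2H1.RegPoint.isRegularLocalRing_stalk_of_mem_smoothLocus k X
      (X ↘ (Spec (CommRingCat.of k))) x (by
        rw [Scheme.Hom.smoothLocus_eq_top_iff.mpr inferInstance]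
        trivial)
  by_contra hθ
  obtain ⟨-, -, hdeg⟩ := Groth.Agent.Lib.R2H1.OmegaDual.numerics_Om k X hdim hreg
  have hΩ := Groth.Agent.Lib.R2H1.OmegaCurve.isInvertible_Om k X hdim hreg
  have hO := Groth.Agent.Lib.Helper23.TensorUnit.isInvertible_structureModule X
  have h1 := (Groth.Agent.Lib.R2H1.CurveDegSec.main k X hdim _ _ hΩ hO θ hθ).1
  unfold Curv2.deg at hdeg
  have h2 : (2 : ℤ) ≤ (Curv2.genus k X : ℤ) := by exact_mod_cast hg
  have h3 : (0 : ℤ) ≤ (Module.finrank k (Coh.HH X (cokernel θ) 0) : ℤ) := Int.natCast_nonneg _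
  change Curv2.euler k X (Omega.sheaf (X ↘ (Spec (CommRingCat.of k)))) - _ = _ at hdeg
  change _ = Curv2.euler k X (Omega.sheaf (X ↘ (Spec (CommRingCat.of k)))) + _ at h1
  push_cast at hdeg
  linarith

end Groth.Agent.S1613
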