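import Groth.Statements.S16148
import Groth.Agent.Lib.R2H3ExtShVanish
import Groth.Agent.Lib.R2H3ExtCodimVan
import Groth.Agent.Lib.R2H3ExtDepthSupp
import Groth.Agent.Lib.R2H3OmegaPn
import Groth.Agent.Lib.R2H3PureDim
import Groth.Agent.Lib.Helper28DepthLoc
import Groth.Agent.Lib.Helper4VarDim6
import Groth.Agent.Lib.R2H2QProjK0
import Groth.Agent.Lib.R2H4DegAdd
import Groth.Agent.S10829
import Groth.Agent.S0020
import Groth.Agent.S0485
set_option backward.isDefEq.respectTransparency.types false
set_option linter.style.haveILetI false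

set_option autoImplicit false
universe u
open CategoryTheory CategoryTheory.Limits AlgebraicGeometry
open Variety

namespace Groth.Agent.S16148

/-- Let k be a characteristic-zero algebraically closed field and G a coherent O-module (quasi-coherent
of finite type) on projective n-space P^n_k whose support, as a subspace of P^n_k, has Krull
dimension a with a ≥ 1. Then there is an integer m such that H^a(P^n_k, G(m)) ≠ 0, where G(m) = G ⊗
O(m). (The source works over the complex numbers.) -/
theorem result (k : Type u) [Field k] [IsAlgClosed k] [CharZero k]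
    (n : ℕ) (G : (CohB1.ProjSpace n k).Modules) (hG : Coh.IsCoh G) (a : ℕ) (ha : 1 ≤ a)
    (hdim : topologicalKrullDim ↥(CohB1.support G) = a) :
    ∃ m : ℤ, Nontrivial (Coh.HH (CohB1.ProjSpace n k) (CohB1.tensorMod G (Twist.twistProjSpace n k m)) a) := by
  by_contra hcon
  have hsub : ∀ m : ℤ, Subsingleton (Coh.HH (CohB1.ProjSpace n k)
      (CohB1.tensorMod G (Twist.twistProjSpace n k m)) a) := fun m =>
    not_nontrivial_iff_subsingleton.mp fun h => hcon ⟨m, h⟩
  haveI : IsNoetherian (CohB1.ProjSpace n k) :=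
    Groth.Agent.Lib.R2H2.QProjK0.isNoetherian_projSpace n k
  letI : HasInjectiveResolutions (ModSite.Mod (CohB1.ProjSpace n k).sheaf) :=
    Groth.Agent.Lib.R2H3.RpushRestrict.hasInjectiveResolutions_modules (CohB1.ProjSpace n k)
  haveI : ModSite.HasSheafHom (O := (CohB1.ProjSpace n k).sheaf) G :=
    Groth.Agent.Lib.Helper21.ExtShDelta.hasSheafHom _ _
  haveI : EnoughInjectives (CohB1.ProjSpace n k).Modules :=
    Groth.Agent.S0485.result (Opens.grothendieckTopology (CohB1.ProjSpace n k))
      (CohB1.ProjSpace n k).ringCatSheaf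
  haveI : HasExt.{u} (CohB1.ProjSpace n k).Modules := hasExt_of_enoughInjectives.{u} _
  letI : (CohB1.ProjSpace n k).Over (Spec (CommRingCat.of k)) := ⟨CohB1.ProjSpace.toSpec n k⟩
  haveI : IsProper (CohB1.ProjSpace.toSpec n k) := Groth.Agent.S9705.isProper_projSpace_toSpec n k
  haveI : LocallyOfFiniteType ((CohB1.ProjSpace n k) ↘ Spec (CommRingCat.of k)) := by
    change LocallyOfFiniteType (CohB1.ProjSpace.toSpec n k)
    infer_instance
  have hcl : IsClosed (CohB1.support G) := Groth.Agent.S0020.result _ G hG.2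
  -- `a ≤ n`
  have han : a ≤ n := by
    have h1 : topologicalKrullDim ↥(CohB1.support G) ≤ topologicalKrullDim ↥(CohB1.ProjSpace n k) :=
      topologicalKrullDim_subspace_le _ _
    rw [hdim, Groth.Agent.S10829.result k n] at h1
    exact_mod_cast h1
  set ω := Twist.twistProjSpace n k (-((n : ℤ) + 1)) with hωdef
  have hω1 : FlatMod.IsFinLocFreeOfRank 1 ω :=
    Groth.Agent.Lib.R2H3.OmegaPn.isFinLocFreeOfRank_omega k n
  have hωlf : FlatMod.IsFinLocFree ω := Groth.Agent.Lib.R2H4DegAdd.isFinLocFree_of_rank hω1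
  have hωcoh : Coh.IsCoh ω := Groth.Agent.Lib.R2H3.ExtShVanish.isCoh_twist k n _
  have hX := Groth.Agent.Lib.R2H3.OmegaPn.pure_projSpace k n
  -- vanishing in degree `n - a`
  have hz1 : IsZero ((ModSite.extSh (O := (CohB1.ProjSpace n k).sheaf) G (n - a)).obj ω) := by
    rw [Groth.Agent.Lib.R2H3.ExtShVanish.isZero_extSh_iff k n G hG (n - a) (by omega)]
    refine ⟨0, fun m _ => ?_⟩
    have : n - (n - a) = a := by omega
    rw [this]
    exact hsub (-m)
  -- vanishing below `n - a`
  have hdimx : ∀ x ∈ CohB1.support G,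
      ((n - a : ℕ) : WithBot ℕ∞) ≤ ringKrullDim ((CohB1.ProjSpace n k).presheaf.stalk x) := by
    intro x hx
    obtain ⟨b, hb, hbn⟩ := Groth.Agent.Lib.R2H3.PureDim.ringKrullDim_stalk_add_trdegNat k
      (CohB1.ProjSpace n k) n hX x
    have hsub' : closure ({x} : Set (CohB1.ProjSpace n k)) ⊆ CohB1.support G :=
      hcl.closure_subset_iff.2 (Set.singleton_subset_iff.2 hx)
    have h1 : topologicalKrullDim ↥(closure ({x} : Set (CohB1.ProjSpace n k))) ≤
        topologicalKrullDim ↥(CohB1.support G) :=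
      (Topology.IsEmbedding.inclusion hsub').isInducing.topologicalKrullDim_le
    rw [Groth.Agent.Lib.Helper4.VarDim.topologicalKrullDim_closure_singleton k
      (CohB1.ProjSpace n k) x, hdim] at h1
    have h3 : Groth.Agent.Lib.Helper4.VarDim.trdegNat k (CohB1.ProjSpace n k) x ≤ a := by
      exact_mod_cast h1
    rw [hb]
    exact_mod_cast (by omega : n - a ≤ b)
  have hreg : ∀ x ∈ CohB1.support G,
      IsRegularLocalRing ((CohB1.ProjSpace n k).presheaf.stalk x) := fun x _ =>
    Groth.Agent.Lib.R2H3.OmegaPn.isRegularLocalRing_stalk k n x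
  have hvan : ∀ i : ℕ, i < n - a + 1 →
      IsZero ((ModSite.extSh (O := (CohB1.ProjSpace n k).sheaf) G i).obj ω) := by
    intro i hi
    rcases Nat.lt_succ_iff_lt_or_eq.mp hi with h | h
    · exact Groth.Agent.Lib.R2H3.ExtCodimVan.isZero_extSh_of_codim G ω hG hωlf (n - a) hreg hdimx i h
    · rw [h]; exact hz1
  -- every point of the support has transcendence degree `< a`
  have hpt : ∀ x ∈ CohB1.support G,
      ((Groth.Agent.Lib.Helper4.VarDim.trdegNat k (CohB1.ProjSpace n k) x : ℕ) : WithBot ℕ∞) ≤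
        ((a - 1 : ℕ) : WithBot ℕ∞) := by
    intro x hx
    obtain ⟨b, hb, hbn⟩ := Groth.Agent.Lib.R2H3.PureDim.ringKrullDim_stalk_add_trdegNat k
      (CohB1.ProjSpace n k) n hX x
    have hdep := Groth.Agent.Lib.R2H3.ExtDepthSupp.natCast_le_depth_stalk_of_isZero_extSh G ω hG
      hωcoh x hx (n - a + 1) hvan
    obtain ⟨hfree, hfin, hrk⟩ := Groth.Agent.Lib.R2H4DegAdd.stalk_facts hω1 x
    haveI := hfree
    haveI := hfin
    haveI : Nontrivial (ω.presheaf.stalk x) :=
      Module.nontrivial_of_finrank_pos (R := (CohB1.ProjSpace n k).presheaf.stalk x)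
        (by rw [hrk]; exact Nat.one_pos)
    haveI : IsNoetherianRing ((CohB1.ProjSpace n k).presheaf.stalk x) := inferInstance
    have h1 : ((LocCoh.depth ((CohB1.ProjSpace n k).presheaf.stalk x) (ω.presheaf.stalk x) : ℕ∞) :
        WithBot ℕ∞) ≤ ringKrullDim ((CohB1.ProjSpace n k).presheaf.stalk x) :=
      Groth.Agent.Lib.Helper28.depth_le_supportDim.trans (Module.supportDim_le_ringKrullDim _ _)
    rw [hb] at h1
    have h2 : (((n - a + 1 : ℕ) : ℕ∞) : WithBot ℕ∞) ≤ ((b : ℕ) : WithBot ℕ∞) :=
      (WithBot.coe_le_coe.mpr hdep).trans h1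
    have h3 : n - a + 1 ≤ b := by exact_mod_cast h2
    exact_mod_cast (by omega : Groth.Agent.Lib.Helper4.VarDim.trdegNat k (CohB1.ProjSpace n k) x ≤ a - 1)
  haveI := Groth.Agent.Lib.Helper4.VarDim.quasiSober_of_isLocallyClosed (CohB1.support G)
    hcl.isLocallyClosed
  have hfin := Groth.Agent.Lib.Helper4.VarDim.topologicalKrullDim_le_of_forall_trdegNat_le k
    (CohB1.ProjSpace n k) (CohB1.support G) _ hpt
  rw [hdim] at hfin
  have : a ≤ a - 1 := by exact_mod_cast hfin
  omega

end Groth.Agent.S16148
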