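import Groth.Statements.S16162
import Mathlib

set_option autoImplicit false
open CategoryTheory MonoidalCategory CartesianMonoidalCategory MonObj GrpObj AlgebraicGeometry
universe u
open MadRed

namespace Groth.Agent.S16162

/-- Let S be a scheme, G a group scheme over S, and X an S-scheme with an action of G making X → S a
principal G-bundle (a torsor in the representable fppf sense: X → S surjective, flat and locally of
finite presentation, and G ×_S X → X ×_S X, (g, x) ↦ (g·x, x), an isomorphism). Let P be a closed
subset of X stable under the action: the action map sends into P every point of G ×_S X whose second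
projection lies in P. Then the image of P in S is closed, and P is the full preimage of its image.
(The source works with varieties over the complex numbers and an affine algebraic group; the
assertion holds over any base. Its second assertion, that P → image is again a principal bundle for
the induced reduced structures, then comes from base change and is not part of this row.) -/
theorem result {S : Scheme.{u}}
    {G X : Over S} [GrpObj G] (a : AlgGrp.Action G X) (ha : RedSub.IsTorsor a)
    (P : Set X.left) (hP : IsClosed P)
    (hstab : ∀ w : (G ⊗ X).left, (snd G X).left.base w ∈ P → a.act.left.base w ∈ P) :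
    IsClosed (X.hom.base '' P) ∧ X.hom.base ⁻¹' (X.hom.base '' P) = P := by
  obtain ⟨hsurj, hflat, hlfp, hiso⟩ := ha
  have hpre : X.hom.base ⁻¹' (X.hom.base '' P) = P := by
    apply Set.Subset.antisymm
    · rintro x ⟨p, hpP, hpx⟩
      obtain ⟨z, hz1, hz2⟩ := Scheme.Pullback.exists_preimage_pullback (f := X.hom) (g := X.hom) x p
        hpx.symm
      let e := (lift a.act (snd G X)).left
      haveI : IsIso e := by
        haveI := hiso
        exact (Over.forget S).map_isIso (lift a.act (snd G X))
      let z' : (X ⊗ X).left := z
      let w : (G ⊗ X).left := (inv e).base z'
      have hew : e.base w = z' := by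
        change ((inv e) ≫ e).base z' = z'
        rw [IsIso.inv_hom_id]
        rfl
      have h1 : (snd G X).left.base w = p := by
        have : (snd G X).left = e ≫ (snd X X).left := by
          rw [← Over.comp_left, lift_snd]
        rw [this]
        change (snd X X).left.base (e.base w) = p
        rw [hew]
        exact hz2
      have h2 : a.act.left.base w = x := by
        have : a.act.left = e ≫ (fst X X).left := by
          rw [← Over.comp_left, lift_fst]
        rw [this]
        change (fst X X).left.base (e.base w) = x
        rw [hew]
        exact hz1
      have := hstab w (by rw [h1]; exact hpP)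
      rwa [h2] at this
    · exact Set.subset_preimage_image _ _
  refine ⟨?_, hpre⟩
  haveI := hflat
  haveI := hlfp
  have hopen : IsOpenMap X.hom.base := X.hom.isOpenMap
  have hcompl : (X.hom.base '' P)ᶜ = X.hom.base '' Pᶜ := by
    apply Set.Subset.antisymm
    · intro s hs
      obtain ⟨x, rfl⟩ := hsurj.surj s
      refine ⟨x, fun hxP => hs ⟨x, hxP, rfl⟩, rfl⟩
    · rintro _ ⟨x, hx, rfl⟩ hmem
      apply hx
      rw [← hpre]
      exact hmem
  rw [← isOpen_compl_iff, hcompl]
  exact hopen _ hP.isOpen_compl

end Groth.Agent.S16162
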