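import Groth.Statements.S16198
import Mathlib.LinearAlgebra.TensorPower.Basic
import Mathlib.LinearAlgebra.Matrix.Determinant.Basic
import Mathlib.RingTheory.Ideal.Operations

set_option autoImplicit false
universe u v
open DivAlg

namespace Groth.Agent.S16198

open TensorProduct CommRing

section
variable {R : Type u} [CommRing R] (N : Type v) [AddCommGroup N] [Module R N]
  [Module.Invertible R N]

/-- The tensor powers of an invertible module are invertible, with class the power of the class. -/
theorem tensorPower_invertible_and_mk (k : ℕ) :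
    ∃ _ : Module.Invertible R (⨂[R]^k N), Pic.mk R (⨂[R]^k N) = Pic.mk R N ^ k := by
  induction k with
  | zero =>
    have e : R ≃ₗ[R] (⨂[R]^0 N) := TensorPower.algebraMap₀
    have h : Module.Invertible R (⨂[R]^0 N) := Module.Invertible.congr e
    refine ⟨h, ?_⟩
    rw [pow_zero, Pic.mk_eq_one_iff]
    exact ⟨e.symm⟩
  | succ k ih =>
    obtain ⟨hk, hmk⟩ := ih
    have e1 : (⨂[R]^1 N) ≃ₗ[R] N := PiTensorProduct.subsingletonEquiv (0 : Fin 1)
    have h1 : Module.Invertible R (⨂[R]^1 N) := Module.Invertible.congr e1.symm
    have e : (⨂[R]^k N) ⊗[R] (⨂[R]^1 N) ≃ₗ[R] (⨂[R]^(k+1) N) := TensorPower.mulEquiv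
    have h : Module.Invertible R (⨂[R]^(k+1) N) := Module.Invertible.congr e
    refine ⟨h, ?_⟩
    have h2 : Pic.mk R (⨂[R]^(k+1) N) = Pic.mk R ((⨂[R]^k N) ⊗[R] (⨂[R]^1 N)) :=
      Pic.mk_eq_mk_iff.mpr ⟨e.symm⟩
    have h3 : Pic.mk R (⨂[R]^1 N) = Pic.mk R N := Pic.mk_eq_mk_iff.mpr ⟨e1⟩
    rw [h2, Pic.mk_tensor, hmk, h3, pow_succ]

/-- Rank-one commutativity: `φ g * ψ x = φ x * ψ g`. -/
theorem dual_comm (φ ψ : N →ₗ[R] R) (g x : N) : φ g * ψ x = φ x * ψ g := by
  have h := congrArg (TensorProduct.lift ((LinearMap.mul R R).compl₁₂ φ ψ))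
    (Module.Invertible.tmul_comm (R := R) (m₁ := g) (m₂ := x))
  simpa using h

end

/-- In the case of a commutative ring R, let N be an invertible R-module such that the direct sum N^n is
isomorphic to R^n for some natural number n. Then the class of N in Pic(R) satisfies [N]^n = 1. (The
published statement is for invertible modules on an arbitrary ringed site; this row states the case
of a commutative ring.) -/
theorem result {R : Type u} [CommRing R] (N : Type v)
    [AddCommGroup N] [Module R N] [Module.Invertible R N] (n : ℕ)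
    (e : (Fin n → N) ≃ₗ[R] (Fin n → R)) :
    CommRing.Pic.mk R N ^ n = 1 := by
  obtain ⟨hinv, hmk⟩ := tensorPower_invertible_and_mk (R := R) N n
  rw [← hmk, Pic.mk_eq_one_iff]
  -- the determinant multilinear map
  let f : MultilinearMap R (fun _ : Fin n => N) R :=
    (Matrix.detRowAlternating (R := R) (n := Fin n)).toMultilinearMap.compLinearMap
      (fun i => e.toLinearMap ∘ₗ LinearMap.single R (fun _ : Fin n => N) i)
  let F : (⨂[R]^n N) →ₗ[R] R := PiTensorProduct.lift f
  have hf : ∀ y : Fin n → N, f y = Matrix.det (Matrix.of fun i => e (Pi.single i (y i))) := by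
    intro y
    rfl
  -- surjectivity of F
  have hsurj : Function.Surjective F := by
    rw [← LinearMap.range_eq_top]
    -- the range is an ideal I
    set I : Ideal R := LinearMap.range F with hI
    -- ψ g ^ n ∈ I
    have key : ∀ (ψ : N →ₗ[R] R) (g : N), ψ g ^ n ∈ I := by
      intro ψ g
      let A : Matrix (Fin n) (Fin n) R := Matrix.of fun i => e (Pi.single i g)
      let C : Matrix (Fin n) (Fin n) R := Matrix.of fun k i => ψ (e.symm (Pi.single k 1) i)
      have hCA : C * A = ψ g • (1 : Matrix (Fin n) (Fin n) R) := by
        ext k j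
        simp only [Matrix.mul_apply, Matrix.smul_apply, Matrix.one_apply, smul_eq_mul, C, A,
          Matrix.of_apply]
        have h1 : ∀ i, ψ (e.symm (Pi.single k 1) i) * e (Pi.single i g) j =
            ψ g * e (Pi.single i (e.symm (Pi.single k 1) i)) j := by
          intro i
          have := dual_comm N
            ((LinearMap.proj j : (Fin n → R) →ₗ[R] R) ∘ₗ e.toLinearMap ∘ₗ
              LinearMap.single R (fun _ : Fin n => N) i) ψ g (e.symm (Pi.single k 1) i)
          simp only [LinearMap.coe_comp, LinearEquiv.coe_coe, LinearMap.coe_single,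
            Function.comp_apply, LinearMap.coe_proj, Function.eval] at this
          rw [mul_comm, this, mul_comm]
        simp_rw [h1]
        rw [← Finset.mul_sum]
        have h2 : ∑ i, e (Pi.single i (e.symm (Pi.single k 1) i)) j =
            e (∑ i, Pi.single i (e.symm (Pi.single k 1) i)) j := by
          rw [map_sum, Finset.sum_apply]
        rw [h2, Finset.univ_sum_single, LinearEquiv.apply_symm_apply]
        by_cases hkj : k = j
        · subst hkj; simp
        · simp [hkj, Ne.symm hkj]
      have hdet : C.det * A.det = ψ g ^ n := by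
        rw [← Matrix.det_mul, hCA, Matrix.det_smul, Matrix.det_one, mul_one, Fintype.card_fin]
      have hA : A.det ∈ I := by
        refine ⟨PiTensorProduct.tprod R (fun _ => g), ?_⟩
        simp only [F, PiTensorProduct.lift.tprod]
        exact hf _
      rw [← hdet]
      exact I.mul_mem_left _ hA
    -- the elements ψ g span the unit ideal
    have hspan : Ideal.span {r : R | ∃ (ψ : N →ₗ[R] R) (g : N), r = ψ g} = ⊤ := by
      rw [Ideal.eq_top_iff_one]
      have hall : ∀ t : Module.Dual R N ⊗[R] N, contractLeft R N t ∈
          Ideal.span {r : R | ∃ (ψ : N →ₗ[R] R) (g : N), r = ψ g} := by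
        intro t
        induction t using TensorProduct.induction_on with
        | zero => simp
        | tmul ψ g =>
          apply Ideal.subset_span
          exact ⟨ψ, g, by simp [contractLeft_apply]⟩
        | add a b ha hb =>
          rw [map_add]
          exact Ideal.add_mem _ ha hb
      obtain ⟨t, ht⟩ := (Module.Invertible.bijective (R := R) (M := N)).2 1
      rw [← ht]
      exact hall t
    have hpow := Ideal.span_pow_eq_top _ hspan n
    rw [eq_top_iff, ← hpow, Ideal.span_le]
    rintro _ ⟨r, ⟨ψ, g, rfl⟩, rfl⟩
    exact key ψ g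
  have := hinv
  exact ⟨LinearEquiv.ofBijective F (Module.Invertible.bijective_of_surjective hsurj)⟩

end Groth.Agent.S16198
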