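import Groth.Statements.S16240
import Groth.Agent.S0563
import Groth.Agent.S9514
import Groth.Agent.Lib.R2H3Syzygy
import Groth.Agent.Lib.H9FreeFib
import Groth.Agent.Lib.Helper1KBC2
import Groth.Agent.Lib.Helper2FibreCrit2
import Groth.Agent.Lib.Helper23FinPres
import Groth.Agent.Lib.R2H2PnLocFree
import Groth.Agent.Lib.R2H2PnHilbPoly
import Groth.Agent.Lib.Helper4FibDimL

set_option autoImplicit false
universe u
open CategoryTheory CategoryTheory.Limits AlgebraicGeometry
open Coh

namespace Groth.Agent.S16240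

/-- Let X be a Noetherian scheme all of whose local rings are regular, of (topological Krull) dimension
at most m, and let S be an exact sequence of O_X-modules G ⟶ E_m ⟶ ⋯ ⟶ E_1 ⟶ F with m + 2 terms (G
in position 0, F in position m + 1), injective at the first map and surjective at the last, in which
F is coherent and E_1, …, E_m are finite locally free. Then G is finite locally free. (The source
asks for p + 1 vector bundles with p ≥ dim X − 1, i.e. at least dim X of them, and finite dimension;
here m bounds the dimension.) -/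
theorem result (X : Scheme.{u}) [IsNoetherian X]
    (hreg : ∀ x : X, IsRegularLocalRing (X.presheaf.stalk x)) (m : ℕ)
    (hdim : topologicalKrullDim ↥X ≤ (m : WithBot ℕ∞))
    (S : ComposableArrows X.Modules (m + 1)) (hS : S.Exact)
    (hmono : Mono (S.map' 0 1 (Nat.zero_le 1) (Nat.le_add_left 1 m)))
    (hepi : Epi (S.map' m (m + 1) (Nat.le_succ m) (le_refl (m + 1))))
    (hE : ∀ i : Fin m, FlatMod.IsFinLocFree (S.obj ⟨i.1 + 1, Nat.succ_lt_succ (Nat.lt_succ_of_lt i.2)⟩))
    (hF : Coh.IsCoh (S.obj (Fin.last (m + 1)))) :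
    FlatMod.IsFinLocFree (S.obj 0) := by
  have hNoeth : IsLocallyNoetherian X := inferInstance
  -- coherence of the middle terms
  have hEk : ∀ (k : ℕ) (hk1 : 1 ≤ k) (hkm : k ≤ m),
      FlatMod.IsFinLocFree (S.obj ⟨k, Nat.lt_succ_of_le (Nat.le_succ_of_le hkm)⟩) := by
    intro k hk1 hkm
    obtain ⟨k', rfl⟩ : ∃ k', k = k' + 1 := ⟨k - 1, by omega⟩
    exact hE ⟨k', by omega⟩
  have hcohk : ∀ (k : ℕ) (hk1 : 1 ≤ k) (hkm : k ≤ m + 1),
      Coh.IsCoh (S.obj ⟨k, Nat.lt_succ_of_le hkm⟩) := by
    intro k hk1 hkm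
    rcases Nat.lt_or_ge k (m + 1) with h | h
    · exact Groth.Agent.Lib.R2H2.PnLocFree.isCoh_of_isFinLocFree _ (hEk k hk1 (by omega))
    · obtain rfl : k = m + 1 := by omega
      exact hF
  -- coherence of the first term
  have hG : Coh.IsCoh (S.obj 0) := by
    rcases Nat.eq_zero_or_pos m with rfl | hm
    · have hiso : IsIso (S.map' 0 1 (Nat.zero_le 1) (Nat.le_add_left 1 0)) :=
        isIso_of_mono_of_epi _
      exact Groth.Agent.Lib.R2H2.PnHilbPoly.isCoh_of_iso
        (asIso (S.map' 0 1 (Nat.zero_le 1) (Nat.le_add_left 1 0))).symm hF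
    · have hex := hS.exact 0 (by omega)
      have hw := hS.toIsComplex.zero 0 (by omega)
      have hepi' : Epi (kernel.lift _ _ hw) :=
        (ShortComplex.exact_iff_epi_kernel_lift (ShortComplex.mk _ _ hw)).1 hex
      have hmono' : Mono (kernel.lift _ _ hw) := by
        have : Mono (kernel.lift _ _ hw ≫ kernel.ι _) := by
          rw [kernel.lift_ι]
          exact hmono
        exact mono_of_mono _ (kernel.ι _)
      have hiso : IsIso (kernel.lift _ _ hw) := isIso_of_mono_of_epi _
      have hK := (Groth.Agent.S9514.result X (hcohk 1 le_rfl (by omega))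
        (hcohk 2 (by omega) (by omega)) (S.map' 1 2 (by omega) (by omega))).1
      exact Groth.Agent.Lib.R2H2.PnHilbPoly.isCoh_of_iso (asIso (kernel.lift _ _ hw)).symm hK
  have hq : (S.obj 0).IsQuasicoherent := hG.1
  have hft : SheafOfModules.IsFiniteType (R := X.ringCatSheaf) (S.obj 0) := hG.2
  have hfp : SheafOfModules.IsFinitePresentation (R := X.ringCatSheaf) (S.obj 0) :=
    Groth.Agent.Lib.Helper23.FinType.isFinitePresentation_of_isFiniteType (S.obj 0)
  rw [Groth.Agent.Lib.H9FreeFib.isFinLocFree_iff_forall_free (S.obj 0)]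
  intro x
  have hfin : Module.Finite (X.presheaf.stalk x) ((S.obj 0).presheaf.stalk x) :=
    Groth.Agent.Lib.Helper2.FibreCrit.finite_stalk (S.obj 0) x
  have hregx := hreg x
  -- dimension of the local ring
  have hle : ringKrullDim (X.presheaf.stalk x) ≤ (m : WithBot ℕ∞) :=
    (Groth.Agent.Lib.Helper4.FibDim.ringKrullDim_stalk_le_topologicalKrullDim X x).trans hdim
  obtain ⟨d, hd⟩ : ∃ d : ℕ, ringKrullDim (X.presheaf.stalk x) = (d : WithBot ℕ∞) := by
    have hne_bot : ringKrullDim (X.presheaf.stalk x) ≠ ⊥ := ringKrullDim_ne_bot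
    obtain ⟨e, he⟩ := WithBot.ne_bot_iff_exists.mp hne_bot
    have he' : e ≠ ⊤ := by
      rintro rfl
      rw [← he] at hle
      have h2 : ((⊤ : ℕ∞) : WithBot ℕ∞) ≤ ((m : ℕ∞) : WithBot ℕ∞) := hle
      rw [WithBot.coe_le_coe] at h2
      exact absurd h2 (by simp)
    obtain ⟨d, rfl⟩ := ENat.ne_top_iff_exists.mp he'
    exact ⟨d, he.symm⟩
  have hdm : d ≤ m := by
    rw [hd] at hle
    exact_mod_cast hle
  -- the stalk sequence
  let Φ := Groth.Agent.Lib.Helper1.Sky.stalkFun x
  have hS' := Groth.Agent.Lib.R2H3.Syzygy.exact_mapComposableArrows Φ S hS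
  have hproj : Projective (Φ.obj (S.obj 0)) := by
    refine Groth.Agent.Lib.R2H3.Syzygy.projective_of_exact m
      ((Φ.mapComposableArrows (m + 1)).obj S) hS' ?_ ?_ ?_ ?_
    · change Mono (Φ.map (S.map' 0 1 (Nat.zero_le 1) (Nat.le_add_left 1 m)))
      infer_instance
    · change Epi (Φ.map (S.map' m (m + 1) (Nat.le_succ m) (le_refl (m + 1))))
      infer_instance
    · intro i
      have hfp' := Groth.Agent.Lib.Helper2.LocFree.isFP_of_isFinLocFree _ (hE i)
      have hqE : (S.obj ⟨i.1 + 1, Nat.succ_lt_succ (Nat.lt_succ_of_lt i.2)⟩).IsQuasicoherent :=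
        (Groth.Agent.Lib.R2H2.PnLocFree.isCoh_of_isFinLocFree _ (hE i)).1
      have hfree := (Groth.Agent.Lib.H9FreeFib.isFinLocFree_iff_forall_free _).1 (hE i) x
      change Projective (ModuleCat.of (X.presheaf.stalk x)
        ((S.obj ⟨i.1 + 1, Nat.succ_lt_succ (Nat.lt_succ_of_lt i.2)⟩).presheaf.stalk x))
      rw [← IsProjective.iff_projective]
      infer_instance
    · have h1 := Groth.Agent.S0563.result (X.presheaf.stalk x) d hd
        ((S.obj (Fin.last (m + 1))).presheaf.stalk x)
      have h2 : HasProjectiveDimensionLT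
          (((Φ.mapComposableArrows (m + 1)).obj S).obj (Fin.last (m + 1))) (d + 1) := h1
      exact hasProjectiveDimensionLT_of_ge _ (d + 1) (m + 1) (by omega)
  have hproj' : Module.Projective (X.presheaf.stalk x) ((S.obj 0).presheaf.stalk x) := by
    rw [IsProjective.iff_projective]
    exact hproj
  exact Module.free_of_flat_of_isLocalRing

end Groth.Agent.S16240
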