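import Groth.Statements.S16242
import Groth.Agent.Lib.Helper8NodeK0
-- import your own Groth.Agent.* helpers here

set_option autoImplicit false
universe u
open CategoryTheory
open KZero

namespace Groth.Agent.S16242

section aux

variable (k : Type u) [Field k]

/-- evaluation `X i ↦ 0`, the other variable `↦` the polynomial variable. -/
noncomputable def ev (i : Fin 2) : MvPolynomial (Fin 2) k →+* Polynomial k :=
  MvPolynomial.eval₂Hom Polynomial.C (fun l => if l = i then 0 else Polynomial.X)

/-- the polynomial variable `↦ X j`. -/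
noncomputable def th (j : Fin 2) : Polynomial k →+* MvPolynomial (Fin 2) k :=
  Polynomial.eval₂RingHom MvPolynomial.C (MvPolynomial.X j)

theorem ev_C (i : Fin 2) (a : k) : ev k i (MvPolynomial.C a) = Polynomial.C a := by
  simp [ev]

theorem ev_X_self (i : Fin 2) : ev k i (MvPolynomial.X i) = 0 := by
  simp [ev]

theorem ev_X_ne (i j : Fin 2) (hij : i ≠ j) : ev k i (MvPolynomial.X j) = Polynomial.X := by
  simp [ev, hij.symm]

theorem th_C (j : Fin 2) (a : k) : th k j (Polynomial.C a) = MvPolynomial.C a := by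
  simp [th]

theorem th_X (j : Fin 2) : th k j Polynomial.X = MvPolynomial.X j := by
  simp [th]

theorem ev_comp_th (i j : Fin 2) (hij : i ≠ j) : (ev k i).comp (th k j) = RingHom.id _ := by
  apply Polynomial.ringHom_ext
  · intro a
    rw [RingHom.comp_apply, th_C, ev_C, RingHom.id_apply]
  · rw [RingHom.comp_apply, th_X, ev_X_ne k i j hij, RingHom.id_apply]

theorem ev_surjective (i j : Fin 2) (hij : i ≠ j) : Function.Surjective (ev k i) := by
  intro P
  refine ⟨th k j P, ?_⟩
  have := congrArg (fun h => h P) (ev_comp_th k i j hij)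
  simpa using this

theorem fin2_cases (i j : Fin 2) (hij : i ≠ j) (l : Fin 2) : l = i ∨ l = j := by
  have h1 := l.2
  have h2 := i.2
  have h3 := j.2
  have h4 := Fin.val_ne_of_ne hij
  rw [Fin.ext_iff, Fin.ext_iff]
  omega

theorem sub_th_ev_mem (i j : Fin 2) (hij : i ≠ j) (g : MvPolynomial (Fin 2) k) :
    g - th k j (ev k i g) ∈ Ideal.span {(MvPolynomial.X i : MvPolynomial (Fin 2) k)} := by
  induction g using MvPolynomial.induction_on with
  | C a =>
    rw [ev_C, th_C, sub_self]
    exact zero_mem _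
  | add p q hp hq =>
    have : p + q - th k j (ev k i (p + q)) =
        (p - th k j (ev k i p)) + (q - th k j (ev k i q)) := by
      rw [map_add, map_add]
      ring
    rw [this]
    exact add_mem hp hq
  | mul_X p l hp =>
    rcases fin2_cases i j hij l with rfl | rfl
    · have : p * MvPolynomial.X l - th k j (ev k l (p * MvPolynomial.X l)) =
          p * MvPolynomial.X l := by
        rw [map_mul, ev_X_self, mul_zero, map_zero, sub_zero]
      rw [this]
      exact Ideal.mul_mem_left _ _ (Ideal.mem_span_singleton_self _)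
    · have : p * MvPolynomial.X l - th k l (ev k i (p * MvPolynomial.X l)) =
          (p - th k l (ev k i p)) * MvPolynomial.X l := by
        rw [map_mul, ev_X_ne k i l hij, map_mul, th_X]
        ring
      rw [this]
      exact Ideal.mul_mem_right _ _ hp

theorem ker_ev (i j : Fin 2) (hij : i ≠ j) :
    RingHom.ker (ev k i) = Ideal.span {(MvPolynomial.X i : MvPolynomial (Fin 2) k)} := by
  apply le_antisymm
  · intro g hg
    rw [RingHom.mem_ker] at hg
    have := sub_th_ev_mem k i j hij g
    rw [hg, map_zero, sub_zero] at this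
    exact this
  · rw [Ideal.span_singleton_le_iff_mem, RingHom.mem_ker]
    exact ev_X_self k i

theorem le_ker_ev (i : Fin 2) :
    Ideal.span {(MvPolynomial.X 0 * MvPolynomial.X 1 : MvPolynomial (Fin 2) k)} ≤
      RingHom.ker (ev k i) := by
  rw [Ideal.span_singleton_le_iff_mem, RingHom.mem_ker, map_mul]
  rcases fin2_cases 0 1 (by decide) i with rfl | rfl
  · rw [ev_X_self, zero_mul]
  · rw [ev_X_self, mul_zero]

end aux

/-- Let k be a field and A = k[x, y]/(xy) (polynomial ring in two variables x = X_0, y = X_1 modulo xy).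
In the Grothendieck group of finitely generated A-modules (free abelian group on them modulo short
exact sequences), the classes of A/(x) ≅ k[y] and A/(y) ≅ k[x] form a basis: the homomorphism ℤ × ℤ
⟶ K₀ sending (a, b) to a·[A/(x)] + b·[A/(y)] is bijective. -/
theorem result (k : Type u) [Field k] :
    Function.Bijective (fun p : ℤ × ℤ =>
      p.1 • KZero.clSub (fun M : ModuleCat.{u} (MvPolynomial (Fin 2) k ⧸ Ideal.span {(MvPolynomial.X 0 * MvPolynomial.X 1 : MvPolynomial (Fin 2) k)}) => Module.Finite (MvPolynomial (Fin 2) k ⧸ Ideal.span {(MvPolynomial.X 0 * MvPolynomial.X 1 : MvPolynomial (Fin 2) k)}) M)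
          (ModuleCat.of (MvPolynomial (Fin 2) k ⧸ Ideal.span {(MvPolynomial.X 0 * MvPolynomial.X 1 : MvPolynomial (Fin 2) k)}) ((MvPolynomial (Fin 2) k ⧸ Ideal.span {(MvPolynomial.X 0 * MvPolynomial.X 1 : MvPolynomial (Fin 2) k)}) ⧸ Ideal.span {Ideal.Quotient.mk (Ideal.span {(MvPolynomial.X 0 * MvPolynomial.X 1 : MvPolynomial (Fin 2) k)}) (MvPolynomial.X 0)})) +
        p.2 • KZero.clSub (fun M : ModuleCat.{u} (MvPolynomial (Fin 2) k ⧸ Ideal.span {(MvPolynomial.X 0 * MvPolynomial.X 1 : MvPolynomial (Fin 2) k)}) => Module.Finite (MvPolynomial (Fin 2) k ⧸ Ideal.span {(MvPolynomial.X 0 * MvPolynomial.X 1 : MvPolynomial (Fin 2) k)}) M)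
          (ModuleCat.of (MvPolynomial (Fin 2) k ⧸ Ideal.span {(MvPolynomial.X 0 * MvPolynomial.X 1 : MvPolynomial (Fin 2) k)}) ((MvPolynomial (Fin 2) k ⧸ Ideal.span {(MvPolynomial.X 0 * MvPolynomial.X 1 : MvPolynomial (Fin 2) k)}) ⧸ Ideal.span {Ideal.Quotient.mk (Ideal.span {(MvPolynomial.X 0 * MvPolynomial.X 1 : MvPolynomial (Fin 2) k)}) (MvPolynomial.X 1)}))) := by
  have h01 : (0 : Fin 2) ≠ 1 := by decide
  have h10 : (1 : Fin 2) ≠ 0 := by decide
  have hsurj : ∀ i j : Fin 2, i ≠ j → Function.Surjective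
      (Ideal.Quotient.lift (Ideal.span {(MvPolynomial.X 0 * MvPolynomial.X 1 :
        MvPolynomial (Fin 2) k)}) (ev k i) (le_ker_ev k i)) := by
    intro i j hij P
    obtain ⟨g, hg⟩ := ev_surjective k i j hij P
    exact ⟨Ideal.Quotient.mk _ g, by rw [Ideal.Quotient.lift_mk]; exact hg⟩
  have hker : ∀ i j : Fin 2, i ≠ j → RingHom.ker
      (Ideal.Quotient.lift (Ideal.span {(MvPolynomial.X 0 * MvPolynomial.X 1 :
        MvPolynomial (Fin 2) k)}) (ev k i) (le_ker_ev k i)) =
      Ideal.span {Ideal.Quotient.mk (Ideal.span {(MvPolynomial.X 0 * MvPolynomial.X 1 :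
        MvPolynomial (Fin 2) k)}) (MvPolynomial.X i)} := by
    intro i j hij
    rw [Ideal.ker_quotient_lift, ker_ev k i j hij, Ideal.map_span, Set.image_singleton]
  have hxy : Ideal.Quotient.mk (Ideal.span {(MvPolynomial.X 0 * MvPolynomial.X 1 :
      MvPolynomial (Fin 2) k)}) (MvPolynomial.X 0) *
      Ideal.Quotient.mk (Ideal.span {(MvPolynomial.X 0 * MvPolynomial.X 1 :
      MvPolynomial (Fin 2) k)}) (MvPolynomial.X 1) = 0 := by
    rw [← map_mul, Ideal.Quotient.eq_zero_iff_mem]
    exact Ideal.mem_span_singleton_self _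
  exact Groth.Agent.Lib.Helper8NodeK0.node_bijective
    (Ideal.Quotient.mk _ (MvPolynomial.X 0)) (Ideal.Quotient.mk _ (MvPolynomial.X 1)) hxy
    (Ideal.Quotient.lift _ (ev k 0) (le_ker_ev k 0))
    (Ideal.Quotient.lift _ (ev k 1) (le_ker_ev k 1))
    (hsurj 0 1 h01) (hsurj 1 0 h10) (hker 0 1 h01) (hker 1 0 h10)
    (by rw [Ideal.Quotient.lift_mk, ev_X_ne k 0 1 h01]; exact Polynomial.X_ne_zero)
    (by rw [Ideal.Quotient.lift_mk, ev_X_ne k 1 0 h10]; exact Polynomial.X_ne_zero)

end Groth.Agent.S16242
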