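import Groth.Statements.S16281
import Groth.Agent.Lib.R2H3OpenShriek
import Groth.Agent.Lib.R2H3RpushRestrict

set_option autoImplicit false
set_option linter.style.haveILetI false
universe u
open CategoryTheory CategoryTheory.Limits AlgebraicGeometry
open Coherent

namespace Groth.Agent.S16281

/-- Let f : X → Y be a morphism of schemes, F and G O_X-modules, W ⊆ Y an open subscheme and p ≥ 0.
Write Ext^p_f(F, -) for the p-th right derived functor of the left exact functor G ↦ f_*
Hom_{O_X}(F, G) from O_X-modules to O_Y-modules (the relative Ext sheaves). Then the restriction of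
Ext^p_f(F, G) to W is isomorphic to Ext^p_{f'}(F|_{f⁻¹W}, G|_{f⁻¹W}), where f' : f⁻¹W → W is the
restricted morphism. (Stated for schemes, the published statement being for ringed spaces; existence
of an isomorphism of O_W-modules only. The internal Hom functors, injective resolutions and
additivity of the composite functors on X and on f⁻¹W are the stated instance hypotheses, all true.) -/
theorem result (X Y : Scheme.{u}) (f : X ⟶ Y) (W : Y.Opens)
    (F G : X.Modules) (p : ℕ)
    [ModSite.HasSheafHom (O := X.sheaf) F] [HasInjectiveResolutions (ModSite.Mod X.sheaf)]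
    [(ModSite.sheafHom (O := X.sheaf) F ⋙ Scheme.Modules.pushforward f).Additive]
    [ModSite.HasSheafHom (O := (↑(f ⁻¹ᵁ W) : Scheme.{u}).sheaf) (F.restrict (f ⁻¹ᵁ W).ι)]
    [HasInjectiveResolutions (ModSite.Mod (↑(f ⁻¹ᵁ W) : Scheme.{u}).sheaf)]
    [(ModSite.sheafHom (O := (↑(f ⁻¹ᵁ W) : Scheme.{u}).sheaf) (F.restrict (f ⁻¹ᵁ W).ι) ⋙ Scheme.Modules.pushforward (f ∣_ W)).Additive] :
    Nonempty ((Scheme.Modules.restrictFunctor W.ι).obj (((ModSite.sheafHom (O := X.sheaf) F ⋙ Scheme.Modules.pushforward f).rightDerived p).obj G) ≅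
      ((ModSite.sheafHom (O := (↑(f ⁻¹ᵁ W) : Scheme.{u}).sheaf) (F.restrict (f ⁻¹ᵁ W).ι) ⋙ Scheme.Modules.pushforward (f ∣_ W)).rightDerived p).obj
        (G.restrict (f ⁻¹ᵁ W).ι)) := by
  open Groth.Agent.Lib.R2H3.OpenShriek Groth.Agent.Lib.Helper21.DerPost in
  let V := f ⁻¹ᵁ W
  let S : ModSite.Mod X.sheaf ⥤ ModSite.Mod X.sheaf := ModSite.sheafHom (O := X.sheaf) F
  let S' : ModSite.Mod (↑V : Scheme.{u}).sheaf ⥤ ModSite.Mod (↑V : Scheme.{u}).sheaf :=
    ModSite.sheafHom (O := (↑V : Scheme.{u}).sheaf) (F.restrict V.ι)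
  let T : ModSite.Mod X.sheaf ⥤ Y.Modules := S ⋙ Scheme.Modules.pushforward f
  let T' : ModSite.Mod (↑V : Scheme.{u}).sheaf ⥤ (↑W : Scheme.{u}).Modules :=
    S' ⋙ Scheme.Modules.pushforward (f ∣_ W)
  let RW : Y.Modules ⥤ (↑W : Scheme.{u}).Modules := Scheme.Modules.restrictFunctor W.ι
  haveI : RW.Additive := additive_rst W.ι
  haveI : RW.PreservesHomology := inferInstance
  let e : T ⋙ RW ≅ rstS V.ι ⋙ T' :=
    Functor.associator _ _ _ ≪≫
      Functor.isoWhiskerLeft S (Groth.Agent.Lib.R2H3.RpushRestrict.restrictPushIso f W) ≪≫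
      (Functor.associator _ _ _).symm ≪≫
      Functor.isoWhiskerRight (restrSheafHomIsoS V.ι F) (Scheme.Modules.pushforward (f ∣_ W)) ≪≫
      Functor.associator _ _ _
  exact ⟨((postIso T RW p).symm ≪≫ natIsoRightDerived e p ≪≫
    Groth.Agent.Lib.Helper23DerComp.compIso (rstS V.ι) T' p).app G⟩

end Groth.Agent.S16281
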