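import Groth.Statements.S16282
import Groth.Agent.Lib.R2H1ProjLF
import Groth.Agent.Lib.Helper21Dual10

set_option autoImplicit false
set_option linter.style.haveILetI false
universe u
open CategoryTheory CategoryTheory.Limits AlgebraicGeometry
open Coherent


namespace Groth.Agent.Aux16282

open Groth.Agent.Lib.Helper21.ModTensor3 Groth.Agent.Lib.Helper21.ModTensor5
  Groth.Agent.Lib.Helper21.ModTensor6 Groth.Agent.Lib.Helper21.ModTensor7
  Groth.Agent.Lib.Helper21.Dual Groth.Agent.Lib.Helper21.DerPost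
  Groth.Agent.Lib.R2H1.ProjLF

attribute [local instance] Groth.Agent.Lib.Helper21.ExtShDelta.hasSheafHom

section Site

variable {C : Type u} [SmallCategory C] {J : GrothendieckTopology C} {O : Sheaf J CommRingCat.{u}}

/-- tensoring commutes: `(- ⊗ E) ⊗ D ≅ (- ⊗ D) ⊗ E` -/
noncomputable def tRComm (E D : ModSite.Mod O) : tR O E ⋙ tR O D ≅ tR O D ⋙ tR O E :=
  tRTensorIso O E D ≪≫ (ModSite.tensorBi O).flip.mapIso (brdApp O E D) ≪≫ (tRTensorIso O D E).symm

/-- `ℋom(F ⊗ L, -) ≅ ℋom(F, - ⊗ L^∨)` for `L` locally finite free -/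
noncomputable def homTensorIso (F L : ModSite.Mod O) (hL : IsLocFF L) :
    ModSite.sheafHom (((ModSite.tensorBi O).obj F).obj L) ≅ tR O (dual L) ⋙ ModSite.sheafHom F :=
  sheafHomTensorIso F L ≪≫ Functor.isoWhiskerRight (cIso L hL).symm (ModSite.sheafHom F)

/-- `ℋom(F, - ⊗ E) ≅ ℋom(F, -) ⊗ E` for `E` locally finite free -/
noncomputable def homCommIso (F E : ModSite.Mod O) (hE : IsLocFF E) :
    tR O E ⋙ ModSite.sheafHom F ≅ ModSite.sheafHom F ⋙ tR O E :=
  Functor.isoWhiskerRight (cIsoSw E hE) (ModSite.sheafHom F) ≪≫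
    (sheafHomTensorIso F (dual E)).symm ≪≫
    sheafHomCongr (brdApp O F (dual E)) ≪≫
    sheafHomTensorIso (dual E) F ≪≫
    Functor.isoWhiskerLeft (ModSite.sheafHom F) (cIsoSw E hE).symm

end Site

section Sch

variable {X Y : Scheme.{u}} (f : X ⟶ Y)

/-- the projection formula in the `- ⊗ E` form -/
noncomputable def prjIsoR (N : Y.Modules) (hN : FlatMod.IsFinLocFree N) :
    tR X.sheaf ((Scheme.Modules.pullback f).obj N) ⋙ Scheme.Modules.pushforward f ≅
      Scheme.Modules.pushforward f ⋙ tR Y.sheaf N :=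
  Functor.isoWhiskerRight ((brd X.sheaf).app ((Scheme.Modules.pullback f).obj N)).symm
      (Scheme.Modules.pushforward f) ≪≫
    (prjIso f N hN).symm ≪≫
    Functor.isoWhiskerLeft (Scheme.Modules.pushforward f) ((brd Y.sheaf).app N)

/-- the key isomorphism of functors -/
noncomputable def keyIso (F L : X.Modules) (N : Y.Modules) (hL : FlatMod.IsFinLocFree L)
    (hN : FlatMod.IsFinLocFree N) :
    tR X.sheaf ((Scheme.Modules.pullback f).obj N) ⋙
        (ModSite.sheafHom (O := X.sheaf) (CohB1.tensorMod F L) ⋙ Scheme.Modules.pushforward f) ≅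
      tR X.sheaf (dual (O := X.sheaf) L) ⋙
        ((ModSite.sheafHom (O := X.sheaf) F ⋙ Scheme.Modules.pushforward f) ⋙ tR Y.sheaf N) :=
  let E : X.Modules := (Scheme.Modules.pullback f).obj N
  have hE : IsLocFF (O := X.sheaf) E :=
    isLocFF_of_isFinLocFree E (Groth.Agent.Lib.R2H2.PullLF.isFinLocFree_pullback f N hN)
  have hL' : IsLocFF (O := X.sheaf) L := isLocFF_of_isFinLocFree L hL
  let D : ModSite.Mod X.sheaf := dual (O := X.sheaf) L
  let psh : ModSite.Mod X.sheaf ⥤ Y.Modules := Scheme.Modules.pushforward f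
  let i1 : tR X.sheaf E ⋙ (ModSite.sheafHom (O := X.sheaf) (CohB1.tensorMod F L) ⋙ psh) ≅
      tR X.sheaf E ⋙ ((tR X.sheaf D ⋙ ModSite.sheafHom (O := X.sheaf) F) ⋙ psh) :=
    Functor.isoWhiskerLeft (tR X.sheaf E)
      (Functor.isoWhiskerRight (homTensorIso (O := X.sheaf) F L hL') psh)
  let i2 : (tR X.sheaf E ⋙ tR X.sheaf D) ⋙ (ModSite.sheafHom (O := X.sheaf) F ⋙ psh) ≅
      (tR X.sheaf D ⋙ tR X.sheaf E) ⋙ (ModSite.sheafHom (O := X.sheaf) F ⋙ psh) :=
    Functor.isoWhiskerRight (tRComm (O := X.sheaf) E D) _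
  let i3 : tR X.sheaf D ⋙ ((tR X.sheaf E ⋙ ModSite.sheafHom (O := X.sheaf) F) ⋙ psh) ≅
      tR X.sheaf D ⋙ ((ModSite.sheafHom (O := X.sheaf) F ⋙ tR X.sheaf E) ⋙ psh) :=
    Functor.isoWhiskerLeft (tR X.sheaf D)
      (Functor.isoWhiskerRight (homCommIso (O := X.sheaf) F E hE) psh)
  let i4 : tR X.sheaf D ⋙ (ModSite.sheafHom (O := X.sheaf) F ⋙ (tR X.sheaf E ⋙ psh)) ≅
      tR X.sheaf D ⋙ (ModSite.sheafHom (O := X.sheaf) F ⋙ (psh ⋙ tR Y.sheaf N)) :=
    Functor.isoWhiskerLeft (tR X.sheaf D)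
      (Functor.isoWhiskerLeft (ModSite.sheafHom (O := X.sheaf) F) (prjIsoR f N hN))
  i1 ≪≫ (Iso.refl _ : _ ≅ (tR X.sheaf E ⋙ tR X.sheaf D) ⋙
      (ModSite.sheafHom (O := X.sheaf) F ⋙ psh)) ≪≫ i2 ≪≫
    (Iso.refl _ : _ ≅ tR X.sheaf D ⋙ ((tR X.sheaf E ⋙ ModSite.sheafHom (O := X.sheaf) F) ⋙ psh)) ≪≫
    i3 ≪≫
    (Iso.refl _ : _ ≅ tR X.sheaf D ⋙ (ModSite.sheafHom (O := X.sheaf) F ⋙ (tR X.sheaf E ⋙ psh))) ≪≫
    i4 ≪≫ (Iso.refl _ : _ ≅ _)

end Sch

end Groth.Agent.Aux16282

namespace Groth.Agent.S16282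

/-- Let f : X → Y be a morphism of schemes, F and G O_X-modules, L a finite locally free O_X-module with
dual L^∨ = Hom_{O_X}(L, O_X), N a finite locally free O_Y-module and p ≥ 0. Write Ext^p_f(M, -) for
the p-th right derived functor of the left exact functor G ↦ f_* Hom_{O_X}(M, G) from O_X-modules to
O_Y-modules. Then Ext^p_f(F ⊗ L, G ⊗ f^*N) is isomorphic to Ext^p_f(F, G ⊗ L^∨) ⊗ N. (Stated for
schemes, the published statement being for ringed spaces and a chain of two functorial isomorphisms;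
existence of an isomorphism of O_Y-modules only. The internal Hom functors, injective resolutions
and additivity of the composite functors are the stated instance hypotheses, all true.) -/
theorem result (X Y : Scheme.{u}) (f : X ⟶ Y) (F G L : X.Modules) (N : Y.Modules)
    (hL : FlatMod.IsFinLocFree L) (hN : FlatMod.IsFinLocFree N) (p : ℕ)
    [ModSite.HasSheafHom (O := X.sheaf) F] [ModSite.HasSheafHom (O := X.sheaf) L]
    [ModSite.HasSheafHom (O := X.sheaf) (CohB1.tensorMod F L)] [HasInjectiveResolutions (ModSite.Mod X.sheaf)]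
    [(ModSite.sheafHom (O := X.sheaf) F ⋙ Scheme.Modules.pushforward f).Additive]
    [(ModSite.sheafHom (O := X.sheaf) (CohB1.tensorMod F L) ⋙ Scheme.Modules.pushforward f).Additive] :
    Nonempty (((ModSite.sheafHom (O := X.sheaf) (CohB1.tensorMod F L) ⋙ Scheme.Modules.pushforward f).rightDerived p).obj
        (CohB1.tensorMod G ((Scheme.Modules.pullback f).obj N)) ≅
      CohB1.tensorMod (((ModSite.sheafHom (O := X.sheaf) F ⋙ Scheme.Modules.pushforward f).rightDerived p).obj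
        (CohB1.tensorMod G ((ModSite.sheafHom (O := X.sheaf) L).obj (Coh.structureModule X)))) N) := by
  classical
  let E : X.Modules := (Scheme.Modules.pullback f).obj N
  have hE : Groth.Agent.Lib.Helper21.Dual.IsLocFF (O := X.sheaf) E :=
    Groth.Agent.Lib.Helper21.Dual.isLocFF_of_isFinLocFree E
      (Groth.Agent.Lib.R2H2.PullLF.isFinLocFree_pullback f N hN)
  have hL' : Groth.Agent.Lib.Helper21.Dual.IsLocFF (O := X.sheaf) L :=
    Groth.Agent.Lib.Helper21.Dual.isLocFF_of_isFinLocFree L hL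
  have hN' : Groth.Agent.Lib.Helper21.Dual.IsLocFF (O := Y.sheaf) N :=
    Groth.Agent.Lib.Helper21.Dual.isLocFF_of_isFinLocFree N hN
  let D : ModSite.Mod X.sheaf := Groth.Agent.Lib.Helper21.Dual.dual (O := X.sheaf) L
  let TFL : ModSite.Mod X.sheaf ⥤ Y.Modules :=
    ModSite.sheafHom (O := X.sheaf) (CohB1.tensorMod F L) ⋙ Scheme.Modules.pushforward f
  let TF : ModSite.Mod X.sheaf ⥤ Y.Modules :=
    ModSite.sheafHom (O := X.sheaf) F ⋙ Scheme.Modules.pushforward f
  haveI : TFL.Additive := ‹_›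
  haveI : TF.Additive := ‹_›
  let tE := Groth.Agent.Lib.Helper21.ModTensor3.tR X.sheaf E
  let tD := Groth.Agent.Lib.Helper21.ModTensor3.tR X.sheaf D
  let tN : Y.Modules ⥤ Y.Modules := Groth.Agent.Lib.Helper21.ModTensor3.tR Y.sheaf N
  haveI : PreservesFiniteLimits tE :=
    Groth.Agent.Lib.Helper21.Dual.preservesFiniteLimits_tR_of_isLocFF E hE
  haveI : tE.PreservesInjectiveObjects :=
    ⟨fun {I} hI => Groth.Agent.Lib.Helper21.Dual.injective_tR_obj E hE I⟩
  haveI : PreservesFiniteLimits tD :=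
    Groth.Agent.Lib.Helper21.Dual.preservesFiniteLimits_tR_dual L hL'
  haveI : tD.PreservesInjectiveObjects :=
    Groth.Agent.Lib.Helper21.Dual.preservesInjectiveObjects_tR_dual L hL'
  haveI : PreservesFiniteLimits tN :=
    Groth.Agent.Lib.Helper21.Dual.preservesFiniteLimits_tR_of_isLocFF N hN'
  haveI : PreservesFiniteColimits tE := inferInstance
  haveI : PreservesFiniteColimits tD := inferInstance
  haveI : PreservesFiniteColimits tN :=
    Groth.Agent.Lib.Helper21.ModTensor5.tR_preservesFiniteColimits Y.sheaf N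
  haveI : tE.Additive := Groth.Agent.Lib.Helper21.ModTensor5.tR_additive X.sheaf E
  haveI : tD.Additive := Groth.Agent.Lib.Helper21.ModTensor5.tR_additive X.sheaf D
  haveI : tN.Additive := Groth.Agent.Lib.Helper21.ModTensor5.tR_additive Y.sheaf N
  haveI : tE.PreservesHomology := inferInstance
  haveI : tD.PreservesHomology := inferInstance
  haveI : tN.PreservesHomology := inferInstance
  let e1 := (Groth.Agent.Lib.Helper23DerComp.compIso tE TFL p).app G
  let e2 := (Groth.Agent.Lib.Helper21.DerPost.natIsoRightDerived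
    (Groth.Agent.Aux16282.keyIso f F L N hL hN) p).app G
  let e3 := (Groth.Agent.Lib.Helper23DerComp.compIso tD (TF ⋙ tN) p).app G
  let e4 := (Groth.Agent.Lib.Helper21.DerPost.postIso TF tN p).app (tD.obj G)
  exact ⟨e1.symm ≪≫ e2 ≪≫ e3 ≪≫ e4⟩

end Groth.Agent.S16282
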