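import Groth.Statements.S16296
import Groth.Agent.Lib.Helper8NefGZ

set_option autoImplicit false
universe u
open CategoryTheory CategoryTheory.Limits AlgebraicGeometry
open Curves

namespace Groth.Agent.S16296

/-- Let k be a field and X a proper scheme over k of dimension one (not assumed reduced or irreducible)
with H^1(X, O_X) = 0, and L a nef invertible O_X-module (nonnegative degree over k on every integral
one-dimensional closed subscheme of X). Then dim_k H^0(X, L) = dim_k H^0(X, O_X) + deg_k L, where
deg_k L = χ(X, L) - χ(X, O_X). -/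
theorem result (k : Type u) [Field k] (X : Scheme.{u}) [X.Over (Spec (CommRingCat.of k))]
    [IsProper (X ↘ (Spec (CommRingCat.of k)))] (hdim : topologicalKrullDim X = 1)
    (h1 : Subsingleton (Coh.HH X (Coh.structureModule X) 1))
    (L : X.Modules) (hL : PicF.IsInvertible L)
    (hnef : ∀ J : X.IdealSheafData, IsIntegral J.subscheme → topologicalKrullDim J.subscheme = 1 →
      0 ≤ @Curv2.deg k _ J.subscheme ⟨J.subschemeι ≫ (X ↘ (Spec (CommRingCat.of k)))⟩
        ((Scheme.Modules.pullback J.subschemeι).obj L) 1) :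
    (Module.finrank k (Coh.HH X L 0) : ℤ) =
      Module.finrank k (Coh.HH X (Coh.structureModule X) 0) + Curv2.deg k X L 1 := by
  obtain ⟨hL1, -⟩ := Groth.Agent.Lib.Helper8NefGZ.main k X hdim.le h1 L hL hnef
  have hLc := Groth.Agent.Lib.R2H1.CurveDegSec.isCoh_of_isInvertible L hL
  have hOc := Groth.Agent.Lib.R2H1.GenusLe.isCoh_structureModule X
  have e1 := Groth.Agent.Lib.R2H1.CurveEuler.euler_eq_h0_sub_h1 k X hdim.le L hLc.1
  have e2 := Groth.Agent.Lib.R2H1.CurveEuler.euler_eq_h0_sub_h1 k X hdim.le (Coh.structureModule X) hOc.1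
  have z1 : Module.finrank k (Coh.HH X L 1) = 0 := Module.finrank_zero_of_subsingleton
  have z2 : Module.finrank k (Coh.HH X (Coh.structureModule X) 1) = 0 :=
    Module.finrank_zero_of_subsingleton
  unfold Curv2.deg
  rw [e1, e2, z1, z2]
  push_cast
  ring

end Groth.Agent.S16296
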