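import Groth.Statements.S16354
import Groth.Agent.Lib.H6xPfE

set_option autoImplicit false
universe u
open Cubic

namespace Groth.Agent.S16354

/-- Let k be a subfield of ℝ (a field equipped with an embedding into the reals) and S = V(F) ⊂ P^3 the
cubic surface of a homogeneous cubic F ∈ k[x_0, …, x_3] which is geometrically irreducible and not a
cone (no nonzero vector v has Σ_i v_i ∂F/∂x_i = 0). Then S admits a linear Pfaffian representation
over a real intermediate field k ⊆ E ⊆ ℝ of degree [E : k] ≤ 3. A linear Pfaffian representation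
over E is a 6 × 6 alternating matrix M of linear forms in E[x_0, …, x_3] whose Pfaffian is a nonzero
constant multiple of F; since the determinant of an alternating matrix is the square of its Pfaffian
and the polynomial ring is factorial with no nonconstant units, this is the same as det M = c · F^2
for a nonzero constant c, which is how it is written here. -/
theorem result (k : Type u) [Field k] [Algebra k ℝ]
    (F : MvPolynomial (Fin 4) k) (hF : F.IsHomogeneous 3)
    (hirr : Irreducible (MvPolynomial.map (algebraMap k (AlgebraicClosure k)) F))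
    (hcone : ¬ ∃ v : Fin 4 → k, v ≠ 0 ∧ ∑ i : Fin 4, v i • MvPolynomial.pderiv i F = 0) :
    ∃ E : IntermediateField k ℝ, FiniteDimensional k ↥E ∧ Module.finrank k ↥E ≤ 3 ∧
      ∃ M : Matrix (Fin 6) (Fin 6) (MvPolynomial (Fin 4) ↥E), (∀ i j, (M i j).IsHomogeneous 1) ∧ M.transpose = -M ∧ (∀ i, M i i = 0) ∧
        ∃ c : ↥E, c ≠ 0 ∧ M.det = MvPolynomial.C c * (MvPolynomial.map (algebraMap k ↥E) F) ^ 2 := by
  classical
  haveI : CharZero k := (algebraMap k ℝ).charZero
  have hF0 : F ≠ 0 := by
    rintro rfl
    rw [map_zero] at hirr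
    exact not_irreducible_zero hirr
  obtain ⟨o, ho⟩ : ∃ o : Fin 4 → k, MvPolynomial.eval o F ≠ 0 := by
    by_contra hcon
    push Not at hcon
    exact hF0 (MvPolynomial.funext fun x => by rw [hcon x, map_zero])
  obtain ⟨i, hoi⟩ : ∃ i, o i ≠ 0 := by
    by_contra hcon
    push Not at hcon
    have : o = 0 := funext hcon
    apply ho
    rw [this]
    have := Groth.Agent.Lib.H6xCubicForm.eval_smul hF (0 : k) (0 : Fin 4 → k)
    rw [zero_smul] at this
    rw [this]
    ring
  obtain ⟨j, hji⟩ : ∃ j : Fin 4, j ≠ i := by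
    by_cases h : i = 0
    · exact ⟨1, by rw [h]; decide⟩
    · exact ⟨0, fun h' => h h'.symm⟩
  set v : Fin 4 → k := Pi.single j 1 with hv
  set g := Groth.Agent.Lib.H6xPf.lineCubic F o v with hg
  have hgdeg : g.natDegree = 3 := Groth.Agent.Lib.H6xPf.natDegree_lineCubic F o v ho
  have hg0 : g ≠ 0 := by
    intro h
    rw [h] at hgdeg
    simp at hgdeg
  obtain ⟨σ0, hσ0'⟩ := Groth.Agent.Lib.H6xPf.exists_real_root_cubic
    (algebraMap k ℝ (MvPolynomial.eval o F))
    (algebraMap k ℝ (Groth.Agent.Lib.H6xCubicForm.D F o v))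
    (algebraMap k ℝ (Groth.Agent.Lib.H6xCubicForm.D F v o))
    (algebraMap k ℝ (MvPolynomial.eval v F))
    ((map_ne_zero_iff _ (FaithfulSMul.algebraMap_injective k ℝ)).mpr ho)
  have hσ0 : Polynomial.aeval σ0 g = 0 := by
    rw [hg, Groth.Agent.Lib.H6xPf.lineCubic]
    simp only [map_add, map_mul, map_pow, Polynomial.aeval_C, Polynomial.aeval_X]
    exact hσ0'
  have hint : IsIntegral k σ0 := isAlgebraic_iff_isIntegral.mp ⟨g, hg0, hσ0⟩
  refine ⟨IntermediateField.adjoin k {σ0}, IntermediateField.adjoin.finiteDimensional hint, ?_, ?_⟩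
  · rw [IntermediateField.adjoin.finrank hint, ← hgdeg]
    exact Polynomial.natDegree_le_of_dvd (minpoly.dvd k σ0 hσ0) hg0
  · haveI : FiniteDimensional k (IntermediateField.adjoin k {σ0}) :=
      IntermediateField.adjoin.finiteDimensional hint
    set s : IntermediateField.adjoin k {σ0} := IntermediateField.AdjoinSimple.gen k σ0 with hs
    have hsg : Polynomial.aeval s g = 0 := by
      have hinj : Function.Injective (algebraMap (IntermediateField.adjoin k {σ0}) ℝ) :=
        FaithfulSMul.algebraMap_injective _ _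
      apply hinj
      rw [map_zero, ← Polynomial.aeval_algebraMap_apply, hs,
        IntermediateField.AdjoinSimple.algebraMap_gen]
      exact hσ0
    refine Groth.Agent.Lib.H6xPf.exists_pfaffian_ext k F hF hirr hcone
      (IntermediateField.adjoin k {σ0})
      (s • (algebraMap k _ ∘ o) + algebraMap k _ ∘ v)
      (Groth.Agent.Lib.H6xPf.line_point_ne_zero o i j hji hoi s) ?_
    rw [Groth.Agent.Lib.H6xPf.eval_line F hF o v s]
    exact hsg

end Groth.Agent.S16354
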