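import Groth.Statements.S1636
import Groth.Agent.Lib.Helper8CLS2
import Groth.Agent.Lib.R2H1GenusZero
import Groth.Agent.Lib.R2H1CurveAmple

set_option autoImplicit false
universe u
open CategoryTheory CategoryTheory.Limits AlgebraicGeometry
open Curves

namespace Groth.Agent.S1636

/-- Let X be a proper curve over k with global functions k and genus 0, and L an invertible module of
degree d > 0. Then there is a closed immersion i : X → P^d_k over k with i^* O(1) ≅ L. -/
theorem result (k : Type u) [Field k] (X : Scheme.{u}) [X.Over (Spec (CommRingCat.of k))]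
    [IsIntegral X] [IsProper (X ↘ (Spec (CommRingCat.of k)))] (hdim : topologicalKrullDim X = 1)
    (h0 : Module.finrank k (Coh.HH X (Coh.structureModule X) 0) = 1) (hg : Curv2.genus k X = 0)
    (L : X.Modules) (hL : PicF.IsInvertible L) (d : ℕ) (hd : 0 < d) (hdeg : Curv2.deg k X L 1 = d) :
    ∃ i : X ⟶ CohB1.ProjSpace d k, IsClosedImmersion i ∧ i ≫ CohB1.ProjSpace.toSpec d k = X ↘ (Spec (CommRingCat.of k)) ∧
      Nonempty ((Scheme.Modules.pullback i).obj (Twist.twistProjSpace d k 1) ≅ L) := by
  obtain ⟨hh0, hh1⟩ := Groth.Agent.Lib.R2H1.GenusZero.s1635 k X hdim h0 hg L hL d hd hdeg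
  have hLa : CohB1.IsAmple L :=
    (Groth.Agent.Lib.R2H1.CurveAmple.s1530 k X hdim L hL).2 (by rw [hdeg]; exact_mod_cast hd)
  have hO := Groth.Agent.Lib.Helper23.TensorUnit.isInvertible_structureModule X
  have hOc := Groth.Agent.Lib.R2H1.CurveDegSec.isCoh_of_isInvertible _ hO
  haveI := Groth.Agent.Lib.R2H1.EulerAdd.finite_HH k X _ hOc 1
  have h1 : Subsingleton (Coh.HH X (Coh.structureModule X) 1) := Module.finrank_zero_iff.mp hg
  have hn : Module.finrank k (Coh.structureModule X ⟶ L) = d + 1 := by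
    rw [← hh0]
    exact LinearEquiv.finrank_eq (Groth.Agent.Lib.R2H2.PnBeilinson.clsEquiv L)
  exact Groth.Agent.Lib.Helper8CLS2.main k X h1 hdim.le L hLa d hn

end Groth.Agent.S1636
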