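import Groth.Statements.S1639
import Mathlib
import Groth.Agent.Lib.R2H4NormInv
import Groth.Agent.Lib.R2H4NormNormal
import Groth.Agent.Lib.Helper6EquiSubB
import Groth.Agent.Lib.Helper11RedCl
import Groth.Agent.Lib.Helper23PB

set_option autoImplicit false
universe u
open CategoryTheory CategoryTheory.Limits AlgebraicGeometry
open Divisors

namespace Groth.Agent.S1639

/-- Let π : X → Y be finite and surjective, with Y integral and normal. If X has an ample invertible
module then so does Y. -/
theorem result {X Y : Scheme.{u}} (π : X ⟶ Y) [IsFinite π] [Surjective π]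
    [IsIntegral Y] (hY : Pi1.IsNormalScheme Y) (L : X.Modules) (hL : CohB1.IsAmple L) :
    ∃ M : Y.Modules, CohB1.IsAmple M := by
  classical
  obtain ⟨x, hx⟩ := π.surjective (genericPoint Y)
  let X' : TopologicalSpace.Closeds X := ⟨closure ({x} : Set X), isClosed_closure⟩
  let I := Scheme.IdealSheafData.vanishingIdeal X'
  have hirr : IrreducibleSpace ↥I.subscheme :=
    Groth.Agent.Lib.Helper6.EquiSub.irreducibleSpace_subscheme X' x rfl
  have hred : IsReduced I.subscheme :=
    Groth.Agent.Lib.Helper11RedCl.isReduced_subscheme_vanishingIdeal X'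
  have hint : IsIntegral I.subscheme := isIntegral_of_irreducibleSpace_of_isReduced _
  have hfin : IsFinite (I.subschemeι ≫ π) := inferInstance
  have hrange : Set.range I.subschemeι = (X' : Set X) :=
    Groth.Agent.Lib.Helper11RedCl.range_subschemeι_vanishingIdeal X'
  have hsurj : Surjective (I.subschemeι ≫ π) := by
    refine ⟨fun y => ?_⟩
    have hcl : IsClosed (Set.range (I.subschemeι ≫ π)) :=
      (I.subschemeι ≫ π).isClosedMap.isClosed_range
    have hmem : genericPoint Y ∈ Set.range (I.subschemeι ≫ π) := by
      have hxm : x ∈ Set.range I.subschemeι := by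
        rw [hrange]; exact subset_closure rfl
      obtain ⟨z, hz⟩ := hxm
      exact ⟨z, by rw [Scheme.Hom.comp_apply, hz, hx]⟩
    have h1 : closure ({genericPoint Y} : Set Y) ⊆ Set.range (I.subschemeι ≫ π) :=
      hcl.closure_subset_iff.2 (Set.singleton_subset_iff.2 hmem)
    have h2 : closure ({genericPoint Y} : Set Y) = Set.univ := (genericPoint_spec Y)
    exact h1 (h2 ▸ Set.mem_univ y)
  obtain ⟨d, ⟨Nm⟩⟩ :=
    Groth.Agent.Lib.R2H4.NormNormal.hasNorm_of_finite_surjective_normal (I.subschemeι ≫ π) hY
  exact Groth.Agent.Lib.R2H4NormInv.exists_isAmple_of_normOfDegree (I.subschemeι ≫ π) Nm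
    ((Scheme.Modules.pullback I.subschemeι).obj L)
    (Groth.Agent.Lib.Helper23.PB.isAmple_pullback_of_isAffineHom I.subschemeι L hL)

end Groth.Agent.S1639
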