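import Groth.Statements.S1642
import Groth.Agent.Lib.R2H2PnReg
import Groth.Agent.Lib.R2H2PnSerre
import Groth.Agent.S0022

set_option autoImplicit false
universe u
open CategoryTheory CategoryTheory.Limits AlgebraicGeometry
open Variety

namespace Groth.Agent.S1642

/-- A coherent module on P^n_k which is m-regular in the sense of Castelnuovo–Mumford is also (m +
1)-regular. -/
theorem result (k : Type u) [Field k] (n : ℕ) (F : (CohB1.ProjSpace n k).Modules) (hF : Coh.IsCoh F) (m : ℤ)
    (h : Curv2.IsMRegular k n F m) : Curv2.IsMRegular k n F (m + 1) := by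
  have hreg : ∀ p : ℕ, 1 ≤ p → Subsingleton (Coh.HH (CohB1.ProjSpace n k)
      (CohB1.tensorMod F (Twist.twistProjSpace n k (m - p))) p) := by
    intro p hp
    by_cases hpn : p ≤ n
    · exact h p hp hpn
    · have hq : F.IsQuasicoherent := hF.1
      have hq2 : (Twist.twistProjSpace n k (m - (p : ℤ))).IsQuasicoherent :=
        Groth.Agent.Lib.R2H2.PnFinite.isQCoh_twist n k _
      have hq3 : Coh.IsQCoh (CohB1.tensorMod F (Twist.twistProjSpace n k (m - (p : ℤ)))) :=
        Groth.Agent.Lib.Helper23.TensorQCoh.isQuasicoherent_tensorMod F _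
      exact Groth.Agent.S0022.result n k _ p (by omega)
  intro i hi1 _
  exact Groth.Agent.Lib.R2H2.PnReg.regular_succ n k F m hreg i hi1

end Groth.Agent.S1642
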