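import Groth.Statements.S16441
import Mathlib
import Groth.Agent.Lib.Helper8ShFrac

set_option autoImplicit false
universe u
open EGA4loc

namespace Groth.Agent.S16441

/-- Let A be a reduced local ring with finitely many minimal prime ideals, S a strict henselization of
A, and D an A-subalgebra of S which is a local ring dominated by S (local inclusion). Then the total
ring of fractions K_D of D is finitely generated over that of A — there is a finite subset t of K_D
such that every element of K_D, multiplied by (the image of) some non-zero-divisor of A, is a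
polynomial expression in t with coefficients from A — if and only if D is contained in some
A-subalgebra E of S which is a local ring and an essentially etale local A-algebra (a localization
of an etale A-algebra at a prime over the maximal ideal). -/
theorem result
    (A S : Type u) [CommRing A] [IsLocalRing A] [IsReduced A] (hmin : (minimalPrimes A).Finite)
    [CommRing S] [IsLocalRing S] [Algebra A S] [IsLocalHom (algebraMap A S)]
    [Hensel.IsStrictHenselization A S] (D : Subalgebra A S) [IsLocalRing D]
    [IsLocalHom (algebraMap D S)] :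
    (∃ t : Finset (FractionRing D), ∀ x : FractionRing D, ∃ a ∈ nonZeroDivisors A,
        algebraMap A (FractionRing D) a * x ∈ Algebra.adjoin A (t : Set (FractionRing D))) ↔
      ∃ E : Subalgebra A S, D ≤ E ∧ ∃ _ : IsLocalRing E, EGA4loc.IsEssentiallyEtale A E := by
  classical
  haveI hlocD := Groth.Agent.Lib.Helper8ShFrac.isLocalization_fractionRing A S hmin D
  constructor
  · rintro ⟨t, ht⟩
    have hnum : ∀ x : FractionRing D, ∃ (d : D) (a : A), a ∈ nonZeroDivisors A ∧
        x * algebraMap A (FractionRing D) a = algebraMap D (FractionRing D) d := by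
      intro x
      obtain ⟨⟨d, m⟩, hdm⟩ :=
        IsLocalization.surj (Algebra.algebraMapSubmonoid D (nonZeroDivisors A)) x
      obtain ⟨a, ha, ham⟩ := m.2
      refine ⟨d, a, ha, ?_⟩
      rw [IsScalarTower.algebraMap_apply A D (FractionRing D), ham]
      exact hdm
    choose num den hden hnumden using hnum
    let s0 : Finset S := t.image (fun x => ((num x : D) : S))
    obtain ⟨E, hsE, hE, -, hEdiv⟩ := Groth.Agent.Lib.Helper8ShStage.exists_stage A S s0
    refine ⟨E, ?_, hE⟩
    let G : Subalgebra A D := Algebra.adjoin A ((fun x => num x) '' (t : Set (FractionRing D)))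
    have hGE : ∀ d ∈ G, (d : S) ∈ E := by
      have hle : G ≤ E.comap D.val := Algebra.adjoin_le (by
        rintro _ ⟨x, hx, rfl⟩
        exact hsE (Finset.mem_coe.mpr (Finset.mem_image_of_mem _ hx)))
      exact fun d hd => hle hd
    have hclear : ∀ y ∈ Algebra.adjoin A (t : Set (FractionRing D)),
        ∃ a ∈ nonZeroDivisors A, ∃ d ∈ G,
          algebraMap A (FractionRing D) a * y = algebraMap D (FractionRing D) d := by
      intro y hy
      induction hy using Algebra.adjoin_induction with
      | mem x hx =>
        exact ⟨den x, hden x, num x, Algebra.subset_adjoin ⟨x, hx, rfl⟩, by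
          rw [mul_comm]; exact hnumden x⟩
      | algebraMap r =>
        exact ⟨1, one_mem _, algebraMap A D r, Subalgebra.algebraMap_mem _ r, by
          rw [map_one, one_mul, ← IsScalarTower.algebraMap_apply]⟩
      | add y₁ y₂ _ _ h₁ h₂ =>
        obtain ⟨a₁, ha₁, d₁, hd₁, e₁⟩ := h₁
        obtain ⟨a₂, ha₂, d₂, hd₂, e₂⟩ := h₂
        refine ⟨a₁ * a₂, mul_mem ha₁ ha₂, algebraMap A D a₂ * d₁ + algebraMap A D a₁ * d₂,
          G.add_mem (G.mul_mem (G.algebraMap_mem a₂) hd₁) (G.mul_mem (G.algebraMap_mem a₁) hd₂), ?_⟩
        have hA : ∀ r : A, algebraMap D (FractionRing D) (algebraMap A D r) =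
            algebraMap A (FractionRing D) r := fun r =>
          (IsScalarTower.algebraMap_apply A D (FractionRing D) r).symm
        calc algebraMap A (FractionRing D) (a₁ * a₂) * (y₁ + y₂)
            = algebraMap A (FractionRing D) a₂ * (algebraMap A (FractionRing D) a₁ * y₁) +
              algebraMap A (FractionRing D) a₁ * (algebraMap A (FractionRing D) a₂ * y₂) := by
              rw [map_mul]; ring
          _ = _ := by rw [e₁, e₂, map_add, map_mul, map_mul, hA, hA]
      | mul y₁ y₂ _ _ h₁ h₂ =>
        obtain ⟨a₁, ha₁, d₁, hd₁, e₁⟩ := h₁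
        obtain ⟨a₂, ha₂, d₂, hd₂, e₂⟩ := h₂
        refine ⟨a₁ * a₂, mul_mem ha₁ ha₂, d₁ * d₂, G.mul_mem hd₁ hd₂, ?_⟩
        rw [map_mul, map_mul, ← e₁, ← e₂]
        ring
    intro d hd
    obtain ⟨a, ha, hay⟩ := ht (algebraMap D (FractionRing D) ⟨d, hd⟩)
    obtain ⟨a', ha', g, hg, hgeq⟩ := hclear _ hay
    have hinj : Function.Injective (algebraMap D (FractionRing D)) :=
      IsFractionRing.injective D (FractionRing D)
    have hgD : g = algebraMap A D (a' * a) * ⟨d, hd⟩ := by
      apply hinj
      rw [← hgeq, map_mul, ← IsScalarTower.algebraMap_apply A D (FractionRing D), map_mul,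
        mul_assoc]
    have hgS : algebraMap A S (a' * a) * d ∈ E := by
      have h1 := hGE g hg
      rw [hgD] at h1
      exact h1
    obtain ⟨d', hd'E, hd'⟩ := hEdiv (a' * a) d hgS
    have hdd : d' = d := by
      have h0 : algebraMap A S (a' * a) * (d' - d) = 0 := by rw [mul_sub, hd', sub_self]
      exact sub_eq_zero.mp
        (Groth.Agent.Lib.Helper8ShFrac.algebraMap_mul_eq_zero A S (mul_mem ha' ha) h0)
    rw [← hdd]; exact hd'E
  · rintro ⟨E, hDE, hEloc, hEt⟩
    haveI := hEloc
    obtain ⟨t, ht⟩ :=
      Groth.Agent.Lib.Helper8ShFrac.exists_finset_span_of_le A S hmin D E hDE hEt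
    refine ⟨t, fun x => ?_⟩
    obtain ⟨a, ha, hax⟩ := ht x
    exact ⟨a, ha, Algebra.span_le_adjoin A _ hax⟩

end Groth.Agent.S16441
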