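import Groth.Statements.S16442
import Mathlib
import Groth.Agent.Lib.Helper3ShN

set_option autoImplicit false
universe u
open EGA4loc

namespace Groth.Agent.S16442

/-- Let A be a reduced local ring with finitely many minimal prime ideals, S a strict henselization of
A, and D an A-subalgebra of S which is a local ring dominated by S (local inclusion) and essentially
of finite type over A. Then D is contained in some A-subalgebra E of S which is a local ring and an
essentially etale local A-algebra. -/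
theorem result
    (A S : Type u) [CommRing A] [IsLocalRing A] [IsReduced A] (hmin : (minimalPrimes A).Finite)
    [CommRing S] [IsLocalRing S] [Algebra A S] [IsLocalHom (algebraMap A S)]
    [Hensel.IsStrictHenselization A S] (D : Subalgebra A S) [IsLocalRing D]
    [IsLocalHom (algebraMap D S)] [Algebra.EssFiniteType A D] :
    ∃ E : Subalgebra A S, D ≤ E ∧ ∃ _ : IsLocalRing E, EGA4loc.IsEssentiallyEtale A E := by
  classical
  let Ω := SeparableClosure (IsLocalRing.ResidueField A)
  letI : Algebra A Ω :=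
    ((algebraMap (IsLocalRing.ResidueField A) Ω).comp (IsLocalRing.residue A)).toAlgebra
  haveI : IsScalarTower A (IsLocalRing.ResidueField A) Ω :=
    IsScalarTower.of_algebraMap_eq (fun _ => rfl)
  obtain ⟨σ⟩ := Groth.Agent.Lib.Helper3.Sh.nonempty_algEquiv (R := A) (Ω := Ω) S
  obtain ⟨fs, hfs⟩ := (Algebra.essFiniteType_iff (R := A) (S := D)).mp inferInstance
  let x : Fin fs.card → Groth.Agent.Lib.Helper3.Sh.Rsh A Ω :=
    fun k => σ ((fs.equivFin.symm k : D) : S)
  obtain ⟨i, x', hx'⟩ := Groth.Agent.Lib.Helper3.Sh.exists_ofL_fin x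
  have hinj : Function.Injective (Groth.Agent.Lib.Helper3.Sh.ofL i) := by
    letI := (Groth.Agent.Lib.Helper3.Sh.ofL i).toAlgebra
    haveI : IsLocalHom (algebraMap i.L (Groth.Agent.Lib.Helper3.Sh.Rsh A Ω)) :=
      inferInstanceAs (IsLocalHom (Groth.Agent.Lib.Helper3.Sh.ofL i))
    haveI := Groth.Agent.Lib.Helper3.Sh.flat_over_L i
    haveI : Module.FaithfullyFlat i.L (Groth.Agent.Lib.Helper3.Sh.Rsh A Ω) :=
      Module.FaithfullyFlat.of_flat_of_isLocalHom
    exact FaithfulSMul.algebraMap_injective i.L (Groth.Agent.Lib.Helper3.Sh.Rsh A Ω)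
  let φ : i.L →ₐ[A] S :=
    (σ.symm : Groth.Agent.Lib.Helper3.Sh.Rsh A Ω →ₐ[A] S).comp (Groth.Agent.Lib.Helper3.Sh.ofLₐ i)
  have hφ : ∀ y : i.L, φ y = σ.symm (Groth.Agent.Lib.Helper3.Sh.ofL i y) := fun y => rfl
  have hφinj : Function.Injective φ := σ.symm.injective.comp hinj
  have hgen : ∀ d ∈ fs, ((d : D) : S) ∈ φ.range := by
    intro d hd
    refine ⟨x' (fs.equivFin ⟨d, hd⟩), ?_⟩
    show φ (x' (fs.equivFin ⟨d, hd⟩)) = ((d : D) : S)
    rw [hφ, hx']
    simp only [x, Equiv.symm_apply_apply, AlgEquiv.symm_apply_apply]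
  have hadj : ∀ d : D, d ∈ Algebra.adjoin A (fs : Set D) → (d : S) ∈ φ.range := by
    intro d hd
    have hle : Algebra.adjoin A (fs : Set D) ≤ φ.range.comap D.val :=
      Algebra.adjoin_le (fun d hd => hgen d hd)
    exact hle hd
  have hunit : ∀ y : i.L, IsUnit (φ y) → IsUnit y := by
    intro y hy
    have h1 : IsUnit (σ (φ y)) := hy.map σ
    rw [hφ, AlgEquiv.apply_symm_apply] at h1
    exact Groth.Agent.Lib.Helper3.Sh.isUnit_ofL_iff.mp h1
  have hDE : D ≤ φ.range := by
    intro d hd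
    obtain ⟨t, ht, htu, hdt⟩ := hfs ⟨d, hd⟩
    obtain ⟨t', ht'⟩ := hadj t ht
    obtain ⟨w, hw⟩ := hadj _ hdt
    have htS : IsUnit ((t : D) : S) := htu.map D.val
    have ht'u : IsUnit t' := hunit t' (by
      have : φ t' = ((t : D) : S) := ht'
      rw [this]; exact htS)
    obtain ⟨v, hv⟩ := isUnit_iff_exists_inv.mp ht'u
    refine ⟨w * v, ?_⟩
    have h1 : φ t' = ((t : D) : S) := ht'
    have h2 : φ w = d * ((t : D) : S) := hw
    have h3 : ((t : D) : S) * φ v = 1 := by rw [← h1, ← map_mul, hv, map_one]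
    show φ (w * v) = d
    rw [map_mul, h2, mul_assoc, h3, mul_one]
  refine ⟨φ.range, hDE, ?_⟩
  let eE : i.L ≃ₐ[A] φ.range := AlgEquiv.ofInjective φ hφinj
  haveI : IsLocalRing φ.range := eE.toRingEquiv.isLocalRing
  refine ⟨inferInstance, ?_⟩
  obtain ⟨C, hC1, hC2, q, hq, hEt, hcomap, ⟨e0⟩⟩ := i.isEssentiallyEtale
  exact ⟨C, hC1, hC2, q, hq, hEt, hcomap, ⟨eE.symm.trans e0⟩⟩

end Groth.Agent.S16442
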