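import Groth.Statements.S16443
import Mathlib
import Groth.Agent.Lib.Helper8TotFrac

set_option autoImplicit false
universe u
open EGA4loc

namespace Groth.Agent.S16443

/-- Let A be a reduced local ring with finitely many minimal prime ideals, E a local ring which is an
essentially etale local A-algebra with local structure map, K_E the total ring of fractions of E,
and L an A-subalgebra of K_E containing an inverse of the image of every non-zero-divisor of A (so L
is an intermediate ring between the total rings of fractions of A and of E). Then the preimage D of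
L in E is (the underlying set of) an A-subalgebra of E which is a local ring with local inclusion
into E — its maximal ideal lies under that of E — and L is the total ring of fractions of D in the
sense that every element of L is the image of an element of D times the inverse of the image of a
non-zero-divisor of A. -/
theorem result
    (A E : Type u) [CommRing A] [IsLocalRing A] [IsReduced A] (hmin : (minimalPrimes A).Finite)
    [CommRing E] [IsLocalRing E] [Algebra A E] [IsLocalHom (algebraMap A E)]
    (hE : EGA4loc.IsEssentiallyEtale A E) (L : Subalgebra A (FractionRing E))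
    (hL : ∀ s ∈ nonZeroDivisors A, ∃ y ∈ L, algebraMap A (FractionRing E) s * y = 1) :
    ∃ D : Subalgebra A E, (D : Set E) = (algebraMap E (FractionRing E)) ⁻¹' (L : Set (FractionRing E)) ∧
      ∃ _ : IsLocalRing D, IsLocalHom (algebraMap D E) ∧
        ∀ l ∈ L, ∃ d ∈ D, ∃ s ∈ nonZeroDivisors A, ∃ y ∈ L,
          algebraMap A (FractionRing E) s * y = 1 ∧ l = algebraMap E (FractionRing E) d * y := by
  classical
  obtain ⟨hloc, hArt, alg, htower, hfin⟩ := Groth.Agent.Lib.Helper8TotFrac.main A E hmin hE
  letI := alg
  haveI := htower
  haveI := hfin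
  haveI := hArt
  -- `L` is stable under multiplication by `K_A`
  have hQL : ∀ q : FractionRing A, algebraMap (FractionRing A) (FractionRing E) q ∈ L := by
    intro q
    obtain ⟨⟨c, b⟩, hcb⟩ := IsLocalization.surj (nonZeroDivisors A) q
    dsimp only at hcb
    obtain ⟨y, hyL, hy⟩ := hL b b.2
    have h1 : algebraMap (FractionRing A) (FractionRing E) q * algebraMap A (FractionRing E) b =
        algebraMap A (FractionRing E) c := by
      rw [IsScalarTower.algebraMap_apply A (FractionRing A) (FractionRing E) b,
        IsScalarTower.algebraMap_apply A (FractionRing A) (FractionRing E) c, ← map_mul, hcb]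
    have h2 : algebraMap (FractionRing A) (FractionRing E) q =
        algebraMap A (FractionRing E) c * y := by
      calc algebraMap (FractionRing A) (FractionRing E) q
          = algebraMap (FractionRing A) (FractionRing E) q *
              (algebraMap A (FractionRing E) b * y) := by rw [hy, mul_one]
        _ = algebraMap A (FractionRing E) c * y := by rw [← mul_assoc, h1]
    rw [h2]
    exact L.mul_mem (L.algebraMap_mem c) hyL
  let LQ : Subalgebra (FractionRing A) (FractionRing E) :=
    { L.toSubsemiring with algebraMap_mem' := hQL }
  have hLQ : ∀ x : FractionRing E, x ∈ LQ ↔ x ∈ L := fun x => Iff.rfl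
  haveI : IsNoetherian (FractionRing A) (FractionRing E) :=
    isNoetherian_of_isNoetherianRing_of_finite (FractionRing A) (FractionRing E)
  haveI : Module.Finite (FractionRing A) LQ :=
    Module.Finite.of_injective LQ.val.toLinearMap Subtype.val_injective
  haveI : IsArtinianRing LQ := IsArtinianRing.of_finite (FractionRing A) LQ
  have hinv : ∀ x ∈ L, ∀ y : FractionRing E, x * y = 1 → y ∈ L := by
    intro x hx y hxy
    have hnzd : (⟨x, (hLQ x).mpr hx⟩ : LQ) ∈ nonZeroDivisors LQ := by
      rw [mem_nonZeroDivisors_iff_left]
      intro z hz
      have hz' : x * (z : FractionRing E) = 0 := congrArg Subtype.val hz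
      apply Subtype.ext
      calc (z : FractionRing E) = y * x * z := by rw [mul_comm y x, hxy, one_mul]
        _ = 0 := by rw [mul_assoc, hz', mul_zero]
    obtain ⟨w, hw⟩ := isUnit_iff_exists_inv.mp (IsArtinianRing.isUnit_of_mem_nonZeroDivisors hnzd)
    have h1 : x * (w : FractionRing E) = 1 := congrArg Subtype.val hw
    have : y = (w : FractionRing E) := by
      calc y = y * (x * w) := by rw [h1, mul_one]
        _ = (x * y) * w := by ring
        _ = w := by rw [hxy, one_mul]
    rw [this]; exact (hLQ _).mp w.2
  let ι : E →ₐ[A] FractionRing E := IsScalarTower.toAlgHom A E (FractionRing E)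
  have hD : ∀ d : E, d ∈ L.comap ι ↔ algebraMap E (FractionRing E) d ∈ L := fun d => Iff.rfl
  have hloc' : IsLocalHom (algebraMap (L.comap ι) E) := by
    constructor
    intro d hd
    obtain ⟨v, hv⟩ := isUnit_iff_exists_inv.mp hd
    have hv' : (d : E) * v = 1 := hv
    have hdL : algebraMap E (FractionRing E) (d : E) ∈ L := (hD _).mp d.2
    have hvL : algebraMap E (FractionRing E) v ∈ L :=
      hinv _ hdL _ (by rw [← map_mul, hv', map_one])
    exact isUnit_iff_exists_inv.mpr ⟨⟨v, (hD v).mpr hvL⟩, Subtype.ext hv'⟩
  refine ⟨L.comap ι, ?_, ?_⟩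
  · ext x
    exact hD x
  haveI := hloc'
  refine ⟨(algebraMap (L.comap ι) E).domain_isLocalRing, hloc', ?_⟩
  intro l hl
  obtain ⟨⟨e0, m⟩, hem⟩ :=
    IsLocalization.surj (Algebra.algebraMapSubmonoid E (nonZeroDivisors A)) l
  dsimp only at hem
  obtain ⟨s, hs, hsm⟩ := m.2
  obtain ⟨y, hyL, hy⟩ := hL s hs
  have hsK : algebraMap E (FractionRing E) m = algebraMap A (FractionRing E) s := by
    rw [← hsm]
    exact (IsScalarTower.algebraMap_apply A E (FractionRing E) s).symm
  refine ⟨e0, ?_, s, hs, y, hyL, hy, ?_⟩
  · rw [hD, ← hem, hsK]
    exact L.mul_mem hl (L.algebraMap_mem s)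
  · rw [← hem, hsK, mul_assoc, hy, mul_one]

end Groth.Agent.S16443
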