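import Groth.Statements.S16448
import Mathlib
import Groth.Agent.Lib.Helper8TotFrac

set_option autoImplicit false
universe u
open EGA4loc

namespace Groth.Agent.S16448

/-- Let A be a reduced local ring with finitely many minimal prime ideals and E a local ring which is an
essentially etale local A-algebra with local structure map. Then the total ring of fractions K_E of
E is the localization of E at the images of the non-zero-divisors of A — that is, K_E = E ⊗_A K_A —
and K_E is finite over K_A: for some finite subset t of K_E, every element of K_E multiplied by the
image of a suitable non-zero-divisor of A lies in the A-span of t. (The published statement is for a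
reduced semilocal ring and a semilocal etale extension; this row treats a local ring and a local
etale extension.) -/
theorem result
    (A E : Type u) [CommRing A] [IsLocalRing A] [IsReduced A] (hmin : (minimalPrimes A).Finite)
    [CommRing E] [IsLocalRing E] [Algebra A E] [IsLocalHom (algebraMap A E)]
    (hE : EGA4loc.IsEssentiallyEtale A E) :
    IsLocalization ((nonZeroDivisors A).map (algebraMap A E)) (FractionRing E) ∧
      ∃ t : Finset (FractionRing E), ∀ x : FractionRing E, ∃ a ∈ nonZeroDivisors A,
        algebraMap A (FractionRing E) a * x ∈ Submodule.span A (t : Set (FractionRing E)) := by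
  classical
  obtain ⟨hloc, hArt, alg, htower, hfin⟩ := Groth.Agent.Lib.Helper8TotFrac.main A E hmin hE
  refine ⟨hloc, ?_⟩
  letI := alg
  haveI := htower
  obtain ⟨s, hs⟩ := hfin.fg_top
  refine ⟨s, fun x => ?_⟩
  have hx : x ∈ Submodule.span (FractionRing A) (s : Set (FractionRing E)) := by
    rw [hs]; trivial
  induction hx using Submodule.span_induction with
  | mem y hy =>
    exact ⟨1, one_mem _, by rw [map_one, one_mul]; exact Submodule.subset_span hy⟩
  | zero => exact ⟨1, one_mem _, by rw [mul_zero]; exact Submodule.zero_mem _⟩
  | add y z _ _ hy hz =>
    obtain ⟨a, ha, hay⟩ := hy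
    obtain ⟨b, hb, hbz⟩ := hz
    refine ⟨a * b, mul_mem ha hb, ?_⟩
    have : algebraMap A (FractionRing E) (a * b) * (y + z) =
        b • (algebraMap A (FractionRing E) a * y) + a • (algebraMap A (FractionRing E) b * z) := by
      rw [map_mul, Algebra.smul_def, Algebra.smul_def]; ring
    rw [this]
    exact Submodule.add_mem _ (Submodule.smul_mem _ _ hay) (Submodule.smul_mem _ _ hbz)
  | smul q y _ hy =>
    obtain ⟨a, ha, hay⟩ := hy
    obtain ⟨⟨c, b⟩, hcb⟩ := IsLocalization.surj (nonZeroDivisors A) q
    dsimp only at hcb
    refine ⟨b * a, mul_mem b.2 ha, ?_⟩
    have : algebraMap A (FractionRing E) (b * a) * (q • y) =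
        c • (algebraMap A (FractionRing E) a * y) := by
      rw [Algebra.smul_def q y, Algebra.smul_def c, map_mul (algebraMap A (FractionRing E)),
        IsScalarTower.algebraMap_apply A (FractionRing A) (FractionRing E) c, ← hcb,
        map_mul (algebraMap (FractionRing A) (FractionRing E)),
        ← IsScalarTower.algebraMap_apply A (FractionRing A) (FractionRing E)]
      ring
    rw [this]; exact Submodule.smul_mem _ _ hay

end Groth.Agent.S16448
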