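import Groth.Statements.S16454
import Groth.Agent.Lib.Helper5NilFlat

set_option autoImplicit false
universe u
open TensorProduct
open EGA43

namespace Groth.Agent.S16454

section aux

variable {A : Type u} [CommRing A] (I : Ideal A) (M : Type u) [AddCommGroup M] [Module A M]

theorem tmul_eq_zero_of_mem_smul_top (G : Type u) [AddCommGroup G] [Module A G]
    (hG : ∀ a ∈ I, ∀ g : G, a • g = 0) (x : M) (hx : x ∈ I • (⊤ : Submodule A M)) (g : G) :
    x ⊗ₜ[A] g = 0 := by
  refine Submodule.smul_induction_on (p := fun x => x ⊗ₜ[A] g = 0) hx ?_ ?_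
  · intro a ha m _
    rw [TensorProduct.smul_tmul, hG a ha, tmul_zero]
  · intro x y ihx ihy
    rw [add_tmul, ihx, ihy, add_zero]

theorem rTensor_mkQ_injective_of_killed (G : Type u) [AddCommGroup G] [Module A G]
    (hG : ∀ a ∈ I, ∀ g : G, a • g = 0) :
    Function.Injective (((I • (⊤ : Submodule A M)).mkQ).rTensor G) := by
  have hex := rTensor_exact G (LinearMap.exact_subtype_mkQ (I • (⊤ : Submodule A M)))
    (Submodule.mkQ_surjective _)
  have hzero : ((I • (⊤ : Submodule A M)).subtype).rTensor G = 0 := by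
    apply TensorProduct.ext'
    rintro ⟨x, hx⟩ g
    rw [LinearMap.rTensor_tmul, Submodule.subtype_apply, LinearMap.zero_apply]
    exact tmul_eq_zero_of_mem_smul_top I M G hG x hx g
  rw [injective_iff_map_eq_zero]
  intro z hz
  obtain ⟨w, rfl⟩ := (hex z).mp hz
  rw [hzero, LinearMap.zero_apply]

/-- `I` kills each graded piece of the associated graded ring. -/
theorem smul_gr_eq_zero (n : ℕ) (a : A) (ha : a ∈ I)
    (g : ↥(AssocGr.gr (FiltBl.IdealFiltration.adic I) n)) : a • g = 0 := by
  obtain ⟨b, rfl⟩ := AssocGr.inDeg_surjective (FiltBl.IdealFiltration.adic I) n g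
  rw [← map_smul, AssocGr.inDeg_eq_zero_iff]
  have hb : (b : A) ∈ I ^ n := b.2
  change a * (b : A) ∈ I ^ (n + 1)
  rw [pow_succ']
  exact Ideal.mul_mem_mul ha hb

/-- the inclusion `F (n+1) → F n` and `inDeg` form an exact pair. -/
theorem exact_inclusion_inDeg (n : ℕ) :
    Function.Exact
      (Submodule.inclusion ((FiltBl.IdealFiltration.adic I).antitone (Nat.le_succ n)))
      (AssocGr.inDeg (FiltBl.IdealFiltration.adic I) n) := by
  intro a
  rw [AssocGr.inDeg_eq_zero_iff]
  constructor
  · intro h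
    exact ⟨⟨a, h⟩, rfl⟩
  · rintro ⟨b, rfl⟩
    exact b.2

end aux

theorem result (A : Type u) [CommRing A] (I : Ideal A)
    (hI : IsNilpotent I) (M : Type u) [AddCommGroup M] [Module A M]
    (hflat : Module.Flat (A ⧸ I) (M ⧸ (I • (⊤ : Submodule A M))))
    (hinj : ∀ (n k : ℕ) (a : Fin k → ↥((FiltBl.IdealFiltration.adic I).F n))
      (x : Fin k → ↥((Rees.powFilt I M).N 0)),
      (∑ i, (AssocGr.inDeg (FiltBl.IdealFiltration.adic I) n (a i) :
          AssocGr.GrRing (FiltBl.IdealFiltration.adic I)) •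
        (AssocGr.inDegM (Rees.powFilt I M) 0 (x i) : AssocGr.GrMod (Rees.powFilt I M))) = 0 →
      (∑ i, (AssocGr.inDeg (FiltBl.IdealFiltration.adic I) n (a i)) ⊗ₜ[A]
          (Submodule.Quotient.mk (x i : M)) :
        ↥(AssocGr.gr (FiltBl.IdealFiltration.adic I) n) ⊗[A] (M ⧸ (I • (⊤ : Submodule A M)))) = 0) :
    Module.Flat A M := by
  classical
  set 𝓕 := FiltBl.IdealFiltration.adic I with h𝓕
  -- P n : M ⊗ F n → M ⊗ A is injective
  have hN0 : ∀ x : M, x ∈ (Rees.powFilt I M).N 0 := by
    intro x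
    change x ∈ I ^ 0 • (⊤ : Submodule A M)
    rw [pow_zero, Ideal.one_eq_top, Submodule.top_smul]
    trivial
  have step : ∀ n : ℕ, Function.Injective ((𝓕.F (n + 1)).subtype.lTensor M) →
      Function.Injective ((𝓕.F n).subtype.lTensor M) := by
    intro n hP
    rw [injective_iff_map_eq_zero]
    intro z hz
    obtain ⟨k, x, a, rfl⟩ := TensorProduct.exists_sum_tmul_eq z
    -- the sum of a_j x_j vanishes
    have hsum : ∑ j, (a j : A) • x j = 0 := by
      have := congrArg (TensorProduct.rid A M) hz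
      rw [map_sum, map_zero, map_sum] at this
      simpa [LinearMap.lTensor_tmul] using this
    let F := Rees.powFilt I M
    let y : Fin k → F.N (n + 0) := fun i => ⟨(a i : A) • x i, F.pow_smul_le n 0
      (Submodule.smul_mem_smul (show (a i : A) ∈ I ^ n from (a i).2) (hN0 (x i)))⟩
    have hyp : (∑ i, (AssocGr.inDeg 𝓕 n (a i) : AssocGr.GrRing 𝓕) •
        (AssocGr.inDegM F 0 (⟨x i, hN0 (x i)⟩ : F.N 0) : AssocGr.GrMod F)) = 0 := by
      have e : ∀ i, (AssocGr.inDeg 𝓕 n (a i) : AssocGr.GrRing 𝓕) •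
          (AssocGr.inDegM F 0 (⟨x i, hN0 (x i)⟩ : F.N 0) : AssocGr.GrMod F) =
          (AssocGr.inDegM F (n + 0) (y i) : AssocGr.GrMod F) :=
        fun i => AssocGr.inDeg_smul_inDegM F n 0 (a i) ⟨x i, hN0 (x i)⟩
      rw [Finset.sum_congr rfl (fun i _ => e i), ← AddSubmonoidClass.coe_finsetSum, ← map_sum]
      have hy0 : ∑ i, y i = 0 := Subtype.ext (by
        rw [Submodule.coe_sum]
        exact hsum)
      rw [hy0, map_zero]
      rfl
    have h1 := hinj n k a (fun j => ⟨x j, hN0 (x j)⟩) hyp
    -- the composite map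
    let G := ↥(AssocGr.gr 𝓕 n)
    have h2 : (((I • (⊤ : Submodule A M)).mkQ).rTensor G)
        ((AssocGr.inDeg 𝓕 n).lTensor M (∑ j, x j ⊗ₜ[A] a j)) = 0 := by
      apply (TensorProduct.comm A _ _).injective
      rw [map_zero, map_sum, map_sum, map_sum]
      simpa [LinearMap.lTensor_tmul, LinearMap.rTensor_tmul] using h1
    have h3 : (AssocGr.inDeg 𝓕 n).lTensor M (∑ j, x j ⊗ₜ[A] a j) = 0 := by
      apply rTensor_mkQ_injective_of_killed I M G (smul_gr_eq_zero I n)
      rw [h2, map_zero]
    obtain ⟨z', hz'⟩ := (lTensor_exact M (exact_inclusion_inDeg I n)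
      (AssocGr.inDeg_surjective 𝓕 n) _).mp h3
    have h4 : (𝓕.F (n + 1)).subtype.lTensor M z' = 0 := by
      have hc : (𝓕.F n).subtype ∘ₗ
          (Submodule.inclusion (𝓕.antitone (Nat.le_succ n))) = (𝓕.F (n + 1)).subtype :=
        Submodule.subtype_comp_inclusion _ _ _
      rw [← hc, LinearMap.lTensor_comp, LinearMap.comp_apply, hz', hz]
    have h5 : z' = 0 := hP (by rw [h4, map_zero])
    rw [← hz', h5, map_zero]
  -- the filtration vanishes eventually
  obtain ⟨N, hN⟩ := hI
  have hPN : Function.Injective ((𝓕.F N).subtype.lTensor M) := by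
    have hsub : Subsingleton ↥(𝓕.F N) := by
      have : 𝓕.F N = ⊥ := hN
      rw [this]
      infer_instance
    have : Subsingleton (M ⊗[A] ↥(𝓕.F N)) := inferInstance
    exact Function.injective_of_subsingleton _
  have hall : ∀ d n : ℕ, n + d = N → Function.Injective ((𝓕.F n).subtype.lTensor M) := by
    intro d
    induction d with
    | zero =>
      intro n hn
      rw [add_zero] at hn
      subst hn
      exact hPN
    | succ d ih =>
      intro n hn
      exact step n (ih (n + 1) (by omega))
  have hP1 : Function.Injective (I.subtype.lTensor M) := by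
    by_cases hN1 : 1 ≤ N
    · have h := hall (N - 1) 1 (by omega)
      have key : ∀ J : Ideal A, J = I → Function.Injective (J.subtype.lTensor M) →
          Function.Injective (I.subtype.lTensor M) := by
        rintro _ rfl h
        exact h
      exact key (𝓕.F 1) (pow_one I) h
    · have hN0' : N = 0 := by omega
      subst hN0'
      -- then A is trivial
      have : Subsingleton A := by
        have h1 : (1 : A) ∈ I ^ 0 := by rw [pow_zero, Ideal.one_eq_top]; trivial
        rw [hN] at h1
        exact subsingleton_of_zero_eq_one (by simpa using h1.symm)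
      have : Subsingleton (M ⊗[A] ↥I) := by
        have : Subsingleton M := Module.subsingleton A M
        infer_instance
      exact Function.injective_of_subsingleton _
  apply Groth.Agent.Lib.Helper5.flat_of_isNilpotent I ⟨N, hN⟩ hP1
  -- flatness of the base change
  let e : ((A ⧸ I) ⊗[A] M) ≃ₗ[A] M ⧸ (I • (⊤ : Submodule A M)) :=
    TensorProduct.quotTensorEquivQuotSMul M I
  let e' : ((A ⧸ I) ⊗[A] M) ≃ₗ[A ⧸ I] M ⧸ (I • (⊤ : Submodule A M)) :=
    LinearEquiv.extendScalarsOfSurjective Ideal.Quotient.mk_surjective e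
  exact Module.Flat.of_linearEquiv e'

end Groth.Agent.S16454
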