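import Groth.Statements.S5965
import Mathlib

set_option autoImplicit false
universe u
open CategoryTheory CategoryTheory.Limits AlgebraicGeometry TopologicalSpace Opposite
open Nrm16

namespace Groth.Agent.S5965

/-- the kernel of a retraction-like quotient of a finite type algebra is finitely generated -/
lemma fg_of_bijective {A B : Type*} [CommRing A] [CommRing B] [Algebra A B]
    [Algebra.FiniteType A B] (J : Ideal B)
    (hJ : Function.Bijective ((Ideal.Quotient.mk J).comp (algebraMap A B))) : J.FG := by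
  classical
  obtain ⟨s, hs⟩ := (Algebra.FiniteType.out : (⊤ : Subalgebra A B).FG)
  have hsurj : ∀ b : B, ∃ a : A, b - algebraMap A B a ∈ J := by
    intro b
    obtain ⟨a, ha⟩ := hJ.2 (Ideal.Quotient.mk J b)
    refine ⟨a, ?_⟩
    rw [← Ideal.Quotient.eq]
    exact ha.symm
  choose c hc using hsurj
  let K : Ideal B := Ideal.span ((fun b => b - algebraMap A B (c b)) '' (s : Set B))
  have hKJ : K ≤ J := by
    rw [Ideal.span_le]
    rintro _ ⟨b, _, rfl⟩
    exact hc b
  have hK : ∀ b : B, ∃ a : A, b - algebraMap A B a ∈ K := by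
    intro b
    have hb : b ∈ Algebra.adjoin A (s : Set B) := by rw [hs]; trivial
    induction hb using Algebra.adjoin_induction with
    | mem x hx => exact ⟨c x, Ideal.subset_span ⟨x, hx, rfl⟩⟩
    | algebraMap r => exact ⟨r, by simp⟩
    | add x y _ _ hx hy =>
      obtain ⟨a1, h1⟩ := hx
      obtain ⟨a2, h2⟩ := hy
      refine ⟨a1 + a2, ?_⟩
      have : x + y - algebraMap A B (a1 + a2) = (x - algebraMap A B a1) + (y - algebraMap A B a2) := by
        rw [map_add]; ring
      rw [this]
      exact K.add_mem h1 h2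
    | mul x y _ _ hx hy =>
      obtain ⟨a1, h1⟩ := hx
      obtain ⟨a2, h2⟩ := hy
      refine ⟨a1 * a2, ?_⟩
      have : x * y - algebraMap A B (a1 * a2) =
          x * (y - algebraMap A B a2) + algebraMap A B a2 * (x - algebraMap A B a1) := by
        rw [map_mul]; ring
      rw [this]
      exact K.add_mem (K.mul_mem_left _ h2) (K.mul_mem_left _ h1)
  have hJK : J ≤ K := by
    intro b hb
    obtain ⟨a, ha⟩ := hK b
    have h1 : algebraMap A B a ∈ J := by
      have := J.sub_mem hb (hKJ ha)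
      simpa using this
    have h2 : a = 0 := by
      apply hJ.1
      rw [map_zero]
      exact Ideal.Quotient.eq_zero_iff_mem.mpr h1
    rw [h2, map_zero, sub_zero] at ha
    exact ha
  have : J = K := le_antisymm hJK hKJ
  rw [this]
  exact ⟨(s.image fun b => b - algebraMap A B (c b)), by simp [K]⟩

/-- `B / J^(n+1)` is a finite `A`-module when `B` is of finite type over `A` and `A → B/J` is bijective -/
lemma finite_quot_pow {A B : Type*} [CommRing A] [CommRing B] [Algebra A B]
    [Algebra.FiniteType A B] (J : Ideal B)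
    (hJ : Function.Bijective ((Ideal.Quotient.mk J).comp (algebraMap A B))) (n : ℕ) :
    Module.Finite A (B ⧸ J ^ (n + 1)) := by
  have hfg := fg_of_bijective J hJ
  have hle : J ^ (n + 1) ≤ J := Ideal.pow_le_self (Nat.succ_ne_zero n)
  have : Module.Finite A (B ⧸ J) := by
    refine Module.Finite.of_surjective (Algebra.linearMap A (B ⧸ J)) ?_
    exact hJ.2
  let φ : (B ⧸ J ^ (n + 1)) →ₐ[A] B ⧸ J := Ideal.Quotient.factorₐ A hle
  have hφ : Function.Surjective φ := Ideal.Quotient.factor_surjective hle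
  have hker : RingHom.ker φ = J.map (Ideal.Quotient.mk (J ^ (n + 1))) :=
    Ideal.Quotient.factor_ker hle
  refine Module.finite_of_surjective_of_ker_le_nilradical φ hφ ?_ ?_
  · rw [hker]
    intro x hx
    rw [mem_nilradical]
    refine ⟨n + 1, ?_⟩
    have h1 : x ^ (n + 1) ∈ (J.map (Ideal.Quotient.mk (J ^ (n + 1)))) ^ (n + 1) :=
      Ideal.pow_mem_pow hx _
    rw [← Ideal.map_pow, Ideal.map_quotient_self] at h1
    exact h1
  · rw [hker]
    exact hfg.map _

/-- ring-hom form -/
lemma finite_comp_of_section {A B C A' : Type u} [CommRing A] [CommRing B] [CommRing C] [CommRing A']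
    (φ : A →+* B) (hφ : φ.FiniteType) (π : B →+* C) (hπ : Function.Surjective π)
    (s : B →+* A') (hs : Function.Surjective s) (n : ℕ)
    (hker : RingHom.ker π = RingHom.ker s ^ (n + 1))
    (hbij : Function.Bijective (s.comp φ)) : (π.comp φ).Finite := by
  algebraize [φ]
  set J := RingHom.ker s with hJdef
  have hJ : Function.Bijective ((Ideal.Quotient.mk J).comp (algebraMap A B)) := by
    constructor
    · rw [injective_iff_map_eq_zero]
      intro a ha
      have h1 : algebraMap A B a ∈ J := Ideal.Quotient.eq_zero_iff_mem.mp ha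
      have h2 : s (φ a) = 0 := h1
      exact (injective_iff_map_eq_zero (s.comp φ)).mp hbij.1 a h2
    · intro x
      obtain ⟨b, rfl⟩ := Ideal.Quotient.mk_surjective x
      obtain ⟨a, ha⟩ := hbij.2 (s b)
      refine ⟨a, ?_⟩
      change Ideal.Quotient.mk J (φ a) = Ideal.Quotient.mk J b
      rw [Ideal.Quotient.eq]
      change s (φ a - b) = 0
      rw [map_sub, sub_eq_zero]
      exact ha
  have hfin := finite_quot_pow J hJ n
  have h1 : (algebraMap A (B ⧸ J ^ (n + 1))).Finite := RingHom.finite_algebraMap.mpr hfin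
  let ē : (B ⧸ J ^ (n + 1)) →+* C := Ideal.Quotient.lift (J ^ (n + 1)) π (by
    intro b hb
    rw [← hker] at hb
    exact hb)
  have hē : Function.Surjective ē := by
    intro c
    obtain ⟨b, rfl⟩ := hπ c
    exact ⟨Ideal.Quotient.mk _ b, rfl⟩
  have h2 : π.comp φ = ē.comp (algebraMap A (B ⧸ J ^ (n + 1))) := by
    ext a
    rfl
  rw [h2]
  exact (RingHom.Finite.of_surjective ē hē).comp h1

lemma finite_appTop_restrict {Z Y : Scheme.{u}} (h : Z ⟶ Y) (V : Y.Opens) (W : Z.Opens)
    (e : W = h ⁻¹ᵁ V) (hfin : (h.appLE V W e.le).hom.Finite) : ((h ∣_ V).appTop).hom.Finite := by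
  subst e
  rw [Scheme.Hom.appTop, morphismRestrict_app']
  have e₁ : V.ι ''ᵁ ⊤ = V := by simp
  have e₂ : (h ⁻¹ᵁ V).ι ''ᵁ ((h ∣_ V) ⁻¹ᵁ ⊤) = h ⁻¹ᵁ V := by simp
  exact (Scheme.Hom.appLE_congr h _ e₁ e₂ (fun φ => φ.hom.Finite)).mpr hfin

set_option backward.isDefEq.respectTransparency.types false in
/-- Let g : X ⟶ Y be a morphism locally of finite type with a section f : Y ⟶ X which is a closed
immersion. Then for every n the n-th infinitesimal neighbourhood of Y in X, mapped to Y through its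
inclusion into X followed by g, is finite over Y. (The published statement allows any section f and
says that the structure sheaf of the neighbourhood is a quasi-coherent O_Y-algebra which is an
O_Y-module of finite type; this row assumes f a closed immersion and states the conclusion as
finiteness of the morphism to Y.) -/
theorem result {X Y : Scheme.{u}} (g : X ⟶ Y) [LocallyOfFiniteType g] (f : Y ⟶ X)
    [IsClosedImmersion f] (hf : f ≫ g = 𝟙 Y) (n : ℕ) :
    IsFinite (PrinPart.infNbhdι f n ≫ g) := by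
  set ι := PrinPart.infNbhdι f n with hι
  haveI : IsClosedImmersion ι := by
    rw [hι]; unfold PrinPart.infNbhdι; infer_instance
  have hgf : ∀ y : Y, g (f y) = y := by
    intro y
    rw [← Scheme.Hom.comp_apply, hf]; rfl
  -- Step A: good affine charts
  have hA : ∀ y : Y, ∃ (V : Y.affineOpens) (U' : X.affineOpens), y ∈ V.1 ∧ U'.1 ≤ g ⁻¹ᵁ V.1 ∧
      f ⁻¹ᵁ U'.1 = V.1 := by
    intro y
    obtain ⟨V0, hV0, hyV0, -⟩ := (Opens.isBasis_iff_nbhd.mp Y.isBasis_affineOpens)
      (show y ∈ (⊤ : Y.Opens) from trivial)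
    have hfy : f y ∈ g ⁻¹ᵁ V0 := by
      change g (f y) ∈ V0
      rw [hgf]; exact hyV0
    obtain ⟨U, hU, hfyU, hUle⟩ := (Opens.isBasis_iff_nbhd.mp X.isBasis_affineOpens) hfy
    obtain ⟨a, haV, hya⟩ := IsAffineOpen.exists_basicOpen_le hV0 (V := f ⁻¹ᵁ U) ⟨y, hfyU⟩ hyV0
    have hbo : X.basicOpen (g.appLE V0 U hUle a) = U ⊓ g ⁻¹ᵁ (Y.basicOpen a) :=
      Scheme.basicOpen_appLE g U V0 hUle a
    refine ⟨⟨Y.basicOpen a, IsAffineOpen.basicOpen hV0 a⟩,
      ⟨X.basicOpen (g.appLE V0 U hUle a), IsAffineOpen.basicOpen hU _⟩, hya, ?_, ?_⟩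
    · change X.basicOpen (g.appLE V0 U hUle a) ≤ g ⁻¹ᵁ (Y.basicOpen a)
      rw [hbo]; exact inf_le_right
    · change f ⁻¹ᵁ (X.basicOpen (g.appLE V0 U hUle a)) = Y.basicOpen a
      rw [hbo]
      ext y'
      change (f y' ∈ U ∧ g (f y') ∈ Y.basicOpen a) ↔ y' ∈ Y.basicOpen a
      rw [hgf]
      exact ⟨fun h => h.2, fun h => ⟨haV h, h⟩⟩
  choose V U' hyV hU'V hfU' using hA
  refine (HasAffineProperty.iff_of_iSup_eq_top (P := @IsFinite) V ?_).mpr ?_
  · rw [eq_top_iff]
    intro y _
    exact Opens.mem_iSup.mpr ⟨y, hyV y⟩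
  · intro y
    have hW : ι ⁻¹ᵁ (U' y).1 = (ι ≫ g) ⁻¹ᵁ (V y).1 := by
      ext z
      obtain ⟨y', rfl⟩ := PrinPart.toInfNbhd_surjective f n z
      have h1 : ι (PrinPart.toInfNbhd f n y') = f y' := by
        rw [← Scheme.Hom.comp_apply, hι, PrinPart.toInfNbhd_ι]
      have h2 : (ι ≫ g) (PrinPart.toInfNbhd f n y') = y' := by
        rw [Scheme.Hom.comp_apply, h1, hgf]
      change ι (PrinPart.toInfNbhd f n y') ∈ (U' y).1 ↔ (ι ≫ g) (PrinPart.toInfNbhd f n y') ∈ (V y).1
      rw [h2, h1, ← hfU' y]; rfl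
    have haff : IsAffineOpen (ι ⁻¹ᵁ (U' y).1) := (U' y).2.preimage ι
    refine ⟨?_, ?_⟩
    · change IsAffineOpen ((ι ≫ g) ⁻¹ᵁ (V y).1)
      rw [← hW]; exact haff
    · refine finite_appTop_restrict (ι ≫ g) (V y).1 (ι ⁻¹ᵁ (U' y).1) hW ?_
      have hcomp : (ι ≫ g).appLE (V y).1 (ι ⁻¹ᵁ (U' y).1) hW.le =
          g.appLE (V y).1 (U' y).1 (hU'V y) ≫ ι.appLE (U' y).1 (ι ⁻¹ᵁ (U' y).1) le_rfl :=
        (Scheme.Hom.appLE_comp_appLE ι g _ _ _ _ _).symm
      rw [hcomp, CommRingCat.hom_comp]
      -- the section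
      have hfle : (V y).1 ≤ f ⁻¹ᵁ (U' y).1 := (hfU' y).ge
      have hres : ∀ y : Y, Function.Bijective
          (Y.presheaf.map (homOfLE (show (V y).1 ≤ f ⁻¹ᵁ (U' y).1 from (hfU' y).ge)).op).hom := by
        intro y
        have hiso : IsIso (Y.presheaf.map
            (homOfLE (show (V y).1 ≤ f ⁻¹ᵁ (U' y).1 from (hfU' y).ge)).op) := by
          have : IsIso (homOfLE (show (V y).1 ≤ f ⁻¹ᵁ (U' y).1 from (hfU' y).ge)) :=
            ⟨homOfLE (hfU' y).le, rfl, rfl⟩
          infer_instance
        exact ConcreteCategory.bijective_of_isIso _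
      refine finite_comp_of_section (g.appLE (V y).1 (U' y).1 (hU'V y)).hom
        (g.finiteType_appLE (V y).2 (U' y).2 (hU'V y))
        (ι.appLE (U' y).1 (ι ⁻¹ᵁ (U' y).1) le_rfl).hom ?_
        (f.appLE (U' y).1 (V y).1 hfle).hom ?_ n ?_ ?_
      · rw [Scheme.Hom.appLE_eq_app]
        exact ι.app_surjective (U' y).1 (U' y).2
      · have h1 : f.appLE (U' y).1 (V y).1 hfle =
            f.app (U' y).1 ≫ Y.presheaf.map (homOfLE hfle).op := rfl
        rw [h1, CommRingCat.hom_comp, RingHom.coe_comp]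
        exact (hres y).2.comp (f.app_surjective (U' y).1 (U' y).2)
      · have h1 : RingHom.ker (ι.appLE (U' y).1 (ι ⁻¹ᵁ (U' y).1) le_rfl).hom =
            (f.ker.ideal (U' y)) ^ (n + 1) := by
          rw [Scheme.Hom.appLE_eq_app]
          exact Scheme.IdealSheafData.ker_subschemeι_app (f.ker ^ (n + 1)) (U' y)
        have h2 : RingHom.ker (f.appLE (U' y).1 (V y).1 hfle).hom = f.ker.ideal (U' y) := by
          have h3 : f.appLE (U' y).1 (V y).1 hfle =
            f.app (U' y).1 ≫ Y.presheaf.map (homOfLE hfle).op := rfl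
          rw [h3, CommRingCat.hom_comp, Scheme.Hom.ker_apply]
          ext b
          simp only [RingHom.mem_ker, RingHom.comp_apply]
          constructor
          · intro hb
            apply (hres y).1
            rw [map_zero]; exact hb
          · intro hb
            rw [hb, map_zero]
        rw [h1, h2]
      · have h1 : (f.appLE (U' y).1 (V y).1 hfle).hom.comp (g.appLE (V y).1 (U' y).1 (hU'V y)).hom =
            ((f ≫ g).appLE (V y).1 (V y).1 (by rw [hf]; exact le_rfl)).hom := by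
          rw [← CommRingCat.hom_comp, Scheme.Hom.appLE_comp_appLE]
        rw [h1]
        have h2 : ∀ (k : Y ⟶ Y) (_ : k = 𝟙 Y) (e : (V y).1 ≤ k ⁻¹ᵁ (V y).1),
            Function.Bijective (k.appLE (V y).1 (V y).1 e).hom := by
          rintro _ rfl e
          have : (𝟙 Y : Y ⟶ Y).appLE (V y).1 (V y).1 e = 𝟙 _ := by
            rw [Scheme.Hom.appLE, Scheme.Hom.id_app]
            exact (Category.id_comp _).trans (Y.presheaf.map_id _)
          rw [this]
          exact Function.bijective_id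
        exact h2 _ hf _

end Groth.Agent.S5965
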