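import Groth.Statements.S5968
import Groth.Agent.S5965
import Groth.Agent.S5959
import Groth.Agent.Lib.Helper2FinPushFP
import Groth.Agent.Lib.Helper20FormalPull

set_option autoImplicit false
universe u
open CategoryTheory CategoryTheory.Limits AlgebraicGeometry TopologicalSpace Opposite
open Nrm16

namespace Groth.Agent.S5968

/-- the first projection from the `n`-th infinitesimal neighbourhood of the diagonal is finite
for `f` locally of finite type -/
theorem isFinite_pr1 {X S : Scheme.{u}} (f : X ⟶ S) [LocallyOfFiniteType f] (n : ℕ) :
    IsFinite (PrinPart.pr1 f n) := by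
  have h := Groth.Agent.S5965.result
    ((pullback.diagonal f).coborderRange.ι ≫ pullback.fst f f) (PrinPart.diagCl f)
    (by simp [PrinPart.diagCl]) n
  have e : PrinPart.pr1 f n = PrinPart.infNbhdι (PrinPart.diagCl f) n ≫
      ((pullback.diagonal f).coborderRange.ι ≫ pullback.fst f f) := by
    simp [PrinPart.pr1, PrinPart.nbhdι]
  rw [e]
  exact h

/-- Consider a morphism f : X ⟶ S that is locally of finite type, fix a natural number n, and suppose F
is an O_X-module which is quasi-coherent and of finite type. Regarded as an O_X-module through its
left structure, the sheaf of principal parts P^n_{X/S}(F) is again quasi-coherent and of finite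
type. (The published result covers both O_X-module structures on P^n_{X/S}(F); here only the left
one is treated, since that is the structure the sheaf of principal parts is given in this
formalization.) -/
theorem result {X S : Scheme.{u}} (f : X ⟶ S) [LocallyOfFiniteType f] (n : ℕ)
    (F : X.Modules) (hF : Coh.IsCoh F) :
    Coh.IsCoh (PrinPart.PMod f n F) := by
  haveI hfin : IsFinite (PrinPart.pr1 f n) := isFinite_pr1 f n
  haveI : F.IsQuasicoherent := hF.1
  haveI : SheafOfModules.IsFiniteType (R := X.ringCatSheaf) F := hF.2
  haveI : ((Scheme.Modules.pullback (PrinPart.pr2 f n)).obj F).IsQuasicoherent :=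
    Groth.Agent.Lib.Helper2.PullbackSec.isQuasicoherent_pullback _ F
  have h1 : SheafOfModules.IsFiniteType (R := (PrinPart.nbhd f n).ringCatSheaf)
      ((Scheme.Modules.pullback (PrinPart.pr2 f n)).obj F) :=
    Groth.Agent.Lib.Helper20.FormalPull.isFiniteType_pullback (PrinPart.pr2 f n) F
  refine ⟨Groth.Agent.S5959.result f n F hF.1, ?_⟩
  exact (Groth.Agent.Lib.Helper2.FinPushFP.isFiniteType_pushforward_iff (PrinPart.pr1 f n) _).mp h1

end Groth.Agent.S5968
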