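import Groth.Statements.S5971
import Groth.Agent.S5968
import Groth.Agent.Lib.Helper18Strict6

set_option autoImplicit false
universe u
open CategoryTheory CategoryTheory.Limits AlgebraicGeometry TopologicalSpace Opposite
open Nrm16

namespace Groth.Agent.S5971

set_option backward.isDefEq.respectTransparency.types false in
open MorphismProperty in
/-- the diagonal of a morphism locally of finite type is locally of finite presentation -/
theorem lfp_diagonal {X Y : Scheme.{u}} (f : X ⟶ Y) [LocallyOfFiniteType f] :
    LocallyOfFinitePresentation (pullback.diagonal f) := by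
  wlog hX : (∃ S, X = Spec S) ∧ ∃ R, Y = Spec R with H
  · let 𝒰Y := Y.affineCover
    let 𝒰X (j : (Y.affineCover.pullback₁ f).I₀) :
        ((Y.affineCover.pullback₁ f).X j).OpenCover := Scheme.affineCover _
    haveI : RespectsRight @LocallyOfFinitePresentation @IsOpenImmersion :=
      ⟨fun i hi f hf => by haveI := hi; haveI := hf; infer_instance⟩
    apply IsZariskiLocalAtTarget.of_range_subset_iSup _
      (Scheme.Pullback.range_diagonal_subset_diagonalCoverDiagonalRange f 𝒰Y 𝒰X)
    intro ⟨i, j⟩
    rw [arrow_mk_iso_iff (P := @LocallyOfFinitePresentation)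
      (Scheme.Pullback.diagonalRestrictIsoDiagonal f 𝒰Y 𝒰X i j)]
    have hfin : LocallyOfFiniteType ((𝒰X i).f j ≫ pullback.snd f (𝒰Y.f i)) :=
      comp_mem _ _ _ inferInstance (pullback_snd _ _ inferInstance)
    exact H _ ⟨⟨_, rfl⟩, ⟨_, rfl⟩⟩
  obtain ⟨⟨S, rfl⟩, R, rfl⟩ := hX
  obtain ⟨f, rfl⟩ := Spec.map_surjective f
  rw [HasRingHomProperty.Spec_iff (P := @LocallyOfFiniteType)] at *
  algebraize [f.hom]
  rw [show f = CommRingCat.ofHom (algebraMap R S) from rfl, diagonal_SpecMap R S,
    cancel_right_of_respectsIso (P := @LocallyOfFinitePresentation),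
    HasRingHomProperty.Spec_iff (P := @LocallyOfFinitePresentation)]
  refine RingHom.FinitePresentation.of_surjective _ (fun x => ⟨1 ⊗ₜ x, by simp⟩) ?_
  exact KaehlerDifferential.ideal_fg R S

set_option backward.isDefEq.respectTransparency.types false in
/-- the closed-immersion part of the diagonal is locally of finite presentation -/
theorem lfp_diagCl {X S : Scheme.{u}} (f : X ⟶ S) [LocallyOfFiniteType f] :
    LocallyOfFinitePresentation (PrinPart.diagCl f) := by
  haveI := lfp_diagonal f
  have h : LocallyOfFinitePresentation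
      (PrinPart.diagCl f ≫ (pullback.diagonal f).coborderRange.ι) := by
    have e : PrinPart.diagCl f ≫ (pullback.diagonal f).coborderRange.ι = pullback.diagonal f := by
      simp [PrinPart.diagCl]
    rw [e]; infer_instance
  exact MorphismProperty.of_postcomp (W := @LocallyOfFinitePresentation) (W' := @IsOpenImmersion)
    (PrinPart.diagCl f) (pullback.diagonal f).coborderRange.ι inferInstance h

/-- the ideal of a closed immersion locally of finite presentation is finitely generated on affines -/
theorem ker_ideal_fg {X Y : Scheme.{u}} (i : Y ⟶ X) [IsClosedImmersion i]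
    [LocallyOfFinitePresentation i] (U : X.affineOpens) : (i.ker.ideal U).FG := by
  have hV : IsAffineOpen (i ⁻¹ᵁ U.1) := U.2.preimage i
  have h1 : (i.appLE U.1 (i ⁻¹ᵁ U.1) le_rfl).hom.FinitePresentation :=
    i.finitePresentation_appLE U.2 hV le_rfl
  rw [Scheme.Hom.appLE_eq_app] at h1
  have h2 : Function.Surjective (i.app U.1).hom := i.app_surjective U.1 U.2
  rw [Scheme.Hom.ker_apply]
  algebraize [(i.app U.1).hom]
  have h3 : Algebra.FinitePresentation Γ(X, U.1) Γ(Y, i ⁻¹ᵁ U.1) := h1
  have := Algebra.FinitePresentation.ker_fG_of_surjective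
    (Algebra.ofId Γ(X, U.1) Γ(Y, i ⁻¹ᵁ U.1)) h2
  exact this

/-- the closed subscheme of an ideal sheaf that is finitely generated on affines is locally of finite
presentation over the ambient scheme -/
theorem lfp_subschemeι {X : Scheme.{u}} (I : X.IdealSheafData)
    (hI : ∀ U : X.affineOpens, (I.ideal U).FG) : LocallyOfFinitePresentation I.subschemeι := by
  rw [HasRingHomProperty.iff_exists_appLE (P := @LocallyOfFinitePresentation)
    (RingHom.finitePresentation_stableUnderComposition.stableUnderCompositionWithLocalizationAway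
      RingHom.finitePresentation_holdsForLocalizationAway).left]
  intro x
  obtain ⟨U, hU, hxU, -⟩ := (Opens.isBasis_iff_nbhd.mp X.isBasis_affineOpens)
    (show I.subschemeι x ∈ (⊤ : X.Opens) from trivial)
  refine ⟨⟨U, hU⟩, ⟨I.subschemeι ⁻¹ᵁ U, hU.preimage _⟩, hxU, le_rfl, ?_⟩
  rw [Scheme.Hom.appLE_eq_app]
  refine RingHom.FinitePresentation.of_surjective _ (I.subschemeι_app_surjective ⟨U, hU⟩) ?_
  rw [Scheme.IdealSheafData.ker_subschemeι_app]
  exact hI ⟨U, hU⟩

theorem lfp_pr1 {X S : Scheme.{u}} (f : X ⟶ S) [LocallyOfFinitePresentation f] (n : ℕ) :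
    LocallyOfFinitePresentation (PrinPart.pr1 f n) := by
  haveI : LocallyOfFiniteType f := inferInstance
  haveI := lfp_diagCl f
  haveI : LocallyOfFinitePresentation (PrinPart.infNbhdι (PrinPart.diagCl f) n) := by
    unfold PrinPart.infNbhdι
    refine lfp_subschemeι _ (fun U => ?_)
    rw [Scheme.IdealSheafData.ideal_pow, Pi.pow_apply]
    exact (ker_ideal_fg (PrinPart.diagCl f) U).pow
  unfold PrinPart.pr1 PrinPart.nbhdι
  infer_instance

/-- Let f : X ⟶ S be a morphism locally of finite presentation, n a natural number and F a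
quasi-coherent O_X-module of finite presentation. Then the sheaf of principal parts P^n_{X/S}(F),
with its left O_X-module structure, is of finite presentation. (The published statement asserts this
for either of the two O_X-module structures of P^n_{X/S}(F); this row states it for the left
structure, the one the sheaf of principal parts carries here.) -/
theorem result {X S : Scheme.{u}} (f : X ⟶ S) [LocallyOfFinitePresentation f] (n : ℕ)
    (F : X.Modules) (hF : CohB1.IsFP F) :
    CohB1.IsFP (PrinPart.PMod f n F) := by
  haveI : LocallyOfFiniteType f := inferInstance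
  haveI hfin : IsFinite (PrinPart.pr1 f n) := Groth.Agent.S5968.isFinite_pr1 f n
  haveI : LocallyOfFinitePresentation (PrinPart.pr1 f n) := lfp_pr1 f n
  haveI : F.IsQuasicoherent := Groth.Agent.Helper18Strict.isQCoh_of_isFP F hF
  haveI : ((Scheme.Modules.pullback (PrinPart.pr2 f n)).obj F).IsQuasicoherent :=
    Groth.Agent.Lib.Helper2.PullbackSec.isQuasicoherent_pullback _ F
  have h1 : CohB1.IsFP ((Scheme.Modules.pullback (PrinPart.pr2 f n)).obj F) :=
    Groth.Agent.Helper18Strict.isFP_pullback (PrinPart.pr2 f n) F hF
  exact (Groth.Agent.Lib.Helper2.FinPushFP.isFinitePresentation_pushforward_iff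
    (PrinPart.pr1 f n) _).mp h1

end Groth.Agent.S5971
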