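import Groth.Statements.S16558
import Mathlib
import Groth.Agent.Lib.R2H4EffNef
import Groth.Agent.Lib.R2H3PnH0Drop
import Groth.Agent.Lib.Helper27PnSections

set_option autoImplicit false
universe u
open CategoryTheory CategoryTheory.Limits AlgebraicGeometry TopologicalSpace
open Surf

namespace Groth.Agent.S16558

/-- Let k be an algebraically closed field, p_1, …, p_r distinct closed points of the projective plane
P²_k and σ : X → P²_k the blow-up of P²_k in the ideal of the reduced finite set {p_1, …, p_r}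
(universal property), X being regarded over k through σ; X is then an integral smooth proper surface
(carried as hypotheses). Write H = σ^*O(1), (L·M) = χ(O_X) − χ(L) − χ(M) + χ(L ⊗ M) for the
intersection number of invertible modules L, M, and for a closed subscheme C ⊆ X with ideal I_C
write (L·C) = χ(O_C ⊗ L) − χ(O_C) and C² = (I_C·I_C). If L is an invertible O_X-module with (L·H) <
0, then H⁰(X, L) = 0. (The source takes the points in general position; that assumption plays no
role here.) -/
theorem result (k : Type u) [Field k] [IsAlgClosed k]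
    (r : ℕ) (P : Fin r → ↥(CohB1.ProjSpace 2 k)) (hP : Function.Injective P)
    (hPc : ∀ i, IsClosed ({P i} : Set ↥(CohB1.ProjSpace 2 k))) (hZ : IsClosed (Set.range P))
    (X : Scheme.{u}) [X.Over (Spec (CommRingCat.of k))] (σ : X ⟶ CohB1.ProjSpace 2 k)
    (hσk : σ ≫ CohB1.ProjSpace.toSpec 2 k = X ↘ (Spec (CommRingCat.of k)))
    (hσ : BlowUp.IsBlowUp σ (Scheme.IdealSheafData.vanishingIdeal ⟨Set.range P, hZ⟩))
    [IsIntegral X] [IsProper (X ↘ (Spec (CommRingCat.of k)))] [Smooth (X ↘ (Spec (CommRingCat.of k)))] (hdim : topologicalKrullDim X = 2)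
    (L : X.Modules) (hL : PicF.IsInvertible L) (hLH : FGA.intNum k X 2 ![L, ((Scheme.Modules.pullback σ).obj (Twist.twistProjSpace 2 k 1))] (Coh.structureModule X) < 0) :
    Subsingleton (Coh.HH X L 0) := by
  classical
  have hO1 : PicF.IsInvertible (Twist.twistProjSpace 2 k 1) :=
    Groth.Agent.Lib.R2Lead.KRR.isInvertible_twistProjSpace 2 k 1
  have hgenP : Groth.Agent.Lib.R2H4NumBound.SecGen (Twist.twistProjSpace 2 k 1) := by
    intro y
    obtain ⟨j, hj⟩ := Groth.Agent.Lib.Helper27PnSections.exists_X_not_mem 2 k y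
    obtain ⟨τ, hτ⟩ := Groth.Agent.Lib.R2H3.PnH0Drop.exists_section_genLocus 2 k
      (MvPolynomial.X j) (Groth.Agent.Lib.Helper27PnChart.X_mem_one 2 k j)
    refine ⟨τ, ?_⟩
    rw [hτ]
    exact (ProjectiveSpectrum.mem_basicOpen (CohB1.polyGrading 2 k) (MvPolynomial.X j) y).mpr hj
  have hH : PicF.IsInvertible ((Scheme.Modules.pullback σ).obj (Twist.twistProjSpace 2 k 1)) :=
    Groth.Agent.Lib.Helper23.PB.isInvertible_pullback σ _ hO1
  have hgen : Groth.Agent.Lib.R2H4NumBound.SecGen
      ((Scheme.Modules.pullback σ).obj (Twist.twistProjSpace 2 k 1)) :=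
    Groth.Agent.Lib.R2H4NumBound.secGen_pullback σ _ hO1 hgenP
  have hnef := Groth.Agent.Lib.R2H4EffNef.nef_of_secGen k _ hH hgen
  exact Groth.Agent.Lib.R2H4EffNef.subsingleton_H0_of_inter_neg k hdim L hL _ hH hnef hLH

end Groth.Agent.S16558
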