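import Groth.Statements.S16602
import Mathlib
import Groth.Agent.Lib.R2LeadLGAzumaya

set_option autoImplicit false
universe u v w
open Brauer

namespace Groth.Agent.S16602

namespace Aux

lemma iso_of_split {A : Type v} [Ring A] (P Q : Type w) [AddCommGroup P] [Module A P]
    [AddCommGroup Q] [Module A Q] [Nontrivial P]
    (f : Q →ₗ[A] P) (g : P →ₗ[A] Q) (hfg : ∀ z, f (g z) = z)
    (hQ : ∀ e : Module.End A Q, IsIdempotentElem e → e = 0 ∨ e = 1) : Nonempty (P ≃ₗ[A] Q) := by
  have hid : IsIdempotentElem (g ∘ₗ f : Module.End A Q) := by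
    show (g ∘ₗ f) * (g ∘ₗ f) = g ∘ₗ f
    ext z
    simp [hfg]
  rcases hQ _ hid with h0 | h1
  · exfalso
    obtain ⟨z, hz⟩ := exists_ne (0 : P)
    apply hz
    have h2 := LinearMap.congr_fun h0 (g z)
    simp only [LinearMap.comp_apply, hfg, LinearMap.zero_apply] at h2
    rw [← hfg z, h2, map_zero]
  · refine ⟨LinearEquiv.ofLinear g f ?_ ?_⟩
    · exact h1
    · ext z
      simp [hfg]

theorem main {R : Type u} [CommRing R]
    (hR : LGRing.IsLGRing R) [ConnectedSpace (PrimeSpectrum R)] {A : Type v} [Ring A] [Algebra R A] [IsAzumaya R A]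
    (P Q : Type w) [AddCommGroup P] [Module A P] [Module.Finite A P] [Module.Projective A P] [Nontrivial P]
    [AddCommGroup Q] [Module A Q] [Module.Finite A Q] [Module.Projective A Q] [Nontrivial Q]
    (hP : ∀ e : Module.End A P, IsIdempotentElem e → e = 0 ∨ e = 1)
    (hQ : ∀ e : Module.End A Q, IsIdempotentElem e → e = 0 ∨ e = 1) : Nonempty (P ≃ₗ[A] Q) := by
  letI : Module R P := Module.compHom P (algebraMap R A)
  letI : Module R Q := Module.compHom Q (algebraMap R A)
  haveI : IsScalarTower R A P := ⟨fun r a x => by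
    show (r • a) • x = (algebraMap R A r) • (a • x)
    rw [Algebra.smul_def, mul_smul]⟩
  haveI : IsScalarTower R A Q := ⟨fun r a x => by
    show (r • a) • x = (algebraMap R A r) • (a • x)
    rw [Algebra.smul_def, mul_smul]⟩
  haveI : Module.Finite R P := Module.Finite.trans A P
  haveI : Module.Finite R Q := Module.Finite.trans A Q
  haveI : Module.Projective R P := Groth.Agent.Lib.R2Lead.LGAzumaya.projective_trans R A P
  haveI : Module.Projective R Q := Groth.Agent.Lib.R2Lead.LGAzumaya.projective_trans R A Q
  haveI : Module.FinitePresentation R P := Module.finitePresentation_of_projective R P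
  haveI : Module.FinitePresentation R Q := Module.finitePresentation_of_projective R Q
  have hcP : ∀ p q : PrimeSpectrum R, Module.rankAtStalk P p = Module.rankAtStalk P q :=
    fun p q => (Module.isLocallyConstant_rankAtStalk (R := R) (M := P)).apply_eq_of_preconnectedSpace p q
  have hcQ : ∀ p q : PrimeSpectrum R, Module.rankAtStalk Q p = Module.rankAtStalk Q q :=
    fun p q => (Module.isLocallyConstant_rankAtStalk (R := R) (M := Q)).apply_eq_of_preconnectedSpace p q
  obtain ⟨p₀⟩ : Nonempty (PrimeSpectrum R) := inferInstance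
  rcases le_total (Module.rankAtStalk P p₀) (Module.rankAtStalk Q p₀) with hle | hle
  · obtain ⟨f, g, hfg⟩ := Groth.Agent.Lib.R2Lead.LGAzumaya.exists_surjective_section
      (A := A) (M := Q) (N := P) hR (fun m hm => by
        rw [hcP ⟨m, hm.isPrime⟩ p₀, hcQ ⟨m, hm.isPrime⟩ p₀]; exact hle)
    exact iso_of_split P Q f g hfg hQ
  · obtain ⟨f, g, hfg⟩ := Groth.Agent.Lib.R2Lead.LGAzumaya.exists_surjective_section
      (A := A) (M := P) (N := Q) hR (fun m hm => by
        rw [hcP ⟨m, hm.isPrime⟩ p₀, hcQ ⟨m, hm.isPrime⟩ p₀]; exact hle)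
    obtain ⟨e⟩ := iso_of_split Q P f g hfg hP
    exact ⟨e.symm⟩

end Aux

/-- Let R be an LG-ring with Spec R connected and A an Azumaya R-algebra. Then any two indecomposable
finitely generated projective left A-modules are isomorphic (a module is indecomposable when it is
non-zero and the only idempotents of its endomorphism ring are 0 and 1). (This extends the semilocal
case.) -/
theorem result {R : Type u} [CommRing R]
    (hR : LGRing.IsLGRing R) [ConnectedSpace (PrimeSpectrum R)] {A : Type v} [Ring A] [Algebra R A] [IsAzumaya R A]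
    (P Q : Type w) [AddCommGroup P] [Module A P] [Module.Finite A P] [Module.Projective A P] [Nontrivial P]
    [AddCommGroup Q] [Module A Q] [Module.Finite A Q] [Module.Projective A Q] [Nontrivial Q]
    (hP : ∀ e : Module.End A P, IsIdempotentElem e → e = 0 ∨ e = 1)
    (hQ : ∀ e : Module.End A Q, IsIdempotentElem e → e = 0 ∨ e = 1) : Nonempty (P ≃ₗ[A] Q) := by
  exact Aux.main hR P Q hP hQ

end Groth.Agent.S16602
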