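import Groth.Statements.S16607
import Mathlib
import Groth.Agent.Lib.R2LeadLGCorner

set_option autoImplicit false
universe u v
open Brauer

namespace Groth.Agent.S16607

namespace Aux
open scoped TensorProduct

theorem main {R : Type u} [CommRing R]
    (hR : LGRing.IsLGRing R) (A B : Type v) [Ring A] [Algebra R A] [IsAzumaya R A] [Ring B] [Algebra R B]
    [IsAzumaya R B] (n : ℕ) (hn : 0 < n)
    (e : Matrix (Fin n) (Fin n) A ≃ₐ[R] Matrix (Fin n) (Fin n) B) : Nonempty (A ≃ₐ[R] B) := by
  haveI : Nonempty (Fin n) := ⟨⟨0, hn⟩⟩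
  haveI : FaithfulSMul R (Fin n → R) := ⟨fun {r r'} h => by
    have := congrFun (h (fun _ => (1 : R))) ⟨0, hn⟩
    simpa using this⟩
  let μ : Module.End R (Fin n → R) ≃ₐ[R] Matrix (Fin n) (Fin n) R := LinearMap.toMatrixAlgEquiv'
  let θ : A ⊗[R] Module.End R (Fin n → R) ≃ₐ[R] B ⊗[R] Module.End R (Fin n → R) :=
    (Algebra.TensorProduct.congr AlgEquiv.refl μ).trans <|
    (matrixEquivTensor (Fin n) R A).symm.trans <|
    e.trans <|
    (matrixEquivTensor (Fin n) R B).trans <|
    (Algebra.TensorProduct.congr AlgEquiv.refl μ.symm)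
  haveI : IsAzumaya R (Module.End R (Fin n → R)) := Groth.Agent.S19589.result R (Fin n → R)
  have hdeg : ∀ p : PrimeSpectrum R, Module.rankAtStalk (R := R) A p =
      Module.rankAtStalk (R := R) B p := by
    intro p
    have h1 := congrFun (Module.rankAtStalk_eq_of_equiv θ.toLinearEquiv) p
    rw [Module.rankAtStalk_tensorProduct, Module.rankAtStalk_tensorProduct, Pi.mul_apply,
      Pi.mul_apply] at h1
    have hpos : 0 < Module.rankAtStalk (R := R) (Module.End R (Fin n → R)) p :=
      Groth.Agent.Lib.R2Lead.LGCorner.rank_pos_of_faithful _ p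
    exact Nat.eq_of_mul_eq_mul_right hpos h1
  exact Groth.Agent.Lib.R2Lead.LGCorner.algEquiv_of_tensor_end hR A B hdeg (Fin n → R) (Fin n → R) θ

end Aux

/-- Let R be an LG-ring, A and B Azumaya R-algebras and n ≥ 1. If Mₙ(A) ≅ Mₙ(B) as R-algebras then A ≅ B
as R-algebras (cancellation of Azumaya algebras). -/
theorem result {R : Type u} [CommRing R]
    (hR : LGRing.IsLGRing R) (A B : Type v) [Ring A] [Algebra R A] [IsAzumaya R A] [Ring B] [Algebra R B]
    [IsAzumaya R B] (n : ℕ) (hn : 0 < n)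
    (e : Matrix (Fin n) (Fin n) A ≃ₐ[R] Matrix (Fin n) (Fin n) B) : Nonempty (A ≃ₐ[R] B) := by
  exact Aux.main hR A B n hn e

end Groth.Agent.S16607
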