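import Groth.Statements.S16611
import Groth.Agent.Lib.R2H3MultHomMain
import Groth.Agent.Lib.R2H3TorusChar

set_option autoImplicit false
open CategoryTheory MonoidalCategory CartesianMonoidalCategory MonObj GrpObj AlgebraicGeometry
universe u
open SGA3x

namespace Groth.Agent.S16611

/-- Over an arbitrary scheme S, a monomorphism f : T ⟶ T' of S-tori with the same rank function (at
every point of S the geometric fibres of T and T' are split tori of the same rank) is an
isomorphism. -/
theorem result {S : Scheme.{u}} {T T' : Over S} [GrpObj T] [GrpObj T']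
    (hT : Red.IsTorus T) (hT' : Red.IsTorus T') (f : T ⟶ T') [IsMonHom f] [Mono f]
    (hrk : ∀ s : ↥S, ∃ r : ℕ, Red.IsSplitTorusWith (Fin r → ℤ) (Red.geomFibre s T) ∧
      Red.IsSplitTorusWith (Fin r → ℤ) (Red.geomFibre s T')) : IsIso f := by
  classical
  -- notation
  have hMT : SGA3x.IsMultTypeFT T :=
    Groth.Agent.Lib.R2H3.TorusChar.isMultTypeFT_of_isTorus hT
  have hMT' : SGA3x.IsMultTypeFT T' :=
    Groth.Agent.Lib.R2H3.TorusChar.isMultTypeFT_of_isTorus hT'
  -- the clopen locus where the fibres of `f` are isomorphisms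
  obtain ⟨U, -, hU, hUiso⟩ := Groth.Agent.Lib.R2H3.MultHom.exists_clopen_locus T T'
    (Groth.Agent.Lib.R2H3.MultAct.locally_of_isMultTypeFT hMT) hMT' f
    (MorphismProperty.isomorphisms Scheme.{u})
    (fun M N _ _ φ => Function.Bijective φ)
    (fun W M N _ _ φ hφ => Groth.Agent.Lib.R2H3.MultHom.isIso_DSmap_left φ hφ)
    (fun W K _ a M N _ _ φ h => Groth.Agent.Lib.R2H3.MultHom.bijective_of_isIso a φ h)
  -- monomorphisms are stable under base change
  have hmono : ∀ {B : Scheme.{u}} (t : B ⟶ S), Mono (Groth.Agent.Lib.R2H3.OverBc.bcHom t f) := by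
    intro B t
    haveI : Mono ((Over.pullback t).map f) := inferInstance
    exact inferInstance
  -- the fibres of `f` are isomorphisms
  have hfib : ∀ s : S, s ∈ U := by
    intro s
    rw [hU s]
    obtain ⟨r, ⟨eT⟩, ⟨eT'⟩⟩ := hrk s
    -- the homomorphism of diagonalisable groups over the geometric point
    have hW : ∀ w : Spec (CommRingCat.of (AlgebraicClosure (S.residueField s))),
        w ∈ Groth.Agent.Lib.R2H3.MultHom.Wphi
          (Groth.Agent.Lib.R2H3.MultHom.vOf f (Red.geomPt s) eT eT')
          (AddMonoidHom.toMultiplicative.symm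
            (Groth.Agent.Lib.R2H3.MultHom.phiAt
              (Groth.Agent.Lib.R2H3.MultHom.vOf f (Red.geomPt s) eT eT') default)) := by
      intro w
      rw [Subsingleton.elim w default]
      exact Groth.Agent.Lib.R2H3.MultHom.mem_Wphi_phiAt _ _
    obtain ⟨φ, hφ⟩ : ∃ φ : (Fin r → ℤ) →+ (Fin r → ℤ), φ = AddMonoidHom.toMultiplicative.symm
        (Groth.Agent.Lib.R2H3.MultHom.phiAt
          (Groth.Agent.Lib.R2H3.MultHom.vOf f (Red.geomPt s) eT eT') default) := ⟨_, rfl⟩
    rw [← hφ] at hW
    have heq := Groth.Agent.Lib.R2H3.MultHom.bcHom_eq_of_mem_Wphi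
      (Groth.Agent.Lib.R2H3.MultHom.vOf f (Red.geomPt s) eT eT') φ
      (𝟙 (Spec (CommRingCat.of (AlgebraicClosure (S.residueField s))))) (fun y => hW _)
    -- the homomorphism of character groups is surjective
    have hm : Mono (Groth.Agent.Lib.R2H3.OverBc.bcHom
        (𝟙 (Spec (CommRingCat.of (AlgebraicClosure (S.residueField s)))) ≫ Red.geomPt s) f) :=
      hmono _
    have hm2 : Mono (Groth.Agent.Lib.R2H3.OverBc.bcHom
        (𝟙 (Spec (CommRingCat.of (AlgebraicClosure (S.residueField s)))))
        (Groth.Agent.Lib.R2H3.MultHom.vOf f (Red.geomPt s) eT eT')) := (Groth.Agent.Lib.R2H3.MultHom.bcHom_vOf_iff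
        (P := MorphismProperty.monomorphisms Scheme.{u}) f (Red.geomPt s) eT eT' (𝟙 _)).mpr hm
    rw [heq] at hm2
    have hsurj : Function.Surjective φ :=
      Groth.Agent.Lib.R2H3.MultHom.surjective_of_mono (𝟙 _) φ hm2
    have hinj : Function.Injective φ := by
      have := OrzechProperty.injective_of_surjective_endomorphism φ.toIntLinearMap hsurj
      exact this
    -- hence the homomorphism over the geometric point is an isomorphism
    have hi : (MorphismProperty.isomorphisms Scheme.{u}) (Groth.Agent.Lib.R2H3.OverBc.bcHom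
        (𝟙 (Spec (CommRingCat.of (AlgebraicClosure (S.residueField s)))))
        (Red.DSmap _ φ)) :=
      Groth.Agent.Lib.R2H3.OverBc.bcHom_of_left (P := MorphismProperty.isomorphisms Scheme.{u})
        (𝟙 _) _ (Groth.Agent.Lib.R2H3.MultHom.isIso_DSmap_left φ ⟨hinj, hsurj⟩)
    rw [← heq] at hi
    have hi2 := (Groth.Agent.Lib.R2H3.MultHom.bcHom_vOf_iff
      (P := MorphismProperty.isomorphisms Scheme.{u}) f (Red.geomPt s) eT eT' (𝟙 _)).mp hi
    rw [Category.id_comp] at hi2
    -- descend to the residue field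
    exact Groth.Agent.Lib.R2H3.OverBc.bcHom_of_descendsAlong
      (P := MorphismProperty.isomorphisms Scheme.{u}) Groth.Agent.Lib.R2H3.FpqcLocal.Qfpqc
      (Spec.map (CommRingCat.ofHom (algebraMap (S.residueField s)
        (AlgebraicClosure (S.residueField s))))) (S.fromSpecResidueField s) f
      (Groth.Agent.Lib.R2H3.MultHom.qfpqc_specMap_field _) hi2
  have hUtop : U = ⊤ := by
    rw [eq_top_iff]
    intro s _
    exact hfib s
  subst hUtop
  have h1 : IsIso (Groth.Agent.Lib.R2H3.OverBc.bcHom (⊤ : S.Opens).ι f) := hUiso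
  haveI : IsIso (⊤ : S.Opens).ι := (inferInstance : IsIso S.topIso.hom)
  haveI : IsIso (Limits.pullback.fst T'.hom (⊤ : S.Opens).ι) := inferInstance
  haveI : IsIso (Limits.pullback.fst T.hom (⊤ : S.Opens).ι) := inferInstance
  have h2 : f.left = inv (Limits.pullback.fst T.hom (⊤ : S.Opens).ι) ≫
      Groth.Agent.Lib.R2H3.OverBc.bcHom (⊤ : S.Opens).ι f ≫
        Limits.pullback.fst T'.hom (⊤ : S.Opens).ι := by
    rw [Groth.Agent.Lib.R2H3.OverBc.bcHom_fst, IsIso.inv_hom_id_assoc]
  haveI : IsIso f.left := by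
    rw [h2]
    infer_instance
  haveI : IsIso ((Over.forget S).map f) := ‹IsIso f.left›
  exact isIso_of_reflects_iso f (Over.forget S)

end Groth.Agent.S16611
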