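import Groth.Statements.S16612
import Groth.Agent.Lib.R2H3SplitJoin
import Groth.Agent.S16611

set_option autoImplicit false
open CategoryTheory MonoidalCategory CartesianMonoidalCategory MonObj GrpObj AlgebraicGeometry
universe u
open SGA3x

namespace Groth.Agent.S16612

/-- Let S be a connected scheme and G an S-group of finite multiplicative type. Then G admits a unique
maximal split subtorus; equivalently, since split subtori form a directed family, a greatest one: a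
monomorphism T ⟶ G from a split torus T ≅ D_S(ℤ^r) through which every split subtorus T' ⟶ G of G
factors. -/
theorem result {S : Scheme.{u}} [ConnectedSpace ↥S]
    {G : Over S} [GrpObj G] (hG : SGA3x.IsMultTypeFT G) :
    ∃ (T : Over S) (_ : GrpObj T) (j : T ⟶ G) (r : ℕ), IsMonHom j ∧ Mono j ∧ Red.IsSplitTorusWith (Fin r → ℤ) T ∧
      ∀ (T' : Over S) [GrpObj T'] (j' : T' ⟶ G) [IsMonHom j'] [Mono j'] (r' : ℕ),
        Red.IsSplitTorusWith (Fin r' → ℤ) T' → ∃ g : T' ⟶ T, g ≫ j = j' := by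
  classical
  obtain ⟨s₀⟩ : Nonempty S := inferInstance
  obtain ⟨r, ⟨T, instT, j, hj1, hj2, hT⟩, hmax⟩ :=
    Groth.Agent.Lib.R2H3.SplitSub.exists_max_isSplitSub hG
  refine ⟨T, instT, j, r, hj1, hj2, hT, ?_⟩
  intro T' _ j' _ _ r' hT'
  obtain ⟨r₃, T₃, instT₃, j₃, g₁, g₂, hj31, hj32, hT₃, hg₁, hg₂⟩ :=
    Groth.Agent.Lib.R2H3.SplitJoin.exists_join_of_connected hG j j' r r' hT hT'
  haveI : IsMonHom g₁ := Groth.Agent.Lib.R2H3.SplitSub.isMonHom_of_comp_mono g₁ j₃ j hg₁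
  haveI : Mono g₁ := by
    haveI : Mono (g₁ ≫ j₃) := by rw [hg₁]; exact hj2
    exact mono_of_mono g₁ j₃
  have h1 : r₃ ≤ r := hmax ⟨s₀⟩ r₃ ⟨T₃, instT₃, j₃, hj31, hj32, hT₃⟩
  have h2 : r ≤ r₃ := Groth.Agent.Lib.R2H3.SplitSub.rank_le_of_mono g₁ r r₃ hT hT₃ s₀
  obtain rfl : r = r₃ := le_antisymm h2 h1
  haveI : IsIso g₁ :=
    Groth.Agent.S16611.result (Groth.Agent.Lib.R2H3.SplitSub.isTorus_of_isSplit r hT)
      (Groth.Agent.Lib.R2H3.SplitSub.isTorus_of_isSplit r hT₃) g₁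
      (fun s => ⟨r, Groth.Agent.Lib.R2H3.SplitSub.geomFibre_isSplit r hT s,
        Groth.Agent.Lib.R2H3.SplitSub.geomFibre_isSplit r hT₃ s⟩)
  refine ⟨g₂ ≫ inv g₁, ?_⟩
  rw [Category.assoc, ← hg₁, IsIso.inv_hom_id_assoc, hg₂]

end Groth.Agent.S16612
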