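import Groth.Statements.S16614
import Groth.Agent.Lib.R2H3SplitSub
import Groth.Agent.S16611

set_option autoImplicit false
open CategoryTheory MonoidalCategory CartesianMonoidalCategory MonObj GrpObj AlgebraicGeometry
universe u
open SGA3x

namespace Groth.Agent.S16614

/-- Over an arbitrary scheme S, an S-group G of finite multiplicative type admits a maximal split
subtorus: a monomorphism T ⟶ G from a split torus T ≅ D_S(ℤ^r) which is maximal among split subtori
(if T factors through a split subtorus T' ⟶ G then the factoring morphism is an isomorphism). -/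
theorem result {S : Scheme.{u}} {G : Over S} [GrpObj G]
    (hG : SGA3x.IsMultTypeFT G) :
    ∃ (T : Over S) (_ : GrpObj T) (j : T ⟶ G) (r : ℕ), IsMonHom j ∧ Mono j ∧ Red.IsSplitTorusWith (Fin r → ℤ) T ∧
      ∀ (T' : Over S) [GrpObj T'] (j' : T' ⟶ G) [IsMonHom j'] [Mono j'] (r' : ℕ) (g : T ⟶ T'),
        Red.IsSplitTorusWith (Fin r' → ℤ) T' → g ≫ j' = j → IsIso g := by
  classical
  obtain ⟨r, ⟨T, instT, j, hj1, hj2, hT⟩, hmax⟩ :=
    Groth.Agent.Lib.R2H3.SplitSub.exists_max_isSplitSub hG
  refine ⟨T, instT, j, r, hj1, hj2, hT, ?_⟩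
  intro T' _ j' _ _ r' g hT' hg
  haveI : IsMonHom g := Groth.Agent.Lib.R2H3.SplitSub.isMonHom_of_comp_mono g j' j hg
  haveI : Mono g := by
    haveI : Mono (g ≫ j') := by rw [hg]; exact hj2
    exact mono_of_mono g j'
  by_cases hS : Nonempty S
  · have h1 : r' ≤ r := hmax hS r' ⟨T', inferInstance, j', inferInstance, inferInstance, hT'⟩
    obtain ⟨s₀⟩ := hS
    have h2 : r ≤ r' := Groth.Agent.Lib.R2H3.SplitSub.rank_le_of_mono g r r' hT hT' s₀
    obtain rfl : r = r' := le_antisymm h2 h1
    exact Groth.Agent.S16611.result (Groth.Agent.Lib.R2H3.SplitSub.isTorus_of_isSplit r hT)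
      (Groth.Agent.Lib.R2H3.SplitSub.isTorus_of_isSplit r hT') g
      (fun s => ⟨r, Groth.Agent.Lib.R2H3.SplitSub.geomFibre_isSplit r hT s,
        Groth.Agent.Lib.R2H3.SplitSub.geomFibre_isSplit r hT' s⟩)
  · haveI : IsEmpty S := not_nonempty_iff.mp hS
    haveI : IsEmpty T'.left := Function.isEmpty T'.hom
    haveI : IsIso g.left := isIso_of_isEmpty g.left
    haveI : IsIso ((Over.forget S).map g) := ‹IsIso g.left›
    exact isIso_of_reflects_iso g (Over.forget S)

end Groth.Agent.S16614
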