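import Groth.Statements.S16616
import Groth.Agent.Lib.R2H3TorusQuot

set_option autoImplicit false
open CategoryTheory MonoidalCategory CartesianMonoidalCategory MonObj GrpObj AlgebraicGeometry
universe u
open SGA3x

namespace Groth.Agent.S16616

/-- Over an arbitrary scheme S, let T be a locally split S-torus (Zariski-locally on S isomorphic to
split tori), H a subgroup scheme of T of (finite) multiplicative type and q : T ⟶ Q a homomorphism
presenting Q as the fppf quotient T/H. Then Q is a locally split torus. -/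
theorem result {S : Scheme.{u}} {T H Q : Over S} [GrpObj T]
    [GrpObj H] [GrpObj Q] (hT : (∀ s : ↥S, ∃ U : S.Opens, s ∈ U ∧ ∃ r : ℕ, Red.IsSplitTorusWith (Fin r → ℤ) (Red.bc U.ι T)))
    (i : H ⟶ T) [IsMonHom i] [Mono i] (hH : SGA3x.IsMultTypeFT H) (q : T ⟶ Q) [IsMonHom q]
    (hq : RedSub.IsQuotient i q) :
    (∀ s : ↥S, ∃ U : S.Opens, s ∈ U ∧ ∃ r : ℕ, Red.IsSplitTorusWith (Fin r → ℤ) (Red.bc U.ι Q)) := by
  intro s
  obtain ⟨U, hsU, r, ⟨e⟩⟩ := hT s
  have e' : Red.IsSplitTorusWith (Fin r → ℤ) (Red.bc (U.ι ≫ 𝟙 S) T) :=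
    ⟨Groth.Agent.Lib.R2H3.FpqcLocal.bcCongrIso (Category.comp_id U.ι) T ≪≫ e⟩
  obtain ⟨V, hsV, r', -, ⟨e4⟩⟩ :=
    Groth.Agent.Lib.R2H3.TorusQuot.exists_open_split_quot i q hH hq (𝟙 S) U r e' s hsU
  exact ⟨V, hsV, r',
    ⟨Groth.Agent.Lib.R2H3.FpqcLocal.bcCongrIso (Category.comp_id V.ι).symm Q ≪≫ e4⟩⟩

end Groth.Agent.S16616
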