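import Groth.Statements.S16617
import Groth.Agent.Lib.R2H3TorusQuot

set_option autoImplicit false
open CategoryTheory MonoidalCategory CartesianMonoidalCategory MonObj GrpObj AlgebraicGeometry
universe u
open SGA3x

namespace Groth.Agent.S16617

/-- Let S be a connected scheme, T ≅ D_S(ℤ^r) a split S-torus, H a subgroup scheme of T of (finite)
multiplicative type and q : T ⟶ Q a homomorphism presenting Q as the fppf quotient T/H. Then Q is a
split torus of rank at most r. -/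
theorem result {S : Scheme.{u}} [ConnectedSpace ↥S]
    {T H Q : Over S} [GrpObj T] [GrpObj H] [GrpObj Q] (r : ℕ) (hT : Red.IsSplitTorusWith (Fin r → ℤ) T)
    (i : H ⟶ T) [IsMonHom i] [Mono i] (hH : SGA3x.IsMultTypeFT H) (q : T ⟶ Q) [IsMonHom q]
    (hq : RedSub.IsQuotient i q) : ∃ r' : ℕ, r' ≤ r ∧ Red.IsSplitTorusWith (Fin r' → ℤ) Q := by
  obtain ⟨e⟩ := hT
  have e' : Red.IsSplitTorusWith (Fin r → ℤ) (Red.bc (𝟙 S) T) :=
    ⟨Groth.Agent.Lib.R2H3.TorusQuot.bcIdIso T ≪≫ e⟩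
  obtain ⟨s₀⟩ : Nonempty S := inferInstance
  obtain ⟨U, hU1, hU2, r', hr', hU3⟩ :=
    Groth.Agent.Lib.R2H3.TorusQuot.exists_clopen_split_quot i q hH hq (𝟙 S) r e' s₀
  have htop : (U : Set S) = Set.univ := IsClopen.eq_univ ⟨hU2, U.2⟩ ⟨s₀, hU1⟩
  obtain ⟨e5⟩ := hU3 (𝟙 S) (by rw [htop]; exact Set.subset_univ _)
  exact ⟨r', hr', ⟨(Groth.Agent.Lib.R2H3.TorusQuot.bcIdIso Q).symm ≪≫
    Groth.Agent.Lib.R2H3.FpqcLocal.bcCongrIso (Category.comp_id (𝟙 S)).symm Q ≪≫ e5⟩⟩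

end Groth.Agent.S16617
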