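import Groth.Statements.S16619
import Mathlib
import Groth.Agent.Lib.R2LeadAzCorner

set_option autoImplicit false
open scoped TensorProduct
universe u
open Brauer

namespace Groth.Agent.S16619

namespace Aux
open Groth.Agent.Lib.R2Lead.AzCorner
open Groth.Agent.Lib.R2Lead.LGCorner (L mem_L_iff finite_L projectiveR_L)

theorem main {R : Type u} [CommRing R]
    [ConnectedSpace (PrimeSpectrum R)] (A : Type u) [Ring A] [Algebra R A] [IsAzumaya R A] :
    ∃ (B : Type u) (_ : Ring B) (_ : Algebra R B) (_ : IsAzumaya R B) (P Q : Type u) (_ : AddCommGroup P)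
      (_ : Module R P) (_ : AddCommGroup Q) (_ : Module R Q),
      (∀ b : B, IsIdempotentElem b → b = 0 ∨ b = 1) ∧ Module.Finite R P ∧ Module.Projective R P ∧
      FaithfulSMul R P ∧ Module.Finite R Q ∧ Module.Projective R Q ∧ FaithfulSMul R Q ∧
      Nonempty (A ⊗[R] Module.End R P ≃ₐ[R] B ⊗[R] Module.End R Q) := by
  obtain ⟨e, he, hfaith, hidem, hpos⟩ := exists_corner_trivial_idempotents (R := R) A
  haveI hB : IsAzumaya R he.Corner := isAzumaya_corner he hfaith
  haveI := finite_L (R := R) e
  haveI := projectiveR_L (R := R) he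
  have hQf : FaithfulSMul R (L e) := ⟨fun {r r'} h => by
    have h1 : r - r' = 0 := eq_zero_of_smul_eq_zero_of_rank_pos (M := L e) hpos (r - r')
      (fun x => by rw [sub_smul, h x, sub_self])
    exact sub_eq_zero.mp h1⟩
  refine ⟨he.Corner, inferInstance, inferInstance, hB, he.Corner, L e, Ring.toAddCommGroup,
    Algebra.toModule, inferInstance, inferInstance, hidem, inferInstance, inferInstance, inferInstance, inferInstance,
    inferInstance, hQf, ?_⟩
  let μB : he.Corner ⊗[R] (he.Corner)ᵐᵒᵖ ≃ₐ[R] Module.End R he.Corner :=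
    AlgEquiv.ofBijective (AlgHom.mulLeftRight R he.Corner) IsAzumaya.bij
  exact ⟨(Algebra.TensorProduct.congr AlgEquiv.refl μB.symm).trans <|
    (Algebra.TensorProduct.congr AlgEquiv.refl
      (Algebra.TensorProduct.comm R he.Corner (he.Corner)ᵐᵒᵖ)).trans <|
    (Algebra.TensorProduct.assoc R R R A (he.Corner)ᵐᵒᵖ he.Corner).symm.trans <|
    (Algebra.TensorProduct.congr (PsiEquiv (R := R) he) AlgEquiv.refl).trans <|
    (Algebra.TensorProduct.comm R (Module.End R (L e)) he.Corner)⟩

end Aux

/-- Let R be a connected commutative ring. Then every class of the Brauer group of R is represented by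
an Azumaya algebra B with idemp(B) = {0, 1}: for every Azumaya R-algebra A there are such a B and
faithfully projective R-modules P, Q with A ⊗_R End_R(P) ≅ B ⊗_R End_R(Q) as R-algebras. -/
theorem result {R : Type u} [CommRing R]
    [ConnectedSpace (PrimeSpectrum R)] (A : Type u) [Ring A] [Algebra R A] [IsAzumaya R A] :
    ∃ (B : Type u) (_ : Ring B) (_ : Algebra R B) (_ : IsAzumaya R B) (P Q : Type u) (_ : AddCommGroup P)
      (_ : Module R P) (_ : AddCommGroup Q) (_ : Module R Q),
      (∀ b : B, IsIdempotentElem b → b = 0 ∨ b = 1) ∧ Module.Finite R P ∧ Module.Projective R P ∧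
      FaithfulSMul R P ∧ Module.Finite R Q ∧ Module.Projective R Q ∧ FaithfulSMul R Q ∧
      Nonempty (A ⊗[R] Module.End R P ≃ₐ[R] B ⊗[R] Module.End R Q) := by
  exact Aux.main A

end Groth.Agent.S16619
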