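import Groth.Statements.S16620
import Groth.Agent.Lib.R2H3SplitJoin
import Groth.Agent.Lib.R2H3TorusChar

set_option autoImplicit false
open CategoryTheory MonoidalCategory CartesianMonoidalCategory MonObj GrpObj AlgebraicGeometry
universe u
open SGA3x

namespace Groth.Agent.S16620

/-- Let S be a connected, normal, locally Noetherian scheme, T an S-torus and T₀ ⟶ T its unique maximal
split subtorus, i.e. a split subtorus through which every split subtorus of T factors. Then every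
cocharacter λ : 𝔾_m ⟶ T over S factors through T₀; this is the equality X_*(T₀)(S) = X_*(T)(S) of
groups of cocharacters defined over S. -/
theorem result {S : Scheme.{u}} [ConnectedSpace ↥S]
    [IsLocallyNoetherian S] (hnorm : ∀ x : ↥S, IsDomain (S.presheaf.stalk x) ∧ IsIntegrallyClosed (S.presheaf.stalk x))
    {T T₀ : Over S} [GrpObj T] [GrpObj T₀] (hT : Red.IsTorus T) (j₀ : T₀ ⟶ T) [IsMonHom j₀] [Mono j₀] (r₀ : ℕ)
    (hT₀ : Red.IsSplitTorusWith (Fin r₀ → ℤ) T₀)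
    (hmax : ∀ (T' : Over S) [GrpObj T'] (j' : T' ⟶ T) [IsMonHom j'] [Mono j'] (r' : ℕ),
      Red.IsSplitTorusWith (Fin r' → ℤ) T' → ∃ g : T' ⟶ T₀, g ≫ j₀ = j')
    (lam : Red.Gm S ⟶ T) [IsMonHom lam] : ∃ mu : Red.Gm S ⟶ T₀, mu ≫ j₀ = lam := by
  have hMT : SGA3x.IsMultTypeFT T :=
    Groth.Agent.Lib.R2H3.TorusChar.isMultTypeFT_of_isTorus hT
  have hfg : AddGroup.FG ℤ := Module.Finite.iff_addGroup_fg.mp inferInstance
  obtain ⟨N, g, hg1, hg2, hg3⟩ :=
    Groth.Agent.Lib.R2H3.TorusImage.exists_image_of_connected lam hfg hMT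
  obtain ⟨r', ⟨eN⟩⟩ := Groth.Agent.Lib.R2H3.SplitJoin.exists_equiv_of_subgroup_free N
  haveI := hg1
  haveI := hg2
  obtain ⟨g', hg'⟩ := hmax (Red.DS S N) g r'
    ⟨Grp.mkIso' (Groth.Agent.Lib.R2H3.SubDiag.dsIso (W := S) eN.symm)⟩
  exact ⟨Red.DSmap S N.subtype ≫ g', by rw [Category.assoc, hg', hg3]⟩

end Groth.Agent.S16620
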