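import Groth.Statements.S16627
import Groth.Agent.Lib.R2H2PnSerre
import Groth.Agent.S0022

set_option autoImplicit false
universe u
open Variety

namespace Groth.Agent.S16627

section Aux

open AlgebraicGeometry CategoryTheory CategoryTheory.Limits

variable {X : Scheme.{u}}

/-- `(F ⊗ A) ⊗ B ≅ F ⊗ C` when `A ⊗ B ≅ C` -/
noncomputable def assocIso (F A B C : X.Modules) (e : (DCoh.tensorBi.obj A).obj B ≅ C) :
    CohB1.tensorMod (CohB1.tensorMod F A) B ≅ CohB1.tensorMod F C :=
  (Groth.Agent.Lib.Helper21.ModTensor6.tLTensorIso X.sheaf F A).app B ≪≫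
    (DCoh.tensorBi.obj F).mapIso e

theorem key (F A B C : X.Modules) (hB : PicF.IsInvertible B)
    (e : (DCoh.tensorBi.obj A).obj B ≅ C) (ι : CohB1.tensorMod F A ⟶ F) [Mono ι] (i : ℕ)
    (h2 : Subsingleton (Coh.HH X (CohB1.tensorMod F B) i))
    (h1 : Subsingleton (Coh.HH X (CohB1.tensorMod F C) (i + 1))) :
    Subsingleton (Coh.HH X (CohB1.tensorMod (cokernel ι) B) i) := by
  have hmono : Mono ι := inferInstance
  let S : ShortComplex X.Modules :=
    ShortComplex.mk ι (cokernel.π ι) (cokernel.condition ι)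
  have hS : S.ShortExact :=
    { exact := ShortComplex.exact_cokernel ι
      mono_f := hmono
      epi_g := inferInstanceAs (Epi (cokernel.π ι)) }
  have hSe : (S.map (Groth.Agent.Lib.R2H2.PnSerre.twR B)).ShortExact :=
    Groth.Agent.Lib.R2H2.PnSerre.shortExact_map_twR B hB S hS
  have h2' : Subsingleton (Coh.HH X (S.map (Groth.Agent.Lib.R2H2.PnSerre.twR B)).X₂ i) := h2
  have h1' : Subsingleton (Coh.HH X (S.map (Groth.Agent.Lib.R2H2.PnSerre.twR B)).X₁ (i + 1)) :=
    Groth.Agent.Lib.R2H2.PnSerre.subsingleton_HH_of_iso (assocIso F A B C e).symm (i + 1) h1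
  refine ⟨fun a b => ?_⟩
  have key : ∀ x : Coh.HH X (S.map (Groth.Agent.Lib.R2H2.PnSerre.twR B)).X₃ i, x = 0 := fun x => by
    obtain ⟨y, hy⟩ := Groth.Agent.Lib.R2H2.HHLin.exact₃
      (S.map (Groth.Agent.Lib.R2H2.PnSerre.twR B)) hSe i x (Subsingleton.elim _ _)
    rw [← hy, Subsingleton.elim y 0, map_zero]
  exact (key a).trans (key b).symm

end Aux

open AlgebraicGeometry CategoryTheory CategoryTheory.Limits in
/-- Let k be a field, F a coherent module on projective n-space P^n_k which is m-regular, and ι : F ⊗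
O(-1) → F a monomorphism of O-modules (such as multiplication by a linear form that is a
nonzerodivisor on F, i.e. a hyperplane avoiding the associated points of F). Then the cokernel of ι
— the restriction of F to the hyperplane, as a module on P^n_k — is again m-regular. (Stated for an
arbitrary monomorphism F(-1) → F and an arbitrary ground field.) -/
theorem result (k : Type u) [Field k] (n : ℕ)
    (F : (CohB1.ProjSpace n k).Modules) (hF : Coh.IsCoh F) (m : ℤ) (hreg : Curv2.IsMRegular k n F m)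
    (ι : CohB1.tensorMod F (Twist.twistProjSpace n k (-1)) ⟶ F) [Mono ι] :
    Curv2.IsMRegular k n (cokernel ι) m := by
  intro i hi1 hin
  obtain ⟨e2⟩ := Groth.Agent.Lib.R2Lead.KRR.nonempty_twistProjSpace_tensor_iso n k (-1) (m - i)
  have hd : (-1 : ℤ) + (m - i) = m - ((i + 1 : ℕ) : ℤ) := by push_cast; ring
  rw [hd] at e2
  refine key F (Twist.twistProjSpace n k (-1)) (Twist.twistProjSpace n k (m - i))
    (Twist.twistProjSpace n k (m - ((i + 1 : ℕ) : ℤ)))
    (Groth.Agent.Lib.R2H2.PnSerre.isInv n k (m - i)) e2 ι i (hreg i hi1 hin) ?_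
  by_cases h : i + 1 ≤ n
  · exact hreg (i + 1) (by omega) h
  · have hq : F.IsQuasicoherent := hF.1
    have hq2 : (Twist.twistProjSpace n k (m - ((i + 1 : ℕ) : ℤ))).IsQuasicoherent :=
      Groth.Agent.Lib.R2H2.PnFinite.isQCoh_twist n k _
    have hq3 : Coh.IsQCoh (CohB1.tensorMod F (Twist.twistProjSpace n k (m - ((i + 1 : ℕ) : ℤ)))) :=
      Groth.Agent.Lib.Helper23.TensorQCoh.isQuasicoherent_tensorMod F _
    exact Groth.Agent.S0022.result n k _ (i + 1) (by omega)

end Groth.Agent.S16627
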