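import Groth.Statements.S16772
import Groth.Agent.Lib.R2H3TranspFin

set_option autoImplicit false
open CategoryTheory MonoidalCategory CartesianMonoidalCategory MonObj GrpObj AlgebraicGeometry
universe u
open SGA3x

namespace Groth.Agent.S16772

/-- Let G be an affine group scheme of finite presentation over a scheme S and Y ⊆ G a closed subscheme
which is finite, flat and of finite presentation over S. Then the centralizer of Y in G (points of G
commuting with every point of Y after any base change) is representable by a closed subscheme of G. -/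
theorem result {S : Scheme.{u}} (G Y : Over S) [GrpObj G]
    (hGa : IsAffineHom G.hom) (hGfp : LocallyOfFinitePresentation G.hom)
    (y : Y ⟶ G) (hy : IsClosedImmersion y.left) (hYf : IsFinite Y.hom) (hYfl : Flat Y.hom)
    (hYfp : LocallyOfFinitePresentation Y.hom) :
    ∃ (C : Over S) (c : C ⟶ G), IsClosedImmersion c.left ∧
      ∀ (X : Over S) (g : X ⟶ G), (∃ z : X ⟶ C, z ≫ c = g) ↔
        ∀ (X' : Over S) (x : X' ⟶ X) (a : X' ⟶ Y), (x ≫ g) * (a ≫ y) = (a ≫ y) * (x ≫ g) := by
  have := hGa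
  have := hYf
  have := hYfl
  have := hYfp
  haveI : IsClosedImmersion (lift (𝟙 G) (𝟙 G) : G ⟶ G ⊗ G).left := by
    change IsClosedImmersion (Limits.pullback.diagonal G.hom)
    infer_instance
  have hc : ∀ {X' : Over S} (a : X' ⟶ Y) (g' : X' ⟶ G),
      lift a g' ≫ (lift (snd Y G * (fst Y G ≫ y)) ((fst Y G ≫ y) * snd Y G) : Y ⊗ G ⟶ G ⊗ G)
        = lift (g' * (a ≫ y)) ((a ≫ y) * g') := by
    intro X' a g'
    rw [comp_lift, MonObj.comp_mul, MonObj.comp_mul, lift_snd, lift_fst_assoc]
  obtain ⟨C, j, hj, hC⟩ := Groth.Agent.Lib.R2H3.TranspFin.exists_closed_finite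
    (lift (snd Y G * (fst Y G ≫ y)) ((fst Y G ≫ y) * snd Y G) : Y ⊗ G ⟶ G ⊗ G)
    (lift (𝟙 G) (𝟙 G) : G ⟶ G ⊗ G)
  refine ⟨C, j, hj, fun X g => ?_⟩
  rw [hC]
  constructor
  · intro h X' x a
    obtain ⟨κ, hκ⟩ := h X' x a
    rw [hc, comp_lift, Category.comp_id] at hκ
    have h1 := congrArg (fun t => t ≫ fst G G) hκ
    have h2 := congrArg (fun t => t ≫ snd G G) hκ
    simp only [lift_fst, lift_snd] at h1 h2
    rw [h1, h2]
  · intro h X' x a
    refine ⟨(x ≫ g) * (a ≫ y), ?_⟩
    rw [hc, comp_lift, Category.comp_id, ← h X' x a]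

end Groth.Agent.S16772
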