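import Groth.Statements.S16794
import Mathlib
import Groth.Agent.Lib.R2LeadPCurvLin

set_option autoImplicit false
universe v u
open PCurv

namespace Groth.Agent.S16794

namespace Aux

open TensorProduct Groth.Agent.Lib.R2Lead.PCurvLin

variable {A : Type v} {B M : Type u} [CommRing A] [CommRing B] [Algebra A B]
  [AddCommGroup M] [Module B M] [Module A M] [IsScalarTower A B M]

/-- every derivation is a multiple of `θ₀`. -/
theorem lift_eq (bΩ : Module.Basis (Fin 1) B (KaehlerDifferential A B)) (θ₀ : Derivation A B B)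
    (hθ₀ : θ₀.liftKaehlerDifferential (bΩ 0) = 1) (θ' : Derivation A B B) :
    θ'.liftKaehlerDifferential = θ'.liftKaehlerDifferential (bΩ 0) • θ₀.liftKaehlerDifferential := by
  refine bΩ.ext fun i => ?_
  have hi : i = 0 := Subsingleton.elim i 0
  rw [hi, LinearMap.smul_apply, hθ₀, smul_eq_mul, mul_one]

theorem der_eq (bΩ : Module.Basis (Fin 1) B (KaehlerDifferential A B)) (θ₀ : Derivation A B B)
    (hθ₀ : θ₀.liftKaehlerDifferential (bΩ 0) = 1) (θ' : Derivation A B B) (b : B) :
    θ' b = θ'.liftKaehlerDifferential (bΩ 0) * θ₀ b := by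
  have h := lift_eq bΩ θ₀ hθ₀ θ'
  have h2 := congrArg (fun f => f (KaehlerDifferential.D A B b)) h
  simp only [Derivation.liftKaehlerDifferential_comp_D, LinearMap.smul_apply, smul_eq_mul] at h2
  exact h2

theorem lift_of_eq (bΩ : Module.Basis (Fin 1) B (KaehlerDifferential A B)) (θ₀ : Derivation A B B)
    (hθ₀ : θ₀.liftKaehlerDifferential (bΩ 0) = 1) (θ' : Derivation A B B) (h : B)
    (hh : ∀ b, θ' b = h * θ₀ b) :
    θ'.liftKaehlerDifferential (bΩ 0) = h := by
  have e : θ'.liftKaehlerDifferential = h • θ₀.liftKaehlerDifferential := by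
    apply Derivation.liftKaehlerDifferential_unique
    ext b
    show θ'.liftKaehlerDifferential (KaehlerDifferential.D A B b)
      = (h • θ₀.liftKaehlerDifferential) (KaehlerDifferential.D A B b)
    rw [Derivation.liftKaehlerDifferential_comp_D, LinearMap.smul_apply,
      Derivation.liftKaehlerDifferential_comp_D, smul_eq_mul]
    exact hh b
  rw [e, LinearMap.smul_apply, hθ₀, smul_eq_mul, mul_one]

theorem alongDer_eq (bΩ : Module.Basis (Fin 1) B (KaehlerDifferential A B)) (θ₀ : Derivation A B B)
    (hθ₀ : θ₀.liftKaehlerDifferential (bΩ 0) = 1)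
    (nabla : M →ₗ[A] M ⊗[B] KaehlerDifferential A B) (θ' : Derivation A B B) (m : M) :
    Conn.alongDer nabla θ' m
      = θ'.liftKaehlerDifferential (bΩ 0) • Conn.alongDer nabla θ₀ m := by
  show Conn.along nabla θ'.liftKaehlerDifferential m = _ • Conn.along nabla θ₀.liftKaehlerDifferential m
  have e := lift_eq bΩ θ₀ hθ₀ θ'
  generalize θ'.liftKaehlerDifferential (bΩ 0) = c at e ⊢
  rw [Conn.along_apply, Conn.along_apply, e, TensorProduct.map_smul_right,
    LinearMap.smul_apply, map_smul]

theorem alongDer_leibniz (θ₀ : Derivation A B B)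
    (nabla : M →ₗ[A] M ⊗[B] KaehlerDifferential A B)
    (hc : Conn.IsConn (KaehlerDifferential.D A B) nabla) (b : B) (m : M) :
    Conn.alongDer nabla θ₀ (b • m) = θ₀ b • m + b • Conn.alongDer nabla θ₀ m := by
  show Conn.along nabla θ₀.liftKaehlerDifferential (b • m)
    = _ + b • Conn.along nabla θ₀.liftKaehlerDifferential m
  rw [Conn.along_apply, Conn.along_apply, hc b m, map_add, map_add, map_smul, map_smul,
    TensorProduct.map_tmul, TensorProduct.rid_tmul, Derivation.liftKaehlerDifferential_comp_D,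
    LinearMap.id_apply, add_comm]

end Aux

open TensorProduct in
/-- Let p be a prime number and B a commutative algebra of characteristic p over a commutative ring A
whose module Ω of Kähler differentials over A is free of rank one on a form ω; let θ₀ be the
A-derivation of B dual to ω (its B-linear functional Ω → B takes the value 1 on ω), and let ∇ be a
connection on a finite free B-module M. Then the p-curvature of ∇ vanishes identically — for every
A-derivation θ of B and every derivation θ' that agrees with the p-fold iterate of θ, the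
endomorphism (∇_θ)^p − ∇_{θ'} of M is zero — if and only if it vanishes for the single derivation
θ₀. -/
theorem result {A : Type v} {B M : Type u} [CommRing A] [CommRing B]
    [Algebra A B] (p : ℕ) [Fact p.Prime] [CharP B p]
    [AddCommGroup M] [Module B M] [Module A M] [IsScalarTower A B M] [Module.Finite B M] [Module.Free B M]
    (bΩ : Module.Basis (Fin 1) B (KaehlerDifferential A B)) (θ₀ : Derivation A B B)
    (hθ₀ : θ₀.liftKaehlerDifferential (bΩ 0) = 1)
    (nabla : M →ₗ[A] M ⊗[B] KaehlerDifferential A B)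
    (hc : Conn.IsConn (KaehlerDifferential.D A B) nabla) :
    (∀ θ θp : Derivation A B B, Conn.IsIterPow θ p θp → Conn.pCurv p nabla θ θp = 0) ↔
      (∀ θp : Derivation A B B, Conn.IsIterPow θ₀ p θp → Conn.pCurv p nabla θ₀ θp = 0) := by
  classical
  have hp : p.Prime := Fact.out
  have hpB : (p : B) = 0 := CharP.cast_eq_zero B p
  constructor
  · intro H θp hθp
    exact H θ₀ θp hθp
  · intro H θ θp hθp
    -- additive versions
    let t₀ : B →+ B := (θ₀ : B →ₗ[A] B).toAddMonoidHom
    have ht₀ : ∀ a b, t₀ (a * b) = t₀ a * b + a * t₀ b := by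
      intro a b
      show θ₀ (a * b) = θ₀ a * b + a * θ₀ b
      rw [θ₀.leibniz, smul_eq_mul, smul_eq_mul]; ring
    have ht₀' : ∀ (r m : B), t₀ (r • m) = t₀ r • m + r • t₀ m := by
      intro r m
      simp only [smul_eq_mul]
      exact ht₀ r m
    let T : M →+ M := (Conn.alongDer nabla θ₀).toAddMonoidHom
    have hT : ∀ (r : B) (m : M), T (r • m) = t₀ r • m + r • T m :=
      fun r m => Aux.alongDer_leibniz θ₀ nabla hc r m
    -- the p-th iterate of θ₀ as a derivation
    have hpB' : ∀ b : B, p • b = 0 := fun b => by rw [nsmul_eq_mul, hpB, zero_mul]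
    let θ₀p : Derivation A B B := Derivation.mk' ((θ₀ : B →ₗ[A] B) ^ p) (by
      intro a b
      rw [Module.End.pow_apply, Module.End.pow_apply, Module.End.pow_apply]
      have := Groth.Agent.Lib.R2Lead.PCurvLin.iterate_prime_smul (R := B) (M := B) p hp hpB' t₀ t₀ ht₀' a b
      simp only [smul_eq_mul] at this
      show (⇑t₀)^[p] (a * b) = a • (⇑t₀)^[p] b + b • (⇑t₀)^[p] a
      rw [this, smul_eq_mul, smul_eq_mul]
      ring)
    have hθ₀p : Conn.IsIterPow θ₀ p θ₀p := by
      intro b
      show ((θ₀ : B →ₗ[A] B) ^ p) b = _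
      rw [Module.End.pow_apply]
      rfl
    have H0 := H θ₀p hθ₀p
    set g : B := θ.liftKaehlerDifferential (bΩ 0) with hg
    set h₀ : B := θ₀p.liftKaehlerDifferential (bΩ 0) with hh₀
    set c₁ : B := Groth.Agent.Lib.R2Lead.PCurvLin.cc t₀ g p 1 with hc₁
    -- T^p = h₀ T
    have hTp : ∀ m, T^[p] m = h₀ • T m := by
      intro m
      have h1 : (Conn.alongDer nabla θ₀ ^ p) m = Conn.alongDer nabla θ₀p m := by
        have := congrArg (fun f => f m) H0
        simp only [Conn.pCurv, LinearMap.sub_apply, LinearMap.zero_apply] at this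
        exact sub_eq_zero.1 this
      rw [Module.End.pow_apply, Aux.alongDer_eq bΩ θ₀ hθ₀ nabla θ₀p m] at h1
      exact h1
    have ht₀p : ∀ b, t₀^[p] b = h₀ * t₀ b := by
      intro b
      have := Aux.der_eq bΩ θ₀ hθ₀ θ₀p b
      rw [hθ₀p b] at this
      exact this
    -- the identity on M
    let X : M →+ M := (Conn.alongDer nabla θ).toAddMonoidHom
    have hX : ∀ m, X m = g • T m := fun m => Aux.alongDer_eq bΩ θ₀ hθ₀ nabla θ m
    have hXp : ∀ m, X^[p] m = (g ^ p * h₀ + c₁) • T m := by
      intro m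
      rw [Groth.Agent.Lib.R2Lead.PCurvLin.iterate_gT_prime p hp hpB t₀ ht₀ T hT g X hX m, hTp,
        smul_smul, ← add_smul]
    -- the identity on B
    let x : B →+ B := (θ : B →ₗ[A] B).toAddMonoidHom
    have hx : ∀ b, x b = g • t₀ b := fun b => Aux.der_eq bΩ θ₀ hθ₀ θ b
    have hxp : ∀ b, x^[p] b = (g ^ p * h₀ + c₁) * t₀ b := by
      intro b
      rw [Groth.Agent.Lib.R2Lead.PCurvLin.iterate_gT_prime p hp hpB t₀ ht₀ t₀ ht₀' g x hx b, ht₀p,
        smul_eq_mul, smul_eq_mul]
      ring
    have hθp' : θp.liftKaehlerDifferential (bΩ 0) = g ^ p * h₀ + c₁ := by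
      apply Aux.lift_of_eq bΩ θ₀ hθ₀ θp
      intro b
      rw [hθp b]
      exact hxp b
    -- conclude
    apply LinearMap.ext
    intro m
    simp only [Conn.pCurv, LinearMap.sub_apply, LinearMap.zero_apply]
    rw [sub_eq_zero, Module.End.pow_apply, Aux.alongDer_eq bΩ θ₀ hθ₀ nabla θp m, hθp']
    exact hXp m

end Groth.Agent.S16794
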