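import Groth.Statements.S16833
import Mathlib
import Groth.Agent.S10649
import Groth.Agent.S10555
import Groth.Agent.S10279
import Groth.Agent.Lib.H5bProperImage
import Groth.Agent.Lib.H5bFinA

set_option autoImplicit false
universe u
open AlgSp

namespace Groth.Agent.S16833

open CategoryTheory CategoryTheory.Limits AlgebraicGeometry in
theorem main {S : Scheme.{u}}
    {U X Y : AlgSp.Space S} (p : U ⟶ X) (f : X ⟶ Y)
    (hp : AlgSp.IsEtaleMor p.hom) (hps : AlgSp.IsSurjectiveMor p.hom)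
    (hf : AlgSp.IsSeparatedMor f.hom) (h : AlgSp.IsFiniteMor (p ≫ f).hom) :
    AlgSp.IsFiniteMor f.hom := by
  have h01 := (Groth.Agent.S10649.result (p ≫ f)).out 0 1
  obtain ⟨hprop, hlqf⟩ := h01.1 h
  have hcov : AlgSp.IsEtCover (fun _ : PUnit.{u + 1} => U.obj) (fun _ => p.hom) :=
    ⟨fun _ => hp, fun x => ⟨PUnit.unit, hps x⟩⟩
  have hlqf_f : AlgSp.LocP (@LocallyQuasiFinite ⊓ @LocallyOfFiniteType) f.hom :=
    (Groth.Agent.S10555.result S (fun _ : PUnit.{u + 1} => U.obj) (fun _ => p.hom) X.property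
      (fun _ => U.property) hcov f.hom Y.property).2 (fun _ => hlqf)
  have hsurj : ∀ y : AlgSp.Points X.obj, ∃ (k : PUnit.{u + 1}) (x : AlgSp.Points U.obj),
      AlgSp.Points.map p.hom x = y := fun y => ⟨PUnit.unit, hps y⟩
  have huc : AlgSp.IsUnivClosedMor f.hom :=
    Groth.Agent.S10279.isUnivClosedMor_of_surjective_triangle p.hom f.hom hprop.2.2 hps
  have hqc : AlgSp.IsQuasiCompactMor f.hom :=
    Groth.Agent.Lib.H5bProperImage.isQuasiCompactMor_of_jointly_surjective
      (ι := PUnit.{u + 1}) (X := fun _ => U.obj) (fun _ => U.property) X.property Y.property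
      (fun _ => p.hom) f.hom (fun _ => hprop.2.1.2) hsurj
  have hlft : AlgSp.LocP @LocallyOfFiniteType f.hom :=
    fun _ _ a b h₀ ha hb hw => (hlqf_f a b h₀ ha hb hw).2
  exact Groth.Agent.Lib.H5bFin.isFiniteMor_of_proper_lqf f ⟨hf, ⟨hlft, hqc⟩, huc⟩ hlqf_f

open CategoryTheory AlgebraicGeometry in
/-- Let p : U → X and f : X → Y be morphisms of algebraic spaces over a scheme S with p etale and
surjective and f separated. If the composite U → Y is finite, then f is finite. -/
theorem result {S : Scheme.{u}}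
    {U X Y : AlgSp.Space S} (p : U ⟶ X) (f : X ⟶ Y)
    (hp : AlgSp.IsEtaleMor p.hom) (hps : AlgSp.IsSurjectiveMor p.hom)
    (hf : AlgSp.IsSeparatedMor f.hom) (h : AlgSp.IsFiniteMor (p ≫ f).hom) :
    AlgSp.IsFiniteMor f.hom := by
  exact main p f hp hps hf h

end Groth.Agent.S16833
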