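import Groth.Statements.S16834
import Mathlib
import Groth.Agent.Lib.H5bFpqcAffBC

set_option autoImplicit false
set_option linter.style.haveILetI false
universe u
open CategoryTheory CategoryTheory.Limits AlgebraicGeometry
open AlgSp

namespace Groth.Agent.S16834

open Groth.Agent.Lib.H5bFpqcAffBC

lemma flat_specMap_field (k K : Type u) [Field k] [Field K] [Algebra k K] :
    Flat (Spec.map (CommRingCat.ofHom (algebraMap k K))) := by
  rw [HasRingHomProperty.Spec_iff (P := @Flat)]
  exact RingHom.flat_algebraMap_iff.2 inferInstance

lemma surjective_specMap_field (k K : Type u) [Field k] [Field K] [Algebra k K] :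
    Surjective (Spec.map (CommRingCat.ofHom (algebraMap k K))) := by
  refine ⟨fun x => ⟨(show PrimeSpectrum K from default), ?_⟩⟩
  haveI : Subsingleton ↥(Spec (CommRingCat.of k)) :=
    (inferInstance : Subsingleton (PrimeSpectrum k))
  exact Subsingleton.elim _ _

/-- Let k be a field with algebraic closure k̄ and X an algebraic space over Spec k which is
quasi-separated over k and whose structure morphism is locally of finite type. If the base change X
×_k Spec k̄ (product with h_{Spec k̄} in fppf sheaves over Spec k) is isomorphic to h_T for an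
affine scheme T over k, then X is isomorphic to h_U for an affine scheme U over k. -/
theorem result (k : Type u) [Field k]
    (X : AlgSp.Space (Spec (CommRingCat.of k))) (hqs : AlgSp.IsQuasiSeparatedSp X.obj)
    (hlft : ∀ q : X.obj ⟶ (AlgSp.yon (Spec (CommRingCat.of k))).obj (Over.mk (𝟙 _)),
      AlgSp.LocP @LocallyOfFiniteType q)
    (kbar : Type u) [Field kbar] [Algebra k kbar] [IsAlgClosure k kbar]
    (T : Over (Spec (CommRingCat.of k))) (hT : IsAffine T.left)
    (e : X.obj ⨯ (AlgSp.yon (Spec (CommRingCat.of k))).obj
        (Over.mk (Spec.map (CommRingCat.ofHom (algebraMap k kbar)))) ≅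
      (AlgSp.yon (Spec (CommRingCat.of k))).obj T) :
    ∃ (U : Over (Spec (CommRingCat.of k))), IsAffine U.left ∧
      Nonempty (X.obj ≅ (AlgSp.yon (Spec (CommRingCat.of k))).obj U) := by
  haveI : Flat (Over.mk (Spec.map (CommRingCat.ofHom (algebraMap k kbar)))).hom :=
    flat_specMap_field k kbar
  haveI : Surjective (Over.mk (Spec.map (CommRingCat.ofHom (algebraMap k kbar)))).hom :=
    surjective_specMap_field k kbar
  obtain ⟨U, hU, ⟨i⟩⟩ := exists_affine_of_prod_affine (S := Spec (CommRingCat.of k)) inferInstance
    (Over.mk (Spec.map (CommRingCat.ofHom (algebraMap k kbar))))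
    (inferInstanceAs (IsAffine (Spec (CommRingCat.of kbar)))) X.obj X.property T hT e
  exact ⟨U, hU, ⟨i⟩⟩

end Groth.Agent.S16834
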