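import Groth.Statements.S1688
import Groth.Agent.Lib.Helper2LocFree
import Groth.Agent.Lib.Helper23FinPres
import Groth.Agent.Lib.Helper28Catenary
import Groth.Agent.Lib.Helper5RLR
import Groth.Agent.Lib.Helper4FibDimL

set_option autoImplicit false
universe u
open CategoryTheory CategoryTheory.Limits AlgebraicGeometry TopologicalSpace
open SDiv

namespace Groth.Agent.S1688

/-- Let X be a locally Noetherian integral scheme of dimension at most 1 all of whose local rings are
regular, and F a coherent module on X. Then F is torsion free (every stalk is a torsion-free module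
over the local ring) if and only if F is finite locally free. -/
theorem result (X : Scheme.{u}) [IsIntegral X] [IsLocallyNoetherian X] (hreg : ∀ x : ↥X, IsRegularLocalRing (X.presheaf.stalk x))
    (hdim : topologicalKrullDim ↥X ≤ 1) (F : X.Modules) (hF : Coh.IsCoh F) :
    (∀ x : ↥X, NoZeroSMulDivisors (X.presheaf.stalk x) (F.presheaf.stalk x)) ↔ FlatMod.IsFinLocFree F := by
  have hq : F.IsQuasicoherent := hF.1
  have hft : SheafOfModules.IsFiniteType (R := X.ringCatSheaf) F := hF.2
  have hfp : SheafOfModules.IsFinitePresentation (R := X.ringCatSheaf) F :=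
    Groth.Agent.Lib.Helper23.FinType.isFinitePresentation_of_isFiniteType F
  -- every stalk is a Dedekind domain
  have hded : ∀ x : ↥X, IsDedekindDomain (X.presheaf.stalk x) := by
    intro x
    have := hreg x
    have : IsDomain (X.presheaf.stalk x) :=
      Groth.Agent.Lib.Helper5.isDomain_of_isRegularLocalRing _
    have : IsIntegrallyClosed (X.presheaf.stalk x) :=
      Groth.Agent.Lib.Helper28.isIntegrallyClosed_of_isRegularLocalRing _
    have hle : ringKrullDim (X.presheaf.stalk x) ≤ 1 :=
      (Groth.Agent.Lib.Helper4.FibDim.ringKrullDim_stalk_le_topologicalKrullDim X x).trans hdim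
    have : Ring.KrullDimLE 1 (X.presheaf.stalk x) := (Ring.krullDimLE_iff).2 (by exact_mod_cast hle)
    have : Ring.DimensionLEOne (X.presheaf.stalk x) :=
      ⟨fun {p} hp hpp => (Ring.krullDimLE_one_iff_of_noZeroDivisors.1 inferInstance) p hp hpp⟩
    exact { }
  constructor
  · intro h x
    have := hded x
    have := h x
    have : Module.IsTorsionFree (X.presheaf.stalk x) (F.presheaf.stalk x) :=
      Module.isTorsionFree_iff_smul_eq_zero.2 (fun r m hrm => smul_eq_zero.1 hrm)
    have hflat : FlatMod.IsFlatAt F x := (inferInstance : Module.Flat _ _)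
    obtain ⟨D, m, hxD, he⟩ :=
      Groth.Agent.Lib.Helper2.LocFree.exists_restrict_iso_freeMod_of_isFlatAt F x hflat
    exact ⟨D, m, hxD, he⟩
  · intro h x
    have := hded x
    have hflat : Module.Flat (X.presheaf.stalk x) (F.presheaf.stalk x) :=
      Groth.Agent.Lib.Helper2.LocFree.isFlat_of_isFinLocFree F h x
    have : Module.IsTorsionFree (X.presheaf.stalk x) (F.presheaf.stalk x) := inferInstance
    exact ⟨fun {r m} hrm => (Module.isTorsionFree_iff_smul_eq_zero.1 inferInstance) r m hrm⟩

end Groth.Agent.S1688
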