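import Groth.Statements.S1689
import Groth.Agent.S0605
import Groth.Agent.Lib.H9FreeFib
import Groth.Agent.Lib.Helper2FibreCrit2
import Groth.Agent.Lib.Helper23FinPres
import Groth.Agent.Lib.Helper28DepthSk
import Groth.Agent.Lib.Helper5RLR3
import Groth.Agent.Lib.Helper5CM
import Groth.Agent.Lib.Helper4FibDimL

set_option autoImplicit false
universe u
open CategoryTheory CategoryTheory.Limits AlgebraicGeometry TopologicalSpace
open SDiv

namespace Groth.Agent.S1689

/-- A finite reflexive module over a regular local ring of dimension at most two is free. -/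
theorem free_of_isReflexive (R : Type u) [CommRing R] [IsRegularLocalRing R]
    (hdim : ringKrullDim R ≤ 2) (M : Type u) [AddCommGroup M] [Module R M] [Module.Finite R M]
    [Module.IsReflexive R M] : Module.Free R M := by
  have hNoeth : IsNoetherianRing R := inferInstance
  by_cases hM : Subsingleton M
  · exact Module.Free.of_subsingleton R M
  rw [not_subsingleton_iff_nontrivial] at hM
  apply Groth.Agent.S0605.result R M
  have hCM := Groth.Agent.Lib.Helper5.isCohenMacaulayLocalRing_of_isRegularLocalRing R
  have hdepthR : ((LocCoh.depth R R : ℕ∞) : WithBot ℕ∞) = ringKrullDim R := by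
    rw [← hCM.supportDim_eq_depth, Module.supportDim_self_eq_ringKrullDim]
  have h1 : ((LocCoh.depth R M : ℕ∞) : WithBot ℕ∞) ≤ Module.supportDim R M :=
    Groth.Agent.Lib.Helper5.depth_le_supportDim
  have h2 : Module.supportDim R M ≤ ringKrullDim R := Module.supportDim_le_ringKrullDim R M
  refine le_antisymm (h1.trans h2) ?_
  -- lower bound
  have hcongr : LocCoh.depth R M = LocCoh.depth R (Module.Dual R M →ₗ[R] R) :=
    Groth.Agent.Lib.Helper28.idealDepth_congr (Module.evalEquiv R M) (IsLocalRing.maximalIdeal R)
  rw [← hdepthR] at hdim ⊢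
  have hdim' : LocCoh.depth R R ≤ 2 := by
    have h2' : ((LocCoh.depth R R : ℕ∞) : WithBot ℕ∞) ≤ ((2 : ℕ∞) : WithBot ℕ∞) := hdim
    exact WithBot.coe_le_coe.1 h2'
  rw [hcongr]
  have key : LocCoh.depth R R ≤ LocCoh.depth R (Module.Dual R M →ₗ[R] R) := by
    obtain ⟨n, h⟩ : ∃ n : ℕ, LocCoh.depth R R = n := by
      have hne : LocCoh.depth R R ≠ ⊤ := ne_top_of_le_ne_top (by simp) hdim'
      exact ⟨(LocCoh.depth R R).toNat, (ENat.natCast_toNat hne).symm⟩
    · have hn : (n : ℕ∞) ≤ 2 := by
        rw [h] at hdim'
        exact hdim'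
      have hn' : n ≤ 2 := by exact_mod_cast hn
      rw [h]
      interval_cases n
      · exact zero_le
      · exact Groth.Agent.Lib.Helper28.one_le_idealDepth_hom (IsLocalRing.maximalIdeal R)
          (Module.Dual R M) R (by
            change (1 : ℕ∞) ≤ LocCoh.depth R R
            rw [h]; rfl)
      · exact Groth.Agent.Lib.Helper28.two_le_idealDepth_hom (IsLocalRing.maximalIdeal R)
          (Module.Dual R M) R (by
            change (2 : ℕ∞) ≤ LocCoh.depth R R
            rw [h]; rfl)
  exact_mod_cast key

/-- Let X be a locally Noetherian scheme of dimension at most 2 all of whose local rings are regular,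
and F a coherent module on X. Then F is reflexive (every stalk is a reflexive module over the local
ring) if and only if F is finite locally free. -/
theorem result (X : Scheme.{u}) [IsLocallyNoetherian X]
    (hreg : ∀ x : ↥X, IsRegularLocalRing (X.presheaf.stalk x)) (hdim : topologicalKrullDim ↥X ≤ 2) (F : X.Modules)
    (hF : Coh.IsCoh F) : (∀ x : ↥X, Module.IsReflexive (X.presheaf.stalk x) (F.presheaf.stalk x)) ↔ FlatMod.IsFinLocFree F := by
  have hq : F.IsQuasicoherent := hF.1
  have hft : SheafOfModules.IsFiniteType (R := X.ringCatSheaf) F := hF.2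
  have hfp : SheafOfModules.IsFinitePresentation (R := X.ringCatSheaf) F :=
    Groth.Agent.Lib.Helper23.FinType.isFinitePresentation_of_isFiniteType F
  rw [Groth.Agent.Lib.H9FreeFib.isFinLocFree_iff_forall_free F]
  have hfin : ∀ x : ↥X, Module.Finite (X.presheaf.stalk x) (F.presheaf.stalk x) :=
    fun x => Groth.Agent.Lib.Helper2.FibreCrit.finite_stalk F x
  constructor
  · intro h x
    have := hreg x
    have := hfin x
    have := h x
    have hle : ringKrullDim (X.presheaf.stalk x) ≤ 2 :=
      (Groth.Agent.Lib.Helper4.FibDim.ringKrullDim_stalk_le_topologicalKrullDim X x).trans hdim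
    exact free_of_isReflexive (X.presheaf.stalk x) hle (F.presheaf.stalk x)
  · intro h x
    have := hfin x
    have := h x
    infer_instance

end Groth.Agent.S1689
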