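import Groth.Statements.S16896
import Mathlib
import Groth.Agent.Lib.R2H4NefBigD
import Groth.Agent.Lib.Helper6SmGeom

set_option autoImplicit false
universe u
open CategoryTheory CategoryTheory.Limits AlgebraicGeometry
open Vanish

namespace Groth.Agent.S16896

/-- Let k be an algebraically closed field of characteristic zero and X an irreducible proper smooth
k-scheme of dimension n with an ample invertible O_X-module (a projective manifold). Let L be a
numerically effective invertible O_X-module (non-negative degree on every integral one-dimensional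
closed subscheme) and L⁻¹ a tensor inverse of L. Then the Iitaka dimension of L equals n, expressed
by the equivalent condition that some L^⊗ν with ν > 0 receives a monomorphism from an ample
invertible module (L^⊗ν ≅ A(C) with A ample and C effective), if and only if the self-intersection
number c_1(L)^n = ∫ c_1(L)^n · [O_X] (the alternating sum of Euler characteristics attached to n
copies of L⁻¹) is positive. (Only the characteristic-zero case is stated; the
positive-characteristic case assumes a lifting to the Witt vectors of length two.) -/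
theorem result (k : Type u) [Field k] [IsAlgClosed k] [CharZero k]
    (X : Scheme.{u}) [X.Over (Spec (CommRingCat.of k))] [IsProper (X ↘ Spec (CommRingCat.of k))]
    [Smooth (X ↘ Spec (CommRingCat.of k))] [IrreducibleSpace X] (n : ℕ) (hn : topologicalKrullDim X = n)
    (H : X.Modules) (hH : CohB1.IsAmple H) (L Linv : X.Modules) (hL : PicF.IsInvertible L) (hLinv : ClSub.IsInverseOf Linv L)
    (hnef : (∀ (Y : Scheme.{u}) (i : Y ⟶ X) [IsClosedImmersion i], IsIntegral Y → topologicalKrullDim Y = 1 →
      0 ≤ Pic13.curveDeg k (i ≫ (X ↘ Spec (CommRingCat.of k))) ((Scheme.Modules.pullback i).obj L))) :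
    (∃ (ν : ℕ) (A : X.Modules) (φ : A ⟶ CohB1.tensorPow L ν), 0 < ν ∧ CohB1.IsAmple A ∧ Mono φ) ↔
      0 < FGA.intNum k X n (fun _ : Fin n => Linv) (Coh.structureModule X) := by
  classical
  haveI : IsReduced X := Groth.Agent.Lib.Helper6.SmGeom.isReduced_of_smooth_over_field k X
    (X ↘ Spec (CommRingCat.of k))
  haveI : IsIntegral X := isIntegral_of_irreducibleSpace_of_isReduced X
  haveI := Groth.Agent.Lib.R2H1.CurveEuler.isNoetherian_of_proper k X
  have hX : topologicalKrullDim X = ((n : ℕ) : WithBot ℕ∞) := hn
  have hnef' : Groth.Agent.Lib.R2H4KleimanA.Nef k X L :=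
    Groth.Agent.Lib.R2H4KleimanC.nef_of_forall_closedImmersion k X L hnef
  obtain ⟨e₀⟩ := hLinv
  have e : CohB1.tensorMod L Linv ≅ Coh.structureModule X :=
    Groth.Agent.Lib.R2H4TensorPows.tComm L Linv ≪≫ e₀
  have hLinvI : PicF.IsInvertible Linv :=
    Groth.Agent.Lib.R2H3.NegTwist.isInvertible_of_isInverseOf L Linv ⟨e⟩
  have cO : Coh.IsCoh (Coh.structureModule X) :=
    Groth.Agent.Lib.R2H1.GenusLe.isCoh_structureModule X
  have key := Groth.Agent.Lib.R2H4NefBigA.intNum_const_inv_eq_iN k L Linv hL hLinvI e
    (Coh.structureModule X) cO n hX.le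
  constructor
  · rintro ⟨ν, A, φ, _, hA, hφ⟩
    haveI := hφ
    have h1 := Groth.Agent.Lib.R2H4NefBigB.pos_of_mono k n hX L hL hnef' A hA ν φ
    rw [← key] at h1
    exact_mod_cast h1
  · intro hpos
    have hpos' : 0 < Groth.Agent.Lib.R2H4MultiAdd.iN k (fun _ : Fin n => L)
        (Coh.structureModule X) := by
      rw [← key]
      exact_mod_cast hpos
    obtain ⟨c, hc, hfreq⟩ := Groth.Agent.Lib.R2H4NefBigD.exists_freq_of_pos k n hX L hL hnef' H hH
      hpos'
    obtain ⟨a, ha, ⟨s, hs⟩, -⟩ := Groth.Agent.Lib.R2H4VolBig.exists_pow_sections H hH L hL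
    have hB : CohB1.IsAmple (CohB1.tensorPow H a) :=
      (Groth.Agent.Lib.Helper23.SecTw.isAmple_tensorPow_iff H hH.1 a ha).1 hH
    obtain ⟨m, φ, hm, hφ⟩ := Groth.Agent.Lib.R2H4VolBig.exists_mono_of_growth k H hH n hX L hL
      c hc hfreq _ hB.1 s hs
    exact ⟨m, _, φ, hm, hB, hφ⟩

end Groth.Agent.S16896
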