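import Groth.Statements.S16901
import Mathlib
import Groth.Agent.Lib.R2H4VolBig
import Groth.Agent.Lib.R2H4BigChar

set_option autoImplicit false
universe u
open CategoryTheory CategoryTheory.Limits AlgebraicGeometry
open Vanish

namespace Groth.Agent.S16901

/-- Let k be an algebraically closed field and X an integral proper k-scheme of dimension n with an
ample invertible O_X-module (a projective variety, not assumed non-singular), and let L be an
invertible O_X-module. The Iitaka dimension of L is n, in the growth form the text adopts as its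
working definition (for some ν > 0 there is a constant a > 0 with μ^n ≤ a · dim_k H^0(X, L^⊗νμ) for
all μ ≥ 1), if and only if for some ν > 0 there are an ample invertible module A and a monomorphism
A → L^⊗ν (that is, L^⊗ν(−C) is ample for some effective divisor C). -/
theorem result (k : Type u) [Field k] [IsAlgClosed k]
    (X : Scheme.{u}) [X.Over (Spec (CommRingCat.of k))] [IsIntegral X] [IsProper (X ↘ Spec (CommRingCat.of k))]
    (n : ℕ) (hn : topologicalKrullDim X = n) (H : X.Modules) (hH : CohB1.IsAmple H)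
    (L : X.Modules) (hL : PicF.IsInvertible L) :
    (∃ ν a : ℕ, 0 < ν ∧ 0 < a ∧ ∀ μ : ℕ, 1 ≤ μ →
        μ ^ n ≤ a * Module.finrank k (Coh.HH X (CohB1.tensorPow L (ν * μ)) 0)) ↔
      ∃ (ν : ℕ) (A : X.Modules) (φ : A ⟶ CohB1.tensorPow L ν), 0 < ν ∧ CohB1.IsAmple A ∧ Mono φ := by
  classical
  have hn' : topologicalKrullDim X = ((n : ℕ) : WithBot ℕ∞) := hn
  constructor
  · rintro ⟨ν, a, hν, ha, hgrow⟩
    set L' := CohB1.tensorPow L ν with hL'def
    have hL' : PicF.IsInvertible L' :=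
      Groth.Agent.Lib.Helper23.SecTw.isInvertible_tensorPow hL ν
    obtain ⟨b, hb, ⟨s, hs⟩, _⟩ :=
      Groth.Agent.Lib.R2H4VolBig.exists_pow_sections H hH L' hL'
    have hB : CohB1.IsAmple (CohB1.tensorPow H b) :=
      (Groth.Agent.Lib.Helper23.SecTw.isAmple_tensorPow_iff H hH.1 b hb).1 hH
    have haR : (0 : ℝ) < (a : ℝ) := by exact_mod_cast ha
    have hfreq : ∃ᶠ m : ℕ in Filter.atTop, (1 / (a : ℝ)) * (m : ℝ) ^ n ≤
        (Groth.Agent.Lib.R2H4H0Growth.h0 k (CohB1.tensorPow L' m) : ℝ) := by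
      refine Filter.Eventually.frequently ?_
      filter_upwards [Filter.eventually_ge_atTop 1] with m hm
      have h1 := hgrow m hm
      rw [Groth.Agent.Lib.R2H4VolBig.h0_pow_pow k L hL ν m]
      have h2 : ((m ^ n : ℕ) : ℝ) ≤ ((a * Module.finrank k (Coh.HH X (CohB1.tensorPow L (ν * m)) 0) : ℕ) : ℝ) := by
        exact_mod_cast h1
      push_cast at h2
      rw [div_mul_eq_mul_div, one_mul, div_le_iff₀ haR]
      unfold Groth.Agent.Lib.R2H4H0Growth.h0
      linarith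
    obtain ⟨m, φ, hm, hφ⟩ := Groth.Agent.Lib.R2H4VolBig.exists_mono_of_growth k H hH n hn' L' hL'
      (1 / (a : ℝ)) (by positivity) hfreq _ hB.1 s hs
    obtain ⟨e⟩ := Groth.Agent.Lib.Helper23.SecTw.nonempty_tensorPow_tensorPow_iso L hL ν m (ν * m) rfl
    exact ⟨ν * m, CohB1.tensorPow H b, φ ≫ e.hom, Nat.mul_pos hν hm, hB, mono_comp _ _⟩
  · rintro ⟨ν, A, φ, hν, hA, hφ⟩
    have hL' : PicF.IsInvertible (CohB1.tensorPow L ν) :=
      Groth.Agent.Lib.Helper23.SecTw.isInvertible_tensorPow hL ν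
    obtain ⟨c, hc, q₀, hq₀⟩ := Groth.Agent.Lib.R2H4VolBig.exists_lower_bound_ample k n hn' A hA
    set q₁ := max q₀ 1 with hq₁
    have hq₁pos : 0 < q₁ := lt_of_lt_of_le Nat.one_pos (le_max_right _ _)
    have hq₁R : (0 : ℝ) < (q₁ : ℝ) := by exact_mod_cast hq₁pos
    set C : ℝ := 1 / (c * (q₁ : ℝ) ^ n) with hCdef
    have hCpos : 0 < C := by positivity
    obtain ⟨a, haC⟩ := exists_nat_ge C
    have haR : (0 : ℝ) < (a : ℝ) := lt_of_lt_of_le hCpos haC
    have ha : 0 < a := by exact_mod_cast haR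
    refine ⟨ν * q₁, a, Nat.mul_pos hν hq₁pos, ha, fun μ hμ => ?_⟩
    have hq : q₀ ≤ q₁ * μ := by
      calc q₀ ≤ q₁ := le_max_left _ _
        _ = q₁ * 1 := (mul_one _).symm
        _ ≤ q₁ * μ := Nat.mul_le_mul_left _ hμ
    have h1 := hq₀ (q₁ * μ) hq
    haveI : Mono φ := hφ
    have h2 : Groth.Agent.Lib.R2H4H0Growth.h0 k (CohB1.tensorPow A (q₁ * μ)) ≤
        Groth.Agent.Lib.R2H4H0Growth.h0 k (CohB1.tensorPow (CohB1.tensorPow L ν) (q₁ * μ)) :=
      Groth.Agent.Lib.R2H4VolBasic.h0_pow_le_of_mono k hA.1 hL' φ (q₁ * μ)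
    rw [Groth.Agent.Lib.R2H4VolBig.h0_pow_pow k L hL ν (q₁ * μ)] at h2
    have h3 : (Groth.Agent.Lib.R2H4H0Growth.h0 k (CohB1.tensorPow A (q₁ * μ)) : ℝ) ≤
        (Groth.Agent.Lib.R2H4H0Growth.h0 k (CohB1.tensorPow L (ν * (q₁ * μ))) : ℝ) := by
      exact_mod_cast h2
    have h4 : c * ((q₁ : ℝ) ^ n * (μ : ℝ) ^ n) ≤
        (Groth.Agent.Lib.R2H4H0Growth.h0 k (CohB1.tensorPow L (ν * (q₁ * μ))) : ℝ) := by
      have : ((q₁ * μ : ℕ) : ℝ) ^ n = (q₁ : ℝ) ^ n * (μ : ℝ) ^ n := by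
        push_cast; rw [mul_pow]
      rw [← this]
      exact h1.trans h3
    have h5 : (μ : ℝ) ^ n ≤ (a : ℝ) *
        (Groth.Agent.Lib.R2H4H0Growth.h0 k (CohB1.tensorPow L (ν * (q₁ * μ))) : ℝ) := by
      have hh0 : (0 : ℝ) ≤ (Groth.Agent.Lib.R2H4H0Growth.h0 k (CohB1.tensorPow L (ν * (q₁ * μ))) : ℝ) :=
        Nat.cast_nonneg _
      have hcq : 0 < c * (q₁ : ℝ) ^ n := by positivity
      calc (μ : ℝ) ^ n = C * (c * ((q₁ : ℝ) ^ n * (μ : ℝ) ^ n)) := by
            rw [hCdef]; field_simp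
        _ ≤ C * (Groth.Agent.Lib.R2H4H0Growth.h0 k (CohB1.tensorPow L (ν * (q₁ * μ))) : ℝ) :=
            mul_le_mul_of_nonneg_left h4 hCpos.le
        _ ≤ (a : ℝ) * _ := mul_le_mul_of_nonneg_right haC hh0
    have h6 : ((μ ^ n : ℕ) : ℝ) ≤
        ((a * Module.finrank k (Coh.HH X (CohB1.tensorPow L (ν * q₁ * μ)) 0) : ℕ) : ℝ) := by
      push_cast
      rw [mul_assoc ν q₁ μ]
      exact h5
    exact_mod_cast h6

end Groth.Agent.S16901
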