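import Groth.Statements.S16904
import Mathlib
import Groth.Agent.Lib.R2H4SemiAmpleKappa
import Groth.Agent.Lib.R2H4NumDimC
import Groth.Agent.Lib.Helper6SmGeom
import Groth.Agent.Lib.R2H3NegTwist

set_option autoImplicit false
universe u
open CategoryTheory CategoryTheory.Limits AlgebraicGeometry
open Vanish

namespace Groth.Agent.S16904

/-- Let k be an algebraically closed field of characteristic zero and X an irreducible proper smooth
k-scheme of dimension n with an ample invertible O_X-module (a projective manifold); let L be a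
semi-ample invertible O_X-module (some L^⊗μ with μ > 0 is globally generated; such L is numerically
effective) with tensor inverse L⁻¹. Then for every natural number m, c_1(L)^m is numerically trivial
— (L^m · V) = 0 for every integral closed subscheme V ⊆ X of dimension m — if and only if κ(L) < m
in the growth form: there are no ν > 0 and a > 0 with μ^m ≤ a · dim_k H^0(X, L^⊗νμ) for all μ ≥ 1.
(This expresses ν(L) = κ(L) for semi-ample L; characteristic zero only.) -/
theorem result (k : Type u) [Field k] [IsAlgClosed k] [CharZero k]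
    (X : Scheme.{u}) [X.Over (Spec (CommRingCat.of k))] [IsProper (X ↘ Spec (CommRingCat.of k))]
    [Smooth (X ↘ Spec (CommRingCat.of k))] [IrreducibleSpace X] (n : ℕ) (hn : topologicalKrullDim X = n)
    (H : X.Modules) (hH : CohB1.IsAmple H) (L Linv : X.Modules) (hL : PicF.IsInvertible L) (hLinv : ClSub.IsInverseOf Linv L)
    (hsa : ∃ μ : ℕ, 0 < μ ∧ Curv2.IsGloballyGenerated (CohB1.tensorPow L μ))
    (m : ℕ) :
    (∀ (V : Scheme.{u}) (i : V ⟶ X) [IsClosedImmersion i], IsIntegral V → topologicalKrullDim V = (m : ℕ) →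
      FGA.intNum k X n (fun _ : Fin m => Linv) ((Scheme.Modules.pushforward i).obj (Coh.structureModule V)) = 0) ↔ ¬ (∃ ν a : ℕ, 0 < ν ∧ 0 < a ∧ ∀ μ : ℕ, 1 ≤ μ →
        μ ^ m ≤ a * Module.finrank k (Coh.HH X (CohB1.tensorPow L (ν * μ)) 0)) := by
  classical
  haveI : IsReduced X := Groth.Agent.Lib.Helper6.SmGeom.isReduced_of_smooth_over_field k X
    (X ↘ Spec (CommRingCat.of k))
  haveI : IsIntegral X := isIntegral_of_irreducibleSpace_of_isReduced X
  have hX : topologicalKrullDim X = ((n : ℕ) : WithBot ℕ∞) := hn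
  obtain ⟨e₀⟩ := hLinv
  have e : CohB1.tensorMod L Linv ≅ Coh.structureModule X :=
    Groth.Agent.Lib.R2H4TensorPows.tComm L Linv ≪≫ e₀
  have hLinvI : PicF.IsInvertible Linv :=
    Groth.Agent.Lib.R2H3.NegTwist.isInvertible_of_isInverseOf L Linv ⟨e⟩
  obtain ⟨μ₀, hμ₀, hgg⟩ := hsa
  constructor
  · intro hm
    have hnef' : Groth.Agent.Lib.R2H4KleimanA.Nef k X L :=
      Groth.Agent.Lib.R2H4SemiAmpleKappa.nef_of_semiAmple k L hL μ₀ hμ₀ hgg
    have hnt := Groth.Agent.Lib.R2H4NumDimC.numTrivial_of_intNum k n hX.le L Linv hL hLinvI e m hm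
    exact Groth.Agent.Lib.R2H4NumDimC.not_growth k n hX L H hL hnef' hH m hnt
  · intro hng V i _ hV hdim
    by_contra hne
    exact hng (Groth.Agent.Lib.R2H4SemiAmpleKappa.growth_of_intNum_ne_zero k n hX.le L Linv hL
      hLinvI e μ₀ hμ₀ hgg m V i hV hdim hne)

end Groth.Agent.S16904
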