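import Groth.Statements.S16917
import Groth.Agent.Lib.Helper8UncountableGeo

set_option autoImplicit false
open CategoryTheory AlgebraicGeometry
universe u
open Variety

namespace Groth.Agent.S16917

/-- Let k be an uncountable algebraically closed field, X a k-scheme of finite type and Z₀, Z₁, …
countably many closed subsets of X. Then the countable union of the Zₙ, read through closed points,
has a unique irredundant decomposition: there is exactly one countable family S of irreducible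
closed subsets of X, pairwise not contained in one another, such that a closed point of X lies in
some member of S if and only if it lies in some Zₙ. (The published statement is the existence and
uniqueness of the irredundant decomposition of a countable union of algebraic varieties into
c-components, a variety being read through its closed points; with all points of the scheme the
uniqueness would not need the uncountable field.) -/
theorem result (k : Type u) [Field k] [IsAlgClosed k]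
    [Uncountable k] (X : Scheme.{u}) (sX : X ⟶ Spec (CommRingCat.of k)) [LocallyOfFiniteType sX]
    [QuasiCompact sX] (Z : ℕ → TopologicalSpace.Closeds X) :
    ∃! S : Set (TopologicalSpace.Closeds X), S.Countable ∧ (∀ T ∈ S, IsIrreducible (T : Set X)) ∧
      IsAntichain (· ≤ ·) S ∧
      {x : X | IsClosed ({x} : Set X) ∧ ∃ T ∈ S, x ∈ T} =
        {x : X | IsClosed ({x} : Set X) ∧ ∃ n, x ∈ Z n} := by
  classical
  have hLN : IsLocallyNoetherian X := LocallyOfFiniteType.isLocallyNoetherian sX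
  have hC : CompactSpace X := QuasiCompact.compactSpace_of_compactSpace sX
  have hN : IsNoetherian X := {}
  have hwf := Groth.Agent.Lib.Helper8Uncountable.wellFoundedGT_irreducibleCloseds X
  -- the key comparison step for uniqueness
  have step : ∀ S₁ S₂ : Set (TopologicalSpace.Closeds X),
      (∀ T ∈ S₁, IsIrreducible (T : Set X)) → S₂.Countable →
      {x : X | IsClosed ({x} : Set X) ∧ ∃ T ∈ S₁, x ∈ T} =
        {x : X | IsClosed ({x} : Set X) ∧ ∃ T ∈ S₂, x ∈ T} →
      ∀ T ∈ S₁, ∃ T' ∈ S₂, T ≤ T' := by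
    intro S₁ S₂ hirr hc heq T hT
    by_contra hcon
    push Not at hcon
    obtain ⟨x, hxT, hxcl, hxS₂⟩ :=
      Groth.Agent.Lib.Helper8Uncountable.exists_closedPoint_mem_notMem k X sX (T : Set X)
        (hirr T hT) T.isClosed S₂ hc (fun T' hT' => hcon T' hT')
    have h1 : x ∈ {x : X | IsClosed ({x} : Set X) ∧ ∃ T ∈ S₁, x ∈ T} := ⟨hxcl, T, hT, hxT⟩
    rw [heq] at h1
    obtain ⟨-, T', hT', hxT'⟩ := h1
    exact hxS₂ T' hT' hxT'
  have sub : ∀ S₁ S₂ : Set (TopologicalSpace.Closeds X),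
      S₁.Countable → S₂.Countable →
      (∀ T ∈ S₁, IsIrreducible (T : Set X)) → (∀ T ∈ S₂, IsIrreducible (T : Set X)) →
      IsAntichain (· ≤ ·) S₁ →
      {x : X | IsClosed ({x} : Set X) ∧ ∃ T ∈ S₁, x ∈ T} =
        {x : X | IsClosed ({x} : Set X) ∧ ∃ T ∈ S₂, x ∈ T} →
      S₁ ⊆ S₂ := by
    intro S₁ S₂ hc₁ hc₂ hi₁ hi₂ ha₁ heq T hT
    obtain ⟨T', hT', hTT'⟩ := step S₁ S₂ hi₁ hc₂ heq T hT
    obtain ⟨T'', hT'', hT'T''⟩ := step S₂ S₁ hi₂ hc₁ heq.symm T' hT'
    have h1 : T = T'' := by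
      by_contra hne
      exact ha₁ hT hT'' hne (hTT'.trans hT'T'')
    have h2 : T = T' := le_antisymm hTT' (h1 ▸ hT'T'')
    exact h2 ▸ hT'
  -- existence
  have hfin : ∀ n, ∃ Sn : Finset (TopologicalSpace.Closeds X),
      (∀ T : Sn, IsIrreducible ((T : TopologicalSpace.Closeds X) : Set X)) ∧ Z n = Sn.sup id :=
    fun n => TopologicalSpace.NoetherianSpace.exists_finset_irreducible (Z n)
  choose Sn hSnirr hSnsup using hfin
  let C : Set (TopologicalSpace.Closeds X) := ⋃ n, (Sn n : Set (TopologicalSpace.Closeds X))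
  have hCc : C.Countable := Set.countable_iUnion (fun n => (Sn n).countable_toSet)
  have hCirr : ∀ T ∈ C, IsIrreducible (T : Set X) := by
    intro T hT
    obtain ⟨n, hn⟩ := Set.mem_iUnion.1 hT
    exact hSnirr n ⟨T, hn⟩
  have hCmem : ∀ x : X, (∃ T ∈ C, x ∈ T) ↔ ∃ n, x ∈ Z n := by
    intro x
    have hZ : ∀ n, x ∈ Z n ↔ ∃ T ∈ Sn n, x ∈ T := by
      intro n
      rw [hSnsup n, ← SetLike.mem_coe, TopologicalSpace.Closeds.coe_finset_sup,
        Finset.sup_set_eq_biUnion]
      simp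
    constructor
    · rintro ⟨T, hT, hxT⟩
      obtain ⟨n, hn⟩ := Set.mem_iUnion.1 hT
      exact ⟨n, (hZ n).2 ⟨T, hn, hxT⟩⟩
    · rintro ⟨n, hn⟩
      obtain ⟨T, hT, hxT⟩ := (hZ n).1 hn
      exact ⟨T, Set.mem_iUnion.2 ⟨n, hT⟩, hxT⟩
  let S : Set (TopologicalSpace.Closeds X) := {T ∈ C | ∀ T' ∈ C, T ≤ T' → T' ≤ T}
  have hSC : S ⊆ C := fun T hT => hT.1
  have hmax : ∀ T ∈ C, ∃ T' ∈ S, T ≤ T' := by
    intro T hT
    let s : Set {T : TopologicalSpace.Closeds X // IsIrreducible (T : Set X)} :=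
      {Q | Q.1 ∈ C ∧ T ≤ Q.1}
    have hs : s.Nonempty := ⟨⟨T, hCirr T hT⟩, hT, le_rfl⟩
    obtain ⟨Q, ⟨hQC, hTQ⟩, hQmax⟩ := hwf.wf.has_min s hs
    refine ⟨Q.1, ⟨hQC, ?_⟩, hTQ⟩
    intro T' hT' hQT'
    have h1 : ¬ (Q < ⟨T', hCirr T' hT'⟩) := hQmax ⟨T', hCirr T' hT'⟩ ⟨hT', hTQ.trans hQT'⟩
    have h2 : Q = ⟨T', hCirr T' hT'⟩ := eq_of_le_of_not_lt hQT' h1
    rw [h2]
  have hSprop : S.Countable ∧ (∀ T ∈ S, IsIrreducible (T : Set X)) ∧
      IsAntichain (· ≤ ·) S ∧
      {x : X | IsClosed ({x} : Set X) ∧ ∃ T ∈ S, x ∈ T} =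
        {x : X | IsClosed ({x} : Set X) ∧ ∃ n, x ∈ Z n} := by
    refine ⟨hCc.mono hSC, fun T hT => hCirr T (hSC hT), ?_, ?_⟩
    · intro T hT T' hT' hne hle
      exact hne (le_antisymm hle (hT.2 T' hT'.1 hle))
    · ext x
      simp only [Set.mem_ofPred_eq]
      refine and_congr_right fun _ => ?_
      rw [← hCmem x]
      constructor
      · rintro ⟨T, hT, hxT⟩
        exact ⟨T, hSC hT, hxT⟩
      · rintro ⟨T, hT, hxT⟩
        obtain ⟨T', hT', hTT'⟩ := hmax T hT
        exact ⟨T', hT', hTT' hxT⟩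
  refine ⟨S, hSprop, ?_⟩
  rintro S' ⟨hc', hi', ha', he'⟩
  obtain ⟨hc, hi, ha, he⟩ := hSprop
  exact Set.Subset.antisymm (sub S' S hc' hc hi' hi ha' (he'.trans he.symm))
    (sub S S' hc hc' hi hi' ha (he.trans he'.symm))

end Groth.Agent.S16917
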