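import Groth.Statements.S16920
import Groth.Agent.Lib.Helper8Uncountable

set_option autoImplicit false
open CategoryTheory AlgebraicGeometry
universe u
open Variety

namespace Groth.Agent.S16920

/-- Let k be an uncountable algebraically closed field, V an irreducible k-scheme of finite type and Z₀,
Z₁, … closed subsets of V, each different from V. Then the set of closed points of V lying in no Zₙ
is dense in V. (The published statement: a nonempty c-open subset of an irreducible quasi-projective
variety is Zariski dense, a variety being read through its closed points; nonemptiness of the c-open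
subset amounts to every Zₙ being a proper subset, while quasi-projectivity and the standing
characteristic-zero assumption play no role and are dropped.) -/
theorem result (k : Type u) [Field k] [IsAlgClosed k]
    [Uncountable k] (V : Scheme.{u}) (sV : V ⟶ Spec (CommRingCat.of k)) [IrreducibleSpace V]
    [LocallyOfFiniteType sV] [QuasiCompact sV] (Z : ℕ → TopologicalSpace.Closeds V)
    (hZ : ∀ n, (Z n : Set V) ≠ Set.univ) :
    Dense {x : V | IsClosed ({x} : Set V) ∧ ∀ n, x ∉ Z n} := by
  classical
  have hJ : JacobsonSpace V := LocallyOfFiniteType.jacobsonSpace sV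
  rw [dense_iff_inter_open]
  rintro U hU ⟨x, hx⟩
  obtain ⟨_, ⟨W, hW, rfl⟩, hxW, hWU⟩ :=
    V.isBasis_affineOpens.exists_subset_of_mem_open hx hU
  -- the `k`-algebra structure on `Γ(V, W)`
  let φ : k →+* Γ(V, W) :=
    (sV.appLE ⊤ W le_top).hom.comp (Scheme.ΓSpecIso (CommRingCat.of k)).inv.hom
  have hφ : φ.FiniteType := by
    refine RingHom.FiniteType.comp
      (LocallyOfFiniteType.finiteType_appLE sV (isAffineOpen_top _) hW le_top) ?_
    exact RingHom.FiniteType.of_surjective _
      (ConcreteCategory.bijective_of_isIso (Scheme.ΓSpecIso (CommRingCat.of k)).inv).2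
  algebraize [φ]
  have hWne : (W : Set V).Nonempty := ⟨x, hxW⟩
  have key : ∀ n, ∃ f : Γ(V, W), (V.basicOpen f : Set V).Nonempty ∧
      ∀ y ∈ V.basicOpen f, y ∉ Z n := by
    intro n
    have h2 : ((Z n : Set V)ᶜ).Nonempty := Set.nonempty_compl.2 (hZ n)
    obtain ⟨y, hyW, hyZ⟩ :=
      nonempty_preirreducible_inter W.2 (Z n).isClosed.isOpen_compl hWne h2
    let O : V.Opens := ⟨(Z n : Set V)ᶜ, (Z n).isClosed.isOpen_compl⟩
    obtain ⟨f, hfO, hyf⟩ := hW.exists_basicOpen_le (V := O) ⟨y, hyZ⟩ hyW
    exact ⟨f, ⟨y, hyf⟩, fun z hz => hfO hz⟩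
  choose f hfne hfZ using key
  let M : Submonoid Γ(V, W) := Submonoid.closure (Set.range f)
  have hMP : ∀ a ∈ M, (V.basicOpen a : Set V).Nonempty := by
    intro a ha
    induction ha using Submonoid.closure_induction with
    | mem a ha =>
      obtain ⟨n, rfl⟩ := ha
      exact hfne n
    | one =>
      rw [V.basicOpen_of_isUnit isUnit_one]
      exact hWne
    | mul a b _ _ iha ihb =>
      rw [Scheme.basicOpen_mul]
      exact nonempty_preirreducible_inter (V.basicOpen a).2 (V.basicOpen b).2 iha ihb
  have hM0 : (0 : Γ(V, W)) ∉ M := by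
    intro h0
    have := hMP 0 h0
    rw [Scheme.basicOpen_zero] at this
    simp at this
  have hMc : (M : Set Γ(V, W)).Countable := by
    have h1 : M = MonoidHom.mrange (FreeMonoid.lift ((↑) : Set.range f → Γ(V, W))) :=
      Submonoid.closure_eq_mrange _
    rw [h1]
    have : Countable (Set.range f) := (Set.countable_range f).to_subtype
    have : Countable (FreeMonoid (Set.range f)) := inferInstanceAs (Countable (List _))
    exact Set.countable_range _
  obtain ⟨m, hm, hmM⟩ :=
    Groth.Agent.Lib.Helper8Uncountable.exists_maximal_disjoint k Γ(V, W) M hM0 hMc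
  let p : Spec Γ(V, W) := ⟨m, hm.isPrime⟩
  have hpcl : p ∈ closedPoints (Spec Γ(V, W)) := by
    rw [mem_closedPoints_iff]
    exact (PrimeSpectrum.isClosed_singleton_iff_isMaximal p).2 hm
  have hW' : IsAffineOpen W := hW
  have := hW'.isOpenImmersion_fromSpec
  rw [← hW'.fromSpec.isOpenEmbedding.preimage_closedPoints] at hpcl
  have hmem : ∀ n, hW.fromSpec p ∈ V.basicOpen (f n) := by
    intro n
    have : p ∈ hW.fromSpec ⁻¹ᵁ V.basicOpen (f n) := by
      rw [hW.fromSpec_preimage_basicOpen]
      exact hmM (f n) (Submonoid.subset_closure ⟨n, rfl⟩)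
    exact this
  refine ⟨hW.fromSpec p, hWU (V.basicOpen_le (f 0) (hmem 0)), ?_, ?_⟩
  · exact mem_closedPoints_iff.1 hpcl
  · intro n
    exact hfZ n _ (hmem n)

end Groth.Agent.S16920
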