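import Groth.Statements.S16950
import Groth.Agent.Lib.R2H2BcUPMain
import Groth.Agent.Lib.Helper18OmLS9

set_option autoImplicit false
universe u
open Coherent

namespace Groth.Agent.S16950

open AlgebraicGeometry CategoryTheory Scheme.Modules in
/-- For a single module in place of the complex, let S be a scheme, a : X → S and b : Y → S schemes over
S, f : X → Y a separated quasi-compact morphism with f ≫ b = a, and F a quasi-coherent O_X-module,
flat over S (via a), such that every higher direct image R^n f_* F (the n-th right derived functor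
of direct image on O-modules) is flat over S (via b). For any morphism g : S' → S form the cartesian
squares Y' = Y ×_S S' (projections g_Y : Y' → Y, b' : Y' → S') and X' = X ×_Y Y' (projections g_X :
X' → X, f' : X' → Y'). Then for every n the degree-n base change map g_Y^* R^n f_* F → R^n f'_*
(g_X^* F) is an isomorphism; the map is the pinned one of the structure GenBC, relative to pinned
comparison data for f and f'. -/
theorem result
    {X Y S X' Y' S' : Scheme.{u}} (a : X ⟶ S) (b : Y ⟶ S) (f : X ⟶ Y) (hf : f ≫ b = a)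
    [IsSeparated f] [QuasiCompact f]
    (g : S' ⟶ S) (gY : Y' ⟶ Y) (b' : Y' ⟶ S') (hY : IsPullback gY b' b g)
    (gX : X' ⟶ X) (f' : X' ⟶ Y') (hX : IsPullback gX f' f gY)
    [HasInjectiveResolutions X.Modules] [HasInjectiveResolutions X'.Modules]
    (F : X.Modules) [Coh.IsQCoh F] (hF : FlatMod.IsFlatOver a F)
    (hR : ∀ n : ℕ, FlatMod.IsFlatOver b ((Coh.Rpush f n).obj F))
    {Δ : RDer.DerivedLES (pushforward f)} {Δ' : RDer.DerivedLES (pushforward f')}
    (E : CohCmp.SectCmp f Δ) (E' : CohCmp.SectCmp f' Δ') (B : CohCmp.GenBC f gY f' gX hX.w E E') (n : ℕ) :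
    IsIso (B.bc n F) := by
  subst hf
  haveI : F.IsQuasicoherent := ‹Coh.IsQCoh F›
  haveI : QuasiCompact f' := MorphismProperty.of_isPullback (P := @QuasiCompact) hX inferInstance
  haveI : QuasiSeparated f' :=
    MorphismProperty.of_isPullback (P := @QuasiSeparated) hX inferInstance
  haveI : ((Coh.Rpush f n).obj F).IsQuasicoherent :=
    Groth.Agent.Lib.R2H3.RpushQCohGen.isQuasicoherent_Rpush_of_qcqs f F n
  haveI : ((pullback gX).obj F).IsQuasicoherent :=
    Groth.Agent.Lib.Helper2.PullbackSec.isQuasicoherent_pullback gX F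
  haveI : ((Coh.Rpush f' n).obj ((pullback gX).obj F)).IsQuasicoherent :=
    Groth.Agent.Lib.R2H3.RpushQCohGen.isQuasicoherent_Rpush_of_qcqs f' _ n
  haveI : ((pullback gY).obj ((Coh.Rpush f n).obj F)).IsQuasicoherent :=
    Groth.Agent.Lib.Helper2.PullbackSec.isQuasicoherent_pullback gY _
  let ι : Type u := {t : S.Opens × S'.Opens × Y.Opens //
    IsAffineOpen t.1 ∧ IsAffineOpen t.2.1 ∧ IsAffineOpen t.2.2 ∧ t.2.1 ≤ g ⁻¹ᵁ t.1 ∧
      t.2.2 ≤ b ⁻¹ᵁ t.1}
  let Wc : ι → Y'.Opens := fun t => gY ⁻¹ᵁ t.1.2.2 ⊓ b' ⁻¹ᵁ t.1.2.1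
  have hWa : ∀ t : ι, IsAffineOpen (Wc t) := by
    rintro ⟨⟨V, V', W⟩, hV, hV', hW, hVV', hWV⟩
    haveI : IsAffine (V : Scheme.{u}) := hV
    haveI : IsAffine (V' : Scheme.{u}) := hV'
    haveI : IsAffine (W : Scheme.{u}) := hW
    exact .of_isIso (Scheme.Hom.isPullback_resLE hY hVV' hWV rfl).isoPullback.hom
  refine Groth.Agent.Helper18OmLS.isIso_of_bijective_app_cover (B.bc n F) Wc ?_ hWa ?_
  · refine TopologicalSpace.IsOpenCover.mk (eq_top_iff.2 ?_)
    intro y' _
    obtain ⟨_, ⟨V, hV, rfl⟩, hsV, -⟩ := S.isBasis_affineOpens.exists_subset_of_mem_open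
      (show g (b' y') ∈ (⊤ : S.Opens) from trivial) (⊤ : S.Opens).2
    obtain ⟨_, ⟨V', hV', rfl⟩, hsV', hVV'⟩ := S'.isBasis_affineOpens.exists_subset_of_mem_open
      (show b' y' ∈ g ⁻¹ᵁ V from hsV) (g ⁻¹ᵁ V).2
    have hyW : gY y' ∈ b ⁻¹ᵁ V := by
      show b (gY y') ∈ V
      have h0 : b (gY y') = g (b' y') := congrArg (fun φ : Y' ⟶ S => φ.base y') hY.w
      rw [h0]
      exact hsV
    obtain ⟨_, ⟨W, hW, rfl⟩, hyW', hWV⟩ := Y.isBasis_affineOpens.exists_subset_of_mem_open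
      hyW (b ⁻¹ᵁ V).2
    exact TopologicalSpace.Opens.mem_iSup.2 ⟨⟨⟨V, V', W⟩, hV, hV', hW, hVV', hWV⟩, ⟨hyW', hsV'⟩⟩
  · rintro ⟨⟨V, V', W⟩, hV, hV', hW, hVV', hWV⟩
    exact Groth.Agent.Lib.R2H2.BcUPMain.bijective_bc_app_of_flat hY hX hVV' hWV rfl B F hF hR
      hV hV' hW n

end Groth.Agent.S16950
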