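import Groth.Statements.S16967
import Groth.Agent.Lib.R2H1CliffordEq

set_option autoImplicit false
universe u
open CategoryTheory CategoryTheory.Limits AlgebraicGeometry Opposite
open Curves

namespace Groth.Agent.S16967

/-- Let X be a smooth projective curve over an algebraically closed field k of characteristic 0
(integral, proper over k, of dimension one, all local rings regular) of genus g ≥ 3 that is not
hyperelliptic: there is no invertible module of degree 2 with two k-linearly independent global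
sections. Then the canonical morphism of X is linearly stable, stated through the criterion by
invertible subsheaves: for every invertible module M and every monomorphism ι : M ⟶ Ω_{X/k} which is
not an isomorphism, with dim_k H^0(X, M) ≥ 2, one has deg Ω_{X/k} · (h^0(M) - 1) < deg M ·
(h^0(Ω_{X/k}) - 1). Degrees are χ(·) - χ(O_X). -/
theorem result (k : Type u) [Field k] [IsAlgClosed k] [CharZero k] (X : Scheme.{u}) [X.Over (Spec (CommRingCat.of k))]
    [IsIntegral X] [IsProper (X ↘ (Spec (CommRingCat.of k)))] (hdim : topologicalKrullDim X = 1)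
    (hreg : ∀ x : X, IsRegularLocalRing (X.presheaf.stalk x))
    (hg : 3 ≤ Curv2.genus k X)
    (hnh : ¬ ∃ (N : X.Modules) (t : Fin 2 → LinSer.Sect X N), LinSer.IsLinSer k X N 2 1 t)
    (M : X.Modules) (hM : PicF.IsInvertible M) (ι : M ⟶ Omega.sheaf (X ↘ (Spec (CommRingCat.of k)))) [Mono ι] (hι : ¬ IsIso ι)
    (h2 : 2 ≤ Module.finrank k (Coh.HH X M 0)) :
    Curv2.deg k X (Omega.sheaf (X ↘ (Spec (CommRingCat.of k)))) 1 * ((Module.finrank k (Coh.HH X M 0) : ℤ) - 1) <
      Curv2.deg k X M 1 * ((Module.finrank k (Coh.HH X (Omega.sheaf (X ↘ (Spec (CommRingCat.of k)))) 0) : ℤ) - 1) := by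
  haveI := Groth.Agent.Lib.R2H1.CurveEuler.isNoetherian_of_proper k X
  have hΩ := Groth.Agent.Lib.R2H1.OmegaCurve.isInvertible_Om k X hdim hreg
  obtain ⟨hΩ0, -, dΩ⟩ := Groth.Agent.Lib.R2H1.OmegaDual.numerics_Om k X hdim hreg
  have hι0 : ι ≠ 0 := Groth.Agent.Lib.R2H1.VBRankTwo.mono_ne_zero_of_isInvertible hM ι
  have cl := Groth.Agent.Lib.R2H1.LinStab.clifford_of_hom k X hdim hreg M hM ι hι0 (by omega)
  have hlt := Groth.Agent.Lib.R2H1.CliffordEq.deg_lt_of_mono_not_iso k X hdim M _ hM hΩ ι hι0 hι
  have hstrict : 2 * (Module.finrank k (Coh.HH X M 0) : ℤ) < Curv2.deg k X M 1 + 2 := by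
    rcases lt_or_eq_of_le cl with h | h
    · exact h
    · exfalso
      apply hnh
      have hh : (2 : ℤ) ≤ Module.finrank k (Coh.HH X M 0) := by exact_mod_cast h2
      have hd : Curv2.deg k X M 1 <
          2 * (Curv2.genus k X : ℤ) - 2 := hlt.trans_le (le_of_eq dΩ)
      exact Groth.Agent.Lib.R2H1.CliffordEq.exists_g12 k X hdim hreg (Curv2.deg k X M 1).toNat M hM
        (Int.self_le_toNat _) (by omega) (by omega) h (by omega)
  have e1 : Curv2.deg k X (Omega.sheaf (X ↘ (Spec (CommRingCat.of k)))) 1 =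
      2 * (Curv2.genus k X : ℤ) - 2 := dΩ
  have e2 : Module.finrank k (Coh.HH X (Omega.sheaf (X ↘ (Spec (CommRingCat.of k)))) 0) =
      Curv2.genus k X := hΩ0
  rw [e1, e2]
  have hg' : (3 : ℤ) ≤ Curv2.genus k X := by exact_mod_cast hg
  nlinarith

end Groth.Agent.S16967
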