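import Groth.Statements.S17088
import Mathlib

set_option autoImplicit false
universe u
open CategoryTheory CategoryTheory.Limits AlgebraicGeometry
open MorSch

namespace Groth.Agent.S17088

/-- Let f : X → S be a separated morphism, ι : W → X an immersion and T an S-scheme. For every closed
subscheme V of W ×_S T which is proper and flat over T — a T-point of the Hilbert functor of W over
S — the composite V → W ×_S T → X ×_S T is a closed immersion, and the map sending V to the ideal
sheaf of this composite, from T-points of the Hilbert functor of W to ideal sheaves on X ×_S T, is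
injective: an immersion induces a monomorphism of Hilbert functors. -/
theorem result
    {W X S : Scheme.{u}} (f : X ⟶ S) [IsSeparated f] (ι : W ⟶ X) [IsImmersion ι]
    (T : Over S) :
    (∀ V : FGA.HilbSet (ι ≫ f) T,
      IsClosedImmersion (V.1.subschemeι ≫ pullback.map (ι ≫ f) T.hom f T.hom ι (𝟙 T.left) (𝟙 S)
          (Category.comp_id _) ((Category.comp_id _).trans (Category.id_comp _).symm))) ∧
    Function.Injective (fun V : FGA.HilbSet (ι ≫ f) T =>
      (V.1.subschemeι ≫ pullback.map (ι ≫ f) T.hom f T.hom ι (𝟙 T.left) (𝟙 S)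
          (Category.comp_id _) ((Category.comp_id _).trans (Category.id_comp _).symm)).ker) := by
  set m : pullback (ι ≫ f) T.hom ⟶ pullback f T.hom :=
    pullback.map (ι ≫ f) T.hom f T.hom ι (𝟙 T.left) (𝟙 S)
      (Category.comp_id _) ((Category.comp_id _).trans (Category.id_comp _).symm) with hm
  have hm1 : m ≫ pullback.fst f T.hom = pullback.fst (ι ≫ f) T.hom ≫ ι :=
    pullback.lift_fst _ _ _
  have hm2 : m ≫ pullback.snd f T.hom = pullback.snd (ι ≫ f) T.hom :=
    (pullback.lift_snd _ _ _).trans (Category.comp_id _)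
  have sq : IsPullback m (pullback.fst (ι ≫ f) T.hom) (pullback.fst f T.hom) ι := by
    have outer : IsPullback (m ≫ pullback.snd f T.hom) (pullback.fst (ι ≫ f) T.hom) T.hom
        (ι ≫ f) := by
      rw [hm2]; exact (IsPullback.of_hasPullback (ι ≫ f) T.hom).flip
    exact IsPullback.of_right outer hm1 (IsPullback.of_hasPullback f T.hom).flip
  haveI : IsImmersion m :=
    MorphismProperty.of_isPullback (P := @IsImmersion) sq.flip inferInstance
  have h1 : ∀ V : FGA.HilbSet (ι ≫ f) T, IsClosedImmersion (V.1.subschemeι ≫ m) := by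
    intro V
    haveI : IsProper ((V.1.subschemeι ≫ m) ≫ pullback.snd f T.hom) := by
      rw [Category.assoc, hm2]; exact V.2.1
    haveI : IsProper (V.1.subschemeι ≫ m) := IsProper.of_comp (V.1.subschemeι ≫ m) (pullback.snd f T.hom)
    rw [IsClosedImmersion.iff_isProper_and_mono]
    exact ⟨inferInstance, inferInstance⟩
  refine ⟨h1, ?_⟩
  intro V₁ V₂ h
  have h' : (V₁.1.subschemeι ≫ m).ker = (V₂.1.subschemeι ≫ m).ker := h
  haveI := h1 V₁
  haveI := h1 V₂
  obtain ⟨e, he0⟩ : ∃ e, e = IsClosedImmersion.lift (V₁.1.subschemeι ≫ m)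
      (V₂.1.subschemeι ≫ m) h'.le := ⟨_, rfl⟩
  haveI : IsIso e := by rw [he0]; exact IsClosedImmersion.isIso_lift _ _ h'
  have he : e ≫ V₁.1.subschemeι ≫ m = V₂.1.subschemeι ≫ m := by
    rw [he0]; exact IsClosedImmersion.lift_fac _ _ _
  have he' : e ≫ V₁.1.subschemeι = V₂.1.subschemeι := by
    rw [← cancel_mono m, Category.assoc, he]
  apply Subtype.ext
  calc V₁.1 = V₁.1.subschemeι.ker := (Scheme.IdealSheafData.ker_subschemeι _).symm
    _ = (e ≫ V₁.1.subschemeι).ker := (Scheme.Hom.ker_comp_of_isIso e _).symm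
    _ = V₂.1.subschemeι.ker := by rw [he']
    _ = V₂.1 := Scheme.IdealSheafData.ker_subschemeι _

end Groth.Agent.S17088
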