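import Groth.Statements.S17181
import Mathlib

set_option autoImplicit false
universe u
open CategoryTheory CategoryTheory.Limits AlgebraicGeometry
open FBase

namespace Groth.Agent.S17181

/-- Let k be a field, C an irreducible k-scheme which is geometrically irreducible over k, and f : X → C
a flat k-morphism locally of finite type with X irreducible. If the generic fibre of f is
geometrically irreducible over the residue field of the generic point of C, then X is geometrically
irreducible over k. (The published setting is a regular proper surface mapping onto a smooth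
projective geometrically irreducible curve with smooth projective geometrically irreducible generic
fibre; the printed argument uses only the hypotheses kept here.) -/
theorem result (k : Type u) [Field k]
    (X C : Scheme.{u}) [X.Over (Spec (CommRingCat.of k))] [C.Over (Spec (CommRingCat.of k))]
    (f : X ⟶ C) [f.IsOver (Spec (CommRingCat.of k))] [IrreducibleSpace X] [IrreducibleSpace C]
    [GeometricallyIrreducible (C ↘ Spec (CommRingCat.of k))] [Flat f] [LocallyOfFiniteType f]
    [GeometricallyIrreducible (f.fiberToSpecResidueField (genericPoint C))] :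
    GeometricallyIrreducible (X ↘ Spec (CommRingCat.of k)) := by
  refine ⟨fun K _ y X' fst snd hpb => ?_⟩
  -- the base change of `C`
  let gC : pullback (C ↘ Spec (CommRingCat.of k)) y ⟶ C := pullback.fst _ _
  let sC : pullback (C ↘ Spec (CommRingCat.of k)) y ⟶ Spec (CommRingCat.of K) := pullback.snd _ _
  have hfk : f ≫ (C ↘ Spec (CommRingCat.of k)) = X ↘ Spec (CommRingCat.of k) := comp_over f _
  let f' : X' ⟶ pullback (C ↘ Spec (CommRingCat.of k)) y :=
    pullback.lift (fst ≫ f) snd (by rw [Category.assoc, hfk]; exact hpb.w)
  have hf'1 : f' ≫ gC = fst ≫ f := pullback.lift_fst _ _ _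
  have hf'2 : f' ≫ sC = snd := pullback.lift_snd _ _ _
  have h1 : IsPullback fst f' f gC := by
    refine IsPullback.of_bot (v₂₁ := sC) (v₂₂ := C ↘ Spec (CommRingCat.of k)) (h₃₁ := y) ?_ hf'1.symm
      (IsPullback.of_hasPullback _ _)
    rw [hf'2, hfk]
    exact hpb
  haveI : Flat f' := MorphismProperty.of_isPullback (P := @Flat) h1 inferInstance
  haveI : IrreducibleSpace ↥(pullback (C ↘ Spec (CommRingCat.of k)) y) :=
    GeometricallyIrreducible.geometrically_irreducibleSpace (f := C ↘ Spec (CommRingCat.of k)) y _ _
      (IsPullback.of_hasPullback _ _)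
  -- surjectivity of the base change maps
  haveI : Surjective y := ⟨fun a => ⟨Nonempty.some inferInstance, Subsingleton.elim _ _⟩⟩
  haveI : Surjective gC :=
    MorphismProperty.of_isPullback (P := @Surjective)
      (IsPullback.of_hasPullback (C ↘ Spec (CommRingCat.of k)) y).flip inferInstance
  haveI : Surjective fst := MorphismProperty.of_isPullback (P := @Surjective) hpb.flip inferInstance
  -- the generic point of the base change of `C` maps to the generic point of `C`
  have hgen : gC (genericPoint ↥(pullback (C ↘ Spec (CommRingCat.of k)) y)) = genericPoint C := by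
    have h2 := (genericPoint_spec ↥(pullback (C ↘ Spec (CommRingCat.of k)) y)).image gC.continuous
    rw [Set.image_univ, Set.range_eq_univ.2 gC.surjective, closure_univ] at h2
    exact h2.eq (genericPoint_spec C)
  -- the fibre over the generic point is irreducible
  haveI : GeometricallyIrreducible (f.fiberToSpecResidueField
      (gC (genericPoint ↥(pullback (C ↘ Spec (CommRingCat.of k)) y)))) := by
    rw [hgen]; infer_instance
  haveI : IrreducibleSpace ↥(f'.fiber (genericPoint ↥(pullback (C ↘ Spec (CommRingCat.of k)) y))) :=
    GeometricallyIrreducible.geometrically_irreducibleSpace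
      (f := f.fiberToSpecResidueField (gC (genericPoint ↥(pullback (C ↘ Spec (CommRingCat.of k)) y))))
      _ _ _ (isPullback_fiberToSpecResidueField_of_isPullback h1 _)
  have hF : IsIrreducible (f' ⁻¹' {genericPoint ↥(pullback (C ↘ Spec (CommRingCat.of k)) y)}) := by
    rw [← f'.range_fiberι, ← Set.image_univ]
    exact (IrreducibleSpace.isIrreducible_univ _).image _ (f'.fiberι _).continuous.continuousOn
  have hcl : closure (f' ⁻¹' {genericPoint ↥(pullback (C ↘ Spec (CommRingCat.of k)) y)}) = Set.univ := by
    rw [Set.eq_univ_iff_forall]
    intro x
    obtain ⟨x', hx'x, hx'⟩ := Flat.generalizingMap (f := f') (a := x) (genericPoint_specializes (f' x))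
    have hx'F : x' ∈ f' ⁻¹' {genericPoint ↥(pullback (C ↘ Spec (CommRingCat.of k)) y)} := hx'
    have hsub : closure {x'} ⊆
        closure (f' ⁻¹' {genericPoint ↥(pullback (C ↘ Spec (CommRingCat.of k)) y)}) :=
      closure_mono (Set.singleton_subset_iff.2 hx'F)
    exact hsub (specializes_iff_mem_closure.1 hx'x)
  change IrreducibleSpace ↥X'
  rw [irreducibleSpace_def]
  change IsIrreducible (Set.univ : Set ↥X')
  rw [← hcl]
  exact hF.closure

end Groth.Agent.S17181
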