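import Groth.Statements.S17276
import Groth.Agent.Lib.R2H1DegComponents
import Groth.Agent.Lib.Helper23QAffSec

set_option autoImplicit false
universe u
open CategoryTheory CategoryTheory.Limits AlgebraicGeometry TopologicalSpace
open Variety

namespace Groth.Agent.S17276

/-- Let X be a proper scheme over a field k of dimension one (possibly reducible or non-reduced) and L
an invertible O_X-module that is nef, meaning χ(O_C ⊗ L) - χ(O_C) ≥ 0 for every integral closed
subscheme C ⊆ X of dimension one. Then the degree of L on X, namely χ(L) - χ(O_X), is nonnegative. -/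
theorem result (k : Type u) [Field k] (X : Scheme.{u})
    [X.Over (Spec (CommRingCat.of k))] [IsProper (X ↘ (Spec (CommRingCat.of k)))]
    (hdim : topologicalKrullDim X = 1) (L : X.Modules) (hL : PicF.IsInvertible L)
    (hnef : ∀ C : X.IdealSheafData, IsIntegral C.subscheme →
      topologicalKrullDim (C.support : Set X) = 1 →
        0 ≤ Curv2.euler k X (CohB1.tensorMod (ClSub.quotMod C) L) - Curv2.euler k X (ClSub.quotMod C)) :
    0 ≤ Curv2.deg k X L 1 := by
  classical
  haveI : IsNoetherian X := Groth.Agent.Lib.R2H1.CurveEuler.isNoetherian_of_proper k X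
  have hE := Groth.Agent.Lib.Helper23.SecTw.isFinLocFreeOfRank_one_of_isInvertible L hL
  rw [Groth.Agent.Lib.R2H1.DegComponents.s1641 k X hdim.le 1 L hE]
  apply finsum_nonneg
  intro Z
  split_ifs with h
  · apply mul_nonneg (Int.natCast_nonneg _)
    let C := Groth.Agent.Lib.R2H1.DegComponents.cI Z.1 Z.2
    letI : C.subscheme.Over (Spec (CommRingCat.of k)) :=
      ⟨C.subschemeι ≫ (X ↘ (Spec (CommRingCat.of k)))⟩
    haveI : IsProper (C.subscheme ↘ (Spec (CommRingCat.of k))) :=
      inferInstanceAs (IsProper (C.subschemeι ≫ (X ↘ (Spec (CommRingCat.of k)))))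
    have hint : IsIntegral C.subscheme := Groth.Agent.Lib.R2H1.DegComponents.isIntegral_cS Z.1 Z.2
    have hsupp : (C.support : Set X) = Z.1 := by
      rw [← Scheme.IdealSheafData.range_subschemeι]
      exact Groth.Agent.Lib.R2H1.DegComponents.range_cι Z.1 Z.2
    have hd1 : topologicalKrullDim (C.support : Set X) = 1 := by rw [hsupp]; exact h
    have hn := hnef C hint hd1
    have hp := Groth.Agent.Lib.R2H1.DegComponents.dE_pushO k C.subschemeι rfl L hE
    have hb : Curv2.euler k X (CohB1.tensorMod (ClSub.quotMod C) L) =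
        Curv2.euler k X (CohB1.tensorMod L (ClSub.quotMod C)) :=
      Groth.Agent.Lib.R2H1.DegCartier.euler_congr k
        (Groth.Agent.Lib.Helper21.ModTensor5.brdApp X.sheaf (ClSub.quotMod C) L)
    unfold Groth.Agent.Lib.R2H1.DegComponents.dE at hp
    rw [hb] at hn
    have : (0 : ℤ) ≤ Curv2.deg k C.subscheme ((Scheme.Modules.pullback C.subschemeι).obj L) 1 := by
      rw [← hp]
      simpa using hn
    exact this
  · exact le_rfl

end Groth.Agent.S17276
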