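import Groth.Statements.S17277
import Mathlib
import Groth.Agent.Lib.R2H4H0GrowthProper
import Groth.Agent.Lib.R2H4SnapperCor
import Groth.Agent.Lib.R2H1DegCartier

set_option autoImplicit false
universe u
open CategoryTheory CategoryTheory.Limits AlgebraicGeometry TopologicalSpace
open Variety

namespace Groth.Agent.S17277

/-- Let X be a proper scheme over a field k of dimension d and L an invertible O_X-module that is big:
there is a real constant c > 0 with dim_k H^0(X, L^{⊗n}) > c·n^d for all sufficiently large n. Then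
for every closed subscheme Z ⊆ X of dimension < d, with quasi-coherent ideal sheaf I_Z, there is an
integer m > 0 with H^0(X, I_Z ⊗ L^{⊗m}) ≠ 0. -/
theorem result (k : Type u) [Field k] (X : Scheme.{u})
    [X.Over (Spec (CommRingCat.of k))] [IsProper (X ↘ (Spec (CommRingCat.of k)))]
    (d : ℕ) (hdim : topologicalKrullDim X = d) (L : X.Modules) (hL : PicF.IsInvertible L)
    (hbig : ∃ c : ℝ, 0 < c ∧ ∀ᶠ n : ℕ in Filter.atTop,
      c * (n : ℝ) ^ d < (Module.finrank k (Coh.HH X (CohB1.tensorPow L n) 0) : ℝ))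
    (Z : X.IdealSheafData) (hZ : topologicalKrullDim (Z.support : Set X) < d) :
    ∃ m : ℕ, 0 < m ∧
      Nontrivial (Coh.HH X (CohB1.tensorMod (ClSub.idealMod Z) (CohB1.tensorPow L m)) 0) := by
  haveI := Groth.Agent.Lib.R2H1.CurveEuler.isNoetherian_of_proper k X
  obtain ⟨c, hc, hev⟩ := hbig
  have cQ : Coh.IsCoh (ClSub.quotMod Z) := Groth.Agent.Lib.R2H4SnapperCor.isCoh_quotMod k Z
  have cO : Coh.IsCoh (Coh.structureModule X) :=
    Groth.Agent.Lib.R2H1.GenusLe.isCoh_structureModule X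
  have hS := Groth.Agent.Lib.R2H1.DegCartier.idealSeq_shortExact Z
  have cI : Coh.IsCoh (ClSub.idealMod Z) := by
    haveI : Mono (ClSub.idealModι Z) := hS.mono_f
    exact Groth.Agent.Lib.R2H2.PdSheaf.isCoh_kernel cO cQ (ClSub.toSubscheme Z)
  have hQdim : topologicalKrullDim (CohB1.support (ClSub.quotMod Z)) < ((d : ℕ) : WithBot ℕ∞) :=
    lt_of_le_of_lt (Groth.Agent.Lib.R2H4H0Growth.dim_mono
      (Groth.Agent.Lib.R2H1.DegCartier.support_quotMod_subset (D := Z))) hZ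
  -- the bound for the quotient
  obtain ⟨C, hC⟩ : ∃ C : ℕ, ∀ m : ℕ,
      Groth.Agent.Lib.R2H4H0Growth.h0 k (CohB1.tensorMod (ClSub.quotMod Z) (CohB1.tensorPow L m)) *
        (m + 1) ≤ C * (m + 1) ^ d := by
    rcases Nat.eq_zero_or_pos d with h0 | hpos
    · subst h0
      have hemp : CohB1.support (ClSub.quotMod Z) ⊆ ∅ := by
        intro x hx
        haveI hne : Nonempty (IrreducibleCloseds ↥(CohB1.support (ClSub.quotMod Z))) :=
          ⟨⟨closure {⟨x, hx⟩}, isIrreducible_singleton.closure, isClosed_closure⟩⟩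
        have h1 : (0 : WithBot ℕ∞) ≤ topologicalKrullDim ↥(CohB1.support (ClSub.quotMod Z)) := by
          unfold topologicalKrullDim
          exact Order.krullDim_nonneg
        exact absurd (lt_of_le_of_lt h1 hQdim) (lt_irrefl _)
      have hz := Groth.Agent.Lib.R2H2.DevA.isZero_of_support_subset_empty _ hemp
      refine ⟨0, fun m => ?_⟩
      haveI : Subsingleton (Coh.HH X (CohB1.tensorMod (ClSub.quotMod Z) (CohB1.tensorPow L m)) 0) :=
        Groth.Agent.Lib.R2H2.KoszulShift.subsingleton_HH_of_isZero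
          ((Groth.Agent.Lib.R2H2.PnSerre.twR (CohB1.tensorPow L m)).map_isZero hz) 0
      unfold Groth.Agent.Lib.R2H4H0Growth.h0
      rw [Module.finrank_zero_of_subsingleton]
      simp
    · obtain ⟨e, rfl⟩ : ∃ e, d = e + 1 := ⟨d - 1, by omega⟩
      have hle : topologicalKrullDim (CohB1.support (ClSub.quotMod Z)) ≤ ((e : ℕ) : WithBot ℕ∞) :=
        Groth.Agent.Lib.R2H4Snapper.le_of_lt_succ' _ e hQdim
      obtain ⟨C, hC⟩ := Groth.Agent.Lib.R2H4H0GrowthProper.main_bound k L hL _ cQ e hle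
      refine ⟨C, fun m => ?_⟩
      calc _ ≤ C * (m + 1) ^ e * (m + 1) := Nat.mul_le_mul_right _ (hC m)
        _ = C * (m + 1) ^ (e + 1) := by rw [pow_succ, mul_assoc]
  -- subadditivity
  have hadd : ∀ m : ℕ,
      Groth.Agent.Lib.R2H4H0Growth.h0 k (CohB1.tensorPow L m) ≤
        Groth.Agent.Lib.R2H4H0Growth.h0 k
          (CohB1.tensorMod (ClSub.idealMod Z) (CohB1.tensorPow L m)) +
        Groth.Agent.Lib.R2H4H0Growth.h0 k
          (CohB1.tensorMod (ClSub.quotMod Z) (CohB1.tensorPow L m)) := by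
    intro m
    have hE := Groth.Agent.Lib.Helper23.SecTw.isInvertible_tensorPow hL m
    have hS' := Groth.Agent.Lib.R2H2.PnSerre.shortExact_map_twR (CohB1.tensorPow L m) hE _ hS
    have h1 := Groth.Agent.Lib.R2H4H0Growth.h0_le_add k
      ((Groth.Agent.Lib.R2H1.DegCartier.idealSeq Z).map
        (Groth.Agent.Lib.R2H2.PnSerre.twR (CohB1.tensorPow L m))) hS'
      (Groth.Agent.Lib.R2H3.AmpleSV.isCoh_tensorMod_invertible _ _ cI hE)
      (Groth.Agent.Lib.R2H3.AmpleSV.isCoh_tensorMod_invertible _ _ cO hE)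
      (Groth.Agent.Lib.R2H3.AmpleSV.isCoh_tensorMod_invertible _ _ cQ hE)
    have h2 : Groth.Agent.Lib.R2H4H0Growth.h0 k
        (CohB1.tensorMod (Coh.structureModule X) (CohB1.tensorPow L m)) =
        Groth.Agent.Lib.R2H4H0Growth.h0 k (CohB1.tensorPow L m) :=
      Groth.Agent.Lib.R2H4H0Growth.h0_congr k (Groth.Agent.Lib.R2H4TensorPows.lUnit _)
    rw [← h2]
    exact h1
  by_contra hcon
  push Not at hcon
  have hzero : ∀ m : ℕ, 0 < m → Groth.Agent.Lib.R2H4H0Growth.h0 k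
      (CohB1.tensorMod (ClSub.idealMod Z) (CohB1.tensorPow L m)) = 0 := by
    intro m hm
    have := hcon m hm
    unfold Groth.Agent.Lib.R2H4H0Growth.h0
    exact Module.finrank_zero_of_subsingleton
  rw [Filter.eventually_atTop] at hev
  obtain ⟨m₀, hm₀⟩ := hev
  -- choose `m` large
  obtain ⟨N, hN⟩ := exists_nat_gt ((C : ℝ) * 2 ^ d / c)
  set m := max m₀ (max 1 N) with hm
  have hm1 : 1 ≤ m := le_trans (le_max_left 1 N) (le_max_right _ _)
  have hmN : N ≤ m := le_trans (le_max_right 1 N) (le_max_right _ _)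
  have h1 := hm₀ m (le_max_left _ _)
  have h2 := hadd m
  rw [hzero m hm1, zero_add] at h2
  have h3 := hC m
  have h1' : c * (m : ℝ) ^ d <
      (Groth.Agent.Lib.R2H4H0Growth.h0 k (CohB1.tensorPow L m) : ℝ) := h1
  have h2' : (Groth.Agent.Lib.R2H4H0Growth.h0 k (CohB1.tensorPow L m) : ℝ) ≤
      (Groth.Agent.Lib.R2H4H0Growth.h0 k
        (CohB1.tensorMod (ClSub.quotMod Z) (CohB1.tensorPow L m)) : ℝ) := by exact_mod_cast h2
  have h3' : (Groth.Agent.Lib.R2H4H0Growth.h0 k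
        (CohB1.tensorMod (ClSub.quotMod Z) (CohB1.tensorPow L m)) : ℝ) * ((m : ℝ) + 1) ≤
      (C : ℝ) * ((m : ℝ) + 1) ^ d := by exact_mod_cast h3
  have hmpos : (0 : ℝ) < (m : ℝ) := by exact_mod_cast hm1
  have hm1' : (1 : ℝ) ≤ (m : ℝ) := by exact_mod_cast hm1
  have hpow : ((m : ℝ) + 1) ^ d ≤ 2 ^ d * (m : ℝ) ^ d := by
    rw [← mul_pow]
    gcongr
    linarith
  have hmd : (0 : ℝ) < (m : ℝ) ^ d := pow_pos hmpos d
  -- c m^d (m+1) < C 2^d m^d
  have h4 : c * (m : ℝ) ^ d * ((m : ℝ) + 1) < (C : ℝ) * (2 ^ d * (m : ℝ) ^ d) := by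
    calc c * (m : ℝ) ^ d * ((m : ℝ) + 1)
        < (Groth.Agent.Lib.R2H4H0Growth.h0 k (CohB1.tensorPow L m) : ℝ) * ((m : ℝ) + 1) := by
          gcongr
      _ ≤ (Groth.Agent.Lib.R2H4H0Growth.h0 k
            (CohB1.tensorMod (ClSub.quotMod Z) (CohB1.tensorPow L m)) : ℝ) * ((m : ℝ) + 1) := by
          gcongr
      _ ≤ (C : ℝ) * ((m : ℝ) + 1) ^ d := h3'
      _ ≤ (C : ℝ) * (2 ^ d * (m : ℝ) ^ d) := by gcongr
  have h5 : c * ((m : ℝ) + 1) < (C : ℝ) * 2 ^ d := by
    have : c * ((m : ℝ) + 1) * (m : ℝ) ^ d < (C : ℝ) * 2 ^ d * (m : ℝ) ^ d := by nlinarith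
    exact lt_of_mul_lt_mul_right this hmd.le
  have h6 : (C : ℝ) * 2 ^ d / c < (m : ℝ) + 1 := by
    have : (N : ℝ) ≤ (m : ℝ) := by exact_mod_cast hmN
    linarith
  rw [div_lt_iff₀ hc] at h6
  linarith

end Groth.Agent.S17277
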