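import Groth.Statements.S17285
import Mathlib
import Groth.Agent.Lib.R2H4BigBir

set_option autoImplicit false
universe u
open CategoryTheory CategoryTheory.Limits AlgebraicGeometry TopologicalSpace
open Variety

namespace Groth.Agent.S17285

/-- Let X and Y be proper varieties over a field k (integral schemes, proper over k) of the same
dimension d, f : Y → X a birational k-morphism (generic point to generic point, with a single point
in that fibre and the same residue field there), and L an invertible O_X-module. Then L is big,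
meaning that some real c > 0 has dim_k H^0(X, L^{⊗n}) > c·n^d for all sufficiently large n, if and
only if f^*L is big on Y in the same sense. (The source states this for birational morphisms of
proper schemes over k; it is stated here for integral X and Y, the case in which the printed
argument's injectivity of O_X → f_*O_Y holds.) -/
theorem result (k : Type u) [Field k] (X Y : Scheme.{u})
    [X.Over (Spec (CommRingCat.of k))] [IsProper (X ↘ (Spec (CommRingCat.of k)))] [IsIntegral X]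
    [Y.Over (Spec (CommRingCat.of k))] [IsProper (Y ↘ (Spec (CommRingCat.of k)))] [IsIntegral Y]
    (f : Y ⟶ X) (hf : f ≫ (X ↘ (Spec (CommRingCat.of k))) = Y ↘ (Spec (CommRingCat.of k))) (hbir : RadPt.IsBirational f)
    (d : ℕ) (hdimX : topologicalKrullDim X = d) (hdimY : topologicalKrullDim Y = d)
    (L : X.Modules) (hL : PicF.IsInvertible L) :
    (∃ c : ℝ, 0 < c ∧ ∀ᶠ n : ℕ in Filter.atTop,
        c * (n : ℝ) ^ d < (Module.finrank k (Coh.HH X (CohB1.tensorPow L n) 0) : ℝ)) ↔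
      (∃ c : ℝ, 0 < c ∧ ∀ᶠ n : ℕ in Filter.atTop,
        c * (n : ℝ) ^ d < (Module.finrank k (Coh.HH Y (CohB1.tensorPow ((Scheme.Modules.pullback f).obj L) n) 0) : ℝ)) := by
  have hdom := Groth.Agent.Lib.R2H4BigBir.hdom_of_isBirational f hbir
  have hdeg := Groth.Agent.Lib.R2H4BigBir.residueDegree_of_isBirational f hbir
  obtain ⟨C, hC⟩ := Groth.Agent.Lib.R2H4BigBir.h0_birational k f hf hdom hdeg d hdimX L hL
  constructor
  · rintro ⟨c, hc, hev⟩
    refine ⟨c, hc, hev.mono fun n hn => lt_of_lt_of_le hn ?_⟩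
    exact_mod_cast (hC n).1
  · rintro ⟨c, hc, hev⟩
    refine ⟨c / 2, by positivity, ?_⟩
    rw [Filter.eventually_atTop] at hev ⊢
    obtain ⟨n₀, hn₀⟩ := hev
    obtain ⟨N, hN⟩ := exists_nat_gt (2 * ((C : ℝ) * 2 ^ d) / c)
    refine ⟨max n₀ (max 1 N), fun n hn => ?_⟩
    have hn1 : 1 ≤ n := le_trans (le_trans (le_max_left 1 N) (le_max_right _ _)) hn
    have hnN : N ≤ n := le_trans (le_trans (le_max_right 1 N) (le_max_right _ _)) hn
    have h1 := hn₀ n (le_trans (le_max_left _ _) hn)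
    have h2 := (hC n).2
    set a : ℝ := (Module.finrank k (Coh.HH X (CohB1.tensorPow L n) 0) : ℝ) with ha
    set b : ℝ := (Module.finrank k
      (Coh.HH Y (CohB1.tensorPow ((Scheme.Modules.pullback f).obj L) n) 0) : ℝ) with hb
    have h2' : b * ((n : ℝ) + 1) ≤ a * ((n : ℝ) + 1) + (C : ℝ) * ((n : ℝ) + 1) ^ d := by
      have : ((Groth.Agent.Lib.R2H4H0Growth.h0 k
          (CohB1.tensorPow ((Scheme.Modules.pullback f).obj L) n) * (n + 1) : ℕ) : ℝ) ≤
          ((Groth.Agent.Lib.R2H4H0Growth.h0 k (CohB1.tensorPow L n) * (n + 1) +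
            C * (n + 1) ^ d : ℕ) : ℝ) := by exact_mod_cast h2
      push_cast at this
      exact this
    have hnpos : (0 : ℝ) < (n : ℝ) := by exact_mod_cast hn1
    have hn1' : (1 : ℝ) ≤ (n : ℝ) := by exact_mod_cast hn1
    have hpow : ((n : ℝ) + 1) ^ d ≤ 2 ^ d * (n : ℝ) ^ d := by
      rw [← mul_pow]
      gcongr
      linarith
    have hnd : (0 : ℝ) < (n : ℝ) ^ d := pow_pos hnpos d
    have hNn : (N : ℝ) ≤ (n : ℝ) := by exact_mod_cast hnN
    have h3 : 2 * ((C : ℝ) * 2 ^ d) < c * ((n : ℝ) + 1) := by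
      have := (div_lt_iff₀ hc).1 hN
      nlinarith
    have h1' : c * (n : ℝ) ^ d < b := h1
    -- c n^d (n+1) < b (n+1) ≤ a (n+1) + C 2^d n^d
    have h4 : c * (n : ℝ) ^ d * ((n : ℝ) + 1) < a * ((n : ℝ) + 1) + (C : ℝ) * (2 ^ d * (n : ℝ) ^ d) := by
      calc c * (n : ℝ) ^ d * ((n : ℝ) + 1) < b * ((n : ℝ) + 1) := by gcongr
        _ ≤ a * ((n : ℝ) + 1) + (C : ℝ) * ((n : ℝ) + 1) ^ d := h2'
        _ ≤ a * ((n : ℝ) + 1) + (C : ℝ) * (2 ^ d * (n : ℝ) ^ d) := by gcongr
    have h5 : (C : ℝ) * (2 ^ d * (n : ℝ) ^ d) ≤ c / 2 * (n : ℝ) ^ d * ((n : ℝ) + 1) := by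
      have : (C : ℝ) * 2 ^ d ≤ c / 2 * ((n : ℝ) + 1) := by linarith
      calc (C : ℝ) * (2 ^ d * (n : ℝ) ^ d) = (C : ℝ) * 2 ^ d * (n : ℝ) ^ d := by ring
        _ ≤ c / 2 * ((n : ℝ) + 1) * (n : ℝ) ^ d := by gcongr
        _ = c / 2 * (n : ℝ) ^ d * ((n : ℝ) + 1) := by ring
    have h6 : c / 2 * (n : ℝ) ^ d * ((n : ℝ) + 1) < a * ((n : ℝ) + 1) := by linarith
    exact lt_of_mul_lt_mul_right h6 (by linarith)

end Groth.Agent.S17285
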