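import Groth.Statements.S17344
import Mathlib
import Groth.Agent.Lib.R2H4PointLen
import Groth.Agent.Lib.R2H4PointTwist
import Groth.Agent.Lib.R2H4SurfDual
import Groth.Agent.Lib.R2H3AmpleSV
import Groth.Agent.Lib.R2H4AmplePos
import Groth.Agent.Lib.H9NegDefGeo
import Groth.Agent.Lib.Helper6SmGeom
import Groth.Agent.Lib.Helper4FibDimL

set_option autoImplicit false
universe u
open CategoryTheory CategoryTheory.Limits AlgebraicGeometry
open AdjLin

namespace Groth.Agent.S17344

/-- Let k be an algebraically closed field of characteristic zero, X a smooth projective surface over k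
(irreducible, proper, smooth of dimension 2, with an ample invertible module), L an ample invertible
O_X-module with tensor inverse L⁻¹, and Z a finite set of closed points of X such that the
self-intersection number (L²), the alternating sum of Euler characteristics attached to two copies
of L⁻¹, exceeds 4 · #Z. Then for every sufficiently large m there is a non-zero global section of
(⋂_{z ∈ Z} m_z^(2m+1)) ⊗ L^{⊗m}: a divisor in the linear series of L^{⊗m} with multiplicity greater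
than 2m at every point of Z. (In the source L is the ample determinant of a globally generated
rank-2 bundle E and Z the reduced zero set of a section of E, so that (L²) = c_1(E)² and #Z =
c_2(E); the assertion is the dimension count under c_1(E)² > 4 c_2(E).) -/
theorem result (k : Type u) [Field k] [IsAlgClosed k] [CharZero k]
    (X : Scheme.{u}) [X.Over (Spec (CommRingCat.of k))] [IsProper (X ↘ (Spec (CommRingCat.of k)))]
    [Smooth (X ↘ (Spec (CommRingCat.of k)))] [IrreducibleSpace X] (hdim : topologicalKrullDim X = 2)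
    (H : X.Modules) (hH : CohB1.IsAmple H)
    (L Linv : X.Modules) (hL : CohB1.IsAmple L) (hLinv : ClSub.IsInverseOf Linv L)
    (Z : Finset X) (hZ : ∀ z ∈ Z, IsClosed ({z} : Set X))
    (hsq : 4 * (Z.card : ℤ) < FGA.intNum k X 2 (fun _ : Fin 2 => Linv) (Coh.structureModule X)) :
    ∃ m₀ : ℕ, ∀ m : ℕ, m₀ ≤ m →
      Nontrivial (Coh.HH X (CohB1.tensorMod
        (ClSub.idealMod (⨅ z : ↥Z, (W4c2seshadripos.pointIdeal (z : X) (hZ z z.2)) ^ (2 * m + 1)))
        (CohB1.tensorPow L m)) 0) := by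
  classical
  haveI : IsReduced X := Groth.Agent.Lib.Helper6.SmGeom.isReduced_of_smooth_over_field k X
    (X ↘ Spec (CommRingCat.of k))
  haveI : IsIntegral X := isIntegral_of_irreducibleSpace_of_isReduced X
  haveI := Groth.Agent.Lib.R2H1.CurveEuler.isNoetherian_of_proper k X
  have hLi : PicF.IsInvertible L := hL.1
  obtain ⟨eLinv⟩ := hLinv
  have eL : CohB1.tensorMod L Linv ≅ Coh.structureModule X :=
    Groth.Agent.Lib.R2H4TensorPows.tComm _ _ ≪≫ eLinv
  -- the self-intersection number of `L`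
  have hfun : (fun _ : Fin 2 => Linv) = ![Linv, Linv] := by
    funext i; fin_cases i <;> rfl
  rw [hfun, Groth.Agent.Lib.R2H4SurfDual.intNum_inv_inv k hdim L Linv L Linv hLi hLi eL eL] at hsq
  -- Serre vanishing
  have cO : Coh.IsCoh (Coh.structureModule X) :=
    Groth.Agent.Lib.R2H1.GenusLe.isCoh_structureModule X
  obtain ⟨n₀, hn₀⟩ := Groth.Agent.Lib.R2H3.AmpleSV.serre_vanishing_ample (A := k)
    (X ↘ Spec (CommRingCat.of k)) L hL (Coh.structureModule X) cO
  have hχ : ∀ m : ℕ, n₀ ≤ m → Curv2.euler k X (CohB1.tensorPow L m) =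
      (Module.finrank k (Coh.HH X (CohB1.tensorPow L m) 0) : ℤ) := fun m hm =>
    Groth.Agent.Lib.R2H4AmplePos.euler_eq_finrank_of_vanishing k _ (fun q hq =>
      Groth.Agent.Lib.R2H2.PnSerre.subsingleton_HH_of_iso
        (Groth.Agent.Lib.R2H4TensorPows.lUnit (CohB1.tensorPow L m)) q (hn₀ m hm q hq))
  have hpow := Groth.Agent.Lib.R2H4SurfDual.euler_pow k hdim L hLi
  -- constants
  set e : ℤ := FGA.intNum k X 2 ![L, L] (Coh.structureModule X) - 4 * (Z.card : ℤ) with he
  have he1 : 1 ≤ e := by omega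
  set c₁ : ℤ := 2 * (Curv2.euler k X L - Curv2.euler k X (Coh.structureModule X)) - e -
    10 * (Z.card : ℤ) with hc₁
  set c₀ : ℤ := 2 * Curv2.euler k X (Coh.structureModule X) - 2 * (Z.card : ℤ) with hc₀
  refine ⟨max n₀ (c₁.natAbs + c₀.natAbs + 1), fun m hm => ?_⟩
  have hm1 : n₀ ≤ m := le_trans (le_max_left _ _) hm
  have hm2 : c₁.natAbs + c₀.natAbs + 1 ≤ m := le_trans (le_max_right _ _) hm
  -- the ideal
  obtain ⟨D, hD⟩ : ∃ D : X.IdealSheafData,
      D = ⨅ z : ↥Z, (W4c2seshadripos.pointIdeal (z : X) (hZ z z.2)) ^ (2 * m + 1) := ⟨_, rfl⟩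
  rw [← hD]
  have hreg : ∀ z ∈ Z, IsRegularLocalRing (X.presheaf.stalk z) := fun z _ =>
    Groth.Agent.Lib.H9NegDefGeo.isRegular k z
  have hd2 : ∀ z ∈ Z, ringKrullDim (X.presheaf.stalk z) ≤ 2 := fun z _ =>
    (Groth.Agent.Lib.Helper4.FibDim.ringKrullDim_stalk_le_topologicalKrullDim X z).trans hdim.le
  have hlen := Groth.Agent.Lib.R2H4PointLen.h0_quotMod_le k X Z hZ hreg hd2 (2 * m + 1)
  rw [← hD] at hlen
  -- the support of `D`
  have hsuppZ : (D.support : Set X) ⊆ (↑Z : Set X) := by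
    rw [hD]
    exact Groth.Agent.Lib.R2H4PointLen.support_iInf_subset X Z hZ (2 * m + 1)
  have hsupp : topologicalKrullDim (D.support : Set X) ≤ 0 :=
    Groth.Agent.Lib.R2H4PointLen.topologicalKrullDim_le_zero_of_subset_finset X Z hZ _ hsuppZ
  -- coherence
  have cQ : Coh.IsCoh (ClSub.quotMod D) :=
    Groth.Agent.S0019.result D.subschemeι _
      (Groth.Agent.Lib.R2H1.GenusLe.isCoh_structureModule _)
  have cI : Coh.IsCoh (ClSub.idealMod D) :=
    Groth.Agent.Lib.R2H2.PdSheaf.isCoh_kernel cO cQ (ClSub.toSubscheme D)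
  have hGi : PicF.IsInvertible (CohB1.tensorPow L m) :=
    Groth.Agent.Lib.Helper23.SecTw.isInvertible_tensorPow hLi m
  have cIG : Coh.IsCoh (CohB1.tensorMod (ClSub.idealMod D) (CohB1.tensorPow L m)) :=
    Groth.Agent.Lib.R2H3.AmpleSV.isCoh_tensorMod_invertible _ _ cI hGi
  have cGI : Coh.IsCoh (CohB1.tensorMod (CohB1.tensorPow L m) (ClSub.idealMod D)) :=
    Groth.Agent.Lib.R2H2.PdSheaf.isCoh_of_iso (Groth.Agent.Lib.R2H4TensorPows.tComm _ _) cIG
  have hb := (Groth.Agent.Lib.R2H4PointTwist.twist_bounds k X D hsupp 1 (CohB1.tensorPow L m)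
    (Groth.Agent.Lib.Helper23.SecTw.isFinLocFreeOfRank_one_of_isInvertible _ hGi) cGI).2
  rw [Groth.Agent.Lib.R2H2.ClosedPnLin.finrank_HH_of_iso k
    (Groth.Agent.Lib.R2H4TensorPows.tComm (CohB1.tensorPow L m) (ClSub.idealMod D)) 0] at hb
  -- numerics
  have hp := hpow m
  rw [hχ m hm1] at hp
  haveI : Module.Finite k (Coh.HH X (CohB1.tensorMod (ClSub.idealMod D) (CohB1.tensorPow L m)) 0) :=
    Groth.Agent.Lib.R2H1.EulerAdd.finite_HH k X _ cIG 0
  apply Module.nontrivial_of_finrank_pos (R := k)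
  have hmZ : |c₁| + |c₀| + 1 ≤ (m : ℤ) := by
    have : ((c₁.natAbs + c₀.natAbs + 1 : ℕ) : ℤ) ≤ (m : ℤ) := by exact_mod_cast hm2
    push_cast at this
    exact this
  have habs1 : -|c₁| ≤ c₁ := neg_abs_le c₁
  have habs0 : -|c₀| ≤ c₀ := neg_abs_le c₀
  have hm0 : (0 : ℤ) ≤ m := Int.natCast_nonneg m
  have hbZ : (Module.finrank k (Coh.HH X (CohB1.tensorPow L m) 0) : ℤ) ≤
      (Module.finrank k (Coh.HH X (CohB1.tensorMod (ClSub.idealMod D) (CohB1.tensorPow L m)) 0) : ℤ) +
        1 * (Module.finrank k (Coh.HH X (ClSub.quotMod D) 0) : ℤ) := by exact_mod_cast hb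
  have hlenZ : 2 * (Module.finrank k (Coh.HH X (ClSub.quotMod D) 0) : ℤ) ≤
      (Z.card : ℤ) * ((2 * (m : ℤ) + 1) * (2 * (m : ℤ) + 1 + 1)) := by exact_mod_cast hlen
  have key : 0 < 2 * (Module.finrank k
      (Coh.HH X (CohB1.tensorMod (ClSub.idealMod D) (CohB1.tensorPow L m)) 0) : ℤ) := by
    have h1 : (1 : ℤ) ≤ e * (m : ℤ) * (m : ℤ) + c₁ * (m : ℤ) + c₀ := by
      have hn1 : (0 : ℤ) ≤ |c₁| := abs_nonneg _
      have hn0 : (0 : ℤ) ≤ |c₀| := abs_nonneg _
      nlinarith [mul_le_mul_of_nonneg_right hmZ hm0, mul_le_mul_of_nonneg_right he1 (mul_nonneg hm0 hm0),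
        mul_le_mul_of_nonneg_right habs1 hm0]
    have h2 : e * (m : ℤ) * (m : ℤ) + c₁ * (m : ℤ) + c₀ ≤ 2 * (Module.finrank k
        (Coh.HH X (CohB1.tensorMod (ClSub.idealMod D) (CohB1.tensorPow L m)) 0) : ℤ) := by
      rw [hc₁, hc₀]
      rw [he]
      nlinarith [hp, hbZ, hlenZ]
    linarith
  omega

end Groth.Agent.S17344
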