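import Groth.Statements.S17502
import Mathlib
import Groth.Agent.Lib.R2H4MonGrowth
import Groth.Agent.Lib.R2H3DepthEmb
import Groth.Agent.Lib.R2H2RegComplex
import Groth.Agent.S9705

set_option autoImplicit false
universe u
open CategoryTheory CategoryTheory.Limits MonoidalCategory CartesianMonoidalCategory MonObj GrpObj AlgebraicGeometry
open Coherent

namespace Groth.Agent.S17502

/-- Let k be a field, Y a projective k-scheme of dimension d (a k-scheme with a closed immersion c into
projective N-space over k, compatible with the structure morphisms, whose underlying topological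
space has Krull dimension d), L_1, …, L_r invertible O_Y-modules, and F a family of O_Y-modules
indexed by a ∈ ℤ^r with F(0) ≅ O_Y and F(a + e_j) ≅ F(a) ⊗ L_j for all a and j, so that F(a) ≅
L_1^{⊗ a_1} ⊗ ⋯ ⊗ L_r^{⊗ a_r} for every a. Then there is a real constant C > 0, depending only on Y
and the L_j, such that dim_k H^i(Y, F(a)) ≤ C · (1 + |a|^d) for every i and every a, where |a| =
|a_1| + ⋯ + |a_r|. (The published statement prints the exponent as the number r of line bundles
instead of the dimension d of Y; that bound fails as soon as r < d — on the projective plane with r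
= 1 and L_1 = O(1) the dimension of H^0(O(a)) grows like a²/2 — while the printed induction on d + r
over hyperplane sections yields the exponent d, which is what is stated here.) -/
theorem result
    (k : Type u) [Field k] (Y : Scheme.{u}) [Y.Over (Spec (CommRingCat.of k))]
    (N : ℕ) (c : Y ⟶ CohB1.ProjSpace N k) [IsClosedImmersion c]
    (hc : c ≫ CohB1.ProjSpace.toSpec N k = Y ↘ Spec (CommRingCat.of k))
    (d : ℕ) (hd : topologicalKrullDim ↥Y = d)
    (r : ℕ) (Lb : Fin r → Y.Modules) (hLb : ∀ j, PicF.IsInvertible (Lb j))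
    (F : (Fin r → ℤ) → Y.Modules) (hF0 : Nonempty (F 0 ≅ Coh.structureModule Y))
    (hF : ∀ (a : Fin r → ℤ) (j : Fin r), Nonempty (F (a + Pi.single j 1) ≅ CohB1.tensorMod (F a) (Lb j))) :
    ∃ C : ℝ, 0 < C ∧ ∀ (i : ℕ) (a : Fin r → ℤ),
      (Module.finrank k (Coh.HH Y (F a) i) : ℝ) ≤ C * (1 + (∑ j, |(a j : ℝ)|) ^ d) := by
  classical
  open Groth.Agent.Lib.R2H4TensorPows Groth.Agent.Lib.R2H4HiGrowth Groth.Agent.Lib.R2H4MonGrowth in
  haveI : IsProper (CohB1.ProjSpace.toSpec N k) :=
    Groth.Agent.S9705.isProper_projSpace_toSpec N k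
  haveI : IsProper (Y ↘ Spec (CommRingCat.of k)) := by
    rw [← hc]
    infer_instance
  haveI := Groth.Agent.Lib.R2H1.CurveEuler.isNoetherian_of_proper k Y
  have hH := (Groth.Agent.Lib.R2H3.DepthEmb.exists_data k N c).1
  -- inverses of the `Lb j`
  obtain ⟨e0⟩ := hF0
  let Mb : Fin r → Y.Modules := fun j => F (-(Pi.single j 1))
  have eM : ∀ j, Nonempty (CohB1.tensorMod (Lb j) (Mb j) ≅ Coh.structureModule Y) := fun j => by
    obtain ⟨e⟩ := hF (-(Pi.single j 1)) j
    rw [neg_add_cancel] at e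
    exact ⟨tComm _ _ ≪≫ e.symm ≪≫ e0⟩
  have hMb : ∀ j, PicF.IsInvertible (Mb j) := fun j =>
    Groth.Agent.Lib.R2H3.NegTwist.isInvertible_of_isInverseOf (Lb j) (Mb j) (eM j)
  let G : Fin r ⊕ Fin r → Y.Modules := Sum.elim Lb Mb
  have hG : ∀ j, PicF.IsInvertible (G j) := by
    rintro (j | j)
    · exact hLb j
    · exact hMb j
  -- every `F a` is a monomial of degree `∑ |a j|`
  have hmon : ∀ n : ℕ, ∀ a : Fin r → ℤ, (∑ j, (a j).natAbs) = n → Mon G n (F a) := by
    intro n
    induction n with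
    | zero =>
      intro a ha
      have h0 : a = 0 := by
        funext j
        have := (Finset.sum_eq_zero_iff.1 ha) j (Finset.mem_univ j)
        simpa using this
      rw [h0]
      exact Mon.zero _ ⟨e0⟩
    | succ n ih =>
      intro a ha
      obtain ⟨j, hj⟩ : ∃ j, a j ≠ 0 := by
        by_contra hcon
        push Not at hcon
        have : (∑ j, (a j).natAbs) = 0 := Finset.sum_eq_zero fun j _ => by rw [hcon j]; rfl
        omega
      have hsplit : ∀ b : Fin r → ℤ, (∀ l, l ≠ j → b l = a l) →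
          (∑ l, (b l).natAbs) + (a j).natAbs = (∑ l, (a l).natAbs) + (b j).natAbs := by
        intro b hb
        rw [← Finset.add_sum_erase _ _ (Finset.mem_univ j),
          ← Finset.add_sum_erase (f := fun l => (a l).natAbs) _ (Finset.mem_univ j)]
        have : ∑ l ∈ Finset.univ.erase j, (b l).natAbs = ∑ l ∈ Finset.univ.erase j, (a l).natAbs :=
          Finset.sum_congr rfl fun l hl => by rw [hb l (Finset.ne_of_mem_erase hl)]
        rw [this]
        ring
      rcases lt_or_gt_of_ne hj with hneg | hpos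
      · -- `a j < 0`
        have hb : ∀ l, l ≠ j → (a + (Pi.single j 1 : Fin r → ℤ)) l = a l := fun l hl => by
          rw [Pi.add_apply, Pi.single_eq_of_ne hl, add_zero]
        have hbj : (a + (Pi.single j 1 : Fin r → ℤ)) j = a j + 1 := by
          rw [Pi.add_apply, Pi.single_eq_same]
        have hs := hsplit _ hb
        rw [hbj] at hs
        have hsize : (∑ l, ((a + (Pi.single j 1 : Fin r → ℤ)) l).natAbs) = n := by omega
        obtain ⟨e⟩ := hF a j
        obtain ⟨ε⟩ := eM j
        refine Mon.succ n _ (F (a + Pi.single j 1)) (Sum.inr j) (ih _ hsize) ⟨?_⟩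
        exact (rUnit (F a)).symm ≪≫ tIso (Iso.refl _) ε.symm ≪≫ (tAssoc _ _ _).symm ≪≫
          tIso e.symm (Iso.refl (Mb j))
      · -- `a j > 0`
        have hb : ∀ l, l ≠ j → (a - (Pi.single j 1 : Fin r → ℤ)) l = a l := fun l hl => by
          rw [Pi.sub_apply, Pi.single_eq_of_ne hl, sub_zero]
        have hbj : (a - (Pi.single j 1 : Fin r → ℤ)) j = a j - 1 := by
          rw [Pi.sub_apply, Pi.single_eq_same]
        have hs := hsplit _ hb
        rw [hbj] at hs
        have hsize : (∑ l, ((a - (Pi.single j 1 : Fin r → ℤ)) l).natAbs) = n := by omega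
        obtain ⟨e⟩ := hF (a - Pi.single j 1) j
        rw [sub_add_cancel] at e
        exact Mon.succ n _ (F (a - Pi.single j 1)) (Sum.inl j) (ih _ hsize) ⟨e⟩
  have cO : Coh.IsCoh (Coh.structureModule Y) :=
    Groth.Agent.Lib.R2H1.GenusLe.isCoh_structureModule Y
  have hdimO : topologicalKrullDim (CohB1.support (Coh.structureModule Y)) ≤
      ((d : ℕ) : WithBot ℕ∞) :=
    (Topology.IsInducing.subtypeVal.topologicalKrullDim_le).trans (le_of_eq hd)
  choose C hC using fun i => mon_bound k _ hH G hG (Coh.structureModule Y) cO d hdimO i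
  refine ⟨((∑ i ∈ Finset.range (d + 1), C i : ℕ) + 1 : ℝ) * 2 ^ d, by positivity, fun i a => ?_⟩
  obtain ⟨s, hs⟩ : ∃ s : ℕ, s = ∑ j, (a j).natAbs := ⟨_, rfl⟩
  have hsr : (∑ j, |(a j : ℝ)|) = (s : ℝ) := by
    rw [hs]
    push_cast
    refine Finset.sum_congr rfl fun j _ => ?_
    rw [Nat.cast_natAbs, Int.cast_abs]
  rw [hsr]
  have hm := hmon s a hs.symm
  have hpow : ((s : ℝ) + 1) ^ d ≤ 2 ^ d * (1 + (s : ℝ) ^ d) := by
    rcases Nat.eq_zero_or_pos s with h0 | h0
    · subst h0
      have h1 : (1 : ℝ) ≤ 2 ^ d := one_le_pow₀ (by norm_num)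
      have h2 : (0 : ℝ) ≤ ((0 : ℕ) : ℝ) ^ d := by positivity
      simp only [Nat.cast_zero, zero_add, one_pow]
      nlinarith [pow_nonneg (show (0:ℝ) ≤ 0 from le_refl 0) d]
    · have h1 : (1 : ℝ) ≤ (s : ℝ) := by exact_mod_cast h0
      have h2 : ((s : ℝ) + 1) ^ d ≤ (2 * (s : ℝ)) ^ d :=
        pow_le_pow_left₀ (by positivity) (by linarith) d
      rw [mul_pow] at h2
      have h3 : (0 : ℝ) ≤ 2 ^ d := by positivity
      nlinarith
  rcases Nat.lt_or_ge d i with hdi | hdi
  · -- vanishing above the dimension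
    have hinv : PicF.IsInvertible (F a) := by
      have := (monFam G hG).hT ⟨(s, F a), hm⟩
      exact this
    have cF : Coh.IsCoh (F a) := Groth.Agent.Lib.R2H4VolBasic.isCoh_of_isInvertible _ hinv
    haveI := Groth.Agent.Lib.R2H2.RegComplex.subsingleton_HH_of_dim_support_le (F a) cF d
      ((Topology.IsInducing.subtypeVal.topologicalKrullDim_le).trans (le_of_eq hd)) i hdi
    rw [Module.finrank_zero_of_subsingleton]
    simp only [Nat.cast_zero]
    positivity
  · have h1 := hC i s (F a) hm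
    rw [hi_congr k (lUnit (F a)) i] at h1
    have h2 : ((Module.finrank k (Coh.HH Y (F a) i) : ℕ) : ℝ) ≤ (C i : ℝ) * ((s : ℝ) + 1) ^ d := by
      exact_mod_cast h1
    have h3 : (C i : ℝ) ≤ ((∑ i ∈ Finset.range (d + 1), C i : ℕ) : ℝ) := by
      exact_mod_cast Finset.single_le_sum (f := C) (fun _ _ => Nat.zero_le _)
        (Finset.mem_range.2 (Nat.lt_succ_of_le hdi))
    have h4 : (0 : ℝ) ≤ ((s : ℝ) + 1) ^ d := by positivity
    have h5 : (0 : ℝ) ≤ 1 + (s : ℝ) ^ d := by positivity
    calc ((Module.finrank k (Coh.HH Y (F a) i) : ℕ) : ℝ)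
        ≤ (C i : ℝ) * ((s : ℝ) + 1) ^ d := h2
      _ ≤ (((∑ i ∈ Finset.range (d + 1), C i : ℕ) : ℝ) + 1) * ((s : ℝ) + 1) ^ d :=
          mul_le_mul_of_nonneg_right (by linarith) h4
      _ ≤ (((∑ i ∈ Finset.range (d + 1), C i : ℕ) : ℝ) + 1) * (2 ^ d * (1 + (s : ℝ) ^ d)) :=
          mul_le_mul_of_nonneg_left hpow (by positivity)
      _ = (((∑ i ∈ Finset.range (d + 1), C i : ℕ) : ℝ) + 1) * 2 ^ d * (1 + (s : ℝ) ^ d) := by ring

end Groth.Agent.S17502
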