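import Groth.Statements.S17512
import Mathlib

set_option autoImplicit false
universe u
open ThetaRep

namespace Groth.Agent.S17512

open Subgroup


section

variable {k : Type u} [Field k] {Γ : Type u} [Group Γ]

/-- cast of a natural number coprime to the exponential characteristic is nonzero -/
lemma natCast_ne_zero_of_coprime_ringExpChar (m : ℕ) (hm : m ≠ 0) (h : m.Coprime (ringExpChar k)) :
    (m : k) ≠ 0 := by
  intro h0
  have hdvd : ringChar k ∣ m := (ringChar.spec k m).mp h0
  unfold ringExpChar at h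
  rcases Nat.eq_zero_or_pos (ringChar k) with hz | hpos
  · rw [hz] at hdvd
    exact hm (Nat.eq_zero_of_zero_dvd hdvd)
  · rw [max_eq_left hpos] at h
    exact CharP.ringChar_ne_one (R := k) (Nat.eq_one_of_dvd_coprimes h hdvd dvd_rfl)

open scoped commutatorElement in
lemma comm_mem_commutator (g x : Γ) : g * x * g⁻¹ * x⁻¹ ∈ commutator Γ := by
  rw [_root_.commutator_def, ← commutatorElement_def]
  exact commutator_mem_commutator (mem_top g) (mem_top x)

/-- When all commutators are central, `x ↦ ⁅g, x⁆` is multiplicative. -/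
lemma comm_mul_right_of_central (hc : commutator Γ ≤ center Γ) (g x y : Γ) :
    g * (x * y) * g⁻¹ * (x * y)⁻¹ = (g * x * g⁻¹ * x⁻¹) * (g * y * g⁻¹ * y⁻¹) := by
  have h1 : g * y * g⁻¹ * y⁻¹ ∈ center Γ := hc (comm_mem_commutator g y)
  have h2 : (g * y * g⁻¹ * y⁻¹) * x⁻¹ = x⁻¹ * (g * y * g⁻¹ * y⁻¹) := (mem_center_iff.mp h1 x⁻¹).symm
  calc g * (x * y) * g⁻¹ * (x * y)⁻¹ = g * x * g⁻¹ * ((g * y * g⁻¹ * y⁻¹) * x⁻¹) := by group
    _ = g * x * g⁻¹ * (x⁻¹ * (g * y * g⁻¹ * y⁻¹)) := by rw [h2]
    _ = g * x * g⁻¹ * x⁻¹ * (g * y * g⁻¹ * y⁻¹) := by group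

lemma comm_mul_left_of_central (hc : commutator Γ ≤ center Γ) (g h x : Γ) :
    (g * h) * x * (g * h)⁻¹ * x⁻¹ = (g * x * g⁻¹ * x⁻¹) * (h * x * h⁻¹ * x⁻¹) := by
  have h1 : h * x * h⁻¹ * x⁻¹ ∈ center Γ := hc (comm_mem_commutator h x)
  have h2 : g * (h * x * h⁻¹ * x⁻¹) = (h * x * h⁻¹ * x⁻¹) * g := mem_center_iff.mp h1 g
  have h3 := mem_center_iff.mp h1 (g * x * g⁻¹ * x⁻¹)
  calc g * h * x * (g * h)⁻¹ * x⁻¹ = g * (h * x * h⁻¹ * x⁻¹) * x * g⁻¹ * x⁻¹ := by group
    _ = (h * x * h⁻¹ * x⁻¹) * g * x * g⁻¹ * x⁻¹ := by rw [h2]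
    _ = (h * x * h⁻¹ * x⁻¹) * (g * x * g⁻¹ * x⁻¹) := by group
    _ = g * x * g⁻¹ * x⁻¹ * (h * x * h⁻¹ * x⁻¹) := h3.symm

end


section

variable {k : Type u} [Field k] {Γ : Type u} [Group Γ]
variable (Z : Subgroup Γ) (hZ : Z = center Γ) (hcomm : commutator Γ ≤ Z) (e : Z ≃* kˣ)

/-- the commutator pairing with values in `kˣ` -/
noncomputable def pair (hcomm : commutator Γ ≤ Z) (e : Z ≃* kˣ) (g x : Γ) : kˣ :=
  e ⟨g * x * g⁻¹ * x⁻¹, hcomm (comm_mem_commutator g x)⟩

include hZ in
lemma pair_mul_right (g x y : Γ) :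
    pair Z hcomm e g (x * y) = pair Z hcomm e g x * pair Z hcomm e g y := by
  unfold pair
  rw [← map_mul]
  congr 1
  apply Subtype.ext
  simp only [Subgroup.coe_mul]
  exact comm_mul_right_of_central (hZ ▸ hcomm) g x y

include hZ in
lemma pair_mul_left (g h x : Γ) :
    pair Z hcomm e (g * h) x = pair Z hcomm e g x * pair Z hcomm e h x := by
  unfold pair
  rw [← map_mul]
  congr 1
  apply Subtype.ext
  simp only [Subgroup.coe_mul]
  exact comm_mul_left_of_central (hZ ▸ hcomm) g h x

lemma pair_eq_one_iff (g x : Γ) : pair Z hcomm e g x = 1 ↔ g * x = x * g := by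
  unfold pair
  rw [MulEquiv.map_eq_one_iff, Subtype.ext_iff]
  simp only [Subgroup.coe_one]
  constructor
  · intro h
    calc g * x = (g * x * g⁻¹ * x⁻¹) * (x * g) := by group
      _ = x * g := by rw [h, one_mul]
  · intro h
    calc g * x * g⁻¹ * x⁻¹ = (x * g) * g⁻¹ * x⁻¹ := by rw [h]
      _ = 1 := by group

/-- `g ↦ (x ↦ pair g x)` as a homomorphism `Γ →* (Γ →* kˣ)` -/
noncomputable def pairHom (hZ : Z = center Γ) : Γ →* (Γ →* kˣ) :=
  MonoidHom.mk' (fun g => MonoidHom.mk' (pair Z hcomm e g) (pair_mul_right Z hZ hcomm e g))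
    (fun g h => by
      ext x
      simp only [MonoidHom.mk'_apply, MonoidHom.mul_apply]
      rw [pair_mul_left Z hZ hcomm e g h x])

@[simp] lemma pairHom_apply (g x : Γ) : pairHom Z hcomm e hZ g x = pair Z hcomm e g x := rfl

lemma le_ker_pairHom_apply (g : Γ) : Z ≤ (pairHom Z hcomm e hZ g).ker := by
  intro z hz
  rw [MonoidHom.mem_ker, pairHom_apply, pair_eq_one_iff]
  rw [hZ] at hz
  exact mem_center_iff.mp hz g

variable [Z.Normal]

/-- `g ↦ (x ↦ pair g x)` as a homomorphism `Γ →* (Γ ⧸ Z →* kˣ)` -/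
noncomputable def pairHomQ (hZ : Z = center Γ) : Γ →* ((Γ ⧸ Z) →* kˣ) :=
  MonoidHom.mk' (fun g => QuotientGroup.lift Z (pairHom Z hcomm e hZ g) (le_ker_pairHom_apply Z hZ hcomm e g))
    (fun g h => by
      ext x
      simp only [MonoidHom.mul_apply, QuotientGroup.lift_mk, map_mul,
        MonoidHom.coe_comp, Function.comp_apply, QuotientGroup.coe_mk'])

@[simp] lemma pairHomQ_apply_mk (g x : Γ) :
    pairHomQ Z hcomm e hZ g (x : Γ ⧸ Z) = pair Z hcomm e g x := rfl

lemma ker_pairHomQ : (pairHomQ Z hcomm e hZ).ker = Z := by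
  ext g
  rw [MonoidHom.mem_ker]
  constructor
  · intro h
    rw [hZ, mem_center_iff]
    intro x
    have := DFunLike.congr_fun h (x : Γ ⧸ Z)
    rw [pairHomQ_apply_mk, MonoidHom.one_apply, pair_eq_one_iff] at this
    exact this.symm
  · intro h
    refine MonoidHom.ext fun x => ?_
    obtain ⟨x, rfl⟩ := QuotientGroup.mk_surjective x
    rw [pairHomQ_apply_mk, MonoidHom.one_apply, pair_eq_one_iff]
    rw [hZ] at h
    exact (mem_center_iff.mp h x).symm

end


section

variable {k : Type u} [Field k] {Γ : Type u} [Group Γ]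
variable (Z : Subgroup Γ) (hZ : Z = center Γ) (hcomm : commutator Γ ≤ Z) (e : Z ≃* kˣ)
variable [Z.Normal]

/-- The quotient by a subgroup containing the commutator subgroup is commutative. -/
@[reducible] def commGroupQuot (hcomm : commutator Γ ≤ Z) : CommGroup (Γ ⧸ Z) :=
  { QuotientGroup.Quotient.group Z with
    mul_comm := by
      intro a b
      obtain ⟨a, rfl⟩ := QuotientGroup.mk_surjective a
      obtain ⟨b, rfl⟩ := QuotientGroup.mk_surjective b
      rw [← QuotientGroup.mk_mul, ← QuotientGroup.mk_mul, QuotientGroup.eq]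
      have : (a * b)⁻¹ * (b * a) = b⁻¹ * a⁻¹ * b⁻¹⁻¹ * a⁻¹⁻¹ := by group
      rw [this]
      exact hcomm (comm_mem_commutator b⁻¹ a⁻¹) }

theorem relIndex_mul_relIndex_centralizer [Finite (Γ ⧸ Z)]
    (hZ : Z = center Γ) (hcomm : commutator Γ ≤ Z) (e : Z ≃* kˣ)
    (hroots : HasEnoughRootsOfUnity k (Nat.card (Γ ⧸ Z)))
    (H : Subgroup Γ) (hH : Z ≤ H) :
    Z.relIndex H * Z.relIndex (centralizer (H : Set Γ)) = Z.index := by
  letI : CommGroup (Γ ⧸ Z) := commGroupQuot Z hcomm
  haveI hK : HasEnoughRootsOfUnity k (Monoid.exponent (Γ ⧸ Z)) :=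
    hroots.of_dvd k (Group.exponent_dvd_nat_card)
  -- the dual of K is finite of the same cardinality
  have hcardK : Nat.card ((Γ ⧸ Z) →* kˣ) = Nat.card (Γ ⧸ Z) :=
    CommGroup.card_monoidHom_of_hasEnoughRootsOfUnity (Γ ⧸ Z) k
  haveI : Finite ((Γ ⧸ Z) →* kˣ) :=
    Finite.of_equiv _ (CommGroup.monoidHom_mulEquiv_of_hasEnoughRootsOfUnity (Γ ⧸ Z) k).some.symm.toEquiv
  -- pairHomQ is surjective
  have hsurj : Function.Surjective (pairHomQ Z hcomm e hZ) := by
    rw [← MonoidHom.range_eq_top]
    apply Subgroup.eq_top_of_card_eq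
    rw [← Subgroup.index_ker, ker_pairHomQ, hcardK]
    rfl
  -- the image of H in K
  set A : Subgroup (Γ ⧸ Z) := H.map (QuotientGroup.mk' Z) with hA
  have hcardA : Nat.card A = Z.relIndex H := by
    have h1 : Z = (⊥ : Subgroup (Γ ⧸ Z)).comap (QuotientGroup.mk' Z) := by
      rw [MonoidHom.comap_bot, QuotientGroup.ker_mk']
    conv_rhs => rw [h1]
    rw [relIndex_comap, relIndex_bot_left]
  haveI hAr : HasEnoughRootsOfUnity k (Monoid.exponent A) :=
    hK.of_dvd k (Monoid.exponent_submonoid_dvd A.toSubmonoid)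
  have hcardAd : Nat.card (A →* kˣ) = Nat.card A :=
    CommGroup.card_monoidHom_of_hasEnoughRootsOfUnity A k
  -- the composite
  let Ψ : Γ →* (A →* kˣ) := (MonoidHom.domRestrictHom A kˣ).comp (pairHomQ Z hcomm e hZ)
  have hΨsurj : Function.Surjective Ψ :=
    (MonoidHom.domRestrict_surjective (M := k) A).comp hsurj
  have hker : Ψ.ker = centralizer (H : Set Γ) := by
    ext g
    rw [MonoidHom.mem_ker, mem_centralizer_iff]
    constructor
    · intro h x hx
      have := DFunLike.congr_fun h ⟨(x : Γ ⧸ Z), Subgroup.mem_map_of_mem _ hx⟩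
      simp only [Ψ, MonoidHom.comp_apply, MonoidHom.domRestrictHom_apply, MonoidHom.domRestrict_apply,
        MonoidHom.one_apply] at this
      rw [pairHomQ_apply_mk, pair_eq_one_iff] at this
      exact this.symm
    · intro h
      refine MonoidHom.ext fun a => ?_
      obtain ⟨a, ha⟩ := a
      obtain ⟨x, hx, rfl⟩ := Subgroup.mem_map.mp ha
      simp only [Ψ, MonoidHom.comp_apply, MonoidHom.domRestrictHom_apply, MonoidHom.domRestrict_apply,
        MonoidHom.one_apply]
      change pairHomQ Z hcomm e hZ g (x : Γ ⧸ Z) = 1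
      rw [pairHomQ_apply_mk, pair_eq_one_iff]
      exact (h x hx).symm
  have hindexC : (centralizer (H : Set Γ)).index = Z.relIndex H := by
    rw [← hker, Subgroup.index_ker, MonoidHom.range_eq_top.mpr hΨsurj, ← hcardA, ← hcardAd]
    exact Nat.card_congr (Subgroup.topEquiv).toEquiv
  have hZC : Z ≤ centralizer (H : Set Γ) := hZ ▸ Subgroup.center_le_centralizer _
  rw [← relIndex_mul_index hZC, hindexC, mul_comm]

end


/-- For the group of k-points of a non-degenerate theta group with constant K, let k be an algebraically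
closed field and Γ a group given with an injective homomorphism ι from kˣ onto the centre of Γ such
that K = Γ/ι(kˣ) is finite and commutative (all commutators lie in ι(kˣ)) of order prime to the
characteristic exponent of k — the group of k-points of a non-degenerate theta group 1 → G_m → G → K
→ 1 with rank(K) prime to char(k). Subgroups of K correspond to subgroups H of Γ containing ι(kˣ);
such an H is totally isotropic for the commutator pairing exactly when it is commutative, and its
orthogonal corresponds to the centralizer of H. For a subgroup H ⊇ ι(kˣ) the following are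
equivalent: (i) H is commutative and maximal among commutative subgroups of Γ; (ii) H is commutative
and [H : ι(kˣ)]² = [Γ : ι(kˣ)]; (iii) H is its own centralizer. (The published lemma is for an
arbitrary non-degenerate theta group scheme, where (iii) ⇔ (ii) ⇒ (i) always and (i) ⇒ (iii) needs k
algebraically closed; this row is the case of the group of k-points with K constant.) -/
theorem result
    (k : Type u) [Field k] [IsAlgClosed k]
    (Γ : Type u) [Group Γ] (ι : kˣ →* Γ) (hι : Function.Injective ι)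
    (hcent : ι.range = Subgroup.center Γ) (hcomm : commutator Γ ≤ ι.range)
    [Finite (Γ ⧸ ι.range)] (hcop : (Nat.card (Γ ⧸ ι.range)).Coprime (ringExpChar k))
    (H : Subgroup Γ) (hH : ι.range ≤ H) :
    List.TFAE [
      IsMulCommutative H ∧ ∀ H' : Subgroup Γ, IsMulCommutative H' → H ≤ H' → H' = H,
      IsMulCommutative H ∧ (ι.range.relIndex H) ^ 2 = ι.range.index,
      H = Subgroup.centralizer (H : Set Γ)] := by
  have hN : (ι.range).Normal := hcent ▸ inferInstance
  let e : ι.range ≃* kˣ := (MonoidHom.ofInjective hι).symm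
  have hne : Nat.card (Γ ⧸ ι.range) ≠ 0 := Nat.card_pos.ne'
  haveI : NeZero ((Nat.card (Γ ⧸ ι.range) : ℕ) : k) :=
    ⟨natCast_ne_zero_of_coprime_ringExpChar _ hne hcop⟩
  have hroots : HasEnoughRootsOfUnity k (Nat.card (Γ ⧸ ι.range)) := inferInstance
  have key := relIndex_mul_relIndex_centralizer ι.range hcent hcomm e hroots H hH
  have hindex : ι.range.index ≠ 0 := Subgroup.index_ne_zero_of_finite
  tfae_have 3 → 1 := by
    intro h
    have hc : IsMulCommutative H := Subgroup.le_centralizer_iff_isMulCommutative.mp (le_of_eq h)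
    refine ⟨hc, fun H' hH' hle => ?_⟩
    apply le_antisymm _ hle
    calc H' ≤ Subgroup.centralizer (H' : Set Γ) := Subgroup.le_centralizer_iff_isMulCommutative.mpr hH'
      _ ≤ Subgroup.centralizer (H : Set Γ) := Subgroup.centralizer_le hle
      _ = H := h.symm
  tfae_have 1 → 3 := by
    rintro ⟨hc, hmax⟩
    apply le_antisymm (Subgroup.le_centralizer_iff_isMulCommutative.mpr hc)
    intro x hx
    have hcl : IsMulCommutative (Subgroup.closure ((H : Set Γ) ∪ {x})) := by
      apply Subgroup.isMulCommutative_closure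
      rintro y (hy | hy) z (hz | hz)
      · exact congrArg Subtype.val (hc.is_comm.comm ⟨y, hy⟩ ⟨z, hz⟩)
      · rw [Set.mem_singleton_iff] at hz
        subst hz
        exact (Subgroup.mem_centralizer_iff.mp hx y hy)
      · rw [Set.mem_singleton_iff] at hy
        subst hy
        exact (Subgroup.mem_centralizer_iff.mp hx z hz).symm
      · rw [Set.mem_singleton_iff] at hy hz
        rw [hy, hz]
    have hle : H ≤ Subgroup.closure ((H : Set Γ) ∪ {x}) := fun y hy =>
      Subgroup.subset_closure (Or.inl hy)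
    have := hmax _ hcl hle
    rw [← this]
    exact Subgroup.subset_closure (Or.inr rfl)
  tfae_have 3 → 2 := by
    intro h
    refine ⟨Subgroup.le_centralizer_iff_isMulCommutative.mp (le_of_eq h), ?_⟩
    have h2 : ι.range.relIndex (Subgroup.centralizer (H : Set Γ)) = ι.range.relIndex H :=
      congrArg ι.range.relIndex h.symm
    rw [h2] at key
    rw [sq]; exact key
  tfae_have 2 → 3 := by
    rintro ⟨hc, hsq⟩
    have hHC : H ≤ Subgroup.centralizer (H : Set Γ) := Subgroup.le_centralizer_iff_isMulCommutative.mpr hc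
    apply le_antisymm hHC
    have hrel : ι.range.relIndex H ≠ 0 := fun h0 => hindex (by
      have := Subgroup.relIndex_dvd_index_of_le hH
      rw [h0] at this
      exact Nat.eq_zero_of_zero_dvd this)
    have h1 : ι.range.relIndex (Subgroup.centralizer (H : Set Γ)) = ι.range.relIndex H := by
      rw [← hsq, sq] at key
      exact Nat.eq_of_mul_eq_mul_left (Nat.pos_of_ne_zero hrel) key
    have h2 := Subgroup.relIndex_mul_relIndex _ _ _ hH hHC
    rw [h1] at h2
    have h3 : H.relIndex (Subgroup.centralizer (H : Set Γ)) = 1 := by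
      have : ι.range.relIndex H * H.relIndex (Subgroup.centralizer (H : Set Γ)) = ι.range.relIndex H * 1 := by
        rw [h2, mul_one]
      exact Nat.eq_of_mul_eq_mul_left (Nat.pos_of_ne_zero hrel) this
    exact Subgroup.relIndex_eq_one.mp h3
  tfae_finish

end Groth.Agent.S17512
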