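import Groth.Statements.S17517
import Mathlib
-- import your own Groth.Agent.* helpers here

set_option autoImplicit false
universe u
open GIT

namespace Groth.Agent.S17517


open scoped RealInnerProductSpace
open Topology

lemma exists_proj : ∃ π : ℝ →ₗ[ℚ] ℚ, ∀ q : ℚ, π (q : ℝ) = q := by
  obtain ⟨g, hg⟩ := LinearMap.exists_leftInverse_of_injective (Algebra.linearMap ℚ ℝ)
    (LinearMap.ker_eq_bot.mpr (algebraMap ℚ ℝ).injective)
  exact ⟨g, fun q => by simpa using LinearMap.congr_fun hg q⟩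

lemma proj_sum (π : ℝ →ₗ[ℚ] ℚ) {ι : Type*} (s : Finset ι) (x : ι → ℝ) (n : ι → ℤ) :
    π (∑ i ∈ s, x i * (n i : ℝ)) = ∑ i ∈ s, π (x i) * (n i : ℚ) := by
  rw [map_sum]
  refine Finset.sum_congr rfl fun i _ => ?_
  have h : x i * (n i : ℝ) = ((n i : ℚ)) • x i := by
    rw [Rat.smul_def]
    push_cast
    ring
  rw [h, map_smul, smul_eq_mul, mul_comm]

lemma exists_common_den {ι : Type*} [Fintype ι] (q : ι → ℚ) :
    ∃ N : ℕ, 0 < N ∧ ∀ i, ∃ m : ℤ, (N : ℚ) * q i = m := by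
  classical
  refine ⟨∏ i, (q i).den, Finset.prod_pos fun i _ => (q i).den_pos, fun i => ?_⟩
  refine ⟨(q i).num * ∏ j ∈ Finset.univ.erase i, ((q j).den : ℤ), ?_⟩
  rw [← Finset.mul_prod_erase Finset.univ _ (Finset.mem_univ i)]
  push_cast
  have h := Rat.mul_den_eq_num (q i)
  calc ((q i).den : ℚ) * (∏ j ∈ Finset.univ.erase i, ((q j).den : ℚ)) * q i
      = (q i * (q i).den) * ∏ j ∈ Finset.univ.erase i, ((q j).den : ℚ) := by ring
    _ = _ := by rw [h]

section Core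

variable {E : Type u} [NormedAddCommGroup E] [InnerProductSpace ℝ E] [FiniteDimensional ℝ E]

omit [FiniteDimensional ℝ E] in
lemma orth_of_active {ι : Type*} [Fintype ι] (h : ι → Module.Dual ℝ E) (c : ι → ℝ)
    (v₁ : E) (hv₁ : ∀ i, c i ≤ h i v₁)
    (hK : ∀ w : E, (∀ i, c i ≤ h i w) → inner ℝ v₁ v₁ ≤ inner ℝ v₁ w)
    (u : E) (hu : ∀ i, h i v₁ = c i → h i u = 0) : inner ℝ v₁ u = 0 := by
  have hev : ∀ᶠ t : ℝ in 𝓝 0, ∀ i, c i ≤ h i (v₁ + t • u) := by
    rw [Filter.eventually_all]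
    intro i
    by_cases hi : h i v₁ = c i
    · refine Filter.Eventually.of_forall fun t => ?_
      rw [map_add, map_smul, hu i hi, smul_zero, add_zero]
      exact hv₁ i
    · have hlt : c i < h i v₁ := lt_of_le_of_ne (hv₁ i) (Ne.symm hi)
      have hc : ContinuousAt (fun t : ℝ => h i (v₁ + t • u)) 0 := by
        simp only [map_add, map_smul, smul_eq_mul]
        fun_prop
      have h0 : c i < (fun t : ℝ => h i (v₁ + t • u)) 0 := by simpa using hlt
      exact (hc.eventually (lt_mem_nhds h0)).mono fun t ht => le_of_lt ht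
  obtain ⟨ε, hε, hball⟩ := Metric.eventually_nhds_iff.mp hev
  have h1 := hK _ (hball (y := ε / 2) (by
    rw [Real.dist_eq, sub_zero, abs_of_pos (by linarith)]
    linarith))
  have h2 := hK _ (hball (y := -(ε / 2)) (by
    rw [Real.dist_eq, sub_zero, abs_neg, abs_of_pos (by linarith)]
    linarith))
  rw [inner_add_right, inner_smul_right] at h1 h2
  have h3 : 0 ≤ ε / 2 * inner ℝ v₁ u := by linarith
  have h4 : 0 ≤ -(ε / 2) * inner ℝ v₁ u := by linarith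
  have h5 : ε / 2 * inner ℝ v₁ u = 0 := by linarith
  rcases mul_eq_zero.mp h5 with h | h
  · linarith
  · exact h

lemma core_rational (L : Submodule ℤ E) [DiscreteTopology L] [IsZLattice ℝ L]
    (hint : ∀ x ∈ L, ∀ y ∈ L, ∃ n : ℤ, inner ℝ x y = (n : ℝ))
    {ι : Type*} [Fintype ι] (h : ι → Module.Dual ℝ E) (c : ι → ℚ)
    (hh : ∀ i, ∀ x ∈ L, ∃ n : ℤ, h i x = (n : ℝ))
    (v₁ : E) (hv₁ : ∀ i, (c i : ℝ) ≤ h i v₁)
    (hK : ∀ w : E, (∀ i, (c i : ℝ) ≤ h i w) → inner ℝ v₁ v₁ ≤ inner ℝ v₁ w) :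
    ∃ N : ℕ, 0 < N ∧ (N : ℝ) • v₁ ∈ L := by
  classical
  obtain ⟨π, hπ⟩ := exists_proj
  -- Lagrange multipliers
  let W := {i : ι // h i v₁ = (c i : ℝ)}
  have hφ : innerₛₗ ℝ v₁ ∈ Submodule.span ℝ (Set.range (fun w : W => h w.1)) := by
    refine mem_span_of_iInf_ker_le_ker fun u hu => ?_
    rw [Submodule.mem_iInf] at hu
    rw [LinearMap.mem_ker, innerₛₗ_apply_apply]
    exact orth_of_active h (fun i => (c i : ℝ)) v₁ hv₁ hK u (fun i hi => hu ⟨i, hi⟩)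
  obtain ⟨lam, hlam⟩ := (Submodule.mem_span_range_iff_exists_fun ℝ).mp hφ
  have hlam' : ∀ u : E, inner ℝ v₁ u = ∑ w : W, lam w * h w.1 u := by
    intro u
    have := LinearMap.congr_fun hlam u
    simp only [LinearMap.coe_sum, Finset.sum_apply, LinearMap.smul_apply, smul_eq_mul,
      innerₛₗ_apply_apply] at this
    exact this.symm
  -- basis
  let b := Module.Free.chooseBasis ℤ L
  let B := b.ofZLatticeBasis ℝ L
  have hB : ∀ i, B i = (b i : E) := b.ofZLatticeBasis_apply ℝ L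
  have hBL : ∀ i, B i ∈ L := fun i => by rw [hB i]; exact (b i).2
  choose nh hnh using fun (i : ι) j => hh i (B j) (hBL j)
  choose Γ hΓ using fun i j => hint (B i) (hBL i) (B j) (hBL j)
  let x := fun i => B.repr v₁ i
  have hx : v₁ = ∑ i, x i • B i := (B.sum_repr v₁).symm
  let q := fun i => π (x i)
  let v' : E := ∑ i, ((q i : ℚ) : ℝ) • B i
  -- (a)
  have ha : ∀ w : W, h w.1 v' = (c w.1 : ℝ) := by
    intro w
    have e1 : (c w.1 : ℝ) = ∑ j, x j * (nh w.1 j : ℝ) := by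
      rw [← w.2, congrArg (h w.1) hx, map_sum]
      refine Finset.sum_congr rfl fun j _ => ?_
      rw [map_smul, smul_eq_mul, hnh]
    have e2 := proj_sum π Finset.univ x (nh w.1)
    rw [← e1, hπ] at e2
    simp only [v']
    rw [map_sum, e2]
    push_cast
    refine Finset.sum_congr rfl fun j _ => ?_
    rw [map_smul, smul_eq_mul, hnh]
  -- (b)
  have hb : ∀ j, inner ℝ v' (B j) = ∑ w : W, ((π (lam w) : ℚ) : ℝ) * h w.1 (B j) := by
    intro j
    have e1 : inner ℝ v₁ (B j) = ∑ i, x i * (Γ i j : ℝ) := by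
      rw [congrArg (fun v => inner ℝ v (B j)) hx, sum_inner]
      refine Finset.sum_congr rfl fun i _ => ?_
      rw [real_inner_smul_left, hΓ]
    have e2 : inner ℝ v₁ (B j) = ∑ w : W, lam w * (nh w.1 j : ℝ) := by
      rw [hlam']
      refine Finset.sum_congr rfl fun w _ => ?_
      rw [hnh]
    have e3 := proj_sum π Finset.univ x (fun i => Γ i j)
    have e4 := proj_sum π Finset.univ lam (fun w : W => nh w.1 j)
    rw [← e1, e2, e4] at e3
    simp only [v']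
    rw [sum_inner]
    have e5 : ∑ i, inner ℝ (((q i : ℚ) : ℝ) • B i) (B j) = ((∑ i, q i * (Γ i j : ℚ) : ℚ) : ℝ) := by
      push_cast
      refine Finset.sum_congr rfl fun i _ => ?_
      rw [real_inner_smul_left, hΓ]
    rw [e5, ← e3]
    push_cast
    refine Finset.sum_congr rfl fun w _ => ?_
    rw [hnh]
  have hb' : ∀ u : E, inner ℝ v' u = ∑ w : W, ((π (lam w) : ℚ) : ℝ) * h w.1 u := by
    intro u
    have : innerₛₗ ℝ v' = ∑ w : W, ((π (lam w) : ℚ) : ℝ) • h w.1 := by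
      refine B.ext fun j => ?_
      simp only [innerₛₗ_apply_apply, LinearMap.coe_sum, Finset.sum_apply, LinearMap.smul_apply,
        smul_eq_mul]
      exact hb j
    have := LinearMap.congr_fun this u
    simpa only [innerₛₗ_apply_apply, LinearMap.coe_sum, Finset.sum_apply, LinearMap.smul_apply,
        smul_eq_mul] using this
  -- (c)
  have hc : v' = v₁ := by
    have hδ : ∀ w : W, h w.1 (v' - v₁) = 0 := by
      intro w
      rw [map_sub, ha w, w.2, sub_self]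
    have : inner ℝ (v' - v₁) (v' - v₁) = 0 := by
      rw [inner_sub_left, hb', hlam']
      simp [hδ]
    exact sub_eq_zero.mp (inner_self_eq_zero.mp this)
  obtain ⟨N, hN, hm⟩ := exists_common_den q
  choose m hm using hm
  refine ⟨N, hN, ?_⟩
  have : (N : ℝ) • v₁ = ∑ i, m i • (b i : E) := by
    rw [← hc]
    simp only [v']
    rw [Finset.smul_sum]
    refine Finset.sum_congr rfl fun i _ => ?_
    rw [smul_smul, hB i, ← Int.cast_smul_eq_zsmul ℝ]
    congr 1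
    have := hm i
    exact_mod_cast this
  rw [this]
  exact L.sum_mem fun i _ => L.smul_mem _ (b i).2

end Core

section Main

variable {E : Type u} [NormedAddCommGroup E] [InnerProductSpace ℝ E] [FiniteDimensional ℝ E]

lemma exists_min_point {ι : Type*} [Fintype ι] (h : ι → Module.Dual ℝ E) (c : ι → ℝ)
    (hne : ∃ v, ∀ i, c i ≤ h i v) :
    ∃ v₁ : E, (∀ i, c i ≤ h i v₁) ∧
      ∀ w : E, (∀ i, c i ≤ h i w) → inner ℝ v₁ v₁ ≤ inner ℝ v₁ w := by
  have := FiniteDimensional.complete ℝ E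
  let P : Set E := {v | ∀ i, c i ≤ h i v}
  have hP : P = ⋂ i, {v | c i ≤ h i v} := by
    ext v
    simp [P]
  have hconv : Convex ℝ P := by
    rw [hP]
    exact convex_iInter fun i => convex_halfSpace_ge (h i).isLinear (c i)
  have hclosed : IsClosed P := by
    rw [hP]
    exact isClosed_iInter fun i =>
      isClosed_le continuous_const (LinearMap.continuous_of_finiteDimensional (h i))
  obtain ⟨v₁, hv₁, hmin⟩ :=
    exists_norm_eq_iInf_of_complete_convex hne hclosed.isComplete hconv (0 : E)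
  refine ⟨v₁, hv₁, fun w hw => ?_⟩
  have := (norm_eq_iInf_iff_real_inner_le_zero hconv hv₁).mp hmin w hw
  rw [zero_sub, inner_neg_left, inner_sub_right] at this
  linarith

omit [FiniteDimensional ℝ E] in
lemma norm_le_of_K (v₁ w : E) (hK : inner ℝ v₁ v₁ ≤ inner ℝ v₁ w) : ‖v₁‖ ≤ ‖w‖ := by
  by_cases h0 : v₁ = 0
  · simp [h0]
  have h1 : inner ℝ v₁ w ≤ ‖v₁‖ * ‖w‖ := real_inner_le_norm v₁ w
  rw [real_inner_self_eq_norm_sq] at hK
  have hpos : 0 < ‖v₁‖ := norm_pos_iff.mpr h0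
  nlinarith

omit [FiniteDimensional ℝ E] in
lemma eq_of_K (v₁ w : E) (hK : inner ℝ v₁ v₁ ≤ inner ℝ v₁ w) (hn : ‖w‖ = ‖v₁‖) : w = v₁ := by
  have h1 : ‖w - v₁‖ ^ 2 = ‖w‖ ^ 2 - 2 * inner ℝ w v₁ + ‖v₁‖ ^ 2 := norm_sub_sq_real w v₁
  rw [real_inner_self_eq_norm_sq] at hK
  rw [real_inner_comm] at h1
  have h2 : ‖w - v₁‖ ^ 2 ≤ 0 := by
    rw [h1, hn]
    linarith
  have h3 : ‖w - v₁‖ = 0 := by
    have := sq_nonneg ‖w - v₁‖
    exact pow_eq_zero_iff (two_ne_zero) |>.mp (le_antisymm h2 this)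
  exact sub_eq_zero.mp (norm_eq_zero.mp h3)

omit [FiniteDimensional ℝ E] in
lemma exists_primitive (L : Submodule ℤ E)
    (hint : ∀ x ∈ L, ∀ y ∈ L, ∃ n : ℤ, inner ℝ x y = (n : ℝ))
    (v₁ : E) (hv₁ : v₁ ≠ 0) (N : ℕ) (hN : 0 < N) (hNL : (N : ℝ) • v₁ ∈ L) :
    ∃ t₀ : ℝ, 0 < t₀ ∧ t₀ • v₁ ∈ L ∧
      ∀ t : ℝ, t • v₁ ∈ L → ∃ n : ℤ, t • v₁ = n • (t₀ • v₁) := by
  classical
  set w : E := (N : ℝ) • v₁ with hw
  set κ : ℝ := inner ℝ w v₁ with hκ
  have hκpos : 0 < κ := by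
    rw [hκ, hw, real_inner_smul_left, real_inner_self_eq_norm_sq]
    have : 0 < ‖v₁‖ := norm_pos_iff.mpr hv₁
    have hN' : (0 : ℝ) < N := by exact_mod_cast hN
    positivity
  have hc : ∀ t : ℝ, inner ℝ w (t • v₁) = t * κ := fun t => by rw [real_inner_smul_right]
  let S : ℕ → Prop := fun m => 0 < m ∧ ∃ t : ℝ, 0 < t ∧ t • v₁ ∈ L ∧ inner ℝ w (t • v₁) = (m : ℝ)
  have hS : ∃ m, S m := by
    obtain ⟨n, hn⟩ := hint w hNL w hNL
    have hN' : (0 : ℝ) < N := by exact_mod_cast hN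
    have hpos : (0 : ℝ) < n := by
      rw [← hn]
      have : inner ℝ w w = (N : ℝ) * κ := hc N
      rw [this]
      positivity
    have hn0 : 0 < n := by exact_mod_cast hpos
    refine ⟨n.toNat, by omega, N, hN', hNL, ?_⟩
    rw [← hw, hn]
    have : ((n.toNat : ℤ) : ℝ) = (n : ℝ) := by rw [Int.toNat_of_nonneg hn0.le]
    exact_mod_cast this.symm
  obtain ⟨hm₀pos, t₀, ht₀, ht₀L, ht₀c⟩ := Nat.find_spec hS
  set m₀ := Nat.find hS with hm₀
  refine ⟨t₀, ht₀, ht₀L, fun t htL => ?_⟩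
  obtain ⟨k, hk⟩ := hint w hNL _ htL
  have hm₀' : (0 : ℤ) < (m₀ : ℤ) := by exact_mod_cast hm₀pos
  set qn := k / (m₀ : ℤ) with hqn
  set r := k % (m₀ : ℤ) with hr
  have hr0 : 0 ≤ r := Int.emod_nonneg k hm₀'.ne'
  have hrlt : r < m₀ := Int.emod_lt_of_pos k hm₀'
  have hkr : (m₀ : ℤ) * qn + r = k := Int.mul_ediv_add_emod k m₀
  set t' : ℝ := t - qn * t₀ with ht'
  have ht'L : t' • v₁ ∈ L := by
    have : t' • v₁ = t • v₁ - qn • (t₀ • v₁) := by
      rw [ht', sub_smul, mul_smul, Int.cast_smul_eq_zsmul]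
    rw [this]
    exact L.sub_mem htL (L.smul_mem _ ht₀L)
  have ht'c : t' * κ = (r : ℝ) := by
    have h1 : t * κ = (k : ℝ) := by rw [← hc, hk]
    have h2 : t₀ * κ = (m₀ : ℝ) := by rw [← hc, ht₀c]
    have h3 : (k : ℝ) = (m₀ : ℝ) * qn + r := by exact_mod_cast hkr.symm
    rw [ht', sub_mul, mul_assoc, h1, h2, h3]
    ring
  have hr_eq : r = 0 := by
    by_contra hne
    have hrpos : 0 < r := lt_of_le_of_ne hr0 (Ne.symm hne)
    have hrpos' : (0 : ℝ) < r := by exact_mod_cast hrpos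
    have ht'pos : 0 < t' := by
      by_contra hle
      push Not at hle
      have := mul_nonpos_of_nonpos_of_nonneg hle hκpos.le
      linarith
    have hSr : S r.toNat := by
      refine ⟨by omega, t', ht'pos, ht'L, ?_⟩
      rw [hc, ht'c]
      have : ((r.toNat : ℤ) : ℝ) = (r : ℝ) := by rw [Int.toNat_of_nonneg hr0]
      exact_mod_cast this.symm
    have := Nat.find_min' hS hSr
    omega
  have ht'0 : t' = 0 := by
    rw [hr_eq, Int.cast_zero] at ht'c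
    rcases mul_eq_zero.mp ht'c with h | h
    · exact h
    · exact absurd h hκpos.ne'
  refine ⟨qn, ?_⟩
  have : t = qn * t₀ := by
    rw [ht'] at ht'0
    linarith
  rw [this, mul_smul, Int.cast_smul_eq_zsmul]

lemma main (L : Submodule ℤ E) [DiscreteTopology L] [IsZLattice ℝ L]
    (hint : ∀ x ∈ L, ∀ y ∈ L, ∃ n : ℤ, inner ℝ x y = (n : ℝ))
    (F G : Finset (Module.Dual ℝ E)) (hG : G.Nonempty)
    (hFi : ∀ f ∈ F, ∀ x ∈ L, ∃ n : ℤ, f x = (n : ℝ)) (hGi : ∀ g ∈ G, ∀ x ∈ L, ∃ n : ℤ, g x = (n : ℝ))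
    (fmin gmin : E → ℝ)
    (hf_iff : ∀ (v : E) (a : ℝ), a ≤ fmin v ↔ ∀ f ∈ F, a ≤ f v)
    (hg_iff : ∀ (v : E) (a : ℝ), a ≤ gmin v ↔ ∀ g ∈ G, a ≤ g v)
    (hpos : ∃ v : E, 0 ≤ fmin v ∧ 0 < gmin v) :
    ∃ M : ℝ, IsGreatest ((fun v => gmin v / ‖v‖) '' {v : E | v ≠ 0 ∧ 0 ≤ fmin v}) M ∧
      ∃! v₀ : E, v₀ ∈ L ∧ v₀ ≠ 0 ∧ 0 ≤ fmin v₀ ∧ gmin v₀ / ‖v₀‖ = M ∧
        ∀ v ∈ L, v ≠ 0 → 0 ≤ fmin v → gmin v / ‖v‖ = M → ∃ n : ℤ, v = n • v₀ := by
  classical
  -- homogeneity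
  have hg_smul : ∀ (t : ℝ) (v : E), 0 < t → gmin (t • v) = t * gmin v := by
    intro t v ht
    apply le_antisymm
    · have h1 : gmin (t • v) / t ≤ gmin v := (hg_iff v _).mpr fun g hg => by
        rw [div_le_iff₀ ht]
        have := (hg_iff (t • v) (gmin (t • v))).mp le_rfl g hg
        rwa [map_smul, smul_eq_mul, mul_comm] at this
      rwa [div_le_iff₀ ht, mul_comm] at h1
    · exact (hg_iff (t • v) _).mpr fun g hg => by
        rw [map_smul, smul_eq_mul]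
        exact mul_le_mul_of_nonneg_left ((hg_iff v _).mp le_rfl g hg) ht.le
  have hf_smul : ∀ (t : ℝ) (v : E), 0 < t → 0 ≤ fmin v → 0 ≤ fmin (t • v) := by
    intro t v ht hv
    rw [hf_iff] at hv ⊢
    intro f hf
    rw [map_smul, smul_eq_mul]
    exact mul_nonneg ht.le (hv f hf)
  -- constraints
  let ι := {f // f ∈ F} ⊕ {g // g ∈ G}
  let h : ι → Module.Dual ℝ E := Sum.elim (fun f => f.1) (fun g => g.1)
  let c : ι → ℚ := Sum.elim (fun _ => 0) (fun _ => 1)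
  have hP : ∀ v : E, (∀ i, (c i : ℝ) ≤ h i v) ↔ (0 ≤ fmin v ∧ 1 ≤ gmin v) := by
    intro v
    rw [hf_iff, hg_iff]
    constructor
    · intro H
      exact ⟨fun f hf => by simpa [h, c] using H (Sum.inl ⟨f, hf⟩),
        fun g hg => by simpa [h, c] using H (Sum.inr ⟨g, hg⟩)⟩
    · rintro ⟨H1, H2⟩ (⟨f, hf⟩ | ⟨g, hg⟩)
      · simpa [h, c] using H1 f hf
      · simpa [h, c] using H2 g hg
  have hh : ∀ i, ∀ x ∈ L, ∃ n : ℤ, h i x = (n : ℝ) := by
    rintro (⟨f, hf⟩ | ⟨g, hg⟩) x hx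
    · exact hFi f hf x hx
    · exact hGi g hg x hx
  obtain ⟨v, hv1, hv2⟩ := hpos
  have hne : ∃ v, ∀ i, (c i : ℝ) ≤ h i v :=
    ⟨(gmin v)⁻¹ • v, (hP _).mpr ⟨hf_smul _ _ (inv_pos.mpr hv2) hv1, by
      rw [hg_smul _ _ (inv_pos.mpr hv2), inv_mul_cancel₀ hv2.ne']⟩⟩
  obtain ⟨v₁, hv₁P, hK⟩ := exists_min_point h (fun i => (c i : ℝ)) hne
  have hv₁P' := (hP v₁).mp hv₁P
  have hv₁0 : v₁ ≠ 0 := by
    rintro rfl
    obtain ⟨g, hg⟩ := hG
    have := (hg_iff 0 1).mp hv₁P'.2 g hg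
    rw [map_zero] at this
    linarith
  have hn₁ : 0 < ‖v₁‖ := norm_pos_iff.mpr hv₁0
  -- the bound
  have hbound : ∀ v : E, v ≠ 0 → 0 ≤ fmin v → gmin v / ‖v‖ ≤ 1 / ‖v₁‖ := by
    intro v hv0 hvf
    have hnv : 0 < ‖v‖ := norm_pos_iff.mpr hv0
    by_cases hs : 0 < gmin v
    · have hw : ∀ i, (c i : ℝ) ≤ h i ((gmin v)⁻¹ • v) := (hP _).mpr
        ⟨hf_smul _ _ (inv_pos.mpr hs) hvf, by rw [hg_smul _ _ (inv_pos.mpr hs), inv_mul_cancel₀ hs.ne']⟩
      have h1 := norm_le_of_K v₁ _ (hK _ hw)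
      rw [norm_smul, Real.norm_eq_abs, abs_of_pos (inv_pos.mpr hs)] at h1
      rw [div_le_div_iff₀ hnv hn₁, one_mul]
      have h2 : gmin v * ‖v₁‖ ≤ gmin v * ((gmin v)⁻¹ * ‖v‖) := mul_le_mul_of_nonneg_left h1 hs.le
      rwa [← mul_assoc, mul_inv_cancel₀ hs.ne', one_mul] at h2
    · push Not at hs
      exact le_trans (div_nonpos_of_nonpos_of_nonneg hs hnv.le) (by positivity)
  have hg₁ : gmin v₁ = 1 := by
    apply le_antisymm _ hv₁P'.2
    have := hbound v₁ hv₁0 hv₁P'.1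
    rwa [div_le_div_iff_of_pos_right hn₁] at this
  -- maximisers
  have hmaxi : ∀ v : E, v ≠ 0 → 0 ≤ fmin v → gmin v / ‖v‖ = 1 / ‖v₁‖ →
      0 < gmin v ∧ v = gmin v • v₁ := by
    intro v hv0 hvf hr
    have hnv : 0 < ‖v‖ := norm_pos_iff.mpr hv0
    have hs : 0 < gmin v := by
      have h1 : 0 < gmin v / ‖v‖ := by rw [hr]; positivity
      exact (div_pos_iff_of_pos_right hnv).mp h1
    refine ⟨hs, ?_⟩
    have hw : ∀ i, (c i : ℝ) ≤ h i ((gmin v)⁻¹ • v) := (hP _).mpr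
      ⟨hf_smul _ _ (inv_pos.mpr hs) hvf, by rw [hg_smul _ _ (inv_pos.mpr hs), inv_mul_cancel₀ hs.ne']⟩
    have hnorm : ‖(gmin v)⁻¹ • v‖ = ‖v₁‖ := by
      rw [norm_smul, Real.norm_eq_abs, abs_of_pos (inv_pos.mpr hs)]
      rw [div_eq_div_iff hnv.ne' hn₁.ne', one_mul] at hr
      field_simp
      linarith
    have := eq_of_K v₁ _ (hK _ hw) hnorm
    rw [← this, smul_smul, mul_inv_cancel₀ hs.ne', one_smul]
  have hray : ∀ t : ℝ, 0 < t → t • v₁ ≠ 0 ∧ 0 ≤ fmin (t • v₁) ∧ gmin (t • v₁) / ‖t • v₁‖ = 1 / ‖v₁‖ := by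
    intro t ht
    refine ⟨smul_ne_zero ht.ne' hv₁0, hf_smul _ _ ht hv₁P'.1, ?_⟩
    rw [hg_smul _ _ ht, hg₁, norm_smul, Real.norm_eq_abs, abs_of_pos ht, mul_one]
    rw [div_eq_div_iff (mul_pos ht hn₁).ne' hn₁.ne']
    ring
  -- rationality
  obtain ⟨N, hN, hNL⟩ := core_rational L hint h c hh v₁ hv₁P hK
  obtain ⟨t₀, ht₀, ht₀L, hprim⟩ := exists_primitive L hint v₁ hv₁0 N hN hNL
  refine ⟨1 / ‖v₁‖, ⟨⟨v₁, ⟨hv₁0, hv₁P'.1⟩, by simp only [hg₁]⟩, ?_⟩, ?_⟩
  · rintro _ ⟨v, ⟨hv0, hvf⟩, rfl⟩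
    exact hbound v hv0 hvf
  · obtain ⟨h1, h2, h3⟩ := hray t₀ ht₀
    refine ⟨t₀ • v₁, ⟨ht₀L, h1, h2, h3, ?_⟩, ?_⟩
    · intro v hvL hv0 hvf hr
      obtain ⟨hs, hv⟩ := hmaxi v hv0 hvf hr
      rw [hv] at hvL ⊢
      exact hprim _ hvL
    · rintro v' ⟨hv'L, hv'0, hv'f, hv'r, hv'prop⟩
      obtain ⟨hs', hv'eq⟩ := hmaxi v' hv'0 hv'f hv'r
      obtain ⟨n, hn⟩ := hv'prop (t₀ • v₁) ht₀L h1 h2 h3
      have hv'L2 := hv'L
      rw [hv'eq] at hv'L2
      obtain ⟨m, hm⟩ := hprim _ hv'L2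
      -- t₀ v₁ = n • v' , v' = m • (t₀ v₁)
      rw [← hv'eq] at hm
      have e1 : (t₀ : ℝ) = (n : ℝ) * gmin v' := by
        have : t₀ • v₁ = ((n : ℝ) * gmin v') • v₁ := by
          rw [mul_smul, ← hv'eq, Int.cast_smul_eq_zsmul]
          exact hn
        have := sub_eq_zero.mpr this
        rw [← sub_smul] at this
        rcases smul_eq_zero.mp this with h | h
        · linarith
        · exact absurd h hv₁0
      have e2 : gmin v' = (m : ℝ) * t₀ := by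
        have : gmin v' • v₁ = ((m : ℝ) * t₀) • v₁ := by
          rw [mul_smul, Int.cast_smul_eq_zsmul, ← hv'eq]
          exact hm
        have := sub_eq_zero.mpr this
        rw [← sub_smul] at this
        rcases smul_eq_zero.mp this with h | h
        · linarith
        · exact absurd h hv₁0
      have hnpos : (0 : ℝ) < n := by
        by_contra hle
        push Not at hle
        have := mul_nonpos_of_nonpos_of_nonneg hle hs'.le
        linarith
      have hmpos : (0 : ℝ) < m := by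
        by_contra hle
        push Not at hle
        have := mul_nonpos_of_nonpos_of_nonneg hle ht₀.le
        linarith
      have hnm : (n : ℝ) * m = 1 := by
        have : t₀ = (n : ℝ) * m * t₀ := by
          calc t₀ = (n : ℝ) * gmin v' := e1
            _ = (n : ℝ) * ((m : ℝ) * t₀) := by rw [e2]
            _ = (n : ℝ) * m * t₀ := by ring
        have h5 : ((n : ℝ) * m - 1) * t₀ = 0 := by linarith
        rcases mul_eq_zero.mp h5 with h | h
        · linarith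
        · exact absurd h ht₀.ne'
      have hn1 : n = 1 := by
        have hn0 : 0 < n := by exact_mod_cast hnpos
        have hm0 : 0 < m := by exact_mod_cast hmpos
        have hnm' : n * m = 1 := by exact_mod_cast hnm
        exact Int.eq_one_of_mul_eq_one_right hn0.le hnm'
      rw [hn1, one_smul] at hn
      exact hn.symm

end Main


/-- Let `E` be a finite-dimensional real inner product space and `L` a full lattice in `E` (a discrete
subgroup spanning `E`) on which the inner product is integer valued; let `F` and `G` be nonempty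
finite sets of real linear functionals on `E` taking integer values on `L`, with `f_min v = min_{f ∈
F} f v` and `g_min v = min_{g ∈ G} g v`. If some vector `v` has `f_min v ≥ 0` and `g_min v > 0`,
then on the set `C_F` of nonzero `v` with `f_min v ≥ 0` the function `v ↦ g_min v / ‖v‖` attains a
greatest value `M`, and there is exactly one lattice vector `v₀ ∈ C_F` with `g_min v₀ / ‖v₀‖ = M` of
which every lattice vector `v ∈ C_F` with `g_min v / ‖v‖ = M` is an integer multiple. -/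
theorem result
    (E : Type u) [NormedAddCommGroup E] [InnerProductSpace ℝ E] [FiniteDimensional ℝ E]
    (L : Submodule ℤ E) [DiscreteTopology L] [IsZLattice ℝ L]
    (hint : ∀ x ∈ L, ∀ y ∈ L, ∃ n : ℤ, inner ℝ x y = (n : ℝ))
    (F G : Finset (Module.Dual ℝ E)) (hF : F.Nonempty) (hG : G.Nonempty)
    (hFi : ∀ f ∈ F, ∀ x ∈ L, ∃ n : ℤ, f x = (n : ℝ)) (hGi : ∀ g ∈ G, ∀ x ∈ L, ∃ n : ℤ, g x = (n : ℝ))
    (hpos : ∃ v : E, 0 ≤ F.inf' hF (fun f => f v) ∧ 0 < G.inf' hG (fun g => g v)) :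
    ∃ M : ℝ, IsGreatest ((fun v => G.inf' hG (fun g => g v) / ‖v‖) ''
        {v : E | v ≠ 0 ∧ 0 ≤ F.inf' hF (fun f => f v)}) M ∧
      ∃! v₀ : E, v₀ ∈ L ∧ v₀ ≠ 0 ∧ 0 ≤ F.inf' hF (fun f => f v₀) ∧
        G.inf' hG (fun g => g v₀) / ‖v₀‖ = M ∧
        ∀ v ∈ L, v ≠ 0 → 0 ≤ F.inf' hF (fun f => f v) → G.inf' hG (fun g => g v) / ‖v‖ = M →
          ∃ n : ℤ, v = n • v₀ := by
  exact main L hint F G hG hFi hGi (fun v => F.inf' hF (fun f => f v))
    (fun v => G.inf' hG (fun g => g v)) (fun v a => Finset.le_inf'_iff hF _)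
    (fun v a => Finset.le_inf'_iff hG _) hpos

end Groth.Agent.S17517
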