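import Groth.Statements.S17525
import Mathlib
import Groth.Agent.Lib.R2H7LinRedB

set_option autoImplicit false
universe u
open HopfRep

namespace Groth.Agent.S17525

/-- Let `k` be a field and `1 → K → G → Q → 1` an exact sequence of affine group schemes of finite type
over `k`, written on coordinate rings: `AQ`, `AG`, `AK` are commutative Hopf algebras of finite type
over `k`, `φ : AQ → AG` is an injective bialgebra map (so `G → Q` is faithfully flat) and `ψ : AG →
AK` is a surjective bialgebra map (so `K` is a closed subgroup of `G`) whose kernel is the ideal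
generated by the image under `φ` of the augmentation ideal of `AQ` (so `K` is the kernel of `G →
Q`). Then `G` is linearly reductive — every finite-dimensional comodule is semisimple — if and only
if both `K` and `Q` are. -/
theorem result
    (k : Type u) [Field k]
    (AQ AG AK : Type u) [CommRing AQ] [HopfAlgebra k AQ] [Algebra.FiniteType k AQ]
    [CommRing AG] [HopfAlgebra k AG] [Algebra.FiniteType k AG]
    [CommRing AK] [HopfAlgebra k AK] [Algebra.FiniteType k AK]
    (φ : AQ →ₐc[k] AG) (hφ : Function.Injective φ)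
    (ψ : AG →ₐc[k] AK) (hψ : Function.Surjective ψ)
    (hker : RingHom.ker (ψ : AG →ₐ[k] AK) =
      Ideal.map (φ : AQ →ₐ[k] AG) (RingHom.ker (Bialgebra.counitAlgHom k AQ))) :
    HopfRep.IsLinearlyReductive k AG ↔
      HopfRep.IsLinearlyReductive k AK ∧ HopfRep.IsLinearlyReductive k AQ := by
  classical
  haveI hHI : (RingHom.ker (ψ : AG →+* AK)).IsHopfIdeal k :=
    Groth.Agent.Lib.Helper25.isHopfIdeal_ker_of_surjective ψ hψ
  obtain ⟨J, hJdef⟩ : ∃ J : Ideal AG, J = RingHom.ker (ψ : AG →+* AK) := ⟨_, rfl⟩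
  haveI hJH : J.IsHopfIdeal k := hJdef ▸ hHI
  have hmemJ : ∀ a : AG, a ∈ J ↔ ψ a = 0 := by
    intro a
    rw [hJdef]
    exact Iff.rfl
  have hJ : J = Ideal.map (φ : AQ →+* AG) (RingHom.ker (Bialgebra.counitAlgHom k AQ)) := by
    rw [hJdef]
    have h1 : RingHom.ker (ψ : AG →+* AK) = RingHom.ker (ψ : AG →ₐ[k] AK) := by
      ext x
      exact Iff.rfl
    rw [h1, hker]
    rfl
  -- the induced bialgebra isomorphism AG ⧸ J ≃ AK
  obtain ⟨ψbar, hψbar⟩ : ∃ ψbar : AG ⧸ J →ₐc[k] AK,
      ∀ a : AG, ψbar (Ideal.Quotient.mk J a) = ψ a :=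
    ⟨Groth.Agent.Lib.Helper25.HopfSub.quotLift J ψ (fun a ha => (hmemJ a).mp ha),
      fun a => rfl⟩
  have hinj : Function.Injective ψbar := by
    rw [injective_iff_map_eq_zero]
    intro x hx
    obtain ⟨a, rfl⟩ := Ideal.Quotient.mk_surjective x
    rw [hψbar] at hx
    exact Ideal.Quotient.eq_zero_iff_mem.mpr ((hmemJ a).mpr hx)
  have hsurj : Function.Surjective ψbar := by
    intro y
    obtain ⟨a, rfl⟩ := hψ y
    exact ⟨Ideal.Quotient.mk J a, hψbar a⟩
  have hKK : HopfRep.IsLinearlyReductive k AK ↔ HopfRep.IsLinearlyReductive k (AG ⧸ J) := by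
    constructor
    · intro hK
      obtain ⟨l, hl, hl1⟩ := Groth.Agent.Lib.R2H7.LinRedA.exists_isLInt hK
      refine Groth.Agent.Lib.R2H7.LinRedA.isLinearlyReductive_of_isLInt _
        (Groth.Agent.Lib.R2H7.LinRedA.isLInt_comp_of_injective ψbar hinj hl) ?_
      change l (ψbar 1) = 1
      rw [map_one, hl1]
    · intro hK
      obtain ⟨e, he⟩ : ∃ e : (AG ⧸ J) ≃ₐc[k] AK, True :=
        ⟨BialgEquiv.ofBijective ψbar ⟨hinj, hsurj⟩, trivial⟩
      obtain ⟨l, hl, hl1⟩ := Groth.Agent.Lib.R2H7.LinRedA.exists_isLInt hK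
      have hsinj : Function.Injective ((e.symm : AK ≃ₐc[k] AG ⧸ J) : AK →ₐc[k] AG ⧸ J) :=
        e.symm.injective
      refine Groth.Agent.Lib.R2H7.LinRedA.isLinearlyReductive_of_isLInt _
        (Groth.Agent.Lib.R2H7.LinRedA.isLInt_comp_of_injective
          ((e.symm : AK ≃ₐc[k] AG ⧸ J) : AK →ₐc[k] AG ⧸ J) hsinj hl) ?_
      change l (((e.symm : AK ≃ₐc[k] AG ⧸ J) : AK →ₐc[k] AG ⧸ J) 1) = 1
      rw [map_one, hl1]
  constructor
  · intro hG
    exact ⟨hKK.mpr (Groth.Agent.Lib.R2H7.LinRedB.isLinearlyReductive_quot φ J hJ hG),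
      Groth.Agent.Lib.R2H7.LinRedB.isLinearlyReductive_of_injective φ hφ hG⟩
  · rintro ⟨hK, hQ⟩
    exact Groth.Agent.Lib.R2H7.LinRedB.isLinearlyReductive_of_quot φ J hJ hφ (hKK.mp hK) hQ

end Groth.Agent.S17525
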