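import Groth.Statements.S17583
import Mathlib
import Groth.Agent.Lib.Helper18PBUnit2

set_option autoImplicit false
open CategoryTheory CategoryTheory.Limits AlgebraicGeometry
open PosLin

namespace Groth.Agent.S17583

/-- Let X and Y each be a projective variety over the complex numbers (an integral scheme, proper over
ℂ, with an ample invertible module), and let f : X → Y be an algebraic fibre space: a surjective
morphism over ℂ such that the canonical map O_Y → f_*O_X is an isomorphism. Then for every
invertible O_Y-module L the unit L → f_* f^* L of the pullback–pushforward adjunction is an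
isomorphism; taking global sections, H^0(X, f^*L) = H^0(Y, L) (the printed statement is this
equality for the powers L^⊗m, m > 0, and adds the equality of Iitaka dimensions, which is not stated
here). -/
theorem result (X : Scheme.{0}) [X.Over (Spec (CommRingCat.of ℂ))] [IsIntegral X] [IsProper (X ↘ Spec (CommRingCat.of ℂ))]
    (HX : X.Modules) (hHX : CohB1.IsAmple HX)
    (Y : Scheme.{0}) [Y.Over (Spec (CommRingCat.of ℂ))] [IsIntegral Y] [IsProper (Y ↘ Spec (CommRingCat.of ℂ))]
    (HY : Y.Modules) (hHY : CohB1.IsAmple HY)
    (f : X ⟶ Y) (hf : f ≫ (Y ↘ Spec (CommRingCat.of ℂ)) = X ↘ Spec (CommRingCat.of ℂ)) [Surjective f]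
    (hfs : IsIso (ClSub.unitToPush f))
    (L : Y.Modules) (hL : PicF.IsInvertible L) :
    IsIso ((Scheme.Modules.pullbackPushforwardAdjunction f).unit.app L) := by
  have hfib : ∀ V : Y.Opens, Function.Bijective (f.app V) := by
    intro V
    have h1 : Scheme.Modules.Hom.app (ClSub.unitToPush f) V ≫
        Scheme.Modules.Hom.app (inv (ClSub.unitToPush f)) V = 𝟙 _ := by
      rw [← Scheme.Modules.Hom.comp_app, IsIso.hom_inv_id, Scheme.Modules.Hom.id_app]
    have h2 : Scheme.Modules.Hom.app (inv (ClSub.unitToPush f)) V ≫
        Scheme.Modules.Hom.app (ClSub.unitToPush f) V = 𝟙 _ := by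
      rw [← Scheme.Modules.Hom.comp_app, IsIso.inv_hom_id, Scheme.Modules.Hom.id_app]
    constructor
    · intro a b hab
      have h3 : (Scheme.Modules.Hom.app (inv (ClSub.unitToPush f)) V).hom
          ((Scheme.Modules.Hom.app (ClSub.unitToPush f) V).hom a) = a :=
        congrArg (fun m => m.hom a) h1
      have h4 : (Scheme.Modules.Hom.app (inv (ClSub.unitToPush f)) V).hom
          ((Scheme.Modules.Hom.app (ClSub.unitToPush f) V).hom b) = b :=
        congrArg (fun m => m.hom b) h1
      have h5 : (Scheme.Modules.Hom.app (ClSub.unitToPush f) V).hom a =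
          (Scheme.Modules.Hom.app (ClSub.unitToPush f) V).hom b := hab
      rw [h5] at h3
      exact h3.symm.trans h4
    · intro b
      have h3 : (Scheme.Modules.Hom.app (ClSub.unitToPush f) V).hom
          ((Scheme.Modules.Hom.app (inv (ClSub.unitToPush f)) V).hom b) = b :=
        congrArg (fun m => m.hom b) h2
      exact ⟨(Scheme.Modules.Hom.app (inv (ClSub.unitToPush f)) V).hom b, h3⟩
  exact Groth.Agent.Helper18PBUnit.isIso_unit f hfib L
    (Groth.Agent.Helper18PBUnit.isFinLocFree_of_isInvertible hL)

end Groth.Agent.S17583
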