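import Groth.Statements.S17584
import Mathlib
import Groth.Agent.Lib.R2LeadNormalDesc

set_option autoImplicit false
open CategoryTheory CategoryTheory.Limits AlgebraicGeometry
open PosLin

namespace Groth.Agent.S17584

/-- Let X and Y each be a projective variety over the complex numbers (an integral scheme, proper over
ℂ, with an ample invertible module), and f : X → Y an algebraic fibre space (a surjective morphism
over ℂ with O_Y → f_*O_X an isomorphism). If X is normal, then Y is normal. -/
theorem result (X : Scheme.{0}) [X.Over (Spec (CommRingCat.of ℂ))] [IsIntegral X] [IsProper (X ↘ Spec (CommRingCat.of ℂ))]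
    (HX : X.Modules) (hHX : CohB1.IsAmple HX)
    (Y : Scheme.{0}) [Y.Over (Spec (CommRingCat.of ℂ))] [IsIntegral Y] [IsProper (Y ↘ Spec (CommRingCat.of ℂ))]
    (HY : Y.Modules) (hHY : CohB1.IsAmple HY)
    (f : X ⟶ Y) (hf : f ≫ (Y ↘ Spec (CommRingCat.of ℂ)) = X ↘ Spec (CommRingCat.of ℂ)) [Surjective f]
    (hfs : IsIso (ClSub.unitToPush f))
    (hX : Pi1.IsNormalScheme X) : Pi1.IsNormalScheme Y := by
  haveI : IsLocallyNoetherian X :=
    LocallyOfFiniteType.isLocallyNoetherian (X ↘ Spec (CommRingCat.of ℂ))
  have hfib : ∀ V : Y.Opens, IsIso (f.app V) := by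
    intro V
    have h1 : Scheme.Modules.Hom.app (ClSub.unitToPush f) V ≫
        Scheme.Modules.Hom.app (inv (ClSub.unitToPush f)) V = 𝟙 _ := by
      rw [← Scheme.Modules.Hom.comp_app, IsIso.hom_inv_id, Scheme.Modules.Hom.id_app]
    have h2 : Scheme.Modules.Hom.app (inv (ClSub.unitToPush f)) V ≫
        Scheme.Modules.Hom.app (ClSub.unitToPush f) V = 𝟙 _ := by
      rw [← Scheme.Modules.Hom.comp_app, IsIso.inv_hom_id, Scheme.Modules.Hom.id_app]
    have hbij : Function.Bijective (f.app V).hom := by
      constructor
      · intro a b hab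
        have h3 : (Scheme.Modules.Hom.app (inv (ClSub.unitToPush f)) V).hom
            ((Scheme.Modules.Hom.app (ClSub.unitToPush f) V).hom a) = a :=
          congrArg (fun m => m.hom a) h1
        have h4 : (Scheme.Modules.Hom.app (inv (ClSub.unitToPush f)) V).hom
            ((Scheme.Modules.Hom.app (ClSub.unitToPush f) V).hom b) = b :=
          congrArg (fun m => m.hom b) h1
        have h5 : (Scheme.Modules.Hom.app (ClSub.unitToPush f) V).hom a =
            (Scheme.Modules.Hom.app (ClSub.unitToPush f) V).hom b := hab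
        rw [h5] at h3
        exact h3.symm.trans h4
      · intro b
        have h3 : (Scheme.Modules.Hom.app (ClSub.unitToPush f) V).hom
            ((Scheme.Modules.Hom.app (inv (ClSub.unitToPush f)) V).hom b) = b :=
          congrArg (fun m => m.hom b) h2
        exact ⟨(Scheme.Modules.Hom.app (inv (ClSub.unitToPush f)) V).hom b, h3⟩
    exact (ConcreteCategory.isIso_iff_bijective (f.app V)).mpr hbij
  intro y
  haveI : NoZeroDivisors (Y.presheaf.stalk y) :=
    Groth.Agent.Lib.R2Lead.NormalDesc.noZeroDivisors_stalk f hfib (fun x => (hX x).1) y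
  haveI : IsDomain (Y.presheaf.stalk y) := NoZeroDivisors.to_isDomain _
  exact ⟨inferInstance, Groth.Agent.Lib.R2Lead.NormalDesc.isIntegrallyClosed_stalk f hfib hX y⟩

end Groth.Agent.S17584
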