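import Groth.Statements.S17586
import Mathlib
import Groth.Agent.Lib.R2H4VolBig
import Groth.Agent.Lib.R2H4BigChar

set_option autoImplicit false
open CategoryTheory CategoryTheory.Limits AlgebraicGeometry
open PosLin

namespace Groth.Agent.S17586

/-- Let X be a projective variety over the complex numbers (an integral scheme, proper over ℂ, with an
ample invertible module) of dimension n, and L an invertible O_X-module (the module of a Cartier
divisor D). The following two characterisations of bigness of D are equivalent: (a) for every ample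
invertible O_X-module A there are m > 0 and a monomorphism A → L^⊗m (that is, mD is linearly
equivalent to A plus an effective divisor); (b) there are a constant C > 0 and m₁ such that dim_ℂ
H^0(X, L^⊗m) ≥ C·m^n for all m ≥ m₁. (In the text both are shown equivalent to D having Iitaka
dimension n; this row states their equivalence with each other.) -/
theorem result (X : Scheme.{0}) [X.Over (Spec (CommRingCat.of ℂ))] [IsIntegral X]
    [IsProper (X ↘ Spec (CommRingCat.of ℂ))] (H : X.Modules) (hH : CohB1.IsAmple H)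
    (n : ℕ) (hn : topologicalKrullDim X = n)
    (L : X.Modules) (hL : PicF.IsInvertible L) :
    (∀ A : X.Modules, CohB1.IsAmple A → ∃ (m : ℕ) (φ : A ⟶ CohB1.tensorPow L m), 0 < m ∧ Mono φ) ↔
      ∃ C : ℝ, 0 < C ∧ ∃ m₁ : ℕ, ∀ m : ℕ, m₁ ≤ m →
        C * (m : ℝ) ^ n ≤ (Module.finrank ℂ (Coh.HH X (CohB1.tensorPow L m) 0) : ℝ) := by
  classical
  haveI := Groth.Agent.Lib.R2H1.CurveEuler.isNoetherian_of_proper ℂ X
  have hX : topologicalKrullDim X = ((n : ℕ) : WithBot ℕ∞) := hn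
  have hO : PicF.IsInvertible (Coh.structureModule X) :=
    Groth.Agent.Lib.Helper23.TensorUnit.isInvertible_structureModule X
  constructor
  · intro hbig
    obtain ⟨ν, φ, hν, hφ⟩ := hbig H hH
    haveI := hφ
    have hL' : PicF.IsInvertible (CohB1.tensorPow L ν) :=
      Groth.Agent.Lib.Helper23.SecTw.isInvertible_tensorPow hL ν
    obtain ⟨c, hc, q₀, hq₀⟩ := Groth.Agent.Lib.R2H4VolBig.exists_lower_bound_ample ℂ n hX H hH
    have hνR : (0 : ℝ) < (ν : ℝ) := by exact_mod_cast hν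
    have hfreq : ∃ᶠ m : ℕ in Filter.atTop, (c / (ν : ℝ) ^ n) * (m : ℝ) ^ n ≤
        (Groth.Agent.Lib.R2H4H0Growth.h0 ℂ (CohB1.tensorPow L m) : ℝ) := by
      rw [Filter.frequently_atTop]
      intro a₀
      refine ⟨ν * max q₀ a₀, ?_, ?_⟩
      · calc a₀ ≤ max q₀ a₀ := le_max_right _ _
          _ = 1 * max q₀ a₀ := (one_mul _).symm
          _ ≤ ν * max q₀ a₀ := Nat.mul_le_mul_right _ hν
      · have h1 := hq₀ (max q₀ a₀) (le_max_left _ _)
        have h2 : Groth.Agent.Lib.R2H4H0Growth.h0 ℂ (CohB1.tensorPow H (max q₀ a₀)) ≤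
            Groth.Agent.Lib.R2H4H0Growth.h0 ℂ (CohB1.tensorPow (CohB1.tensorPow L ν) (max q₀ a₀)) :=
          Groth.Agent.Lib.R2H4VolBasic.h0_pow_le_of_mono ℂ hH.1 hL' φ (max q₀ a₀)
        rw [Groth.Agent.Lib.R2H4VolBig.h0_pow_pow ℂ L hL ν (max q₀ a₀)] at h2
        have h3 : (Groth.Agent.Lib.R2H4H0Growth.h0 ℂ (CohB1.tensorPow H (max q₀ a₀)) : ℝ) ≤
            (Groth.Agent.Lib.R2H4H0Growth.h0 ℂ (CohB1.tensorPow L (ν * max q₀ a₀)) : ℝ) := by
          exact_mod_cast h2
        have h4 : c / (ν : ℝ) ^ n * (((ν * max q₀ a₀ : ℕ) : ℕ) : ℝ) ^ n =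
            c * ((max q₀ a₀ : ℕ) : ℝ) ^ n := by
          push_cast
          rw [mul_pow]
          field_simp
        rw [h4]
        exact h1.trans h3
    obtain ⟨B, hB, m₀, hm₀, ψ, hψ, r₀, hr₀⟩ :=
      Groth.Agent.Lib.R2H4VolBig.exists_big_data ℂ H hH n hX L hL (c / (ν : ℝ) ^ n)
        (by positivity) hfreq
    haveI := hψ
    obtain ⟨c', hc', N, hN⟩ := Groth.Agent.Lib.R2H4BigChar.exists_eventually_lower_bound ℂ n hX L
      hL B hB m₀ hm₀ ψ r₀ hr₀
    exact ⟨c', hc', N, fun m hm => hN m hm⟩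
  · rintro ⟨C, hC, m₁, hgrow⟩ A hA
    have hfreq : ∃ᶠ m : ℕ in Filter.atTop, C * (m : ℝ) ^ n ≤
        (Groth.Agent.Lib.R2H4H0Growth.h0 ℂ (CohB1.tensorPow L m) : ℝ) := by
      refine Filter.Eventually.frequently ?_
      filter_upwards [Filter.eventually_ge_atTop m₁] with m hm
      exact hgrow m hm
    obtain ⟨n₁, hn₁⟩ := Groth.Agent.Lib.R2H4VolBig.exists_sections_twist A hA
      (Coh.structureModule X) hO
    obtain ⟨n₂, hn₂⟩ := Groth.Agent.Lib.R2H4VolBig.exists_sections_twist A hA A hA.1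
    obtain ⟨u, hu⟩ := hn₁ (max n₁ n₂) (le_max_left _ _)
    obtain ⟨t, ht⟩ := hn₂ (max n₁ n₂) (le_max_right _ _)
    have hAn : PicF.IsInvertible (CohB1.tensorPow A (max n₁ n₂)) :=
      Groth.Agent.Lib.Helper23.SecTw.isInvertible_tensorPow hA.1 _
    have hu' : u ≫ (Groth.Agent.Lib.R2H4TensorPows.lUnit (CohB1.tensorPow A (max n₁ n₂))).hom ≠ 0 := by
      intro h0
      apply hu
      have : u = (u ≫ (Groth.Agent.Lib.R2H4TensorPows.lUnit
          (CohB1.tensorPow A (max n₁ n₂))).hom) ≫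
          (Groth.Agent.Lib.R2H4TensorPows.lUnit (CohB1.tensorPow A (max n₁ n₂))).inv := by simp
      rw [this, h0]
      simp
    obtain ⟨ψ, hψ⟩ := Groth.Agent.Lib.R2H4VolBig.exists_mono_tensor_of_section A hA.1 _ hAn _ hu'
    have hB : PicF.IsInvertible (CohB1.tensorMod A (CohB1.tensorPow A (max n₁ n₂))) :=
      Groth.Agent.Lib.Helper23.SecTw.isInvertible_tensorMod hA.1 hAn
    obtain ⟨m, φ, hm, hφ⟩ := Groth.Agent.Lib.R2H4VolBig.exists_mono_of_growth ℂ H hH n hX L hL
      C hC hfreq _ hB t ht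
    exact ⟨m, ψ ≫ φ, hm, mono_comp _ _⟩

end Groth.Agent.S17586
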