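import Groth.Statements.S17587
import Mathlib
import Groth.Agent.Lib.R2H4VolBig

set_option autoImplicit false
open CategoryTheory CategoryTheory.Limits AlgebraicGeometry
open PosLin

namespace Groth.Agent.S17587

/-- Let X be a projective variety over the complex numbers (an integral scheme, proper over ℂ, with an
ample invertible module), and L an invertible O_X-module which is big, bigness being expressed
through the equivalent condition that every ample invertible O_X-module A admits a monomorphism A →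
L^⊗m for some m > 0. Then the exponent of L is 1, that is, H^0(X, L^⊗m) ≠ 0 for every sufficiently
large m. -/
theorem result (X : Scheme.{0}) [X.Over (Spec (CommRingCat.of ℂ))] [IsIntegral X]
    [IsProper (X ↘ Spec (CommRingCat.of ℂ))] (H : X.Modules) (hH : CohB1.IsAmple H)
    (L : X.Modules) (hL : PicF.IsInvertible L)
    (hbig : ∀ A : X.Modules, CohB1.IsAmple A → ∃ (m : ℕ) (φ : A ⟶ CohB1.tensorPow L m), 0 < m ∧ Mono φ) :
    ∃ m₁ : ℕ, ∀ m : ℕ, m₁ ≤ m → Nontrivial (Coh.HH X (CohB1.tensorPow L m) 0) := by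
  obtain ⟨a, ha, ⟨s, hs⟩, ⟨t, ht⟩⟩ := Groth.Agent.Lib.R2H4VolBig.exists_pow_sections H hH L hL
  have hB : CohB1.IsAmple (CohB1.tensorPow H a) :=
    (Groth.Agent.Lib.Helper23.SecTw.isAmple_tensorPow_iff H hH.1 a ha).1 hH
  obtain ⟨m₀, φ, -, hφ⟩ := hbig _ hB
  obtain ⟨r₀, hr₀⟩ := Groth.Agent.Lib.R2H4VolBig.exists_sections_eventually L hL _ s hs t ht m₀ φ
  refine ⟨r₀, fun m hm => ?_⟩
  obtain ⟨u, hu⟩ := hr₀ m hm
  have hpos := Groth.Agent.Lib.R2H4AmplePos.finrank_HH_zero_pos ℂ _
    (Groth.Agent.Lib.R2H4VolBasic.isCoh_of_isInvertible _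
      (Groth.Agent.Lib.Helper23.SecTw.isInvertible_tensorPow hL m)) u hu
  exact Module.nontrivial_of_finrank_pos hpos

end Groth.Agent.S17587
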