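import Groth.Statements.S17588
import Mathlib
import Groth.Agent.Lib.R2H4NefBigD
import Groth.Agent.Lib.R2H4BigChar

set_option autoImplicit false
open CategoryTheory CategoryTheory.Limits AlgebraicGeometry
open PosLin

namespace Groth.Agent.S17588

/-- Let X be a projective variety over the complex numbers (an integral scheme, proper over ℂ, with an
ample invertible module) of dimension n, L an invertible O_X-module which is numerically effective
(its restriction to every integral one-dimensional closed subscheme has non-negative degree), and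
L⁻¹ a tensor inverse of L. Then L is big, bigness being expressed through the equivalent growth
condition dim_ℂ H^0(X, L^⊗m) ≥ C·m^n for some constant C > 0 and all sufficiently large m, if and
only if the self-intersection number (L^n) = ∫ c_1(L)^n · [O_X] (the alternating sum of Euler
characteristics attached to n copies of L⁻¹) is positive. -/
theorem result (X : Scheme.{0}) [X.Over (Spec (CommRingCat.of ℂ))] [IsIntegral X]
    [IsProper (X ↘ Spec (CommRingCat.of ℂ))] (H : X.Modules) (hH : CohB1.IsAmple H)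
    (n : ℕ) (hn : topologicalKrullDim X = n)
    (L Linv : X.Modules) (hL : PicF.IsInvertible L) (hLinv : ClSub.IsInverseOf Linv L)
    (hnef : ∀ (Z : Scheme.{0}) (i : Z ⟶ X) [IsClosedImmersion i], IsIntegral Z → topologicalKrullDim Z = 1 →
      0 ≤ Pic13.curveDeg ℂ (i ≫ (X ↘ Spec (CommRingCat.of ℂ))) ((Scheme.Modules.pullback i).obj L)) :
    (∃ C : ℝ, 0 < C ∧ ∃ m₁ : ℕ, ∀ m : ℕ, m₁ ≤ m →
        C * (m : ℝ) ^ n ≤ (Module.finrank ℂ (Coh.HH X (CohB1.tensorPow L m) 0) : ℝ)) ↔
      0 < FGA.intNum ℂ X n (fun _ : Fin n => Linv) (Coh.structureModule X) := by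
  classical
  haveI := Groth.Agent.Lib.R2H1.CurveEuler.isNoetherian_of_proper ℂ X
  have hX : topologicalKrullDim X = ((n : ℕ) : WithBot ℕ∞) := hn
  have hnef' : Groth.Agent.Lib.R2H4KleimanA.Nef ℂ X L :=
    Groth.Agent.Lib.R2H4KleimanC.nef_of_forall_closedImmersion ℂ X L hnef
  obtain ⟨e₀⟩ := hLinv
  have e : CohB1.tensorMod L Linv ≅ Coh.structureModule X :=
    Groth.Agent.Lib.R2H4TensorPows.tComm L Linv ≪≫ e₀
  have hLinvI : PicF.IsInvertible Linv :=
    Groth.Agent.Lib.R2H3.NegTwist.isInvertible_of_isInverseOf L Linv ⟨e⟩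
  have cO : Coh.IsCoh (Coh.structureModule X) :=
    Groth.Agent.Lib.R2H1.GenusLe.isCoh_structureModule X
  have key := Groth.Agent.Lib.R2H4NefBigA.intNum_const_inv_eq_iN ℂ L Linv hL hLinvI e
    (Coh.structureModule X) cO n hX.le
  constructor
  · rintro ⟨C, hC, m₁, hgrow⟩
    have hfreq : ∃ᶠ m : ℕ in Filter.atTop, C * (m : ℝ) ^ n ≤
        (Groth.Agent.Lib.R2H4H0Growth.h0 ℂ (CohB1.tensorPow L m) : ℝ) := by
      refine Filter.Eventually.frequently ?_
      filter_upwards [Filter.eventually_ge_atTop m₁] with m hm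
      exact hgrow m hm
    obtain ⟨a, ha, ⟨s, hs⟩, -⟩ := Groth.Agent.Lib.R2H4VolBig.exists_pow_sections H hH L hL
    have hB : CohB1.IsAmple (CohB1.tensorPow H a) :=
      (Groth.Agent.Lib.Helper23.SecTw.isAmple_tensorPow_iff H hH.1 a ha).1 hH
    obtain ⟨m, φ, hm, hφ⟩ := Groth.Agent.Lib.R2H4VolBig.exists_mono_of_growth ℂ H hH n hX L hL
      C hC hfreq _ hB.1 s hs
    haveI := hφ
    have h1 := Groth.Agent.Lib.R2H4NefBigB.pos_of_mono ℂ n hX L hL hnef' _ hB m φ
    rw [← key] at h1
    exact_mod_cast h1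
  · intro hpos
    have hpos' : 0 < Groth.Agent.Lib.R2H4MultiAdd.iN ℂ (fun _ : Fin n => L)
        (Coh.structureModule X) := by
      rw [← key]
      exact_mod_cast hpos
    obtain ⟨c, hc, hfreq⟩ := Groth.Agent.Lib.R2H4NefBigD.exists_freq_of_pos ℂ n hX L hL hnef' H hH
      hpos'
    obtain ⟨B, hB, m₀, hm₀, φ, hφ, r₀, hr₀⟩ :=
      Groth.Agent.Lib.R2H4VolBig.exists_big_data ℂ H hH n hX L hL c hc hfreq
    haveI := hφ
    obtain ⟨c', hc', N, hN⟩ := Groth.Agent.Lib.R2H4BigChar.exists_eventually_lower_bound ℂ n hX L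
      hL B hB m₀ hm₀ φ r₀ hr₀
    exact ⟨c', hc', N, fun m hm => hN m hm⟩

end Groth.Agent.S17588
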