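import Groth.Statements.S17593
import Mathlib
import Groth.Agent.S0387
import Groth.Agent.Lib.Helper26AwayQuot

set_option autoImplicit false
universe u
open Hensel

namespace Groth.Agent.S17593

section Helpers

variable {A R : Type u} [CommRing A] [CommRing R] [Algebra A R]

/-- flatness of `R_p` as a localization ring and as a localized module agree -/
theorem flat_localizedModule_iff (p : Ideal R) [p.IsPrime] :
    Module.Flat A (LocalizedModule p.primeCompl R) ↔ Module.Flat A (Localization.AtPrime p) := by
  let e : LocalizedModule p.primeCompl R ≃ₗ[R] Localization.AtPrime p :=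
    IsLocalizedModule.iso p.primeCompl (Algebra.linearMap R (Localization.AtPrime p))
  let e' : LocalizedModule p.primeCompl R ≃ₗ[A] Localization.AtPrime p := e.restrictScalars A
  exact ⟨fun h => Module.Flat.of_linearEquiv e'.symm, fun h => Module.Flat.of_linearEquiv e'⟩

end Helpers

/-- Suppose (A, I) is a Henselian pair, and R is an A-algebra of finite presentation for which A → R is
flat at each prime of R that contains IR. Then there is an étale R-algebra R' such that R/IR →
R'/IR' is bijective and A → R' is flat. -/
theorem result (A : Type u) [CommRing A] (I : Ideal A) [HenselianRing A I]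
    (R : Type u) [CommRing R] [Algebra A R] [Algebra.FinitePresentation A R]
    (h : ∀ (p : Ideal R) [p.IsPrime], I.map (algebraMap A R) ≤ p → Module.Flat A (Localization.AtPrime p))
    : ∃ (R' : Type u) (_ : CommRing R') (_ : Algebra R R') (_ : Algebra A R') (_ : IsScalarTower A R R'),
      Algebra.Etale R R' ∧
      Function.Bijective (Ideal.quotientMap ((I.map (algebraMap A R)).map (algebraMap R R'))
        (algebraMap R R') Ideal.le_comap_map) ∧ Module.Flat A R' := by
  have hopen : IsOpen {q : PrimeSpectrum R |
      Module.Flat A (LocalizedModule q.asIdeal.primeCompl R)} :=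
    Groth.Agent.S0387.result (R := A) (S := R) (M := R)
  have hsub : PrimeSpectrum.zeroLocus ((I.map (algebraMap A R) : Ideal R) : Set R) ⊆
      {q : PrimeSpectrum R | Module.Flat A (LocalizedModule q.asIdeal.primeCompl R)} := by
    intro p hp
    exact (flat_localizedModule_iff p.asIdeal).mpr (h p.asIdeal hp)
  obtain ⟨g, hg, hgU⟩ := Groth.Agent.Lib.Helper26.AwayQuot.exists_basicOpen_subset
    (I.map (algebraMap A R)) _ hopen hsub
  refine ⟨Localization.Away g, inferInstance, inferInstance, inferInstance, inferInstance,
    inferInstance, ?_, ?_⟩
  · exact Groth.Agent.Lib.Helper26.AwayQuot.quotientMap_away_bijective _ g hg _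
  · -- flatness: check at maximal ideals of `R_g`
    refine Module.flat_of_isLocalized_maximal (R := A) (Localization.Away g) (Localization.Away g)
      (fun P _ => Localization.AtPrime P)
      (fun P _ => Algebra.linearMap (Localization.Away g) (Localization.AtPrime P)) ?_
    intro P hP
    haveI : P.IsPrime := hP.isPrime
    let p : Ideal R := P.comap (algebraMap R (Localization.Away g))
    haveI : p.IsPrime := Ideal.comap_isPrime _ _
    have hpg : (⟨p, inferInstance⟩ : PrimeSpectrum R) ∈
        (PrimeSpectrum.basicOpen g : Set (PrimeSpectrum R)) := by
      show g ∉ p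
      intro hgp
      have : algebraMap R (Localization.Away g) g ∈ P := hgp
      exact ‹P.IsPrime›.ne_top (Ideal.eq_top_of_isUnit_mem _ this
        (IsLocalization.Away.algebraMap_isUnit g))
    have h1 : Module.Flat A (Localization.AtPrime p) :=
      (flat_localizedModule_iff p).mp (hgU hpg)
    let e : Localization.AtPrime p ≃ₐ[R] Localization.AtPrime P :=
      IsLocalization.localizationLocalizationAtPrimeIsoLocalization (Submonoid.powers g) P
    let e' : Localization.AtPrime p ≃ₗ[A] Localization.AtPrime P :=
      e.toLinearEquiv.restrictScalars A
    exact Module.Flat.of_linearEquiv e'.symm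

end Groth.Agent.S17593
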