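import Groth.Statements.S17615
import Mathlib
import Groth.Agent.S17593
import Groth.Agent.Lib.H9FlatDescent
import Groth.Agent.Lib.Helper26PairHzMore
import Groth.Agent.Lib.Helper26PairHzUnique

set_option autoImplicit false
universe u
open Hensel

namespace Groth.Agent.S17615

open Groth.Agent.Lib.Helper26.PairHz

theorem result_aux (A : Type u) [CommRing A]
    (I : Ideal A) [HenselianRing A I]
    (R₀ : Type u) [CommRing R₀] [Algebra A R₀] [Algebra.FinitePresentation A R₀]
    (B : Type u) [CommRing B] [Algebra R₀ B] [Algebra A B] [IsScalarTower A R₀ B]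
    (hB : Hens2.IsPairHenselization R₀ (I.map (algebraMap A R₀)) B) [Module.Flat A B] :
    ∃ (S : Type u) (_ : CommRing S) (_ : Algebra A S) (_ : Algebra S B) (_ : IsScalarTower A S B),
      Algebra.FinitePresentation A S ∧ Module.Flat A S ∧
      Hens2.IsPairHenselization S (I.map (algebraMap A S)) B := by
  haveI hflatRB : Module.Flat R₀ B := flat_of_isPairHenselization hB
  have hbij := quotientMap_pow_bijective hB 1
  rw [pow_one] at hbij
  -- local flatness at primes containing `I R₀`
  have hloc : ∀ (p : Ideal R₀) [p.IsPrime], I.map (algebraMap A R₀) ≤ p →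
      Module.Flat A (Localization.AtPrime p) := by
    intro p hp hIp
    set J := I.map (algebraMap A R₀) with hJ
    set JB := J.map (algebraMap R₀ B) with hJB
    set ψ := Ideal.quotientMap JB (algebraMap R₀ B) Ideal.le_comap_map with hψ
    let e : (R₀ ⧸ J) ≃+* (B ⧸ JB) := RingEquiv.ofBijective ψ hbij
    -- the prime of `R₀ ⧸ J`
    let pbar : Ideal (R₀ ⧸ J) := p.map (Ideal.Quotient.mk J)
    haveI hpbar : pbar.IsPrime := Ideal.map_isPrime_of_surjective Ideal.Quotient.mk_surjective
      (by rw [Ideal.mk_ker]; exact hIp)
    let qbar : Ideal (B ⧸ JB) := pbar.comap (e.symm : (B ⧸ JB) →+* (R₀ ⧸ J))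
    haveI : qbar.IsPrime := Ideal.comap_isPrime _ _
    let q : Ideal B := qbar.comap (Ideal.Quotient.mk JB)
    haveI : q.IsPrime := Ideal.comap_isPrime _ _
    have hpq : p = q.comap (algebraMap R₀ B) := by
      ext x
      show x ∈ p ↔ (e.symm (Ideal.Quotient.mk JB (algebraMap R₀ B x))) ∈ pbar
      have h1 : Ideal.Quotient.mk JB (algebraMap R₀ B x) = e (Ideal.Quotient.mk J x) := by
        have h0 : e (Ideal.Quotient.mk J x) = ψ (Ideal.Quotient.mk J x) := rfl
        rw [h0, hψ, Ideal.quotientMap_mk]
      rw [h1, RingEquiv.symm_apply_apply]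
      constructor
      · intro hx
        exact Ideal.mem_map_of_mem _ hx
      · intro hx
        have h2 := Ideal.mem_comap.mpr hx
        rw [Ideal.comap_map_of_surjective _ Ideal.Quotient.mk_surjective] at h2
        have h3 : Ideal.comap (Ideal.Quotient.mk J) ⊥ ≤ p := by
          rw [← RingHom.ker_eq_comap_bot, Ideal.mk_ker]
          exact hIp
        rw [sup_eq_left.mpr h3] at h2
        exact h2
    exact Groth.Agent.Lib.H9FlatDescent.flat_localization_of_flat A R₀ B q p hpq
  obtain ⟨R', _, _, _, _, hEt, hq, hfl⟩ := Groth.Agent.S17593.result A I R₀ hloc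
  haveI := hEt
  have hNb : IsNbhd (I.map (algebraMap A R₀)) R' := IsNbhd.of_quotientMap_bijective hq
  obtain ⟨ρ, -⟩ := exists_algHom_of_nbhd hB hNb
  letI : Algebra R' B := ρ.toRingHom.toAlgebra
  haveI : IsScalarTower R₀ R' B := IsScalarTower.of_algebraMap_eq (fun x => (ρ.commutes x).symm)
  haveI : IsScalarTower A R' B := IsScalarTower.of_algebraMap_eq (fun a => by
    rw [IsScalarTower.algebraMap_apply A R₀ B, IsScalarTower.algebraMap_apply R₀ R' B,
      ← IsScalarTower.algebraMap_apply A R₀ R'])
  have hP := isPairHenselization_of_nbhd hB hNb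
  rw [map_map_tower] at hP
  haveI : Algebra.FinitePresentation R₀ R' := Algebra.Etale.finitePresentation
  exact ⟨R', inferInstance, inferInstance, inferInstance, inferInstance,
    Algebra.FinitePresentation.trans A R₀ R', hfl, hP⟩


/-- Let (A, I) be a Henselian pair and let B be a Henselization of the pair (R₀, IR₀) for a finitely
presented A-algebra R₀ (so A → B is a Henselian finitely presented map of Henselian pairs). If B is
flat over A, then there are a finitely presented A-algebra S that is flat over A and an S-algebra
structure on B compatible with that of A for which B is a Henselization of the pair (S, IS). -/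
theorem result (A : Type u) [CommRing A]
    (I : Ideal A) [HenselianRing A I]
    (R₀ : Type u) [CommRing R₀] [Algebra A R₀] [Algebra.FinitePresentation A R₀]
    (B : Type u) [CommRing B] [Algebra R₀ B] [Algebra A B] [IsScalarTower A R₀ B]
    (hB : Hens2.IsPairHenselization R₀ (I.map (algebraMap A R₀)) B) [Module.Flat A B] :
    ∃ (S : Type u) (_ : CommRing S) (_ : Algebra A S) (_ : Algebra S B) (_ : IsScalarTower A S B),
      Algebra.FinitePresentation A S ∧ Module.Flat A S ∧
      Hens2.IsPairHenselization S (I.map (algebraMap A S)) B := by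
  exact result_aux A I R₀ B hB

end Groth.Agent.S17615
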