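import Groth.Statements.S17632
import Mathlib
import Groth.Agent.Lib.R2H4HhatReach
import Groth.Agent.Lib.R2H3NegTwist

set_option autoImplicit false
universe u
open CategoryTheory CategoryTheory.Limits AlgebraicGeometry
open Variety

namespace Groth.Agent.S17632

/-- Let X be an integral scheme, proper over an uncountable algebraically closed field k of
characteristic zero and admitting an ample invertible module, of dimension n (stated in the source
over the complex numbers), L an invertible O_X-module and A an ample invertible O_X-module with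
inverse A', i.e. A ⊗ A' ≅ O_X. Then for every i ≥ 0, (ĥ^i(X, L^{⊗p} ⊗ A') − ĥ^i(X, L^{⊗p})) / p^n
tends to 0 as p → ∞, where ĥ^i(X, M) = limsup_m dim_k H^i(X, M^{⊗m}) · n!/m^n. -/
theorem result (k : Type u) [Field k] [IsAlgClosed k] [CharZero k] [Uncountable k] (X : Scheme.{u})
    [X.Over (Spec (CommRingCat.of k))] [AlgebraicGeometry.IsIntegral X]
    [IsProper (X ↘ Spec (CommRingCat.of k))] (hproj : ∃ A : X.Modules, CohB1.IsAmple A)
    (n : ℕ) (hn : topologicalKrullDim X = n)
    (L : X.Modules) (hL : PicF.IsInvertible L) (A A' : X.Modules) (hA : CohB1.IsAmple A)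
    (hA' : ClSub.IsInverseOf A A') (i : ℕ) :
    Filter.Tendsto (fun p : ℕ =>
        (W4c5asymptcohfn.hhat k X n i (CohB1.tensorMod (CohB1.tensorPow L p) A') -
          W4c5asymptcohfn.hhat k X n i (CohB1.tensorPow L p)) / (p : ℝ) ^ n)
      Filter.atTop (nhds 0) := by
  classical
  open Groth.Agent.Lib.R2H4MonReach Groth.Agent.Lib.R2H4MonGrowth in
  have hA'i : PicF.IsInvertible A' :=
    Groth.Agent.Lib.R2H3.NegTwist.isInvertible_of_isInverseOf A A' hA'
  let G : Bool → X.Modules := fun b => cond b L A'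
  have hG : ∀ b, PicF.IsInvertible (G b) := by
    rintro (_ | _)
    · exact hA'i
    · exact hL
  obtain ⟨C, hC0, hC⟩ := Groth.Agent.Lib.R2H4HhatReach.abs_hhat_sub_le k A hA n hn G hG i
  -- the one-step path
  have hR : ∀ p : ℕ, Reach G (p + 1) 1 (CohB1.tensorMod (CohB1.tensorPow L p) A')
      (CohB1.tensorPow L p) := fun p => by
    have hm : Mon G p (CohB1.tensorPow L p) :=
      ((Mon.gen (G := G) true).pow p).cast (Nat.mul_one p)
    have hm' : Mon G (p + 1) (CohB1.tensorMod (CohB1.tensorPow L p) A') :=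
      Mon.succ p _ (CohB1.tensorPow L p) false hm ⟨Iso.refl _⟩
    exact Reach.down 0 _ _ (CohB1.tensorMod (CohB1.tensorPow L p) A') false
      (Reach.refl _ _ (p + 1) le_rfl hm' ⟨Iso.refl _⟩) p (Nat.le_succ p) hm ⟨Iso.refl _⟩
  have hlim : Filter.Tendsto (fun p : ℕ => ((C : ℝ) * (n.factorial : ℝ) * 2 ^ (n - 1)) *
      (1 / (p : ℝ))) Filter.atTop (nhds 0) := by
    have := (tendsto_one_div_atTop_nhds_zero_nat (𝕜 := ℝ)).const_mul
      ((C : ℝ) * (n.factorial : ℝ) * 2 ^ (n - 1))
    simpa using this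
  refine squeeze_zero_norm' ?_ hlim
  filter_upwards [Filter.eventually_ge_atTop 1] with p hp
  have hp0 : (0 : ℝ) < (p : ℝ) := by exact_mod_cast hp
  have hpn : (0 : ℝ) < (p : ℝ) ^ n := by positivity
  have h1 := hC _ _ _ _ (hR p)
  rw [Real.norm_eq_abs, abs_div, abs_of_pos hpn, div_le_iff₀ hpn]
  refine h1.trans ?_
  rcases Nat.eq_zero_or_pos n with h0 | h0
  · have hCz : (C : ℝ) = 0 := by
      rw [hC0 h0]
      simp
    rw [hCz]
    simp
  · obtain ⟨e, rfl⟩ : ∃ e, n = e + 1 := ⟨n - 1, by omega⟩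
    simp only [Nat.add_sub_cancel]
    have h2 : (((p + 1 : ℕ) : ℝ)) ^ e ≤ (2 * (p : ℝ)) ^ e := by
      refine pow_le_pow_left₀ (by positivity) ?_ e
      have : (1 : ℝ) ≤ (p : ℝ) := by exact_mod_cast hp
      push_cast
      linarith
    have h3 : (0 : ℝ) ≤ (C : ℝ) * ((e + 1).factorial : ℝ) := by positivity
    calc ((1 : ℕ) : ℝ) * (C : ℝ) * ((e + 1).factorial : ℝ) * (((p + 1 : ℕ) : ℝ)) ^ e
        = (C : ℝ) * ((e + 1).factorial : ℝ) * (((p + 1 : ℕ) : ℝ)) ^ e := by
          rw [Nat.cast_one, one_mul]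
      _ ≤ (C : ℝ) * ((e + 1).factorial : ℝ) * (2 * (p : ℝ)) ^ e :=
          mul_le_mul_of_nonneg_left h2 h3
      _ = (C : ℝ) * ((e + 1).factorial : ℝ) * 2 ^ e * (1 / (p : ℝ)) * (p : ℝ) ^ (e + 1) := by
          rw [mul_pow, pow_succ]
          field_simp

end Groth.Agent.S17632
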