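import Groth.Statements.S17633
import Mathlib
import Groth.Agent.Lib.R2H4HhatReach
import Groth.Agent.Lib.R2H3NegTwist

set_option autoImplicit false
universe u
open CategoryTheory CategoryTheory.Limits AlgebraicGeometry
open Variety

namespace Groth.Agent.S17633

/-- Let X be an integral scheme, proper over an uncountable algebraically closed field k of
characteristic zero and admitting an ample invertible module, of dimension n (the published
statement is over the complex numbers), and let L_1, …, L_r be invertible O_X-modules with inverses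
M_1, …, M_r. For a ∈ ℤ^r write L^a = ⊗_j L_j^{a_j} (negative powers taken through the M_j) and ‖a‖ =
max_j |a_j|. Then for every i (the published statement takes 0 ≤ i ≤ n; for i > n both sides vanish)
there is a constant C such that for all a, b ∈ ℤ^r, |ĥ^i(X, L^a) − ĥ^i(X, L^b)| ≤ C · Σ_{q=1}^{n}
max(‖a‖, ‖b‖)^{n−q} · ‖a − b‖^q, where ĥ^i(X, L) = limsup_m dim_k H^i(X, L^{⊗m}) · n!/m^n. (The
published statement gives this Lipschitz-type estimate for ĥ^i as a function on the rational
Néron–Severi space with any fixed norm, together with its homogeneity of degree n; restricted to the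
classes spanned by L_1, …, L_r with the maximum norm on coordinates it reads as here.) -/
theorem result (k : Type u) [Field k] [IsAlgClosed k] [CharZero k] [Uncountable k] (X : Scheme.{u})
    [X.Over (Spec (CommRingCat.of k))] [AlgebraicGeometry.IsIntegral X]
    [IsProper (X ↘ Spec (CommRingCat.of k))] (hproj : ∃ A : X.Modules, CohB1.IsAmple A)
    (n : ℕ) (hn : topologicalKrullDim X = n)
    (r : ℕ) (L M : Fin r → X.Modules) (hL : ∀ j, PicF.IsInvertible (L j))
    (hM : ∀ j, ClSub.IsInverseOf (L j) (M j)) (i : ℕ) :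
    ∃ C : ℝ, ∀ a b : Fin r → ℤ,
      |W4c5asymptcohfn.hhat k X n i (W4c5asymptcohfn.ztwist X L M a) -
          W4c5asymptcohfn.hhat k X n i (W4c5asymptcohfn.ztwist X L M b)| ≤
        C * (Finset.Icc 1 n).sum (fun q =>
          (max ‖(fun j => ((a j : ℤ) : ℝ))‖ ‖(fun j => ((b j : ℤ) : ℝ))‖) ^ (n - q) *
            ‖(fun j => ((a j - b j : ℤ) : ℝ))‖ ^ q) := by
  classical
  open Groth.Agent.Lib.R2H4MonReach in
  obtain ⟨H, hH⟩ := hproj
  have hMi : ∀ j, PicF.IsInvertible (M j) := fun j =>
    Groth.Agent.Lib.R2H3.NegTwist.isInvertible_of_isInverseOf (L j) (M j) (hM j)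
  let G : Fin r ⊕ Fin r → X.Modules := Sum.elim L M
  have hG : ∀ j, PicF.IsInvertible (G j) := by
    rintro (j | j)
    · exact hL j
    · exact hMi j
  obtain ⟨C, hC0, hC⟩ := Groth.Agent.Lib.R2H4HhatReach.abs_hhat_sub_le k H hH n hn G hG i
  refine ⟨(C : ℝ) * (n.factorial : ℝ) * (r : ℝ) * (2 * (r : ℝ)) ^ (n - 1), fun a b => ?_⟩
  -- the path from `ztwist a` to `ztwist b`
  have h1 : Reach G (∑ j, max (a j).toNat (b j).toNat)
      (∑ j, (((a j).toNat - (b j).toNat) + ((b j).toNat - (a j).toNat)))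
      (FGA.multiTwist L (fun j => (a j).toNat)) (FGA.multiTwist L (fun j => (b j).toNat)) :=
    Reach.multiTwist (G := G) Sum.inl (fun j => (a j).toNat) (fun j => (b j).toNat)
  have h2 : Reach G (∑ j, max (-(a j)).toNat (-(b j)).toNat)
      (∑ j, (((-(a j)).toNat - (-(b j)).toNat) + ((-(b j)).toNat - (-(a j)).toNat)))
      (FGA.multiTwist M (fun j => (-(a j)).toNat)) (FGA.multiTwist M (fun j => (-(b j)).toNat)) :=
    Reach.multiTwist (G := G) Sum.inr (fun j => (-(a j)).toNat) (fun j => (-(b j)).toNat)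
  have h3 : Reach G ((∑ j, max (a j).toNat (b j).toNat) + ∑ j, max (-(a j)).toNat (-(b j)).toNat)
      ((∑ j, (((a j).toNat - (b j).toNat) + ((b j).toNat - (a j).toNat))) +
        ∑ j, (((-(a j)).toNat - (-(b j)).toNat) + ((-(b j)).toNat - (-(a j)).toNat)))
      (W4c5asymptcohfn.ztwist X L M a) (W4c5asymptcohfn.ztwist X L M b) := h1.tensor h2
  refine (hC _ _ _ _ h3).trans ?_
  rcases Nat.eq_zero_or_pos n with h0 | h0
  · have hCz : (C : ℝ) = 0 := by
      rw [hC0 h0]
      simp
    rw [hCz]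
    simp
  obtain ⟨e, rfl⟩ : ∃ e, n = e + 1 := ⟨n - 1, by omega⟩
  simp only [Nat.add_sub_cancel]
  set na : ℝ := ‖(fun j => ((a j : ℤ) : ℝ))‖ with hna
  set nb : ℝ := ‖(fun j => ((b j : ℤ) : ℝ))‖ with hnb
  set nd : ℝ := ‖(fun j => ((a j - b j : ℤ) : ℝ))‖ with hnd
  have hna0 : 0 ≤ na := norm_nonneg _
  have hnb0 : 0 ≤ nb := norm_nonneg _
  have hnd0 : 0 ≤ nd := norm_nonneg _
  -- the number of steps
  have hK : (((∑ j, (((a j).toNat - (b j).toNat) + ((b j).toNat - (a j).toNat))) +
      ∑ j, (((-(a j)).toNat - (-(b j)).toNat) + ((-(b j)).toNat - (-(a j)).toNat)) : ℕ) : ℝ) ≤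
      (r : ℝ) * nd := by
    rw [← Finset.sum_add_distrib]
    push_cast
    calc ∑ j : Fin r, _ ≤ ∑ _j : Fin r, nd := by
          refine Finset.sum_le_sum fun j _ => ?_
          have h4 := norm_le_pi_norm (fun j => ((a j - b j : ℤ) : ℝ)) j
          rw [Real.norm_eq_abs] at h4
          refine le_trans (le_of_eq ?_) h4
          have h5 : (((a j).toNat - (b j).toNat) + ((b j).toNat - (a j).toNat)) +
              (((-(a j)).toNat - (-(b j)).toNat) + ((-(b j)).toNat - (-(a j)).toNat)) =
              (a j - b j).natAbs := by omega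
          rw [← Int.cast_abs, ← Nat.cast_natAbs, ← h5]
          push_cast
          rfl
      _ = (r : ℝ) * nd := by
          rw [Finset.sum_const, Finset.card_univ, Fintype.card_fin, nsmul_eq_mul]
  -- the degrees
  have hN : (((∑ j, max (a j).toNat (b j).toNat) +
      ∑ j, max (-(a j)).toNat (-(b j)).toNat : ℕ) : ℝ) ≤ 2 * (r : ℝ) * max na nb := by
    rw [← Finset.sum_add_distrib]
    push_cast
    calc ∑ j : Fin r, _ ≤ ∑ _j : Fin r, (2 * max na nb) := by
          refine Finset.sum_le_sum fun j _ => ?_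
          have h4 := norm_le_pi_norm (fun j => ((a j : ℤ) : ℝ)) j
          have h4' := norm_le_pi_norm (fun j => ((b j : ℤ) : ℝ)) j
          rw [Real.norm_eq_abs] at h4 h4'
          have h5 : max (a j).toNat (b j).toNat + max (-(a j)).toNat (-(b j)).toNat ≤
              (a j).natAbs + (b j).natAbs := by omega
          have h6 : ((max (a j).toNat (b j).toNat + max (-(a j)).toNat (-(b j)).toNat : ℕ) : ℝ) ≤
              (((a j).natAbs + (b j).natAbs : ℕ) : ℝ) := by exact_mod_cast h5
          have h7 : (((a j).natAbs : ℕ) : ℝ) + (((b j).natAbs : ℕ) : ℝ) =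
              |((a j : ℤ) : ℝ)| + |((b j : ℤ) : ℝ)| := by
            rw [Nat.cast_natAbs, Nat.cast_natAbs, Int.cast_abs, Int.cast_abs]
          have h8 : |((a j : ℤ) : ℝ)| ≤ max na nb := h4.trans (le_max_left _ _)
          have h9 : |((b j : ℤ) : ℝ)| ≤ max na nb := h4'.trans (le_max_right _ _)
          push_cast at h6
          linarith
      _ = 2 * (r : ℝ) * max na nb := by
          rw [Finset.sum_const, Finset.card_univ, Fintype.card_fin, nsmul_eq_mul]
          ring
  have hmax0 : 0 ≤ max na nb := le_max_of_le_left hna0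
  have hNnn : (0 : ℝ) ≤ (((∑ j, max (a j).toNat (b j).toNat) +
      ∑ j, max (-(a j)).toNat (-(b j)).toNat : ℕ) : ℝ) := Nat.cast_nonneg _
  have hKnn : (0 : ℝ) ≤ (((∑ j, (((a j).toNat - (b j).toNat) + ((b j).toNat - (a j).toNat))) +
      ∑ j, (((-(a j)).toNat - (-(b j)).toNat) + ((-(b j)).toNat - (-(a j)).toNat)) : ℕ) : ℝ) :=
    Nat.cast_nonneg _
  have hterm : max na nb ^ e * nd ≤ (Finset.Icc 1 (e + 1)).sum
      (fun q => max na nb ^ (e + 1 - q) * nd ^ q) := by
    have h10 := Finset.single_le_sum (f := fun q => max na nb ^ (e + 1 - q) * nd ^ q)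
      (s := Finset.Icc 1 (e + 1)) (fun q _ => by positivity)
      (Finset.mem_Icc.2 ⟨le_rfl, Nat.succ_le_succ (Nat.zero_le e)⟩)
    simpa using h10
  have hCnn : (0 : ℝ) ≤ (C : ℝ) * ((e + 1).factorial : ℝ) := by positivity
  calc _ ≤ ((r : ℝ) * nd) * (C : ℝ) * ((e + 1).factorial : ℝ) * (2 * (r : ℝ) * max na nb) ^ e := by
        have s1 := pow_le_pow_left₀ hNnn hN e
        have s2 : (0 : ℝ) ≤ (2 * (r : ℝ) * max na nb) ^ e := by positivity
        have s3 : (0 : ℝ) ≤ (((∑ j, max (a j).toNat (b j).toNat) +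
            ∑ j, max (-(a j)).toNat (-(b j)).toNat : ℕ) : ℝ) ^ e := by positivity
        have s4 : (0 : ℝ) ≤ (r : ℝ) * nd := by positivity
        calc _ ≤ ((r : ℝ) * nd) * (C : ℝ) * ((e + 1).factorial : ℝ) *
              (((∑ j, max (a j).toNat (b j).toNat) +
                ∑ j, max (-(a j)).toNat (-(b j)).toNat : ℕ) : ℝ) ^ e := by
              refine mul_le_mul_of_nonneg_right ?_ s3
              rw [mul_assoc, mul_assoc ((r : ℝ) * nd)]
              exact mul_le_mul_of_nonneg_right hK hCnn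
          _ ≤ _ := mul_le_mul_of_nonneg_left s1 (by positivity)
    _ = (C : ℝ) * ((e + 1).factorial : ℝ) * (r : ℝ) * (2 * (r : ℝ)) ^ e *
          (max na nb ^ e * nd) := by
        rw [mul_pow]
        ring
    _ ≤ _ := mul_le_mul_of_nonneg_left hterm (by positivity)

end Groth.Agent.S17633
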