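import Groth.Statements.S17634
import Mathlib
import Groth.Agent.Lib.R2H4HhatBound

set_option autoImplicit false
universe u
open CategoryTheory CategoryTheory.Limits AlgebraicGeometry
open Variety

namespace Groth.Agent.S17634

/-- Let X be an integral scheme, proper over an uncountable algebraically closed field k of
characteristic zero and admitting an ample invertible module, of dimension n (stated in the source
over the complex numbers), and L_1, …, L_r invertible O_X-modules with inverses M_1, …, M_r; for a ∈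
ℤ^r write L^a = ⊗_j L_j^{a_j} (negative powers through the M_j) and ‖a‖ = max_j |a_j|. Then for
every i there is a constant C with ĥ^i(X, L^a) ≤ C · ‖a‖^n for all a ∈ ℤ^r, where ĥ^i(X, L) =
limsup_m dim_k H^i(X, L^{⊗m}) · n!/m^n. (The source states the bound for all real classes in the
Néron–Severi space with any fixed norm.) -/
theorem result (k : Type u) [Field k] [IsAlgClosed k] [CharZero k] [Uncountable k] (X : Scheme.{u})
    [X.Over (Spec (CommRingCat.of k))] [AlgebraicGeometry.IsIntegral X]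
    [IsProper (X ↘ Spec (CommRingCat.of k))] (hproj : ∃ A : X.Modules, CohB1.IsAmple A)
    (n : ℕ) (hn : topologicalKrullDim X = n)
    (r : ℕ) (L M : Fin r → X.Modules) (hL : ∀ j, PicF.IsInvertible (L j))
    (hM : ∀ j, ClSub.IsInverseOf (L j) (M j)) (i : ℕ) :
    ∃ C : ℝ, ∀ a : Fin r → ℤ,
      W4c5asymptcohfn.hhat k X n i (W4c5asymptcohfn.ztwist X L M a) ≤
        C * ‖(fun j => ((a j : ℤ) : ℝ))‖ ^ n := by
  classical
  obtain ⟨H, hH⟩ := hproj
  have hMi : ∀ j, PicF.IsInvertible (M j) := fun j =>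
    Groth.Agent.Lib.R2H3.NegTwist.isInvertible_of_isInverseOf (L j) (M j) (hM j)
  let G : Fin r ⊕ Fin r → X.Modules := Sum.elim L M
  have hG : ∀ j, PicF.IsInvertible (G j) := by
    rintro (j | j)
    · exact hL j
    · exact hMi j
  obtain ⟨C, hC⟩ := Groth.Agent.Lib.R2H4HhatBound.hhat_le_of_mon k H hH n (le_of_eq hn) G hG i
  refine ⟨(C : ℝ) * (n.factorial : ℝ) * (r : ℝ) ^ n, fun a => ?_⟩
  -- the twist is a monomial
  have h1 : Groth.Agent.Lib.R2H4MonGrowth.Mon G (∑ j, (a j).toNat)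
      (FGA.multiTwist L (fun j => (a j).toNat)) :=
    Groth.Agent.Lib.R2H4MonGrowth.Mon.multiTwist (G := G) Sum.inl (fun j => (a j).toNat)
  have h2 : Groth.Agent.Lib.R2H4MonGrowth.Mon G (∑ j, (-(a j)).toNat)
      (FGA.multiTwist M (fun j => (-(a j)).toNat)) :=
    Groth.Agent.Lib.R2H4MonGrowth.Mon.multiTwist (G := G) Sum.inr (fun j => (-(a j)).toNat)
  have h3 : Groth.Agent.Lib.R2H4MonGrowth.Mon G ((∑ j, (a j).toNat) + ∑ j, (-(a j)).toNat)
      (W4c5asymptcohfn.ztwist X L M a) := h1.tensor h2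
  refine (hC _ _ h3).trans ?_
  -- the degree is at most `r ‖a‖`
  have hsum : (((∑ j, (a j).toNat) + ∑ j, (-(a j)).toNat : ℕ) : ℝ) ≤
      (r : ℝ) * ‖(fun j => ((a j : ℤ) : ℝ))‖ := by
    rw [← Finset.sum_add_distrib]
    push_cast
    calc ∑ j : Fin r, ((((a j).toNat : ℕ) : ℝ) + (((-(a j)).toNat : ℕ) : ℝ))
        ≤ ∑ _j : Fin r, ‖(fun j => ((a j : ℤ) : ℝ))‖ := by
          refine Finset.sum_le_sum fun j _ => ?_
          have h4 := norm_le_pi_norm (fun j => ((a j : ℤ) : ℝ)) j
          rw [Real.norm_eq_abs] at h4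
          refine le_trans (le_of_eq ?_) h4
          have h5 : (a j).toNat + (-(a j)).toNat = (a j).natAbs := by omega
          have h6 : ((((a j).toNat : ℕ) : ℝ) + (((-(a j)).toNat : ℕ) : ℝ)) =
              (((a j).natAbs : ℕ) : ℝ) := by
            rw [← h5]
            push_cast
            rfl
          rw [h6, Nat.cast_natAbs, Int.cast_abs]
      _ = (r : ℝ) * ‖(fun j => ((a j : ℤ) : ℝ))‖ := by
          rw [Finset.sum_const, Finset.card_univ, Fintype.card_fin, nsmul_eq_mul]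
  have hnn : (0 : ℝ) ≤ (((∑ j, (a j).toNat) + ∑ j, (-(a j)).toNat : ℕ) : ℝ) := Nat.cast_nonneg _
  calc (C : ℝ) * (n.factorial : ℝ) * (((∑ j, (a j).toNat) + ∑ j, (-(a j)).toNat : ℕ) : ℝ) ^ n
      ≤ (C : ℝ) * (n.factorial : ℝ) * ((r : ℝ) * ‖(fun j => ((a j : ℤ) : ℝ))‖) ^ n :=
        mul_le_mul_of_nonneg_left (pow_le_pow_left₀ hnn hsum n) (by positivity)
    _ = (C : ℝ) * (n.factorial : ℝ) * (r : ℝ) ^ n * ‖(fun j => ((a j : ℤ) : ℝ))‖ ^ n := by
        rw [mul_pow]
        ring

end Groth.Agent.S17634
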