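import Groth.Statements.S17688
import Groth.Agent.Lib.Helper8SchDense

set_option autoImplicit false
universe u
open CategoryTheory CategoryTheory.Limits AlgebraicGeometry MonObj
open Neron

namespace Groth.Agent.S17688

/-- Let R be a discrete valuation ring whose fraction field K has characteristic p > 0, and let U be a
flat, separated, commutative group scheme over Spec R whose generic fibre U_K is annihilated by a
power p^N of p (in the group of endomorphisms of U_K as a K-scheme, the p^N-th power of the identity
is the unit). Then for every prime ℓ invertible in R the ℓ-th power map of U (the ℓ-th power of the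
identity in the group of R-morphisms U → U) is an isomorphism. -/
theorem result
    (R : Type u) [CommRing R] [IsDomain R] [IsDiscreteValuationRing R]
    (p : ℕ) (hp : p.Prime) [CharP (FractionRing R) p]
    (U : Over (Spec (CommRingCat.of R))) [GrpObj U] [IsCommMonObj U] [Flat U.hom] [IsSeparated U.hom]
    (N : ℕ) (hN : (𝟙 (Red.bc (Neron.genPt R) U) : Red.bc (Neron.genPt R) U ⟶ Red.bc (Neron.genPt R) U) ^ (p ^ N) = 1)
    (ℓ : ℕ) (hℓ : ℓ.Prime) (hℓu : IsUnit (ℓ : R)) :
    IsIso ((𝟙 U : U ⟶ U) ^ ℓ) := by
  haveI : IsSchemeTheoreticallyDominant (Neron.genPt R) :=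
    Groth.Agent.Helper8SchDense.schDominant_Spec_map _
      (by exact IsFractionRing.injective R (FractionRing R))
  have hpow := Groth.Agent.Helper8SchDense.pow_eq_one_of_bc (Neron.genPt R) U (p ^ N) hN
  apply Groth.Agent.Helper8SchDense.isIso_pow_of_coprime U (p ^ N) ℓ hpow
  apply Nat.Coprime.pow_right
  rw [Nat.coprime_primes hℓ hp]
  rintro rfl
  have h0 : ((ℓ : ℕ) : FractionRing R) = 0 := CharP.cast_eq_zero _ _
  have h1 : algebraMap R (FractionRing R) (ℓ : R) = 0 := by
    rw [map_natCast]
    exact h0
  have h2 : (ℓ : R) = 0 :=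
    (IsFractionRing.injective R (FractionRing R)) (by rw [h1, map_zero])
  rw [h2] at hℓu
  exact not_isUnit_zero hℓu

end Groth.Agent.S17688
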