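import Groth.Statements.S17732
import Mathlib

set_option autoImplicit false
universe u
open CDiv

namespace Groth.Agent.S17732

section Helpers

section P1


section Alg

variable {B : Type*} [CommRing B]

lemma isUnit_of_span_pow_eq (f : B) (hf : f ∈ nonZeroDivisors B) (a b : ℕ) (hab : a < b)
    (h : Ideal.span {f ^ a} = Ideal.span {f ^ b}) : IsUnit f := by
  have h1 : f ^ a ∈ Ideal.span {f ^ b} := by rw [← h]; exact Ideal.mem_span_singleton_self _
  obtain ⟨c, hc⟩ := Ideal.mem_span_singleton'.mp h1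
  obtain ⟨d, rfl⟩ := Nat.exists_eq_add_of_lt hab
  have h2 : (c * f ^ (d + 1) - 1) * f ^ a = 0 := by
    rw [sub_mul, one_mul, sub_eq_zero]
    calc c * f ^ (d + 1) * f ^ a = c * f ^ (a + d + 1) := by ring
      _ = f ^ a := hc
  have h3 : f ^ a ∈ nonZeroDivisors B := pow_mem hf a
  have h4 := (mem_nonZeroDivisors_iff_right.mp h3) _ h2
  rw [sub_eq_zero] at h4
  refine isUnit_iff_exists_inv.mpr ⟨c * f ^ d, ?_⟩
  rw [← h4]
  ring

lemma alg_key (f g : B) (hf : f ∈ nonZeroDivisors B) (hg : g ∈ nonZeroDivisors B)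
    (m n m' n' : ℕ) (h1 : Ideal.span {f} ^ m = Ideal.span {g} ^ n)
    (h2 : Ideal.span {f} ^ m' = Ideal.span {g} ^ n') :
    m * n' = m' * n ∨ (IsUnit f ∧ IsUnit g) := by
  by_cases hmn : m * n' = m' * n
  · exact Or.inl hmn
  · right
    have e1 : Ideal.span {f ^ (m * n')} = Ideal.span {f ^ (m' * n)} := by
      rw [pow_mul, pow_mul, ← Ideal.span_singleton_pow, ← Ideal.span_singleton_pow,
        ← Ideal.span_singleton_pow, ← Ideal.span_singleton_pow, h1, h2, ← pow_mul, ← pow_mul,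
        mul_comm]
    have e2 : Ideal.span {g ^ (m * n')} = Ideal.span {g ^ (m' * n)} := by
      rw [mul_comm m n', mul_comm m' n, pow_mul, pow_mul, ← Ideal.span_singleton_pow,
        ← Ideal.span_singleton_pow, ← Ideal.span_singleton_pow, ← Ideal.span_singleton_pow,
        ← h1, ← h2, ← pow_mul, ← pow_mul, mul_comm]
    rcases lt_or_gt_of_ne hmn with h | h
    · exact ⟨isUnit_of_span_pow_eq f hf _ _ h e1, isUnit_of_span_pow_eq g hg _ _ h e2⟩
    · exact ⟨isUnit_of_span_pow_eq f hf _ _ h e1.symm, isUnit_of_span_pow_eq g hg _ _ h e2.symm⟩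

end Alg

section Proportional

/-- proportionality of pairs -/
def PP (v w : ℕ × ℕ) : Prop := v.1 * w.2 = w.1 * v.2

lemma PP.symm {v w : ℕ × ℕ} (h : PP v w) : PP w v := Eq.symm h

lemma PP.trans {u v w : ℕ × ℕ} (hv : v ≠ (0, 0)) (h1 : PP u v) (h2 : PP v w) : PP u w := by
  unfold PP at *
  obtain ⟨a, b⟩ := u
  obtain ⟨c, d⟩ := v
  obtain ⟨e, f⟩ := w
  simp only at *
  by_cases hc : c = 0
  · subst hc
    have hd : d ≠ 0 := by
      intro hd
      apply hv
      rw [hd]
    simp only [zero_mul] at h1 h2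
    have ha : a = 0 := by
      rcases Nat.mul_eq_zero.mp h1 with h | h
      · exact h
      · exact absurd h hd
    have he : e = 0 := by
      rcases Nat.mul_eq_zero.mp h2.symm with h | h
      · exact h
      · exact absurd h hd
    rw [ha, he]
    simp
  · have : c * (a * f) = c * (e * b) := by
      calc c * (a * f) = a * (c * f) := by ring
        _ = a * (e * d) := by rw [h2]
        _ = (a * d) * e := by ring
        _ = (c * b) * e := by rw [h1]
        _ = c * (e * b) := by ring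
    exact Nat.eq_of_mul_eq_mul_left (Nat.pos_of_ne_zero hc) this

/-- a finite family of mutually proportional nonzero pairs has a common nonzero multiple -/
lemma exists_common_multiple {ι : Type*} (t : Finset ι) (v : ι → ℕ × ℕ)
    (hv : ∀ i ∈ t, v i ≠ (0, 0)) (hp : ∀ i ∈ t, ∀ j ∈ t, PP (v i) (v j)) :
    ∃ w : ℕ × ℕ, w ≠ (0, 0) ∧ ∀ i ∈ t, ∃ c : ℕ, w = (c * (v i).1, c * (v i).2) := by
  classical
  induction t using Finset.induction_on with
  | empty => exact ⟨(1, 1), by simp, by simp⟩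
  | insert a t ha ih =>
    obtain ⟨w, hw0, hw⟩ := ih (fun i hi => hv i (Finset.mem_insert_of_mem hi))
      (fun i hi j hj => hp i (Finset.mem_insert_of_mem hi) j (Finset.mem_insert_of_mem hj))
    by_cases ht : t = ∅
    · subst ht
      exact ⟨v a, hv a (Finset.mem_insert_self _ _), by
        intro i hi
        simp only [Finset.insert_empty, Finset.mem_singleton] at hi
        subst hi
        exact ⟨1, by simp⟩⟩
    · obtain ⟨j, hj⟩ := Finset.nonempty_iff_ne_empty.mpr ht
      obtain ⟨c, hc⟩ := hw j hj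
      -- w is proportional to v j hence to v a
      have hwa : PP w (v a) := by
        have h1 : PP w (v j) := by
          unfold PP
          rw [hc]
          ring
        exact h1.trans (hv j (Finset.mem_insert_of_mem hj))
          (hp j (Finset.mem_insert_of_mem hj) a (Finset.mem_insert_self _ _))
      have hva := hv a (Finset.mem_insert_self _ _)
      unfold PP at hwa
      refine ⟨(((v a).1 + (v a).2) * w.1, ((v a).1 + (v a).2) * w.2), ?_, ?_⟩
      · intro h0
        rw [Prod.mk.injEq] at h0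
        have hs : (v a).1 + (v a).2 ≠ 0 := by
          intro hs
          apply hva
          have h1 : (v a).1 = 0 := by omega
          have h2 : (v a).2 = 0 := by omega
          exact Prod.ext h1 h2
        apply hw0
        rcases Nat.mul_eq_zero.mp h0.1 with h | h
        · exact absurd h hs
        · rcases Nat.mul_eq_zero.mp h0.2 with h' | h'
          · exact absurd h' hs
          · exact Prod.ext h h'
      · intro i hi
        rcases Finset.mem_insert.mp hi with rfl | hi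
        · refine ⟨w.1 + w.2, ?_⟩
          rw [Prod.mk.injEq]
          constructor
          · calc ((v i).1 + (v i).2) * w.1 = (v i).1 * w.1 + w.1 * (v i).2 := by ring
              _ = (v i).1 * w.1 + (v i).1 * w.2 := by rw [hwa]
              _ = (w.1 + w.2) * (v i).1 := by ring
          · calc ((v i).1 + (v i).2) * w.2 = (v i).1 * w.2 + (v i).2 * w.2 := by ring
              _ = w.1 * (v i).2 + (v i).2 * w.2 := by rw [hwa]
              _ = (w.1 + w.2) * (v i).2 := by ring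
        · obtain ⟨c', hc'⟩ := hw i hi
          refine ⟨((v a).1 + (v a).2) * c', ?_⟩
          rw [hc']
          simp only [Prod.mk.injEq]
          constructor <;> ring

end Proportional


end P1

section P2


open AlgebraicGeometry CategoryTheory

variable {X : Scheme.{u}}

lemma res_flat {U W : X.affineOpens} (h : W ≤ U) :
    (X.presheaf.map (homOfLE (X := X.Opens) h).op).hom.Flat := by
  have h1 := HasRingHomProperty.appLE (P := @Flat) (𝟙 X) inferInstance U W
    (by simpa using h)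
  have h2 : (𝟙 X : X ⟶ X).appLE U W (by simpa using h) = X.presheaf.map (homOfLE (X := X.Opens) h).op := by
    simp only [Scheme.Hom.appLE, Scheme.Hom.id_app]
    exact Category.id_comp _
  rw [h2] at h1
  exact h1

lemma res_nzd {U W : X.affineOpens} (h : W ≤ U) (g : Γ(X, U))
    (hg : g ∈ nonZeroDivisors Γ(X, U)) :
    (X.presheaf.map (homOfLE (X := X.Opens) h).op).hom g ∈ nonZeroDivisors Γ(X, W) := by
  have hflat := res_flat h
  algebraize [(X.presheaf.map (homOfLE (X := X.Opens) h).op).hom]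
  have hreg : IsSMulRegular Γ(X, W) g := Module.Flat.isSMulRegular_of_nonZeroDivisors hg
  rw [mem_nonZeroDivisors_iff_right]
  intro y hy
  apply hreg
  change g • y = g • 0
  rw [smul_zero, Algebra.smul_def, RingHom.algebraMap_toAlgebra, mul_comm]
  exact hy


variable (D E : X.IdealSheafData)

/-- admissible exponent pairs on an affine open -/
def RR (U : X.affineOpens) : Set (ℕ × ℕ) :=
  {v | v ≠ (0, 0) ∧ D.ideal U ^ v.1 = E.ideal U ^ v.2}

lemma RR_mono {U V : X.affineOpens} (h : V ≤ U) {v : ℕ × ℕ} (hv : v ∈ RR D E U) :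
    v ∈ RR D E V := by
  refine ⟨hv.1, ?_⟩
  rw [← D.map_ideal h, ← E.map_ideal h, ← Ideal.map_pow, ← Ideal.map_pow, hv.2]

lemma ideal_res_span {U V : X.affineOpens} (h : V ≤ U) (g : Γ(X, U))
    (hg : D.ideal U = Ideal.span {g}) :
    D.ideal V = Ideal.span {(X.presheaf.map (homOfLE (X := X.Opens) h).op).hom g} := by
  rw [← D.map_ideal h, hg, Ideal.map_span, Set.image_singleton]
  rfl

lemma not_mem_support_of_isUnit {U : X.affineOpens} (x : X) (hx : x ∈ U.1) (f : Γ(X, U))
    (hf : D.ideal U = Ideal.span {f}) (hu : IsUnit f) : x ∉ D.support := by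
  intro hmem
  rw [Scheme.IdealSheafData.mem_support_iff_of_mem hx, Scheme.mem_zeroLocus_iff] at hmem
  have := hmem f (by rw [hf]; exact Ideal.mem_span_singleton_self f)
  apply this
  rw [Scheme.basicOpen_of_isUnit X hu]
  exact hx

variable
  (hD : ∀ x : X, ∃ U : X.affineOpens, x ∈ (U : X.Opens) ∧ ∃ g : Γ(X, U),
    g ∈ nonZeroDivisors Γ(X, U) ∧ D.ideal U = Ideal.span {g})
  (hE : ∀ x : X, ∃ U : X.affineOpens, x ∈ (U : X.Opens) ∧ ∃ g : Γ(X, U),
    g ∈ nonZeroDivisors Γ(X, U) ∧ E.ideal U = Ideal.span {g})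

include hD hE in
/-- the key uniqueness of the ratio at points of the supports -/
lemma key (x : X) (hx : x ∈ (D.support : Set X) ∪ (E.support : Set X))
    (U U' : X.affineOpens) (hxU : x ∈ U.1) (hxU' : x ∈ U'.1) (v v' : ℕ × ℕ)
    (hv : v ∈ RR D E U) (hv' : v' ∈ RR D E U') : PP v v' := by
  obtain ⟨U₁, hx1, g₁, hg₁, hDg⟩ := hD x
  obtain ⟨U₂, hx2, g₂, hg₂, hEg⟩ := hE x
  obtain ⟨_, ⟨W, hW, rfl⟩, hxW, hWle⟩ := X.isBasis_affineOpens.exists_subset_of_mem_open
    (show x ∈ ((U.1 ⊓ U'.1) ⊓ (U₁.1 ⊓ U₂.1) : X.Opens) from ⟨⟨hxU, hxU'⟩, ⟨hx1, hx2⟩⟩)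
    ((U.1 ⊓ U'.1) ⊓ (U₁.1 ⊓ U₂.1)).isOpen
  let W' : X.affineOpens := ⟨W, hW⟩
  have hWU : W' ≤ U := fun y hy => (hWle hy).1.1
  have hWU' : W' ≤ U' := fun y hy => (hWle hy).1.2
  have hWU₁ : W' ≤ U₁ := fun y hy => (hWle hy).2.1
  have hWU₂ : W' ≤ U₂ := fun y hy => (hWle hy).2.2
  have hv1 := RR_mono D E hWU hv
  have hv2 := RR_mono D E hWU' hv'
  have hDW := ideal_res_span D hWU₁ g₁ hDg
  have hEW := ideal_res_span E hWU₂ g₂ hEg
  have hn1 := res_nzd hWU₁ g₁ hg₁
  have hn2 := res_nzd hWU₂ g₂ hg₂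
  have h1 := hv1.2
  have h2 := hv2.2
  rw [hDW, hEW] at h1 h2
  rcases alg_key _ _ hn1 hn2 _ _ _ _ h1 h2 with h | ⟨hu1, hu2⟩
  · exact h
  · exfalso
    rcases hx with hx | hx
    · exact not_mem_support_of_isUnit D x hxW _ hDW hu1 hx
    · exact not_mem_support_of_isUnit E x hxW _ hEW hu2 hx


lemma RR_ne {U : X.affineOpens} {v : ℕ × ℕ} (hv : v ∈ RR D E U) : v ≠ (0, 0) := hv.1

include hD hE in
lemma prop_of_preconnected
    (hconn : IsPreconnected ((D.support : Set X) ∪ (E.support : Set X)))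
    (Uy : X → X.affineOpens) (hyU : ∀ y, y ∈ (Uy y).1) (w : X → ℕ × ℕ)
    (hw : ∀ y, w y ∈ RR D E (Uy y))
    (z z' : X) (hz : z ∈ (D.support : Set X) ∪ (E.support : Set X))
    (hz' : z' ∈ (D.support : Set X) ∪ (E.support : Set X))
    (U U' : X.affineOpens) (hzU : z ∈ U.1) (hzU' : z' ∈ U'.1) (v v' : ℕ × ℕ)
    (hv : v ∈ RR D E U) (hv' : v' ∈ RR D E U') : PP v v' := by
  set S : Set X := (D.support : Set X) ∪ (E.support : Set X) with hS
  have hQ : ∀ y ∈ S, PP v (w y) := by
    by_contra hcon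
    push Not at hcon
    obtain ⟨y₀, hy₀S, hy₀⟩ := hcon
    let u : Set X := ⋃ y ∈ {y | y ∈ S ∧ PP v (w y)}, ((Uy y).1 : Set X)
    let u' : Set X := ⋃ y ∈ {y | y ∈ S ∧ ¬ PP v (w y)}, ((Uy y).1 : Set X)
    have hu : IsOpen u := isOpen_biUnion fun y _ => (Uy y).1.isOpen
    have hu' : IsOpen u' := isOpen_biUnion fun y _ => (Uy y).1.isOpen
    have hcov : S ⊆ u ∪ u' := by
      intro y hy
      by_cases hq : PP v (w y)
      · exact Or.inl (Set.mem_biUnion (show y ∈ {y | y ∈ S ∧ PP v (w y)} from ⟨hy, hq⟩) (hyU y))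
      · exact Or.inr (Set.mem_biUnion (show y ∈ {y | y ∈ S ∧ ¬ PP v (w y)} from ⟨hy, hq⟩) (hyU y))
    have hne1 : (S ∩ u).Nonempty := by
      refine ⟨z, hz, ?_⟩
      have hq : PP v (w z) := key D E hD hE z hz U (Uy z) hzU (hyU z) v (w z) hv (hw z)
      exact Set.mem_biUnion (show z ∈ {y | y ∈ S ∧ PP v (w y)} from ⟨hz, hq⟩) (hyU z)
    have hne2 : (S ∩ u').Nonempty :=
      ⟨y₀, hy₀S, Set.mem_biUnion (show y₀ ∈ {y | y ∈ S ∧ ¬ PP v (w y)} from ⟨hy₀S, hy₀⟩) (hyU y₀)⟩
    obtain ⟨x, hxS, hxu, hxu'⟩ := hconn u u' hu hu' hcov hne1 hne2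
    simp only [u, u', Set.mem_iUnion, exists_prop] at hxu hxu'
    obtain ⟨y, ⟨hyS, hyQ⟩, hxy⟩ := hxu
    obtain ⟨y', ⟨hy'S, hy'Q⟩, hxy'⟩ := hxu'
    have h1 : PP (w y) (w y') :=
      key D E hD hE x hxS (Uy y) (Uy y') hxy hxy' (w y) (w y') (hw y) (hw y')
    exact hy'Q (hyQ.trans (RR_ne D E (hw y)) h1)
  have h1 : PP v (w z') := hQ z' hz'
  have h2 : PP v' (w z') :=
    key D E hD hE z' hz' U' (Uy z') hzU' (hyU z') v' (w z') hv' (hw z')
  exact h1.trans (RR_ne D E (hw z')) h2.symm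

lemma ideal_eq_top_of_disjoint (U : X.affineOpens) (h : ∀ x ∈ U.1, x ∉ D.support) :
    D.ideal U = ⊤ := by
  by_contra hne
  have hne' : (PrimeSpectrum.zeroLocus (D.ideal U : Set Γ(X, U))).Nonempty := by
    rw [Set.nonempty_iff_ne_empty, Ne, PrimeSpectrum.zeroLocus_empty_iff_eq_top]
    exact hne
  obtain ⟨p, hp⟩ := hne'
  have hmem : U.2.fromSpec p ∈ X.zeroLocus (U := U.1) (D.ideal U : Set Γ(X, U)) ∩ U.1 := by
    rw [← IsAffineOpen.fromSpec_image_zeroLocus U.2]
    exact ⟨p, hp, rfl⟩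
  have hx : U.2.fromSpec p ∈ D.support := by
    rw [Scheme.IdealSheafData.mem_support_iff_of_mem hmem.2]
    exact hmem.1
  exact h _ hmem.2 hx


include hD hE in
theorem main [IsNoetherian X]
    (hconn : IsPreconnected ((D.support : Set X) ∪ (E.support : Set X)))
    (hloc : ∀ x : X, ∃ U : X.affineOpens, x ∈ (U : X.Opens) ∧
      ∃ m n : ℕ, (m, n) ≠ (0, 0) ∧ D.ideal U ^ m = E.ideal U ^ n) :
    ∃ m n : ℕ, (m, n) ≠ (0, 0) ∧ ∀ U : X.affineOpens, D.ideal U ^ m = E.ideal U ^ n := by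
  classical
  choose Uy hyU my ny hne heq using hloc
  set S : Set X := (D.support : Set X) ∪ (E.support : Set X) with hS
  let w : X → ℕ × ℕ := fun y => (my y, ny y)
  have hw : ∀ y, w y ∈ RR D E (Uy y) := fun y => ⟨hne y, heq y⟩
  obtain ⟨t, ht⟩ := isCompact_univ.elim_finite_subcover (fun y => ((Uy y).1 : Set X))
    (fun y => (Uy y).1.isOpen) (fun y _ => Set.mem_iUnion.mpr ⟨y, hyU y⟩)
  let J : Finset X := t.filter (fun y => (((Uy y).1 : Set X) ∩ S).Nonempty)
  have hJ : ∀ i ∈ J, ∀ j ∈ J, PP (w i) (w j) := by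
    intro i hi j hj
    obtain ⟨zi, hziU, hziS⟩ := (Finset.mem_filter.mp hi).2
    obtain ⟨zj, hzjU, hzjS⟩ := (Finset.mem_filter.mp hj).2
    exact prop_of_preconnected D E hD hE hconn Uy hyU w hw zi zj hziS hzjS (Uy i) (Uy j)
      hziU hzjU (w i) (w j) (hw i) (hw j)
  obtain ⟨W, hW0, hW⟩ := exists_common_multiple J w (fun i _ => RR_ne D E (hw i)) hJ
  have hall : ∀ y ∈ t, D.ideal (Uy y) ^ W.1 = E.ideal (Uy y) ^ W.2 := by
    intro y hy
    by_cases hyJ : y ∈ J
    · obtain ⟨c, hc⟩ := hW y hyJ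
      rw [hc]
      change D.ideal (Uy y) ^ (c * my y) = E.ideal (Uy y) ^ (c * ny y)
      rw [mul_comm c, mul_comm c, pow_mul, pow_mul, heq y]
    · have hdis : ∀ x ∈ (Uy y).1, x ∉ S := by
        intro x hx hxS
        exact hyJ (Finset.mem_filter.mpr ⟨hy, ⟨x, hx, hxS⟩⟩)
      have h1 : D.ideal (Uy y) = ⊤ :=
        ideal_eq_top_of_disjoint D (Uy y) (fun x hx hxD => hdis x hx (Or.inl hxD))
      have h2 : E.ideal (Uy y) = ⊤ :=
        ideal_eq_top_of_disjoint E (Uy y) (fun x hx hxE => hdis x hx (Or.inr hxE))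
      rw [h1, h2, Ideal.top_pow, Ideal.top_pow]
  have hsup : ⨆ i : t, (Uy i.1).1 = ⊤ := by
    rw [eq_top_iff]
    intro x _
    have hx := ht (Set.mem_univ x)
    simp only [Set.mem_iUnion, exists_prop] at hx
    obtain ⟨y, hyt, hxy⟩ := hx
    exact TopologicalSpace.Opens.mem_iSup.mpr ⟨⟨y, hyt⟩, hxy⟩
  have heqDE : D ^ W.1 = E ^ W.2 := by
    refine Scheme.IdealSheafData.ext_of_iSup_eq_top (fun i : t => Uy i.1) hsup ?_
    intro i
    rw [Scheme.IdealSheafData.ideal_pow, Scheme.IdealSheafData.ideal_pow, Pi.pow_apply,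
      Pi.pow_apply]
    exact hall i.1 i.2
  refine ⟨W.1, W.2, hW0, fun U => ?_⟩
  have := congrArg (fun I : X.IdealSheafData => I.ideal U) heqDE
  simpa [Scheme.IdealSheafData.ideal_pow] using this


end P2

end Helpers

open AlgebraicGeometry in
/-- Let X be a Noetherian scheme and D, E effective Cartier divisors on X, encoded by their ideal
sheaves, each locally generated on an affine open by a single non-zero-divisor. Assume that the
union of the supports of D and E is connected (or empty) and that every point of X has an affine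
open neighbourhood on which the m-th power of the ideal of D equals the n-th power of the ideal of E
for some (m, n) ≠ (0, 0). Then there is a pair (m, n) ≠ (0, 0) for which this equality holds on
every affine open of X, that is, m D = n E globally. -/
theorem result
    (X : Scheme.{u}) [IsNoetherian X] (D E : X.IdealSheafData)
    (hD : (∀ x : X, ∃ U : X.affineOpens, x ∈ (U : X.Opens) ∧ ∃ g : Γ(X, U), g ∈ nonZeroDivisors Γ(X, U) ∧ D.ideal U = Ideal.span {g}))
    (hE : (∀ x : X, ∃ U : X.affineOpens, x ∈ (U : X.Opens) ∧ ∃ g : Γ(X, U), g ∈ nonZeroDivisors Γ(X, U) ∧ E.ideal U = Ideal.span {g}))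
    (hconn : IsPreconnected ((D.support : Set X) ∪ (E.support : Set X)))
    (hloc : ∀ x : X, ∃ U : X.affineOpens, x ∈ (U : X.Opens) ∧
      ∃ m n : ℕ, (m, n) ≠ (0, 0) ∧ D.ideal U ^ m = E.ideal U ^ n) :
    ∃ m n : ℕ, (m, n) ≠ (0, 0) ∧ ∀ U : X.affineOpens, D.ideal U ^ m = E.ideal U ^ n := by
  exact main D E hD hE hconn hloc

end Groth.Agent.S17732
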