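import Groth.Statements.S17750
import Groth.Agent.Lib.H6xMurthyB
import Groth.Agent.Lib.Helper5RLR
import Groth.Agent.S0299
import Groth.Agent.S0342
import Groth.Agent.S7700
import Groth.Agent.S7701
import Groth.Agent.S7702
import Groth.Agent.S7703
import Groth.Agent.S7708

set_option autoImplicit false
universe u
open Goren

namespace Groth.Agent.S17750

/-- Let B be a regular local ring and p a prime ideal of B such that the integral domain B ⧸ p is a
unique factorization domain. If the local ring B ⧸ p is Cohen–Macaulay then it is Gorenstein, i.e.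
has finite injective dimension as a module over itself. (For a unique factorization domain that is a
quotient of a regular local ring, Cohen–Macaulay and Gorenstein are equivalent; the converse
implication holds for every Noetherian local ring.) -/
theorem result (B : Type u) [CommRing B] [IsRegularLocalRing B] (p : Ideal B) [p.IsPrime] [UniqueFactorizationMonoid (B ⧸ p)] [LocCoh.IsCohenMacaulayLocalRing (B ⧸ p)] : LocCoh.IsGorensteinLocalRing (B ⧸ p) := by
  classical
  open IsLocalRing RingTheory.Sequence Groth.Agent.Lib.H6xMurthy in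
  haveI : IsDomain (B ⧸ p) := Ideal.Quotient.isDomain p
  obtain ⟨n, hn⟩ := Groth.Agent.Lib.Helper5.exists_nat_ringKrullDim_eq (B ⧸ p)
  obtain ⟨E, _, _, f, hf⟩ := Groth.Agent.S0299.result (B ⧸ p) (ResidueField (B ⧸ p))
  haveI : LocCoh.IsGorensteinLocalRing B := Groth.Agent.S0342.result B
  obtain ⟨K, hKfin, ⟨eK⟩⟩ := Groth.Agent.S7708.result (B ⧸ p) n hn E f hf B (Ideal.Quotient.mk p)
    Ideal.Quotient.mk_surjective
  rw [Groth.Agent.S7701.result (B ⧸ p) n hn E f hf K eK]
  -- `K` is torsion-free
  have htf : ∀ (a : B ⧸ p) (x : K), a • x = 0 → a = 0 ∨ x = 0 := by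
    intro a x hax
    by_cases ha0 : a = 0
    · exact Or.inl ha0
    right
    by_cases ham : a ∈ maximalIdeal (B ⧸ p)
    · have hmem : ∀ b ∈ [a], b ∈ maximalIdeal (B ⧸ p) := by
        intro b hb
        rw [List.mem_singleton] at hb
        rw [hb]; exact ham
      have hreg : IsRegular (B ⧸ p) [a] := by
        rw [IsLocalRing.isRegular_iff_isWeaklyRegular_of_subset_maximalIdeal hmem,
          isWeaklyRegular_cons_iff]
        exact ⟨(IsRegular.of_ne_zero ha0).isSMulRegular, IsWeaklyRegular.nil _ _⟩
      have hK := ((Groth.Agent.S7702.result (B ⧸ p) n hn E f hf K eK [a] hmem).1.mp hreg)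
      have hK' : IsSMulRegular K a := ((isRegular_cons_iff K a []).mp hK).1
      exact hK' (show a • x = a • (0 : K) by rw [hax, smul_zero])
    · have hu : IsUnit a := by
        by_contra hu
        exact ham ((IsLocalRing.mem_maximalIdeal a).mpr hu)
      exact (hu.smul_eq_zero).mp hax
  have hbij := Groth.Agent.S7703.result (B ⧸ p) n hn E f hf K eK
  have hKnt : Nontrivial K := by
    by_contra hK
    rw [not_nontrivial_iff_subsingleton] at hK
    have h10 : (1 : B ⧸ p) = 0 := hbij.injective (LinearMap.ext fun x => Subsingleton.elim _ _)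
    exact one_ne_zero h10
  have hend : ∀ g : K →ₗ[B ⧸ p] K, ∃ r : B ⧸ p, g = r • LinearMap.id := by
    intro g
    obtain ⟨r, hr⟩ := hbij.surjective g
    exact ⟨r, hr.symm⟩
  obtain ⟨x0, hx0⟩ := exists_ne (0 : K)
  obtain ⟨ℓ, hℓ⟩ := exists_functional_ne_zero htf x0 hx0
  have hℓ0 : ℓ ≠ 0 := by
    rintro rfl
    exact hℓ rfl
  have hinj := injective_of_end_eq htf hend ℓ hℓ0
  obtain ⟨J, ⟨eJ⟩, hJπ⟩ := exists_ideal_not_le_prime ℓ hinj
  have hJ0 : J ≠ ⊥ := by
    rintro rfl
    apply hx0
    apply eJ.injective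
    rw [map_zero]
    apply Subtype.ext
    have := (eJ x0).2
    rwa [Submodule.mem_bot] at this
  by_cases hJtop : J = ⊤
  · exact ⟨eJ.trans ((LinearEquiv.ofEq J ⊤ hJtop).trans Submodule.topEquiv)⟩
  · exfalso
    obtain ⟨-, -, hCM, hsd⟩ := Groth.Agent.S7700.result (B ⧸ p) n hn E f hf K eK
    have hdK : LocCoh.depth (B ⧸ p) K = n := by
      have h := hCM
      unfold LocCoh.IsCohenMacaulayModule at h
      rw [hsd] at h
      have h' : ((n : ℕ∞) : WithBot ℕ∞) = ((LocCoh.depth (B ⧸ p) K : ℕ∞) : WithBot ℕ∞) := by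
        rw [← h]; rfl
      exact (WithBot.coe_injective h').symm
    have hdJ : LocCoh.depth (B ⧸ p) J = n := by
      rw [← hdK]
      exact Groth.Agent.Lib.Helper28.idealDepth_congr eJ.symm _
    exact false_of_depth_ideal n hn J hJtop hdJ
      (fun q hq hJq => two_le_height_of_not_le_prime J hJ0 hJπ q hJq)

end Groth.Agent.S17750
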