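import Groth.Statements.S17766
import Groth.Agent.Lib.H6xMurthyC
import Groth.Agent.Lib.Helper5RLR3
import Groth.Agent.Lib.Helper28FGDim
import Groth.Agent.S0299
import Groth.Agent.S0342

set_option autoImplicit false
universe u
open CategoryTheory Opposite
open LocCoh

namespace Groth.Agent.S17766

/-- Let B be a regular local ring, p a prime ideal of B of height r, and suppose that A = B ⧸ p is
Cohen–Macaulay. Then the B-module Ext^r_B(A, B) is isomorphic either to A itself or to a proper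
ideal I of A which is unmixed of height one, i.e. every associated prime of A ⧸ I has height one in
A (existence of a B-linear isomorphism in each case). -/
theorem result (B : Type u) [CommRing B] [IsRegularLocalRing B] (p : Ideal B) [p.IsPrime] [LocCoh.IsCohenMacaulayLocalRing (B ⧸ p)] (r : ℕ) (hr : p.height = r) : Nonempty (((Ext B (ModuleCat.{u} B) r).obj (op (ModuleCat.of B (B ⧸ p)))).obj (ModuleCat.of B B) ≃ₗ[B] (B ⧸ p)) ∨ ∃ I : Ideal (B ⧸ p), I ≠ ⊤ ∧ (∀ q ∈ associatedPrimes (B ⧸ p) ((B ⧸ p) ⧸ I), q.height = 1) ∧ Nonempty (((Ext B (ModuleCat.{u} B) r).obj (op (ModuleCat.of B (B ⧸ p)))).obj (ModuleCat.of B B) ≃ₗ[B] I) := by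
  classical
  open IsLocalRing Groth.Agent.Lib.H6xMurthy in
  haveI : IsDomain (B ⧸ p) := Ideal.Quotient.isDomain p
  obtain ⟨n, hn⟩ := Groth.Agent.Lib.Helper5.exists_nat_ringKrullDim_eq (B ⧸ p)
  obtain ⟨n', hn'⟩ := Groth.Agent.Lib.Helper5.exists_nat_ringKrullDim_eq B
  haveI hBCM : LocCoh.IsCohenMacaulayLocalRing B :=
    Groth.Agent.Lib.Helper5.isCohenMacaulayLocalRing_of_isRegularLocalRing B
  have hrn : r = n' - n := by
    have h1 := Groth.Agent.Lib.Helper28.height_add_ringKrullDim_quotient_eq_of_isCohenMacaulayLocalRing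
      p (Ideal.IsPrime.ne_top inferInstance)
    rw [hr, hn, hn'] at h1
    have h2 : r + n = n' := by exact_mod_cast h1
    omega
  subst hrn
  obtain ⟨E, _, _, f, hf⟩ := Groth.Agent.S0299.result (B ⧸ p) (ResidueField (B ⧸ p))
  haveI : LocCoh.IsGorensteinLocalRing B := Groth.Agent.S0342.result B
  obtain ⟨mK, hst, hfin, ⟨eK⟩⟩ := exists_canon_ext B (B ⧸ p) Ideal.Quotient.mk_surjective n n' hn hn'
    E f hf
  obtain ⟨J, hJ0, ⟨eJ⟩, hdJ⟩ := exists_ideal_equiv_canon (B ⧸ p) n hn E f hf _ eK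
  by_cases hJtop : J = ⊤
  · left
    exact ⟨(eJ.trans ((LinearEquiv.ofEq J ⊤ hJtop).trans Submodule.topEquiv)).restrictScalars B⟩
  · right
    exact ⟨J, hJtop, fun q hq => height_eq_one_of_mem_associatedPrimes n hn J hJ0 hdJ q hq,
      ⟨eJ.restrictScalars B⟩⟩

end Groth.Agent.S17766
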