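import Groth.Statements.S17873
import Mathlib
import Groth.Agent.Lib.Helper28Depth

set_option autoImplicit false
universe u
open GRRSing

namespace Groth.Agent.S17873

namespace Aux

open IsLocalRing RingTheory.Sequence

variable {T : Type u} [CommRing T] [IsLocalRing T] [IsNoetherianRing T]

/-- the quotient module `T / (ts) T` -/
abbrev Mq (ts : List T) : Type u := T ⧸ (Ideal.ofList ts • ⊤ : Submodule T T)

/-- The inductive statement. -/
def P (J : Ideal T) (i : ℕ) : Prop :=
  ∃ (ts : List T) (S : Finset T), ts.length = i ∧ (∀ t ∈ ts, t ∈ J) ∧ IsWeaklyRegular T ts ∧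
    i + S.card = Submodule.spanFinrank J ∧ Ideal.span ({t | t ∈ ts} ∪ (S : Set T)) = J

theorem P_zero (J : Ideal T) : P J 0 := by
  obtain ⟨S, hS1, hS2⟩ := Submodule.FG.exists_span_finset_card_eq_spanFinrank (R := T)
    (p := (J : Submodule T T)) (Ideal.fg_of_isNoetherianRing _)
  refine ⟨[], S, rfl, ?_, IsWeaklyRegular.nil T T, by rw [zero_add]; exact hS1, ?_⟩
  · intro t ht
    exact absurd ht List.not_mem_nil
  · have h0 : ({t : T | t ∈ ([] : List T)} ∪ (S : Set T)) = S := by
      ext t
      simp
    rw [h0]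
    exact hS2

theorem P_succ (J : Ideal T) (hJ : J ≠ ⊤) (j : ℕ) (hj : LocCoh.idealDepth J T = j) (i : ℕ)
    (hi : i < j) (h : P J i) : P J (i + 1) := by
  classical
  obtain ⟨ts, S, hlen, hmem, hreg, hcard, hspan⟩ := h
  have hIM : J • (⊤ : Submodule T T) ≠ ⊤ := by
    rw [smul_eq_mul, Ideal.mul_top]
    exact hJ
  have e : (Ideal.ofList ts • ⊤ : Submodule T T) = Ideal.ofList ts := by
    rw [smul_eq_mul, Ideal.mul_top]
  have hIM' : J • (⊤ : Submodule T (Mq ts)) ≠ ⊤ :=
    Groth.Agent.Lib.Helper28.smul_top_quot_ofList_ne_top J hmem hIM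
  have hdepth : LocCoh.idealDepth J (Mq ts) + ts.length = LocCoh.idealDepth J T :=
    Groth.Agent.Lib.Helper28.idealDepth_quot_ofList_add_length J T hIM ts hmem hreg
  have hdepth_ne : LocCoh.idealDepth J (Mq ts) ≠ 0 := by
    intro h0
    rw [h0, zero_add, hj, hlen] at hdepth
    have h1 : i = j := by exact_mod_cast hdepth
    omega
  have hex : ¬ ∀ r ∈ J, ¬ IsSMulRegular (Mq ts) r := fun h =>
    hdepth_ne (Groth.Agent.Lib.Helper28.idealDepth_eq_zero_of_forall_not_isSMulRegular hIM' h)
  let Q : Ideal T := Ideal.ofList ts ⊔ maximalIdeal T * J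
  have hQ : ¬ J ≤ Q := by
    intro hle
    have h1 : J ≤ Ideal.ofList ts := by
      apply Submodule.le_of_le_smul_of_le_jacobson_bot (Ideal.fg_of_isNoetherianRing J)
        (IsLocalRing.maximalIdeal_le_jacobson ⊥)
      exact hle
    apply hex
    intro r hr hreg'
    have hr' : r ∈ Ideal.ofList ts := h1 hr
    have hzero : r • (Submodule.Quotient.mk (1 : T) : Mq ts) = 0 := by
      rw [← Submodule.Quotient.mk_smul, Submodule.Quotient.mk_eq_zero, e]
      simpa using hr'
    have h2 : (Submodule.Quotient.mk (1 : T) : Mq ts) = 0 := hreg' (by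
      show r • (Submodule.Quotient.mk (1 : T) : Mq ts) = r • (0 : Mq ts)
      rw [hzero, smul_zero])
    apply hIM'
    rw [eq_top_iff]
    intro x _
    obtain ⟨x, rfl⟩ := Submodule.Quotient.mk_surjective _ x
    have h3 : (Submodule.Quotient.mk x : Mq ts) = x • (Submodule.Quotient.mk (1 : T) : Mq ts) := by
      have h4 : x = x • (1 : T) := by rw [smul_eq_mul, mul_one]
      rw [← Submodule.Quotient.mk_smul, ← h4]
    rw [h3, h2, smul_zero]
    exact Submodule.zero_mem _
  have hfin : (associatedPrimes T (Mq ts)).Finite := associatedPrimes.finite T (Mq ts)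
  obtain ⟨t, htJ, htQ, htreg⟩ : ∃ t ∈ J, t ∉ Q ∧ IsSMulRegular (Mq ts) t := by
    by_contra hcon
    push Not at hcon
    have hsub : (J : Set T) ⊆ ⋃ I ∈ ((insert Q hfin.toFinset : Finset (Ideal T)) :
        Set (Ideal T)), ((fun I : Ideal T => I) I : Set T) := by
      intro t ht
      by_cases htQ : t ∈ Q
      · exact Set.mem_biUnion (Finset.mem_coe.mpr (Finset.mem_insert_self _ _)) htQ
      · have hnr := hcon t ht htQ
        have h1 : t ∈ ({r : T | IsSMulRegular (Mq ts) r})ᶜ := hnr
        rw [← biUnion_associatedPrimes_eq_compl_regular T (Mq ts)] at h1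
        obtain ⟨p, hp, htp⟩ := Set.mem_iUnion₂.mp h1
        exact Set.mem_biUnion (Finset.mem_coe.mpr
          (Finset.mem_insert_of_mem (hfin.mem_toFinset.mpr hp))) htp
    obtain ⟨I, hI, hJI⟩ := (Ideal.subset_union_prime (f := fun I : Ideal T => I) Q Q (by
      intro I hI hIQ _
      rcases Finset.mem_insert.mp hI with h | hI'
      · exact absurd h hIQ
      · exact (hfin.mem_toFinset.mp hI').isPrime)).mp hsub
    rcases Finset.mem_insert.mp hI with h | hI'
    · rw [h] at hJI
      exact hQ hJI
    · apply hex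
      intro r hr hreg'
      have hp := hfin.mem_toFinset.mp hI'
      have h1 : r ∈ ⋃ p ∈ associatedPrimes T (Mq ts), (p : Set T) := Set.mem_biUnion hp (hJI hr)
      rw [biUnion_associatedPrimes_eq_compl_regular T (Mq ts)] at h1
      exact h1 hreg'
  -- exchange
  have hS_sub : ∀ s ∈ S, s ∈ J := by
    intro s hs
    rw [← hspan]
    exact Ideal.subset_span (Or.inr (Finset.mem_coe.mpr hs))
  have htspan : t ∈ Ideal.span ({x | x ∈ ts} ∪ (S : Set T)) := by
    rw [hspan]
    exact htJ
  rw [Ideal.span_union] at htspan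
  obtain ⟨u, hu, v, hv, huv⟩ := Submodule.mem_sup.mp htspan
  obtain ⟨b, -, hbv⟩ := (Submodule.mem_span_finset (R := T)).mp hv
  have hbv' : ∑ s ∈ S, b s * s = v := by
    rw [← hbv]
    apply Finset.sum_congr rfl
    intro s _
    rw [smul_eq_mul]
  obtain ⟨s0, hs0, hunit⟩ : ∃ s0 ∈ S, IsUnit (b s0) := by
    by_contra hcon
    push Not at hcon
    apply htQ
    rw [← huv]
    apply Ideal.add_mem
    · exact Ideal.mem_sup_left hu
    · apply Ideal.mem_sup_right
      rw [← hbv']
      apply Ideal.sum_mem
      intro s hs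
      exact Ideal.mul_mem_mul ((IsLocalRing.mem_maximalIdeal _).mpr (hcon s hs)) (hS_sub s hs)
  have hsum : b s0 * s0 + ∑ s ∈ S.erase s0, b s * s = v := by
    rw [Finset.add_sum_erase S (fun s => b s * s) hs0]
    exact hbv'
  refine ⟨ts ++ [t], S.erase s0, ?_, ?_, ?_, ?_, ?_⟩
  · rw [List.length_append, hlen]
    rfl
  · intro x hx
    rcases List.mem_append.mp hx with h | h
    · exact hmem x h
    · rw [List.mem_singleton] at h
      rw [h]
      exact htJ
  · rw [isWeaklyRegular_append_iff]
    exact ⟨hreg, (isWeaklyRegular_singleton_iff _ t).mpr htreg⟩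
  · rw [Finset.card_erase_of_mem hs0]
    have h0 : 0 < S.card := Finset.card_pos.mpr ⟨s0, hs0⟩
    omega
  · apply le_antisymm
    · rw [Ideal.span_le]
      rintro x (hx | hx)
      · rcases List.mem_append.mp hx with h | h
        · exact hmem x h
        · rw [List.mem_singleton] at h
          rw [h]
          exact htJ
      · exact hS_sub x (Finset.mem_of_mem_erase (Finset.mem_coe.mp hx))
    · rw [← hspan, Ideal.span_le]
      have hts_in : ∀ x ∈ ts, x ∈ Ideal.span ({x | x ∈ ts ++ [t]} ∪
          ((S.erase s0 : Finset T) : Set T)) := fun x hx =>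
        Ideal.subset_span (Or.inl (List.mem_append_left _ hx))
      have ht_in : t ∈ Ideal.span ({x | x ∈ ts ++ [t]} ∪ ((S.erase s0 : Finset T) : Set T)) :=
        Ideal.subset_span (Or.inl (List.mem_append_right _ (List.mem_singleton.mpr rfl)))
      have hS_in : ∀ s ∈ S, s ≠ s0 → s ∈ Ideal.span ({x | x ∈ ts ++ [t]} ∪
          ((S.erase s0 : Finset T) : Set T)) := fun s hs hne =>
        Ideal.subset_span (Or.inr (Finset.mem_coe.mpr (Finset.mem_erase.mpr ⟨hne, hs⟩)))
      have hu_in : u ∈ Ideal.span ({x | x ∈ ts ++ [t]} ∪ ((S.erase s0 : Finset T) : Set T)) := by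
        have h0 : Ideal.span {x | x ∈ ts} ≤ Ideal.span ({x | x ∈ ts ++ [t]} ∪
            ((S.erase s0 : Finset T) : Set T)) := Ideal.span_le.mpr (fun x hx => hts_in x hx)
        exact h0 hu
      have hs0_in : s0 ∈ Ideal.span ({x | x ∈ ts ++ [t]} ∪
          ((S.erase s0 : Finset T) : Set T)) := by
        have h1 : b s0 * s0 = t - u - ∑ s ∈ S.erase s0, b s * s := by
          rw [← huv, ← hsum]
          ring
        obtain ⟨w, hw⟩ := hunit
        have h2 : s0 = ↑w⁻¹ * (t - u - ∑ s ∈ S.erase s0, b s * s) := by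
          rw [← h1, ← hw, ← mul_assoc, Units.inv_mul, one_mul]
        have h3 : ↑w⁻¹ * (t - u - ∑ s ∈ S.erase s0, b s * s) ∈
            Ideal.span ({x | x ∈ ts ++ [t]} ∪ ((S.erase s0 : Finset T) : Set T)) := by
          apply Ideal.mul_mem_left
          apply Ideal.sub_mem _ (Ideal.sub_mem _ ht_in hu_in)
          apply Ideal.sum_mem
          intro s hs
          apply Ideal.mul_mem_left
          exact hS_in s (Finset.mem_of_mem_erase hs) (Finset.ne_of_mem_erase hs)
        rw [← h2] at h3
        exact h3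
      rintro x (hx | hx)
      · exact hts_in x hx
      · by_cases hxs : x = s0
        · rw [hxs]
          exact hs0_in
        · exact hS_in x (Finset.mem_coe.mp hx) hxs

theorem P_all (J : Ideal T) (hJ : J ≠ ⊤) (j : ℕ) (hj : LocCoh.idealDepth J T = j) :
    ∀ i ≤ j, P J i := by
  intro i
  induction i with
  | zero =>
    intro _
    exact P_zero J
  | succ i ih =>
    intro hi
    exact P_succ J hJ j hj i (by omega) (ih (by omega))

end Aux

/-- Let T be a Cohen–Macaulay Noetherian local ring, J a proper ideal of T, j the grade of J (the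
J-depth of T, i.e. the supremum of the lengths of T-regular sequences inside J; a natural number
here) and c the minimal number of generators of J (equal to the dimension of J/𝔪J over the residue
field). Then j ≤ c and there is a generating sequence t_1, …, t_c of J such that t_1, …, t_j is a
T-regular sequence. (The published statement does not exclude J = T; there c = 1 while the grade,
read as the depth of T, can exceed 1, so this row assumes J proper.) -/
theorem result {T : Type u} [CommRing T] [LocCoh.IsCohenMacaulayLocalRing T]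
    (J : Ideal T) (hJ : J ≠ ⊤) (j : ℕ) (hj : LocCoh.idealDepth J T = j) :
    j ≤ Submodule.spanFinrank J ∧
      ∃ ts : List T, ts.length = Submodule.spanFinrank J ∧ Ideal.ofList ts = J ∧
        RingTheory.Sequence.IsRegular T (ts.take j) := by
  classical
  obtain ⟨ts, S, hlen, hmem, hreg, hcard, hspan⟩ := Aux.P_all J hJ j hj j le_rfl
  refine ⟨by omega, ts ++ S.toList, ?_, ?_, ?_⟩
  · rw [List.length_append, Finset.length_toList, hlen]
    exact hcard
  · rw [Ideal.ofList_append]
    conv_rhs => rw [← hspan, Ideal.span_union]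
    congr 1
    apply congrArg Ideal.span
    ext x
    simp [Finset.mem_toList]
  · rw [List.take_left' hlen]
    have hIM : J • (⊤ : Submodule T T) ≠ ⊤ := by
      rw [smul_eq_mul, Ideal.mul_top]
      exact hJ
    exact Groth.Agent.Lib.Helper28.isRegular_of_isWeaklyRegular_of_mem hreg hmem hIM

end Groth.Agent.S17873
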