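import Groth.Statements.S17886
import Mathlib
import Groth.Agent.S2337

set_option autoImplicit false
universe u
open CategoryTheory AlgebraicGeometry TopologicalSpace
open FlatMor

namespace Groth.Agent.S17886

theorem exists_dense_affine {X : Scheme.{u}} [IsNoetherian X] (x : X) :
    ∃ U : X.Opens, IsAffineOpen U ∧ x ∈ U ∧ Dense (U : Set X) := by
  obtain ⟨_, ⟨U₀, hU₀, rfl⟩, hxU₀, -⟩ :=
    X.isBasis_affineOpens.exists_subset_of_mem_open (Set.mem_univ x) isOpen_univ
  have hN : NoetherianSpace X := inferInstance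
  have hwf : WellFounded ((· > ·) : X.Opens → X.Opens → Prop) := hN.wf
  obtain ⟨U, ⟨hU, hxU⟩, hmax⟩ := hwf.has_min {U : X.Opens | IsAffineOpen U ∧ x ∈ U} ⟨U₀, hU₀, hxU₀⟩
  refine ⟨U, hU, hxU, ?_⟩
  by_contra hd
  rw [dense_iff_closure_eq] at hd
  obtain ⟨y, hy⟩ : ∃ y, y ∉ closure (U : Set X) := by
    by_contra h
    push Not at h
    exact hd (Set.eq_univ_of_forall h)
  obtain ⟨_, ⟨V, hV, rfl⟩, hyV, hVc⟩ :=
    X.isBasis_affineOpens.exists_subset_of_mem_open (show y ∈ (closure (U : Set X))ᶜ from hy)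
      isClosed_closure.isOpen_compl
  have hdisj : U ⊓ V = ⊥ := by
    ext z
    simp only [Opens.coe_inf, Set.mem_inter_iff, SetLike.mem_coe, Opens.coe_bot, Set.mem_empty_iff_false,
      iff_false, not_and]
    intro hzU hzV
    exact hVc hzV (subset_closure hzU)
  have haff : IsAffineOpen (U ⊔ V) := hU.sup_of_disjoint hV (by rw [disjoint_iff]; exact hdisj)
  have hlt : U ⊔ V > U := by
    refine lt_of_le_of_ne le_sup_left ?_
    intro h
    have hyU : y ∈ U := by
      rw [h]
      exact Or.inr hyV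
    exact hy (subset_closure hyU)
  exact hmax (U ⊔ V) ⟨haff, Or.inl hxU⟩ hlt


theorem quasiProjective_of_affine {S X : Scheme.{u}} (f : X ⟶ S) [IsNoetherian S]
    [LocallyOfFiniteType f] (U : X.Opens) (hU : IsAffineOpen U) :
    RelProj.IsQuasiProjective (U.ι ≫ f) := by
  haveI : IsAffine (U : Scheme.{u}) := hU
  haveI : CompactSpace (U : Scheme.{u}) := inferInstance
  haveI : QuasiSeparatedSpace S := inferInstance
  haveI hqc : QuasiCompact (U.ι ≫ f) := inferInstance
  refine ⟨inferInstance, hqc, Coh.structureModule (U : Scheme.{u}), ?_⟩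
  rw [← Groth.Agent.S2337.result]
  refine ⟨hqc, fun V hV => ?_⟩
  haveI : CompactSpace (((U.ι ≫ f) ⁻¹ᵁ V : (U : Scheme.{u}).Opens) : Scheme.{u}) := by
    exact isCompact_iff_compactSpace.mp
      (QuasiCompact.isCompact_preimage (f := U.ι ≫ f) _ V.2 hV.isCompact)
  exact Scheme.IsQuasiAffine.of_isImmersion ((U.ι ≫ f) ⁻¹ᵁ V).ι


/-- Let S be a Noetherian scheme and f : X → S separated and of finite type. Then X is covered by
finitely many affine opens U_1, …, U_n each of which is dense in X and quasi-projective over S (of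
finite type with a relatively ample invertible module). -/
theorem result {S X : Scheme.{u}} (f : X ⟶ S)
    [IsNoetherian S] [IsSeparated f] [QuasiCompact f] [LocallyOfFiniteType f] :
    ∃ (n : ℕ) (U : Fin n → X.Opens), (⨆ i, U i) = ⊤ ∧
      ∀ i, IsAffineOpen (U i) ∧ Dense ((U i : Set X)) ∧ RelProj.IsQuasiProjective ((U i).ι ≫ f) := by
  haveI : IsLocallyNoetherian X := LocallyOfFiniteType.isLocallyNoetherian f
  haveI : CompactSpace X := QuasiCompact.compactSpace_of_compactSpace f
  haveI : IsNoetherian X := {}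
  choose W hWaff hxW hWd using fun x : X => exists_dense_affine x
  obtain ⟨T, hT⟩ := CompactSpace.elim_nhds_subcover (fun x => (W x : Set X))
    (fun x => (W x).isOpen.mem_nhds (hxW x))
  refine ⟨T.card, fun i => W (T.equivFin.symm i).1, ?_, fun i => ⟨hWaff _, hWd _, quasiProjective_of_affine f _ (hWaff _)⟩⟩
  rw [eq_top_iff]
  intro y _
  have hy : y ∈ ⋃ x ∈ T, (W x : Set X) := by rw [hT]; trivial
  obtain ⟨x, hxT, hyx⟩ := Set.mem_iUnion₂.1 hy
  rw [Opens.mem_iSup]
  refine ⟨T.equivFin ⟨x, hxT⟩, ?_⟩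
  simpa using hyx

end Groth.Agent.S17886
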