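import Groth.Statements.S18026
import Mathlib
import Groth.Agent.Lib.Helper3HenselE

set_option autoImplicit false
universe u
open Hensel

namespace Groth.Agent.S18026

open AlgebraicGeometry CategoryTheory in
/-- Let `A` be a henselian discrete valuation ring and `f : T ⟶ Spec A` an étale surjective morphism of
schemes. Then some open subscheme `U` of `T` is finite over `Spec A` and still maps onto it; in
particular `U → Spec A` is a finite étale cover sitting inside `T` as an open subscheme (étaleness
of the restriction is automatic, and surjectivity records that `U` meets the closed fibre). (The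
published statement asks for an open component of `T` finite étale over `Spec A`; when `T` is not
separated — two copies of `Spec A` glued along the generic point — no open and closed subset of `T`
is finite over `Spec A`, while the published proof constructs an open subscheme, the spectrum of the
local ring of `T` at a point of the closed fibre; so this row asks only for an open subscheme.) -/
theorem result
    (A : Type u) [CommRing A] [IsDomain A] [IsDiscreteValuationRing A] [HenselianLocalRing A]
    (T : Scheme.{u}) (f : T ⟶ Spec (CommRingCat.of A)) [Etale f] [Surjective f] :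
    ∃ U : T.Opens, IsFinite (U.ι ≫ f) ∧ Surjective (U.ι ≫ f) := by
  classical
  obtain ⟨t, ht⟩ := f.surjective (IsLocalRing.closedPoint A)
  obtain ⟨B, g, hg, htg, -⟩ :=
    Scheme.exists_affine_mem_range_and_range_subset (x := t) (U := ⊤) trivial
  obtain ⟨q, rfl⟩ := htg
  obtain ⟨φ, hφ⟩ : ∃ φ : CommRingCat.of A ⟶ B, Spec.map φ = g ≫ f :=
    ⟨Spec.preimage (g ≫ f), Spec.map_preimage _⟩
  have hEt : Etale (Spec.map φ) := by rw [hφ]; infer_instance
  have hφet : φ.hom.Etale := (HasRingHomProperty.Spec_iff (P := @Etale)).mp hEt
  algebraize [φ.hom]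
  have hq0 : (Spec.map φ) q = IsLocalRing.closedPoint A := by
    rw [hφ]; exact ht
  haveI hqp : q.asIdeal.IsPrime := q.isPrime
  haveI hlies : q.asIdeal.LiesOver (IsLocalRing.maximalIdeal A) := by
    constructor
    have := congrArg PrimeSpectrum.asIdeal hq0
    exact this.symm
  obtain ⟨e, he, heq, hfin, -⟩ :=
    Groth.Agent.Lib.Helper3.Hensel.exists_idempotent_of_quasiFiniteAt (R := A) (S := B) q.asIdeal
  haveI hloc := IsLocalization.Away.quotient_of_isIdempotentElem he
  let j : Spec (CommRingCat.of (B ⧸ Ideal.span {1 - e})) ⟶ Spec B :=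
    Spec.map (CommRingCat.ofHom (algebraMap B (B ⧸ Ideal.span {1 - e})))
  haveI hj : IsOpenImmersion j := IsOpenImmersion.of_isLocalization e
  have hkf : (j ≫ g) ≫ f = Spec.map (CommRingCat.ofHom (algebraMap A (B ⧸ Ideal.span {1 - e}))) := by
    rw [Category.assoc, ← hφ, ← Spec.map_comp]
    congr 1
  have hiso : (j ≫ g).opensRange.ι ≫ f = (j ≫ g).isoOpensRange.inv ≫ ((j ≫ g) ≫ f) := by
    rw [← Category.assoc, Scheme.Hom.isoOpensRange_inv_comp]
  refine ⟨(j ≫ g).opensRange, ?_, ?_⟩
  · haveI : IsFinite ((j ≫ g) ≫ f) := by
      rw [hkf, IsFinite.SpecMap_iff]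
      exact RingHom.finite_algebraMap.mpr hfin
    rw [hiso]
    infer_instance
  · rw [hiso]
    suffices hs : Surjective ((j ≫ g) ≫ f) by infer_instance
    have hopen : IsOpenMap ((j ≫ g) ≫ f) := ((j ≫ g) ≫ f).isOpenMap
    have hqj : q ∈ Set.range j := by
      have := PrimeSpectrum.localization_away_comap_range (B ⧸ Ideal.span {1 - e}) e
      change q ∈ Set.range (PrimeSpectrum.comap (algebraMap B (B ⧸ Ideal.span {1 - e})))
      rw [this]
      exact heq
    obtain ⟨c, rfl⟩ := hqj
    have hmem : IsLocalRing.closedPoint A ∈ Set.range ((j ≫ g) ≫ f) := ⟨c, by simpa using ht⟩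
    have hU : (⟨Set.range ((j ≫ g) ≫ f), hopen.isOpen_range⟩ :
        TopologicalSpace.Opens (PrimeSpectrum A)) = ⊤ :=
      (IsLocalRing.closedPoint_mem_iff _).mp hmem
    constructor
    intro y
    have : y ∈ (⟨Set.range ((j ≫ g) ≫ f), hopen.isOpen_range⟩ :
        TopologicalSpace.Opens (PrimeSpectrum A)) := by rw [hU]; trivial
    exact this

end Groth.Agent.S18026
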