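import Groth.Statements.S1831
import Groth.Agent.Lib.R2H1Herbrand

set_option autoImplicit false
universe u v
open CycAlg

namespace Groth.Agent.S1831

open Groth.Agent.Lib.R2H1.Herbrand

/-- If φ is an endomorphism of M with φ^n = 0 (n > 0) and ker φ / im φ^(n-1) has finite length, then for
each 0 ≤ i ≤ n the (2,1)-periodic complex (M, φ^i, φ^(n-i)) has finite-length cohomology modules and
its Herbrand quotient vanishes. -/
theorem result {R : Type u} [CommRing R] {M : Type v} [AddCommGroup M] [Module R M] (φ : M →ₗ[R] M) (n : ℕ) (hn : 0 < n) (hφ : φ ^ n = 0) (hfin : Module.length R (CycAlg.perH φ (φ ^ (n - 1))) < ⊤) (i : ℕ) (hi : i ≤ n) : CycAlg.FinCoh R (φ ^ i) (φ ^ (n - i)) ∧ CycAlg.herbrand R (φ ^ i) (φ ^ (n - i)) = 0 := by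
  have hfin' : rl (I φ (n - 1)) (K φ 1) < ⊤ := by
    have : K φ 1 = LinearMap.ker φ := by unfold K; rw [pow_one]
    unfold rl
    rw [this]
    exact hfin
  have h0 : Module.length R (CycAlg.perH (φ ^ i) (φ ^ (n - i))) = hh φ n i := rfl
  have h1 : Module.length R (CycAlg.perH (φ ^ (n - i)) (φ ^ i)) = hh φ n (n - i) := by
    have e : n - (n - i) = i := by omega
    unfold hh
    rw [e]
    rfl
  have hsymm := hh_symm hφ hn hfin' hi
  refine ⟨⟨?_, ?_⟩, ?_⟩
  · rw [h0]; exact hh_lt_top hφ hn hfin' i hi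
  · rw [h1]; exact hh_lt_top hφ hn hfin' (n - i) (by omega)
  · unfold CycAlg.herbrand
    rw [h0, h1, hsymm, sub_self]

end Groth.Agent.S1831
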