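import Groth.Statements.S18365
import Mathlib

set_option autoImplicit false
universe u
open CAlg

namespace Groth.Agent.S18365

section Helpers


variable {A : Type u} [CommRing A] {ι : Type} (𝔓 : ι → Ideal A) [∀ i, (𝔓 i).IsPrime]

/-- elements vanishing at the primes of `T` -/
noncomputable def KK (P : Type u) [AddCommGroup P] [Module A P] (T : Set ι) : Submodule A P :=
  ⨅ i ∈ T, LinearMap.ker (LocalizedModule.mkLinearMap (𝔓 i).primeCompl P)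

lemma mem_KK {P : Type u} [AddCommGroup P] [Module A P] (T : Set ι) (x : P) :
    x ∈ KK 𝔓 P T ↔ ∀ i ∈ T, ∃ s ∈ (𝔓 i).primeCompl, s • x = 0 := by
  simp only [KK, Submodule.mem_iInf, LocalizedModule.mem_ker_mkLinearMap_iff]

lemma KK_map {P Q : Type u} [AddCommGroup P] [Module A P] [AddCommGroup Q] [Module A Q]
    (g : P →ₗ[A] Q) (T : Set ι) (x : P) (hx : x ∈ KK 𝔓 P T) : g x ∈ KK 𝔓 Q T := by
  rw [mem_KK] at hx ⊢
  intro i hi
  obtain ⟨s, hs, h⟩ := hx i hi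
  exact ⟨s, hs, by rw [← map_smul, h, map_zero]⟩

lemma KK_inf_compl (P : Type u) [AddCommGroup P] [Module A P] (T : Set ι) :
    KK 𝔓 P T ⊓ KK 𝔓 P Tᶜ = KK 𝔓 P Set.univ := by
  unfold KK
  rw [← iInf_union, Set.union_compl_self]

variable (π : A) {M : Type u} [AddCommGroup M] [Module A M]

lemma mem_I_iff (P : Type u) [AddCommGroup P] [Module A P] (x : P) :
    x ∈ Ideal.span {π} • (⊤ : Submodule A P) ↔ ∃ y : P, x = π • y := by
  rw [Submodule.ideal_span_singleton_smul, Submodule.mem_smul_pointwise_iff_exists]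
  constructor
  · rintro ⟨y, -, rfl⟩
    exact ⟨y, rfl⟩
  · rintro ⟨y, rfl⟩
    exact ⟨y, Submodule.mem_top, rfl⟩


/-- `π P` -/
abbrev Ism (P : Type u) [AddCommGroup P] [Module A P] : Submodule A P :=
  Ideal.span {π} • (⊤ : Submodule A P)

/-- the preimage `N(Y)` -/
noncomputable abbrev NN (M : Type u) [AddCommGroup M] [Module A M] (Y : Set ι) : Submodule A M :=
  (KK 𝔓 (M ⧸ Ism π M) Y).comap (Submodule.mkQ (Ism π M))

/-- the natural map `N(Y)/πN(Y) → M/πM` -/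
noncomputable def gmap (Y : Set ι) : (↥(NN 𝔓 π M Y) ⧸ Ism π ↥(NN 𝔓 π M Y)) →ₗ[A] (M ⧸ Ism π M) :=
  Submodule.mapQ _ _ (NN 𝔓 π M Y).subtype (by
    intro x hx
    rw [mem_I_iff] at hx
    obtain ⟨y, rfl⟩ := hx
    rw [Submodule.mem_comap, map_smul, mem_I_iff]
    exact ⟨_, rfl⟩)

lemma gmap_mk (Y : Set ι) (n : ↥(NN 𝔓 π M Y)) :
    gmap 𝔓 π Y (Submodule.Quotient.mk n) = Submodule.Quotient.mk (n : M) := rfl

lemma smul_pi_mk (m : M) : (Submodule.Quotient.mk (π • m) : M ⧸ Ism π M) = 0 := by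
  rw [Submodule.Quotient.mk_eq_zero, mem_I_iff]
  exact ⟨m, rfl⟩

/-- the key claim for the second case -/
lemma claim (hπ : ∀ m : M, π • m = 0 → m = 0) (Y T : Set ι)
    (α : ↥(NN 𝔓 π M Y)) (α₁ : M) (hα : (α : M) = π • α₁)
    (ha : (Submodule.Quotient.mk α : ↥(NN 𝔓 π M Y) ⧸ Ism π ↥(NN 𝔓 π M Y)) ∈ KK 𝔓 _ T)
    (u v : M ⧸ Ism π M) (hu : u ∈ KK 𝔓 _ Y) (hv : v ∈ KK 𝔓 _ Yᶜ)
    (huv : (Submodule.Quotient.mk α₁ : M ⧸ Ism π M) = u + v) : v ∈ KK 𝔓 _ T := by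
  rw [mem_KK]
  intro i hi
  by_cases hiY : i ∈ Y
  · rw [mem_KK] at ha hu
    obtain ⟨s, hs, h⟩ := ha i hi
    rw [← Submodule.Quotient.mk_smul, Submodule.Quotient.mk_eq_zero, mem_I_iff] at h
    obtain ⟨n₂, hn₂⟩ := h
    have h2 : s • α₁ = (n₂ : M) := by
      have h3 := congrArg (fun z : ↥(NN 𝔓 π M Y) => (z : M)) hn₂
      simp only [Submodule.coe_smul, hα] at h3
      rw [← sub_eq_zero]
      apply hπ
      rw [smul_sub, sub_eq_zero, ← h3, smul_comm]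
    have h4 : (Submodule.Quotient.mk (n₂ : M) : M ⧸ Ism π M) ∈ KK 𝔓 _ Y := n₂.2
    rw [mem_KK] at h4
    obtain ⟨s', hs', h5⟩ := h4 i hiY
    obtain ⟨s'', hs'', h6⟩ := hu i hiY
    refine ⟨s'' * s' * s, Submonoid.mul_mem _ (Submonoid.mul_mem _ hs'' hs') hs, ?_⟩
    have hv' : v = Submodule.Quotient.mk α₁ - u := by rw [huv]; abel
    rw [hv', smul_sub]
    have e1 : (s'' * s' * s) • (Submodule.Quotient.mk α₁ : M ⧸ Ism π M) = 0 := by
      rw [mul_smul, ← Submodule.Quotient.mk_smul _ s, h2, mul_smul, h5, smul_zero]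
    have e2 : (s'' * s' * s) • u = 0 := by
      rw [mul_assoc, mul_comm, mul_smul, h6, smul_zero]
    rw [e1, e2, sub_zero]
  · rw [mem_KK] at hv
    exact hv i hiY


theorem main (hπ : ∀ m : M, π • m = 0 → m = 0)
    (htf : KK 𝔓 (M ⧸ Ism π M) Set.univ = ⊥) (Y Z : Set ι)
    (hY : KK 𝔓 (M ⧸ Ism π M) Y ⊔ KK 𝔓 (M ⧸ Ism π M) Yᶜ = ⊤)
    (hZ : KK 𝔓 (↥(NN 𝔓 π M Y) ⧸ Ism π ↥(NN 𝔓 π M Y)) Z ⊔
      KK 𝔓 (↥(NN 𝔓 π M Y) ⧸ Ism π ↥(NN 𝔓 π M Y)) Zᶜ = ⊤) :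
    KK 𝔓 (M ⧸ Ism π M) Z ⊔ KK 𝔓 (M ⧸ Ism π M) Zᶜ = ⊤ := by
  rw [eq_top_iff]
  intro x _
  have hx : x ∈ KK 𝔓 (M ⧸ Ism π M) Y ⊔ KK 𝔓 (M ⧸ Ism π M) Yᶜ := by rw [hY]; trivial
  obtain ⟨y, hy, y', hy', rfl⟩ := Submodule.mem_sup.mp hx
  refine Submodule.add_mem _ ?_ ?_
  · -- case A
    obtain ⟨m, rfl⟩ := Submodule.Quotient.mk_surjective _ y
    let n : ↥(NN 𝔓 π M Y) := ⟨m, hy⟩
    have hn : (Submodule.Quotient.mk n : ↥(NN 𝔓 π M Y) ⧸ Ism π ↥(NN 𝔓 π M Y)) ∈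
        KK 𝔓 _ Z ⊔ KK 𝔓 _ Zᶜ := by rw [hZ]; trivial
    obtain ⟨a, ha, b, hb, hab⟩ := Submodule.mem_sup.mp hn
    have h1 := congrArg (gmap 𝔓 π Y) hab
    rw [map_add, gmap_mk] at h1
    change gmap 𝔓 π Y a + gmap 𝔓 π Y b = Submodule.Quotient.mk m at h1
    rw [← h1]
    exact Submodule.add_mem _ (Submodule.mem_sup_left (KK_map 𝔓 _ Z a ha))
      (Submodule.mem_sup_right (KK_map 𝔓 _ Zᶜ b hb))
  · -- case B
    obtain ⟨m, rfl⟩ := Submodule.Quotient.mk_surjective _ y'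
    have hpm : π • m ∈ NN 𝔓 π M Y := by
      change (Submodule.Quotient.mk (π • m) : M ⧸ Ism π M) ∈ KK 𝔓 _ Y
      rw [smul_pi_mk]
      exact Submodule.zero_mem _
    let n : ↥(NN 𝔓 π M Y) := ⟨π • m, hpm⟩
    have hn : (Submodule.Quotient.mk n : ↥(NN 𝔓 π M Y) ⧸ Ism π ↥(NN 𝔓 π M Y)) ∈
        KK 𝔓 _ Z ⊔ KK 𝔓 _ Zᶜ := by rw [hZ]; trivial
    obtain ⟨a, ha, b, hb, hab⟩ := Submodule.mem_sup.mp hn
    obtain ⟨α, rfl⟩ := Submodule.Quotient.mk_surjective _ a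
    obtain ⟨β, rfl⟩ := Submodule.Quotient.mk_surjective _ b
    have h1 := congrArg (gmap 𝔓 π Y) hab
    rw [map_add, gmap_mk, gmap_mk, gmap_mk] at h1
    change (Submodule.Quotient.mk (α : M) : M ⧸ Ism π M) + Submodule.Quotient.mk (β : M) =
      Submodule.Quotient.mk (π • m) at h1
    rw [smul_pi_mk] at h1
    have hga : (Submodule.Quotient.mk (α : M) : M ⧸ Ism π M) ∈ KK 𝔓 _ Z := by
      have := KK_map 𝔓 (gmap 𝔓 π Y) Z _ ha
      rwa [gmap_mk] at this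
    have hgb : (Submodule.Quotient.mk (β : M) : M ⧸ Ism π M) ∈ KK 𝔓 _ Zᶜ := by
      have := KK_map 𝔓 (gmap 𝔓 π Y) Zᶜ _ hb
      rwa [gmap_mk] at this
    have hbot : KK 𝔓 (M ⧸ Ism π M) Z ⊓ KK 𝔓 (M ⧸ Ism π M) Zᶜ = ⊥ := by
      rw [KK_inf_compl, htf]
    have hbotY : KK 𝔓 (M ⧸ Ism π M) Y ⊓ KK 𝔓 (M ⧸ Ism π M) Yᶜ = ⊥ := by
      rw [KK_inf_compl, htf]
    have hα0 : (Submodule.Quotient.mk (α : M) : M ⧸ Ism π M) = 0 := by
      have hmem : (Submodule.Quotient.mk (α : M) : M ⧸ Ism π M) ∈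
          KK 𝔓 (M ⧸ Ism π M) Z ⊓ KK 𝔓 (M ⧸ Ism π M) Zᶜ := by
        refine ⟨hga, ?_⟩
        have : (Submodule.Quotient.mk (α : M) : M ⧸ Ism π M) =
            -(Submodule.Quotient.mk (β : M) : M ⧸ Ism π M) := eq_neg_of_add_eq_zero_left h1
        rw [this]
        exact Submodule.neg_mem _ hgb
      rw [hbot] at hmem
      exact (Submodule.mem_bot _).mp hmem
    have hβ0 : (Submodule.Quotient.mk (β : M) : M ⧸ Ism π M) = 0 := by
      rw [hα0, zero_add] at h1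
      exact h1
    rw [Submodule.Quotient.mk_eq_zero, mem_I_iff] at hα0 hβ0
    obtain ⟨α₁, hα₁⟩ := hα0
    obtain ⟨β₁, hβ₁⟩ := hβ0
    -- α + β - n ∈ π N(Y)
    have h2 : α + β - n ∈ Ism π ↥(NN 𝔓 π M Y) := by
      rw [← Submodule.Quotient.mk_eq_zero, Submodule.Quotient.mk_sub, Submodule.Quotient.mk_add,
        hab, sub_self]
    rw [mem_I_iff] at h2
    obtain ⟨n₁, hn₁⟩ := h2
    have h3 : m = α₁ + β₁ - (n₁ : M) := by
      have h4 := congrArg (fun z : ↥(NN 𝔓 π M Y) => (z : M)) hn₁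
      simp only [Submodule.coe_smul, Submodule.coe_sub, Submodule.coe_add, hα₁, hβ₁, n] at h4
      rw [← sub_eq_zero]
      apply hπ
      rw [smul_sub, smul_sub, smul_add, ← h4]
      abel
    -- decompose
    have hxa : (Submodule.Quotient.mk α₁ : M ⧸ Ism π M) ∈
        KK 𝔓 (M ⧸ Ism π M) Y ⊔ KK 𝔓 (M ⧸ Ism π M) Yᶜ := by rw [hY]; trivial
    have hxb : (Submodule.Quotient.mk β₁ : M ⧸ Ism π M) ∈
        KK 𝔓 (M ⧸ Ism π M) Y ⊔ KK 𝔓 (M ⧸ Ism π M) Yᶜ := by rw [hY]; trivial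
    obtain ⟨u₁, hu₁, v₁, hv₁, huv₁⟩ := Submodule.mem_sup.mp hxa
    obtain ⟨u₂, hu₂, v₂, hv₂, huv₂⟩ := Submodule.mem_sup.mp hxb
    have hv₁Z := claim 𝔓 π hπ Y Z α α₁ hα₁ ha u₁ v₁ hu₁ hv₁ huv₁.symm
    have hv₂Z := claim 𝔓 π hπ Y Zᶜ β β₁ hβ₁ hb u₂ v₂ hu₂ hv₂ huv₂.symm
    have hn₁Y : (Submodule.Quotient.mk (n₁ : M) : M ⧸ Ism π M) ∈ KK 𝔓 _ Y := n₁.2
    have hfin : (Submodule.Quotient.mk m : M ⧸ Ism π M) = v₁ + v₂ := by
      have hmem : (Submodule.Quotient.mk m : M ⧸ Ism π M) - (v₁ + v₂) ∈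
          KK 𝔓 (M ⧸ Ism π M) Y ⊓ KK 𝔓 (M ⧸ Ism π M) Yᶜ := by
        constructor
        · have : (Submodule.Quotient.mk m : M ⧸ Ism π M) - (v₁ + v₂) =
              u₁ + u₂ - Submodule.Quotient.mk (n₁ : M) := by
            rw [h3, Submodule.Quotient.mk_sub, Submodule.Quotient.mk_add, ← huv₁, ← huv₂]
            abel
          rw [this]
          exact Submodule.sub_mem _ (Submodule.add_mem _ hu₁ hu₂) hn₁Y
        · exact Submodule.sub_mem _ hy' (Submodule.add_mem _ hv₁ hv₂)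
      rw [hbotY] at hmem
      exact sub_eq_zero.mp ((Submodule.mem_bot _).mp hmem)
    rw [hfin]
    exact Submodule.add_mem _ (Submodule.mem_sup_left hv₁Z) (Submodule.mem_sup_right hv₂Z)


end Helpers

/-- Let A be a Noetherian ring, π an element of A, (𝔓_i)_{i ∈ ι} an injective finite family listing
exactly the minimal prime ideals over (π), and M a finitely generated A-module on which π acts
injectively; put M̄ = M/πM. For T ⊆ ι let K(T) ⊆ M̄ be the submodule of elements whose image in the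
localisation of M̄ at 𝔓_i vanishes for every i ∈ T, and N(T) ⊆ M its preimage; assume K(ι) = 0.
Suppose that M̄ decomposes at Y, i.e. K(Y) + K(Yᶜ) = M̄, and that for a subset Z the module
N(Y)/πN(Y) decomposes at Z, i.e. its submodule of elements vanishing at every 𝔓_i (i ∈ Z) and its
submodule of elements vanishing at every 𝔓_i (i ∉ Z) together span it. Then M̄ decomposes at Z: K(Z)
+ K(Zᶜ) = M̄. (Geometric meaning: for a flat family of curves over a discrete valuation ring with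
uniformizer π, I a torsion-free rank-one sheaf flat over the base, Y a subcurve of the special fibre
X(s) at which I(s) decomposes and I^Y = ker(I → I(s)_Y): if I^Y(s) decomposes at a subcurve Z then
so does I(s); decomposition of a sheaf at Z is the surjectivity of I(s) → I(s)_Z ⊕ I(s)_{Z^c},
checked on stalks. Reducedness of the special fibre and rank one are not used.) -/
theorem result
    (A : Type u) [CommRing A] [IsNoetherianRing A] (π : A)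
    (ι : Type) [Finite ι] (𝔓 : ι → Ideal A) [∀ i, (𝔓 i).IsPrime]
    (h𝔓 : ∀ i, 𝔓 i ∈ (Ideal.span {π}).minimalPrimes) (h𝔓inj : Function.Injective 𝔓)
    (h𝔓surj : ∀ 𝔔 ∈ (Ideal.span {π}).minimalPrimes, ∃ i, 𝔓 i = 𝔔)
    (M : Type u) [AddCommGroup M] [Module A M] [Module.Finite A M]
    (hπ : ∀ m : M, π • m = 0 → m = 0)
    (K : Set ι → Submodule A (M ⧸ Ideal.span {π} • (⊤ : Submodule A M)))
    (hK : ∀ T : Set ι, K T = ⨅ i ∈ T, LinearMap.ker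
      (LocalizedModule.mkLinearMap (𝔓 i).primeCompl (M ⧸ Ideal.span {π} • (⊤ : Submodule A M))))
    (htf : K Set.univ = ⊥)
    (N : Set ι → Submodule A M)
    (hN : ∀ T : Set ι, N T = (K T).comap (Submodule.mkQ (Ideal.span {π} • (⊤ : Submodule A M))))
    (Y Z : Set ι) (hY : K Y ⊔ K Yᶜ = ⊤)
    (K' : Set ι → Submodule A (↥(N Y) ⧸ Ideal.span {π} • (⊤ : Submodule A ↥(N Y))))
    (hK' : ∀ T : Set ι, K' T = ⨅ i ∈ T, LinearMap.ker
      (LocalizedModule.mkLinearMap (𝔓 i).primeCompl (↥(N Y) ⧸ Ideal.span {π} • (⊤ : Submodule A ↥(N Y)))))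
    (hZ : K' Z ⊔ K' Zᶜ = ⊤) :
    K Z ⊔ K Zᶜ = ⊤ := by
  have eK : K = fun T => KK 𝔓 _ T := funext hK
  subst eK
  have eN : N = fun T => NN 𝔓 π M T := funext hN
  subst eN
  have eK' : K' = fun T => KK 𝔓 _ T := funext hK'
  subst eK'
  exact main 𝔓 π hπ htf Y Z hY hZ

end Groth.Agent.S18365
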