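import Groth.Statements.S18366
import Mathlib
import Groth.Agent.Lib.R2H4GeomRedPts
import Groth.Agent.Lib.Helper11SepPts

set_option autoImplicit false
universe u
open CategoryTheory CategoryTheory.Limits AlgebraicGeometry
open Variety

namespace Groth.Agent.S18366

/-- Let k be a separably closed field and X a non-empty k-scheme of finite type which is geometrically
reduced. Then X has a k-rational point, i.e. the structure morphism admits a section. (Non-emptiness
is part of the hypotheses: the empty scheme is geometrically reduced of finite type and has no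
point. The published statement does not assume X non-empty; this row does, since the empty scheme
has no rational point.) -/
theorem result (k : Type u) [Field k] [IsSepClosed k]
    {X : Scheme.{u}} (f : X ⟶ Spec (CommRingCat.of k)) [LocallyOfFiniteType f] [QuasiCompact f] [GeometricallyReduced f]
    [Nonempty X] :
    ∃ s : Spec (CommRingCat.of k) ⟶ X, s ≫ f = 𝟙 (Spec (CommRingCat.of k)) := by
  have : Subsingleton ↥(Spec (CommRingCat.of k)) := inferInstanceAs (Subsingleton (PrimeSpectrum k))
  haveI hfp : LocallyOfFinitePresentation f := inferInstance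
  have hd := Groth.Agent.Lib.R2H4.GeomRedPts.dense_smoothLocus f
  obtain ⟨x, hx⟩ : ∃ x : X, x ∈ f.smoothLocus := by
    obtain ⟨x₀⟩ := ‹Nonempty X›
    obtain ⟨x, -, hx⟩ := (dense_iff_inter_open.mp hd) Set.univ isOpen_univ ⟨x₀, trivial⟩
    exact ⟨x, hx⟩
  obtain ⟨U, hU⟩ : ∃ U : X.Opens, U = f.smoothLocus := ⟨_, rfl⟩
  have hsm : Smooth (U.ι ≫ f) := by
    rw [← Scheme.Hom.smoothLocus_eq_top_iff, ← Scheme.Hom.preimage_smoothLocus_eq, eq_top_iff, hU]
    intro y _
    exact y.2
  let XU : Over (Spec (CommRingCat.of k)) := Over.mk (U.ι ≫ f)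
  haveI : Smooth XU.hom := hsm
  obtain ⟨p, -⟩ := Groth.Agent.Lib.Helper11SepPts.exists_point_mem_open k k (X := XU) ⊤
    (⟨x, hU ▸ hx⟩ : U) trivial
  have hp : p.left ≫ (U.ι ≫ f) = Spec.map (CommRingCat.ofHom (algebraMap k k)) := Over.w p
  refine ⟨p.left ≫ U.ι, ?_⟩
  rw [Category.assoc, hp]
  have : CommRingCat.ofHom (algebraMap k k) = 𝟙 _ := rfl
  rw [this, Spec.map_id]

end Groth.Agent.S18366
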