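import Groth.Statements.S18399
import Mathlib
-- import your own Groth.Agent.* helpers here

set_option autoImplicit false
universe u
open CAlg

namespace Groth.Agent.S18399

section Avg

variable {k : Type u} [Field k] {A : Type u} [CommRing A] [Algebra k A]

/-- the averaging operator -/
noncomputable def avg (σ : A →ₐ[k] A) (n : ℕ) : A →ₗ[k] A :=
  (n : k)⁻¹ • ∑ i ∈ Finset.range n, (σ ^ i).toLinearMap

lemma avg_apply (σ : A →ₐ[k] A) (n : ℕ) (a : A) :
    avg σ n a = (n : k)⁻¹ • ∑ i ∈ Finset.range n, (⇑σ)^[i] a := by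
  simp [avg, LinearMap.sum_apply]

lemma shift_sum (σ : A →ₐ[k] A) (n : ℕ) (a : A) (hσ : (⇑σ)^[n] a = a) :
    ∑ i ∈ Finset.range n, (⇑σ)^[i + 1] a = ∑ i ∈ Finset.range n, (⇑σ)^[i] a := by
  have h1 := Finset.sum_range_succ (fun i => (⇑σ)^[i] a) n
  have h2 := Finset.sum_range_succ' (fun i => (⇑σ)^[i] a) n
  simp only [Function.iterate_zero, id_eq] at h2
  rw [h1, hσ] at h2
  exact (add_right_cancel h2).symm

lemma sigma_avg (σ : A →ₐ[k] A) (n : ℕ) (hσ : ∀ a : A, (⇑σ)^[n] a = a) (a : A) :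
    σ (avg σ n a) = avg σ n a := by
  rw [avg_apply, map_smul, map_sum]
  congr 1
  rw [← shift_sum σ n a (hσ a)]
  refine Finset.sum_congr rfl fun i _ => ?_
  rw [Function.iterate_succ_apply']

lemma avg_sigma (σ : A →ₐ[k] A) (n : ℕ) (hσ : ∀ a : A, (⇑σ)^[n] a = a) (a : A) :
    avg σ n (σ a) = avg σ n a := by
  rw [avg_apply, avg_apply]
  congr 1
  rw [← shift_sum σ n a (hσ a)]
  refine Finset.sum_congr rfl fun i _ => ?_
  rw [Function.iterate_succ_apply]

lemma avg_of_fixed (σ : A →ₐ[k] A) (n : ℕ) (hn : (n : k) ≠ 0) (a : A) (ha : σ a = a) :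
    avg σ n a = a := by
  rw [avg_apply]
  have : ∀ i, (⇑σ)^[i] a = a := fun i => Function.iterate_fixed ha i
  simp only [this, Finset.sum_const, Finset.card_range]
  rw [← Nat.cast_smul_eq_nsmul k, smul_smul, inv_mul_cancel₀ hn, one_smul]

lemma avg_mem (σ : A →ₐ[k] A) (n : ℕ) (K : Ideal A) (hK : ∀ x ∈ K, σ x ∈ K) (x : A)
    (hx : x ∈ K) : avg σ n x ∈ K := by
  rw [avg_apply, Algebra.smul_def]
  have h : ∀ i : ℕ, (⇑σ)^[i] x ∈ K := by
    intro i
    induction i with
    | zero => simpa using hx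
    | succ i ih => rw [Function.iterate_succ_apply']; exact hK _ ih
  exact K.mul_mem_left _ (K.sum_mem fun i _ => h i)

lemma sub_iter_mem (σ : A →ₐ[k] A) (a : A) (i : ℕ) :
    a - (⇑σ)^[i] a ∈ Ideal.span (Set.range fun a : A => a - σ a) := by
  induction i with
  | zero => simp
  | succ i ih =>
    rw [Function.iterate_succ_apply']
    have : a - σ ((⇑σ)^[i] a) = (a - (⇑σ)^[i] a) + ((⇑σ)^[i] a - σ ((⇑σ)^[i] a)) := by ring
    rw [this]
    exact Ideal.add_mem _ ih (Ideal.subset_span ⟨_, rfl⟩)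

lemma sub_avg_mem (σ : A →ₐ[k] A) (n : ℕ) (hn : (n : k) ≠ 0) (a : A) :
    a - avg σ n a ∈ Ideal.span (Set.range fun a : A => a - σ a) := by
  have h : a - avg σ n a = (n : k)⁻¹ • ∑ i ∈ Finset.range n, (a - (⇑σ)^[i] a) := by
    rw [avg_apply, Finset.sum_sub_distrib, smul_sub]
    congr 1
    simp only [Finset.sum_const, Finset.card_range]
    rw [← Nat.cast_smul_eq_nsmul k, smul_smul, inv_mul_cancel₀ hn, one_smul]
  rw [h, Algebra.smul_def]
  exact Ideal.mul_mem_left _ _ (Ideal.sum_mem _ fun i _ => sub_iter_mem σ a i)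

end Avg

theorem result {k : Type u} [Field k] {A : Type u} [CommRing A] [Algebra k A] [IsRegularLocalRing A] (hres : Function.Surjective ⇑(algebraMap k (IsLocalRing.ResidueField A))) (σ : A →ₐ[k] A) (n : ℕ) (hσ : ∀ a : A, (⇑σ)^[n] a = a) (hn : (n : k) ≠ 0) : ∃ (m : ℕ) (f : Fin m → ↥(IsLocalRing.maximalIdeal A)), Ideal.span (Set.range fun i : Fin m => (f i : A)) = Ideal.span (Set.range fun a : A => a - σ a) ∧ LinearIndependent (IsLocalRing.ResidueField A) (fun i : Fin m => (IsLocalRing.maximalIdeal A).toCotangent (f i)) := by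
  classical
  set 𝔪 := IsLocalRing.maximalIdeal A with h𝔪
  set I : Ideal A := Ideal.span (Set.range fun a : A => a - σ a) with hI
  set π := avg σ n with hπ
  have hn1 : 0 < n := Nat.pos_of_ne_zero (by rintro rfl; simp at hn)
  -- σ is local
  have hσm : ∀ x ∈ 𝔪, σ x ∈ 𝔪 := by
    intro x hx
    rw [h𝔪, IsLocalRing.mem_maximalIdeal, mem_nonunits_iff] at hx ⊢
    intro hu
    apply hx
    have h1 : (⇑σ)^[n - 1] (σ x) = x := by
      rw [← Function.iterate_succ_apply, Nat.succ_eq_add_one, Nat.sub_add_cancel hn1]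
      exact hσ x
    rw [← h1, ← AlgHom.coe_pow]
    exact hu.map _
  -- decomposition a = t + x
  have hdec : ∀ a : A, ∃ t : k, a - algebraMap k A t ∈ 𝔪 := by
    intro a
    obtain ⟨t, ht⟩ := hres (IsLocalRing.residue A a)
    refine ⟨t, ?_⟩
    rw [h𝔪, ← IsLocalRing.residue_eq_zero_iff, map_sub, ← ht, sub_eq_zero]
    exact (IsScalarTower.algebraMap_apply k A (IsLocalRing.ResidueField A) t)
  have hS : ∀ a : A, a - σ a ∈ 𝔪 := by
    intro a
    obtain ⟨t, ht⟩ := hdec a
    have h1 : a - σ a = (a - algebraMap k A t) - σ (a - algebraMap k A t) := by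
      rw [map_sub, AlgHom.commutes]; ring
    rw [h1]
    exact 𝔪.sub_mem ht (hσm _ ht)
  have hI𝔪 : I ≤ 𝔪 := Ideal.span_le.mpr (by rintro _ ⟨a, rfl⟩; exact hS a)
  have hσI : ∀ x ∈ I, σ x ∈ I := by
    intro x hx
    refine Submodule.span_induction ?_ ?_ ?_ ?_ hx
    · rintro _ ⟨a, rfl⟩
      rw [map_sub]
      exact Ideal.subset_span ⟨σ a, rfl⟩
    · simp
    · intro x y _ _ hx hy
      rw [map_add]
      exact I.add_mem hx hy
    · intro c x _ hx
      rw [smul_eq_mul, map_mul]
      exact I.mul_mem_left _ hx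
  have hσmI : ∀ x ∈ 𝔪 * I, σ x ∈ 𝔪 * I := by
    intro x hx
    refine Submodule.mul_induction_on hx ?_ ?_
    · intro a ha b hb
      rw [map_mul]
      exact Ideal.mul_mem_mul (hσm a ha) (hσI b hb)
    · intro a b ha hb
      rw [map_add]
      exact Ideal.add_mem _ ha hb
  -- key lemma
  have key : ∀ w ∈ 𝔪 ^ 2, w - π w ∈ 𝔪 * I := by
    intro w hw
    rw [pow_two] at hw
    refine Submodule.mul_induction_on hw ?_ ?_
    · intro x hx y hy
      have hx0 : π x ∈ 𝔪 := avg_mem σ n 𝔪 hσm x hx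
      have hx' : x - π x ∈ I := sub_avg_mem σ n hn x
      have hy' : y - π y ∈ I := sub_avg_mem σ n hn y
      have hfix : π (π x * π y) = π x * π y :=
        avg_of_fixed σ n hn _ (by rw [map_mul, sigma_avg σ n hσ, sigma_avg σ n hσ])
      have hzmem : x * y - π x * π y ∈ 𝔪 * I := by
        have h1 : x * y - π x * π y = π x * (y - π y) + y * (x - π x) := by ring
        rw [h1]
        exact Ideal.add_mem _ (Ideal.mul_mem_mul hx0 hy') (Ideal.mul_mem_mul hy hx')
      have h2 : x * y - π (x * y) = (x * y - π x * π y) - π (x * y - π x * π y) := by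
        rw [map_sub, hfix]; ring
      rw [h2]
      exact Ideal.sub_mem _ hzmem (avg_mem σ n _ hσmI _ hzmem)
    · intro a b ha hb
      have h1 : a + b - π (a + b) = (a - π a) + (b - π b) := by rw [map_add]; ring
      rw [h1]
      exact Ideal.add_mem _ ha hb
  -- choose a basis among the classes of the generators
  let v : A → IsLocalRing.CotangentSpace A := fun a => 𝔪.toCotangent ⟨a - σ a, hS a⟩
  obtain ⟨κ', a', -, hspan, hli⟩ := exists_linearIndependent' (IsLocalRing.ResidueField A) v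
  have : Finite κ' := hli.finite
  obtain ⟨r, ⟨e⟩⟩ := Finite.exists_equiv_fin κ'
  let f : Fin r → 𝔪 := fun i => ⟨a' (e.symm i) - σ (a' (e.symm i)), hS _⟩
  refine ⟨r, f, ?_, ?_⟩
  · apply le_antisymm
    · exact Ideal.span_le.mpr (by rintro _ ⟨i, rfl⟩; exact Ideal.subset_span ⟨_, rfl⟩)
    · set J := Ideal.span (Set.range fun i : Fin r => (f i : A)) with hJ
      apply Submodule.le_of_le_smul_of_le_jacobson_bot (I := 𝔪) (IsNoetherian.noetherian _)
        (IsLocalRing.jacobson_eq_maximalIdeal _ bot_ne_top).ge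
      rw [smul_eq_mul]
      apply Ideal.span_le.mpr
      rintro _ ⟨a, rfl⟩
      have hmem : v a ∈ Submodule.span (IsLocalRing.ResidueField A) (Set.range (v ∘ a')) := by
        rw [hspan]
        exact Submodule.subset_span ⟨a, rfl⟩
      have hrange : Set.range (v ∘ a') = Set.range (fun i : Fin r => 𝔪.toCotangent (f i)) := by
        ext x
        constructor
        · rintro ⟨j, rfl⟩
          exact ⟨e j, by simp [f, v]⟩
        · rintro ⟨i, rfl⟩
          exact ⟨e.symm i, rfl⟩
      rw [hrange, Submodule.mem_span_range_iff_exists_fun] at hmem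
      obtain ⟨c, hc⟩ := hmem
      choose t ht using fun i => hres (c i)
      set w := (a - σ a) - ∑ i, algebraMap k A (t i) * (f i : A) with hw
      have hwm : w ∈ 𝔪 :=
        𝔪.sub_mem (hS a) (𝔪.sum_mem fun i _ => 𝔪.mul_mem_left _ (f i).2)
      have hw2 : w ∈ 𝔪 ^ 2 := by
        rw [← Ideal.toCotangent_eq_zero 𝔪 ⟨w, hwm⟩]
        have h1 : (⟨w, hwm⟩ : 𝔪) = ⟨a - σ a, hS a⟩ - ∑ i, algebraMap k A (t i) • f i := by
          ext
          simp only [hw, Submodule.coe_sub, Submodule.coe_sum, Submodule.coe_smul, smul_eq_mul]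
        rw [h1, map_sub, map_sum, sub_eq_zero]
        refine hc.symm.trans ?_
        refine Finset.sum_congr rfl fun i _ => ?_
        rw [map_smul, ← ht i, IsScalarTower.algebraMap_apply k A (IsLocalRing.ResidueField A),
          algebraMap_smul]
      have hπw : π w = 0 := by
        have h1 : π (a - σ a) = 0 := by rw [map_sub, avg_sigma σ n hσ, sub_self]
        rw [hw, map_sub, h1, map_sum, zero_sub, neg_eq_zero]
        refine Finset.sum_eq_zero fun i _ => ?_
        rw [← Algebra.smul_def, map_smul]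
        have h2 : π (f i : A) = 0 := by
          simp only [f]
          rw [map_sub, avg_sigma σ n hσ, sub_self]
        rw [h2, smul_zero]
      have hkw := key w hw2
      rw [hπw, sub_zero] at hkw
      have h3 : a - σ a = ∑ i, algebraMap k A (t i) * (f i : A) + w := by rw [hw]; ring
      show a - σ a ∈ J ⊔ 𝔪 * I
      rw [h3]
      exact Submodule.add_mem_sup
        (Ideal.sum_mem _ fun i _ => Ideal.mul_mem_left _ _ (Ideal.subset_span ⟨i, rfl⟩)) hkw
  · have h1 : (fun i : Fin r => 𝔪.toCotangent (f i)) = (v ∘ a') ∘ e.symm := rfl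
    rw [h1]
    exact hli.comp _ e.symm.injective

end Groth.Agent.S18399
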