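import Groth.Statements.S18434
import Mathlib

set_option autoImplicit false
universe u
open SpinCurv

namespace Groth.Agent.S18434

section Helpers


open SpinCurv MvPowerSeries

variable {k : Type u} [Field k] (u v : ℕ)

/-- index monomials -/
noncomputable def mon : Fin u ⊕ Fin (v - 1) → (Fin 2 →₀ ℕ)
  | Sum.inl i => Finsupp.single 0 (i : ℕ)
  | Sum.inr j => Finsupp.single 1 ((j : ℕ) + 1)

lemma mon_injective : Function.Injective (mon u v) := by
  intro a b h
  rcases a with i | j <;> rcases b with i' | j'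
  · simp only [mon] at h
    have := congrArg (fun d => d 0) h
    simp only [Finsupp.single_eq_same] at this
    exact congrArg Sum.inl (Fin.ext this)
  · simp only [mon] at h
    have := congrArg (fun d => d 1) h
    simp at this
  · simp only [mon] at h
    have := congrArg (fun d => d 1) h
    simp at this
  · simp only [mon] at h
    have := congrArg (fun d => d 1) h
    simp only [Finsupp.single_eq_same, add_left_inj] at this
    exact congrArg Sum.inr (Fin.ext this)

/-- coefficient extraction -/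
noncomputable def Lam : MvPowerSeries (Fin 2) k →ₗ[k] (Fin u ⊕ Fin (v - 1) → k) :=
  LinearMap.pi fun t => MvPowerSeries.coeff (mon u v t)

lemma Lam_apply (f : MvPowerSeries (Fin 2) k) (t : Fin u ⊕ Fin (v - 1)) :
    Lam u v f t = MvPowerSeries.coeff (mon u v t) f := rfl

/-- a power series from its coefficient function -/
def ofFun (g : (Fin 2 →₀ ℕ) → k) : MvPowerSeries (Fin 2) k := g

lemma coeff_ofFun (g : (Fin 2 →₀ ℕ) → k) (d : Fin 2 →₀ ℕ) :
    MvPowerSeries.coeff d (ofFun g) = g d := rfl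

lemma Lam_surjective : Function.Surjective (Lam (k := k) u v) := by
  classical
  intro c
  refine ⟨ofFun fun d => ∑ t, if mon u v t = d then c t else 0, ?_⟩
  funext t'
  rw [Lam_apply, coeff_ofFun]
  rw [Finset.sum_eq_single t']
  · simp
  · intro t _ ht
    rw [if_neg (fun h => ht (mon_injective u v h))]
  · intro h
    exact absurd (Finset.mem_univ _) h

variable (w : k)

/-- the big ideal upstairs -/
noncomputable def Kid : Ideal (MvPowerSeries (Fin 2) k) :=
  Ideal.span {(X 0 * X 1 - C 0 : MvPowerSeries (Fin 2) k), X 0 ^ u, C w * X 1 ^ v}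

lemma fin2_le_iff (n d : Fin 2 →₀ ℕ) : n ≤ d ↔ n 0 ≤ d 0 ∧ n 1 ≤ d 1 := by
  rw [Finsupp.le_def, Fin.forall_fin_two]

lemma gen1_eq : (X 0 * X 1 - C 0 : MvPowerSeries (Fin 2) k) =
    monomial (Finsupp.single 0 1 + Finsupp.single 1 1) 1 := by
  rw [map_zero, sub_zero, X_def, X_def, monomial_mul_monomial, one_mul]

lemma gen3_eq : (C w * X 1 ^ v : MvPowerSeries (Fin 2) k) = monomial (Finsupp.single 1 v) w := by
  rw [X_pow_eq, ← monomial_zero_eq_C_apply, monomial_mul_monomial, zero_add, mul_one]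

lemma Kid_le_ker (hu : 1 ≤ u) (hv : 1 ≤ v) (f : MvPowerSeries (Fin 2) k) (hf : f ∈ Kid u v w) :
    Lam u v f = 0 := by
  classical
  unfold Kid at hf
  rw [Ideal.mem_span_insert] at hf
  obtain ⟨a, z, hz, rfl⟩ := hf
  rw [Ideal.mem_span_insert] at hz
  obtain ⟨b, z', hz', rfl⟩ := hz
  rw [Ideal.mem_span_singleton'] at hz'
  obtain ⟨c, rfl⟩ := hz'
  funext t
  rw [Lam_apply, gen1_eq, gen3_eq, X_pow_eq, map_add, map_add, coeff_mul_monomial, coeff_mul_monomial,
    coeff_mul_monomial]
  rcases t with i | j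
  · have hi := i.2
    rw [if_neg, if_neg, if_neg]
    · simp
    · rw [fin2_le_iff]; simp [mon] <;> try omega
    · rw [fin2_le_iff]; simp [mon] <;> try omega
    · rw [fin2_le_iff]; simp [mon]
  · have hj := j.2
    rw [if_neg, if_neg, if_neg]
    · simp
    · rw [fin2_le_iff]; simp [mon] <;> try omega
    · rw [fin2_le_iff]; simp [mon] <;> try omega
    · rw [fin2_le_iff]; simp [mon]

lemma fin2_eq_single_zero (d : Fin 2 →₀ ℕ) (h : d 1 = 0) : d = Finsupp.single 0 (d 0) := by
  ext i
  fin_cases i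
  · simp
  · simpa using h

lemma fin2_eq_single_one (d : Fin 2 →₀ ℕ) (h : d 0 = 0) : d = Finsupp.single 1 (d 1) := by
  ext i
  fin_cases i
  · simpa using h
  · simp

lemma ker_le_Kid (hu : 1 ≤ u) (hv : 1 ≤ v) (hw : w ≠ 0) (f : MvPowerSeries (Fin 2) k) (hf : Lam u v f = 0) :
    f ∈ Kid u v w := by
  classical
  have hu0 : u ≠ 0 := by omega
  have hv0 : v ≠ 0 := by omega
  set g₁ : MvPowerSeries (Fin 2) k :=
    ofFun fun d => MvPowerSeries.coeff (d + (Finsupp.single 0 1 + Finsupp.single 1 1)) f with hg₁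
  set g₂ : MvPowerSeries (Fin 2) k :=
    ofFun fun d => if d 1 = 0 then MvPowerSeries.coeff (d + Finsupp.single 0 u) f else 0 with hg₂
  set g₃ : MvPowerSeries (Fin 2) k :=
    ofFun fun d => if d 0 = 0 then MvPowerSeries.coeff (d + Finsupp.single 1 v) f else 0 with hg₃
  have hdecomp : f = g₁ * (X 0 * X 1 - C 0) + g₂ * X 0 ^ u + (C w⁻¹ * g₃) * (C w * X 1 ^ v) := by
    have h3 : (C w⁻¹ * g₃) * (C w * X 1 ^ v) = g₃ * (X 1 ^ v : MvPowerSeries (Fin 2) k) := by
      have : (C w⁻¹ * C w : MvPowerSeries (Fin 2) k) = 1 := by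
        rw [← map_mul, inv_mul_cancel₀ hw, map_one]
      calc (C w⁻¹ * g₃) * (C w * X 1 ^ v) = (C w⁻¹ * C w) * (g₃ * X 1 ^ v) := by ring
        _ = g₃ * X 1 ^ v := by rw [this, one_mul]
    rw [h3, gen1_eq, X_pow_eq, X_pow_eq]
    ext d
    rw [map_add, map_add, coeff_mul_monomial, coeff_mul_monomial, coeff_mul_monomial]
    simp only [mul_one, hg₁, hg₂, hg₃, coeff_ofFun, fin2_le_iff]
    simp only [Finsupp.coe_add, Pi.add_apply, Finsupp.single_eq_same, Finsupp.coe_tsub, Pi.sub_apply]
    by_cases hb : d 1 = 0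
    · -- d = (a, 0)
      have hd := fin2_eq_single_zero d hb
      by_cases ha : u ≤ d 0
      · have hle : Finsupp.single 0 u ≤ d := by rw [fin2_le_iff]; simp [ha]
        simp [hb, ha, hv0, tsub_add_cancel_of_le hle]
      · have h0 : MvPowerSeries.coeff d f = 0 := by
          have := congrFun hf (Sum.inl ⟨d 0, by omega⟩)
          rw [Lam_apply] at this
          simp only [mon] at this
          rw [← hd] at this
          exact this
        simp [hb, ha, hv0, h0]
    · by_cases ha0 : d 0 = 0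
      · -- d = (0, b), b ≥ 1
        have hd := fin2_eq_single_one d ha0
        by_cases hbv : v ≤ d 1
        · have hle : Finsupp.single 1 v ≤ d := by rw [fin2_le_iff]; simp [hbv]
          simp [ha0, hbv, hu0, tsub_add_cancel_of_le hle]
        · have h0 : MvPowerSeries.coeff d f = 0 := by
            have := congrFun hf (Sum.inr ⟨d 1 - 1, by omega⟩)
            rw [Lam_apply] at this
            simp only [mon] at this
            rw [show d 1 - 1 + 1 = d 1 by omega, ← hd] at this
            exact this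
          simp [ha0, hbv, hu0, h0]
      · -- a ≥ 1, b ≥ 1
        have hle : Finsupp.single 0 1 + Finsupp.single 1 1 ≤ d := by
          rw [fin2_le_iff]
          simp
          omega
        have h1 : 1 ≤ d 0 := by omega
        have h2 : 1 ≤ d 1 := by omega
        simp [hb, ha0, h1, h2, tsub_add_cancel_of_le hle]
  rw [hdecomp]
  unfold Kid
  refine Ideal.add_mem _ (Ideal.add_mem _ (Ideal.mul_mem_left _ _ ?_) (Ideal.mul_mem_left _ _ ?_))
    (Ideal.mul_mem_left _ _ ?_)
  · exact Ideal.subset_span (by simp)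
  · exact Ideal.subset_span (by simp)
  · exact Ideal.subset_span (by simp)

theorem main (hu : 1 ≤ u) (hv : 1 ≤ v) (hw : w ≠ 0) :
    Module.finrank k (SpinCurv.NodeRing k 0 ⧸
      Ideal.span {SpinCurv.NodeRing.x k 0 ^ u,
        algebraMap k (SpinCurv.NodeRing k 0) w * SpinCurv.NodeRing.y k 0 ^ v}) = u + v - 1 := by
  set I : Ideal (MvPowerSeries (Fin 2) k) :=
    Ideal.span {(X 0 * X 1 - C 0 : MvPowerSeries (Fin 2) k)} with hI
  set J' : Ideal (MvPowerSeries (Fin 2) k) :=
    Ideal.span {(X 0 ^ u : MvPowerSeries (Fin 2) k), C w * X 1 ^ v} with hJ'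
  have hJ : Ideal.span {SpinCurv.NodeRing.x k 0 ^ u,
      algebraMap k (SpinCurv.NodeRing k 0) w * SpinCurv.NodeRing.y k 0 ^ v} =
      J'.map (Ideal.Quotient.mkₐ k I) := by
    rw [hJ', Ideal.map_span, Set.image_pair]
    congr 2
  have hsup : I ⊔ J' = Kid u v w := by
    rw [hI, hJ', Kid, ← Ideal.span_union, Set.singleton_union]
  have hker : (I ⊔ J').restrictScalars k = LinearMap.ker (Lam (k := k) u v) := by
    ext f
    rw [Submodule.restrictScalars_mem, hsup, LinearMap.mem_ker]
    exact ⟨Kid_le_ker u v w hu hv f, ker_le_Kid u v w hu hv hw f⟩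
  let e0 := Ideal.quotientEquivAlgOfEq k hJ
  let e1 := DoubleQuot.quotQuotEquivQuotSupₐ k I J'
  let e2 := (Submodule.Quotient.restrictScalarsEquiv k (I ⊔ J')).symm
  let e3 := Submodule.quotEquivOfEq _ _ hker
  let e4 := (Lam (k := k) u v).quotKerEquivOfSurjective (Lam_surjective u v)
  have e : (SpinCurv.NodeRing k 0 ⧸
      Ideal.span {SpinCurv.NodeRing.x k 0 ^ u,
        algebraMap k (SpinCurv.NodeRing k 0) w * SpinCurv.NodeRing.y k 0 ^ v}) ≃ₗ[k]
      (Fin u ⊕ Fin (v - 1) → k) :=
    e0.toLinearEquiv ≪≫ₗ e1.toLinearEquiv ≪≫ₗ e2 ≪≫ₗ e3 ≪≫ₗ e4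
  rw [e.finrank_eq, Module.finrank_fintype_fun_eq_card, Fintype.card_sum, Fintype.card_fin,
    Fintype.card_fin]
  omega


end Helpers


/-- Let k be a field, u, v ≥ 1 integers and w ∈ k nonzero. In the ring A = k[[x, y]]/(xy), the quotient
A/(x^u, w y^v) has dimension u + v - 1 over k (a basis is 1, x, …, x^{u-1}, y, …, y^{v-1}); this is
the length of the cokernel at the node of a map whose image is generated by x^u and w y^v. -/
theorem result (k : Type u) [Field k] (u v : ℕ) (hu : 1 ≤ u) (hv : 1 ≤ v)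
    (w : k) (hw : w ≠ 0) :
    Module.finrank k (SpinCurv.NodeRing k 0 ⧸
      Ideal.span {SpinCurv.NodeRing.x k 0 ^ u, algebraMap k (SpinCurv.NodeRing k 0) w * SpinCurv.NodeRing.y k 0 ^ v}) =
      u + v - 1 := by
  exact main u v w hu hv hw

end Groth.Agent.S18434
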