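import Groth.Statements.S18435
import Mathlib

set_option autoImplicit false
universe u
open SpinCurv

namespace Groth.Agent.S18435

section Helpers


open SpinCurv

variable {k : Type u} [Field k]

lemma coeff_toLaurent_nat (f : Polynomial k) (n : ℕ) :
    (Polynomial.toLaurent f).coeff (n : ℤ) = f.coeff n := by
  rw [LaurentPolynomial.coeff_toLaurent]
  have : ((n : ℕ) : ℤ) = Nat.castEmbedding (R := ℤ) n := rfl
  rw [this, Finsupp.mapDomain_apply Nat.castEmbedding.injective]
  rfl

lemma coeff_toLaurent_neg (f : Polynomial k) (n : ℤ) (hn : n < 0) :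
    (Polynomial.toLaurent f).coeff n = 0 := by
  rw [LaurentPolynomial.coeff_toLaurent]
  apply Finsupp.mapDomain_of_notMem_range
  rintro ⟨m, hm⟩
  have : (m : ℤ) = n := hm
  omega

lemma coeff_T_mul (f : LaurentPolynomial k) (a n : ℤ) :
    (LaurentPolynomial.T a * f).coeff n = f.coeff (n - a) := by
  unfold LaurentPolynomial.T
  rw [AddMonoidAlgebra.coeff_single_mul_apply, one_mul]
  congr 1
  ring

/-- the key Laurent polynomial fact -/
lemma laurent_key (G F : Polynomial k)
    (h : LaurentPolynomial.T 1 * Polynomial.toLaurent G =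
      LaurentPolynomial.invert (Polynomial.toLaurent F)) : G = 0 ∧ F = 0 := by
  constructor
  · ext n
    have := congrArg (fun z => z.coeff ((n : ℤ) + 1)) h
    simp only [coeff_T_mul, LaurentPolynomial.invert_apply, add_sub_cancel_right] at this
    rw [coeff_toLaurent_nat, coeff_toLaurent_neg _ _ (by omega)] at this
    simpa using this
  · ext n
    have := congrArg (fun z => z.coeff (-(n : ℤ))) h
    simp only [coeff_T_mul, LaurentPolynomial.invert_apply, neg_neg] at this
    rw [coeff_toLaurent_nat, coeff_toLaurent_neg _ _ (by omega)] at this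
    simpa using this.symm

/-- the defining ideal -/
noncomputable abbrev I0 : Ideal (MvPolynomial (Fin 2) k) :=
  Ideal.span {(MvPolynomial.X 0 * MvPolynomial.X 1 - MvPolynomial.C 0 : MvPolynomial (Fin 2) k)}

/-- quotient map -/
noncomputable abbrev mk0 : MvPolynomial (Fin 2) k →+* PolyNodeRing k 0 := Ideal.Quotient.mk _

lemma xy_zero : PolyNodeRing.x k 0 * PolyNodeRing.y k 0 = 0 := by
  rw [← map_mul, Ideal.Quotient.eq_zero_iff_mem]
  have hmem : (MvPolynomial.X 0 * MvPolynomial.X 1 - MvPolynomial.C 0 : MvPolynomial (Fin 2) k) ∈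
      Ideal.span {(MvPolynomial.X 0 * MvPolynomial.X 1 - MvPolynomial.C 0 :
        MvPolynomial (Fin 2) k)} := Ideal.subset_span rfl
  have h0 : (MvPolynomial.X 0 * MvPolynomial.X 1 - MvPolynomial.C 0 : MvPolynomial (Fin 2) k) =
      MvPolynomial.X 0 * MvPolynomial.X 1 := by simp
  rw [h0] at hmem
  convert hmem using 2
  rw [h0]

/-- Lemma A -/
lemma exists_of_y_mul_eq_zero (a : PolyNodeRing k 0) (h : PolyNodeRing.y k 0 * a = 0) :
    ∃ Q : MvPolynomial (Fin 2) k, a = PolyNodeRing.x k 0 * mk0 Q := by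
  obtain ⟨P, rfl⟩ := Ideal.Quotient.mk_surjective a
  rw [← map_mul, Ideal.Quotient.eq_zero_iff_mem, Ideal.mem_span_singleton] at h
  obtain ⟨Q, hQ⟩ := h
  refine ⟨Q, ?_⟩
  rw [← map_mul]
  congr 1
  have hX1 : (MvPolynomial.X 1 : MvPolynomial (Fin 2) k) ≠ 0 := MvPolynomial.X_ne_zero 1
  apply mul_left_cancel₀ hX1
  rw [hQ]
  simp only [map_zero, sub_zero]
  ring

/-- evaluation `X₀ ↦ X`, `X₁ ↦ 0` -/
noncomputable def ev : MvPolynomial (Fin 2) k →ₐ[k] Polynomial k :=
  MvPolynomial.aeval ![Polynomial.X, 0]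

/-- inclusion `X ↦ X₀` -/
noncomputable def inc : Polynomial k →ₐ[k] MvPolynomial (Fin 2) k :=
  Polynomial.aeval (MvPolynomial.X 0)

/-- Lemma B -/
lemma x_mul_mk (Q : MvPolynomial (Fin 2) k) :
    PolyNodeRing.x k 0 * mk0 Q = PolyNodeRing.x k 0 * mk0 (inc (ev Q)) := by
  induction Q using MvPolynomial.induction_on with
  | C c =>
    simp [ev, inc]
  | add P Q hP hQ =>
    simp only [map_add, mul_add, hP, hQ]
  | mul_X Q i hQ =>
    fin_cases i
    · have h1 : ev (Q * MvPolynomial.X (0 : Fin 2)) = ev Q * Polynomial.X := by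
        simp [ev]
      have h2 : inc (ev Q * Polynomial.X) = inc (ev Q) * MvPolynomial.X (0 : Fin 2) := by
        simp [inc]
      simp only [Fin.zero_eta, h1, h2, map_mul]
      rw [← mul_assoc, hQ, mul_assoc]
    · have h1 : ev (Q * MvPolynomial.X (1 : Fin 2)) = 0 := by
        simp [ev]
      simp only [Fin.mk_one, h1, map_zero, mul_zero, map_mul]
      have := xy_zero (k := k)
      calc PolyNodeRing.x k 0 * (mk0 Q * mk0 (MvPolynomial.X 1))
          = (PolyNodeRing.x k 0 * PolyNodeRing.y k 0) * mk0 Q := by ring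
        _ = 0 := by rw [this, zero_mul]

lemma alg_inc (φ : PolyNodeRing k 0 →ₐ[k] LaurentPolynomial k) (G : Polynomial k) (a : ℤ)
    (hφ : φ (PolyNodeRing.x k 0) = LaurentPolynomial.T a) :
    φ (mk0 (inc G)) = Polynomial.aeval (LaurentPolynomial.T a : LaurentPolynomial k) G := by
  have h : (φ.comp ((Ideal.Quotient.mkₐ k _).comp inc)) =
      Polynomial.aeval (LaurentPolynomial.T a : LaurentPolynomial k) := by
    apply Polynomial.algHom_ext
    simp only [AlgHom.comp_apply, inc, Polynomial.aeval_X, Ideal.Quotient.mkₐ_eq_mk]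
    exact hφ
  have := congrArg (fun ψ => ψ G) h
  simpa using this

lemma aeval_T_one (G : Polynomial k) :
    Polynomial.aeval (LaurentPolynomial.T 1 : LaurentPolynomial k) G = Polynomial.toLaurent G := by
  have h : Polynomial.aeval (LaurentPolynomial.T 1 : LaurentPolynomial k) =
      (Polynomial.toLaurentAlg : Polynomial k →ₐ[k] LaurentPolynomial k) := by
    apply Polynomial.algHom_ext
    simp
  rw [h]
  rfl

lemma aeval_T_neg_one (G : Polynomial k) :
    Polynomial.aeval (LaurentPolynomial.T (-1) : LaurentPolynomial k) G =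
      LaurentPolynomial.invert (Polynomial.toLaurent G) := by
  have h : Polynomial.aeval (LaurentPolynomial.T (-1) : LaurentPolynomial k) =
      (LaurentPolynomial.invert : LaurentPolynomial k ≃ₐ[k] LaurentPolynomial k).toAlgHom.comp
        (Polynomial.toLaurentAlg : Polynomial k →ₐ[k] LaurentPolynomial k) := by
    apply Polynomial.algHom_ext
    simp
  rw [h]
  rfl

theorem main
    (gU : PolyNodeRing k 0 →ₐ[k] LaurentPolynomial k)
    (hgUs : gU (PolyNodeRing.x k 0) = LaurentPolynomial.T 1)
    (gV : PolyNodeRing k 0 →ₐ[k] LaurentPolynomial k)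
    (hgVt : gV (PolyNodeRing.x k 0) = LaurentPolynomial.T (-1))
    (g f : PolyNodeRing k 0) (hsec : gU g = LaurentPolynomial.T 1 * gV f)
    (hg : PolyNodeRing.y k 0 * g = 0) (hf : PolyNodeRing.y k 0 * f = 0) :
    g = 0 ∧ f = 0 := by
  obtain ⟨Qg, rfl⟩ := exists_of_y_mul_eq_zero g hg
  obtain ⟨Qf, rfl⟩ := exists_of_y_mul_eq_zero f hf
  rw [x_mul_mk Qg, x_mul_mk Qf] at hsec ⊢
  rw [map_mul, map_mul, hgUs, hgVt, alg_inc gU _ 1 hgUs, alg_inc gV _ (-1) hgVt, aeval_T_one,
    aeval_T_neg_one, ← mul_assoc, ← LaurentPolynomial.T_add] at hsec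
  simp only [add_neg_cancel, LaurentPolynomial.T_zero, one_mul] at hsec
  obtain ⟨h1, h2⟩ := laurent_key _ _ hsec
  rw [h1, h2]
  simp


end Helpers


/-- Let k be a field and A = k[x, y]/(xy) the node, with the two affine charts U = Spec k[s, y]/(sy) and
V = Spec k[t, x]/(tx) of the curve obtained by the (p, q)-construction with p = q = 0, glued along
k[s, s⁻¹] by t = s⁻¹ (y ↦ 0 from U, x ↦ 0 from V), and with A → O(U) given by x ↦ 0, y ↦ y and A →
O(V) by x ↦ x, y ↦ 0. A global section of O(1) is a pair (g, f) with g = s f on U ∩ V. If such a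
pair is annihilated by both x and y (acting through the two restriction maps), then g = 0 and f = 0;
so the module of global sections of O(1) has no nonzero element killed by the maximal ideal (x, y),
i.e. its direct image on the node is torsion-free there. All three coordinate rings are written as
the quotient of the polynomial ring in two variables by the product of the variables, and the four
restriction homomorphisms are k-algebra maps pinned by their values on generators. (The published
proof reduces the torsion-freeness of the direct image of O(1), for general R, p, q, to exactly this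
case of a field with p = q = 0.) -/
theorem result (k : Type u) [Field k]
    (rU : SpinCurv.PolyNodeRing k 0 →ₐ[k] SpinCurv.PolyNodeRing k 0)
    (hrUx : rU (SpinCurv.PolyNodeRing.x k 0) = 0)
    (hrUy : rU (SpinCurv.PolyNodeRing.y k 0) = SpinCurv.PolyNodeRing.y k 0)
    (rV : SpinCurv.PolyNodeRing k 0 →ₐ[k] SpinCurv.PolyNodeRing k 0)
    (hrVx : rV (SpinCurv.PolyNodeRing.x k 0) = SpinCurv.PolyNodeRing.y k 0)
    (hrVy : rV (SpinCurv.PolyNodeRing.y k 0) = 0)
    (gU : SpinCurv.PolyNodeRing k 0 →ₐ[k] LaurentPolynomial k)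
    (hgUs : gU (SpinCurv.PolyNodeRing.x k 0) = LaurentPolynomial.T 1)
    (hgUy : gU (SpinCurv.PolyNodeRing.y k 0) = 0)
    (gV : SpinCurv.PolyNodeRing k 0 →ₐ[k] LaurentPolynomial k)
    (hgVt : gV (SpinCurv.PolyNodeRing.x k 0) = LaurentPolynomial.T (-1))
    (hgVx : gV (SpinCurv.PolyNodeRing.y k 0) = 0)
    (g f : SpinCurv.PolyNodeRing k 0) (hsec : gU g = LaurentPolynomial.T 1 * gV f)
    (hx : rU (SpinCurv.PolyNodeRing.x k 0) * g = 0 ∧ rV (SpinCurv.PolyNodeRing.x k 0) * f = 0)
    (hy : rU (SpinCurv.PolyNodeRing.y k 0) * g = 0 ∧ rV (SpinCurv.PolyNodeRing.y k 0) * f = 0) :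
    g = 0 ∧ f = 0 := by
  have hg : PolyNodeRing.y k 0 * g = 0 := by
    have := hy.1
    rwa [hrUy] at this
  have hf : PolyNodeRing.y k 0 * f = 0 := by
    have := hx.2
    rwa [hrVx] at this
  exact main gU hgUs gV hgVt g f hsec hg hf

end Groth.Agent.S18435
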