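import Groth.Statements.S18451
import Mathlib
import Groth.Agent.Lib.H9NegDefGeo

set_option autoImplicit false
universe u
open CategoryTheory CategoryTheory.Limits AlgebraicGeometry TopologicalSpace
open Surf

namespace Groth.Agent.S18451

/-- Let k be an algebraically closed field of characteristic zero and X a smooth projective surface over
k (integral, proper and smooth over k, of dimension 2, carrying an ample invertible module). Let
C_1, …, C_r be pairwise distinct integral curves on X (integral closed one-dimensional subschemes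
with ideal sheaves I_1, …, I_r) and write G_{ij} = (I_i·I_j) = χ(O_X) − χ(I_i) − χ(I_j) + χ(I_i ⊗
I_j) for their intersection matrix. Suppose the classes of the C_i span a negative definite
sublattice modulo numerical equivalence: for every integer vector a such that Σ_i a_i [C_i] is
numerically nontrivial, meaning that Σ_i a_i (I_i·M) ≠ 0 for some invertible O_X-module M, one has
Σ_{i,j} a_i a_j G_{ij} < 0. Then the classes are linearly independent, i.e. G itself is negative
definite: Σ_{i,j} a_i a_j G_{ij} < 0 for every nonzero integer vector a. -/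
theorem result (k : Type u) [Field k] [IsAlgClosed k] [CharZero k]
    (X : Scheme.{u}) [X.Over (Spec (CommRingCat.of k))] [IsProper (X ↘ (Spec (CommRingCat.of k)))]
    [Smooth (X ↘ (Spec (CommRingCat.of k)))] [IsIntegral X] (hdim : topologicalKrullDim X = 2)
    (hproj : ∃ H : X.Modules, CohB1.IsAmple H)
    (r : ℕ) (C : Fin r → X.IdealSheafData) (hC : Function.Injective C)
    (hCi : ∀ i, IsIntegral (C i).subscheme) (hCd : ∀ i, topologicalKrullDim ((C i).support : Set X) = 1)
    (hneg : ∀ a : Fin r → ℤ,
      (∃ M : X.Modules, PicF.IsInvertible M ∧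
        ∑ i, a i * FGA.intNum k X 2 ![(ClSub.idealMod (C i)), M] (Coh.structureModule X) ≠ 0) →
      ∑ i, ∑ j, a i * a j * FGA.intNum k X 2 ![(ClSub.idealMod (C i)), (ClSub.idealMod (C j))] (Coh.structureModule X) < 0) :
    ∀ a : Fin r → ℤ, a ≠ 0 →
      ∑ i, ∑ j, a i * a j * FGA.intNum k X 2 ![(ClSub.idealMod (C i)), (ClSub.idealMod (C j))] (Coh.structureModule X) < 0 := by
  classical
  open Groth.Agent.Lib.H9NegDefGeo Groth.Agent.Lib.H9NegDefAlg in
  haveI : ∀ i, IsIntegral (C i).subscheme := hCi
  have hCart : ∀ i, BlowUp.IsEffCartierIdeal (C i) := fun i =>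
    isEffCartier_curve k hdim (C i) (hCd i)
  have hInv : ∀ i, PicF.IsInvertible (ClSub.idealMod (C i)) := fun i =>
    Groth.Agent.Helper18Cart.isInvertible_of_isEffCartier (C i) (hCart i)
  obtain ⟨H, hH⟩ := hproj
  obtain ⟨M₀, hM₀, ⟨e⟩⟩ := Groth.Agent.Lib.R2H1.InvExists.exists_inverse H hH.1
  let G : Fin r → Fin r → ℤ := fun i j =>
    FGA.intNum k X 2 ![(ClSub.idealMod (C i)), (ClSub.idealMod (C j))] (Coh.structureModule X)
  have hsymm : ∀ i j, G i j = G j i := fun i j => intNum_comm k hdim _ _
  have hoff : ∀ i j, i ≠ j → 0 ≤ G i j := fun i j hij =>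
    gram_offdiag_nonneg k hdim (C i) (C j) (hCd i) (hCd j) (fun h => hij (hC h))
  let h : Fin r → ℤ := fun i =>
    FGA.intNum k X 2 ![(ClSub.idealMod (C i)), M₀] (Coh.structureModule X)
  have hh : ∀ i, 0 < h i := fun i =>
    intNum_pos_of_dim_one k hdim (C i) (hCart i) (hCd i) H M₀ hH e
  let w : {M : X.Modules // PicF.IsInvertible M} → Fin r → ℤ := fun M i =>
    FGA.intNum k X 2 ![(ClSub.idealMod (C i)), M.1] (Coh.structureModule X)
  have key := negDef_of_negDef_on_nontrivial G w hsymm hoff
    (fun j => ⟨⟨ClSub.idealMod (C j), hInv j⟩, fun i => rfl⟩) h hh ⟨⟨M₀, hM₀⟩, fun i => rfl⟩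
    (fun a ⟨M, hM⟩ => hneg a ⟨M.1, M.2, hM⟩)
  exact key


end Groth.Agent.S18451
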