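import Groth.Statements.S18463
import Mathlib
import Groth.Agent.Lib.H9NegDefGeo

set_option autoImplicit false
universe u
open CategoryTheory CategoryTheory.Limits AlgebraicGeometry TopologicalSpace
open Surf

namespace Groth.Agent.S18463

/-- Let k be an algebraically closed field of characteristic zero and X a smooth projective surface over
k (integral, proper and smooth over k, of dimension 2, carrying an ample invertible module). Let
C_1, …, C_r be pairwise distinct integral curves on X with ideal sheaves I_i and negative definite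
intersection matrix (Σ_{i,j} a_i a_j (I_i·I_j) < 0 for every nonzero integer vector a, where (A·B) =
χ(O_X) − χ(A) − χ(B) + χ(A ⊗ B)), let F be an effective Cartier divisor on X, with ideal I_F, none
of whose components is a C_i, and let s_1, …, s_r be integers such that F is numerically equivalent
to Σ_i s_i C_i: (I_F·M) = Σ_i s_i (I_i·M) for every invertible O_X-module M (equivalently (F·D) = Σ
s_i (C_i·D) for every divisor D). Then F = 0, i.e. I_F = O_X, and every s_i is 0. The published
statement writes the hypothesis as [F] + Σ s_i[C_i] = 0 with real s_i; this row writes F ≡ Σ s_i C_i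
with integer s_i, which is the same after changing the signs of the s_i. -/
theorem result (k : Type u) [Field k] [IsAlgClosed k] [CharZero k]
    (X : Scheme.{u}) [X.Over (Spec (CommRingCat.of k))] [IsProper (X ↘ (Spec (CommRingCat.of k)))]
    [Smooth (X ↘ (Spec (CommRingCat.of k)))] [IsIntegral X] (hdim : topologicalKrullDim X = 2)
    (hproj : ∃ H : X.Modules, CohB1.IsAmple H)
    (r : ℕ) (C : Fin r → X.IdealSheafData) (hC : Function.Injective C)
    (hCi : ∀ i, IsIntegral (C i).subscheme) (hCd : ∀ i, topologicalKrullDim ((C i).support : Set X) = 1)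
    (hneg : ∀ a : Fin r → ℤ, a ≠ 0 →
      ∑ i, ∑ j, a i * a j * FGA.intNum k X 2 ![(ClSub.idealMod (C i)), (ClSub.idealMod (C j))] (Coh.structureModule X) < 0)
    (F : X.IdealSheafData) (hF : FGA.IsEffCartier F) (hFC : ∀ i, ¬ ((C i).support : Set X) ⊆ (F.support : Set X))
    (s : Fin r → ℤ)
    (hnum : ∀ M : X.Modules, PicF.IsInvertible M →
      FGA.intNum k X 2 ![(ClSub.idealMod F), M] (Coh.structureModule X) =
        ∑ i, s i * FGA.intNum k X 2 ![(ClSub.idealMod (C i)), M] (Coh.structureModule X)) :
    F = ⊤ ∧ ∀ i, s i = 0 := by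
  classical
  open Groth.Agent.Lib.H9NegDefGeo Groth.Agent.Lib.H9NegDefAlg in
  haveI : ∀ i, IsIntegral (C i).subscheme := hCi
  have hCart : ∀ i, BlowUp.IsEffCartierIdeal (C i) := fun i =>
    isEffCartier_curve k hdim (C i) (hCd i)
  have hInv : ∀ i, PicF.IsInvertible (ClSub.idealMod (C i)) := fun i =>
    Groth.Agent.Helper18Cart.isInvertible_of_isEffCartier (C i) (hCart i)
  obtain ⟨H, hH⟩ := hproj
  obtain ⟨M₀, hM₀, ⟨e⟩⟩ := Groth.Agent.Lib.R2H1.InvExists.exists_inverse H hH.1
  let G : Fin r → Fin r → ℤ := fun i j =>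
    FGA.intNum k X 2 ![(ClSub.idealMod (C i)), (ClSub.idealMod (C j))] (Coh.structureModule X)
  have hsymm : ∀ i j, G i j = G j i := fun i j => intNum_comm k hdim _ _
  have hoff : ∀ i j, i ≠ j → 0 ≤ G i j := fun i j hij =>
    gram_offdiag_nonneg k hdim (C i) (C j) (hCd i) (hCd j) (fun h => hij (hC h))
  let h : Fin r → ℤ := fun i =>
    FGA.intNum k X 2 ![(ClSub.idealMod (C i)), M₀] (Coh.structureModule X)
  have hh : ∀ i, 0 < h i := fun i =>
    intNum_pos_of_dim_one k hdim (C i) (hCart i) (hCd i) H M₀ hH e
  have hFc : BlowUp.IsEffCartierIdeal F := hF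
  let f : Fin r → ℤ := fun j =>
    FGA.intNum k X 2 ![(ClSub.idealMod F), (ClSub.idealMod (C j))] (Coh.structureModule X)
  have hf : ∀ j, 0 ≤ f j := fun j => by
    show 0 ≤ FGA.intNum k X 2 ![(ClSub.idealMod F), (ClSub.idealMod (C j))]
      (Coh.structureModule X)
    rw [intNum_comm k hdim]
    exact intNum_nonneg_of_finite k hdim (C j) F (hCart j) hFc
      (finite_inter k hdim (C j) (hCd j) _ F.support.isClosed (hFC j))
  have hs : ∀ j, f j = ∑ i, s i * G i j := fun j => hnum _ (hInv j)
  obtain ⟨ht0, htop⟩ := intNum_cartier_nonneg k hdim F hFc H M₀ hH e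
  have hts : FGA.intNum k X 2 ![(ClSub.idealMod F), M₀] (Coh.structureModule X) =
      ∑ i, s i * h i := hnum M₀ hM₀
  obtain ⟨hs0, ht⟩ := zero_of_numTrivial G hsymm hoff hneg f hf s hs h hh _ ht0 hts
  exact ⟨htop ht, hs0⟩


end Groth.Agent.S18463
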