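import Groth.Statements.S18464
import Mathlib

set_option autoImplicit false
universe u
open CategoryTheory CategoryTheory.Limits AlgebraicGeometry
open LefPen

namespace Groth.Agent.S18464

section Helpers


open MvPolynomial

variable (k : Type u) [Field k]

lemma form_eq_span (r d : ℕ) :
    homogeneousSubmodule (Fin (r + 1)) k d =
      Submodule.span k ((fun m : Fin (r + 1) →₀ ℕ => (monomial m (1 : k))) ''
        ((Finset.univ : Finset (Fin (r + 1))).finsuppAntidiag d : Set (Fin (r + 1) →₀ ℕ))) := by
  rw [homogeneousSubmodule_eq_finsupp_supported, AddMonoidAlgebra.supported_eq_span_single]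
  congr 1
  ext p
  simp only [Set.mem_image, Set.mem_ofPred_eq, Finset.mem_coe, Finset.mem_finsuppAntidiag,
    Finset.subset_univ, and_true]
  constructor
  · rintro ⟨m, hm, rfl⟩
    refine ⟨m, ?_, rfl⟩
    rw [← hm, Finsupp.degree_eq_sum]
  · rintro ⟨m, hm, rfl⟩
    refine ⟨m, ?_, rfl⟩
    rw [← hm, Finsupp.degree_eq_sum]

instance (r d : ℕ) : FiniteDimensional k (LefPen.Form r k d) := by
  have : (homogeneousSubmodule (Fin (r + 1)) k d).FG := homogeneousSubmodule_fg _ _ d
  exact Module.Finite.of_fg this

lemma finrank_form_le (r d : ℕ) (hd : 1 ≤ d) :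
    Module.finrank k (LefPen.Form r k d) ≤ Nat.choose (r + d) d := by
  classical
  change Module.finrank k ↥(homogeneousSubmodule (Fin (r + 1)) k d) ≤ _
  rw [form_eq_span, ← Finset.coe_image]
  refine le_trans (finrank_span_finset_le_card _) ?_
  refine le_trans Finset.card_image_le ?_
  rw [Finset.card_finsuppAntidiag_nat_eq_choose, Finset.card_univ, Fintype.card_fin]
  have : r + 1 + d - 1 = r + d := by omega
  rw [this]


section PolyFun

variable {k}
variable {V : Type u} [AddCommGroup V] [Module k V]

/-- the subalgebra of polynomial functions -/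
abbrev PF (V : Type u) [AddCommGroup V] [Module k V] : Subalgebra k (V → k) :=
  Algebra.adjoin k (Set.range (fun l : Module.Dual k V => (l : V → k)))

lemma isPolyFun_iff (f : V → k) : LefPen.IsPolyFun k f ↔ f ∈ PF (k := k) V := Iff.rfl

lemma dual_mem (l : Module.Dual k V) : (fun v => l v) ∈ PF (k := k) V :=
  Algebra.subset_adjoin ⟨l, rfl⟩

end PolyFun

section Main

variable {k} (r d m : ℕ)

/-- the ambient space of point tuples -/
abbrev VV : Type u := Fin m → (Fin (r + 1) → k)

lemma coord_mem (t : Fin m) (j : Fin (r + 1)) :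
    (fun x : VV (k := k) r m => x t j) ∈ PF (k := k) (VV (k := k) r m) :=
  dual_mem (V := VV (k := k) r m)
    ((LinearMap.proj (R := k) (φ := fun _ : Fin (r + 1) => k) j) ∘ₗ
      (LinearMap.proj (R := k) (φ := fun _ : Fin m => (Fin (r + 1) → k)) t))

lemma aeval_mem (t : Fin m) (Q : MvPolynomial (Fin (r + 1)) k) :
    (fun x : VV (k := k) r m => MvPolynomial.aeval (x t) Q) ∈ PF (k := k) (VV (k := k) r m) := by
  induction Q using MvPolynomial.induction_on with
  | C a =>
    have : (fun x : VV (k := k) r m => MvPolynomial.aeval (x t) (C a : MvPolynomial (Fin (r + 1)) k)) =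
        algebraMap k (VV (k := k) r m → k) a := by
      funext x
      simp
    rw [this]
    exact Subalgebra.algebraMap_mem _ a
  | add p q hp hq =>
    have : (fun x : VV (k := k) r m => MvPolynomial.aeval (x t) (p + q)) =
        (fun x : VV (k := k) r m => MvPolynomial.aeval (x t) p) +
          (fun x : VV (k := k) r m => MvPolynomial.aeval (x t) q) := by
      funext x
      simp
    rw [this]
    exact Subalgebra.add_mem _ hp hq
  | mul_X p j hp =>
    have : (fun x : VV (k := k) r m => MvPolynomial.aeval (x t) (p * X j)) =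
        (fun x : VV (k := k) r m => MvPolynomial.aeval (x t) p) *
          (fun x : VV (k := k) r m => x t j) := by
      funext x
      simp
    rw [this]
    exact Subalgebra.mul_mem _ hp (coord_mem r m t j)


/-- evaluation of forms at the tuple -/
noncomputable def ev (x : VV (k := k) r m) : LefPen.Form r k d →ₗ[k] (Fin m → k) :=
  LinearMap.pi (fun t => (MvPolynomial.aeval (x t)).toLinearMap ∘ₗ
    (homogeneousSubmodule (Fin (r + 1)) k d).subtype)

lemma ev_apply (x : VV (k := k) r m) (G : LefPen.Form r k d) (t : Fin m) :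
    ev r d m x G t = MvPolynomial.aeval (x t) G.1 := rfl

/-- the target set -/
def SS : Set (VV (k := k) r m) :=
  {x | ∀ G : LefPen.Form r k d, (∀ i : Fin m, MvPolynomial.aeval (x i) G.1 = 0) → G = 0}

lemma mem_SS_iff (x : VV (k := k) r m) : x ∈ SS r d m ↔ LinearMap.ker (ev r d m x) = ⊥ := by
  rw [LinearMap.ker_eq_bot']
  constructor
  · intro h G hG
    exact h G (fun i => congrFun hG i)
  · intro h G hG
    exact h G (funext hG)

/-- the det function -/
noncomputable def fL (L : (Fin m → k) →ₗ[k] LefPen.Form r k d) (x : VV (k := k) r m) : k :=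
  LinearMap.det (L ∘ₗ ev r d m x)

lemma mem_of_fL_ne_zero (L : (Fin m → k) →ₗ[k] LefPen.Form r k d) (w : VV (k := k) r m)
    (h : fL r d m L w ≠ 0) : w ∈ SS r d m := by
  rw [mem_SS_iff]
  by_contra hker
  apply h
  unfold fL
  rw [LinearMap.det_eq_zero_iff_ker_ne_bot]
  intro hbot
  apply hker
  rw [eq_bot_iff]
  intro G hG
  have : G ∈ LinearMap.ker (L ∘ₗ ev r d m w) := by
    rw [LinearMap.mem_ker] at hG ⊢
    rw [LinearMap.comp_apply, hG, map_zero]
  rw [hbot] at this
  exact this

lemma exists_fL (v : VV (k := k) r m) (hv : v ∈ SS r d m) :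
    ∃ L : (Fin m → k) →ₗ[k] LefPen.Form r k d, fL r d m L v = 1 := by
  rw [mem_SS_iff] at hv
  obtain ⟨L, hL⟩ := LinearMap.exists_leftInverse_of_injective (ev r d m v) hv
  refine ⟨L, ?_⟩
  unfold fL
  rw [hL, LinearMap.det_id]

lemma entry_mem (L : (Fin m → k) →ₗ[k] LefPen.Form r k d)
    {n : ℕ} (b : Module.Basis (Fin n) k (LefPen.Form r k d)) (a c : Fin n) :
    (fun x : VV (k := k) r m => LinearMap.toMatrix b b (L ∘ₗ ev r d m x) a c) ∈
      PF (k := k) (VV (k := k) r m) := by
  have : (fun x : VV (k := k) r m => LinearMap.toMatrix b b (L ∘ₗ ev r d m x) a c) =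
      ∑ t : Fin m, (b.repr (L (Pi.single t 1)) a) •
        (fun x : VV (k := k) r m => MvPolynomial.aeval (x t) (b c).1) := by
    funext x
    rw [LinearMap.toMatrix_apply, LinearMap.comp_apply]
    have h1 : ev r d m x (b c) = ∑ t : Fin m, (MvPolynomial.aeval (x t) (b c).1) •
        (Pi.single t (1 : k) : Fin m → k) := by
      funext t
      rw [ev_apply, Finset.sum_apply]
      simp [Pi.single_apply]
    rw [h1, map_sum, map_sum, Finsupp.coe_finsetSum, Finset.sum_apply, Finset.sum_apply]
    refine Finset.sum_congr rfl fun t _ => ?_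
    rw [map_smul, map_smul, Finsupp.smul_apply, Pi.smul_apply, smul_eq_mul, smul_eq_mul, mul_comm]
  rw [this]
  exact Subalgebra.sum_mem _ fun t _ => Subalgebra.smul_mem _ (aeval_mem r m t _) _

lemma fL_mem (L : (Fin m → k) →ₗ[k] LefPen.Form r k d) :
    fL r d m L ∈ PF (k := k) (VV (k := k) r m) := by
  classical
  let b := Module.finBasis k (LefPen.Form r k d)
  have : fL r d m L = ∑ σ : Equiv.Perm (Fin (Module.finrank k (LefPen.Form r k d))),
      ((Equiv.Perm.sign σ : ℤˣ) : ℤ) • ∏ i, (fun x : VV (k := k) r m =>
        LinearMap.toMatrix b b (L ∘ₗ ev r d m x) (σ i) i) := by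
    funext x
    unfold fL
    rw [← LinearMap.det_toMatrix b, Matrix.det_apply, Finset.sum_apply]
    refine Finset.sum_congr rfl fun σ _ => ?_
    rw [Pi.smul_apply, Finset.prod_apply, Units.smul_def]
  rw [this]
  exact Subalgebra.sum_mem _ fun σ _ => Subalgebra.zsmul_mem _
    (Subalgebra.prod_mem _ fun i _ => entry_mem r d m L b (σ i) i) _


/-- common zeros subspace -/
noncomputable def W {n : ℕ} (pts : Fin n → (Fin (r + 1) → k)) : Submodule k (LefPen.Form r k d) :=
  ⨅ i, LinearMap.ker ((MvPolynomial.aeval (pts i)).toLinearMap ∘ₗ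
    (homogeneousSubmodule (Fin (r + 1)) k d).subtype)

lemma mem_W {n : ℕ} (pts : Fin n → (Fin (r + 1) → k)) (G : LefPen.Form r k d) :
    G ∈ W r d pts ↔ ∀ i, MvPolynomial.aeval (pts i) G.1 = 0 := by
  simp [W]

lemma W_cons_le {n : ℕ} (pts : Fin n → (Fin (r + 1) → k)) (q : Fin (r + 1) → k) :
    W r d (Fin.cons q pts : Fin (n + 1) → (Fin (r + 1) → k)) ≤ W r d pts := by
  intro G hG
  rw [mem_W] at hG ⊢
  intro i
  simpa using hG i.succ

lemma exists_pts [Infinite k] (n : ℕ) : ∃ pts : Fin n → (Fin (r + 1) → k),
    Module.finrank k (W r d pts) ≤ Module.finrank k (LefPen.Form r k d) - n := by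
  induction n with
  | zero => exact ⟨Fin.elim0, by simpa using Submodule.finrank_le _⟩
  | succ n ih =>
    obtain ⟨pts, hpts⟩ := ih
    by_cases hbot : W r d pts = ⊥
    · refine ⟨Fin.cons 0 pts, ?_⟩
      have h2 : W r d (Fin.cons 0 pts : Fin (n + 1) → (Fin (r + 1) → k)) = ⊥ := by
        rw [eq_bot_iff, ← hbot]
        exact W_cons_le r d pts 0
      rw [h2]
      simp
    · obtain ⟨G, hG, hG0⟩ := Submodule.exists_mem_ne_zero_of_ne_bot hbot
      have hq : ∃ q : Fin (r + 1) → k, MvPolynomial.aeval q G.1 ≠ 0 := by
        by_contra hcon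
        push Not at hcon
        apply hG0
        apply Subtype.ext
        apply MvPolynomial.funext
        intro q
        have := hcon q
        rw [MvPolynomial.aeval_eq_eval] at this
        simpa using this
      obtain ⟨q, hq⟩ := hq
      refine ⟨Fin.cons q pts, ?_⟩
      have hlt : W r d (Fin.cons q pts : Fin (n + 1) → (Fin (r + 1) → k)) < W r d pts := by
        refine lt_of_le_of_ne (W_cons_le r d pts q) ?_
        intro heq
        rw [← heq, mem_W] at hG
        exact hq (by simpa using hG 0)
      have := Submodule.finrank_lt_finrank_of_lt hlt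
      omega

lemma SS_nonempty [Infinite k] (hm : Module.finrank k (LefPen.Form r k d) ≤ m) :
    ∃ v : VV (k := k) r m, v ∈ SS r d m := by
  obtain ⟨pts, hpts⟩ := exists_pts (k := k) r d m
  refine ⟨pts, ?_⟩
  have h0 : Module.finrank k (W r d pts) = 0 := by omega
  have hbot : W r d pts = ⊥ := Submodule.finrank_eq_zero.mp h0
  intro G hG
  have : G ∈ W r d pts := (mem_W r d pts G).2 hG
  rw [hbot] at this
  exact this

end Main


end Helpers

/-- Let k be an infinite field, r a natural number, d ≥ 1 an integer, and m ≥ C(r+d, d), the number of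
monomials of degree d in r+1 variables. In the space of m-tuples of vectors of k^(r+1) (homogeneous
coordinate vectors of m points of projective r-space; a zero vector is allowed and imposes no
condition), the tuples such that the only form of degree d vanishing at all of them is the zero form
make up a Zariski-open subset which contains the non-vanishing locus of a not identically zero
polynomial function, so a dense open subset. (The published statement is the openness and density of
the corresponding locus in the m-fold product of projective r-space over the ground field; here the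
ground field is any infinite field and the statement is made on coordinate vectors.) -/
theorem result (k : Type u) [Field k] [Infinite k]
    (r d m : ℕ) (hd : 1 ≤ d) (hm : Nat.choose (r + d) d ≤ m) :
    LefPen.IsZOpen k {x : Fin m → (Fin (r + 1) → k) |
      ∀ G : LefPen.Form r k d, (∀ i : Fin m, MvPolynomial.aeval (x i) G.1 = 0) → G = 0} ∧
    LefPen.IsGeneric k {x : Fin m → (Fin (r + 1) → k) |
      ∀ G : LefPen.Form r k d, (∀ i : Fin m, MvPolynomial.aeval (x i) G.1 = 0) → G = 0} := by
  have hfr : Module.finrank k (LefPen.Form r k d) ≤ m := le_trans (finrank_form_le k r d hd) hm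
  constructor
  · intro v hv
    obtain ⟨L, hL⟩ := exists_fL r d m v hv
    exact ⟨fL r d m L, fL_mem r d m L, by rw [hL]; exact one_ne_zero,
      fun w hw => mem_of_fL_ne_zero r d m L w hw⟩
  · obtain ⟨v, hv⟩ := SS_nonempty r d m hfr
    obtain ⟨L, hL⟩ := exists_fL r d m v hv
    exact ⟨fL r d m L, fL_mem r d m L, ⟨v, by rw [hL]; exact one_ne_zero⟩,
      fun w hw => mem_of_fL_ne_zero r d m L w hw⟩

end Groth.Agent.S18464
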