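import Groth.Statements.S18476
import Mathlib

set_option autoImplicit false
universe u
open FmlGrp

namespace Groth.Agent.S18476

section Helpers


open PowerSeries

variable {A : Type u} [CommRing A]

/-- the map `c ↦ Σ c_i(g) X^i` -/
noncomputable def Phi (n : ℕ) (g : A⟦X⟧) (c : Fin n → A⟦X⟧) : A⟦X⟧ :=
  ∑ i : Fin n, PowerSeries.subst g (c i) * (X : A⟦X⟧) ^ (i : ℕ)

lemma Phi_step (n : ℕ) (g : A⟦X⟧) (hg : HasSubst g) (c : Fin n → A⟦X⟧) :
    Phi n g c = g * Phi n g (fun i => PowerSeries.mk fun p => coeff (p + 1) (c i)) +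
      ∑ i : Fin n, C (constantCoeff (c i)) * (X : A⟦X⟧) ^ (i : ℕ) := by
  unfold Phi
  rw [Finset.mul_sum, ← Finset.sum_add_distrib]
  refine Finset.sum_congr rfl fun i _ => ?_
  conv_lhs => rw [eq_X_mul_shift_add_const (c i)]
  rw [subst_add hg, subst_mul hg, subst_X hg]
  have : PowerSeries.subst g (C (constantCoeff (c i)) : A⟦X⟧) = C (constantCoeff (c i)) := by
    rw [subst_C]
    rfl
  rw [this]
  ring

lemma Phi_sub (n : ℕ) (g : A⟦X⟧) (hg : HasSubst g) (c c' : Fin n → A⟦X⟧) :
    Phi n g (c - c') = Phi n g c - Phi n g c' := by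
  unfold Phi
  rw [← Finset.sum_sub_distrib]
  refine Finset.sum_congr rfl fun i _ => ?_
  rw [Pi.sub_apply, subst_sub hg, sub_mul]

section Local

variable [IsLocalRing A] [IsAdicComplete (IsLocalRing.maximalIdeal A) A]

/-- a polynomial with prescribed coefficients of degree `< n` -/
noncomputable def polyOf (n : ℕ) (a : Fin n → A) : Polynomial A :=
  ∑ i : Fin n, Polynomial.monomial (i : ℕ) (a i)

lemma polyOf_coeff (n : ℕ) (a : Fin n → A) (i : Fin n) : (polyOf n a).coeff (i : ℕ) = a i := by
  classical
  unfold polyOf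
  rw [Polynomial.finsetSum_coeff]
  simp only [Polynomial.coeff_monomial]
  rw [Finset.sum_eq_single i]
  · simp
  · intro j _ hj
    have : (j : ℕ) ≠ (i : ℕ) := fun h => hj (Fin.ext h)
    simp [this]
  · simp

lemma polyOf_degree_lt (n : ℕ) (a : Fin n → A) : (polyOf n a).degree < n := by
  classical
  rw [Polynomial.degree_lt_iff_coeff_zero]
  intro m hm
  unfold polyOf
  rw [Polynomial.finsetSum_coeff]
  refine Finset.sum_eq_zero fun i _ => ?_
  rw [Polynomial.coeff_monomial]
  have : (i : ℕ) ≠ m := by
    have := i.2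
    omega
  simp [this]

lemma polyOf_coe (n : ℕ) (a : Fin n → A) :
    ((polyOf n a : Polynomial A) : A⟦X⟧) = ∑ i : Fin n, C (a i) * (X : A⟦X⟧) ^ (i : ℕ) := by
  unfold polyOf
  have : ∀ (s : Finset (Fin n)),
      ((∑ i ∈ s, Polynomial.monomial (i : ℕ) (a i) : Polynomial A) : A⟦X⟧) =
        ∑ i ∈ s, C (a i) * (X : A⟦X⟧) ^ (i : ℕ) := by
    intro s
    induction s using Finset.induction_on with
    | empty => simp
    | insert i s hi ih =>
      rw [Finset.sum_insert hi, Finset.sum_insert hi, Polynomial.coe_add, ih,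
        Polynomial.coe_monomial, monomial_eq_C_mul_X_pow]
  exact this Finset.univ

lemma coe_eq_sum_of_degree_lt (n : ℕ) (r : Polynomial A) (hr : r.degree < n) :
    (r : A⟦X⟧) = ∑ i : Fin n, C (r.coeff (i : ℕ)) * (X : A⟦X⟧) ^ (i : ℕ) := by
  rw [← polyOf_coe]
  congr 1
  ext m
  by_cases hm : m < n
  · exact (polyOf_coeff n (fun i => r.coeff (i : ℕ)) ⟨m, hm⟩).symm
  · push Not at hm
    rw [(Polynomial.degree_lt_iff_coeff_zero _ _).mp hr m hm,
      (Polynomial.degree_lt_iff_coeff_zero _ _).mp (polyOf_degree_lt n _) m hm]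

variable (g : A⟦X⟧) (hg : g.map (IsLocalRing.residue A) ≠ 0) (hg0 : constantCoeff g = 0)

include hg hg0 in
lemma Phi_injective_aux (k : ℕ) :
    ∀ c : Fin (g.map (IsLocalRing.residue A)).order.toNat → A⟦X⟧,
      Phi _ g c = 0 → ∀ i, coeff k (c i) = 0 := by
  have hsub : HasSubst g := HasSubst.of_constantCoeff_zero' hg0
  induction k with
  | zero =>
    intro c hc i
    rw [Phi_step _ g hsub c, ← polyOf_coe] at hc
    have hdiv : IsWeierstrassDivision (0 : A⟦X⟧) g
        (Phi _ g (fun i => PowerSeries.mk fun p => coeff (p + 1) (c i)))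
        (polyOf _ (fun i => constantCoeff (c i))) :=
      ⟨polyOf_degree_lt _ _, hc.symm⟩
    have h2 := (hdiv.eq_zero hg).2
    have := polyOf_coeff _ (fun i => constantCoeff (c i)) i
    rw [h2, Polynomial.coeff_zero] at this
    rw [coeff_zero_eq_constantCoeff_apply]
    exact this.symm
  | succ k ih =>
    intro c hc i
    rw [Phi_step _ g hsub c, ← polyOf_coe] at hc
    have hdiv : IsWeierstrassDivision (0 : A⟦X⟧) g
        (Phi _ g (fun i => PowerSeries.mk fun p => coeff (p + 1) (c i)))
        (polyOf _ (fun i => constantCoeff (c i))) :=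
      ⟨polyOf_degree_lt _ _, hc.symm⟩
    have h1 := (hdiv.eq_zero hg).1
    have := ih _ h1 i
    rwa [coeff_mk] at this

/-- iterated Weierstrass quotients -/
noncomputable def Hs (h : A⟦X⟧) : ℕ → A⟦X⟧
  | 0 => h
  | (k + 1) => (Hs h k) /ʷ g

/-- the coefficient series obtained from the remainders -/
noncomputable def cK (h : A⟦X⟧) (K : ℕ) (i : Fin (g.map (IsLocalRing.residue A)).order.toNat) :
    A⟦X⟧ :=
  PowerSeries.mk fun k => ((Hs g h (k + K)) %ʷ g).coeff (i : ℕ)

include hg hg0 in
lemma E_step (h : A⟦X⟧) (K : ℕ) :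
    Hs g h K - Phi _ g (cK g h K) = g * (Hs g h (K + 1) - Phi _ g (cK g h (K + 1))) := by
  have hsub : HasSubst g := HasSubst.of_constantCoeff_zero' hg0
  rw [Phi_step _ g hsub (cK g h K)]
  have h1 : (fun i => PowerSeries.mk fun p => coeff (p + 1) (cK g h K i)) = cK g h (K + 1) := by
    funext i
    ext p
    simp only [cK, coeff_mk]
    rw [show p + 1 + K = p + (K + 1) by omega]
  have h2 : ∑ i : Fin (g.map (IsLocalRing.residue A)).order.toNat,
      C (constantCoeff (cK g h K i)) * (X : A⟦X⟧) ^ (i : ℕ) = ((Hs g h K %ʷ g : Polynomial A) : A⟦X⟧) := by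
    rw [coe_eq_sum_of_degree_lt _ _ (degree_weierstrassMod_lt (f := Hs g h K) (g := g))]
    refine Finset.sum_congr rfl fun i _ => ?_
    congr 2
    simp only [cK, ← coeff_zero_eq_constantCoeff_apply, coeff_mk, zero_add]
  rw [h1, h2]
  have h3 : Hs g h K = g * Hs g h (K + 1) + ((Hs g h K %ʷ g : Polynomial A) : A⟦X⟧) :=
    eq_mul_weierstrassDiv_add_weierstrassMod (Hs g h K) hg
  linear_combination h3

include hg hg0 in
lemma E_pow (h : A⟦X⟧) (K : ℕ) :
    h - Phi _ g (cK g h 0) = g ^ K * (Hs g h K - Phi _ g (cK g h K)) := by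
  induction K with
  | zero => simp [Hs]
  | succ K ih => rw [ih, E_step g hg hg0 h K, pow_succ, mul_assoc]

include hg hg0 in
lemma Phi_surj (h : A⟦X⟧) : h = Phi _ g (cK g h 0) := by
  rw [← sub_eq_zero]
  ext m
  have hX : (X : A⟦X⟧) ∣ g := X_dvd_iff.mpr hg0
  have : (X : A⟦X⟧) ^ (m + 1) ∣ h - Phi _ g (cK g h 0) := by
    rw [E_pow g hg hg0 h (m + 1)]
    exact Dvd.dvd.mul_right (pow_dvd_pow_of_dvd hX _) _
  rw [X_pow_dvd_iff] at this
  simpa using this m (Nat.lt_succ_self m)

include hg hg0 in
theorem forward : ∃ (n : ℕ) (b : Fin n → A⟦X⟧), ∀ h : A⟦X⟧, ∃! c : Fin n → A⟦X⟧,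
    h = ∑ i, PowerSeries.subst g (c i) * b i := by
  have hsub : HasSubst g := HasSubst.of_constantCoeff_zero' hg0
  refine ⟨(g.map (IsLocalRing.residue A)).order.toNat, fun i => (X : A⟦X⟧) ^ (i : ℕ), fun h => ?_⟩
  refine ⟨cK g h 0, Phi_surj g hg hg0 h, fun c' hc' => ?_⟩
  have h0 : Phi _ g (c' - cK g h 0) = 0 := by
    rw [Phi_sub _ g hsub, sub_eq_zero]
    exact hc'.symm.trans (Phi_surj g hg hg0 h)
  funext i
  ext k
  have := Phi_injective_aux g hg hg0 k _ h0 i
  rwa [Pi.sub_apply, map_sub, sub_eq_zero] at this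

omit [IsAdicComplete (IsLocalRing.maximalIdeal A) A] in
theorem backward (g : A⟦X⟧) (hg0 : constantCoeff g = 0)
    (hg : g.map (IsLocalRing.residue A) = 0) (n : ℕ) (b : Fin n → A⟦X⟧)
    (H : ∀ h : A⟦X⟧, ∃ c : Fin n → A⟦X⟧, h = ∑ i, PowerSeries.subst g (c i) * b i) : False := by
  have hsub : HasSubst g := HasSubst.of_constantCoeff_zero' hg0
  set k := IsLocalRing.ResidueField A
  have hspan : (⊤ : Submodule k k⟦X⟧) ≤
      Submodule.span k (Set.range fun i => (b i).map (IsLocalRing.residue A)) := by
    intro hbar _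
    obtain ⟨h, rfl⟩ := PowerSeries.map_surjective (IsLocalRing.residue A)
      IsLocalRing.residue_surjective hbar
    obtain ⟨c, hc⟩ := H h
    rw [hc, map_sum]
    refine Submodule.sum_mem _ fun i _ => ?_
    have e1 : PowerSeries.map (IsLocalRing.residue A) (PowerSeries.subst g (c i)) =
        PowerSeries.subst (PowerSeries.map (IsLocalRing.residue A) g)
          (PowerSeries.map (IsLocalRing.residue A) (c i)) :=
      map_subst (τ := Unit) hsub (h := IsLocalRing.residue A) (c i)
    have e2 : PowerSeries.subst (0 : k⟦X⟧) (PowerSeries.map (IsLocalRing.residue A) (c i)) =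
        C (constantCoeff (PowerSeries.map (IsLocalRing.residue A) (c i))) := by
      have := subst_zero_eq_C_constantCoeff (τ := Unit) (S := k)
        (f := PowerSeries.map (IsLocalRing.residue A) (c i))
      rw [this]
      rfl
    rw [map_mul, e1, hg, e2, ← smul_eq_C_mul]
    exact Submodule.smul_mem _ _ (Submodule.subset_span ⟨i, rfl⟩)
  have hfin : Module.Finite k k⟦X⟧ := by
    classical
    refine ⟨⟨(Finset.univ.image fun i => (b i).map (IsLocalRing.residue A)), ?_⟩⟩
    rw [Finset.coe_image, Finset.coe_univ, Set.image_univ]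
    exact top_le_iff.mp hspan
  have hfin' : Module.Finite k (Polynomial k) :=
    Module.Finite.of_injective (Polynomial.coeToPowerSeries.algHom k).toLinearMap
      (fun x y hxy => Polynomial.coe_injective k hxy)
  exact Polynomial.not_finite hfin'

end Local


end Helpers


/-- Let O be a complete discrete valuation ring whose maximal ideal m contains the prime number p, and
let F be a one-dimensional formal group law over O, with multiplication-by-p series f = [p]_F(X) = X
+_F ⋯ +_F X ∈ O[[X]]. Then f has a coefficient outside m (f is not ≡ 0 mod m) if and only if F is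
p-divisible in the sense that O[[X]] is free of finite rank over itself through the substitution
endomorphism X ↦ f: there are finitely many power series b_1, …, b_n such that every power series g
can be written uniquely as Σ_i c_i(f(X))·b_i. (The published statement asserts instead that F is
p-divisible iff F does not reduce to X + Y modulo m; that is false — over the p-adic integers the
law φ⁻¹(φ(X) + φ(Y)) with φ = X + X^{p+1} is not congruent to X + Y modulo p, yet its
multiplication-by-p series φ⁻¹(pφ(X)) vanishes modulo p — and the printed proof establishes exactly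
the criterion on f stated here.) The published setting is the valuation ring of a finite extension
of ℚ_p; the argument uses only that O is a complete discrete valuation ring with p in its maximal
ideal. -/
theorem result
    (O : Type u) [CommRing O] [IsDomain O] [IsDiscreteValuationRing O]
    [IsAdicComplete (IsLocalRing.maximalIdeal O) O]
    (p : ℕ) [Fact p.Prime] (hp : (p : O) ∈ IsLocalRing.maximalIdeal O)
    (F : FormalGroup O) :
    (∃ n : ℕ, PowerSeries.coeff n
        ((p • (show F.Point Unit from ⟨PowerSeries.X, PowerSeries.HasSubst.X'⟩)).val) ∉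
          IsLocalRing.maximalIdeal O) ↔
      ∃ (n : ℕ) (b : Fin n → PowerSeries O), ∀ g : PowerSeries O, ∃! c : Fin n → PowerSeries O,
        g = ∑ i, PowerSeries.subst
          ((p • (show F.Point Unit from ⟨PowerSeries.X, PowerSeries.HasSubst.X'⟩)).val) (c i) * b i := by
  classical
  set g : PowerSeries O :=
    (p • (show F.Point Unit from ⟨PowerSeries.X, PowerSeries.HasSubst.X'⟩)).val with hgdef
  have hsub : PowerSeries.HasSubst g :=
    (p • (show F.Point Unit from ⟨PowerSeries.X, PowerSeries.HasSubst.X'⟩)).prop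
  have hg0 : PowerSeries.constantCoeff g = 0 := by
    have h1 : IsNilpotent (PowerSeries.constantCoeff g) := hsub
    exact h1.eq_zero
  have hiff : (∃ n : ℕ, PowerSeries.coeff n g ∉ IsLocalRing.maximalIdeal O) ↔
      g.map (IsLocalRing.residue O) ≠ 0 := by
    constructor
    · rintro ⟨n, hn⟩ h0
      apply hn
      have := congrArg (PowerSeries.coeff n) h0
      rw [PowerSeries.coeff_map, map_zero, IsLocalRing.residue_eq_zero_iff] at this
      exact this
    · intro h0
      by_contra hcon
      push Not at hcon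
      apply h0
      ext n
      rw [PowerSeries.coeff_map, map_zero, IsLocalRing.residue_eq_zero_iff]
      exact hcon n
  rw [hiff]
  constructor
  · intro hg
    exact forward g hg hg0
  · rintro ⟨n, b, H⟩ h0
    exact backward g hg0 h0 n b (fun h => (H h).exists)

end Groth.Agent.S18476
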