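import Groth.Statements.S1852
import Mathlib
import Groth.Agent.Lib.Helper5AssocFormula

set_option autoImplicit false
universe u
open CycAlg

namespace Groth.Agent.S1852

open Groth.Agent.Lib.Helper5.AssocFormula

section aux

variable {R : Type u} [CommRing R] [IsLocalRing R] {M : Type u} [AddCommGroup M] [Module R M]
set_option linter.unusedSectionVars false

theorem spanBefore_snoc_of_le {l : ℕ} (x : Fin l → M) (z : M) {k : ℕ} (hk : k ≤ l) :
    CycDet.spanBefore R M (Fin.snoc (α := fun _ => M) x z) k = CycDet.spanBefore R M x k := by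
  unfold CycDet.spanBefore
  congr 1
  ext m
  constructor
  · rintro ⟨j, hj, rfl⟩
    have hj' : j.val < k := hj
    have hjl : j.val < l := lt_of_lt_of_le hj' hk
    refine ⟨⟨j.val, hjl⟩, hj', ?_⟩
    have hcast : j = Fin.castSucc ⟨j.val, hjl⟩ := Fin.ext rfl
    conv_rhs => rw [hcast]
    exact (Fin.snoc_castSucc (α := fun _ => M) z x ⟨j.val, hjl⟩).symm
  · rintro ⟨j, hj, rfl⟩
    exact ⟨Fin.castSucc j, hj, Fin.snoc_castSucc (α := fun _ => M) z x j⟩

theorem spanBefore_snoc_succ {l : ℕ} (x : Fin l → M) (z : M) :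
    CycDet.spanBefore R M (Fin.snoc (α := fun _ => M) x z) (l + 1) =
      CycDet.spanBefore R M x l ⊔ Submodule.span R {z} := by
  unfold CycDet.spanBefore
  rw [← Submodule.span_union]
  congr 1
  ext m
  constructor
  · rintro ⟨j, hj, rfl⟩
    induction j using Fin.lastCases with
    | last =>
      right
      rw [Fin.snoc_last]
      exact Set.mem_singleton z
    | cast j =>
      left
      exact ⟨j, j.2, (Fin.snoc_castSucc (α := fun _ => M) z x j).symm⟩
  · rintro (⟨j, hj, rfl⟩ | hm)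
    · exact ⟨Fin.castSucc j, Nat.lt_succ_of_lt j.2, Fin.snoc_castSucc (α := fun _ => M) z x j⟩
    · rw [Set.mem_singleton_iff] at hm
      subst hm
      exact ⟨Fin.last l, Nat.lt_succ_self l, Fin.snoc_last (α := fun _ => M) m x⟩

theorem spanBefore_self {l : ℕ} (x : Fin l → M) :
    CycDet.spanBefore R M x l = Submodule.span R (Set.range x) := by
  unfold CycDet.spanBefore
  congr 1
  ext m
  constructor
  · rintro ⟨j, -, rfl⟩; exact ⟨j, rfl⟩
  · rintro ⟨j, rfl⟩; exact ⟨j, j.2, rfl⟩

theorem spanBefore_mono {l : ℕ} (x : Fin l → M) {a b : ℕ} (hab : a ≤ b) :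
    CycDet.spanBefore R M x a ≤ CycDet.spanBefore R M x b := by
  unfold CycDet.spanBefore
  apply Submodule.span_mono
  apply Set.image_mono
  intro j hj
  exact lt_of_lt_of_le (show j.val < a from hj) hab

theorem transport {P P' N N' : Submodule R M} (hP : P = P') (hN : N = N') (I : Ideal R)
    (h : Nonempty ((↥P ⧸ N.submoduleOf P) ≃ₗ[R] (R ⧸ I))) :
    Nonempty ((↥P' ⧸ N'.submoduleOf P') ≃ₗ[R] (R ⧸ I)) := by
  subst hP hN
  exact h

theorem nonempty_equiv_of_colon (N : Submodule R M) (z : M) (I : Ideal R)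
    (hI : ∀ r : R, r ∈ I ↔ r • z ∈ N) :
    Nonempty ((↥(N ⊔ Submodule.span R {z}) ⧸ N.submoduleOf (N ⊔ Submodule.span R {z})) ≃ₗ[R]
      (R ⧸ I)) := by
  have hzP : z ∈ N ⊔ Submodule.span R {z} :=
    (le_sup_right : Submodule.span R {z} ≤ _) (Submodule.mem_span_singleton_self z)
  let φ : R →ₗ[R] (↥(N ⊔ Submodule.span R {z}) ⧸ N.submoduleOf (N ⊔ Submodule.span R {z})) :=
    (Submodule.mkQ _).comp (LinearMap.toSpanSingleton R ↥(N ⊔ Submodule.span R {z}) ⟨z, hzP⟩)
  have hφ : ∀ r, φ r = Submodule.Quotient.mk (r • (⟨z, hzP⟩ : ↥(N ⊔ Submodule.span R {z}))) :=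
    fun r => rfl
  have hsurj : Function.Surjective φ := by
    intro w
    obtain ⟨⟨p, hp⟩, rfl⟩ := Submodule.Quotient.mk_surjective _ w
    obtain ⟨n, hn, s, hs, hns⟩ := Submodule.mem_sup.mp hp
    obtain ⟨r, rfl⟩ := Submodule.mem_span_singleton.mp hs
    refine ⟨r, ?_⟩
    rw [hφ]
    symm
    rw [Submodule.Quotient.eq]
    change ((((⟨p, hp⟩ : ↥(N ⊔ Submodule.span R {z})) - r • ⟨z, hzP⟩ : ↥(N ⊔ Submodule.span R {z})) : M)) ∈ N
    have : (((⟨p, hp⟩ : ↥(N ⊔ Submodule.span R {z})) - r • ⟨z, hzP⟩ : ↥(N ⊔ Submodule.span R {z})) : M)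
        = n := by
      simp only [Submodule.coe_sub, Submodule.coe_smul]
      rw [← hns]; abel
    rw [this]
    exact hn
  have hker : LinearMap.ker φ = I := by
    ext r
    rw [LinearMap.mem_ker, hφ, Submodule.Quotient.mk_eq_zero, hI]
    rfl
  exact ⟨((Submodule.quotEquivOfEq _ _ hker).symm.trans (φ.quotKerEquivOfSurjective hsurj)).symm⟩

end aux

theorem exists_good (R : Type u) [CommRing R] [IsNoetherianRing R] [IsLocalRing R] (M : Type u)
    [AddCommGroup M] [Module R M] [Module.Finite R M] (q : PrimeSpectrum R)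
    (hq : Minimal (fun p : PrimeSpectrum R => p ∈ Module.support R M) q) :
    ∃ (l : ℕ) (x : Fin l → M), q ∉ Module.support R (M ⧸ Submodule.span R (Set.range x)) ∧ ∀ i : Fin l, Nonempty ((↥(CycDet.spanBefore R M x (i + 1)) ⧸ (CycDet.spanBefore R M x i).submoduleOf (CycDet.spanBefore R M x (i + 1))) ≃ₗ[R] (R ⧸ q.asIdeal)) := by
  classical
  let S : Set (Submodule R M) := {N | ∃ (l : ℕ) (x : Fin l → M), CycDet.spanBefore R M x l = N ∧
    ∀ i : Fin l, Nonempty ((↥(CycDet.spanBefore R M x (i + 1)) ⧸ (CycDet.spanBefore R M x i).submoduleOf (CycDet.spanBefore R M x (i + 1))) ≃ₗ[R] (R ⧸ q.asIdeal))}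
  have hSne : S.Nonempty := ⟨CycDet.spanBefore R M (fun i : Fin 0 => i.elim0) 0, 0, fun i => i.elim0,
    rfl, fun i => i.elim0⟩
  obtain ⟨N, hNS, hNmax⟩ :=
    set_has_maximal_iff_noetherian.mpr (inferInstance : IsNoetherian R M) S hSne
  obtain ⟨l, x, hxN, hgood⟩ := hNS
  refine ⟨l, x, ?_, hgood⟩
  rw [← spanBefore_self, hxN]
  intro hqsupp
  have hsub : Module.support R (M ⧸ N) ⊆ Module.support R M :=
    Module.support_subset_of_surjective N.mkQ N.mkQ_surjective
  have hmin : q.asIdeal ∈ (Module.annihilator R (M ⧸ N)).minimalPrimes := by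
    refine ⟨⟨q.2, Module.mem_support_iff_of_finite.mp hqsupp⟩, ?_⟩
    rintro p' ⟨hp'prime, hp'ann⟩ hp'q
    have hp'supp : (⟨p', hp'prime⟩ : PrimeSpectrum R) ∈ Module.support R (M ⧸ N) :=
      Module.mem_support_iff_of_finite.mpr hp'ann
    exact hq.2 (hsub hp'supp) hp'q
  have hass := Module.associatedPrimes.minimalPrimes_annihilator_subset_associatedPrimes R (M ⧸ N) hmin
  obtain ⟨-, z', hz'⟩ := (isAssociatedPrime_iff (M := M ⧸ N)).mp hass
  obtain ⟨z, rfl⟩ := Submodule.Quotient.mk_surjective _ z'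
  have hI : ∀ r : R, r ∈ q.asIdeal ↔ r • z ∈ N := by
    intro r
    rw [hz', Submodule.mem_colon_singleton, Submodule.mem_bot, ← Submodule.Quotient.mk_smul,
      Submodule.Quotient.mk_eq_zero]
  have hzN : z ∉ N := by
    intro hz
    have : (1 : R) ∈ q.asIdeal := (hI 1).mpr (by rwa [one_smul])
    exact (Ideal.ne_top_iff_one _).mp q.2.ne_top this
  have hlt : N < N ⊔ Submodule.span R {z} := by
    rw [left_lt_sup]
    intro hle
    exact hzN (hle (Submodule.mem_span_singleton_self z))
  refine hNmax (N ⊔ Submodule.span R {z}) ⟨l + 1, Fin.snoc (α := fun _ => M) x z, ?_, ?_⟩ hlt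
  · rw [spanBefore_snoc_succ, hxN]
  · intro i
    rcases Nat.lt_or_ge i.val l with hil | hil
    · exact transport (spanBefore_snoc_of_le x z (k := i.val + 1) (by omega)).symm
        (spanBefore_snoc_of_le x z (k := i.val) (by omega)).symm q.asIdeal (hgood ⟨i.val, hil⟩)
    · have hil' : i.val = l := by have := i.2; omega
      refine transport ?_ ?_ q.asIdeal (nonempty_equiv_of_colon N z q.asIdeal hI)
      · rw [hil', spanBefore_snoc_succ, hxN]
      · rw [hil', spanBefore_snoc_of_le x z le_rfl, hxN]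

theorem length_eq (R : Type u) [CommRing R] [IsNoetherianRing R] [IsLocalRing R] (M : Type u)
    [AddCommGroup M] [Module R M] [Module.Finite R M] (q : PrimeSpectrum R)
    (l : ℕ) (x : Fin l → M)
    (hsupp : q ∉ Module.support R (M ⧸ Submodule.span R (Set.range x)))
    (hgood : ∀ i : Fin l, Nonempty ((↥(CycDet.spanBefore R M x (i + 1)) ⧸ (CycDet.spanBefore R M x i).submoduleOf (CycDet.spanBefore R M x (i + 1))) ≃ₗ[R] (R ⧸ q.asIdeal))) :
    (l : ℕ∞) = Module.length (Localization.AtPrime q.asIdeal) (LocalizedModule q.asIdeal.primeCompl M) := by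
  have hclaim : ∀ k : ℕ, k ≤ l → L R ↥(CycDet.spanBefore R M x k) q = k := by
    intro k
    induction k with
    | zero =>
      intro _
      have hbot : CycDet.spanBefore R M x 0 = ⊥ := by
        unfold CycDet.spanBefore
        rw [Submodule.span_eq_bot]
        rintro m ⟨j, hj, -⟩
        exact absurd hj (Nat.not_lt_zero _)
      have hsub : Subsingleton ↥(CycDet.spanBefore R M x 0) := by
        rw [hbot]; infer_instance
      rw [Nat.cast_zero]
      apply L_eq_zero_of_notMem
      rw [Module.support_eq_empty]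
      exact Set.notMem_empty q
    | succ k ih =>
      intro hk
      have hkl : k < l := hk
      obtain ⟨e⟩ := hgood ⟨k, hkl⟩
      have hle : CycDet.spanBefore R M x k ≤ CycDet.spanBefore R M x (k + 1) :=
        spanBefore_mono x (Nat.le_succ k)
      have h1 := L_add
        ((CycDet.spanBefore R M x k).submoduleOf (CycDet.spanBefore R M x (k + 1))).subtype
        ((CycDet.spanBefore R M x k).submoduleOf (CycDet.spanBefore R M x (k + 1))).mkQ
        (Submodule.subtype_injective _) (Submodule.mkQ_surjective _)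
        (LinearMap.exact_subtype_mkQ _) q
      rw [h1, L_congr (Submodule.submoduleOfEquivOfLe hle) q, ih (le_of_lt hkl), L_congr e q,
        L_quot_self, Nat.cast_succ]
  have h2 := L_add (Submodule.span R (Set.range x)).subtype (Submodule.span R (Set.range x)).mkQ
    (Submodule.subtype_injective _) (Submodule.mkQ_surjective _) (LinearMap.exact_subtype_mkQ _) q
  rw [L_eq_zero_of_notMem hsupp, add_zero, ← spanBefore_self, hclaim l le_rfl] at h2
  exact h2.symm

/-- Let R be a Noetherian local ring, M a finite R-module and 𝔮 a minimal prime of the support of M.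
There are x₁, …, x_l in M such that 𝔮 is not in the support of M/⟨x₁, …, x_l⟩ and each ⟨x₁, …,
x_i⟩/⟨x₁, …, x_{i−1}⟩ is isomorphic to R/𝔮; and for any such sequence l equals the length of M_𝔮
over R_𝔮. -/
theorem result (R : Type u) [CommRing R] [IsNoetherianRing R] [IsLocalRing R] (M : Type u) [AddCommGroup M] [Module R M] [Module.Finite R M] (q : PrimeSpectrum R) (hq : Minimal (fun p : PrimeSpectrum R => p ∈ Module.support R M) q) : (∃ (l : ℕ) (x : Fin l → M), q ∉ Module.support R (M ⧸ Submodule.span R (Set.range x)) ∧ ∀ i : Fin l, Nonempty ((↥(CycDet.spanBefore R M x (i + 1)) ⧸ (CycDet.spanBefore R M x i).submoduleOf (CycDet.spanBefore R M x (i + 1))) ≃ₗ[R] (R ⧸ q.asIdeal))) ∧ ∀ (l : ℕ) (x : Fin l → M), q ∉ Module.support R (M ⧸ Submodule.span R (Set.range x)) → (∀ i : Fin l, Nonempty ((↥(CycDet.spanBefore R M x (i + 1)) ⧸ (CycDet.spanBefore R M x i).submoduleOf (CycDet.spanBefore R M x (i + 1))) ≃ₗ[R] (R ⧸ q.asIdeal))) → (l : ℕ∞) = Module.length (Localization.AtPrime q.asIdeal)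 (LocalizedModule q.asIdeal.primeCompl M) := by
  exact ⟨exists_good R M q hq, fun l x h1 h2 => length_eq R M q l x h1 h2⟩

end Groth.Agent.S1852
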