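import Groth.Statements.S18527
import Mathlib
import Groth.Agent.Lib.R2H7ParHilbB

set_option autoImplicit false
universe u
open CategoryTheory CategoryTheory.Limits AlgebraicGeometry Polynomial
open ParSh

namespace Groth.Agent.S18527

/-- An upper and a lower bound for the second coefficient of the parabolic Hilbert polynomial. Let X be
a scheme proper over a field k with an ample invertible sheaf L, I the ideal of an effective Cartier
divisor D on X, and E a coherent O_X-module with a finite weighted filtration 𝓔 along I by coherent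
pieces E = E₀ ⊇ ⋯ ⊇ E_l ⊇ E_{l+1} = I·E, weights 0 ≤ w₀ < ⋯ < w_l < 1. Let d ≥ 1 be a natural number
with Supp E ∩ Supp D of topological Krull dimension less than d, P the Hilbert polynomial of E with
respect to L and P_j that of E_j (0 ≤ j ≤ l+1). Then the coefficient of degree d − 1 of the
parabolic Hilbert polynomial P_{l+1} + Σ_{j ≤ l} w_j (P_j − P_{j+1}) is at least the coefficient of
degree d − 1 of P_{l+1} and at most that of P. For E pure of dimension d this says that the
parabolic slope lies between the slope of E(−D) and the slope of E; the published statement also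
gives a lower bound μ(E) − b with b depending only on a bound for the multiplicity of E, on d, D and
L, which is not part of this row. -/
theorem result (k : Type u) [Field k] (X : Scheme.{u})
    [X.Over (Spec (CommRingCat.of k))] [IsProper (X ↘ Spec (CommRingCat.of k))]
    (L : X.Modules) (hL : CohB1.IsAmple L) (I : X.IdealSheafData) (hD : FGA.IsEffCartier I)
    (E : X.Modules) (hE : Coh.IsCoh E) (𝓔 : ParSh.Str E) (h𝓔 : 𝓔.Along I)
    (hcoh : ∀ j, Coh.IsCoh ((𝓔.pieceX j : Subobject E) : X.Modules)) (d : ℕ) (hd : 1 ≤ d)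
    (hsupp : topologicalKrullDim ↥(CohB1.support E ∩ (I.support : Set X)) < (d : WithBot ℕ∞))
    (P : ℚ[X]) (hP : ShStab.IsHilbPoly k X L E P) (PX : Fin (𝓔.l + 2) → ℚ[X])
    (hPX : ∀ j, ShStab.IsHilbPoly k X L ((𝓔.pieceX j : Subobject E) : X.Modules) (PX j)) :
    (W4swparbununimod.rpoly (PX (Fin.last (𝓔.l + 1)))).coeff (d - 1) ≤ (W4swparbununimod.parPoly 𝓔 PX).coeff (d - 1) ∧
      (W4swparbununimod.parPoly 𝓔 PX).coeff (d - 1) ≤ (W4swparbununimod.rpoly P).coeff (d - 1) := by
  have hbot : ∀ j, ParSh.twistSub I E ≤ 𝓔.pieceX j := fun j => by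
    have := 𝓔.bot_le_pieceX j; rwa [show 𝓔.bot = ParSh.twistSub I E from h𝓔] at this
  have hmono : ∀ j : Fin (𝓔.l + 1),
      (Rat.castHom ℝ) ((PX j.succ).coeff (d - 1)) ≤ (Rat.castHom ℝ) ((PX j.castSucc).coeff (d - 1)) :=
    fun j => Groth.Agent.Lib.R2H7.ParHilbB.coeff_pred_mono k L hL I E hE (𝓔.pieceX j.castSucc)
      (𝓔.pieceX j.succ) (hcoh _) (hcoh _) (Groth.Agent.Lib.R2H7.ParHilbB.pieceX_succ_le 𝓔 j)
      (hbot _) d hd hsupp P _ _ hP (hPX _) (hPX _)
  have h0 : PX 0 = P := by
    have h1 := hPX 0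
    have h2 := hcoh 0
    rw [Groth.Agent.Lib.R2H7.ParHilbB.pieceX_zero] at h1 h2
    exact Groth.Agent.Lib.R2H7.ParHilbB.hilbPoly_top k L hL E hE h2 P (PX 0) hP h1
  have hb := Groth.Agent.Lib.R2H7.ParHilbB.weighted_bounds 𝓔.l 𝓔.wt
    (fun j => (Rat.castHom ℝ) ((PX j).coeff (d - 1)))
    (Groth.Agent.Lib.R2H7.ParHilbB.wt_nonneg' 𝓔) (Groth.Agent.Lib.R2H7.ParHilbB.wt_le_one 𝓔) hmono
  rw [Groth.Agent.Lib.R2H7.ParHilbB.coeff_parPoly, Polynomial.coeff_map, Polynomial.coeff_map]
  simp only [h0] at hb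
  exact hb

end Groth.Agent.S18527
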