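import Groth.Statements.S18656
import Mathlib
import Groth.Agent.Lib.R2H7GrTop

set_option autoImplicit false
universe u
open GrLC

namespace Groth.Agent.S18656

/-- Let R be a graded ring defined over a field k = R_0, generated over k by R_1, of dimension r ≥ 1,
and let a(R) be its a-invariant. Then the homogeneous piece H^r_m(R)_n is nonzero for every n ≤
a(R). Here 'graded ring defined over a field' means R = ⊕_{n ≥ 0} R_n is Noetherian with R_0 a
field, and m = R_+ is its unique graded maximal ideal. The a-invariant a(R) is the largest degree in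
which the graded local cohomology H^n_m(R) (n = dim R, m = R_+), computed from a *injective
resolution of R in the graded category, is nonzero. -/
theorem result (R : Type u) [CommRing R] [IsNoetherianRing R] (𝒜 : ℤ → AddSubgroup R) [GradedRing 𝒜] (hpos : ∀ n : ℤ, n < 0 → 𝒜 n = ⊥) (h0 : IsField (GrLC.deg0 𝒜)) (m : HomogeneousIdeal 𝒜) (hm : GrLC.IsStarLocal 𝒜 m) (hmsp : m.toIdeal = Ideal.span (⋃ n ∈ Set.Ioi (0 : ℤ), (𝒜 n : Set R))) (hstd : Ideal.span (⋃ n ∈ Set.Ioi (0 : ℤ), (𝒜 n : Set R)) = Ideal.span ((𝒜 1 : AddSubgroup R) : Set R)) (r : ℕ) (hr : ringKrullDim R = r) (h1 : 1 ≤ r) (I : GrLC.StarInjRes 𝒜 𝒜) (a : ℤ) (ha : GrLC.endDeg (I.Hgr m r) = ((a : WithTop ℤ) : WithBot (WithTop ℤ))) (n : ℤ) (hn : n ≤ a) : I.Hcomp m r n ≠ ⊥ := by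
  intro hbot
  have hhom : m.toIdeal = Ideal.span ((𝒜 1 : AddSubgroup R) : Set R) := hmsp.trans hstd
  have h1' : Groth.Agent.Lib.R2H7.GrDer.VanX m (GrLC.GMod.of 𝒜 R 𝒜) r n :=
    (Groth.Agent.Lib.R2H7.GrGen.hcomp_eq_bot_iff_vanX' m 𝒜 I r n).mp hbot
  have h2 : Groth.Agent.Lib.R2H7.GrDer.VanX m (GrLC.GMod.of 𝒜 R 𝒜) r a :=
    Groth.Agent.Lib.R2H7.GrTop.vanX_top_of_le m hhom r h1 hr _ n a hn h1'
  have h3 : I.Hgr m r a = ⊥ := (Groth.Agent.Lib.R2H7.GrGen.hgr_eq_bot_iff' m 𝒜 I r a).mpr h2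
  have h4 : GrLC.endDeg (I.Hgr m r) ≤ (((a - 1 : ℤ) : WithTop ℤ) : WithBot (WithTop ℤ)) := by
    rw [Groth.Agent.Lib.R2H7.GrBdry.endDeg_le_iff']
    intro j hj
    by_cases hja : j = a
    · rw [hja]
      exact h3
    · exact (Groth.Agent.Lib.R2H7.GrBdry.endDeg_le_iff' (I.Hgr m r) a).mp (le_of_eq ha) j
        (by omega)
  rw [ha] at h4
  have := WithTop.coe_le_coe.mp (WithBot.coe_le_coe.mp h4)
  omega

end Groth.Agent.S18656
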