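import Groth.Statements.S18685
import Mathlib
import Groth.Agent.Lib.H9GLat
-- import your own Groth.Agent.* helpers here

set_option autoImplicit false
open GLat

namespace Groth.Agent.S18685

/-- For a finite group G and a finitely generated G-module A there is an exact sequence 0 → P → F → A →
0 of finitely generated G-modules with P a permutation lattice and F a flasque lattice; rendered by
equivariant ℤ-linear maps i : P → F injective, π : F → A surjective, with range i = ker π. -/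
theorem result (G : Type) [Group G] [Finite G]
    (A : Type) [AddCommGroup A] [Module.Finite ℤ A] (ρ : Representation ℤ G A) :
    ∃ (P : Type) (_ : AddCommGroup P) (F : Type) (_ : AddCommGroup F)
      (_ : Module.Finite ℤ P) (_ : Module.Free ℤ P) (_ : Module.Finite ℤ F) (_ : Module.Free ℤ F)
      (σ : Representation ℤ G P) (τ : Representation ℤ G F) (i : P →ₗ[ℤ] F) (π : F →ₗ[ℤ] A),
      GLat.IsEquivariant σ τ i ∧ GLat.IsEquivariant τ ρ π ∧ Function.Injective i ∧ Function.Surjective π ∧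
      LinearMap.range i = LinearMap.ker π ∧ GLat.IsPermutation σ ∧ GLat.IsFlasque τ := by
  classical
  obtain ⟨Q, _, P₀, _, _, _, _, _, σQ, σ₀, i₀, π₀, hi₀, hπ₀, hi₀inj, hπ₀surj, hex₀, hperm₀, -⟩ :=
    Groth.Agent.S18675.result G A ρ
  obtain ⟨P₁, _, F₁, _, _, _, _, _, σ₁, τ₁, i₁, π₁, hi₁, hπ₁, hi₁inj, hπ₁surj, hex₁, hperm₁,
    hfl₁⟩ := Groth.Agent.S18686.result G Q σQ
  let d : Q →ₗ[ℤ] (P₀ × P₁) := LinearMap.prod i₀ (-i₁)
  have hd : ∀ q, d q = (i₀ q, -i₁ q) := fun q => rfl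
  let K : Submodule ℤ (P₀ × P₁) := LinearMap.range d
  let σ₀₁ : Representation ℤ G (P₀ × P₁) :=
    { toFun := fun g => (σ₀ g).prodMap (σ₁ g)
      map_one' := by
        ext x <;> simp
      map_mul' := fun g h => by
        ext x <;> simp }
  have hσ₀₁ : ∀ (g : G) (x : P₀ × P₁), σ₀₁ g x = (σ₀ g x.1, σ₁ g x.2) := fun g x => rfl
  have hKstable : ∀ g : G, K ≤ K.comap (σ₀₁ g) := by
    rintro g _ ⟨q, rfl⟩
    refine ⟨σQ g q, ?_⟩
    rw [hd, hd, hi₀, hσ₀₁]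
    show (σ₀ g (i₀ q), -i₁ (σQ g q)) = (σ₀ g (i₀ q), σ₁ g (-i₁ q))
    rw [map_neg, hi₁]
  let τ : Representation ℤ G ((P₀ × P₁) ⧸ K) :=
    { toFun := fun g => K.mapQ K (σ₀₁ g) (hKstable g)
      map_one' := by
        apply Submodule.linearMap_qext
        ext x <;> simp
      map_mul' := fun g h => by
        apply Submodule.linearMap_qext
        ext x <;> simp }
  have hτ : ∀ (g : G) (x : P₀ × P₁), τ g (K.mkQ x) = K.mkQ (σ₀ g x.1, σ₁ g x.2) := fun g x => rfl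
  -- maps
  let ι : P₁ →ₗ[ℤ] (P₀ × P₁) ⧸ K := K.mkQ ∘ₗ LinearMap.inr ℤ P₀ P₁
  have hι : ∀ p₁, ι p₁ = K.mkQ (0, p₁) := fun p₁ => rfl
  let u : P₀ →ₗ[ℤ] (P₀ × P₁) ⧸ K := K.mkQ ∘ₗ LinearMap.inl ℤ P₀ P₁
  have hu : ∀ p₀, u p₀ = K.mkQ (p₀, 0) := fun p₀ => rfl
  have hker_i₀ : ∀ q, π₀ (i₀ q) = 0 := fun q => by
    have : i₀ q ∈ LinearMap.ker π₀ := hex₀ ▸ ⟨q, rfl⟩
    exact this
  have hker_i₁ : ∀ q, π₁ (i₁ q) = 0 := fun q => by
    have : i₁ q ∈ LinearMap.ker π₁ := hex₁ ▸ ⟨q, rfl⟩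
    exact this
  let π : (P₀ × P₁) ⧸ K →ₗ[ℤ] A := K.liftQ (π₀ ∘ₗ LinearMap.fst ℤ P₀ P₁) (by
    rintro _ ⟨q, rfl⟩
    rw [LinearMap.mem_ker, hd]
    exact hker_i₀ q)
  have hπ : ∀ x : P₀ × P₁, π (K.mkQ x) = π₀ x.1 := fun x => rfl
  let v : (P₀ × P₁) ⧸ K →ₗ[ℤ] F₁ := K.liftQ (π₁ ∘ₗ LinearMap.snd ℤ P₀ P₁) (by
    rintro _ ⟨q, rfl⟩
    rw [LinearMap.mem_ker, hd]
    show π₁ (-i₁ q) = 0
    rw [map_neg, hker_i₁, neg_zero])
  have hv : ∀ x : P₀ × P₁, v (K.mkQ x) = π₁ x.2 := fun x => rfl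
  have hmk0 : ∀ x : P₀ × P₁, K.mkQ x = 0 ↔ ∃ q, d q = x := by
    intro x
    rw [Submodule.mkQ_apply, Submodule.Quotient.mk_eq_zero]
    rfl
  -- u injective
  have huinj : Function.Injective u := by
    rw [← LinearMap.ker_eq_bot, Submodule.eq_bot_iff]
    intro p₀ hp₀
    rw [LinearMap.mem_ker, hu, hmk0] at hp₀
    obtain ⟨q, hq⟩ := hp₀
    rw [hd, Prod.ext_iff] at hq
    have h0 : i₀ q = p₀ := hq.1
    have h1 : -i₁ q = 0 := hq.2
    have h1' : i₁ q = 0 := neg_eq_zero.mp h1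
    have h2 : q = 0 := hi₁inj (by rw [h1', map_zero])
    rw [← h0, h2, map_zero]
  -- exactness of u, v
  have hexuv : LinearMap.range u = LinearMap.ker v := by
    ext y
    constructor
    · rintro ⟨p₀, rfl⟩
      rw [LinearMap.mem_ker, hu, hv, map_zero]
    · intro hy
      obtain ⟨⟨p₀, p₁⟩, rfl⟩ := K.mkQ_surjective y
      rw [LinearMap.mem_ker, hv] at hy
      have : p₁ ∈ LinearMap.range i₁ := hex₁ ▸ (LinearMap.mem_ker.mpr hy)
      obtain ⟨q, rfl⟩ := this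
      refine ⟨p₀ + i₀ q, ?_⟩
      rw [hu, ← sub_eq_zero, ← map_sub, hmk0]
      exact ⟨q, by rw [hd]; ext <;> simp⟩
  have hvsurj : Function.Surjective v := by
    intro f
    obtain ⟨p₁, rfl⟩ := hπ₁surj f
    exact ⟨K.mkQ (0, p₁), hv _⟩
  have hueq : GLat.IsEquivariant σ₀ τ u := by
    intro g p₀
    rw [hu, hu, hτ]
    simp
  have hveq : GLat.IsEquivariant τ τ₁ v := by
    intro g y
    obtain ⟨x, rfl⟩ := K.mkQ_surjective y
    rw [hτ, hv, hv, hπ₁]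
  have hflF : GLat.IsFlasque τ :=
    Groth.Agent.Lib.H9GLat.isFlasque_of_exact σ₀ τ τ₁ u v hueq hveq huinj hvsurj hexuv
      (Groth.Agent.Lib.H9GLat.isFlasque_of_isPermutation σ₀ hperm₀) hfl₁
  -- torsion-free
  have htf : Module.IsTorsionFree ℤ ((P₀ × P₁) ⧸ K) := by
    apply Module.IsTorsionFree.of_smul_eq_zero
    intro m y hy
    by_cases hm : m = 0
    · exact Or.inl hm
    right
    have h1 : v y = 0 := by
      have := congrArg v hy
      rw [map_smul, map_zero] at this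
      exact (smul_eq_zero.mp this).resolve_left hm
    have : y ∈ LinearMap.range u := hexuv ▸ (LinearMap.mem_ker.mpr h1)
    obtain ⟨p₀, rfl⟩ := this
    rw [← map_smul] at hy
    have h2 : m • p₀ = 0 := huinj (by rw [hy, map_zero])
    rw [(smul_eq_zero.mp h2).resolve_left hm, map_zero]
  refine ⟨P₁, inferInstance, (P₀ × P₁) ⧸ K, inferInstance, inferInstance, inferInstance,
    inferInstance, inferInstance, σ₁, τ, ι, π, ?_, ?_, ?_, ?_, ?_, hperm₁, hflF⟩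
  · intro g p₁
    rw [hι, hι, hτ]
    simp
  · intro g y
    obtain ⟨x, rfl⟩ := K.mkQ_surjective y
    rw [hτ, hπ, hπ, hπ₀]
  · rw [← LinearMap.ker_eq_bot, Submodule.eq_bot_iff]
    intro p₁ hp₁
    rw [LinearMap.mem_ker, hι, hmk0] at hp₁
    obtain ⟨q, hq⟩ := hp₁
    rw [hd, Prod.ext_iff] at hq
    have h1 : i₀ q = 0 := hq.1
    have h2 : q = 0 := hi₀inj (by rw [h1, map_zero])
    have h3 : -i₁ q = p₁ := hq.2
    rw [← h3, h2, map_zero, neg_zero]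
  · intro a
    obtain ⟨p₀, rfl⟩ := hπ₀surj a
    exact ⟨K.mkQ (p₀, 0), hπ _⟩
  · ext y
    constructor
    · rintro ⟨p₁, rfl⟩
      rw [LinearMap.mem_ker, hι, hπ, map_zero]
    · intro hy
      obtain ⟨⟨p₀, p₁⟩, rfl⟩ := K.mkQ_surjective y
      rw [LinearMap.mem_ker, hπ] at hy
      have : p₀ ∈ LinearMap.range i₀ := hex₀ ▸ (LinearMap.mem_ker.mpr hy)
      obtain ⟨q, rfl⟩ := this
      refine ⟨p₁ + i₁ q, ?_⟩
      rw [hι, ← sub_eq_zero, ← map_sub, hmk0]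
      exact ⟨-q, by rw [hd]; ext <;> simp⟩

end Groth.Agent.S18685
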