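import Groth.Statements.S18687
import Mathlib
import Groth.Agent.Lib.H9GLat
-- import your own Groth.Agent.* helpers here

set_option autoImplicit false
open GLat

namespace Groth.Agent.S18687

/-- For a finite group G and a G-lattice A (finitely generated and free over ℤ) there is an exact
sequence 0 → A → Q → P → 0 of G-lattices with Q coflasque and P a permutation lattice (a coflasque
resolution of A); rendered by equivariant ℤ-linear maps i : A → Q injective, π : Q → P surjective,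
with range i = ker π. -/
theorem result (G : Type) [Group G] [Finite G]
    (A : Type) [AddCommGroup A] [Module.Finite ℤ A] [Module.Free ℤ A] (ρ : Representation ℤ G A) :
    ∃ (Q : Type) (_ : AddCommGroup Q) (P : Type) (_ : AddCommGroup P)
      (_ : Module.Finite ℤ Q) (_ : Module.Free ℤ Q) (_ : Module.Finite ℤ P) (_ : Module.Free ℤ P)
      (σ : Representation ℤ G Q) (τ : Representation ℤ G P) (i : A →ₗ[ℤ] Q) (π : Q →ₗ[ℤ] P),
      GLat.IsEquivariant ρ σ i ∧ GLat.IsEquivariant σ τ π ∧ Function.Injective i ∧ Function.Surjective π ∧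
      LinearMap.range i = LinearMap.ker π ∧ GLat.IsCoflasque σ ∧ GLat.IsPermutation τ := by
  classical
  obtain ⟨P₁, _, F, _, _, _, _, _, σ₁, τF, i₁, π₁, hi₁, hπ₁, hi₁inj, hπ₁surj, hex₁, hperm₁, -⟩ :=
    Groth.Agent.S18686.result G A ρ
  obtain ⟨Q', _, P₂, _, _, _, _, _, σQ', σ₂, i₂, π₂, hi₂, hπ₂, hi₂inj, hπ₂surj, hex₂, hperm₂,
    hcofl⟩ := Groth.Agent.S18675.result G F τF
  let D : (P₁ × P₂) →ₗ[ℤ] F :=
    π₁ ∘ₗ LinearMap.fst ℤ P₁ P₂ - π₂ ∘ₗ LinearMap.snd ℤ P₁ P₂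
  have hD : ∀ x : P₁ × P₂, D x = π₁ x.1 - π₂ x.2 := fun x => rfl
  let E : Submodule ℤ (P₁ × P₂) := LinearMap.ker D
  have hE : ∀ x : P₁ × P₂, x ∈ E ↔ π₁ x.1 = π₂ x.2 := by
    intro x
    rw [LinearMap.mem_ker, hD, sub_eq_zero]
  let σ₁₂ : Representation ℤ G (P₁ × P₂) :=
    { toFun := fun g => (σ₁ g).prodMap (σ₂ g)
      map_one' := by
        ext x <;> simp
      map_mul' := fun g h => by
        ext x <;> simp }
  have hσ₁₂ : ∀ (g : G) (x : P₁ × P₂), σ₁₂ g x = (σ₁ g x.1, σ₂ g x.2) := fun g x => rfl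
  have hEstable : ∀ (g : G) (x : P₁ × P₂), x ∈ E → σ₁₂ g x ∈ E := by
    intro g x hx
    rw [hE] at hx ⊢
    rw [hσ₁₂]
    show π₁ (σ₁ g x.1) = π₂ (σ₂ g x.2)
    rw [hπ₁, hπ₂, hx]
  let σE : Representation ℤ G E :=
    { toFun := fun g => (σ₁₂ g).restrict (hEstable g)
      map_one' := by
        ext x <;> simp
      map_mul' := fun g h => by
        ext x <;> simp }
  have hσE : ∀ (g : G) (x : E), ((σE g x : E) : P₁ × P₂) = (σ₁ g x.1.1, σ₂ g x.1.2) :=
    fun g x => rfl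
  let j : A →ₗ[ℤ] E := LinearMap.codRestrict E (LinearMap.inl ℤ P₁ P₂ ∘ₗ i₁) (by
    intro a
    rw [hE]
    show π₁ (i₁ a) = π₂ 0
    rw [map_zero]
    have : i₁ a ∈ LinearMap.ker π₁ := hex₁ ▸ ⟨a, rfl⟩
    exact this)
  have hj : ∀ a, ((j a : E) : P₁ × P₂) = (i₁ a, 0) := fun a => rfl
  let pr₂ : E →ₗ[ℤ] P₂ := LinearMap.snd ℤ P₁ P₂ ∘ₗ E.subtype
  let u : Q' →ₗ[ℤ] E := LinearMap.codRestrict E (LinearMap.inr ℤ P₁ P₂ ∘ₗ i₂) (by
    intro q
    rw [hE]
    show π₁ 0 = π₂ (i₂ q)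
    rw [map_zero]
    have : i₂ q ∈ LinearMap.ker π₂ := hex₂ ▸ ⟨q, rfl⟩
    exact this.symm)
  have hu : ∀ q, ((u q : E) : P₁ × P₂) = (0, i₂ q) := fun q => rfl
  let v : E →ₗ[ℤ] P₁ := LinearMap.fst ℤ P₁ P₂ ∘ₗ E.subtype
  have hcoflE : GLat.IsCoflasque σE := by
    refine Groth.Agent.Lib.H9GLat.isCoflasque_of_exact σQ' σE σ₁ u v ?_ ?_ ?_ ?_ ?_ hcofl
      (Groth.Agent.Lib.H9GLat.isCoflasque_of_isPermutation σ₁ hperm₁)
    · intro g q
      apply Subtype.ext
      rw [hσE, hu, hu]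
      show (0, i₂ (σQ' g q)) = (σ₁ g 0, σ₂ g (i₂ q))
      rw [map_zero, hi₂]
    · intro g x
      rfl
    · intro q q' h
      have := congrArg (fun e : E => (e : P₁ × P₂).2) h
      exact hi₂inj this
    · intro p₁
      obtain ⟨p₂, hp₂⟩ := hπ₂surj (π₁ p₁)
      exact ⟨⟨(p₁, p₂), (hE _).mpr hp₂.symm⟩, rfl⟩
    · ext x
      constructor
      · rintro ⟨q, rfl⟩
        rw [LinearMap.mem_ker]
        rfl
      · intro hx
        rw [LinearMap.mem_ker] at hx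
        have hx1 : x.1.1 = 0 := hx
        have hx2 : π₂ x.1.2 = 0 := by
          have := (hE x.1).mp x.2
          rw [← this, hx1, map_zero]
        have : x.1.2 ∈ LinearMap.range i₂ := hex₂ ▸ (LinearMap.mem_ker.mpr hx2)
        obtain ⟨q, hq⟩ := this
        refine ⟨q, Subtype.ext ?_⟩
        rw [hu]
        exact Prod.ext hx1.symm hq
  refine ⟨E, inferInstance, P₂, inferInstance, inferInstance, inferInstance, inferInstance,
    inferInstance, σE, σ₂, j, pr₂, ?_, ?_, ?_, ?_, ?_, hcoflE, hperm₂⟩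
  · intro g a
    apply Subtype.ext
    rw [hσE, hj, hj]
    show (i₁ (ρ g a), 0) = (σ₁ g (i₁ a), σ₂ g 0)
    rw [map_zero, hi₁]
  · intro g x
    rfl
  · intro a a' h
    have := congrArg (fun e : E => (e : P₁ × P₂).1) h
    exact hi₁inj this
  · intro p₂
    obtain ⟨p₁, hp₁⟩ := hπ₁surj (π₂ p₂)
    exact ⟨⟨(p₁, p₂), (hE _).mpr hp₁⟩, rfl⟩
  · ext x
    constructor
    · rintro ⟨a, rfl⟩
      rw [LinearMap.mem_ker]
      rfl
    · intro hx
      rw [LinearMap.mem_ker] at hx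
      have hx2 : x.1.2 = 0 := hx
      have hx1 : π₁ x.1.1 = 0 := by
        have := (hE x.1).mp x.2
        rw [this, hx2, map_zero]
      have : x.1.1 ∈ LinearMap.range i₁ := hex₁ ▸ (LinearMap.mem_ker.mpr hx1)
      obtain ⟨a, ha⟩ := this
      refine ⟨a, Subtype.ext ?_⟩
      rw [hj]
      exact Prod.ext ha hx2.symm

end Groth.Agent.S18687
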