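import Groth.Statements.S18737
import Mathlib
import Groth.Agent.Lib.H9ModPair3

set_option autoImplicit false
universe u
open CategoryTheory CategoryTheory.Limits AlgebraicGeometry TopologicalSpace
open ModPair

namespace Groth.Agent.S18737

/-- Let X be a scheme and I the quasi-coherent ideal sheaf of an effective Cartier divisor on X, with
open complement U, and suppose U is the disjoint union of two opens U₀, U₁ of X. Let X₀, X₁ ⊆ X be
the scheme-theoretic images of U₀ and U₁ in X and p : X₀ ⨿ X₁ ⟶ X the morphism induced by the two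
closed immersions. Then the pulled-back ideal I.comap p is the ideal sheaf of an effective Cartier
divisor, and p is an abstract admissible blow-up from (X₀ ⨿ X₁, I.comap p) to (X, I): proper, with
the pulled-back modulus, and an isomorphism over U. -/
theorem result {X : Scheme.{u}}
    (I : X.IdealSheafData) (hI : BlowUp.IsEffCartierIdeal I) (U₀ U₁ : X.Opens)
    (hU : U₀ ⊔ U₁ = ModPair.interior I) (hd : Disjoint U₀ U₁) :
    BlowUp.IsEffCartierIdeal (I.comap (coprod.desc U₀.ι.imageι U₁.ι.imageι)) ∧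
      ModPair.IsAdmBlowup (I.comap (coprod.desc U₀.ι.imageι U₁.ι.imageι)) I
        (coprod.desc U₀.ι.imageι U₁.ι.imageι) := by
  haveI hqc : QuasiCompact (ModPair.interior I).ι :=
    Groth.Agent.S18732.quasiCompact_ι I hI (𝟙 X)
  haveI hqc₁ : QuasiCompact U₁.ι :=
    Groth.Agent.Lib.H9ModPair3.quasiCompact_ι_of_sdiff (ModPair.interior I) U₀ U₁ hU hd
  haveI hqc₀ : QuasiCompact U₀.ι :=
    Groth.Agent.Lib.H9ModPair3.quasiCompact_ι_of_sdiff (ModPair.interior I) U₁ U₀
      (by rw [sup_comm]; exact hU) hd.symm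
  have hle₀ : U₀ ≤ ModPair.interior I := by rw [← hU]; exact le_sup_left
  have hle₁ : U₁ ≤ ModPair.interior I := by rw [← hU]; exact le_sup_right
  have heff : ∀ (U' : X.Opens), U' ≤ ModPair.interior I →
      BlowUp.IsEffCartierIdeal (I.comap U'.ι.imageι) := by
    intro U' hU'
    haveI : IsSchemeTheoreticallyDominant (U'.ι.imageι ⁻¹ᵁ ModPair.interior I).ι :=
      Groth.Agent.Lib.H9ModPair1.dominant_of_preimage_le U' _ (fun z hz => hU' hz)
    exact (Groth.Agent.S18732.result I hI U'.ι.imageι).2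
  refine ⟨?_, rfl, inferInstance, ?_⟩
  · apply Groth.Agent.Lib.H9ModPair3.isEffCartierIdeal_of_cover
    intro z
    rcases Groth.Agent.Lib.H9ModPair3.mem_range_inl_or_inr z with hz | hz
    · refine ⟨_, coprod.inl, inferInstance, hz, ?_⟩
      rw [← Scheme.IdealSheafData.comap_comp, coprod.inl_desc]
      exact heff U₀ hle₀
    · refine ⟨_, coprod.inr, inferInstance, hz, ?_⟩
      rw [← Scheme.IdealSheafData.comap_comp, coprod.inr_desc]
      exact heff U₁ hle₁
  · exact Groth.Agent.Lib.H9ModPair3.isIso_restrict_of_sup _ (ModPair.interior I) U₀ U₁ hU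
      (Groth.Agent.Lib.H9ModPair3.isIso_coprodDesc_restrict _ _ U₀
        (Groth.Agent.Lib.H9ModPair3.preimage_imageι_eq_bot U₀ U₁ hd)
        (Groth.Agent.Lib.H9ModPair1.isIso_imageι_restrict U₀ U₀ rfl))
      (Groth.Agent.Lib.H9ModPair3.isIso_coprodDesc_restrict' _ _ U₁
        (Groth.Agent.Lib.H9ModPair3.preimage_imageι_eq_bot U₁ U₀ hd.symm)
        (Groth.Agent.Lib.H9ModPair1.isIso_imageι_restrict U₁ U₁ rfl))

end Groth.Agent.S18737
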