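import Groth.Statements.S18738
import Mathlib
import Groth.Agent.Lib.H9ModPair1

set_option autoImplicit false
universe u
open CategoryTheory CategoryTheory.Limits AlgebraicGeometry TopologicalSpace
open ModPair

namespace Groth.Agent.S18738

/-- In the category of modulus pairs and ambient morphisms, the class Σ of abstract admissible blow-ups
(minimal, proper, an isomorphism over the interior of the target) admits a calculus of right
fractions: it contains the identities and is stable under composition; every pair X' ⟶ X ⟵ Y with X'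
⟶ X in Σ can be completed to a commutative square with a morphism Y' ⟶ Y in Σ; and two ambient
morphisms f, g : X ⟶ Y equalized by some Y ⟶ Z in Σ are equalized by some X' ⟶ X in Σ. -/
theorem result :
    (ModPair.Pair.admBlowup.{u}).HasRightCalculusOfFractions := by
  refine { id_mem := ?_, comp_mem := ?_, exists_rightFraction := ?_, ext := ?_ }
  · intro P
    exact Groth.Agent.Lib.H9ModPair1.isAdmBlowup_id P.mod
  · intro P Q R f g hf hg
    exact Groth.Agent.Lib.H9ModPair1.isAdmBlowup_comp P.mod Q.mod R.mod f.hom g.hom hf hg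
  · intro P Q φ
    -- φ.f : P ⟶ Y', φ.s : Q ⟶ Y' admissible
    have hs : ModPair.IsAdmBlowup Q.mod φ.Y'.mod φ.s.hom := φ.hs
    have hg : ModPair.IsAmbient P.mod φ.Y'.mod φ.f.hom := φ.f.cond
    let P' : ModPair.Pair.{u} :=
      { total := ModPair.mprod φ.s.hom φ.f.hom Q.mod P.mod
        mod := P.mod.comap (ModPair.mprodι φ.s.hom φ.f.hom Q.mod P.mod ≫
          pullback.snd φ.s.hom φ.f.hom)
        isEffCartier :=
          Groth.Agent.Lib.H9ModPair1.effCartier_comap_snd φ.s.hom φ.f.hom Q.mod P.mod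
            P.isEffCartier }
    let s' : P' ⟶ P :=
      ⟨ModPair.mprodι φ.s.hom φ.f.hom Q.mod P.mod ≫ pullback.snd φ.s.hom φ.f.hom, le_rfl⟩
    let f' : P' ⟶ Q :=
      ⟨ModPair.mprodι φ.s.hom φ.f.hom Q.mod P.mod ≫ pullback.fst φ.s.hom φ.f.hom,
        Groth.Agent.Lib.H9ModPair1.isAmbient_mprod_fst φ.s.hom φ.f.hom φ.Y'.mod Q.mod P.mod
          hs.1 hg⟩
    refine ⟨{ X' := P', s := s', hs := ?_, f := f' }, ?_⟩
    · exact Groth.Agent.Lib.H9ModPair1.isAdmBlowup_mprod φ.s.hom φ.f.hom φ.Y'.mod Q.mod P.mod hs hg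
    · apply ModPair.Pair.Hom.ext
      show (ModPair.mprodι φ.s.hom φ.f.hom Q.mod P.mod ≫ pullback.snd φ.s.hom φ.f.hom) ≫ φ.f.hom =
        (ModPair.mprodι φ.s.hom φ.f.hom Q.mod P.mod ≫ pullback.fst φ.s.hom φ.f.hom) ≫ φ.s.hom
      rw [Category.assoc, Category.assoc, pullback.condition]
  · intro P Q R f₁ f₂ s hs h
    have h' : f₁.hom ≫ s.hom = f₂.hom ≫ s.hom := congrArg ModPair.Pair.Hom.hom h
    have he : f₁ = f₂ := by
      apply ModPair.Pair.Hom.ext
      exact Groth.Agent.Lib.H9ModPair1.eq_of_comp_admBlowup P.mod Q.mod R.mod P.isEffCartier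
        f₁.hom f₂.hom f₁.cond f₂.cond s.hom hs h'
    exact ⟨P, 𝟙 P, Groth.Agent.Lib.H9ModPair1.isAdmBlowup_id P.mod, by rw [he]⟩

end Groth.Agent.S18738
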