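import Groth.Statements.S18750
import Mathlib
import Groth.Agent.Lib.H9BlowExist
import Groth.Agent.Lib.H9ModPair5
import Groth.Agent.Lib.Helper20BlowUp

set_option autoImplicit false
universe u
open CategoryTheory CategoryTheory.Limits AlgebraicGeometry TopologicalSpace
open ModPair

namespace Groth.Agent.S18750

/-- Let (S, I_S), (T, J), (X, I) be schemes with quasi-coherent ideal sheaves of effective Cartier
divisors and f : X ⟶ S, g : T ⟶ S morphisms satisfying the modulus condition, and let Y₀ be the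
scheme-theoretic image of pr₁⁻¹(X°) ∩ pr₂⁻¹(T°) in X ×_S T. Then the ambient product exists: there
are a blowing up π : Y ⟶ Y₀ of Y₀ in the sum of the two pulled-back moduli and an ideal sheaf K on Y
whose product with the exceptional ideal is the product of the pull-backs of I and J (the divisor
D_X + D_T − E exists). -/
theorem result {S T X : Scheme.{u}} (IS : S.IdealSheafData)
    (J : T.IdealSheafData) (I : X.IdealSheafData) (hS : BlowUp.IsEffCartierIdeal IS)
    (hT : BlowUp.IsEffCartierIdeal J) (hX : BlowUp.IsEffCartierIdeal I)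
    (f : X ⟶ S) (hf : ModPair.IsAmbient I IS f) (g : T ⟶ S) (hg : ModPair.IsAmbient J IS g) :
    ∃ (Y : Scheme.{u}) (π : Y ⟶ ModPair.mprod f g I J) (K : Y.IdealSheafData),
      ModPair.IsAmbProd f g I J π K := by
  obtain ⟨Y, π, hπ⟩ := Groth.Agent.Lib.H9BlowExist.exists_isBlowUp (prodCentre f g I J)
  set I₀ := I.comap (mprodι f g I J ≫ pullback.fst f g) with hI₀
  set J₀ := J.comap (mprodι f g I J ≫ pullback.snd f g) with hJ₀
  have hI₀e : BlowUp.IsEffCartierIdeal I₀ := Groth.Agent.Lib.H9ModPair1.effCartier_comap_fst f g I J hX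
  have hJ₀e : BlowUp.IsEffCartierIdeal J₀ := Groth.Agent.Lib.H9ModPair1.effCartier_comap_snd f g I J hT
  have h1 : BlowUp.IsEffCartierIdeal (I₀.comap π) :=
    Groth.Agent.Lib.Helper20.BlowUpBasic.isEffCartierIdeal_comap _ π hπ I₀ hI₀e
  have h2 : BlowUp.IsEffCartierIdeal (J₀.comap π) :=
    Groth.Agent.Lib.Helper20.BlowUpBasic.isEffCartierIdeal_comap _ π hπ J₀ hJ₀e
  have hE : (prodCentre f g I J).comap π = I₀.comap π ⊔ J₀.comap π := by
    unfold prodCentre
    rw [Scheme.IdealSheafData.comap_sup]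
  have hEe : BlowUp.IsEffCartierIdeal (I₀.comap π ⊔ J₀.comap π) := by
    rw [← hE]; exact hπ.1
  obtain ⟨I₁, I₂, -, -, e1, e2, -, -⟩ := Groth.Agent.Lib.H9ModPair5.main h1 h2 hEe
  refine ⟨Y, π, I₁ * I₂ * (I₀.comap π ⊔ J₀.comap π), hπ, ?_⟩
  rw [hE]
  have key : ∀ (A B E : Y.IdealSheafData), A = I₁ * E → B = I₂ * E →
      I₁ * I₂ * E * E = A * B := by
    intro A B E ha hb
    rw [ha, hb]
    ring
  exact key _ _ _ e1 e2

end Groth.Agent.S18750
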