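import Groth.Statements.S18752
import Mathlib
import Groth.Agent.Lib.H9ModPairPB
import Groth.Agent.Lib.H9LocPB
import Groth.Agent.S18738

set_option autoImplicit false
universe u
open CategoryTheory CategoryTheory.Limits AlgebraicGeometry TopologicalSpace
open ModPair

namespace Groth.Agent.S18752

/-- Let f : X ⟶ P and g : T ⟶ P be ambient morphisms of modulus pairs and let (Y, K), with π : Y ⟶ Y₀ ⊆
X ×_P T, be an ambient product of X and T over P: Y₀ is the scheme-theoretic image of the product of
the interiors, π a blowing up of Y₀ in the sum of the pulled-back moduli, and K the ideal sheaf of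
an effective Cartier divisor with K times the exceptional ideal equal to the product of the
pulled-back moduli, the two projections satisfying the modulus condition. Then in the localization
of the category of modulus pairs at the abstract admissible blow-ups, the square with vertex (Y, K),
sides the two projections to T and X, and g, f, is a pullback square. -/
theorem result (P T X : ModPair.Pair.{u}) (f : X ⟶ P) (g : T ⟶ P)
    {Y : Scheme.{u}} (π : Y ⟶ ModPair.mprod f.hom g.hom X.mod T.mod) (K : Y.IdealSheafData)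
    (hY : ModPair.IsAmbProd f.hom g.hom X.mod T.mod π K) (hK : BlowUp.IsEffCartierIdeal K)
    (hX : ModPair.IsAmbient K X.mod (π ≫ ModPair.mprodι f.hom g.hom X.mod T.mod ≫ pullback.fst f.hom g.hom))
    (hT : ModPair.IsAmbient K T.mod (π ≫ ModPair.mprodι f.hom g.hom X.mod T.mod ≫ pullback.snd f.hom g.hom)) :
    IsPullback
      ((ModPair.Pair.admBlowup.{u}).Q.map
        (ModPair.Pair.Hom.mk (P := ModPair.Pair.mk Y K hK) (Q := T)
          (π ≫ ModPair.mprodι f.hom g.hom X.mod T.mod ≫ pullback.snd f.hom g.hom) hT))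
      ((ModPair.Pair.admBlowup.{u}).Q.map
        (ModPair.Pair.Hom.mk (P := ModPair.Pair.mk Y K hK) (Q := X)
          (π ≫ ModPair.mprodι f.hom g.hom X.mod T.mod ≫ pullback.fst f.hom g.hom) hX))
      ((ModPair.Pair.admBlowup.{u}).Q.map g) ((ModPair.Pair.admBlowup.{u}).Q.map f) := by
  haveI : (ModPair.Pair.admBlowup.{u}).HasRightCalculusOfFractions := Groth.Agent.S18738.result
  refine Groth.Agent.Lib.H9LocPB.isPullback_of_core (ModPair.Pair.admBlowup.{u}).Q
    (ModPair.Pair.admBlowup.{u}) _ _ g f ?_ ?_ ?_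
  · apply ModPair.Pair.Hom.ext
    change (π ≫ ModPair.mprodι f.hom g.hom X.mod T.mod ≫ pullback.snd f.hom g.hom) ≫ g.hom =
      (π ≫ ModPair.mprodι f.hom g.hom X.mod T.mod ≫ pullback.fst f.hom g.hom) ≫ f.hom
    simp only [Category.assoc, pullback.condition]
  · intro Z a b hab
    have hab' : a.hom ≫ g.hom = b.hom ≫ f.hom := congrArg ModPair.Pair.Hom.hom hab
    obtain ⟨Z', s₀, c, heff, hadm, hcs, hcf, hamb⟩ :=
      Groth.Agent.Lib.H9ModPairPB.core_exists f.hom g.hom X.mod T.mod T.isEffCartier
        X.isEffCartier π K hY Z.mod Z.isEffCartier a.hom b.hom a.cond b.cond hab'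
    refine ⟨ModPair.Pair.mk Z' (Z.mod.comap s₀) heff,
      ModPair.Pair.Hom.mk (P := ModPair.Pair.mk Z' (Z.mod.comap s₀) heff) (Q := Z) s₀ le_rfl,
      hadm,
      ModPair.Pair.Hom.mk (P := ModPair.Pair.mk Z' (Z.mod.comap s₀) heff)
        (Q := ModPair.Pair.mk Y K hK) c hamb, ?_, ?_⟩
    · apply ModPair.Pair.Hom.ext
      exact hcs
    · apply ModPair.Pair.Hom.ext
      exact hcf
  · intro Z c₁ c₂ e1 e2
    apply ModPair.Pair.Hom.ext
    exact Groth.Agent.Lib.H9ModPairPB.core_unique f.hom g.hom X.mod T.mod T.isEffCartier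
      X.isEffCartier π K hY Z.mod Z.isEffCartier c₁.hom c₂.hom c₁.cond
      (congrArg ModPair.Pair.Hom.hom e1) (congrArg ModPair.Pair.Hom.hom e2)

end Groth.Agent.S18752
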