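import Groth.Statements.S18739
import Mathlib
import Groth.Agent.Lib.H9LocFL
import Groth.Agent.Lib.H9ModPairFL
import Groth.Agent.Lib.H9ModPair9
import Groth.Agent.S18738
import Groth.Agent.S18749
import Groth.Agent.S18750
import Groth.Agent.S18752

set_option autoImplicit false
universe u
open CategoryTheory CategoryTheory.Limits AlgebraicGeometry TopologicalSpace
open ModPair

namespace Groth.Agent.S18739

/-- The localization of the category of modulus pairs and ambient morphisms at the class of abstract
admissible blow-ups has all finite limits. -/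
theorem result :
    HasFiniteLimits (ModPair.Pair.admBlowup.{u}).Localization := by
  haveI : (ModPair.Pair.admBlowup.{u}).HasRightCalculusOfFractions := Groth.Agent.S18738.result
  haveI : HasTerminal (ModPair.Pair.admBlowup.{u}).Localization :=
    Groth.Agent.Lib.H9LocFL.hasTerminal_of_map (ModPair.Pair.admBlowup.{u}).Q
      (ModPair.Pair.admBlowup.{u})
  haveI : HasPullbacks (ModPair.Pair.admBlowup.{u}).Localization := by
    refine Groth.Agent.Lib.H9LocFL.hasPullbacks_of_map (ModPair.Pair.admBlowup.{u}).Q
      (ModPair.Pair.admBlowup.{u}) ?_
    intro A B P a b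
    obtain ⟨Y, π, K, hY⟩ := Groth.Agent.S18750.result P.mod A.mod B.mod P.isEffCartier
      A.isEffCartier B.isEffCartier b.hom b.cond a.hom a.cond
    obtain ⟨hK, hX, hT, -⟩ := Groth.Agent.S18749.result P.mod A.mod B.mod P.isEffCartier
      A.isEffCartier B.isEffCartier b.hom b.cond a.hom a.cond π K hY
    exact (Groth.Agent.S18752.result P A B b a π K hY hK hX hT).hasPullback
  exact hasFiniteLimits_of_hasTerminal_and_pullbacks

end Groth.Agent.S18739
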