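import Groth.Statements.S18747
import Mathlib
import Groth.Agent.Lib.H9ModPair4

set_option autoImplicit false
universe u
open CategoryTheory CategoryTheory.Limits AlgebraicGeometry TopologicalSpace
open ModPair

namespace Groth.Agent.S18747

/-- The category of modulus pairs and ambient morphisms admits coproducts (indexed by any type in the
universe of the schemes involved), and the total-space functor to schemes preserves them: the
coproduct of a family (X_i, I_i) is the disjoint union of the X_i with the modulus restricting to
I_i on each summand. (The published statement adds that the total-space functor detects coproducts;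
read as reflection of coproducts this fails, since the identity of a scheme X is an ambient morphism
from (X, I) to (X, unit ideal) whose image is trivially a coproduct of the one-member family while
(X, unit ideal) is not the coproduct of (X, I) when I is not the unit ideal; only existence and
preservation are stated.) -/
theorem result (σ : Type u) :
    HasColimitsOfShape (Discrete σ) ModPair.Pair.{u} ∧
      PreservesColimitsOfShape (Discrete σ) ModPair.Pair.forget.{u} := by
  have key : ∀ F : Discrete σ ⥤ ModPair.Pair.{u}, ∃ c : Cocone F, Nonempty (IsColimit c) ∧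
      Nonempty (IsColimit (ModPair.Pair.forget.{u}.mapCocone c)) := by
    intro F
    let Q : σ → Scheme.{u} := fun i => (F.obj ⟨i⟩).total
    let I : ∀ i, (Q i).IdealSheafData := fun i => (F.obj ⟨i⟩).mod
    let C : ModPair.Pair.{u} :=
      { total := ∐ Q
        mod := Groth.Agent.Lib.H9ModPair4.sigmaIdeal Q I
        isEffCartier := Groth.Agent.Lib.H9ModPair4.sigmaIdeal_effCartier Q I
          (fun i => (F.obj ⟨i⟩).isEffCartier) }
    let inj : ∀ j : Discrete σ, F.obj j ⟶ C := fun j =>
      ⟨Sigma.ι Q j.as, le_of_eq (Groth.Agent.Lib.H9ModPair4.sigmaIdeal_comap Q I j.as).symm⟩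
    let c : Cocone F := { pt := C, ι := Discrete.natTrans inj }
    refine ⟨c, ⟨?_⟩, ⟨?_⟩⟩
    · refine
        { desc := fun s => ⟨Limits.Sigma.desc (fun i => (s.ι.app ⟨i⟩).hom), ?_⟩
          fac := ?_
          uniq := ?_ }
      · show Groth.Agent.Lib.H9ModPair4.sigmaIdeal Q I ≤ _
        apply Groth.Agent.Lib.H9ModPair4.le_of_comap_sigmaι_le
        intro i
        rw [Groth.Agent.Lib.H9ModPair4.sigmaIdeal_comap, ← Scheme.IdealSheafData.comap_comp,
          Sigma.ι_desc]
        exact (s.ι.app ⟨i⟩).cond
      · intro s j
        apply ModPair.Pair.Hom.ext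
        show Sigma.ι Q j.as ≫ Limits.Sigma.desc (fun i => (s.ι.app ⟨i⟩).hom) = (s.ι.app j).hom
        rw [Sigma.ι_desc]
      · intro s m hm
        apply ModPair.Pair.Hom.ext
        show m.hom = Limits.Sigma.desc (fun i => (s.ι.app ⟨i⟩).hom)
        apply Sigma.hom_ext
        intro i
        rw [Sigma.ι_desc]
        exact congrArg ModPair.Pair.Hom.hom (hm ⟨i⟩)
    · refine
        { desc := fun s => Limits.Sigma.desc (fun i => s.ι.app ⟨i⟩)
          fac := ?_
          uniq := ?_ }
      · intro s j
        show Sigma.ι Q j.as ≫ Limits.Sigma.desc (fun i => s.ι.app ⟨i⟩) = s.ι.app j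
        rw [Sigma.ι_desc]
      · intro s m hm
        apply Sigma.hom_ext
        intro i
        rw [Sigma.ι_desc]
        exact hm ⟨i⟩
  choose c hc hc' using key
  refine ⟨⟨fun F => ⟨⟨⟨c F, (hc F).some⟩⟩⟩⟩, ⟨fun {F} => ?_⟩⟩
  exact preservesColimit_of_preserves_colimit_cocone (hc F).some (hc' F).some

end Groth.Agent.S18747
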