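import Groth.Statements.S18873
import Groth.Agent.Lib.H6xLinkJ

set_option autoImplicit false
universe u
open Liaison

namespace Groth.Agent.S18873

/-- Let K be a field, R = K[x_0, …, x_n] graded by degree, 2 ≤ c ≤ n, 𝔠 ⊂ R a homogeneous ideal of
height c such that R/𝔠 is a Gorenstein ring, I ⊂ R a homogeneous ideal of height c containing 𝔠, and
J = 𝔠 : I. Write h_𝔞(j) = dim_K [R/𝔞]_j for the Hilbert function of R/𝔞. If p_𝔠, p_I, p_J ∈ ℚ[t] are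
polynomials agreeing with h_𝔠, h_I, h_J in all sufficiently large degrees (Hilbert polynomials; R/𝔠
and R/I have dimension n + 1 − c ≥ 1, and so has R/J unless I = 𝔠, when J = R and p_J = 0), then the
coefficients of t^(n−c) satisfy p_J = p_𝔠 − p_I in that degree; multiplying by (n − c)! this says
deg J = deg 𝔠 − deg I. -/
theorem result (K : Type u) [Field K] (n c : ℕ) (hc : 2 ≤ c) (hcn : c ≤ n)
    (𝔠 I : Ideal (MvPolynomial (Fin (n + 1)) K))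
    (h𝔠 : 𝔠.IsHomogeneous (GrSyz.stdGr K (Fin (n + 1)))) (hI : I.IsHomogeneous (GrSyz.stdGr K (Fin (n + 1))))
    [LocCoh.IsGorensteinRing (MvPolynomial (Fin (n + 1)) K ⧸ 𝔠)] (h𝔠c : 𝔠.height = c) (hIc : I.height = c) (h𝔠I : 𝔠 ≤ I)
    (p𝔠 pI pJ : Polynomial ℚ)
    (hp𝔠 : ∃ j₀ : ℕ, ∀ j : ℕ, j₀ ≤ j → (Module.finrank K ↥(Submodule.map (Ideal.Quotient.mkₐ K (𝔠)).toLinearMap (GrSyz.stdGr K (Fin (n + 1)) (j : ℤ))) : ℚ) = p𝔠.eval (j : ℚ))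
    (hpI : ∃ j₀ : ℕ, ∀ j : ℕ, j₀ ≤ j → (Module.finrank K ↥(Submodule.map (Ideal.Quotient.mkₐ K (I)).toLinearMap (GrSyz.stdGr K (Fin (n + 1)) (j : ℤ))) : ℚ) = pI.eval (j : ℚ))
    (hpJ : ∃ j₀ : ℕ, ∀ j : ℕ, j₀ ≤ j → (Module.finrank K ↥(Submodule.map (Ideal.Quotient.mkₐ K (𝔠.colon (I : Set (MvPolynomial (Fin (n + 1)) K)))).toLinearMap (GrSyz.stdGr K (Fin (n + 1)) (j : ℤ))) : ℚ) = pJ.eval (j : ℚ)) :
    pJ.coeff (n - c) = p𝔠.coeff (n - c) - pI.coeff (n - c) := by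
  classical
  open Groth.Agent.Lib.H6xLink Groth.Agent.Lib.Helper4.HilbFun in
  have h𝔠' := isHomogeneous_nat_of_stdGr 𝔠 h𝔠
  have hI' := isHomogeneous_nat_of_stdGr I hI
  have hJ' := colon_ideal_isHomogeneous 𝔠 I h𝔠' hI'
  have h𝔠J : 𝔠 ≤ 𝔠.colon (I : Set (MvPolynomial (Fin (n + 1)) K)) := le_of_colon_eq 𝔠 _ I rfl
  have hnc : n + 1 - c = n - c + 1 := by omega
  have hdim : ∀ 𝔞 : Ideal (MvPolynomial (Fin (n + 1)) K), 𝔠 ≤ 𝔞 →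
      ringKrullDim (MvPolynomial (Fin (n + 1)) K ⧸ 𝔞) ≤ ((n - c + 1 : ℕ) : WithBot ℕ∞) := by
    intro 𝔞 h𝔞
    rw [← hnc]
    exact dim_quotient_le K n c 𝔠 𝔞 h𝔠c h𝔞
  have h1 := mult_eq_factorial_mul_coeff K n (n - c) 𝔠 h𝔠' (hdim 𝔠 le_rfl) p𝔠 hp𝔠
  have h2 := mult_eq_factorial_mul_coeff K n (n - c) I hI' (hdim I h𝔠I) pI hpI
  have h3 := mult_eq_factorial_mul_coeff K n (n - c) _ hJ' (hdim _ h𝔠J) pJ hpJ
  have h4 := mult_colon K n c hcn 𝔠 I h𝔠' hI' h𝔠c h𝔠I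
  rw [h4] at h1
  push_cast at h1
  rw [h2, h3] at h1
  have hf : ((n - c).factorial : ℚ) ≠ 0 := Nat.cast_ne_zero.mpr (Nat.factorial_ne_zero _)
  have h5 : ((n - c).factorial : ℚ) * pJ.coeff (n - c) =
      ((n - c).factorial : ℚ) * (p𝔠.coeff (n - c) - pI.coeff (n - c)) := by
    rw [mul_sub, ← h1]
    ring
  exact mul_left_cancel₀ hf h5

end Groth.Agent.S18873
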