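import Groth.Statements.S18879
import Mathlib
import Groth.Agent.Lib.H5bDimIneq

set_option autoImplicit false
universe u
open CategoryTheory AlgebraicGeometry
open Resolve

namespace Groth.Agent.S18879

/-- Let f : Y ⟶ X be a morphism locally of finite type between Noetherian separated schemes which is
birational: it maps the maximal points of Y bijectively onto the maximal points of X, and over every
maximal point of X its fibre is one point with the same residue field. Then for every point y of Y,
the Krull dimension of the local ring of Y at y is at most the Krull dimension of the local ring of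
X at f y (the codimension of a point does not increase along f). -/
theorem result {X Y : Scheme.{u}} (f : Y ⟶ X)
    [IsNoetherian X] [X.IsSeparated] [IsNoetherian Y] [Y.IsSeparated] [LocallyOfFiniteType f]
    (hf : RadPt.IsBirational f) (y : Y) :
    ringKrullDim (Y.presheaf.stalk y) ≤ ringKrullDim (X.presheaf.stalk (f.base y)) := by
  have hgenpt : ∀ ξ : ↥Y, ringKrullDim (Y.presheaf.stalk ξ) = 0 → ξ ∈ genericPoints ↥Y := by
    intro ξ h
    have hc : Order.coheight ξ = 0 := by
      have h1 := ringKrullDim_stalk_eq_coheight ξ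
      rw [h] at h1
      exact_mod_cast h1.symm
    have hmax : IsMax ξ := Order.coheight_eq_zero.mp hc
    show closure {ξ} ∈ irreducibleComponents ↥Y
    refine ⟨isIrreducible_singleton.closure, fun Z hZ hle => ?_⟩
    have hZc : IsIrreducible (closure Z) := hZ.closure
    obtain ⟨η, hη⟩ := QuasiSober.sober hZc isClosed_closure
    have hξZ : ξ ∈ closure Z := subset_closure (hle (subset_closure (Set.mem_singleton ξ)))
    have hηξ : η ⤳ ξ := hη.specializes hξZ
    have hξη : ξ ⤳ η := Scheme.le_iff_specializes.mp (hmax (Scheme.le_iff_specializes.mpr hηξ))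
    have h3 : closure ({η} : Set ↥Y) ⊆ closure {ξ} := specializes_iff_closure_subset.mp hξη
    have h4 : closure ({η} : Set ↥Y) = closure Z := hη.def
    exact subset_closure.trans (h4 ▸ h3)
  have h0 : ∀ ξ : ↥Y, ξ ⤳ y → ringKrullDim (Y.presheaf.stalk ξ) = 0 →
      ((Groth.Agent.Lib.Helper4.DimFormula.ptTrdeg f ξ : ℕ) : WithBot ℕ∞) ≤ 0 := by
    intro ξ _ hξ
    have hgen := hgenpt ξ hξ
    have hfgen : f.base ξ ∈ genericPoints ↥X := hf.1.mapsTo hgen
    have hbij := (hf.2 (f.base ξ) hfgen).2 ξ rfl
    have htr := Groth.Agent.Lib.Helper4.DimFormula.trdeg_eq_ptTrdeg f ξ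
    letI := (f.residueFieldMap ξ).hom.toAlgebra
    haveI : Algebra.IsIntegral (X.residueField (f.base ξ)) (Y.residueField ξ) :=
      Algebra.isIntegral_of_surjective hbij.2
    have h2 : Algebra.trdeg (X.residueField (f.base ξ)) (Y.residueField ξ) = 0 :=
      trdeg_eq_zero
    rw [h2] at htr
    have h3 : Groth.Agent.Lib.Helper4.DimFormula.ptTrdeg f ξ = 0 := by exact_mod_cast htr.symm
    rw [h3]
    exact le_of_eq rfl
  have key := Groth.Agent.Lib.H5bDimIneq.stalkDim_add_ptTrdeg_le f y 0 h0
  rw [add_zero] at key
  have hnn : (0 : WithBot ℕ∞) ≤ ((Groth.Agent.Lib.Helper4.DimFormula.ptTrdeg f y : ℕ) : WithBot ℕ∞) := by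
    first
      | exact_mod_cast Nat.zero_le _
      | exact Nat.cast_nonneg _
      | positivity
  exact (le_add_of_nonneg_right hnn).trans key

end Groth.Agent.S18879
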