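import Groth.Statements.S18884
import Mathlib

set_option autoImplicit false
universe v u w
open CategoryTheory CategoryTheory.Limits
open Desc

namespace Groth.Agent.S18884

section Helpers


variable {C : Type u} [Category.{v} C] [HasPullbacks C] (W : MorphismProperty C)
  [W.IsStableUnderBaseChange] [W.IsStableUnderComposition]
  (D : ObjectProperty C) (hD : ∀ X : C, ∃ (Y : C) (π : Y ⟶ X), W π ∧ D Y)

/-- the cosheaf property -/
def IsCoshv (F : C ⥤ AddCommGrpCat.{w}) : Prop :=
  ∀ ⦃Y X : C⦄ (π : Y ⟶ X), W π → Function.Surjective (F.map π).hom ∧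
    (F.map π).hom.ker = ((F.map (pullback.fst π π)).hom - (F.map (pullback.snd π π)).hom).range

variable {W D}
variable {F G : C ⥤ AddCommGrpCat.{w}}

lemma map_comp_apply {X Y Z : C} (H : C ⥤ AddCommGrpCat.{w}) (f : X ⟶ Y) (g : Y ⟶ Z) (x : H.obj X) :
    (H.map (f ≫ g)).hom x = (H.map g).hom ((H.map f).hom x) := by
  rw [H.map_comp]
  rfl

/-- naturality of a transformation on the subcategory, elementwise -/
lemma nat_apply (γ : D.ι ⋙ F ⟶ D.ι ⋙ G) {Y Z : C} (hY : D Y) (hZ : D Z) (f : Y ⟶ Z)
    (y : F.obj Y) :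
    (γ.app ⟨Z, hZ⟩).hom ((F.map f).hom y) = (G.map f).hom ((γ.app ⟨Y, hY⟩).hom y) := by
  have := γ.naturality (X := ⟨Y, hY⟩) (Y := ⟨Z, hZ⟩) (ObjectProperty.homMk f)
  have h2 := congrArg (fun φ => φ.hom y) this
  exact h2

include hD in
/-- the key well-definedness statement -/
lemma key (hF : IsCoshv W F) (γ : D.ι ⋙ F ⟶ D.ι ⋙ G)
    {Y X : C} (π : Y ⟶ X) (hπ : W π) (hY : D Y) (y : F.obj Y) (hy : (F.map π).hom y = 0) :
    (G.map π).hom ((γ.app ⟨Y, hY⟩).hom y) = 0 := by
  have h1 : y ∈ (F.map π).hom.ker := hy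
  rw [(hF π hπ).2] at h1
  obtain ⟨t, ht⟩ := h1
  obtain ⟨Z, ρ, hρ, hZ⟩ := hD (pullback π π)
  obtain ⟨z, hz⟩ := (hF ρ hρ).1 t
  have hy2 : y = (F.map (ρ ≫ pullback.fst π π)).hom z - (F.map (ρ ≫ pullback.snd π π)).hom z := by
    rw [map_comp_apply, map_comp_apply, hz, ← ht]
    rfl
  rw [hy2, map_sub, map_sub, nat_apply γ hZ hY, nat_apply γ hZ hY, ← map_comp_apply,
    ← map_comp_apply, Category.assoc, Category.assoc, pullback.condition, sub_self]

section Ext

variable (hF : IsCoshv W F) (γ : D.ι ⋙ F ⟶ D.ι ⋙ G)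

/-- chosen cover -/
noncomputable def cov (X : C) : C := (hD X).choose
/-- chosen cover map -/
noncomputable def covπ (X : C) : cov hD X ⟶ X := (hD X).choose_spec.choose
lemma covW (X : C) : W (covπ hD X) := (hD X).choose_spec.choose_spec.1
lemma covD (X : C) : D (cov hD X) := (hD X).choose_spec.choose_spec.2

/-- the extended transformation, componentwise -/
noncomputable def extApp (X : C) : F.obj X →+ G.obj X :=
  AddMonoidHom.liftOfRightInverse (F.map (covπ hD X)).hom
    (Function.surjInv (hF (covπ hD X) (covW hD X)).1)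
    (Function.rightInverse_surjInv (hF (covπ hD X) (covW hD X)).1)
    ⟨(G.map (covπ hD X)).hom.comp (γ.app ⟨cov hD X, covD hD X⟩).hom, by
      intro y hy
      rw [AddMonoidHom.mem_ker] at hy ⊢
      exact key hD hF γ (covπ hD X) (covW hD X) (covD hD X) y hy⟩

lemma extApp_cov (X : C) (y : F.obj (cov hD X)) :
    extApp hD hF γ X ((F.map (covπ hD X)).hom y) =
      (G.map (covπ hD X)).hom ((γ.app ⟨cov hD X, covD hD X⟩).hom y) := by
  unfold extApp
  exact AddMonoidHom.liftOfRightInverse_comp_apply _ _ _ _ y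

lemma extApp_spec {X X' Y : C} (f : X ⟶ X') (π : Y ⟶ X) (hπ : W π) (hY : D Y) (y : F.obj Y) :
    extApp hD hF γ X' ((F.map (π ≫ f)).hom y) = (G.map (π ≫ f)).hom ((γ.app ⟨Y, hY⟩).hom y) := by
  set π' := covπ hD X' with hπ'
  have hW' : W π' := covW hD X'
  have hpr : W (pullback.fst (π ≫ f) π') := MorphismProperty.pullback_fst _ _ hW'
  obtain ⟨Z, ρ, hρ, hZ⟩ := hD (pullback (π ≫ f) π')
  have ha : W (ρ ≫ pullback.fst (π ≫ f) π') := W.comp_mem _ _ hρ hpr
  obtain ⟨z, hz⟩ := (hF _ ha).1 y
  have hcond : (ρ ≫ pullback.fst (π ≫ f) π') ≫ (π ≫ f) = (ρ ≫ pullback.snd (π ≫ f) π') ≫ π' := by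
    rw [Category.assoc, Category.assoc, pullback.condition]
  rw [← hz, ← map_comp_apply, hcond, map_comp_apply, extApp_cov, nat_apply γ hZ (covD hD X'),
    ← map_comp_apply, ← hcond, map_comp_apply, ← nat_apply γ hZ hY]

lemma extApp_naturality {X X' : C} (f : X ⟶ X') (x : F.obj X) :
    extApp hD hF γ X' ((F.map f).hom x) = (G.map f).hom (extApp hD hF γ X x) := by
  obtain ⟨y, rfl⟩ := (hF (covπ hD X) (covW hD X)).1 x
  rw [← map_comp_apply, extApp_spec hD hF γ f (covπ hD X) (covW hD X) (covD hD X), extApp_cov,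
    map_comp_apply]

lemma extApp_restrict {X : C} (hX : D X) (x : F.obj X) :
    extApp hD hF γ X x = (γ.app ⟨X, hX⟩).hom x := by
  obtain ⟨y, rfl⟩ := (hF (covπ hD X) (covW hD X)).1 x
  rw [extApp_cov, nat_apply γ (covD hD X) hX]

/-- the extended natural transformation -/
noncomputable def extNat : F ⟶ G where
  app X := AddCommGrpCat.ofHom (extApp hD hF γ X)
  naturality X X' f := by
    ext x
    exact extApp_naturality hD hF γ f x

end Ext


end Helpers


/-- Let C be a category with pullbacks equipped with a class W of morphisms, the covers, stable under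
base change and under composition. An abelian cosheaf is a functor F : C ⥤ Ab such that for every
cover π : Y ⟶ X the map F(π) is surjective and its kernel is the image of F(p₁) − F(p₂), where p₁,
p₂ : Y ×_X Y ⟶ Y are the two projections. If D is a full subcategory of C such that every object of
C is the target of a cover whose source lies in D, then the restriction functor from the full
subcategory of abelian cosheaves in C ⥤ Ab to D ⥤ Ab is full and faithful. -/
theorem result {C : Type u} [Category.{v} C]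
    [HasPullbacks C] (W : MorphismProperty C) [W.IsStableUnderBaseChange] [W.IsStableUnderComposition]
    (D : ObjectProperty C) (hD : ∀ X : C, ∃ (Y : C) (π : Y ⟶ X), W π ∧ D Y) :
    (ObjectProperty.ι (fun F : C ⥤ AddCommGrpCat.{w} =>
        ∀ ⦃Y X : C⦄ (π : Y ⟶ X), W π → Function.Surjective (F.map π).hom ∧
          (F.map π).hom.ker = ((F.map (pullback.fst π π)).hom - (F.map (pullback.snd π π)).hom).range) ⋙
      (Functor.whiskeringLeft D.FullSubcategory C AddCommGrpCat.{w}).obj D.ι).Full ∧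
    (ObjectProperty.ι (fun F : C ⥤ AddCommGrpCat.{w} =>
        ∀ ⦃Y X : C⦄ (π : Y ⟶ X), W π → Function.Surjective (F.map π).hom ∧
          (F.map π).hom.ker = ((F.map (pullback.fst π π)).hom - (F.map (pullback.snd π π)).hom).range) ⋙
      (Functor.whiskeringLeft D.FullSubcategory C AddCommGrpCat.{w}).obj D.ι).Faithful := by
  constructor
  · refine ⟨fun {X Y} γ => ?_⟩
    have hF : IsCoshv W X.obj := X.property
    refine ⟨ObjectProperty.homMk (extNat hD hF γ), ?_⟩
    ext ⟨Z, hZ⟩ x
    exact extApp_restrict hD hF γ hZ x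
  · refine ⟨fun {X Y} α β h => ?_⟩
    have hF : IsCoshv W X.obj := X.property
    apply ObjectProperty.hom_ext
    ext Z x
    obtain ⟨Y', π, hπ, hY'⟩ := hD Z
    obtain ⟨y, rfl⟩ := (hF π hπ).1 x
    have h1 := congrArg (fun φ => (φ.app ⟨Y', hY'⟩).hom y) h
    have hα := congrArg (fun φ => φ.hom y) (α.hom.naturality π)
    have hβ := congrArg (fun φ => φ.hom y) (β.hom.naturality π)
    simp only [AddCommGrpCat.hom_comp, AddMonoidHom.comp_apply] at hα hβ
    change (α.hom.app Z).hom ((X.obj.map π).hom y) = (β.hom.app Z).hom ((X.obj.map π).hom y)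
    rw [hα, hβ]
    congr 1

end Groth.Agent.S18884
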