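import Groth.Statements.S18896
import Groth.Agent.Lib.R2H2FibreRankFree
import Groth.Agent.Lib.R2H2Bc0Unit
import Groth.Agent.Lib.H9Models
import Groth.Agent.Lib.H9SteinSm
import Groth.Agent.Lib.R2H4GVSch
import Groth.Agent.Lib.R2H1CurveEuler
import Groth.Agent.Lib.Helper18FinFlat1
import Groth.Agent.Lib.R2H3SchemDense
import Groth.Agent.Lib.R2H2LocalCBC

set_option autoImplicit false
universe u
open CategoryTheory CategoryTheory.Limits AlgebraicGeometry
open Curves

namespace Groth.Agent.S18896

/-- Let f : X → S be a smooth curve of genus g over a scheme S, i.e. f is proper and smooth and its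
fibres are geometrically connected of dimension one and genus g (g the dimension of H¹ of the
structure sheaf of each fibre over its residue field). Then R¹f_*(O_X) is a locally free O_S-module
of rank g. -/
theorem result {X S : Scheme.{u}} (f : X ⟶ S)
    [IsProper f] [Smooth f] [GeometricallyConnected f]
    (hdim : ∀ s : S, topologicalKrullDim ↥(f.fiber s) = 1) (g : ℕ)
    (hgen : ∀ s : S, letI : (f.fiber s).Over (Spec (S.residueField s)) := ⟨f.fiberToSpecResidueField s⟩
      Curv2.genus (S.residueField s) (f.fiber s) = g)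
    [HasInjectiveResolutions X.Modules] :
    FlatMod.IsFinLocFreeOfRank g ((Coh.Rpush f 1).obj (Coh.structureModule X)) := by
  intro s
  haveI : (Coh.structureModule X).IsQuasicoherent :=
    Groth.Agent.Lib.Helper23.Serre.isQuasicoherent_structureModule' X
  have hfp : CohB1.IsFP (Coh.structureModule X) :=
    Groth.Agent.Helper18FinFlat.isFinitePresentation_structureModule X
  have hfl : FlatMod.IsFlatOver f (Coh.structureModule X) :=
    Groth.Agent.Lib.R2H3.SchemDense.isFlatOver_structureModule f
  obtain ⟨V₁, hV₁, hsV₁, hex⟩ :=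
    Groth.Agent.Lib.R2H2.LocalModel.exists_local_model f (Coh.structureModule X) hfp hfl s
  haveI : IsAffine (V₁ : Scheme.{u}) := hV₁
  obtain ⟨Q₁, b, hP, -, hQ⟩ := hex
  haveI := Groth.Agent.Lib.R2H3.RpushRestrict.hasInjectiveResolutions_modules (f.fiber s)
  -- the fibre
  letI : (f.fiber s).Over (Spec (CommRingCat.of ↑(S.residueField s))) :=
    ⟨f.fiberToSpecResidueField s⟩
  haveI : IsProper (f.fiberToSpecResidueField s) :=
    inferInstanceAs (IsProper (pullback.snd f (S.fromSpecResidueField s)))
  haveI : IsProper (f.fiber s ↘ Spec (CommRingCat.of ↑(S.residueField s))) :=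
    ‹IsProper (f.fiberToSpecResidueField s)›
  haveI : Smooth (f.fiberToSpecResidueField s) :=
    inferInstanceAs (Smooth (pullback.snd f (S.fromSpecResidueField s)))
  haveI : GeometricallyConnected (f.fiberToSpecResidueField s) :=
    MorphismProperty.pullback_snd (P := @GeometricallyConnected) _ _ inferInstance
  haveI : GeometricallyReduced (f.fiberToSpecResidueField s) :=
    Groth.Agent.Lib.H9SteinSm.geometricallyReduced_of_smooth _
  haveI : IsNoetherian (f.fiber s) :=
    Groth.Agent.Lib.R2H1.CurveEuler.isNoetherian_of_proper (S.residueField s) (f.fiber s)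
  -- vanishing of `H^2` of the fibre
  have h2 : Subsingleton (CohIII.fiberH f (Coh.structureModule X) s 2) :=
    Groth.Agent.Lib.R2H4GVSch.subsingleton_HH (f.fiber s) 1 (by rw [hdim s]; exact le_rfl) _ 2
      (by norm_num)
  obtain ⟨-, k2⟩ := Groth.Agent.Lib.R2H2.FibreBC.mem_freeLocus_of_fiberH f s (Coh.structureModule X)
    V₁ hsV₁ Q₁ hQ hP 2 h2
  -- surjectivity of the degree zero base change map
  haveI hiso : IsIso (f.fiberToSpecResidueField s).appTop :=
    Groth.Agent.Lib.H9Models.isIso_appTop_of_geometricallyConnected (S.residueField s)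
      (f.fiberToSpecResidueField s)
  have h0 := Groth.Agent.Lib.R2H2.Bc0Unit.epi_bc0_structureModule f s
    (ConcreteCategory.bijective_of_isIso (f.fiberToSpecResidueField s).appTop).2
  have k1 := Groth.Agent.Lib.R2H2.Bc0Bij.mem_freeLocus_of_epi_bc0 f s (Coh.structureModule X)
    V₁ hsV₁ Q₁ hQ hP _ rfl h0
  have cast : ∀ k l : ℤ, k = l →
      (V₁ : Scheme.{u}).isoSpec.hom ⟨s, hsV₁⟩ ∈
        Module.freeLocus Γ((V₁ : Scheme.{u}), ⊤) (Q₁.opcycles k) →
      (V₁ : Scheme.{u}).isoSpec.hom ⟨s, hsV₁⟩ ∈
        Module.freeLocus Γ((V₁ : Scheme.{u}), ⊤) (Q₁.opcycles l) := by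
    intro k l hkl hk
    subst hkl
    exact hk
  obtain ⟨U, hsU, ⟨e⟩⟩ :=
    Groth.Agent.Lib.R2H2.FibreRankFree.exists_free_near f s (Coh.structureModule X) V₁ hsV₁ Q₁ hQ hP 1
      (cast _ _ (by norm_num) k2) (cast _ _ (by norm_num) k1)
  -- the rank is the genus
  have hrank : CohIII.fiberRank f (Coh.structureModule X) 1 s = g := by
    rw [← hgen s]
    exact Groth.Agent.Lib.R2H2.LocalCBC.finrank_HH_congr
      (Groth.Agent.Lib.Helper23.PB.pullbackUnitIso (f.fiberι s)) 1
  rw [hrank] at e
  exact ⟨U, hsU, ⟨e⟩⟩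

end Groth.Agent.S18896
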