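import Groth.Statements.S18905
import Mathlib

set_option autoImplicit false
universe u
open CategoryTheory CategoryTheory.Limits AlgebraicGeometry
open Mor

namespace Groth.Agent.S18905

section Helpers

section P1


open KaehlerDifferential

section Alg

variable {k : Type u} [Field k] [IsAlgClosed k] {A : Type u} [CommRing A] [Algebra k A]
  [Algebra.FiniteType k A]

/-- a finite module with `m M = M` for all maximal `m` is zero -/
lemma exists_maximal_smul_ne (M : Type u) [AddCommGroup M] [Module A M] [Module.Finite A M]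
    (hM : ¬ Subsingleton M) :
    ∃ m : Ideal A, m.IsMaximal ∧ m • (⊤ : Submodule A M) ≠ ⊤ := by
  by_contra hcon
  push Not at hcon
  apply hM
  have hann : Module.annihilator A M = ⊤ := by
    by_contra hne
    obtain ⟨m, hm, hle⟩ := Ideal.exists_le_maximal _ hne
    obtain ⟨r, hr1, hr2⟩ := Submodule.exists_sub_one_mem_and_smul_eq_zero_of_fg_of_le_smul m
      (⊤ : Submodule A M) Module.Finite.fg_top (by rw [hcon m hm])
    have hr : r ∈ Module.annihilator A M := by
      rw [Module.mem_annihilator]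
      intro x
      exact hr2 x Submodule.mem_top
    have h1 : (1 : A) ∈ m := by
      have := m.sub_mem (hle hr) hr1
      simpa using this
    exact hm.ne_top ((Ideal.eq_top_iff_one m).mpr h1)
  refine ⟨fun x y => ?_⟩
  have h1 : (1 : A) ∈ Module.annihilator A M := by rw [hann]; trivial
  rw [Module.mem_annihilator] at h1
  have hx := h1 x
  have hy := h1 y
  rw [one_smul] at hx hy
  rw [hx, hy]


/-- residue field at a maximal ideal is `k` -/
lemma bijective_algebraMap_quotient (m : Ideal A) [hm : m.IsMaximal] :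
    Function.Bijective (algebraMap k (A ⧸ m)) := by
  letI : Field (A ⧸ m) := Ideal.Quotient.field m
  haveI : Module.Finite k (A ⧸ m) := finite_of_finite_type_of_isJacobsonRing k (A ⧸ m)
  haveI : Algebra.IsIntegral k (A ⧸ m) := Algebra.IsIntegral.of_finite k (A ⧸ m)
  exact IsAlgClosed.algebraMap_bijective_of_isIntegral

theorem alg_case
    (H : ∀ ψ₁ ψ₂ : A →ₐ[k] DualNumber k,
      (TrivSqZeroExt.fstHom k k k).comp ψ₁ = (TrivSqZeroExt.fstHom k k k).comp ψ₂ → ψ₁ = ψ₂) :
    Algebra.FormallyUnramified k A := by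
  rw [Algebra.formallyUnramified_iff]
  by_contra hne
  obtain ⟨m, hm, hmne⟩ := exists_maximal_smul_ne (A := A) (Ω[A⁄k]) hne
  letI : Field (A ⧸ m) := Ideal.Quotient.field m
  have hbij := bijective_algebraMap_quotient (k := k) m
  let e : k ≃ₐ[k] (A ⧸ m) := AlgEquiv.ofBijective (Algebra.ofId k (A ⧸ m)) hbij
  let χ : A →ₐ[k] k := (e.symm : (A ⧸ m) →ₐ[k] k).comp (Ideal.Quotient.mkₐ k m)
  -- a nonzero functional
  have hQ : ∃ v : Ω[A⁄k] ⧸ m • (⊤ : Submodule A Ω[A⁄k]), v ≠ 0 := by
    by_contra hcon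
    push Not at hcon
    apply hmne
    rw [eq_top_iff]
    intro x _
    have := hcon (Submodule.Quotient.mk x)
    rwa [Submodule.Quotient.mk_eq_zero] at this
  obtain ⟨v, hv⟩ := hQ
  obtain ⟨f, hf⟩ : ∃ f : Module.Dual (A ⧸ m) (Ω[A⁄k] ⧸ m • (⊤ : Submodule A Ω[A⁄k])), f v ≠ 0 := by
    by_contra hcon
    push Not at hcon
    exact hv ((Module.forall_dual_apply_eq_zero_iff (A ⧸ m) v).mp hcon)
  obtain ⟨ω, rfl⟩ := Submodule.Quotient.mk_surjective _ v
  let g : Ω[A⁄k] →ₗ[A] (A ⧸ m) := (f.restrictScalars A) ∘ₗ (m • (⊤ : Submodule A Ω[A⁄k])).mkQ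
  have hg : g ω ≠ 0 := hf
  let D : Derivation k A (A ⧸ m) := (KaehlerDifferential.linearMapEquivDerivation k A) g
  have hD : ∀ a, D a = g (KaehlerDifferential.D k A a) := fun a => rfl
  let δ : A →ₗ[k] k := e.symm.toLinearMap ∘ₗ (D : A →ₗ[k] (A ⧸ m))
  have hδ : ∀ a, δ a = e.symm (D a) := fun a => rfl
  have hχ : ∀ a, χ a = e.symm (Ideal.Quotient.mk m a) := fun a => rfl
  have hleib : ∀ a b, δ (a * b) = χ a * δ b + χ b * δ a := by
    intro a b
    rw [hδ, hδ, hδ, hχ, hχ, Derivation.leibniz, map_add, Algebra.smul_def, Algebra.smul_def,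
      map_mul, map_mul]
    rfl
  let φ : A →ₗ[k] DualNumber k :=
    (TrivSqZeroExt.inlAlgHom k k k).toLinearMap ∘ₗ χ.toLinearMap + (TrivSqZeroExt.inrHom k k) ∘ₗ δ
  have hφ : ∀ a, φ a = TrivSqZeroExt.inl (χ a) + TrivSqZeroExt.inr (δ a) := fun a => rfl
  have hδ1 : δ 1 = 0 := by rw [hδ, Derivation.map_one_eq_zero, map_zero]
  let ψ₁ : A →ₐ[k] DualNumber k := AlgHom.ofLinearMap φ
    (by
      rw [hφ, hδ1, map_one]
      ext <;> simp)
    (by
      intro a b
      rw [hφ, hφ, hφ, hleib, map_mul]
      ext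
      · simp
      · simp
        ring)
  let ψ₂ : A →ₐ[k] DualNumber k := (TrivSqZeroExt.inlAlgHom k k k).comp χ
  have h12 : ψ₁ = ψ₂ := by
    apply H
    ext a
    change TrivSqZeroExt.fst (φ a) = TrivSqZeroExt.fst (TrivSqZeroExt.inl (χ a) : DualNumber k)
    rw [hφ]
    simp
  have hδ0 : ∀ a, δ a = 0 := by
    intro a
    have := congrArg (fun ψ : A →ₐ[k] DualNumber k => TrivSqZeroExt.snd (ψ a)) h12
    change TrivSqZeroExt.snd (φ a) = TrivSqZeroExt.snd (TrivSqZeroExt.inl (χ a) : DualNumber k) at this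
    rw [hφ] at this
    simpa using this
  have hD0 : D = 0 := by
    ext a
    have := hδ0 a
    rw [hδ] at this
    have h2 := congrArg e this
    rw [AlgEquiv.apply_symm_apply, map_zero] at h2
    exact h2
  have hg0 : g = 0 := by
    apply (KaehlerDifferential.linearMapEquivDerivation k A).injective
    rw [map_zero]
    exact hD0
  rw [hg0] at hg
  exact hg rfl

end Alg


end P1

section P2


open AlgebraicGeometry CategoryTheory

lemma isNilpotent_ker_SpecMap {R S : CommRingCat.{u}} (φ : R ⟶ S)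
    (h : RingHom.ker φ.hom ^ 2 = ⊥) : IsNilpotent (Spec.map φ).ker := by
  refine ⟨2, ?_⟩
  apply Scheme.IdealSheafData.ext_of_isAffine
  rw [Scheme.IdealSheafData.ideal_pow, Pi.pow_apply, Scheme.Hom.ker_apply]
  let eS : Γ(Spec S, ⊤) →+* S := (Scheme.ΓSpecIso S).hom.hom
  let eR : Γ(Spec R, ⊤) →+* R := (Scheme.ΓSpecIso R).hom.hom
  let a : Γ(Spec R, ⊤) →+* Γ(Spec S, ⊤) := (Spec.map φ).appTop.hom
  have hnat : eS.comp a = φ.hom.comp eR := by
    exact congrArg CommRingCat.Hom.hom (Scheme.ΓSpecIso_naturality φ)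
  have hinjS : Function.Injective eS :=
    (ConcreteCategory.bijective_of_isIso (Scheme.ΓSpecIso S).hom).1
  have hinjR : Function.Injective eR :=
    (ConcreteCategory.bijective_of_isIso (Scheme.ΓSpecIso R).hom).1
  have hker : ∀ x, a x = 0 → φ.hom (eR x) = 0 := by
    intro x hx
    have := congrArg (fun f => f x) hnat
    simp only [RingHom.comp_apply] at this
    rw [← this, hx, map_zero]
  rw [sq]
  simp only [Scheme.IdealSheafData.zero_eq_bot, Scheme.IdealSheafData.ideal_bot, Pi.bot_apply]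
  rw [eq_bot_iff, Ideal.mul_le]
  intro x hx y hy
  have hx' : φ.hom (eR x) = 0 := hker x hx
  have hy' : φ.hom (eR y) = 0 := hker y hy
  have hxy : eR x * eR y ∈ RingHom.ker φ.hom ^ 2 := by
    rw [sq]
    exact Ideal.mul_mem_mul hx' hy'
  rw [h, Ideal.mem_bot, ← map_mul] at hxy
  rw [Ideal.mem_bot]
  apply hinjR
  rw [map_zero]
  exact hxy


end P2

section P3


open AlgebraicGeometry CategoryTheory

variable (k : Type u) [Field k] [IsAlgClosed k]

lemma ker_fst_sq : RingHom.ker (TrivSqZeroExt.fstHom k k k).toRingHom ^ 2 = ⊥ := by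
  rw [sq, eq_bot_iff, Ideal.mul_le]
  intro x hx y hy
  rw [RingHom.mem_ker] at hx hy
  have hx' : TrivSqZeroExt.fst x = 0 := hx
  have hy' : TrivSqZeroExt.fst y = 0 := hy
  rw [Ideal.mem_bot]
  ext
  · simp [hx', hy']
  · simp [hx', hy']

lemma affine_case (R : CommRingCat.{u}) (q : Spec R ⟶ Spec (CommRingCat.of k))
    [LocallyOfFiniteType q]
    (H : ∀ v₁ v₂ : Spec (CommRingCat.of (DualNumber k)) ⟶ Spec R,
        v₁ ≫ q = Spec.map (CommRingCat.ofHom (algebraMap k (DualNumber k))) →
        v₂ ≫ q = Spec.map (CommRingCat.ofHom (algebraMap k (DualNumber k))) →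
        Spec.map (CommRingCat.ofHom (TrivSqZeroExt.fstHom k k k).toRingHom) ≫ v₁ =
          Spec.map (CommRingCat.ofHom (TrivSqZeroExt.fstHom k k k).toRingHom) ≫ v₂ →
        v₁ = v₂) : FormallyUnramified q := by
  obtain ⟨φ, rfl⟩ := Spec.map_surjective q
  have hft : φ.hom.FiniteType :=
    (HasRingHomProperty.Spec_iff (P := @LocallyOfFiniteType)).mp inferInstance
  rw [HasRingHomProperty.Spec_iff (P := @FormallyUnramified)]
  algebraize [φ.hom]
  have : Algebra.FormallyUnramified k R := by
    apply alg_case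
    intro ψ₁ ψ₂ h12
    have h1 : ∀ ψ : R →ₐ[k] DualNumber k, Spec.map (CommRingCat.ofHom ψ.toRingHom) ≫ Spec.map φ =
        Spec.map (CommRingCat.ofHom (algebraMap k (DualNumber k))) := by
      intro ψ
      rw [← Spec.map_comp]
      congr 1
      refine CommRingCat.hom_ext (RingHom.ext fun x => ?_)
      exact ψ.commutes x
    have h3 : Spec.map (CommRingCat.ofHom (TrivSqZeroExt.fstHom k k k).toRingHom) ≫
        Spec.map (CommRingCat.ofHom ψ₁.toRingHom) =
        Spec.map (CommRingCat.ofHom (TrivSqZeroExt.fstHom k k k).toRingHom) ≫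
        Spec.map (CommRingCat.ofHom ψ₂.toRingHom) := by
      rw [← Spec.map_comp, ← Spec.map_comp]
      congr 1
      refine CommRingCat.hom_ext (RingHom.ext fun x => ?_)
      exact congrArg (fun f : R →ₐ[k] k => f x) h12
    have := H _ _ (h1 ψ₁) (h1 ψ₂) h3
    have h4 := Spec.map_injective this
    refine AlgHom.ext fun x => ?_
    exact congrArg (fun f : R ⟶ CommRingCat.of (DualNumber k) => f.hom x) h4
  rw [← RingHom.algebraMap_toAlgebra φ.hom, RingHom.formallyUnramified_algebraMap]
  exact this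


set_option backward.isDefEq.respectTransparency.types false in
lemma affine_case' (Y : Scheme.{u}) [IsAffine Y] (q : Y ⟶ Spec (CommRingCat.of k))
    [LocallyOfFiniteType q]
    (H : ∀ v₁ v₂ : Spec (CommRingCat.of (DualNumber k)) ⟶ Y,
        v₁ ≫ q = Spec.map (CommRingCat.ofHom (algebraMap k (DualNumber k))) →
        v₂ ≫ q = Spec.map (CommRingCat.ofHom (algebraMap k (DualNumber k))) →
        Spec.map (CommRingCat.ofHom (TrivSqZeroExt.fstHom k k k).toRingHom) ≫ v₁ =
          Spec.map (CommRingCat.ofHom (TrivSqZeroExt.fstHom k k k).toRingHom) ≫ v₂ →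
        v₁ = v₂) : FormallyUnramified q := by
  rw [← MorphismProperty.cancel_left_of_respectsIso (P := @FormallyUnramified) Y.isoSpec.inv q]
  haveI : LocallyOfFiniteType (Y.isoSpec.inv ≫ q) :=
    MorphismProperty.comp_mem _ _ _ inferInstance inferInstance
  refine affine_case k _ (Y.isoSpec.inv ≫ q) ?_
  intro v₁ v₂ h1 h2 h3
  have := H (v₁ ≫ Y.isoSpec.inv) (v₂ ≫ Y.isoSpec.inv)
    (by rw [Category.assoc, h1]) (by rw [Category.assoc, h2])
    (by rw [← Category.assoc, ← Category.assoc, h3])
  exact (cancel_mono Y.isoSpec.inv).mp this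

theorem main {X : Scheme.{u}} (p : X ⟶ Spec (CommRingCat.of k)) [LocallyOfFiniteType p] :
    FormallyUnramified p ↔
      ∀ v₁ v₂ : Spec (CommRingCat.of (DualNumber k)) ⟶ X,
        v₁ ≫ p = Spec.map (CommRingCat.ofHom (algebraMap k (DualNumber k))) →
        v₂ ≫ p = Spec.map (CommRingCat.ofHom (algebraMap k (DualNumber k))) →
        Spec.map (CommRingCat.ofHom (TrivSqZeroExt.fstHom k k k).toRingHom) ≫ v₁ =
          Spec.map (CommRingCat.ofHom (TrivSqZeroExt.fstHom k k k).toRingHom) ≫ v₂ →
        v₁ = v₂ := by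
  constructor
  · intro hp v₁ v₂ h1 h2 h3
    haveI : IsClosedImmersion
        (Spec.map (CommRingCat.ofHom (TrivSqZeroExt.fstHom k k k).toRingHom)) :=
      IsClosedImmersion.spec_of_surjective _ (fun x => ⟨TrivSqZeroExt.inl x, rfl⟩)
    exact FormallyUnramified.hom_ext
      (Spec.map (CommRingCat.ofHom (TrivSqZeroExt.fstHom k k k).toRingHom))
      (isNilpotent_ker_SpecMap _ (ker_fst_sq k)) p h3 (h1.trans h2.symm)
  · intro H
    haveI : IsZariskiLocalAtSource @FormallyUnramified.{u} :=
      HasRingHomProperty.instIsZariskiLocalAtSource (Q := RingHom.FormallyUnramified)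
    rw [IsZariskiLocalAtSource.iff_of_openCover (P := @FormallyUnramified) X.affineCover]
    intro i
    haveI : LocallyOfFiniteType (X.affineCover.f i ≫ p) :=
      MorphismProperty.comp_mem _ _ _ inferInstance inferInstance
    refine affine_case' k (X.affineCover.X i) (X.affineCover.f i ≫ p) ?_
    intro v₁ v₂ h1 h2 h3
    have := H (v₁ ≫ X.affineCover.f i) (v₂ ≫ X.affineCover.f i)
      (by rw [Category.assoc, h1]) (by rw [Category.assoc, h2])
      (by rw [← Category.assoc, ← Category.assoc, h3])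
    exact (cancel_mono (X.affineCover.f i)).mp this


end P3

end Helpers

/-- Let k be an algebraically closed field and X a scheme locally of finite type over k. Then X → Spec k
is formally unramified if and only if the map Hom_k(Spec k[ε], X) → Hom_k(Spec k, X) given by
restricting along the closed immersion of Spec k into Spec k[ε] (k[ε] the ring of dual numbers, ε ↦
0), is bijective; since that map is always surjective, the condition is stated as injectivity: two
k-morphisms from Spec k[ε] to X which agree on Spec k are equal. -/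
theorem result (k : Type u) [Field k] [IsAlgClosed k]
    {X : Scheme.{u}} (p : X ⟶ Spec (CommRingCat.of k)) [LocallyOfFiniteType p] :
    FormallyUnramified p ↔
      ∀ v₁ v₂ : Spec (CommRingCat.of (DualNumber k)) ⟶ X,
        v₁ ≫ p = Spec.map (CommRingCat.ofHom (algebraMap k (DualNumber k))) →
        v₂ ≫ p = Spec.map (CommRingCat.ofHom (algebraMap k (DualNumber k))) →
        Spec.map (CommRingCat.ofHom (TrivSqZeroExt.fstHom k k k).toRingHom) ≫ v₁ =
          Spec.map (CommRingCat.ofHom (TrivSqZeroExt.fstHom k k k).toRingHom) ≫ v₂ →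
        v₁ = v₂ := by
  exact main k p

end Groth.Agent.S18905
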