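import Groth.Statements.S1892
import Mathlib
import Groth.Agent.Lib.Helper2Grpd
import Groth.Agent.S1889
import Groth.Agent.S1891

set_option autoImplicit false
universe u
open CategoryTheory CategoryTheory.Limits AlgebraicGeometry
open Grpd

namespace Groth.Agent.S1892

section Dev
open Groth.Agent.Lib.Helper2.Grpd Groth.Agent.S1891

variable {S : Scheme.{u}} {G₁ G₂ : Grpd.GroupoidScheme S} (a : Grpd.GroupoidScheme.Hom G₁ G₂)

/-- "division": if `r·o = a(x')` and `o = a(w')` as `T`-points then `r = a(x'·w'⁻¹)`. -/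
lemma exists_lift_of_comp [IsIso a.fU] {T : Scheme.{u}} (rT oT : T ⟶ G₂.R) (x' w' : T ⟶ G₁.R)
    (h : rT ≫ G₂.s = oT ≫ G₂.t) (hx' : comp G₂ rT oT h = x' ≫ a.fR) (hw' : oT = w' ≫ a.fR) :
    ∃ ρ' : T ⟶ G₁.R, ρ' ≫ a.fR = rT := by
  have hs : x' ≫ G₁.s = w' ≫ G₁.s := by
    rw [← cancel_mono a.fU]
    calc (x' ≫ G₁.s) ≫ a.fU = (x' ≫ a.fR) ≫ G₂.s := by
          rw [Category.assoc, Category.assoc, a.comm_s]
      _ = oT ≫ G₂.s := by rw [← hx', comp_s]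
      _ = (w' ≫ a.fR) ≫ G₂.s := by rw [hw']
      _ = (w' ≫ G₁.s) ≫ a.fU := by rw [Category.assoc, Category.assoc, a.comm_s]
  have hc : x' ≫ G₁.s = (w' ≫ G₁.i) ≫ G₁.t := by rw [hs, Category.assoc, G₁.i_t]
  refine ⟨comp G₁ x' (w' ≫ G₁.i) hc, ?_⟩
  rw [hom_comp]
  have e2 : (w' ≫ G₁.i) ≫ a.fR = oT ≫ G₂.i := by
    rw [Category.assoc, hom_i, ← Category.assoc, ← hw']
  rw [comp_congr G₂ _ hx'.symm e2]
  exact comp_comp_i G₂ rT oT h _

/-- multiplication by elements of the image maps the closure of the image into itself -/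
lemma mul_mem_closure (k : Type u) [Field k] (eU : G₂.U ≅ Spec (CommRingCat.of k)) [IsIso a.fU]
    (p : ↥(pullback G₂.s (a.fR ≫ G₂.t)))
    (hp : (pullback.fst G₂.s (a.fR ≫ G₂.t)) p ∈ closure (Set.range ⇑a.fR)) :
    (comp G₂ (pullback.fst G₂.s (a.fR ≫ G₂.t)) (pullback.snd G₂.s (a.fR ≫ G₂.t) ≫ a.fR)
      (by rw [pullback.condition, Category.assoc])) p ∈ closure (Set.range ⇑a.fR) := by
  have hUn : Nonempty G₂.U := ⟨eU.inv (IsLocalRing.closedPoint k)⟩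
  have hUi : IsIntegral G₂.U := isIntegral_of_isOpenImmersion eU.hom
  have hUs : Subsingleton G₂.U := eU.hom.homeomorph.subsingleton
  set pr₁ := pullback.fst G₂.s (a.fR ≫ G₂.t) with hpr₁
  set pr₂ := pullback.snd G₂.s (a.fR ≫ G₂.t) with hpr₂
  have hcond : pr₁ ≫ G₂.s = (pr₂ ≫ a.fR) ≫ G₂.t := by
    rw [hpr₁, hpr₂, pullback.condition, Category.assoc]
  set μ := comp G₂ pr₁ (pr₂ ≫ a.fR) hcond with hμ
  show μ p ∈ closure (Set.range ⇑a.fR)
  have hopen : IsOpenMap pr₁ := by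
    have : UniversallyOpen (a.fR ≫ G₂.t) := inferInstance
    have : UniversallyOpen pr₁ := inferInstance
    exact pr₁.isOpenMap
  have h1 : pr₁ ⁻¹' closure (Set.range ⇑a.fR) = closure (pr₁ ⁻¹' Set.range ⇑a.fR) :=
    hopen.preimage_closure_eq_closure_preimage pr₁.continuous _
  have h2 : pr₁ ⁻¹' Set.range ⇑a.fR ⊆ μ ⁻¹' closure (Set.range ⇑a.fR) := by
    rintro p' ⟨x₁, hx₁⟩
    apply subset_closure
    obtain ⟨q', hq1, hq2⟩ :=
      Scheme.Pullback.exists_preimage_pullback (f := pr₁) (g := a.fR) p' x₁ hx₁.symm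
    set fst' := pullback.fst pr₁ a.fR with hfst'
    set snd' := pullback.snd pr₁ a.fR with hsnd'
    have hc' : fst' ≫ pr₁ = snd' ≫ a.fR := pullback.condition
    have hh : snd' ≫ G₁.s = (fst' ≫ pr₂) ≫ G₁.t := by
      rw [← cancel_mono a.fU]
      calc (snd' ≫ G₁.s) ≫ a.fU = (snd' ≫ a.fR) ≫ G₂.s := by
            rw [Category.assoc, Category.assoc, a.comm_s]
        _ = fst' ≫ pr₁ ≫ G₂.s := by rw [← hc', Category.assoc]
        _ = fst' ≫ (pr₂ ≫ a.fR) ≫ G₂.t := by rw [hcond]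
        _ = ((fst' ≫ pr₂) ≫ G₁.t) ≫ a.fU := by
            simp only [Category.assoc, a.comm_t]
    have e1 : fst' ≫ μ = comp G₁ snd' (fst' ≫ pr₂) hh ≫ a.fR := by
      rw [hom_comp, hμ, precomp_comp]
      exact comp_congr G₂ _ hc' (by rw [Category.assoc])
    refine ⟨(comp G₁ snd' (fst' ≫ pr₂) hh) q', ?_⟩
    rw [← Scheme.Hom.comp_apply, ← e1, Scheme.Hom.comp_apply, hq1]
  have h3 : closure (pr₁ ⁻¹' Set.range ⇑a.fR) ⊆ μ ⁻¹' closure (Set.range ⇑a.fR) :=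
    closure_minimal h2 (isClosed_closure.preimage μ.continuous)
  exact h3 (h1 ▸ hp)

theorem main (S : Scheme.{u}) (G₁ G₂ : Grpd.GroupoidScheme S) (k : Type u) [Field k]
    (eU : G₂.U ≅ Spec (CommRingCat.of k)) (a : Grpd.GroupoidScheme.Hom G₁ G₂) [IsIso a.fU]
    (hlc : IsLocallyClosed (Set.range ⇑a.fR)) : IsClosed (Set.range ⇑a.fR) := by
  rw [← closure_subset_iff_isClosed]
  intro r hr
  let W : G₂.R.Opens := ⟨coborder (Set.range a.fR), hlc.isOpen_coborder⟩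
  have hWcl : ∀ x : G₂.R, x ∈ W → x ∈ closure (Set.range ⇑a.fR) → x ∈ Set.range ⇑a.fR := by
    intro x hx hx'
    have : x ∈ coborder (Set.range ⇑a.fR) ∩ closure (Set.range ⇑a.fR) := ⟨hx, hx'⟩
    rwa [coborder_inter_closure] at this
  have hsubW : Set.range ⇑a.fR ⊆ (W : Set G₂.R) := subset_coborder
  let Z := Spec (G₂.R.residueField r)
  let aZ : Z ⟶ G₂.R := G₂.R.fromSpecResidueField r
  have hO := Groth.Agent.S1889.result S G₂ k eU W Z aZ
  set p1 := pullback.fst (aZ ≫ G₂.s) (W.ι ≫ G₂.t) with hp1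
  set p2 := pullback.snd (aZ ≫ G₂.s) (W.ι ≫ G₂.t) with hp2
  have hm : (p1 ≫ aZ) ≫ G₂.s = (p2 ≫ W.ι) ≫ G₂.t :=
    (Category.assoc _ _ _).trans (pullback.condition.trans (Category.assoc _ _ _).symm)
  set m := comp G₂ (p1 ≫ aZ) (p2 ≫ W.ι) hm with hmdef
  have hO' : IsOpen (Set.range m) := hO
  -- identity lies in W
  have he : G₂.e = inv a.fU ≫ G₁.e ≫ a.fR := by rw [hom_e, IsIso.inv_hom_id_assoc]
  have hεW : Set.range (aZ ≫ G₂.s ≫ G₂.e) ⊆ Set.range W.ι := by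
    rw [Scheme.Opens.range_ι]
    rintro _ ⟨z, rfl⟩
    apply hsubW
    show (aZ ≫ G₂.s ≫ G₂.e) z ∈ Set.range a.fR
    rw [he]
    simp only [Scheme.Hom.comp_apply]
    exact ⟨_, rfl⟩
  let w0 : Z ⟶ W.toScheme := IsOpenImmersion.lift W.ι _ hεW
  have hw0 : w0 ≫ W.ι = aZ ≫ G₂.s ≫ G₂.e := IsOpenImmersion.lift_fac _ _ _
  let γ : Z ⟶ pullback (aZ ≫ G₂.s) (W.ι ≫ G₂.t) := pullback.lift (𝟙 Z) w0 (by
    rw [Category.id_comp, ← Category.assoc w0, hw0, Category.assoc, Category.assoc, G₂.e_t,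
      Category.comp_id])
  have hγm : γ ≫ m = aZ := by
    rw [hmdef, precomp_comp]
    have e1 : γ ≫ p1 ≫ aZ = aZ := by
      rw [← Category.assoc, hp1, pullback.lift_fst, Category.id_comp]
    have e2 : γ ≫ p2 ≫ W.ι = aZ ≫ G₂.s ≫ G₂.e := by
      rw [← Category.assoc, hp2, pullback.lift_snd, hw0]
    rw [comp_congr G₂ _ e1 e2]
    exact comp_e G₂ aZ _ rfl _
  have hZne : Nonempty Z := inferInstance
  obtain ⟨z0⟩ := hZne
  have hrO : r ∈ Set.range m := by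
    refine ⟨γ z0, ?_⟩
    rw [← Scheme.Hom.comp_apply, hγm]
    exact Scheme.fromSpecResidueField_apply _ _
  obtain ⟨x, hxO, hxW⟩ := mem_closure_iff.mp hr _ hO' hrO
  obtain ⟨z, rfl⟩ := hxO
  obtain ⟨y, hy⟩ := hxW
  obtain ⟨q, hq1, hq2⟩ := Scheme.Pullback.exists_preimage_pullback (f := m) (g := a.fR) z y hy.symm
  set π1 := pullback.fst m a.fR with hπ1
  set υ := pullback.snd m a.fR with hυ
  have hQ : π1 ≫ m = υ ≫ a.fR := pullback.condition
  let rQ : pullback m a.fR ⟶ G₂.R := π1 ≫ p1 ≫ aZ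
  let ω : pullback m a.fR ⟶ G₂.R := π1 ≫ p2 ≫ W.ι
  have hrQω : rQ ≫ G₂.s = ω ≫ G₂.t := by
    show (π1 ≫ p1 ≫ aZ) ≫ G₂.s = (π1 ≫ p2 ≫ W.ι) ≫ G₂.t
    simp only [Category.assoc]
    have := hm
    simp only [Category.assoc] at this
    rw [this]
  have hrQωυ : comp G₂ rQ ω hrQω = υ ≫ a.fR := by
    have e0' : π1 ≫ comp G₂ (p1 ≫ aZ) (p2 ≫ W.ι) hm = υ ≫ a.fR := hQ
    rw [← e0', precomp_comp]
  have hrQr : ∀ t : ↥(pullback m a.fR), rQ t = r := by
    intro t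
    show (π1 ≫ p1 ≫ aZ) t = r
    simp only [Scheme.Hom.comp_apply]
    exact Scheme.fromSpecResidueField_apply _ _
  -- ω q lies in the closure of the image
  have hωcl : ω q ∈ closure (Set.range ⇑a.fR) := by
    have hcond : (rQ ≫ G₂.i) ≫ G₂.s = υ ≫ a.fR ≫ G₂.t := by
      rw [Category.assoc, G₂.i_s, ← Category.assoc υ, ← hrQωυ, comp_t]
    let l : pullback m a.fR ⟶ pullback G₂.s (a.fR ≫ G₂.t) := pullback.lift (rQ ≫ G₂.i) υ hcond
    have hl1 : l ≫ pullback.fst G₂.s (a.fR ≫ G₂.t) = rQ ≫ G₂.i := pullback.lift_fst _ _ _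
    have hl2 : l ≫ pullback.snd G₂.s (a.fR ≫ G₂.t) = υ := pullback.lift_snd _ _ _
    have hmem := mul_mem_closure a k eU (l q) (by
      rw [← Scheme.Hom.comp_apply, hl1, Scheme.Hom.comp_apply, hrQr]
      refine map_mem_closure G₂.i.continuous hr ?_
      rintro _ ⟨x₁, rfl⟩
      refine ⟨G₁.i x₁, ?_⟩
      rw [← Scheme.Hom.comp_apply, hom_i, Scheme.Hom.comp_apply])
    rw [← Scheme.Hom.comp_apply, precomp_comp] at hmem
    have e1 : l ≫ pullback.snd G₂.s (a.fR ≫ G₂.t) ≫ a.fR = comp G₂ rQ ω hrQω := by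
      rw [← Category.assoc, hl2, hrQωυ]
    rw [comp_congr G₂ _ hl1 e1, i_comp_comp] at hmem
    exact hmem
  have hωW : ω q ∈ Set.range a.fR := by
    refine hWcl _ ?_ hωcl
    show (π1 ≫ p2 ≫ W.ι) q ∈ W
    rw [Scheme.Hom.comp_apply, Scheme.Hom.comp_apply]
    exact (p2 (π1 q)).2
  obtain ⟨y', hy'⟩ := hωW
  obtain ⟨τ, hτ1, hτ2⟩ :=
    Scheme.Pullback.exists_preimage_pullback (f := ω) (g := a.fR) q y' hy'.symm
  set π := pullback.fst ω a.fR with hπ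
  set w' := pullback.snd ω a.fR with hw'def
  have hw' : π ≫ ω = w' ≫ a.fR := pullback.condition
  have hπrω : (π ≫ rQ) ≫ G₂.s = (π ≫ ω) ≫ G₂.t :=
    (Category.assoc _ _ _).trans ((congrArg (π ≫ ·) hrQω).trans (Category.assoc _ _ _).symm)
  have hcomp : comp G₂ (π ≫ rQ) (π ≫ ω) hπrω = (π ≫ υ) ≫ a.fR := by
    have := precomp_comp G₂ π rQ ω hrQω
    rw [← this, hrQωυ, Category.assoc]
  obtain ⟨ρ', hρ'⟩ := exists_lift_of_comp a (π ≫ rQ) (π ≫ ω) (π ≫ υ) w' hπrω hcomp hw'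
  refine ⟨ρ' τ, ?_⟩
  rw [← Scheme.Hom.comp_apply, hρ', Scheme.Hom.comp_apply, hrQr]

end Dev

/-- Let (U₁, R₁, s, t, c) and (U₂, R₂, s, t, c) be groupoid schemes over S with U₂ isomorphic to Spec k
for a field k, and a : R₁ → R₂ a morphism of groupoid schemes which is an isomorphism on objects. If
a(R₁) is locally closed in R₂ then it is closed. (A groupoid scheme carries U, R, s, t, c, e, i over
S satisfying the groupoid axioms on T-points.) -/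
theorem result (S : Scheme.{u}) (G₁ G₂ : Grpd.GroupoidScheme S) (k : Type u) [Field k] (eU : G₂.U ≅ Spec (CommRingCat.of k)) (a : Grpd.GroupoidScheme.Hom G₁ G₂) [IsIso a.fU] (hlc : IsLocallyClosed (Set.range ⇑a.fR)) : IsClosed (Set.range ⇑a.fR) := by
  exact main S G₁ G₂ k eU a hlc

end Groth.Agent.S1892
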