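import Groth.Statements.S18925
import Mathlib

set_option autoImplicit false
universe u
open ResHyp

namespace Groth.Agent.S18925

section Helpers

section R1

open Polynomial

section PV

variable {F : Type u} [Field F]

/-- polynomial of a coefficient vector, as a linear map -/
noncomputable def pvL (N : ℕ) : (Fin (N + 1) → F) →ₗ[F] F[X] where
  toFun c := ∑ i : Fin (N + 1), C (c i) * X ^ (i : ℕ)
  map_add' c d := by
    simp only [Pi.add_apply, map_add, add_mul, Finset.sum_add_distrib]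
  map_smul' t c := by
    simp only [Pi.smul_apply, smul_eq_mul, map_mul, RingHom.id_apply, Finset.smul_sum]
    refine Finset.sum_congr rfl fun i _ => ?_
    rw [Polynomial.smul_eq_C_mul, mul_assoc]

lemma pvL_apply (N : ℕ) (c : Fin (N + 1) → F) :
    pvL N c = ∑ i : Fin (N + 1), C (c i) * X ^ (i : ℕ) := rfl

lemma natDegree_pvL_le (N : ℕ) (c : Fin (N + 1) → F) : (pvL N c).natDegree ≤ N := by
  rw [pvL_apply]
  apply natDegree_sum_le_of_forall_le
  intro i _
  refine le_trans (natDegree_C_mul_X_pow_le _ _) ?_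
  exact Nat.lt_succ_iff.mp i.2

lemma coeff_pvL (N : ℕ) (c : Fin (N + 1) → F) (j : Fin (N + 1)) :
    (pvL N c).coeff (j : ℕ) = c j := by
  rw [pvL_apply, finsetSum_coeff]
  simp only [coeff_C_mul, coeff_X_pow]
  rw [Finset.sum_eq_single j]
  · simp
  · intro b _ hb
    rw [if_neg, mul_zero]
    intro hjb
    exact hb (Fin.ext hjb.symm)
  · intro hj
    exact absurd (Finset.mem_univ j) hj

lemma coeff_pvL_of_gt (N : ℕ) (c : Fin (N + 1) → F) (j : ℕ) (hj : N < j) :
    (pvL N c).coeff j = 0 :=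
  coeff_eq_zero_of_natDegree_lt (lt_of_le_of_lt (natDegree_pvL_le N c) hj)

/-- coefficient vector of a polynomial -/
def cv (N : ℕ) (p : F[X]) : Fin (N + 1) → F := fun j => p.coeff (j : ℕ)

lemma pvL_cv (N : ℕ) (p : F[X]) (hp : p.natDegree ≤ N) : pvL N (cv N p) = p := by
  ext j
  by_cases hj : j ≤ N
  · have := coeff_pvL N (cv N p) ⟨j, Nat.lt_succ_iff.mpr hj⟩
    simpa [cv] using this
  · push Not at hj
    rw [coeff_pvL_of_gt N _ j hj, coeff_eq_zero_of_natDegree_lt (lt_of_le_of_lt hp hj)]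

lemma pvL_injective (N : ℕ) : Function.Injective (pvL (F := F) N) := by
  intro c d h
  funext j
  rw [← coeff_pvL N c j, ← coeff_pvL N d j, h]

end PV

section Fiber

variable {F : Type u} [Field F] {V W : Type u} [AddCommGroup V] [Module F V]
  [AddCommGroup W] [Module F W] [Finite V] [Finite W]

/-- fibres of a surjective linear map over a subset -/
lemma card_fiber (L : V →ₗ[F] W) (hL : Function.Surjective L) (T : Set W) :
    Nat.card {v : V // L v ∈ T} * Nat.card W = Nat.card T * Nat.card V := by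
  obtain ⟨s, hs⟩ := L.exists_rightInverse_of_surjective (LinearMap.range_eq_top.mpr hL)
  have hs' : ∀ w, L (s w) = w := fun w => congrArg (fun f : W →ₗ[F] W => f w) hs
  let e : V ≃ W × LinearMap.ker L :=
    { toFun := fun v => (L v, ⟨v - s (L v), by
        rw [LinearMap.mem_ker, map_sub, hs', sub_self]⟩)
      invFun := fun p => s p.1 + p.2.1
      left_inv := fun v => by simp
      right_inv := fun p => by
        obtain ⟨w, ⟨k, hk⟩⟩ := p
        rw [LinearMap.mem_ker] at hk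
        ext
        · simp [hs', hk]
        · simp [hs', hk] }
  let e' : {v : V // L v ∈ T} ≃ T × LinearMap.ker L :=
    { toFun := fun v => (⟨L v.1, v.2⟩, (e v.1).2)
      invFun := fun p => ⟨e.symm (p.1.1, p.2), by
        have : L (e.symm (p.1.1, p.2)) = p.1.1 := by
          have := congrArg Prod.fst (e.apply_symm_apply (p.1.1, p.2))
          exact this
        rw [this]
        exact p.1.2⟩
      left_inv := fun v => by
        apply Subtype.ext
        change e.symm (L v.1, (e v.1).2) = v.1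
        have : (L v.1, (e v.1).2) = e v.1 := rfl
        rw [this, e.symm_apply_apply]
      right_inv := fun p => by
        obtain ⟨⟨w, hw⟩, k⟩ := p
        have h1 := e.apply_symm_apply (w, k)
        ext
        · exact congrArg Prod.fst h1
        · exact congrArg (fun z => (z.2 : V)) h1 }
  rw [Nat.card_congr e', Nat.card_congr e, Nat.card_prod, Nat.card_prod]
  ring

end Fiber

end R1

section R2

section Cnt

lemma card_split {α : Type*} [Finite α] (P Q : α → Prop) :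
    Nat.card {x // P x} = Nat.card {x // Q x ∧ P x} + Nat.card {x // ¬ Q x ∧ P x} := by
  classical
  have := Fintype.ofFinite α
  simp only [Nat.card_eq_fintype_card, Fintype.card_subtype]
  rw [← Finset.card_filter_add_card_filter_not (s := Finset.univ.filter P) Q]
  simp only [Finset.filter_filter]
  congr 2
  · ext x; simp [and_comm]
  · ext x; simp [and_comm]

lemma card_congr_iff {α : Type*} {P Q : α → Prop} (h : ∀ x, P x ↔ Q x) :
    Nat.card {x // P x} = Nat.card {x // Q x} :=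
  Nat.card_congr (Equiv.subtypeEquivRight h)

lemma card_prod_sum {α β : Type*} [Fintype α] [Finite β] (P : α → β → Prop) :
    Nat.card {p : α × β // P p.1 p.2} = ∑ a, Nat.card {b // P a b} := by
  rw [Nat.card_congr (Equiv.subtypeProdEquivSigmaSubtype P), Nat.card_sigma]

lemma card_prod_swap {α β : Type*} (P : α → β → Prop) :
    Nat.card {p : α × β // P p.1 p.2} = Nat.card {p : β × α // P p.2 p.1} :=
  Nat.card_congr ((Equiv.prodComm α β).subtypeEquiv (fun _ => Iff.rfl))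

lemma card_fibered {α β : Type*} [Finite α] [Finite β] (P : α → β → Prop) (Q : α → Prop) (c : ℕ)
    (h1 : ∀ a, Q a → Nat.card {b // P a b} = c) (h0 : ∀ a, ¬ Q a → Nat.card {b // P a b} = 0) :
    Nat.card {p : α × β // P p.1 p.2} = Nat.card {a // Q a} * c := by
  classical
  have := Fintype.ofFinite α
  rw [card_prod_sum]
  have : ∀ a, Nat.card {b // P a b} = if Q a then c else 0 := by
    intro a
    by_cases hq : Q a
    · rw [if_pos hq, h1 a hq]
    · rw [if_neg hq, h0 a hq]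
  simp only [this]
  rw [Finset.sum_ite, Finset.sum_const_zero, add_zero, Finset.sum_const, smul_eq_mul,
    Nat.card_eq_fintype_card, Fintype.card_subtype]

lemma card_scaled {α β γ : Type*} [Finite α] [Finite β] [Finite γ]
    (P : α → β → Prop) (R : α → γ → Prop) (d e : ℕ)
    (h : ∀ a, Nat.card {b // P a b} * d = Nat.card {c // R a c} * e) :
    Nat.card {p : α × β // P p.1 p.2} * d = Nat.card {p : α × γ // R p.1 p.2} * e := by
  classical
  have := Fintype.ofFinite α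
  rw [card_prod_sum, card_prod_sum, Finset.sum_mul, Finset.sum_mul]
  exact Finset.sum_congr rfl fun a _ => h a

lemma card_and_prod {α β : Type*} (P : α → Prop) (Q : β → Prop) :
    Nat.card {w : α × β // P w.1 ∧ Q w.2} = Nat.card {a // P a} * Nat.card {b // Q b} := by
  rw [Nat.card_congr Equiv.subtypeProdEquivProd, Nat.card_prod]

variable {F : Type u} [Field F] [Fintype F]

lemma card_ne_zero' : Nat.card {x : F // x ≠ 0} = Fintype.card F - 1 := by
  rw [Nat.card_congr (unitsEquivNeZero (G₀ := F)).symm, Nat.card_units, Nat.card_eq_fintype_card]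

lemma card_eq_zero' : Nat.card {x : F // x = 0} = 1 := by
  rw [Nat.card_eq_one_iff_unique]
  exact ⟨⟨fun a b => Subtype.ext (a.2.trans b.2.symm)⟩, ⟨⟨0, rfl⟩⟩⟩

lemma card_true' : Nat.card {x : F // True} = Fintype.card F := by
  rw [Nat.card_congr (Equiv.subtypeUnivEquiv (fun _ => trivial)), Nat.card_eq_fintype_card]

def fin3Equiv : (Fin 3 → F) ≃ F × F × F where
  toFun a := (a 0, a 1, a 2)
  invFun t := ![t.1, t.2.1, t.2.2]
  left_inv a := by
    funext i
    fin_cases i <;> rfl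
  right_inv t := rfl

lemma card_fin3 (P0 P1 P2 : F → Prop) :
    Nat.card {a : Fin 3 → F // P0 (a 0) ∧ P1 (a 1) ∧ P2 (a 2)} =
      Nat.card {x // P0 x} * (Nat.card {x // P1 x} * Nat.card {x // P2 x}) := by
  rw [← card_and_prod P1 P2, ← card_and_prod P0 (fun w : F × F => P1 w.1 ∧ P2 w.2)]
  exact Nat.card_congr (fin3Equiv.subtypeEquiv (fun _ => Iff.rfl))

end Cnt

end R2

section R3

open Polynomial

variable {F : Type u} [Field F]

lemma pvL_two (a : Fin 3 → F) : pvL 2 a = C (a 0) + C (a 1) * X + C (a 2) * X ^ 2 := by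
  simp [pvL_apply, Fin.sum_univ_three]

lemma coeff_pvL_two (a : Fin 3 → F) : (pvL 2 a).coeff 2 = a 2 := coeff_pvL 2 a 2

/-- the form E -/
def E (a : Fin 3 → F) (r : F × F) : F := a 0 * r.2 ^ 2 - a 1 * r.1 * r.2 + a 2 * r.1 ^ 2

lemma res_two_one (a : Fin 3 → F) (r : F × F) :
    resultant (pvL 2 a) (C r.1 + C r.2 * X) 2 1 = E a r := by
  obtain ⟨r1, r2⟩ := r
  by_cases h2 : r2 = 0
  · subst h2
    have : (C r1 + C (0 : F) * X : F[X]) = C r1 := by rw [C_0, zero_mul, add_zero]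
    rw [this, resultant_C_right, coeff_pvL_two]
    simp [E]
  · have : (C r1 + C r2 * X : F[X]) = C r2 * (X + C (r1 / r2)) := by
      rw [mul_add, ← C_mul, mul_div_cancel₀ _ h2, add_comm]
    rw [this, resultant_C_mul_right, resultant_X_add_C_right _ _ _ (natDegree_pvL_le 2 a), pvL_two]
    simp only [eval_add, eval_mul, eval_C, eval_X, eval_pow, E]
    field_simp
    ring


open Polynomial

variable {F : Type u} [Field F]

/-- monic normalisation -/
noncomputable def fm (a : Fin 3 → F) : F[X] := C (a 2)⁻¹ * pvL 2 a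

lemma fm_natDegree_le (a : Fin 3 → F) : (fm a).natDegree ≤ 2 :=
  (natDegree_C_mul_le _ _).trans (natDegree_pvL_le 2 a)

lemma fm_monic (a : Fin 3 → F) (ha : a 2 ≠ 0) : (fm a).Monic := by
  apply monic_of_natDegree_le_of_coeff_eq_one 2 (fm_natDegree_le a)
  rw [fm, coeff_C_mul, coeff_pvL_two, inv_mul_cancel₀ ha]

lemma fm_natDegree (a : Fin 3 → F) (ha : a 2 ≠ 0) : (fm a).natDegree = 2 := by
  apply le_antisymm (fm_natDegree_le a)
  apply le_natDegree_of_ne_zero
  rw [fm, coeff_C_mul, coeff_pvL_two, inv_mul_cancel₀ ha]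
  exact one_ne_zero

lemma fm_ne_one (a : Fin 3 → F) (ha : a 2 ≠ 0) : fm a ≠ 1 := by
  intro h
  have := fm_natDegree a ha
  rw [h, natDegree_one] at this
  omega

/-- reduction map -/
noncomputable def La (a : Fin 3 → F) (n : ℕ) : (Fin (n + 1) → F) →ₗ[F] F × F :=
  LinearMap.prod (lcoeff F 0 ∘ₗ modByMonicHom (fm a) ∘ₗ pvL n)
    (lcoeff F 1 ∘ₗ modByMonicHom (fm a) ∘ₗ pvL n)

lemma La_apply (a : Fin 3 → F) (n : ℕ) (b : Fin (n + 1) → F) :
    La a n b = ((pvL n b %ₘ fm a).coeff 0, (pvL n b %ₘ fm a).coeff 1) := rfl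

lemma La_surj (a : Fin 3 → F) (ha : a 2 ≠ 0) (n : ℕ) (h1 : 1 ≤ n) :
    Function.Surjective (La a n) := by
  rintro ⟨u, v⟩
  have hd : (C u + C v * X : F[X]).natDegree ≤ 1 := by
    refine (natDegree_add_le _ _).trans (max_le ?_ ?_)
    · simp
    · exact (natDegree_C_mul_le _ _).trans natDegree_X_le
  refine ⟨cv n (C u + C v * X), ?_⟩
  rw [La_apply, pvL_cv n _ (hd.trans h1)]
  have : (C u + C v * X : F[X]) %ₘ fm a = C u + C v * X := by
    rw [modByMonic_eq_self_iff (fm_monic a ha)]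
    apply degree_lt_degree
    rw [fm_natDegree a ha]
    omega
  rw [this]
  simp

lemma res_reduce (a : Fin 3 → F) (ha : a 2 ≠ 0) (k : ℕ) (g : F[X]) (hg : g.natDegree ≤ k + 2) :
    resultant (pvL 2 a) g 2 (k + 2) =
      (a 2) ^ (k + 1) * E a ((g %ₘ fm a).coeff 0, (g %ₘ fm a).coeff 1) := by
  have hm := fm_monic a ha
  have hr1 : (g %ₘ fm a).natDegree ≤ 1 := by
    have := natDegree_modByMonic_lt g hm (fm_ne_one a ha)
    rw [fm_natDegree a ha] at this
    omega
  obtain ⟨r, hr⟩ : ∃ r, r = g %ₘ fm a := ⟨_, rfl⟩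
  rw [← hr] at hr1 ⊢
  have hg' : g = r + pvL 2 a * (C (a 2)⁻¹ * (g /ₘ fm a)) := by
    conv_lhs => rw [← modByMonic_add_div g (fm a)]
    rw [← hr, fm]
    ring
  have hq : (C (a 2)⁻¹ * (g /ₘ fm a)).natDegree + 2 ≤ k + 2 := by
    have h1 := natDegree_C_mul_le (a 2)⁻¹ (g /ₘ fm a)
    have h2 := natDegree_divByMonic g hm
    rw [fm_natDegree a ha] at h2
    omega
  rw [hg', resultant_add_mul_right _ _ _ _ _ hq (natDegree_pvL_le 2 a)]
  have : k + 2 = 1 + (k + 1) := by omega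
  rw [this, resultant_add_right_deg _ _ _ _ _ hr1, coeff_pvL_two]
  congr 1
  rw [← res_two_one]
  congr 1
  conv_lhs => rw [eq_X_add_C_of_natDegree_le_one hr1]
  rw [add_comm]


open Polynomial

variable {F : Type u} [Field F]

/-- evaluation map for case ii -/
noncomputable def Lb (α : F) (n : ℕ) : (Fin (n + 1) → F) →ₗ[F] F × F :=
  LinearMap.prod (LinearMap.proj (Fin.last n)) (leval α ∘ₗ pvL n)

lemma Lb_apply (α : F) (n : ℕ) (b : Fin (n + 1) → F) :
    Lb α n b = (b (Fin.last n), eval α (pvL n b)) := rfl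

lemma Lb_surj (α : F) (n : ℕ) (h1 : 1 ≤ n) : Function.Surjective (Lb α n) := by
  rintro ⟨u, v⟩
  have hd : (C u * X ^ n + C (v - u * α ^ n) : F[X]).natDegree ≤ n := by
    refine (natDegree_add_le _ _).trans (max_le ?_ ?_)
    · exact natDegree_C_mul_X_pow_le _ _
    · rw [natDegree_C]; exact Nat.zero_le _
  refine ⟨cv n (C u * X ^ n + C (v - u * α ^ n)), ?_⟩
  rw [Lb_apply, pvL_cv n _ hd]
  have hn : n ≠ 0 := by omega
  ext
  · simp only [cv, Fin.val_last, coeff_add, coeff_C_mul, coeff_X_pow, if_true, mul_one, coeff_C,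
      if_neg hn, add_zero]
  · simp

lemma res_case2 (a : Fin 3 → F) (h2 : a 2 = 0) (h1 : a 1 ≠ 0) (n : ℕ) (g : F[X])
    (hg : g.natDegree ≤ n) :
    resultant (pvL 2 a) g 2 n = (-1) ^ n * g.coeff n * ((a 1) ^ n * eval (-(a 0 / a 1)) g) := by
  have hf : pvL 2 a = C (a 1) * (X + C (a 0 / a 1)) := by
    rw [pvL_two, h2, C_0, zero_mul, add_zero, mul_add, ← C_mul, mul_div_cancel₀ _ h1, add_comm]
  have hd : (pvL 2 a).natDegree ≤ 1 := by
    rw [hf]
    refine (natDegree_C_mul_le _ _).trans ?_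
    exact (natDegree_X_add_C _).le
  have := resultant_succ_left_deg (pvL 2 a) g 1 n hd
  rw [show (1 + 1 : ℕ) = 2 from rfl] at this
  rw [this, hf, resultant_C_mul_left, resultant_X_add_C_left _ _ _ hg]

lemma res_case3 (a : Fin 3 → F) (h2 : a 2 = 0) (h1 : a 1 = 0) (n : ℕ) (g : F[X]) :
    resultant (pvL 2 a) g 2 n = (-1) ^ (2 * n) * g.coeff n ^ 2 * (a 0) ^ n := by
  have hf : pvL 2 a = C (a 0) := by
    rw [pvL_two, h2, h1, C_0, zero_mul, zero_mul, add_zero, add_zero]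
  rw [hf, resultant_C_left]

end R3

section R4

open Polynomial

section
variable {F : Type u} [Field F] {V W : Type u} [AddCommGroup V] [Module F V]
  [AddCommGroup W] [Module F W] [Finite V] [Finite W]

lemma card_fiber' (L : V →ₗ[F] W) (hL : Function.Surjective L) (P : W → Prop) :
    Nat.card {v : V // P (L v)} * Nat.card W = Nat.card {w // P w} * Nat.card V :=
  card_fiber L hL {w | P w}

end

variable {F : Type u} [Field F] [Fintype F]

lemma card_FF : Nat.card (F × F) = Fintype.card F ^ 2 := by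
  rw [Nat.card_prod, Nat.card_eq_fintype_card, sq]

lemma card_vec (N : ℕ) : Nat.card (Fin N → F) = Fintype.card F ^ N := by
  rw [Nat.card_eq_fintype_card, Fintype.card_fun, Fintype.card_fin]

lemma card_nz_nz : Nat.card {w : F × F // w.1 ≠ 0 ∧ w.2 ≠ 0} = (Fintype.card F - 1) ^ 2 := by
  exact (card_and_prod (fun x : F => x ≠ 0) (fun x : F => x ≠ 0)).trans (by rw [card_ne_zero', sq])

lemma q_pos : 0 < Fintype.card F := Fintype.card_pos

/-- case (ii) per-a count -/
lemma count_case2 (a : Fin 3 → F) (h2 : a 2 = 0) (h1 : a 1 ≠ 0) (n : ℕ) (hn : 1 ≤ n) :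
    Nat.card {b : Fin (n + 1) → F // resultant (pvL 2 a) (pvL n b) 2 n ≠ 0} * Fintype.card F ^ 2 =
      (Fintype.card F - 1) ^ 2 * Fintype.card F ^ (n + 1) := by
  have key := card_fiber' (Lb (-(a 0 / a 1)) n) (Lb_surj _ n hn) (fun w : F × F => w.1 ≠ 0 ∧ w.2 ≠ 0)
  rw [card_FF, card_vec, card_nz_nz] at key
  rw [← key]
  congr 1
  apply card_congr_iff
  intro b
  rw [res_case2 a h2 h1 n _ (natDegree_pvL_le n b), Lb_apply]
  have : (pvL n b).coeff n = b (Fin.last n) := coeff_pvL n b (Fin.last n)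
  rw [this]
  simp only [ne_eq, mul_eq_zero, not_or, pow_eq_zero_iff (M₀ := F) (show n ≠ 0 by omega)]
  constructor
  · rintro ⟨⟨_, h⟩, _, h'⟩
    exact ⟨h, h'⟩
  · rintro ⟨h, h'⟩
    exact ⟨⟨by simp, h⟩, h1, h'⟩

/-- case (i) per-a count -/
lemma count_case1 (a : Fin 3 → F) (k : ℕ) :
    Nat.card {b : Fin (k + 2 + 1) → F // a 2 ≠ 0 ∧ resultant (pvL 2 a) (pvL (k + 2) b) 2 (k + 2) ≠ 0}
        * Fintype.card F ^ 2 =
      Nat.card {r : F × F // a 2 ≠ 0 ∧ E a r ≠ 0} * Fintype.card F ^ (k + 2 + 1) := by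
  by_cases ha : a 2 = 0
  · have e1 : Nat.card {b : Fin (k + 2 + 1) → F // a 2 ≠ 0 ∧
        resultant (pvL 2 a) (pvL (k + 2) b) 2 (k + 2) ≠ 0} = 0 := by
      have : IsEmpty {b : Fin (k + 2 + 1) → F // a 2 ≠ 0 ∧
        resultant (pvL 2 a) (pvL (k + 2) b) 2 (k + 2) ≠ 0} := ⟨fun b => b.2.1 ha⟩
      exact Nat.card_of_isEmpty
    have e2 : Nat.card {r : F × F // a 2 ≠ 0 ∧ E a r ≠ 0} = 0 := by
      have : IsEmpty {r : F × F // a 2 ≠ 0 ∧ E a r ≠ 0} := ⟨fun b => b.2.1 ha⟩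
      exact Nat.card_of_isEmpty
    rw [e1, e2, zero_mul, zero_mul]
  · have key := card_fiber' (La a (k + 2)) (La_surj a ha _ (by omega))
      (fun r : F × F => a 2 ≠ 0 ∧ E a r ≠ 0)
    rw [card_FF, card_vec] at key
    rw [← key]
    congr 1
    apply card_congr_iff
    intro b
    rw [res_reduce a ha k _ (natDegree_pvL_le _ b), La_apply]
    simp only [ne_eq, mul_eq_zero, not_or]
    constructor
    · rintro ⟨h, _, h'⟩
      exact ⟨h, h'⟩
    · rintro ⟨h, h'⟩
      exact ⟨h, pow_ne_zero _ ha, h'⟩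

/-- linear map for fixed r -/
noncomputable def Lr (r : F × F) : (Fin 3 → F) →ₗ[F] F × F :=
  LinearMap.prod (LinearMap.proj 2)
    ((r.2 ^ 2) • LinearMap.proj 0 - (r.1 * r.2) • LinearMap.proj 1 + (r.1 ^ 2) • LinearMap.proj 2)

omit [Fintype F] in
lemma Lr_apply (r : F × F) (a : Fin 3 → F) : Lr r a = (a 2, E a r) := by
  refine Prod.ext rfl ?_
  simp [Lr, E]
  ring

omit [Fintype F] in
lemma Lr_surj (r : F × F) (hr : r.2 ≠ 0) : Function.Surjective (Lr r) := by
  rintro ⟨u, v⟩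
  refine ⟨![(v - u * r.1 ^ 2) / r.2 ^ 2, 0, u], ?_⟩
  rw [Lr_apply]
  ext
  · simp
  · simp [E]
    field_simp
    ring

lemma count_r (r : F × F) (hr : r.2 ≠ 0) :
    Nat.card {a : Fin 3 → F // a 2 ≠ 0 ∧ E a r ≠ 0} * Fintype.card F ^ 2 =
      (Fintype.card F - 1) ^ 2 * Fintype.card F ^ 3 := by
  have key := card_fiber' (Lr r) (Lr_surj r hr) (fun w : F × F => w.1 ≠ 0 ∧ w.2 ≠ 0)
  rw [card_FF, card_vec, card_nz_nz] at key
  rw [← key]
  congr 1
  apply card_congr_iff
  intro a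
  rw [Lr_apply]

lemma count_last (n : ℕ) :
    Nat.card {b : Fin (n + 1) → F // b (Fin.last n) ≠ 0} * Fintype.card F =
      (Fintype.card F - 1) * Fintype.card F ^ (n + 1) := by
  have key := card_fiber' (LinearMap.proj (R := F) (φ := fun _ : Fin (n + 1) => F) (Fin.last n))
    (Function.surjective_eval _) (fun w : F => w ≠ 0)
  rw [card_vec, card_ne_zero', Nat.card_eq_fintype_card (α := F)] at key
  exact key

end R4

section R5

open Polynomial

lemma arith (q k : ℕ) (hq : 2 ≤ q) :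
    (q * (q - 1) * ((q - 1) ^ 2 * q) + (q - 1) * 1 * (q * (q * (q - 1)))) * q ^ (k + 1)
      + (q * ((q - 1) * 1)) * ((q - 1) ^ 2 * q ^ (k + 1))
      + ((q - 1) * (1 * 1)) * ((q - 1) * q ^ (k + 2)) =
    q ^ (k + 2 + 4) - q ^ (k + 2 + 3) - q ^ (k + 2 + 2) + q ^ (k + 2 + 1) := by
  obtain ⟨Q, rfl⟩ : ∃ Q, q = Q + 2 := ⟨q - 2, by omega⟩
  have e : Q + 2 - 1 = Q + 1 := rfl
  rw [e]
  have h1 : (((Q + 2) * (Q + 1) * ((Q + 1) ^ 2 * (Q + 2)) + (Q + 1) * 1 * ((Q + 2) * ((Q + 2) * (Q + 1))))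
      * (Q + 2) ^ (k + 1)
      + ((Q + 2) * ((Q + 1) * 1)) * ((Q + 1) ^ 2 * (Q + 2) ^ (k + 1))
      + ((Q + 1) * (1 * 1)) * ((Q + 1) * (Q + 2) ^ (k + 2))) + (Q + 2) ^ (k + 2 + 3) + (Q + 2) ^ (k + 2 + 2)
      = (Q + 2) ^ (k + 2 + 4) + (Q + 2) ^ (k + 2 + 1) := by
    ring
  have h2 : (Q + 2) ^ (k + 2 + 3) + (Q + 2) ^ (k + 2 + 2) ≤ (Q + 2) ^ (k + 2 + 4) := by
    have : (Q + 2) ^ (k + 2 + 4) = (Q + 2) ^ (k + 2 + 2) * (Q + 2) ^ 2 := by ring
    rw [this]
    have : (Q + 2) ^ (k + 2 + 3) = (Q + 2) ^ (k + 2 + 2) * (Q + 2) := by ring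
    rw [this]
    have h3 : (Q + 2) + 1 ≤ (Q + 2) ^ 2 := by nlinarith
    calc (Q + 2) ^ (k + 2 + 2) * (Q + 2) + (Q + 2) ^ (k + 2 + 2)
        = (Q + 2) ^ (k + 2 + 2) * ((Q + 2) + 1) := by ring
      _ ≤ _ := Nat.mul_le_mul_left _ h3
  generalize (Q + 2) ^ (k + 2 + 4) = A at *
  generalize (Q + 2) ^ (k + 2 + 3) = B at *
  generalize (Q + 2) ^ (k + 2 + 2) = C at *
  generalize (Q + 2) ^ (k + 2 + 1) = D at *
  omega


variable {F : Type u} [Field F] [Fintype F]

lemma cancel_right {x y d : ℕ} (hd : 0 < d) (h : x * d = y * d) : x = y :=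
  Nat.eq_of_mul_eq_mul_right hd h

/-- part S2b -/
lemma part_2b (k : ℕ) :
    Nat.card {p : (Fin 3 → F) × (Fin (k + 2 + 1) → F) // ¬ p.1 1 ≠ 0 ∧ ¬ p.1 2 ≠ 0 ∧
      resultant (pvL 2 p.1) (pvL (k + 2) p.2) 2 (k + 2) ≠ 0} =
    ((Fintype.card F - 1) * (1 * 1)) * ((Fintype.card F - 1) * Fintype.card F ^ (k + 2)) := by
  have hq : 0 < Fintype.card F := Fintype.card_pos
  have e1 : Nat.card {p : (Fin 3 → F) × (Fin (k + 2 + 1) → F) // ¬ p.1 1 ≠ 0 ∧ ¬ p.1 2 ≠ 0 ∧
      resultant (pvL 2 p.1) (pvL (k + 2) p.2) 2 (k + 2) ≠ 0} =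
      Nat.card {p : (Fin 3 → F) × (Fin (k + 2 + 1) → F) //
        (p.1 0 ≠ 0 ∧ p.1 1 = 0 ∧ p.1 2 = 0) ∧ p.2 (Fin.last (k + 2)) ≠ 0} := by
    apply card_congr_iff
    rintro ⟨a, b⟩
    simp only [ne_eq, not_not]
    constructor
    · rintro ⟨h1, h2, h⟩
      rw [res_case3 a h2 h1] at h
      have : (pvL (k + 2) b).coeff (k + 2) = b (Fin.last (k + 2)) := coeff_pvL _ b (Fin.last _)
      rw [this] at h
      simp only [mul_eq_zero, not_or] at h
      exact ⟨⟨fun h0 => h.2 (by rw [h0]; exact zero_pow (by omega)), h1, h2⟩,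
        fun h0 => h.1.2 (by rw [h0]; exact zero_pow (by omega))⟩
    · rintro ⟨⟨h0, h1, h2⟩, hb⟩
      refine ⟨h1, h2, ?_⟩
      rw [res_case3 a h2 h1]
      have : (pvL (k + 2) b).coeff (k + 2) = b (Fin.last (k + 2)) := coeff_pvL _ b (Fin.last _)
      rw [this]
      exact mul_ne_zero (mul_ne_zero (pow_ne_zero _ (by simp)) (pow_ne_zero _ hb)) (pow_ne_zero _ h0)
  rw [e1]
  have e2 := card_and_prod (fun a : Fin 3 → F => a 0 ≠ 0 ∧ a 1 = 0 ∧ a 2 = 0)
    (fun b : Fin (k + 2 + 1) → F => b (Fin.last (k + 2)) ≠ 0)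
  rw [e2, card_fin3 (fun x : F => x ≠ 0) (fun x => x = 0) (fun x => x = 0), card_ne_zero',
    card_eq_zero']
  congr 1
  apply cancel_right hq
  rw [count_last]
  ring


/-- part S2a -/
lemma part_2a (k : ℕ) :
    Nat.card {p : (Fin 3 → F) × (Fin (k + 2 + 1) → F) // p.1 1 ≠ 0 ∧ ¬ p.1 2 ≠ 0 ∧
      resultant (pvL 2 p.1) (pvL (k + 2) p.2) 2 (k + 2) ≠ 0} =
    (Fintype.card F * ((Fintype.card F - 1) * 1)) *
      ((Fintype.card F - 1) ^ 2 * Fintype.card F ^ (k + 1)) := by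
  have hq : 0 < Fintype.card F := Fintype.card_pos
  have key := card_fibered
    (fun (a : Fin 3 → F) (b : Fin (k + 2 + 1) → F) => a 1 ≠ 0 ∧ ¬ a 2 ≠ 0 ∧
      resultant (pvL 2 a) (pvL (k + 2) b) 2 (k + 2) ≠ 0)
    (fun a => True ∧ a 1 ≠ 0 ∧ a 2 = 0) ((Fintype.card F - 1) ^ 2 * Fintype.card F ^ (k + 1))
    ?_ ?_
  · rw [key, card_fin3 (fun _ : F => True) (fun x => x ≠ 0) (fun x => x = 0), card_ne_zero',
      card_eq_zero', card_true']
  · rintro a ⟨-, h1, h2⟩
    have e : Nat.card {b : Fin (k + 2 + 1) → F // a 1 ≠ 0 ∧ ¬ a 2 ≠ 0 ∧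
        resultant (pvL 2 a) (pvL (k + 2) b) 2 (k + 2) ≠ 0} =
        Nat.card {b : Fin (k + 2 + 1) → F //
          resultant (pvL 2 a) (pvL (k + 2) b) 2 (k + 2) ≠ 0} := by
      apply card_congr_iff
      intro b
      simp [h1, h2]
    rw [e]
    apply cancel_right (pow_pos hq 2)
    rw [count_case2 a h2 h1 (k + 2) (by omega)]
    ring
  · intro a ha
    have : IsEmpty {b : Fin (k + 2 + 1) → F // a 1 ≠ 0 ∧ ¬ a 2 ≠ 0 ∧
        resultant (pvL 2 a) (pvL (k + 2) b) 2 (k + 2) ≠ 0} :=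
      ⟨fun b => ha ⟨trivial, b.2.1, not_not.mp b.2.2.1⟩⟩
    exact Nat.card_of_isEmpty

/-- part S1' -/
lemma part_1' :
    Nat.card {p : (Fin 3 → F) × (F × F) // p.1 2 ≠ 0 ∧ E p.1 p.2 ≠ 0} =
    Fintype.card F * (Fintype.card F - 1) * ((Fintype.card F - 1) ^ 2 * Fintype.card F)
      + (Fintype.card F - 1) * 1 * (Fintype.card F * (Fintype.card F * (Fintype.card F - 1))) := by
  have hq : 0 < Fintype.card F := Fintype.card_pos
  rw [card_prod_swap (fun (a : Fin 3 → F) (r : F × F) => a 2 ≠ 0 ∧ E a r ≠ 0)]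
  rw [card_split _ (fun p : (F × F) × (Fin 3 → F) => p.1.2 ≠ 0)]
  congr 1
  · have key := card_fibered
      (fun (r : F × F) (a : Fin 3 → F) => r.2 ≠ 0 ∧ a 2 ≠ 0 ∧ E a r ≠ 0)
      (fun r => True ∧ r.2 ≠ 0) ((Fintype.card F - 1) ^ 2 * Fintype.card F) ?_ ?_
    · rw [key, card_and_prod (fun _ : F => True) (fun x : F => x ≠ 0), card_ne_zero', card_true']
    · rintro r ⟨-, hr⟩
      have e : Nat.card {a : Fin 3 → F // r.2 ≠ 0 ∧ a 2 ≠ 0 ∧ E a r ≠ 0} =
          Nat.card {a : Fin 3 → F // a 2 ≠ 0 ∧ E a r ≠ 0} := by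
        apply card_congr_iff
        intro a
        simp [hr]
      rw [e]
      apply cancel_right (pow_pos hq 2)
      rw [count_r r hr]
      ring
    · intro r hr
      have : IsEmpty {a : Fin 3 → F // r.2 ≠ 0 ∧ a 2 ≠ 0 ∧ E a r ≠ 0} :=
        ⟨fun a => hr ⟨trivial, a.2.1⟩⟩
      exact Nat.card_of_isEmpty
  · have e1 : Nat.card {p : (F × F) × (Fin 3 → F) // ¬ p.1.2 ≠ 0 ∧ p.2 2 ≠ 0 ∧ E p.2 p.1 ≠ 0} =
        Nat.card {p : (F × F) × (Fin 3 → F) // (p.1.1 ≠ 0 ∧ p.1.2 = 0) ∧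
          (True ∧ True ∧ p.2 2 ≠ 0)} := by
      apply card_congr_iff
      rintro ⟨⟨r1, r2⟩, a⟩
      simp only [ne_eq, not_not, E, true_and]
      constructor
      · rintro ⟨h2, ha, h⟩
        subst h2
        simp only [ne_eq, OfNat.ofNat_ne_zero, not_false_eq_true, zero_pow, mul_zero, sub_self,
          zero_add, mul_eq_zero, not_or, pow_eq_zero_iff] at h
        exact ⟨⟨h.2, rfl⟩, ha⟩
      · rintro ⟨⟨h1, h2⟩, ha⟩
        subst h2
        refine ⟨rfl, ha, ?_⟩
        simp only [ne_eq, OfNat.ofNat_ne_zero, not_false_eq_true, zero_pow, mul_zero, sub_self,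
          zero_add, mul_eq_zero, not_or, pow_eq_zero_iff]
        exact ⟨ha, h1⟩
    rw [e1]
    have e2 := card_and_prod (fun r : F × F => r.1 ≠ 0 ∧ r.2 = 0)
      (fun a : Fin 3 → F => True ∧ True ∧ a 2 ≠ 0)
    rw [e2, card_and_prod (fun x : F => x ≠ 0) (fun x : F => x = 0),
      card_fin3 (fun _ : F => True) (fun _ => True) (fun x => x ≠ 0), card_ne_zero',
      card_eq_zero', card_true']

/-- part S1 -/
lemma part_1 (k : ℕ) :
    Nat.card {p : (Fin 3 → F) × (Fin (k + 2 + 1) → F) // p.1 2 ≠ 0 ∧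
      resultant (pvL 2 p.1) (pvL (k + 2) p.2) 2 (k + 2) ≠ 0} =
    (Fintype.card F * (Fintype.card F - 1) * ((Fintype.card F - 1) ^ 2 * Fintype.card F)
      + (Fintype.card F - 1) * 1 * (Fintype.card F * (Fintype.card F * (Fintype.card F - 1))))
      * Fintype.card F ^ (k + 1) := by
  have hq : 0 < Fintype.card F := Fintype.card_pos
  have key := card_scaled
    (fun (a : Fin 3 → F) (b : Fin (k + 2 + 1) → F) => a 2 ≠ 0 ∧
      resultant (pvL 2 a) (pvL (k + 2) b) 2 (k + 2) ≠ 0)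
    (fun (a : Fin 3 → F) (r : F × F) => a 2 ≠ 0 ∧ E a r ≠ 0)
    (Fintype.card F ^ 2) (Fintype.card F ^ (k + 2 + 1)) (fun a => count_case1 a k)
  rw [part_1'] at key
  apply cancel_right (pow_pos hq 2)
  rw [key]
  ring

theorem main (k : ℕ) :
    Nat.card {p : (Fin 3 → F) × (Fin (k + 2 + 1) → F) //
      resultant (pvL 2 p.1) (pvL (k + 2) p.2) 2 (k + 2) ≠ 0} =
    Fintype.card F ^ (k + 2 + 4) - Fintype.card F ^ (k + 2 + 3) - Fintype.card F ^ (k + 2 + 2)
      + Fintype.card F ^ (k + 2 + 1) := by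
  have hq : 2 ≤ Fintype.card F := Fintype.one_lt_card
  rw [← arith (Fintype.card F) k hq]
  have h2 := card_split (fun p : (Fin 3 → F) × (Fin (k + 2 + 1) → F) => ¬ p.1 2 ≠ 0 ∧
      resultant (pvL 2 p.1) (pvL (k + 2) p.2) 2 (k + 2) ≠ 0)
    (fun p : (Fin 3 → F) × (Fin (k + 2 + 1) → F) => p.1 1 ≠ 0)
  rw [part_2a, part_2b] at h2
  rw [card_split _ (fun p : (Fin 3 → F) × (Fin (k + 2 + 1) → F) => p.1 2 ≠ 0), part_1, h2,
    ← add_assoc]

end R5

end Helpers

/-- Let F be a finite field with q elements and let n ≥ 2. Count the pairs (f, g) where f is a binary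
quadratic form and g a binary form of degree n over F, recorded by their coefficient vectors of
lengths 3 and n + 1 (leading coefficients may vanish), whose resultant — the Sylvester determinant
of the two coefficient vectors with size parameters 2 and n — is nonzero, i.e. f and g have no
common zero on the projective line. The number of such pairs is q ^ (n + 4) - q ^ (n + 3) - q ^ (n +
2) + q ^ (n + 1). (The source's result is the compactly supported ℓ-adic cohomology of this locus: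
one-dimensional of Tate weights n + 4, n + 3, n + 2, n + 1 in degrees 2n + 8, 2n + 7, 2n + 5, 2n + 4
and zero elsewhere; this row keeps only the resulting point count.) -/
theorem result (F : Type u) [Field F] [Fintype F] (n : ℕ) (h2 : 2 ≤ n) :
    Nat.card {p : (Fin 3 → F) × (Fin (n + 1) → F) //
      Polynomial.resultant (∑ i : Fin 3, Polynomial.C (p.1 i) * Polynomial.X ^ (i : ℕ))
        (∑ j : Fin (n + 1), Polynomial.C (p.2 j) * Polynomial.X ^ (j : ℕ)) 2 n ≠ 0} =
      Fintype.card F ^ (n + 4) - Fintype.card F ^ (n + 3) - Fintype.card F ^ (n + 2) + Fintype.card F ^ (n + 1) := by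
  obtain ⟨k, rfl⟩ : ∃ k, n = k + 2 := ⟨n - 2, by omega⟩
  exact main k

end Groth.Agent.S18925
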