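import Groth.Statements.S18924
import Mathlib
import Groth.Agent.S18925

set_option autoImplicit false
universe u
open ResHyp

namespace Groth.Agent.S18924

section Helpers

open Polynomial Groth.Agent.S18925

variable {F : Type u} [Field F]

lemma pvL_smul (N : ℕ) (t : F) (c : Fin (N + 1) → F) : pvL N (t • c) = C t * pvL N c := by
  rw [map_smul, smul_eq_C_mul]

lemma res_smul (n : ℕ) (t s : F) (a : Fin 3 → F) (b : Fin (n + 1) → F) :
    resultant (pvL 2 (t • a)) (pvL n (s • b)) 2 n =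
      t ^ n * s ^ 2 * resultant (pvL 2 a) (pvL n b) 2 n := by
  rw [pvL_smul, pvL_smul, resultant_C_mul_left, resultant_C_mul_right, mul_assoc]

lemma scal1 (n m : ℕ) (hm : n = 2 * m + 1) (t : F) (ht : t ≠ 0) :
    t ^ n * ((t⁻¹) ^ m) ^ 2 = t := by
  rw [hm, pow_succ, ← pow_mul, mul_comm m 2, inv_pow]
  field_simp

lemma scal2 (n m : ℕ) (hm : n = 2 * m + 1) (t : F) (ht : t ≠ 0) :
    (t⁻¹) ^ n * (t ^ m) ^ 2 * t = 1 := by
  rw [hm, pow_succ, ← pow_mul, mul_comm m 2, inv_pow]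
  field_simp

/-- the scaling equivalence -/
noncomputable def scaleEquiv (n m : ℕ) (hm : n = 2 * m + 1) :
    {p : (Fin 3 → F) × (Fin (n + 1) → F) // resultant (pvL 2 p.1) (pvL n p.2) 2 n ≠ 0} ≃
      {t : F // t ≠ 0} ×
        {p : (Fin 3 → F) × (Fin (n + 1) → F) // resultant (pvL 2 p.1) (pvL n p.2) 2 n = 1} where
  toFun p := (⟨resultant (pvL 2 p.1.1) (pvL n p.1.2) 2 n, p.2⟩,
    ⟨((resultant (pvL 2 p.1.1) (pvL n p.1.2) 2 n)⁻¹ • p.1.1,
      (resultant (pvL 2 p.1.1) (pvL n p.1.2) 2 n) ^ m • p.1.2), by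
      rw [res_smul]
      exact scal2 n m hm _ p.2⟩)
  invFun x := ⟨(x.1.1 • x.2.1.1, (x.1.1⁻¹) ^ m • x.2.1.2), by
      rw [res_smul, x.2.2, mul_one, scal1 n m hm _ x.1.2]
      exact x.1.2⟩
  left_inv p := by
    obtain ⟨⟨a, b⟩, hp⟩ := p
    apply Subtype.ext
    simp only [smul_smul]
    rw [mul_inv_cancel₀ hp, one_smul, ← mul_pow, inv_mul_cancel₀ hp, one_pow, one_smul]
  right_inv x := by
    obtain ⟨⟨t, ht⟩, ⟨⟨a, b⟩, h1⟩⟩ := x
    have hr : resultant (pvL 2 (t • a)) (pvL n ((t⁻¹) ^ m • b)) 2 n = t := by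
      rw [res_smul, h1, mul_one, scal1 n m hm _ ht]
    refine Prod.ext (Subtype.ext hr) (Subtype.ext ?_)
    simp only [hr, smul_smul]
    rw [inv_mul_cancel₀ ht, one_smul, ← mul_pow, mul_inv_cancel₀ ht, one_pow, one_smul]


theorem main [Fintype F] (n : ℕ) (hn : Odd n) (h3 : 3 ≤ n) :
    Nat.card {p : (Fin 3 → F) × (Fin (n + 1) → F) //
      resultant (pvL 2 p.1) (pvL n p.2) 2 n = 1} =
      Fintype.card F ^ (n + 3) - Fintype.card F ^ (n + 1) := by
  obtain ⟨m, hm⟩ := hn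
  have h1 := Nat.card_congr (scaleEquiv (F := F) n m hm)
  rw [Nat.card_prod, card_ne_zero'] at h1
  have h2 := Groth.Agent.S18925.result F n (by omega)
  change Nat.card {p : (Fin 3 → F) × (Fin (n + 1) → F) //
      resultant (pvL 2 p.1) (pvL n p.2) 2 n ≠ 0} = _ at h2
  rw [h2] at h1
  obtain ⟨k, rfl⟩ : ∃ k, n = k + 2 := ⟨n - 2, by omega⟩
  have hq : 2 ≤ Fintype.card F := Fintype.one_lt_card
  rw [← arith (Fintype.card F) k hq] at h1
  obtain ⟨Q, hQ⟩ : ∃ Q, Fintype.card F = Q + 2 := ⟨Fintype.card F - 2, by omega⟩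
  rw [hQ] at h1 ⊢
  have e : Q + 2 - 1 = Q + 1 := rfl
  rw [e] at h1
  have h4 : (Q + 1) * Nat.card {p : (Fin 3 → F) × (Fin (k + 2 + 1) → F) //
      resultant (pvL 2 p.1) (pvL (k + 2) p.2) 2 (k + 2) = 1} =
      (Q + 1) * ((Q + 2) ^ (k + 3) * (Q + 1) * (Q + 3)) := by
    rw [← h1]
    ring
  rw [Nat.eq_of_mul_eq_mul_left (Nat.succ_pos Q) h4]
  symm
  apply Nat.sub_eq_of_eq_add
  ring

end Helpers

/-- Let F be a finite field with q elements and let n ≥ 3 be odd. Count the pairs (f, g) where f is a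
binary quadratic form and g a binary form of degree n over F, recorded by their coefficient vectors
of lengths 3 and n + 1 (leading coefficients may vanish), whose resultant — the Sylvester
determinant of the two coefficient vectors with size parameters 2 and n — equals 1. The number of
such pairs is q ^ (n + 3) - q ^ (n + 1). (The published statement gives q ^ (n + 3) + q ^ (n + 1);
for q = 3 and n = 3 the count is 648, not 810.) -/
theorem result (F : Type u) [Field F] [Fintype F] (n : ℕ)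
    (hn : Odd n) (h3 : 3 ≤ n) :
    Nat.card {p : (Fin 3 → F) × (Fin (n + 1) → F) //
      Polynomial.resultant (∑ i : Fin 3, Polynomial.C (p.1 i) * Polynomial.X ^ (i : ℕ))
        (∑ j : Fin (n + 1), Polynomial.C (p.2 j) * Polynomial.X ^ (j : ℕ)) 2 n = 1} =
      Fintype.card F ^ (n + 3) - Fintype.card F ^ (n + 1) := by
  exact main n hn h3

end Groth.Agent.S18924
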