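import Groth.Statements.S18927
import Mathlib

set_option autoImplicit false
universe u v
open W4c6secantcecovers

namespace Groth.Agent.S18927

open TensorProduct

variable (R : Type u) [CommRing R] (r : ℕ)

/-- graded Leibniz rule for the contraction against a product of `p` vectors -/
lemma ssContr_ιMulti_mul (j : Fin r) (p : ℕ) (v : Fin p → (Fin r → R)) (η : SSLam R r) :
    ssContr R r j (ExteriorAlgebra.ιMulti R p v * η) =
      ssContr R r j (ExteriorAlgebra.ιMulti R p v) * η +
        (-1 : R) ^ p • (ExteriorAlgebra.ιMulti R p v * ssContr R r j η) := by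
  induction p generalizing η with
  | zero =>
    rw [ExteriorAlgebra.ιMulti_zero_apply]
    simp only [one_mul, pow_zero, one_smul]
    unfold ssContr
    rw [CliffordAlgebra.contractLeft_one, zero_mul, zero_add]
  | succ p ih =>
    rw [ExteriorAlgebra.ιMulti_succ_apply]
    have hι : ∀ a : Fin r → R, ExteriorAlgebra.ι R a = CliffordAlgebra.ι (0 : QuadraticForm R (Fin r → R)) a := fun a => rfl
    set ω' := ExteriorAlgebra.ιMulti R p (Matrix.vecTail v) with hω'
    have h1 : ∀ b : SSLam R r, ssContr R r j (ExteriorAlgebra.ι R (v 0) * b) =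
        (v 0) j • b - ExteriorAlgebra.ι R (v 0) * ssContr R r j b := by
      intro b
      unfold ssContr
      rw [hι, CliffordAlgebra.contractLeft_ι_mul]
      rfl
    rw [mul_assoc, h1, ih (Matrix.vecTail v) η, h1]
    rw [mul_add, sub_mul, smul_mul_assoc, mul_smul_comm, pow_succ]
    simp only [mul_assoc, mul_neg, mul_one, neg_smul]
    abel



lemma ιMulti_eq_zero_of_lt (n : ℕ) (hn : r < n) (v : Fin n → (Fin r → R)) :
    ExteriorAlgebra.ιMulti R n v = 0 := by
  have h : (ExteriorAlgebra.ιMulti R n (M := Fin r → R)).toMultilinearMap = 0 := by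
    apply Module.Basis.ext_multilinear (fun _ => Pi.basisFun R (Fin r))
    intro σ
    have hninj : ¬ Function.Injective σ := by
      intro hinj
      have := Fintype.card_le_of_injective σ hinj
      simp at this
      omega
    rw [Function.Injective] at hninj
    push Not at hninj
    obtain ⟨i, j, hij, hne⟩ := hninj
    simp only [zero_apply, AlternatingMap.coe_multilinearMap]
    exact AlternatingMap.map_eq_zero_of_eq _ _ (by rw [hij]) hne
  have := congrArg (fun g => g v) h
  simpa using this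

lemma ιMulti_mul_ιMulti_eq_zero (p q : ℕ) (hpq : r < p + q) (e : Fin p → (Fin r → R))
    (f : Fin q → (Fin r → R)) :
    ExteriorAlgebra.ιMulti R p e * ExteriorAlgebra.ιMulti R q f = 0 := by
  have h : ExteriorAlgebra.ιMulti R p e * ExteriorAlgebra.ιMulti R q f =
      ExteriorAlgebra.ιMulti R (p + q) (Fin.append e f) := by
    rw [ExteriorAlgebra.ιMulti_apply, ExteriorAlgebra.ιMulti_apply, ExteriorAlgebra.ιMulti_apply,
      ← List.prod_append]
    congr 1
    have : (fun i => ExteriorAlgebra.ι R (Fin.append e f i)) =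
        Fin.append (fun i => ExteriorAlgebra.ι R (e i)) (fun i => ExteriorAlgebra.ι R (f i)) := by
      funext i
      refine Fin.addCases (fun a => ?_) (fun b => ?_) i <;> simp
    rw [this, List.ofFn_fin_append]
  rw [h]
  exact ιMulti_eq_zero_of_lt R r _ hpq _


variable (N : Type v) [AddCommGroup N] [Module R N]

lemma ssDelta_tmul (φ : Fin r → (N →ₗ[R] N)) (ω : SSLam R r) (s : MvPolynomial (Fin r) R) (n : N) :
    ssDelta R r N φ ((ω ⊗ₜ[R] s) ⊗ₜ[R] n) =
      ∑ j : Fin r, (((ssContr R r j ω) ⊗ₜ[R] (MvPolynomial.X j * s)) ⊗ₜ[R] n +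
        (-1 : R) • (((ssContr R r j ω) ⊗ₜ[R] s) ⊗ₜ[R] (φ j n))) := by
  unfold ssDelta ssDKoszul ssDAct
  simp only [LinearMap.sum_apply, LinearMap.add_apply, LinearMap.smul_apply, TensorProduct.map_tmul,
    LinearMap.mulLeft_apply, LinearMap.id_apply]

lemma ssPairAux_tmul (β : N →ₗ[R] N →ₗ[R] R) (b₁ b₂ : SSB R r) (n m : N) :
    ssPairAux R r N β ((b₁ ⊗ₜ[R] n) ⊗ₜ[R] (b₂ ⊗ₜ[R] m)) = β n m • (b₁ * b₂) := by
  unfold ssPairAux
  simp only [LinearMap.coe_comp, LinearEquiv.coe_coe, Function.comp_apply,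
    TensorProduct.tensorTensorTensorComm_tmul, TensorProduct.map_tmul, LinearMap.mul'_apply,
    TensorProduct.lift.tmul, TensorProduct.rid_tmul]

lemma ssPair_tmul (β : N →ₗ[R] N →ₗ[R] R) (k : ℕ) (b₁ b₂ : SSB R r) (n m : N) :
    ssPair R r N β k (b₁ ⊗ₜ[R] n) (b₂ ⊗ₜ[R] m) = (-1 : R) ^ (k.choose 2) • (β n m • (b₁ * b₂)) := by
  unfold ssPair
  simp only [LinearMap.smul_apply, TensorProduct.curry_apply, ssPairAux_tmul]


open TensorProduct in
/-- Let R be a commutative ring, E = R^r the free module with its coordinate basis, S = R[X_1, …, X_r]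
(the symmetric algebra of E), and N an R-module carrying R-linear operators φ_j (the action of the
j-th basis vector of E) and an R-bilinear form β with β(φ_j n, m) = β(n, φ_j m) for every j. On (ΛE
⊗ S) ⊗ N — all terms Λ^k(S ⊗ E) ⊗ N of the Scheja–Storch complex at once — let δ be the differential
sending (e_1 ∧ ⋯ ∧ e_k) ⊗ s ⊗ n to Σ_i (-1)^(i-1) (e_1 ∧ ⋯ ê_i ⋯ ∧ e_k) ⊗ x(e_i) s ⊗ n + Σ_i (-1)^i
(e_1 ∧ ⋯ ê_i ⋯ ∧ e_k) ⊗ s ⊗ e_i · n, and pair a term u = ω ⊗ s ⊗ n of degree k with v = η ⊗ t ⊗ m by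
⟨u, v⟩_k = (-1)^(k choose 2) β(n, m) · (ω ∧ η) ⊗ s t. Then the differential is adjoint to itself for
this pairing in complementary degrees: for u = (e_0 ∧ ⋯ ∧ e_k) ⊗ s ⊗ n of degree k + 1 ≤ r and v =
(f_1 ∧ ⋯ ∧ f_(r-k)) ⊗ t ⊗ m of degree r - k, ⟨δ u, v⟩_k = ⟨u, δ v⟩_(k+1). (The source takes E
finitely generated projective and N a module over the ambient algebra with a pairing satisfying ⟨f,
g h⟩ = ⟨g f, h⟩; the proof runs on a basis, which is the form stated here, with the action of E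
recorded by the operators φ_j.) -/
theorem result
    (R : Type u) [CommRing R] (r : ℕ) (N : Type v) [AddCommGroup N] [Module R N]
    (φ : Fin r → (N →ₗ[R] N)) (β : N →ₗ[R] N →ₗ[R] R)
    (hβ : ∀ (j : Fin r) (n m : N), β (φ j n) m = β n (φ j m))
    (k : ℕ) (hk : k < r)
    (e : Fin (k + 1) → (Fin r → R)) (f : Fin (r - k) → (Fin r → R))
    (s t : MvPolynomial (Fin r) R) (n m : N) :
    W4c6secantcecovers.ssPair R r N β k
        (W4c6secantcecovers.ssDelta R r N φ ((ExteriorAlgebra.ιMulti R (k + 1) e ⊗ₜ[R] s) ⊗ₜ[R] n))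
        ((ExteriorAlgebra.ιMulti R (r - k) f ⊗ₜ[R] t) ⊗ₜ[R] m) =
      W4c6secantcecovers.ssPair R r N β (k + 1)
        ((ExteriorAlgebra.ιMulti R (k + 1) e ⊗ₜ[R] s) ⊗ₜ[R] n)
        (W4c6secantcecovers.ssDelta R r N φ ((ExteriorAlgebra.ιMulti R (r - k) f ⊗ₜ[R] t) ⊗ₜ[R] m)) := by
  set ω := ExteriorAlgebra.ιMulti R (k + 1) e with hω
  set η := ExteriorAlgebra.ιMulti R (r - k) f with hη
  have hzero : ω * η = 0 := ιMulti_mul_ιMulti_eq_zero R r (k + 1) (r - k) (by omega) e f
  have hkey : ∀ j : Fin r, ssContr R r j ω * η = (-1 : R) ^ k • (ω * ssContr R r j η) := by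
    intro j
    have h := ssContr_ιMulti_mul R r j (k + 1) e η
    rw [← hω, hzero, map_zero] at h
    have h2 : ssContr R r j ω * η = -((-1 : R) ^ (k + 1) • (ω * ssContr R r j η)) :=
      eq_neg_of_add_eq_zero_left h.symm
    rw [h2, pow_succ, mul_neg, mul_one, neg_smul, neg_neg]
  have hchoose : (k + 1).choose 2 = k + k.choose 2 := by
    rw [Nat.choose_succ_succ, Nat.choose_one_right]
  rw [ssDelta_tmul, ssDelta_tmul]
  simp only [map_sum, map_add, map_smul, LinearMap.sum_apply, LinearMap.add_apply,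
    LinearMap.smul_apply, ssPair_tmul, Algebra.TensorProduct.tmul_mul_tmul]
  refine Finset.sum_congr rfl fun j _ => ?_
  rw [hkey j, hchoose, pow_add, hβ j n m]
  simp only [TensorProduct.smul_tmul', smul_smul]
  have e1 : MvPolynomial.X j * s * t = s * (MvPolynomial.X j * t) := by ring
  rw [e1]
  congr 2
  · ring_nf
  · ring_nf

end Groth.Agent.S18927
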