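import Groth.Statements.S18935
import Groth.Agent.Lib.R2H3KzGen
import Groth.Agent.S18939

set_option autoImplicit false
set_option linter.style.haveILetI false
universe u
open LCI

namespace Groth.Agent.S18935

/-- a Koszul-regular generating sequence of a proper ideal is at most as long as any generating
sequence. -/
theorem length_le_of_koszul {R : Type u} [CommRing R] {I : Ideal R} (hI : I ≠ ⊤)
    (g : List R) (hg : LCI.IsKoszulRegularSeq R g) (hgI : Ideal.ofList g = I)
    (h : List R) (hhI : Ideal.ofList h = I) : g.length ≤ h.length := by
  classical
  haveI : Nontrivial (R ⧸ I) := Ideal.Quotient.nontrivial_iff.mpr hI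
  have hgmem : ∀ i : Fin g.length, g.get i ∈ I := fun i =>
    hgI ▸ Ideal.subset_span (List.get_mem g i)
  have hhmem : ∀ j : Fin h.length, h.get j ∈ I := fun j =>
    hhI ▸ Ideal.subset_span (List.get_mem h j)
  obtain ⟨b, -⟩ := Groth.Agent.S18939.result hI g.length (fun i => ⟨g.get i, hgmem i⟩)
    (by
      have : List.ofFn (fun i : Fin g.length => g.get i) = g := List.ofFn_get g
      simpa [this] using hg)
    (by
      change Ideal.span (Set.range fun i : Fin g.length => g.get i) = I
      have : (Set.range fun i : Fin g.length => g.get i) = {x | x ∈ g} := by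
        ext x
        simp [List.mem_iff_get]
      rw [this]
      exact hgI)
  -- a surjection from `(R ⧸ I)^k`
  let v : Fin h.length → I.Cotangent := fun j => I.toCotangent ⟨h.get j, hhmem j⟩
  let F : (Fin h.length → R ⧸ I) →ₗ[R ⧸ I] I.Cotangent := Fintype.linearCombination (R ⧸ I) v
  have hF : Function.Surjective F := by
    rw [← LinearMap.range_eq_top, Fintype.range_linearCombination, eq_top_iff]
    rintro y -
    obtain ⟨⟨x, hx⟩, rfl⟩ := Ideal.toCotangent_surjective I y
    have hx' : x ∈ Ideal.span (Set.range h.get) := by
      have : Ideal.span (Set.range h.get) = I := by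
        rw [← hhI, Ideal.ofList]
        congr 1
        ext x
        simp [List.mem_iff_get]
      rw [this]; exact hx
    obtain ⟨c, hc⟩ := (Ideal.mem_span_range_iff_exists_fun).mp hx'
    have : I.toCotangent ⟨x, hx⟩ = ∑ j, (Ideal.Quotient.mk I (c j)) • v j := by
      have h1 : (⟨x, hx⟩ : I) = ∑ j, c j • (⟨h.get j, hhmem j⟩ : I) := by
        apply Subtype.ext
        change x = _
        rw [← hc]
        simp
      rw [h1, map_sum]
      refine Finset.sum_congr rfl fun j _ => ?_
      rw [map_smul]
      rfl
    rw [this]
    exact Submodule.sum_mem _ fun j _ => Submodule.smul_mem _ _ (Submodule.subset_span ⟨j, rfl⟩)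
  have h1 := LinearMap.rank_le_of_surjective F hF
  rw [rank_fin_fun, rank_eq_card_basis b] at h1
  simpa using h1

/-- Let R be a commutative ring and I a proper ideal of R which is generated by some Koszul-regular
sequence. A finite sequence f of generators of I is Koszul-regular if and only if f has the smallest
possible length among all finite generating sequences of I. (Properness of I is needed: the
sequences (1) and (1, 1) are both Koszul-regular and generate the unit ideal.) -/
theorem result {R : Type u} [CommRing R] {I : Ideal R} (hI : I ≠ ⊤)
    (g : List R) (hg : LCI.IsKoszulRegularSeq R g) (hgI : Ideal.ofList g = I)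
    (f : List R) (hfI : Ideal.ofList f = I) :
    LCI.IsKoszulRegularSeq R f ↔ ∀ h : List R, Ideal.ofList h = I → f.length ≤ h.length := by
  constructor
  · intro hf h hh
    exact length_le_of_koszul hI f hf hfI h hh
  · intro hmin
    have h1 : f.length ≤ g.length := hmin g hgI
    have h2 : g.length ≤ f.length := length_le_of_koszul hI g hg hgI f hfI
    exact Groth.Agent.Lib.R2H3.KzGen.isKoszulRegularSeq_of_same_length f g hg (le_antisymm h1 h2)
      (hfI.trans hgI.symm)

end Groth.Agent.S18935
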