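import Groth.Statements.S1896
import Mathlib
import Groth.Agent.S1916
import Groth.Agent.Lib.Helper1Sky4


set_option autoImplicit false
set_option linter.style.haveILetI false
set_option linter.unusedVariables false
universe u
open CategoryTheory AlgebraicGeometry
open Cyc

namespace Groth.Agent.S1896

/-- For a short exact sequence 0 → F → G → H → 0 of coherent O_X-modules (X locally Noetherian with
dimension function δ) whose supports have δ-dimension at most k, one has [G]_k = [F]_k + [H]_k
coefficientwise. Here (X, δ) satisfies Cyc.IsSetup (X locally Noetherian with universally catenary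
local rings, δ a dimension function). -/
theorem result (X : Scheme.{u}) (δ : X → ℤ) (hX : Cyc.IsSetup X δ) (k : ℤ) (T : ShortComplex X.Modules) (hT : T.ShortExact) (h₁ : Coh.IsCoh T.X₁) (h₂ : Coh.IsCoh T.X₂) (h₃ : Coh.IsCoh T.X₃) (hdim : ∀ x : X, Nontrivial (T.X₂.presheaf.stalk x) → δ x ≤ k) : Cyc.sheafFun δ k T.X₂ = Cyc.sheafFun δ k T.X₁ + Cyc.sheafFun δ k T.X₃ := by
  haveI : IsLocallyNoetherian X := hX.1
  funext x
  simp only [Cyc.sheafFun, Pi.add_apply]
  by_cases hx : δ x = k
  · rw [if_pos hx, if_pos hx, if_pos hx]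
    obtain ⟨hinj, hsurj, hex⟩ := Groth.Agent.Lib.Helper1.Sky.stalk_shortExact x T hT
    have hadd : Module.length (X.presheaf.stalk x) (T.X₂.presheaf.stalk x) =
        Module.length (X.presheaf.stalk x) (T.X₁.presheaf.stalk x) +
          Module.length (X.presheaf.stalk x) (T.X₃.presheaf.stalk x) :=
      Module.length_eq_add_of_exact
        (Groth.Agent.Lib.Helper1.StalkTensor.smₗ (Groth.Agent.Lib.Helper1.StalkTensor.toPMMap T.f) x)
        (Groth.Agent.Lib.Helper1.StalkTensor.smₗ (Groth.Agent.Lib.Helper1.StalkTensor.toPMMap T.g) x)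
        hinj hsurj hex
    by_cases hnt : Nontrivial (T.X₂.presheaf.stalk x)
    · have hfin : Module.length (X.presheaf.stalk x) (T.X₂.presheaf.stalk x) < ⊤ :=
        (Groth.Agent.S1916.result X T.X₂ h₂).2 x hnt (fun y hy hyx => by
          by_contra hne
          have h1 := (hX.2.2 y x hyx hne).1
          have h2 := hdim y hy
          omega)
      rw [hadd] at hfin ⊢
      have h1 : Module.length (X.presheaf.stalk x) (T.X₁.presheaf.stalk x) ≠ ⊤ :=
        ne_top_of_le_ne_top hfin.ne le_self_add
      have h3 : Module.length (X.presheaf.stalk x) (T.X₃.presheaf.stalk x) ≠ ⊤ :=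
        ne_top_of_le_ne_top hfin.ne le_add_self
      rw [ENat.toNat_add h1 h3, Nat.cast_add]
    · rw [not_nontrivial_iff_subsingleton] at hnt
      have h0 : Module.length (X.presheaf.stalk x) (T.X₂.presheaf.stalk x) = 0 :=
        Module.length_eq_zero_iff.mpr hnt
      rw [h0] at hadd
      have h10 := (add_eq_zero.mp hadd.symm).1
      have h30 := (add_eq_zero.mp hadd.symm).2
      rw [h0, h10, h30]
      rfl
  · rw [if_neg hx, if_neg hx, if_neg hx]
    rfl

end Groth.Agent.S1896
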