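import Groth.Statements.S6477
import Mathlib
import Groth.Agent.Lib.R2H3CycFlat
import Groth.Agent.Lib.Helper2PullbackSec2


set_option autoImplicit false
set_option linter.style.haveILetI false
set_option linter.unusedVariables false
universe u
open CategoryTheory AlgebraicGeometry
open CategoryTheory.Limits
open Cyc

namespace Groth.Agent.S6477

/-- Let F be a coherent O_X-module with dim_δ Supp(F) ≤ k and F' = p^*F its base change to X'. Then
dim_{δ'} Supp(F') ≤ k + c and g^*[F]_k = [F']_{k+c} in Z_{k+c}(X') (coefficientwise; support bounds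
through nontrivial stalks). Setting: p : X' → X is flat (not necessarily of finite type), (X, δ) and
(X', δ') satisfy Cyc.IsSetup, and δ'(x') = δ(p x') + c whenever x' is maximal under generalization
inside its fibre p⁻¹(p x'); g^* : Z_k(X) → Z_{k+c}(X') is the coefficientwise flat pullback
Cyc.pullFun p δ' δ c. (The published statement takes X′ = X ×_S S′ for a flat S′ → S and X locally
of finite type over S; this row allows any flat p : X′ → X with the shift condition. The published
statement also has a part for closed subschemes, which follows with [Z]_k = [O_Z]_k; this row does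
not restate it.) -/
theorem result (X X' : Scheme.{u}) (p : X' ⟶ X) [Flat p] (δ : X → ℤ) (δ' : X' → ℤ) (hX : Cyc.IsSetup X δ) (hX' : Cyc.IsSetup X' δ') (c : ℤ) (hc : ∀ x' : X', (∀ y, p y = p x' → y ⤳ x' → y = x') → δ' x' = δ (p x') + c) (k : ℤ) (F : X.Modules) (hF : Coh.IsCoh F) (hdim : ∀ x : X, Nontrivial (F.presheaf.stalk x) → δ x ≤ k) : (∀ x' : X', Nontrivial (((Scheme.Modules.pullback p).obj F).presheaf.stalk x') → δ' x' ≤ k + c) ∧ Cyc.pullFun p δ' δ c (Cyc.sheafFun δ k F) = Cyc.sheafFun δ' (k + c) ((Scheme.Modules.pullback p).obj F) := by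
  obtain ⟨hqc, hft⟩ := hF
  haveI : F.IsQuasicoherent := hqc
  -- stalk description
  have hstalk : ∀ x' : X', Module.length (X'.presheaf.stalk x')
      (((Scheme.Modules.pullback p).obj F).presheaf.stalk x') =
      Module.length (X.presheaf.stalk (p x')) (F.presheaf.stalk (p x')) *
        Module.length (X'.presheaf.stalk x') (X'.presheaf.stalk x' ⧸
          Ideal.map (p.stalkMap x').hom (IsLocalRing.maximalIdeal (X.presheaf.stalk (p x')))) := by
    intro x'
    letI : Algebra (X.presheaf.stalk (p.base x')) (X'.presheaf.stalk x') :=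
      (p.stalkMap x').hom.toAlgebra
    obtain ⟨e⟩ := Groth.Agent.Lib.Helper2.PullbackSec.nonempty_stalk_linearEquiv p F x'
    rw [← e.length_eq]
    haveI : Module.Flat (X.presheaf.stalk (p.base x')) (X'.presheaf.stalk x') := Flat.stalkMap p x'
    haveI : IsLocalHom (algebraMap (X.presheaf.stalk (p.base x')) (X'.presheaf.stalk x')) :=
      inferInstanceAs (IsLocalHom (p.stalkMap x').hom)
    exact IsLocalRing.length_baseChange _ _ _
  have hle : ∀ x', δ' x' ≤ δ (p x') + c := fun x' =>
    (Groth.Agent.Lib.R2H3.CycFlat.delta_le p δ δ' hX'.2.2 c hc x').1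
  have hnt : ∀ x', Nontrivial (((Scheme.Modules.pullback p).obj F).presheaf.stalk x') →
      Nontrivial (F.presheaf.stalk (p x')) := by
    intro x' hn
    by_contra hsub
    rw [not_nontrivial_iff_subsingleton] at hsub
    have h0 : Module.length (X.presheaf.stalk (p x')) (F.presheaf.stalk (p x')) = 0 :=
      Module.length_eq_zero_iff.mpr hsub
    have h1 := hstalk x'
    rw [h0, zero_mul, Module.length_eq_zero_iff] at h1
    exact not_subsingleton _ h1
  refine ⟨fun x' hn => ?_, ?_⟩
  · have h1 := hdim (p x') (hnt x' hn)
    have h2 := hle x'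
    omega
  · funext x'
    simp only [Cyc.pullFun, Cyc.sheafFun]
    by_cases h1 : δ' x' = δ (p x') + c
    · rw [if_pos h1]
      by_cases h2 : δ (p x') = k
      · rw [if_pos h2, if_pos (by omega), hstalk x', ENat.toNat_mul, Nat.cast_mul]
      · rw [if_neg h2, zero_mul, if_neg (by omega)]
    · rw [if_neg h1]
      by_cases h3 : δ' x' = k + c
      · rw [if_pos h3]
        have hlt : k < δ (p x') := by
          have := hle x'
          omega
        have hsub : Subsingleton (F.presheaf.stalk (p x')) := by
          by_contra hns
          rw [not_subsingleton_iff_nontrivial] at hns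
          have := hdim _ hns
          omega
        have h0 : Module.length (X.presheaf.stalk (p x')) (F.presheaf.stalk (p x')) = 0 :=
          Module.length_eq_zero_iff.mpr hsub
        rw [hstalk x', h0, zero_mul]
        rfl
      · rw [if_neg h3]

end Groth.Agent.S6477
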