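import Groth.Statements.S1899
import Mathlib
import Groth.Agent.Lib.Helper4NormDelta


set_option autoImplicit false
set_option linter.style.haveILetI false
set_option linter.unusedVariables false
universe u
open CategoryTheory AlgebraicGeometry
open Cyc

namespace Groth.Agent.S1899


open Groth.Agent.Lib.Helper4.NormDelta Groth.Agent.Lib.Helper2.QCoh

section Stalks

variable {X Z : Scheme.{u}} (i : Z ⟶ X)

/-- the stalk of `i_* O_Z` at a point outside the closed image is zero. -/
theorem subsingleton_stalk_of_not_mem_range [IsClosedImmersion i] (x : X) (hx : x ∉ Set.range i) :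
    Subsingleton ((pushO i).presheaf.stalk x) := by
  have key : ∀ t : (pushO i).presheaf.stalk x, t = 0 := by
    intro t
    obtain ⟨W, hxW, s, rfl⟩ := (pushO i).presheaf.exists_germ_eq t
    let W' : X.Opens := W ⊓ ⟨(Set.range i)ᶜ, i.isClosedEmbedding.isClosed_range.isOpen_compl⟩
    have hxW' : x ∈ W' := ⟨hxW, hx⟩
    have hbot : i ⁻¹ᵁ W' = ⊥ := by
      ext z
      constructor
      · rintro ⟨-, hz⟩
        exact (hz ⟨z, rfl⟩).elim
      · intro hz
        exact hz.elim
    haveI h1 : Subsingleton Γ(Z, i ⁻¹ᵁ W') := by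
      rw [hbot]; infer_instance
    have h2 : (pushO i).presheaf.map (homOfLE (inf_le_left : W' ≤ W)).op s = 0 :=
      congrArg (toPush i W') (Subsingleton.elim (ofPush i W' _) (ofPush i W' 0))
    rw [← TopCat.Presheaf.germ_res_apply (pushO i).presheaf (homOfLE (inf_le_left : W' ≤ W)) x hxW' s,
      h2, map_zero]
  exact ⟨fun a b => by rw [key a, key b]⟩

/-- `a ↦ a • 1 : O_{X,x} → (i_* O_Z)_x`. -/
noncomputable def Φ (x : X) :
    X.presheaf.stalk x →ₗ[X.presheaf.stalk x] (pushO i).presheaf.stalk x :=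
  LinearMap.toSpanSingleton _ _ (oneStalk i x)

theorem Φ_germ (x : X) (W : X.Opens) (hx : x ∈ W) (a : Γ(X, W)) :
    Φ i x (X.presheaf.germ W x hx a) =
      (pushO i).presheaf.germ W x hx (toPush i W ((i.app W).hom a)) := by
  unfold Φ
  rw [LinearMap.toSpanSingleton_apply, ← germ_toPush_one i x W hx, ← germ_smul, pushO_smul]
  congr 1
  show toPush i W ((i.app W).hom a * 1) = _
  rw [mul_one]

theorem Φ_surjective [IsClosedImmersion i] (x : X) : Function.Surjective (Φ i x) := by
  intro t
  obtain ⟨W, hxW, s, rfl⟩ := (pushO i).presheaf.exists_germ_eq t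
  obtain ⟨_, ⟨V, hV, rfl⟩, hxV, hVW⟩ :=
    X.isBasis_affineOpens.exists_subset_of_mem_open hxW W.isOpen
  have hle : V ≤ W := hVW
  obtain ⟨a, ha⟩ := i.app_surjective V hV
    (ofPush i V ((pushO i).presheaf.map (homOfLE hle).op s))
  refine ⟨X.presheaf.germ V x hxV a, ?_⟩
  rw [Φ_germ, ← TopCat.Presheaf.germ_res_apply (pushO i).presheaf (homOfLE hle) x hxV s]
  exact congrArg ((pushO i).presheaf.germ V x hxV) (congrArg (toPush i V) ha)

theorem map_toPush {W W' : X.Opens} (hle : W' ≤ W) (b : Γ(Z, i ⁻¹ᵁ W)) :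
    (pushO i).presheaf.map (homOfLE hle).op (toPush i W b) =
      toPush i W' (Z.presheaf.map (homOfLE (show i ⁻¹ᵁ W' ≤ i ⁻¹ᵁ W from fun _ h => hle h)).op b) :=
  rfl

theorem Φ_eq_zero_iff [IsClosedImmersion i] (z : Z) (a : X.presheaf.stalk (i z)) :
    Φ i (i z) a = 0 ↔ (i.stalkMap z).hom a = 0 := by
  obtain ⟨W, hxW, a, rfl⟩ := X.presheaf.exists_germ_eq a
  rw [Φ_germ]
  have h1 : (i.stalkMap z).hom (X.presheaf.germ W (i z) hxW a) =
      Z.presheaf.germ (i ⁻¹ᵁ W) z hxW ((i.app W).hom a) :=
    Scheme.Hom.germ_stalkMap_apply i W z hxW a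
  rw [h1]
  constructor
  · intro h
    have h0 : (pushO i).presheaf.germ W (i z) hxW (toPush i W ((i.app W).hom a)) =
        (pushO i).presheaf.germ W (i z) hxW 0 := by rw [h, map_zero]
    obtain ⟨W', hxW', i₁, i₂, hW'⟩ := (pushO i).presheaf.germ_eq (i z) hxW hxW _ 0 h0
    rw [map_zero] at hW'
    have e : i₁ = homOfLE i₁.le := Subsingleton.elim _ _
    rw [e, map_toPush] at hW'
    have h2 : Z.presheaf.map (homOfLE (show i ⁻¹ᵁ W' ≤ i ⁻¹ᵁ W from fun _ h => i₁.le h)).op
        ((i.app W).hom a) = 0 := congrArg (ofPush i W') hW'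
    rw [← TopCat.Presheaf.germ_res_apply Z.presheaf
      (homOfLE (show i ⁻¹ᵁ W' ≤ i ⁻¹ᵁ W from fun _ h => i₁.le h)) z hxW' ((i.app W).hom a), h2,
      map_zero]
  · intro h
    have h0 : Z.presheaf.germ (i ⁻¹ᵁ W) z hxW ((i.app W).hom a) =
        Z.presheaf.germ (i ⁻¹ᵁ W) z hxW 0 := by rw [h, map_zero]
    obtain ⟨U, hzU, j₁, j₂, hU⟩ := Z.presheaf.germ_eq z hxW hxW _ 0 h0
    rw [map_zero] at hU
    obtain ⟨W'', hW''o, hW''U⟩ := i.isClosedEmbedding.isEmbedding.isInducing.isOpen_iff.mp U.isOpen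
    let W' : X.Opens := ⟨W'', hW''o⟩ ⊓ W
    have hxW' : i z ∈ W' := by
      refine ⟨?_, hxW⟩
      show z ∈ i ⁻¹' W''
      rw [hW''U]; exact hzU
    have hle : i ⁻¹ᵁ W' ≤ U := by
      intro y hy
      have h2 : y ∈ i ⁻¹' W'' := hy.1
      rw [hW''U] at h2
      exact h2
    have hWW : i ⁻¹ᵁ W' ≤ i ⁻¹ᵁ W := fun _ h => h.2
    rw [← TopCat.Presheaf.germ_res_apply (pushO i).presheaf (homOfLE (inf_le_right : W' ≤ W)) (i z)
      hxW' (toPush i W ((i.app W).hom a)), map_toPush]
    have e : (homOfLE hWW : i ⁻¹ᵁ W' ⟶ i ⁻¹ᵁ W) = homOfLE hle ≫ j₁ := Subsingleton.elim _ _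
    have h3 : Z.presheaf.map (homOfLE hWW).op ((i.app W).hom a) = 0 := by
      rw [e, op_comp, Functor.map_comp, CommRingCat.comp_apply, hU, map_zero]
    rw [h3]
    exact map_zero _

/-- the length of the stalk of `i_* O_Z` at `i z` over `O_{X, i z}` is the length of `O_{Z,z}`. -/
theorem length_stalk_eq [IsClosedImmersion i] (z : Z) :
    Module.length (X.presheaf.stalk (i z)) ((pushO i).presheaf.stalk (i z)) =
      Module.length (Z.presheaf.stalk z) (Z.presheaf.stalk z) := by
  letI : Algebra (X.presheaf.stalk (i z)) (Z.presheaf.stalk z) := (i.stalkMap z).hom.toAlgebra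
  have hsurj : Function.Surjective (algebraMap (X.presheaf.stalk (i z)) (Z.presheaf.stalk z)) :=
    i.stalkMap_surjective z
  rw [← Module.length_eq_of_surjective (M := Z.presheaf.stalk z) hsurj]
  have hker : LinearMap.ker (Φ i (i z)) =
      LinearMap.ker (Algebra.linearMap (X.presheaf.stalk (i z)) (Z.presheaf.stalk z)) := by
    ext a
    simp only [LinearMap.mem_ker]
    exact Φ_eq_zero_iff i z a
  let e1 := (Φ i (i z)).quotKerEquivOfSurjective (Φ_surjective i (i z))
  let e2 := (Algebra.linearMap (X.presheaf.stalk (i z)) (Z.presheaf.stalk z)).quotKerEquivOfSurjective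
    hsurj
  let e3 := Submodule.quotEquivOfEq _ _ hker
  exact (e1.symm ≪≫ₗ e3 ≪≫ₗ e2).length_eq

end Stalks

/-- For a closed immersion i : Z → X with Z of δ-dimension ≤ k, [Z]_k = [O_Z]_k, i.e. the multiplicities
computed from lengths of the local rings O_{Z,z} agree with those computed from the stalks of i_*O_Z
as O_X-modules. A pair (X, δ) with Cyc.IsSetup plays the role of a scheme locally of finite type
over a fixed base with a dimension function (X locally Noetherian with universally catenary local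
rings, δ a dimension function), and Cyc.DeltaCompat records that the dimension function upstairs is
the induced one. -/
theorem result (X Z : Scheme.{u}) (δ : X → ℤ) (hX : Cyc.IsSetup X δ) (i : Z ⟶ X) [IsClosedImmersion i] (k : ℤ) (hdim : ∀ z : Z, δ (i z) ≤ k) : Cyc.subschemeFun δ k i = Cyc.sheafFun δ k ((Coh.push i).obj (Coh.structureModule Z)) := by
  funext x
  simp only [Cyc.subschemeFun, Cyc.sheafFun]
  by_cases hx : δ x = k
  · rw [if_pos hx, if_pos hx]
    by_cases hr : x ∈ Set.range i
    · obtain ⟨z, rfl⟩ := hr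
      have hset : {z' : Z | i z' = i z} = {z} := by
        ext z'
        simp only [Set.mem_ofPred_eq, Set.mem_singleton_iff]
        exact i.isClosedEmbedding.injective.eq_iff
      rw [hset, finsum_mem_singleton]
      have h1 := length_stalk_eq i z
      rw [← h1]
    · have hset : {z' : Z | i z' = x} = ∅ := by
        ext z'
        simp only [Set.mem_ofPred_eq, Set.mem_empty_iff_false, iff_false]
        intro h
        exact hr ⟨z', h⟩
      rw [hset, finsum_mem_empty]
      haveI := subsingleton_stalk_of_not_mem_range i x hr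
      have h0 : Module.length (X.presheaf.stalk x) ((pushO i).presheaf.stalk x) = 0 :=
        Module.length_eq_zero_iff.mpr inferInstance
      show (0 : ℤ) = ((Module.length (X.presheaf.stalk x) ((pushO i).presheaf.stalk x)).toNat : ℤ)
      rw [h0]
      rfl
  · rw [if_neg hx, if_neg hx]

end Groth.Agent.S1899
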