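import Groth.Statements.S1900
import Groth.Agent.S1902

set_option autoImplicit false
universe u
open CategoryTheory AlgebraicGeometry
open CategoryTheory.Limits
open Cyc

namespace Groth.Agent.S1900

/-- Let W → P^1_X be a closed immersion with W integral of δ-dimension k + 1 (for the dimension function
on P^1_X induced from δ on X), whose generic point lies neither over the zero section nor over the
section at infinity. Let W_0, W_∞ → X be the pullbacks of W along the two sections X → P^1_X (closed
subschemes of X). Then [W_0]_k ∼_rat [W_∞]_k on X. A pair (X, δ) with Cyc.IsSetup plays the role of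
a scheme locally of finite type over a fixed base with a dimension function (X locally Noetherian
with universally catenary local rings, δ a dimension function), and Cyc.DeltaCompat records that the
dimension function upstairs is the induced one. -/
theorem result (X : Scheme.{u}) (δ : X → ℤ) (hX : Cyc.IsSetup X δ) (δP : ↥(CohB1.ProjSpaceOver 1 X) → ℤ) (hP : Cyc.DeltaCompat (CohB1.ProjSpaceOver.toBase 1 X) δP δ) (k : ℤ) (W : Scheme.{u}) [IsIntegral W] (ι : W ⟶ CohB1.ProjSpaceOver 1 X) [IsClosedImmersion ι] (hW : δP (ι (genericPoint W)) = k + 1) (h0 : ι (genericPoint W) ∉ Set.range ⇑(P1.sect X 0)) (h1 : ι (genericPoint W) ∉ Set.range ⇑(P1.sect X 1)) (α β : AlgebraicCycle X ℤ) (hα : ⇑α = Cyc.subschemeFun δ k (pullback.snd ι (P1.sect X 0))) (hβ : ⇑β = Cyc.subschemeFun δ k (pullback.snd ι (P1.sect X 1))) : Cyc.RatEquiv δ k α β := by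
  classical
  haveI : IsProper (CohB1.ProjSpaceOver.toBase 1 X) := Groth.Agent.S9705.isProper_toBase 1 X
  have hPs : Cyc.IsSetup (CohB1.ProjSpaceOver 1 X) δP :=
    Groth.Agent.Lib.R2H1.MVClosed.isSetup_of_lft (CohB1.ProjSpaceOver.toBase 1 X) δ hX δP hP
  have hWs := Groth.Agent.Lib.R2H1.PullInv.isSetup_of_closedImmersion ι hPs
  haveI : IsLocallyNoetherian W := hWs.1
  have hlt : ∀ z : W, z ≠ genericPoint W → δP (ι z) < k + 1 := by
    intro z hz
    have hsp : genericPoint W ⤳ z := genericPoint_specializes z
    have hsp' : ι (genericPoint W) ⤳ ι z := ι.base.hom.map_specializes hsp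
    have hne : ι (genericPoint W) ≠ ι z := fun h => hz (ι.isClosedEmbedding.injective h).symm
    have := (hPs.2.2 _ _ hsp' hne).1
    omega
  refine Groth.Agent.S1902.result X δ hX δP hP k W ι ?_ ?_ ?_ α β hα hβ
  · intro z
    by_cases hz : z = genericPoint W
    · rw [hz, hW]
    · exact (hlt z hz).le
  · intro z hz
    have hne : z ≠ genericPoint W := by
      rintro rfl
      rcases hz with h | h
      · exact h0 h
      · exact h1 h
    have := hlt z hne
    omega
  · intro z hz
    left
    rw [isAssociatedPrime_iff] at hz
    obtain ⟨-, x, hx⟩ := hz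
    have hbot : ∀ r : W.presheaf.stalk z, r ∈ IsLocalRing.maximalIdeal (W.presheaf.stalk z) →
        r = 0 := by
      intro r hr
      rw [hx, Submodule.mem_colon_singleton] at hr
      have hr' : r * x = 0 := by simpa using hr
      rcases mul_eq_zero.mp hr' with h | h
      · exact h
      · exfalso
        have h1' : (1 : W.presheaf.stalk z) ∈ IsLocalRing.maximalIdeal (W.presheaf.stalk z) := by
          rw [hx, Submodule.mem_colon_singleton, h]
          simp
        exact (IsLocalRing.maximalIdeal.isMaximal _).ne_top
          ((Ideal.eq_top_iff_one _).mpr h1')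
    have hzη : z = genericPoint W := by
      have hsp : genericPoint W ⤳ z := genericPoint_specializes z
      have h1' := Groth.Agent.Lib.R2H1.LocQuot.fromSpecStalk_ker_specMap z (genericPoint W) hsp
      have h2 : (⟨RingHom.ker (Cyc.specMap z (genericPoint W) hsp), inferInstance⟩ :
          PrimeSpectrum (W.presheaf.stalk z)) = IsLocalRing.closedPoint (W.presheaf.stalk z) := by
        apply PrimeSpectrum.ext
        apply le_antisymm
        · exact IsLocalRing.le_maximalIdeal (RingHom.ker_ne_top _)
        · intro r hr
          rw [hbot r hr]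
          exact zero_mem _
      rw [h2, Scheme.fromSpecStalk_closedPoint] at h1'
      exact h1'
    rw [hzη]
    rintro (h | h)
    · exact h0 h
    · exact h1 h

end Groth.Agent.S1900
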