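import Groth.Statements.S19060
import Groth.Agent.Lib.R2H2Bridge
import Groth.Agent.Lib.R2H2FibRank
import Groth.Agent.Lib.R2H2LocalCx
import Groth.Agent.Lib.R2H2AmpVanish
import Groth.Agent.Lib.R2H4GVSch

set_option autoImplicit false
universe u
open CategoryTheory CategoryTheory.Limits AlgebraicGeometry Opposite
open Curves

namespace Groth.Agent.S19060

/-- Let R be a Noetherian ring and X a relative curve over Spec R (proper and smooth, with geometrically
connected fibres of dimension one, and projective: X carries an ample invertible module). Let F be a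
coherent O_X-module which is flat over Spec R (every stalk is a flat module over the local ring of
the base). If H^1(X, F) is a projective R-module, then H^0(X, F) is a projective R-module. (The
source says only that F is an O_X-module flat over the base; F is taken coherent here, as the
finiteness of its cohomology over R used there requires.) -/
theorem result (R : Type u) [CommRing R] [IsNoetherianRing R]
    (X : Scheme.{u}) [X.Over (Spec (CommRingCat.of R))] [IsProper (X ↘ Spec (CommRingCat.of R))]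
    [Smooth (X ↘ Spec (CommRingCat.of R))] [GeometricallyConnected (X ↘ Spec (CommRingCat.of R))]
    (hdim : ∀ s : Spec (CommRingCat.of R), topologicalKrullDim ↥((X ↘ Spec (CommRingCat.of R)).fiber s) = 1)
    (hproj : ∃ M : X.Modules, CohB1.IsAmple M)
    (F : X.Modules) (hF : Coh.IsCoh F) (hfl : FlatMod.IsFlatOver (X ↘ Spec (CommRingCat.of R)) F)
    (h1 : Module.Projective R (Coh.HH X F 1)) :
    Module.Projective R (Coh.HH X F 0) := by
  classical
  haveI : F.IsQuasicoherent := hF.1
  haveI : CompactSpace X :=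
    QuasiCompact.compactSpace_of_compactSpace (X ↘ Spec (CommRingCat.of R))
  obtain ⟨Q, b, hQ, hQz, hQv, hQi⟩ := Groth.Agent.Lib.R2H2.Bridge.bridge' R X F hF hfl
  have hQff : ∀ i, Module.Finite R (Q.X i) ∧ Module.Flat R (Q.X i) := fun i =>
    ⟨(hQ i).1, haveI := (hQ i).2; inferInstance⟩
  have hQfl : ∀ i, Module.Flat R (Q.X i) := fun i => (hQff i).2
  -- the fibres have no cohomology in degrees `≥ 2`
  have hlow : ∀ p : ℕ, 2 ≤ p → ∀ M : ModuleCat.{u} R,
      IsZero ((CohIII.TFun Q (-(p : ℤ))).obj M) := by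
    intro p hp M
    refine Groth.Agent.Lib.R2H2.AmpVanish.isZero_T_of_dRank_eq_zero Q hQff _ (fun y => ?_) M
    rw [← Groth.Agent.Lib.R2H2.FibRank.fiberRank_eq_dRank F Q hQfl (-(p : ℤ)) p (hQi p).some y]
    haveI : LocallyOfFiniteType
        ((X ↘ Spec (CommRingCat.of R)).fiberToSpecResidueField y) :=
      MorphismProperty.pullback_snd _ _ inferInstance
    haveI : IsLocallyNoetherian ((X ↘ Spec (CommRingCat.of R)).fiber y) :=
      LocallyOfFiniteType.isLocallyNoetherian
        ((X ↘ Spec (CommRingCat.of R)).fiberToSpecResidueField y)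
    haveI : IsNoetherian ((X ↘ Spec (CommRingCat.of R)).fiber y) := {}
    haveI : Subsingleton (CohIII.fiberH (X ↘ Spec (CommRingCat.of R)) F y p) :=
      Groth.Agent.Lib.R2H4GVSch.subsingleton_HH ((X ↘ Spec (CommRingCat.of R)).fiber y) 1
        (by rw [hdim y]; rfl) (CohIII.fiberMod (X ↘ Spec (CommRingCat.of R)) F y) p (by omega)
    exact Module.finrank_zero_of_subsingleton
  -- `T_{-1}` is right exact
  have h1e : (CohIII.TFun Q (-((1 : ℕ) : ℤ))).PreservesEpimorphisms :=
    (Groth.Agent.S2406.result Q hQfl (-((1 : ℕ) : ℤ)) (-((2 : ℕ) : ℤ)) (by norm_num)).2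
      (Groth.Agent.Lib.R2H2.ExactFree.preserves_of_isZero _ (fun M => hlow 2 le_rfl M)).1
  obtain ⟨N, ⟨e⟩⟩ := (Groth.Agent.S2407.result Q hQfl (-((1 : ℕ) : ℤ))).1 h1e
  obtain ⟨l1⟩ := Groth.Agent.Lib.R2H2.LocalCx.nonempty_HH_linearEquiv_homology F Q
    (-((1 : ℕ) : ℤ)) 1 (hQi 1).some
  haveI : Module.Flat R (Coh.HH X F 1) := @Module.Flat.of_projective R _ _ _ _ h1
  haveI : Module.Flat R N := Module.Flat.of_linearEquiv
    ((Groth.Agent.Lib.R2H2.AmpVanish.isoHomologyOfTensorLeft Q _ N e).toLinearEquiv.trans l1.symm)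
  have h1m : (CohIII.TFun Q (-((1 : ℕ) : ℤ))).PreservesMonomorphisms := by
    haveI : (MonoidalCategory.tensorLeft N).PreservesMonomorphisms :=
      ⟨fun f _ => inferInstanceAs (Mono ((MonoidalCategory.tensorLeft N).map f))⟩
    exact Functor.preservesMonomorphisms.of_iso e.symm
  -- `T_0` is exact
  have h0e : (CohIII.TFun Q (-((0 : ℕ) : ℤ))).PreservesEpimorphisms :=
    (Groth.Agent.S2406.result Q hQfl (-((0 : ℕ) : ℤ)) (-((1 : ℕ) : ℤ)) (by norm_num)).2 h1m
  have h0m : (CohIII.TFun Q (-((0 : ℕ) : ℤ))).PreservesMonomorphisms :=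
    (Groth.Agent.S2406.result Q hQfl 1 (-((0 : ℕ) : ℤ)) (by norm_num)).1
      (Groth.Agent.Lib.R2H2.ExactFree.preserves_of_isZero _ (hQv 1 one_pos)).2
  haveI hf0 : Module.Flat R (Q.opcycles (-((0 : ℕ) : ℤ))) :=
    (Groth.Agent.S2375.result Q hQfl _).1 h0m
  haveI hf1 : Module.Flat R (Q.opcycles (-((1 : ℕ) : ℤ))) :=
    (Groth.Agent.S2375.result Q hQfl _).1 h1m
  haveI := hQfl (-((1 : ℕ) : ℤ))
  haveI hfh : Module.Flat R (Q.homology (-((0 : ℕ) : ℤ))) :=
    (Groth.Agent.Lib.Helper3.flat_opcycles_iff_flat_homology Q (-((0 : ℕ) : ℤ))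
      (-((1 : ℕ) : ℤ)) (show (-((1 : ℕ) : ℤ)) + 1 = -((0 : ℕ) : ℤ) by norm_num)).1 hf0
  haveI := (hQff (-((0 : ℕ) : ℤ))).1
  haveI : Module.Finite R (Q.homology (-((0 : ℕ) : ℤ))) :=
    Groth.Agent.Lib.R2H2.AmpVanish.finite_homology Q _
  haveI : Module.FinitePresentation R (Q.homology (-((0 : ℕ) : ℤ))) :=
    Module.finitePresentation_of_finite R _
  haveI : Module.Projective R (Q.homology (-((0 : ℕ) : ℤ))) :=
    Module.Flat.projective_of_finitePresentation
  obtain ⟨l0⟩ := Groth.Agent.Lib.R2H2.LocalCx.nonempty_HH_linearEquiv_homology F Q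
    (-((0 : ℕ) : ℤ)) 0 (hQi 0).some
  exact Module.Projective.of_equiv l0.symm

end Groth.Agent.S19060
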