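import Groth.Statements.S19093
import Groth.Agent.S19092
import Mathlib

set_option autoImplicit false
set_option linter.style.haveILetI false
universe u
open FrobAlg

namespace Groth.Agent.S19093

section

/-- a finite ring map has a finite generating family -/
theorem exists_generators_of_finite' {R S : Type*} [CommRing R] [CommRing S] (f : R →+* S)
    (hf : f.Finite) :
    ∃ (N : ℕ) (c : Fin N → S), ∀ a : S, ∃ b : Fin N → R, a = ∑ j, f (b j) * c j := by
  letI : Algebra R S := f.toAlgebra
  haveI : Module.Finite R S := hf
  obtain ⟨N, c, hc⟩ := Module.Finite.exists_fin (R := R) (M := S)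
  refine ⟨N, c, fun a => ?_⟩
  have ha : a ∈ Submodule.span R (Set.range c) := by rw [hc]; trivial
  obtain ⟨b, hb⟩ := (Submodule.mem_span_range_iff_exists_fun R).1 ha
  refine ⟨b, ?_⟩
  rw [← hb]
  apply Finset.sum_congr rfl
  intro j _
  rw [Algebra.smul_def]
  rfl

/-- conversely, a finite generating family gives a finite ring map -/
theorem finite_of_generators {R S : Type*} [CommRing R] [CommRing S] (f : R →+* S)
    {ι : Type*} [Fintype ι] (c : ι → S)
    (h : ∀ a : S, ∃ b : ι → R, a = ∑ j, f (b j) * c j) :
    f.Finite := by
  letI : Algebra R S := f.toAlgebra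
  refine Module.finite_def.2 (Submodule.fg_def.2 ⟨Set.range c, Set.finite_range c, ?_⟩)
  refine eq_top_iff.2 fun a _ => ?_
  obtain ⟨b, rfl⟩ := h a
  refine Submodule.sum_mem _ fun j _ => ?_
  have : f (b j) * c j = b j • c j := by rw [Algebra.smul_def]; rfl
  rw [this]
  exact Submodule.smul_mem _ _ (Submodule.subset_span ⟨j, rfl⟩)

end

section
variable (p : ℕ) [hp : Fact p.Prime]



theorem frobenius_mvPolynomial_finite {R : Type*} [CommRing R] [CharP R p] {σ : Type*} [Fintype σ]
    (h : (frobenius R p).Finite) : (frobenius (MvPolynomial σ R) p).Finite := by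
  classical
  obtain ⟨N, c, hc⟩ := exists_generators_of_finite' (frobenius R p) h
  let toF : (σ → Fin p) → (σ →₀ ℕ) := fun α => Finsupp.equivFunOnFinite.symm (fun i => (α i : ℕ))
  apply finite_of_generators (frobenius (MvPolynomial σ R) p)
    (fun x : Fin N × (σ → Fin p) => MvPolynomial.monomial (toF x.2) (c x.1))
  intro f
  induction f using MvPolynomial.induction_on' with
  | monomial β a =>
    obtain ⟨b, hb⟩ := hc a
    let α : σ → Fin p := fun i => ⟨β i % p, Nat.mod_lt _ hp.out.pos⟩
    let γ : σ →₀ ℕ := Finsupp.equivFunOnFinite.symm (fun i => β i / p)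
    refine ⟨fun x => if x.2 = α then MvPolynomial.monomial γ (b x.1) else 0, ?_⟩
    rw [Fintype.sum_prod_type]
    have hβ : p • γ + toF α = β := by
      ext i
      simp only [Finsupp.coe_add, Finsupp.coe_smul, Pi.add_apply, Pi.smul_apply, smul_eq_mul, toF, γ, α,
        Finsupp.equivFunOnFinite_symm_apply_apply]
      exact Nat.div_add_mod (β i) p
    have hinner : ∀ j : Fin N, (∑ α₀ : σ → Fin p,
        frobenius (MvPolynomial σ R) p (if α₀ = α then MvPolynomial.monomial γ (b j) else 0) *
          MvPolynomial.monomial (toF α₀) (c j)) = MvPolynomial.monomial β (frobenius R p (b j) * c j) := by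
      intro j
      rw [Finset.sum_eq_single α]
      · rw [if_pos rfl, frobenius_def, MvPolynomial.monomial_pow, MvPolynomial.monomial_mul, hβ, frobenius_def]
      · intro α₀ _ hne
        rw [if_neg hne, map_zero, zero_mul]
      · intro h; exact absurd (Finset.mem_univ _) h
    simp only [hinner]
    rw [← map_sum, ← hb]
  | add f g hf hg =>
    obtain ⟨B, hB⟩ := hf
    obtain ⟨B', hB'⟩ := hg
    refine ⟨B + B', ?_⟩
    simp only [Pi.add_apply, map_add, add_mul, Finset.sum_add_distrib]
    rw [← hB, ← hB']




lemma coeff_pow_char {k : Type*} [CommRing k] [CharP k p] (g : PowerSeries k) (m : ℕ) :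
    PowerSeries.coeff m (g ^ p) = if p ∣ m then (PowerSeries.coeff (m / p) g) ^ p else 0 := by
  have h : g ^ p = PowerSeries.map (frobenius k p) (PowerSeries.expand p hp.out.ne_zero g) :=
    (MvPowerSeries.map_frobenius_expand (σ := Unit) p hp.out.ne_zero (f := g)).symm
  rw [h, PowerSeries.coeff_map, PowerSeries.coeff_expand]
  split_ifs
  · rw [frobenius_def]
  · rw [map_zero]

theorem frobenius_powerSeries_finite {k : Type*} [Field k] [CharP k p] [PerfectRing k p]
    [CharP (PowerSeries k) p] :
    (frobenius (PowerSeries k) p).Finite := by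
  apply finite_of_generators (frobenius (PowerSeries k) p)
    (fun r : Fin p => (PowerSeries.X : PowerSeries k) ^ (r : ℕ))
  intro f
  refine ⟨fun r => PowerSeries.mk (fun m => (frobeniusEquiv k p).symm (PowerSeries.coeff (p * m + r) f)), ?_⟩
  ext n
  rw [map_sum]
  have hpos : 0 < p := hp.out.pos
  rw [Finset.sum_eq_single (⟨n % p, Nat.mod_lt _ hpos⟩ : Fin p)]
  · rw [frobenius_def, PowerSeries.coeff_mul_X_pow', if_pos (Nat.mod_le _ _), coeff_pow_char]
    have hdvd : p ∣ n - n % p := (Nat.modEq_iff_dvd' (Nat.mod_le _ _)).mp (Nat.mod_modEq n p)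
    rw [if_pos hdvd, PowerSeries.coeff_mk, ← frobenius_def, ← frobeniusEquiv_apply,
      RingEquiv.apply_symm_apply]
    congr 2
    have := Nat.div_add_mod n p
    obtain ⟨q, hq⟩ := hdvd
    rw [hq, Nat.mul_div_cancel_left _ hpos]
    have hle := Nat.mod_le n p
    show n = p * q + n % p
    omega
  · intro r _ hne
    rw [frobenius_def, PowerSeries.coeff_mul_X_pow']
    split_ifs with hle
    · rw [coeff_pow_char, if_neg]
      intro hdvd
      apply hne
      apply Fin.ext
      simp only
      have hr := r.2
      obtain ⟨q, hq⟩ := hdvd
      have : n = p * q + r := by omega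
      rw [this, Nat.mul_add_mod, Nat.mod_eq_of_lt hr]
    · rfl
  · intro h; exact absurd (Finset.mem_univ _) h

end


/-- Let p be a prime, k a finite field of characteristic p, A a commutative k[[t]]-algebra of finite
type over the power series ring k[[t]], and P a prime ideal of A. Then the absolute Frobenius a ↦
a^p of the local ring A_P is a finite ring homomorphism. In particular every local ring of a scheme
of finite type over k[[t]] has finite absolute Frobenius. (The instance hypothesis that A_P has
characteristic p always holds, A_P being a nonzero algebra over k.) The published statement is for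
the local rings of a projective strictly semistable scheme over k[[t]] and adds that such a scheme
is regular with F-finite local rings; its proof uses only that the scheme is of finite type over
k[[t]], which is the form stated here. -/
theorem result (p : ℕ) [Fact p.Prime]
    (k : Type u) [Field k] [Finite k] [CharP k p]
    (A : Type u) [CommRing A] [Algebra (PowerSeries k) A] [Algebra.FiniteType (PowerSeries k) A]
    (P : Ideal A) [P.IsPrime] [CharP (Localization.AtPrime P) p] :
    (frobenius (Localization.AtPrime P) p).Finite := by
  haveI : PerfectRing k p := PerfectRing.ofFiniteOfIsReduced p k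
  haveI hchPS : CharP (PowerSeries k) p :=
    charP_of_injective_ringHom (f := (PowerSeries.C : k →+* PowerSeries k)) (RingHom.injective _) p
  have h1 : (frobenius (PowerSeries k) p).Finite := frobenius_powerSeries_finite p
  obtain ⟨n, f, hf⟩ := Algebra.FiniteType.iff_quotient_mvPolynomial''.mp
    (inferInstance : Algebra.FiniteType (PowerSeries k) A)
  have h2 : (frobenius (MvPolynomial (Fin n) (PowerSeries k)) p).Finite :=
    frobenius_mvPolynomial_finite p (σ := Fin n) h1
  haveI : Nontrivial A := by
    by_contra hnt
    rw [not_nontrivial_iff_subsingleton] at hnt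
    exact (inferInstance : P.IsPrime).ne_top (Subsingleton.elim _ _)
  haveI hA : CharP A p :=
    charP_of_injective_ringHom
      (f := (algebraMap (PowerSeries k) A).comp (PowerSeries.C : k →+* PowerSeries k))
      (RingHom.injective _) p
  have h3 : (frobenius A p).Finite := by
    have hcomp : ((frobenius A p).comp (f : MvPolynomial (Fin n) (PowerSeries k) →+* A)).Finite := by
      have : (frobenius A p).comp (f : MvPolynomial (Fin n) (PowerSeries k) →+* A)
          = (f : MvPolynomial (Fin n) (PowerSeries k) →+* A).comp
              (frobenius (MvPolynomial (Fin n) (PowerSeries k)) p) := by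
        ext a <;> simp [frobenius_def]
      rw [this]
      exact RingHom.Finite.comp (RingHom.Finite.of_surjective _ hf) h2
    exact RingHom.Finite.of_comp_finite hcomp
  exact (Groth.Agent.S19092.result p A h3).2 P.primeCompl (Localization.AtPrime P)

end Groth.Agent.S19093
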