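import Groth.Statements.S19130
import Groth.Agent.S0626
import Groth.Agent.S0101
import Groth.Agent.Lib.Helper8EtGeomPtPush
import Groth.Agent.Lib.Helper8EtUnitConst
import Groth.Agent.Lib.Helper9HofPush
import Groth.Agent.Lib.Helper8EtStrictHensCoh
import Groth.Agent.Lib.Helper9EtPull
import Groth.Agent.Lib.Helper8EtLocConst

set_option autoImplicit false
universe u
open CategoryTheory CategoryTheory.Limits AlgebraicGeometry Opposite
open EtCoh

namespace Groth.Agent.S19130

/-- Let p be a prime and Y an integral scheme which is normal (every local ring is integrally closed in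
its fraction field) and whose function field is algebraically closed. Then the étale cohomology of
the constant sheaf Z/p on Y is Z/p in degree 0 and vanishes in positive degrees: H^0(Y_et, Z/p) has
exactly p elements and H^i(Y_et, Z/p) = 0 for i > 0. Moreover, for every nonempty open subscheme j :
U → Y, the unit morphism from the constant sheaf Z/p on Y_et to j_* of its restriction to U is an
isomorphism. -/
theorem result
    (p : ℕ) [Fact p.Prime] (Y : Scheme.{u}) [IsIntegral Y]
    (hnorm : ∀ y : Y, IsIntegrallyClosed (Y.presheaf.stalk y)) [IsAlgClosed Y.functionField] :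
    Nat.card (EtCoh.H Y (EtCoh.const Y (ZMod p)) 0) = p ∧
      (∀ i : ℕ, 0 < i → Subsingleton (EtCoh.H Y (EtCoh.const Y (ZMod p)) i)) ∧
      ∀ U : Y.Opens, (U : Set Y).Nonempty →
        IsIso ((EtCoh.pullPushAdj U.ι).unit.app (EtCoh.const Y (ZMod p))) := by
  classical
  have hN' : Pi1.IsNormalScheme Y := fun x => ⟨inferInstance, hnorm x⟩
  refine ⟨?_, ?_, fun U hU => Groth.Agent.Lib.Helper8EtUnitConst.isIso_unit_const hN' U hU _⟩
  · -- H⁰ = ℤ/p
    have h1 : Nat.card (EtCoh.H Y (EtCoh.const Y (ZMod p)) 0) =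
        Nat.card (EtCoh.const Y ℤ ⟶ EtCoh.const Y (ZMod p)) :=
      (Nat.card_eq_of_bijective _ (Abelian.Ext.mk₀_bijective _ _)).symm
    have h2 : Nat.card (EtCoh.const Y ℤ ⟶ EtCoh.const Y (ZMod p)) =
        Nat.card ((EtCore.gsec Y).obj (EtCoh.const Y (ZMod p)) : AddCommGrpCat.{u + 1}) :=
      Nat.card_eq_of_bijective _ ⟨Groth.Agent.Lib.Helper9.EtPull.sec_injective _,
        Groth.Agent.Lib.Helper9.EtPull.sec_surjective _⟩
    have e3 := (EtCore.gsec Y).mapIso (Groth.Agent.Lib.Helper8EtLocConst.constIsoLc Y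
      (AddCommGrpCat.of (ULift.{u + 1} (ZMod p))))
    have h3 : Nat.card ((EtCore.gsec Y).obj (EtCoh.const Y (ZMod p)) : AddCommGrpCat.{u + 1}) =
        Nat.card (LocallyConstant Y (ULift.{u + 1} (ZMod p))) :=
      Nat.card_congr e3.addCommGroupIsoToAddEquiv.toEquiv
    have h4 : Nat.card (LocallyConstant Y (ULift.{u + 1} (ZMod p))) =
        Nat.card (ULift.{u + 1} (ZMod p)) := by
      refine (Nat.card_eq_of_bijective (LocallyConstant.const Y) ⟨?_, ?_⟩).symm
      · intro a b hab
        obtain ⟨y₀⟩ : Nonempty Y := inferInstance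
        exact congrArg (fun f : LocallyConstant Y (ULift.{u + 1} (ZMod p)) => f y₀) hab
      · intro s
        obtain ⟨a, ha⟩ := LocallyConstant.exists_eq_const s
        exact ⟨a, ha.symm⟩
    rw [h1, h2, h3, h4, Nat.card_ulift, Nat.card_zmod]
  · intro i hi
    obtain ⟨g, hg⟩ : ∃ g : Spec (Y.presheaf.stalk (genericPoint Y)) ⟶ Y,
        g = Y.fromSpecStalk (genericPoint Y) := ⟨_, rfl⟩
    have hunit : IsIso ((EtCoh.pullPushAdj g).unit.app (EtCoh.const Y (ZMod p))) := by
      rw [hg]
      exact Groth.Agent.S0626.result Y hnorm (ZMod p)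
    have e0 : EtCoh.const Y (ZMod p) ≅
        (EtCoh.push g).obj ((EtCoh.pull g).obj (EtCoh.const Y (ZMod p))) :=
      @asIso _ _ _ _ _ hunit
    haveI : PreservesFiniteLimits (EtCoh.pull g) := Groth.Agent.S0101.result g
    have eΩ : Spec (CommRingCat.of Y.functionField) ≅ Spec (Y.presheaf.stalk (genericPoint Y)) :=
      Iso.refl _
    have hR : ∀ q : ℕ, 0 < q → IsZero ((EtCoh.Rpush g q).obj
        ((EtCoh.pull g).obj (EtCoh.const Y (ZMod p)))) := fun q hq =>
      Groth.Agent.Lib.Helper8EtGeomPtPush.isZero_Rpush eΩ g _ q hq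
    have hbij := Groth.Agent.Lib.Helper9.HofPush.HofPush_bijective g
      ((EtCoh.pull g).obj (EtCoh.const Y (ZMod p))) hR i
    haveI : IsSepClosed (IsLocalRing.ResidueField Y.functionField) := by
      have hb : Function.Bijective (IsLocalRing.residue Y.functionField) :=
        ⟨RingHom.injective _, IsLocalRing.residue_surjective⟩
      have e := RingEquiv.ofBijective (IsLocalRing.residue Y.functionField) hb
      refine ⟨fun P hP => ?_⟩
      have h1 : (P.map (e.symm : IsLocalRing.ResidueField Y.functionField →+* Y.functionField)).Separable :=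
        hP.map
      have h2 := IsSepClosed.splits_of_separable _ h1
      have h3 := h2.map (e : Y.functionField →+* IsLocalRing.ResidueField Y.functionField)
      rw [Polynomial.map_map] at h3
      have h4 : (e : Y.functionField →+* IsLocalRing.ResidueField Y.functionField).comp
          (e.symm : IsLocalRing.ResidueField Y.functionField →+* Y.functionField) =
          RingHom.id _ := by
        ext x; simp
      rwa [h4, Polynomial.map_id] at h3
    have hsub : Subsingleton (EtCoh.H (Spec (CommRingCat.of Y.functionField))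
        ((EtCoh.pull g).obj (EtCoh.const Y (ZMod p))) i) :=
      Groth.Agent.Lib.Helper8EtStrictHensCoh.subsingleton_H Y.functionField _ i hi
    have hsub2 : Subsingleton (EtCoh.H Y
        ((EtCoh.push g).obj ((EtCoh.pull g).obj (EtCoh.const Y (ZMod p)))) i) :=
      hbij.injective.subsingleton
    refine ⟨fun x y => ?_⟩
    have key : ∀ z : EtCoh.H Y (EtCoh.const Y (ZMod p)) i,
        z = ((z.comp (Abelian.Ext.mk₀ e0.hom) (add_zero i)).comp (Abelian.Ext.mk₀ e0.inv)
          (add_zero i)) := by
      intro z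
      rw [Abelian.Ext.comp_assoc_of_third_deg_zero, Abelian.Ext.mk₀_comp_mk₀, e0.hom_inv_id,
        Abelian.Ext.comp_mk₀_id]
    rw [key x, key y, Subsingleton.elim (x.comp (Abelian.Ext.mk₀ e0.hom) (add_zero i))
      (y.comp (Abelian.Ext.mk₀ e0.hom) (add_zero i))]

end Groth.Agent.S19130
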