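import Groth.Statements.S19138
import Mathlib
-- import your own Groth.Agent.* helpers here

set_option autoImplicit false
open Instab

namespace Groth.Agent.S19138

open Matrix

variable {n : ℕ}

/-- the quadratic form -/
def qf (M : Matrix (Fin n) (Fin n) ℝ) (y : Fin n → ℝ) : ℝ := y ⬝ᵥ M *ᵥ y

/-- the function to maximise -/
noncomputable def Ff (l : Fin n → ℝ) (M : Matrix (Fin n) (Fin n) ℝ) (y : Fin n → ℝ) : ℝ :=
  l ⬝ᵥ y / Real.sqrt (qf M y)

lemma qf_smul (M : Matrix (Fin n) (Fin n) ℝ) (c : ℝ) (y : Fin n → ℝ) :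
    qf M (c • y) = c ^ 2 * qf M y := by
  simp only [qf, mulVec_smul, dotProduct_smul, smul_dotProduct, smul_eq_mul]
  ring

lemma Ff_smul (l : Fin n → ℝ) (M : Matrix (Fin n) (Fin n) ℝ) (c : ℝ) (hc : 0 < c)
    (y : Fin n → ℝ) : Ff l M (c • y) = Ff l M y := by
  unfold Ff
  rw [qf_smul, dotProduct_smul, smul_eq_mul, Real.sqrt_mul (sq_nonneg c), Real.sqrt_sq hc.le,
    mul_div_mul_left _ _ hc.ne']

lemma bil_symm (M : Matrix (Fin n) (Fin n) ℝ) (hM : Mᵀ = M) (x d : Fin n → ℝ) :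
    x ⬝ᵥ M *ᵥ d = d ⬝ᵥ M *ᵥ x := by
  rw [Matrix.dotProduct_mulVec, ← Matrix.mulVec_transpose, hM, dotProduct_comm]

lemma qf_add_smul (M : Matrix (Fin n) (Fin n) ℝ) (hM : Mᵀ = M) (x d : Fin n → ℝ) (t : ℝ) :
    qf M (x + t • d) = qf M x + 2 * t * (x ⬝ᵥ M *ᵥ d) + t ^ 2 * qf M d := by
  simp only [qf, mulVec_add, mulVec_smul, dotProduct_add, add_dotProduct, dotProduct_smul,
    smul_dotProduct, smul_eq_mul]
  rw [bil_symm M hM d x]
  ring

lemma sum_pos_of_nonneg_ne_zero (y : Fin n → ℝ) (hy : ∀ i, 0 ≤ y i) (hy0 : y ≠ 0) :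
    0 < ∑ i, y i := by
  rcases (Finset.sum_nonneg fun i _ => hy i).lt_or_eq with h | h
  · exact h
  · exfalso
    apply hy0
    funext i
    exact (Finset.sum_eq_zero_iff_of_nonneg fun i _ => hy i).mp h.symm i (Finset.mem_univ i)

lemma exists_max (l : Fin n → ℝ) (M : Matrix (Fin n) (Fin n) ℝ)
    (hpos : ∀ y : Fin n → ℝ, (∀ i, 0 ≤ y i) → y ≠ 0 → 0 < qf M y)
    (hne : ∃ y : Fin n → ℝ, (∀ i, 0 ≤ y i) ∧ y ≠ 0) :
    ∃ x : Fin n → ℝ, (∀ i, 0 ≤ x i) ∧ x ≠ 0 ∧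
      ∀ y : Fin n → ℝ, (∀ i, 0 ≤ y i) → y ≠ 0 → Ff l M y ≤ Ff l M x := by
  have hsimp : ∀ y : Fin n → ℝ, (∀ i, 0 ≤ y i) → y ≠ 0 →
      (∑ i, y i)⁻¹ • y ∈ stdSimplex ℝ (Fin n) := by
    intro y hy hy0
    have hs := sum_pos_of_nonneg_ne_zero y hy hy0
    refine ⟨fun i => ?_, ?_⟩
    · simp only [Pi.smul_apply, smul_eq_mul]
      exact mul_nonneg (inv_nonneg.mpr hs.le) (hy i)
    · simp only [Pi.smul_apply, smul_eq_mul]
      rw [← Finset.mul_sum, inv_mul_cancel₀ hs.ne']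
  have hne0 : ∀ y ∈ stdSimplex ℝ (Fin n), y ≠ 0 := by
    rintro y ⟨-, h1⟩ rfl
    simp at h1
  have hcont : ContinuousOn (Ff l M) (stdSimplex ℝ (Fin n)) := by
    unfold Ff
    refine ContinuousOn.div (by fun_prop) ?_ ?_
    · unfold qf
      fun_prop
    · intro y hy
      exact (Real.sqrt_pos.mpr (hpos y hy.1 (hne0 y hy))).ne'
  obtain ⟨y0, hy0, hy00⟩ := hne
  obtain ⟨x, hx, hmax⟩ := (isCompact_stdSimplex ℝ (Fin n)).exists_isMaxOn
    ⟨_, hsimp y0 hy0 hy00⟩ hcont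
  refine ⟨x, hx.1, hne0 x hx, fun y hy hy0 => ?_⟩
  have hs := sum_pos_of_nonneg_ne_zero y hy hy0
  rw [← Ff_smul l M _ (inv_pos.mpr hs) y]
  exact hmax (hsimp y hy hy0)

open Topology in
lemma foc (l : Fin n → ℝ) (M : Matrix (Fin n) (Fin n) ℝ) (hM : Mᵀ = M)
    (hpos : ∀ y : Fin n → ℝ, (∀ i, 0 ≤ y i) → y ≠ 0 → 0 < qf M y)
    (x : Fin n → ℝ) (hx : ∀ i, 0 ≤ x i) (hx0 : x ≠ 0) (hLx : 0 < l ⬝ᵥ x)
    (hmax : ∀ y : Fin n → ℝ, (∀ i, 0 ≤ y i) → y ≠ 0 → Ff l M y ≤ Ff l M x)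
    (d : Fin n → ℝ) (hd : ∀ i, x i = 0 → d i = 0) :
    (l ⬝ᵥ x) * (x ⬝ᵥ M *ᵥ d) = (l ⬝ᵥ d) * qf M x := by
  set α : ℝ := (l ⬝ᵥ x) ^ 2 * (2 * (x ⬝ᵥ M *ᵥ d)) - 2 * (l ⬝ᵥ x) * (l ⬝ᵥ d) * qf M x with hα
  set β : ℝ := (l ⬝ᵥ x) ^ 2 * qf M d - (l ⬝ᵥ d) ^ 2 * qf M x with hβ
  let φ : ℝ → ℝ := fun t => t * α + t ^ 2 * β
  have hφ : ∀ t, φ t = (l ⬝ᵥ x) ^ 2 * qf M (x + t • d) - (l ⬝ᵥ (x + t • d)) ^ 2 * qf M x := by
    intro t
    simp only [φ, hα, hβ]
    rw [qf_add_smul M hM, dotProduct_add, dotProduct_smul, smul_eq_mul]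
    ring
  have hderiv : HasDerivAt φ α 0 := by
    have h1 : HasDerivAt (fun t : ℝ => t * α) α 0 := by
      simpa using (hasDerivAt_id (0 : ℝ)).mul_const α
    have h2 : HasDerivAt (fun t : ℝ => t ^ 2 * β) 0 0 := by
      simpa using ((hasDerivAt_pow 2 (0 : ℝ)).mul_const β)
    have h3 := h1.add h2
    rw [add_zero] at h3
    exact h3
  have hev1 : ∀ᶠ t in 𝓝 (0 : ℝ), ∀ i, 0 ≤ (x + t • d) i := by
    rw [Filter.eventually_all]
    intro i
    by_cases hi : x i = 0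
    · refine Filter.Eventually.of_forall fun t => ?_
      simp [hi, hd i hi]
    · have hxi : 0 < x i := lt_of_le_of_ne (hx i) (Ne.symm hi)
      have hc : ContinuousAt (fun t : ℝ => (x + t • d) i) 0 := by
        simp only [Pi.add_apply, Pi.smul_apply, smul_eq_mul]
        fun_prop
      have h0 : (0 : ℝ) < (fun t : ℝ => (x + t • d) i) 0 := by simpa using hxi
      exact (hc.eventually (lt_mem_nhds h0)).mono fun t ht => le_of_lt ht
  have hev2 : ∀ᶠ t in 𝓝 (0 : ℝ), 0 < l ⬝ᵥ (x + t • d) := by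
    have hc : ContinuousAt (fun t : ℝ => l ⬝ᵥ (x + t • d)) 0 := by
      simp only [dotProduct_add, dotProduct_smul, smul_eq_mul]
      fun_prop
    have h0 : (0 : ℝ) < (fun t : ℝ => l ⬝ᵥ (x + t • d)) 0 := by simpa using hLx
    exact hc.eventually (lt_mem_nhds h0)
  have hmin : IsLocalMin φ 0 := by
    filter_upwards [hev1, hev2] with t h1 h2
    have hne : x + t • d ≠ 0 := by
      intro h
      rw [h] at h2
      simp at h2
    have hF := hmax _ h1 hne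
    unfold Ff at hF
    have hq1 := hpos _ h1 hne
    have hq0 := hpos x hx hx0
    rw [div_le_div_iff₀ (Real.sqrt_pos.mpr hq1) (Real.sqrt_pos.mpr hq0)] at hF
    have hsq := pow_le_pow_left₀ (mul_nonneg h2.le (Real.sqrt_nonneg _)) hF 2
    rw [mul_pow, mul_pow, Real.sq_sqrt hq0.le, Real.sq_sqrt hq1.le] at hsq
    rw [hφ t]
    have h00 : φ 0 = 0 := by simp [φ]
    rw [h00]
    linarith
  have h0 := hmin.hasDerivAt_eq_zero hderiv
  have hα0 : (l ⬝ᵥ x) * (2 * ((l ⬝ᵥ x) * (x ⬝ᵥ M *ᵥ d) - (l ⬝ᵥ d) * qf M x)) = 0 := by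
    rw [← h0, hα]
    ring
  rcases mul_eq_zero.mp hα0 with h | h
  · exact absurd h hLx.ne'
  · linarith

/-- the support of a vector -/
noncomputable def supp (y : Fin n → ℝ) : Finset (Fin n) :=
  letI := Classical.decPred (fun i => y i ≠ 0)
  Finset.univ.filter (fun i => y i ≠ 0)

lemma mem_supp (y : Fin n → ℝ) (i : Fin n) : i ∈ supp y ↔ y i ≠ 0 := by
  unfold supp
  simp

/-- being a maximiser on the punctured orthant -/
def IsMaxi (l : Fin n → ℝ) (M : Matrix (Fin n) (Fin n) ℝ) (x : Fin n → ℝ) : Prop :=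
  (∀ i, 0 ≤ x i) ∧ x ≠ 0 ∧ ∀ y : Fin n → ℝ, (∀ i, 0 ≤ y i) → y ≠ 0 → Ff l M y ≤ Ff l M x

lemma kernel_aux (l : Fin n → ℝ) (M : Matrix (Fin n) (Fin n) ℝ) (hM : Mᵀ = M)
    (hpos : ∀ y : Fin n → ℝ, (∀ i, 0 ≤ y i) → y ≠ 0 → 0 < qf M y)
    (x : Fin n → ℝ) (hx : IsMaxi l M x) (hLx : 0 < l ⬝ᵥ x)
    (hmin : ∀ x', IsMaxi l M x' → (supp x).card ≤ (supp x').card)
    (d : Fin n → ℝ) (hd : ∀ i, x i = 0 → d i = 0) (hMd : ∀ i, x i ≠ 0 → (M *ᵥ d) i = 0)
    (hneg : ∃ i, d i < 0) : False := by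
  classical
  obtain ⟨hx1, hx0, hxmax⟩ := hx
  have hxMd : x ⬝ᵥ M *ᵥ d = 0 := by
    unfold dotProduct
    refine Finset.sum_eq_zero fun i _ => ?_
    by_cases hi : x i = 0
    · rw [hi, zero_mul]
    · rw [hMd i hi, mul_zero]
  have hqd : qf M d = 0 := by
    unfold qf dotProduct
    refine Finset.sum_eq_zero fun i _ => ?_
    by_cases hi : x i = 0
    · rw [hd i hi, zero_mul]
    · rw [hMd i hi, mul_zero]
  have hqx := hpos x hx1 hx0
  have hld : l ⬝ᵥ d = 0 := by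
    have h := foc l M hM hpos x hx1 hx0 hLx hxmax d hd
    rw [hxMd, mul_zero] at h
    rcases mul_eq_zero.mp h.symm with h | h
    · exact h
    · exact absurd h hqx.ne'
  -- choose the step
  let s : Finset (Fin n) := Finset.univ.filter (fun i => d i < 0)
  have hs : s.Nonempty := by
    obtain ⟨i, hi⟩ := hneg
    exact ⟨i, by simp [s, hi]⟩
  obtain ⟨i₀, hi₀, hi₀min⟩ := Finset.exists_min_image s (fun i => x i / (-d i)) hs
  have hdi₀ : d i₀ < 0 := by simpa [s] using hi₀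
  have hxi₀ : x i₀ ≠ 0 := fun h => hdi₀.ne (hd i₀ h)
  set t₀ : ℝ := x i₀ / (-d i₀) with ht₀
  have ht₀nn : 0 ≤ t₀ := div_nonneg (hx1 i₀) (by linarith)
  set y' : Fin n → ℝ := x + t₀ • d with hy'
  have hy'nn : ∀ i, 0 ≤ y' i := by
    intro i
    simp only [hy', Pi.add_apply, Pi.smul_apply, smul_eq_mul]
    by_cases hdi : d i < 0
    · have h1 : t₀ ≤ x i / (-d i) := hi₀min i (by simp [s, hdi])
      have h2 : 0 < -d i := by linarith
      rw [le_div_iff₀ h2] at h1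
      linarith
    · push Not at hdi
      have := mul_nonneg ht₀nn hdi
      linarith [hx1 i]
  have hqy' : qf M y' = qf M x := by
    rw [hy', qf_add_smul M hM, hxMd, hqd]
    ring
  have hy'0 : y' ≠ 0 := by
    intro h
    rw [h] at hqy'
    have : qf M 0 = 0 := by simp [qf]
    rw [this] at hqy'
    exact hqx.ne hqy'
  have hly' : l ⬝ᵥ y' = l ⬝ᵥ x := by
    rw [hy', dotProduct_add, dotProduct_smul, hld, smul_zero, add_zero]
  have hFy' : Ff l M y' = Ff l M x := by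
    unfold Ff
    rw [hqy', hly']
  have hy'max : IsMaxi l M y' := ⟨hy'nn, hy'0, fun y hy hy0 => hFy' ▸ hxmax y hy hy0⟩
  have hlt : (supp y').card < (supp x).card := by
    apply Finset.card_lt_card
    rw [Finset.ssubset_iff_of_subset]
    · refine ⟨i₀, (mem_supp x i₀).mpr hxi₀, ?_⟩
      rw [mem_supp, not_not]
      simp only [hy', Pi.add_apply, Pi.smul_apply, smul_eq_mul, ht₀]
      have hne : d i₀ ≠ 0 := hdi₀.ne
      rw [div_neg, neg_mul, div_mul_cancel₀ _ hne, add_neg_cancel]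
    · intro i hi
      rw [mem_supp] at hi ⊢
      intro hxi
      apply hi
      simp [hy', hxi, hd i hxi]
  exact absurd (hmin y' hy'max) (not_le.mpr hlt)

lemma kernel_trivial (l : Fin n → ℝ) (M : Matrix (Fin n) (Fin n) ℝ) (hM : Mᵀ = M)
    (hpos : ∀ y : Fin n → ℝ, (∀ i, 0 ≤ y i) → y ≠ 0 → 0 < qf M y)
    (x : Fin n → ℝ) (hx : IsMaxi l M x) (hLx : 0 < l ⬝ᵥ x)
    (hmin : ∀ x', IsMaxi l M x' → (supp x).card ≤ (supp x').card)
    (d : Fin n → ℝ) (hd : ∀ i, x i = 0 → d i = 0) (hMd : ∀ i, x i ≠ 0 → (M *ᵥ d) i = 0) :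
    d = 0 := by
  by_contra hd0
  by_cases hneg : ∃ i, d i < 0
  · exact kernel_aux l M hM hpos x hx hLx hmin d hd hMd hneg
  · push Not at hneg
    have : ∃ i, d i ≠ 0 := by
      by_contra h
      push Not at h
      exact hd0 (funext h)
    obtain ⟨i, hi⟩ := this
    refine kernel_aux l M hM hpos x hx hLx hmin (-d) (fun j hj => by simp [hd j hj])
      (fun j hj => by simp [mulVec_neg, hMd j hj]) ⟨i, ?_⟩
    have := hneg i
    simp only [Pi.neg_apply]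
    rcases this.lt_or_eq with h | h
    · linarith
    · exact absurd h.symm hi

lemma core (ℓ : Fin n → ℚ) (B : Matrix (Fin n) (Fin n) ℚ) (hB : Bᵀ = B)
    (hpos : ∀ y : Fin n → ℝ, (∀ i, 0 ≤ y i) → y ≠ 0 →
      0 < qf (B.map (fun r : ℚ => (r : ℝ))) y)
    (hℓ : ∃ y : Fin n → ℝ, (∀ i, 0 ≤ y i) ∧ 0 < (fun i => (ℓ i : ℝ)) ⬝ᵥ y) :
    ∃ x : Fin n → ℚ, (∀ i, 0 ≤ x i) ∧ x ≠ 0 ∧
      ∀ y : Fin n → ℝ, (∀ i, 0 ≤ y i) → y ≠ 0 →
        Ff (fun i => (ℓ i : ℝ)) (B.map (fun r : ℚ => (r : ℝ))) y ≤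
          Ff (fun i => (ℓ i : ℝ)) (B.map (fun r : ℚ => (r : ℝ))) (fun i => (x i : ℝ)) := by
  classical
  set l : Fin n → ℝ := fun i => (ℓ i : ℝ) with hl
  set M : Matrix (Fin n) (Fin n) ℝ := B.map (fun r : ℚ => (r : ℝ)) with hMdef
  have hM : Mᵀ = M := by
    rw [hMdef, ← Matrix.transpose_map, hB]
  obtain ⟨y₀, hy₀, hly₀⟩ := hℓ
  have hy₀0 : y₀ ≠ 0 := by
    rintro rfl
    simp at hly₀
  have hex : ∃ x, IsMaxi l M x := exists_max l M hpos ⟨y₀, hy₀, hy₀0⟩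
  obtain ⟨x, hx, hmin⟩ : ∃ x, IsMaxi l M x ∧
      ∀ x', IsMaxi l M x' → (supp x).card ≤ (supp x').card := by
    let P : ℕ → Prop := fun m => ∃ x, IsMaxi l M x ∧ (supp x).card = m
    have hP : ∃ m, P m := let ⟨x, hx⟩ := hex; ⟨_, x, hx, rfl⟩
    obtain ⟨x, hx, hxm⟩ := Nat.find_spec hP
    refine ⟨x, hx, fun x' hx' => ?_⟩
    rw [hxm]
    exact Nat.find_min' hP ⟨x', hx', rfl⟩
  have hqx : 0 < qf M x := hpos x hx.1 hx.2.1
  have hLx : 0 < l ⬝ᵥ x := by
    have h1 : 0 < Ff l M y₀ := div_pos hly₀ (Real.sqrt_pos.mpr (hpos y₀ hy₀ hy₀0))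
    have h2 : 0 < Ff l M x := lt_of_lt_of_le h1 (hx.2.2 y₀ hy₀ hy₀0)
    unfold Ff at h2
    exact (div_pos_iff_of_pos_right (Real.sqrt_pos.mpr hqx)).mp h2
  have hker := kernel_trivial l M hM hpos x hx hLx hmin
  -- the rational linear system
  let N : Matrix (Fin n) (Fin n) ℚ := Matrix.of fun i j =>
    if x i ≠ 0 then (if x j ≠ 0 then B i j else 0) else (if i = j then 1 else 0)
  let rhs : Fin n → ℚ := fun i => if x i ≠ 0 then ℓ i else 0
  set Nr : Matrix (Fin n) (Fin n) ℝ := N.map (fun r : ℚ => (r : ℝ)) with hNr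
  have hNr_off : ∀ (e : Fin n → ℝ) (i : Fin n), x i = 0 → (Nr *ᵥ e) i = e i := by
    intro e i hi
    simp only [hNr, Matrix.mulVec, dotProduct, Matrix.map_apply, N, Matrix.of_apply, hi,
      ne_eq, not_true_eq_false, if_false]
    rw [Finset.sum_eq_single i]
    · simp
    · intro j _ hj
      simp [Ne.symm hj]
    · simp
  have hNr_on : ∀ (e : Fin n → ℝ) (i : Fin n), (∀ j, x j = 0 → e j = 0) → x i ≠ 0 →
      (Nr *ᵥ e) i = (M *ᵥ e) i := by
    intro e i he hi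
    simp only [hNr, hMdef, Matrix.mulVec, dotProduct, Matrix.map_apply, N, Matrix.of_apply, hi,
      ne_eq, not_false_eq_true, if_true]
    refine Finset.sum_congr rfl fun j _ => ?_
    by_cases hj : x j = 0
    · simp [hj, he j hj]
    · simp [hj]
  have hinj : Function.Injective Nr.mulVec := by
    intro d d' hdd
    have h0 : Nr *ᵥ (d - d') = 0 := by
      rw [Matrix.mulVec_sub]
      exact sub_eq_zero.mpr hdd
    have he : ∀ j, x j = 0 → (d - d') j = 0 := by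
      intro j hj
      rw [← hNr_off (d - d') j hj, h0]
      rfl
    have := hker (d - d') he (fun i hi => by rw [← hNr_on (d - d') i he hi, h0]; rfl)
    exact sub_eq_zero.mp this
  have hNunit : IsUnit N := by
    have h1 : IsUnit Nr := Matrix.mulVec_injective_iff_isUnit.mp hinj
    rw [Matrix.isUnit_iff_isUnit_det, isUnit_iff_ne_zero] at h1 ⊢
    intro h
    apply h1
    rw [hNr, ← Rat.cast_det, h, Rat.cast_zero]
  -- the real solution
  set c : ℝ := qf M x / (l ⬝ᵥ x) with hc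
  have hcpos : 0 < c := div_pos hqx hLx
  set y : Fin n → ℝ := c⁻¹ • x with hy
  have hyM : ∀ i, x i ≠ 0 → (M *ᵥ y) i = l i := by
    intro i hi
    have h := foc l M hM hpos x hx.1 hx.2.1 hLx hx.2.2 (Pi.single i 1) (by
      intro j hj
      have : j ≠ i := by
        rintro rfl
        exact hi hj
      simp [this])
    rw [bil_symm M hM, single_one_dotProduct, dotProduct_single_one] at h
    rw [hy, Matrix.mulVec_smul, Pi.smul_apply, smul_eq_mul, hc, inv_div]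
    field_simp
    linarith
  have hsol : Nr *ᵥ y = fun i => ((rhs i : ℚ) : ℝ) := by
    funext i
    by_cases hi : x i = 0
    · rw [hNr_off y i hi]
      simp [rhs, hi, hy]
    · rw [hNr_on y i (fun j hj => by simp [hy, hj]) hi, hyM i hi]
      simp [rhs, hi, hl]
  -- the rational solution
  let z : Fin n → ℚ := N⁻¹ *ᵥ rhs
  have hz : N *ᵥ z = rhs := by
    simp only [z]
    rw [Matrix.mulVec_mulVec, Matrix.mul_nonsing_inv _ ((Matrix.isUnit_iff_isUnit_det _).mp hNunit),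
      Matrix.one_mulVec]
  have hzr : Nr *ᵥ (fun i => ((z i : ℚ) : ℝ)) = fun i => ((rhs i : ℚ) : ℝ) := by
    funext i
    have := RingHom.map_mulVec (Rat.castHom ℝ) N z i
    rw [hz] at this
    exact this.symm
  have hzy : (fun i => ((z i : ℚ) : ℝ)) = y := hinj (hzr.trans hsol.symm)
  refine ⟨z, fun i => ?_, ?_, fun y' hy' hy'0 => ?_⟩
  · have h1 : (0 : ℝ) ≤ (z i : ℝ) := by
      have := congrFun hzy i
      rw [this, hy, Pi.smul_apply, smul_eq_mul]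
      exact mul_nonneg (inv_nonneg.mpr hcpos.le) (hx.1 i)
    exact_mod_cast h1
  · intro hz0
    apply hx.2.1
    have h1 : y = 0 := by
      rw [← hzy]
      funext i
      simp [hz0]
    rw [hy] at h1
    have := congrArg (fun v => c • v) h1
    simpa [smul_smul, mul_inv_cancel₀ hcpos.ne'] using this
  · rw [hzy, hy, Ff_smul l M _ (inv_pos.mpr hcpos)]
    exact hx.2.2 y' hy' hy'0

/-- Let ℓ ∈ ℚⁿ and let B be a rational n × n matrix whose real quadratic form q(y) = y · (B y) is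
non-negative on ℝⁿ and positive at every non-zero point of the non-negative orthant. If ℓ · y > 0 at
some point of the orthant, then the function ℓ · y / √q(y) on the non-zero points of the orthant
attains its maximum at a point with rational coordinates. (The published lemma says that the
numerical invariant attached to a rational degree-two class and such a norm on graded points attains
its maximum on each rational simplex at a rational point whenever it is positive somewhere on that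
simplex; on one rational simplex that invariant is this function, so this is what is asked there.
The case of a piecewise rational linear norm is not stated here.) -/
theorem result (n : ℕ) (ℓ : Fin n → ℚ)
    (B : Matrix (Fin n) (Fin n) ℚ)
    (hnn : ∀ y : Fin n → ℝ, 0 ≤ y ⬝ᵥ (B.map (fun r : ℚ => (r : ℝ))) *ᵥ y)
    (hpos : ∀ y : Fin n → ℝ, (∀ i, 0 ≤ y i) → y ≠ 0 → 0 < y ⬝ᵥ (B.map (fun r : ℚ => (r : ℝ))) *ᵥ y)
    (hℓ : ∃ y : Fin n → ℝ, (∀ i, 0 ≤ y i) ∧ 0 < (fun i => (ℓ i : ℝ)) ⬝ᵥ y) :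
    ∃ x : Fin n → ℚ, (∀ i, 0 ≤ x i) ∧ x ≠ 0 ∧
      ∀ y : Fin n → ℝ, (∀ i, 0 ≤ y i) → y ≠ 0 →
        (fun i => (ℓ i : ℝ)) ⬝ᵥ y / Real.sqrt (y ⬝ᵥ (B.map (fun r : ℚ => (r : ℝ))) *ᵥ y) ≤
          (fun i => (ℓ i : ℝ)) ⬝ᵥ (fun i => (x i : ℝ)) /
            Real.sqrt ((fun i => (x i : ℝ)) ⬝ᵥ (B.map (fun r : ℚ => (r : ℝ))) *ᵥ (fun i => (x i : ℝ))) := by
  classical
  set A : Matrix (Fin n) (Fin n) ℚ := (1 / 2 : ℚ) • (B + Bᵀ) with hA
  have hAsymm : Aᵀ = A := by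
    rw [hA, Matrix.transpose_smul, Matrix.transpose_add, Matrix.transpose_transpose, add_comm]
  have hq : ∀ y : Fin n → ℝ, qf (A.map (fun r : ℚ => (r : ℝ))) y =
      y ⬝ᵥ (B.map (fun r : ℚ => (r : ℝ))) *ᵥ y := by
    intro y
    have h1 : A.map (fun r : ℚ => (r : ℝ)) = (1 / 2 : ℝ) • (B.map (fun r : ℚ => (r : ℝ)) +
        (B.map (fun r : ℚ => (r : ℝ)))ᵀ) := by
      ext i j
      simp [hA]
      ring
    have h2 : y ⬝ᵥ (B.map (fun r : ℚ => (r : ℝ)))ᵀ *ᵥ y =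
        y ⬝ᵥ (B.map (fun r : ℚ => (r : ℝ))) *ᵥ y := by
      rw [Matrix.mulVec_transpose, dotProduct_comm, ← Matrix.dotProduct_mulVec]
    unfold qf
    rw [h1, Matrix.smul_mulVec, Matrix.add_mulVec, dotProduct_smul, dotProduct_add, h2, smul_eq_mul]
    ring
  obtain ⟨x, hx1, hx0, hx⟩ := core ℓ A hAsymm (fun y hy hy0 => by rw [hq]; exact hpos y hy hy0) hℓ
  refine ⟨x, hx1, hx0, fun y hy hy0 => ?_⟩
  have := hx y hy hy0
  simp only [Ff, hq] at this
  exact this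

end Groth.Agent.S19138
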