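import Groth.Statements.S19140
import Groth.Agent.Lib.R2H3MultHomMain

set_option autoImplicit false
set_option linter.style.haveILetI false
set_option linter.unusedVariables false
open CategoryTheory MonoidalCategory CartesianMonoidalCategory MonObj GrpObj AlgebraicGeometry
universe u
open SGA3x

namespace Groth.Agent.S19140

/-- Let f : H ⟶ Q be a homomorphism of S-group schemes, with H of multiplicative type (of arbitrary
type: fpqc-locally on S, Zariski-locally isomorphic as a group to some diagonalisable group D(M))
and Q of multiplicative type and of finite type. Then the set U of points s ∈ S such that the fibre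
homomorphism f_s : H_s ⟶ Q_s is faithfully flat (flat and surjective) is open and closed in S, and
the homomorphism H|_U ⟶ Q|_U induced above U is faithfully flat. (No finite-type hypothesis on H.) -/
theorem result {S : Scheme.{u}} (H Q : Over S) [GrpObj H] [GrpObj Q]
    (hH : TwC.Locally S TwC.Topology.fpqc (fun S' g => ∃ (M : Type) (_ : AddCommGroup M), Nonempty (Grp.mk (Red.bc g H) ≅ Grp.mk (Red.DS S' M))))
    (hQ : SGA3x.IsMultTypeFT Q) (f : H ⟶ Q) [IsMonHom f] :
    ∃ U : S.Opens, IsClosed (U : Set S) ∧
      (∀ s : S, s ∈ U ↔ (Flat ((Over.pullback (S.fromSpecResidueField s)).map f).left ∧ Surjective ((Over.pullback (S.fromSpecResidueField s)).map f).left)) ∧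
      (Flat ((Over.pullback U.ι).map f).left ∧ Surjective ((Over.pullback U.ι).map f).left) := by
  haveI : MorphismProperty.DescendsAlong (@Flat : MorphismProperty Scheme.{u})
      Groth.Agent.Lib.R2H3.FpqcLocal.Qfpqc := Groth.Agent.Lib.Helper12.descendsAlong_flat
  exact Groth.Agent.Lib.R2H3.MultHom.exists_clopen_locus H Q hH hQ f
    (@Flat ⊓ @Surjective : MorphismProperty Scheme.{u})
    (fun M N _ _ φ => Function.Injective φ)
    (fun W M N _ _ φ hφ => Groth.Agent.Lib.R2H3.MultHom.flat_surjective_DSmap_left φ hφ)
    (fun W K _ a M N _ _ φ h =>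
      Groth.Agent.Lib.R2H3.MultHom.injective_of_flat_surjective a φ h.1 h.2)

end Groth.Agent.S19140
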