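import Groth.Statements.S19180
import Groth.Agent.Lib.R2H2PnTwEquiv

set_option autoImplicit false
universe u
open Coherent

namespace Groth.Agent.S19180

open CategoryTheory AlgebraicGeometry in
/-- Let R be a local ring and m ≥ 1, and consider the projective line P¹_R with its structure sheaf O
and twisting sheaf O(m). For every O-module F and every short exact sequence 0 → O(m) → F → O → 0 of
O-modules, the surjection F → O admits a section; consequently F is isomorphic to O(m) ⊕ O. -/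
theorem result (R : Type u) [CommRing R] [IsLocalRing R]
    (m : ℕ) (hm : 1 ≤ m) (F : (CohB1.ProjSpace 1 R).Modules)
    (i : Twist.twistProjSpace 1 R (m : ℤ) ⟶ F) (p : F ⟶ Coh.structureModule (CohB1.ProjSpace 1 R))
    (w : i ≫ p = 0) (hex : (ShortComplex.mk i p w).ShortExact) :
    ∃ s : Coh.structureModule (CohB1.ProjSpace 1 R) ⟶ F, s ≫ p = 𝟙 _ := by
  have : EnoughInjectives (CohB1.ProjSpace 1 R).Modules :=
    Groth.Agent.S0485.result (Opens.grothendieckTopology (CohB1.ProjSpace 1 R))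
      (CohB1.ProjSpace 1 R).ringCatSheaf
  have : HasExt.{u} (CohB1.ProjSpace 1 R).Modules := hasExt_of_enoughInjectives.{u} _
  obtain ⟨z⟩ := Groth.Agent.Lib.R2Lead.KRR.nonempty_twistProjSpace_zero_iso 1 R
  have h0 : Subsingleton (Abelian.Ext (Twist.twistProjSpace 1 R 0) (Twist.twistProjSpace 1 R (m : ℤ)) 1) :=
    Groth.Agent.Lib.R2H2.PnTwEquiv.subsingleton_ext_twist 1 R 0 (m : ℤ) 1
      (by rintro ⟨h, -⟩; omega) (by rintro ⟨-, h⟩; push_cast at h; omega)
  have h1 : Subsingleton (Abelian.Ext (Coh.structureModule (CohB1.ProjSpace 1 R))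
      (Twist.twistProjSpace 1 R (m : ℤ)) 1) :=
    Groth.Agent.Lib.R2H2.PnTwEquiv.subsingleton_ext_of_iso z.symm (Iso.refl _) 1 h0
  obtain ⟨x₂, hx₂⟩ := Abelian.Ext.covariant_sequence_exact₃
    (Coh.structureModule (CohB1.ProjSpace 1 R)) hex
    (Abelian.Ext.mk₀ (𝟙 (Coh.structureModule (CohB1.ProjSpace 1 R)))) rfl (Subsingleton.elim _ _)
  obtain ⟨s, rfl⟩ := (Abelian.Ext.mk₀_bijective _ _).2 x₂
  rw [Abelian.Ext.mk₀_comp_mk₀] at hx₂
  exact ⟨s, (Abelian.Ext.mk₀_bijective _ _).1 hx₂⟩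

end Groth.Agent.S19180
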