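import Groth.Statements.S19203
import Mathlib
import Groth.Agent.Lib.R2H4GGGrowth

set_option autoImplicit false
universe u
open CategoryTheory AlgebraicGeometry
open Coh

namespace Groth.Agent.S19203

/-- Let X be a scheme proper over a field k with dim X = r, and L an invertible O_X-module generated by
its global sections. Then for each i ≥ 1 the dimensions dim_k H^i(X, L^{⊗n}) are O(n^{r-1}): there
is a real constant C with dim_k H^i(X, L^{⊗n}) ≤ C·n^{r-1} for every n ≥ 1. (For r = 0 the exponent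
r − 1 is read as 0; k is any field.) -/
theorem result (k : Type u) [Field k] (X : Scheme.{u})
    [X.Over (Spec (CommRingCat.of k))] [IsProper (X ↘ (Spec (CommRingCat.of k)))]
    (r : ℕ) (hdim : topologicalKrullDim X = r)
    (L : X.Modules) (hL : PicF.IsInvertible L) (hgen : Curv2.IsGloballyGenerated L)
    (i : ℕ) (hi : 1 ≤ i) :
    ∃ C : ℝ, ∀ n : ℕ, 1 ≤ n →
      (Module.finrank k (Coh.HH X (CohB1.tensorPow L n) i) : ℝ) ≤ C * (n : ℝ) ^ (r - 1) := by
  haveI := Groth.Agent.Lib.R2H1.CurveEuler.isNoetherian_of_proper k X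
  have cO : Coh.IsCoh (Coh.structureModule X) :=
    Groth.Agent.Lib.R2H1.GenusLe.isCoh_structureModule X
  have hX : topologicalKrullDim X ≤ ((r : ℕ) : WithBot ℕ∞) := hdim.le
  obtain ⟨-, hp⟩ := Groth.Agent.Lib.R2H4GGGrowth.main k L hL
    (Groth.Agent.Lib.R2H4GGGrowth.ptGen_of_isGloballyGenerated L hL hgen)
    (Coh.structureModule X) cO r (Groth.Agent.Lib.R2H4HhatSES.dim_support_le r hX _)
  obtain ⟨C, hC⟩ := hp i hi
  have hval : ∀ n : ℕ, Module.finrank k (Coh.HH X (CohB1.tensorPow L n) i) * (n + 1) ≤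
      C * (n + 1) ^ r := by
    intro n
    have h1 := hC n
    rw [Groth.Agent.Lib.R2H4HiGrowth.hi_congr k
      (Groth.Agent.Lib.R2H4TensorPows.lUnit (CohB1.tensorPow L n)) i] at h1
    exact h1
  rcases Nat.eq_zero_or_pos r with hr0 | hrpos
  · subst hr0
    refine ⟨(C : ℝ), fun n _ => ?_⟩
    have h1 := hval n
    rw [pow_zero, mul_one] at h1
    have h2 : Module.finrank k (Coh.HH X (CohB1.tensorPow L n) i) ≤ C :=
      (Nat.le_mul_of_pos_right _ (Nat.succ_pos n)).trans h1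
    simp only [Nat.zero_sub, pow_zero, mul_one]
    exact_mod_cast h2
  · obtain ⟨r₀, rfl⟩ : ∃ r₀, r = r₀ + 1 := ⟨r - 1, by omega⟩
    refine ⟨(C : ℝ) * 2 ^ r₀, fun n hn => ?_⟩
    have h1 := hval n
    rw [pow_succ, ← mul_assoc] at h1
    have h2 : Module.finrank k (Coh.HH X (CohB1.tensorPow L n) i) ≤ C * (n + 1) ^ r₀ :=
      Nat.le_of_mul_le_mul_right h1 (Nat.succ_pos n)
    have h3 : (n + 1) ^ r₀ ≤ 2 ^ r₀ * n ^ r₀ := by
      rw [← mul_pow]
      exact Nat.pow_le_pow_left (by omega) r₀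
    have h4 : Module.finrank k (Coh.HH X (CohB1.tensorPow L n) i) ≤ C * (2 ^ r₀ * n ^ r₀) :=
      h2.trans (Nat.mul_le_mul_left _ h3)
    rw [Nat.add_sub_cancel]
    have h5 : ((Module.finrank k (Coh.HH X (CohB1.tensorPow L n) i) : ℕ) : ℝ) ≤
        ((C * (2 ^ r₀ * n ^ r₀) : ℕ) : ℝ) := by exact_mod_cast h4
    refine h5.trans (le_of_eq ?_)
    push_cast
    ring

end Groth.Agent.S19203
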