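import Groth.Statements.S19218
import Mathlib

set_option autoImplicit false
universe u v
open TensorProduct
open DiagIdeal

namespace Groth.Agent.S19218

namespace Aux

variable {k : Type u} [Field k] {A : Type v} [CommRing A] [Algebra k A] {n : ℕ}

local notation "RR" => (⨂[k] _ : Fin n, A)

/-- reindexing as an algebra hom -/
noncomputable def Talg (τ : Equiv.Perm (Fin n)) : RR →ₐ[k] RR :=
  PiTensorProduct.liftAlgHom
    ((PiTensorProduct.tprod k (s := fun _ : Fin n => A)).domDomCongr τ.symm)
    (by
      simp only [MultilinearMap.domDomCongr_apply]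
      rfl)
    (by
      intro x y
      simp only [MultilinearMap.domDomCongr_apply]
      rw [PiTensorProduct.tprod_mul_tprod]
      rfl)

theorem Talg_eq (τ : Equiv.Perm (Fin n)) (x : RR) :
    Talg τ x = PiTensorProduct.reindex k (fun _ : Fin n => A) τ x := by
  have : (Talg (k := k) (A := A) τ).toLinearMap =
      (PiTensorProduct.reindex k (fun _ : Fin n => A) τ).toLinearMap := by
    apply PiTensorProduct.ext
    ext v
    simp only [Talg, LinearMap.compMultilinearMap_apply, AlgHom.toLinearMap_apply,
      PiTensorProduct.liftAlgHom_apply, PiTensorProduct.lift.tprod,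
      MultilinearMap.domDomCongr_apply, LinearEquiv.coe_coe, PiTensorProduct.reindex_tprod]
  exact congrArg (fun f => f x) this

theorem Talg_single (τ : Equiv.Perm (Fin n)) (l : Fin n) (a : A) :
    Talg τ (PiTensorProduct.singleAlgHom (R := k) (A := fun _ : Fin n => A) l a) =
      PiTensorProduct.singleAlgHom (R := k) (A := fun _ : Fin n => A) (τ l) a := by
  rw [Talg_eq]
  simp only [PiTensorProduct.singleAlgHom_apply, PiTensorProduct.reindex_tprod]
  congr 1
  funext m
  simp only [MonoidHom.mulSingle_apply, Pi.mulSingle_apply]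
  by_cases h : m = τ l
  · subst h; simp
  · rw [if_neg h, if_neg]
    intro h'
    apply h
    rw [← h']; simp

/-- the ideal of the `(i,j)` diagonal -/
noncomputable def Ip (k : Type u) [Field k] (A : Type v) [CommRing A] [Algebra k A] {n : ℕ}
    (i j : Fin n) : Ideal (⨂[k] _ : Fin n, A) :=
  Ideal.span (Set.range fun a : A =>
    PiTensorProduct.singleAlgHom (R := k) (A := fun _ : Fin n => A) i a -
    PiTensorProduct.singleAlgHom (R := k) (A := fun _ : Fin n => A) j a)

variable (i j : Fin n)

theorem Talg_delta (a : A) :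
    Talg (Equiv.swap i j)
      (PiTensorProduct.singleAlgHom (R := k) (A := fun _ : Fin n => A) i a -
        PiTensorProduct.singleAlgHom (R := k) (A := fun _ : Fin n => A) j a) =
      -(PiTensorProduct.singleAlgHom (R := k) (A := fun _ : Fin n => A) i a -
        PiTensorProduct.singleAlgHom (R := k) (A := fun _ : Fin n => A) j a) := by
  rw [map_sub, Talg_single, Talg_single, Equiv.swap_apply_left, Equiv.swap_apply_right]
  ring

/-- `T r ≡ r` modulo `I_p`. -/
theorem Talg_sub_mem (r : RR) : Talg (Equiv.swap i j) r - r ∈ Ip k A i j := by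
  have h : (Ideal.Quotient.mkₐ k (Ip k A i j)).comp (Talg (Equiv.swap i j)) =
      Ideal.Quotient.mkₐ k (Ip k A i j) := by
    apply PiTensorProduct.algHom_ext
    intro l
    ext a
    simp only [AlgHom.comp_apply, Ideal.Quotient.mkₐ_eq_mk, Talg_single]
    have hδ : Ideal.Quotient.mk (Ip k A i j)
        (PiTensorProduct.singleAlgHom (R := k) (A := fun _ : Fin n => A) i a) =
        Ideal.Quotient.mk (Ip k A i j)
        (PiTensorProduct.singleAlgHom (R := k) (A := fun _ : Fin n => A) j a) := by
      rw [Ideal.Quotient.eq]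
      exact Ideal.subset_span ⟨a, rfl⟩
    by_cases hi : l = i
    · subst hi; rw [Equiv.swap_apply_left]; exact hδ.symm
    · by_cases hj : l = j
      · subst hj; rw [Equiv.swap_apply_right]; exact hδ
      · rw [Equiv.swap_apply_of_ne_of_ne hi hj]
  have := congrArg (fun f => f r) h
  simp only [AlgHom.comp_apply, Ideal.Quotient.mkₐ_eq_mk] at this
  rwa [Ideal.Quotient.eq] at this

theorem Talg_mem {g : RR} (hg : g ∈ Ip k A i j) : Talg (Equiv.swap i j) g ∈ Ip k A i j := by
  have : Ideal.map (Talg (k := k) (A := A) (Equiv.swap i j)) (Ip k A i j) ≤ Ip k A i j := by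
    rw [Ip, Ideal.map_span, Ideal.span_le]
    rintro _ ⟨_, ⟨a, rfl⟩, rfl⟩
    rw [Talg_delta]
    exact neg_mem (Ideal.subset_span (Set.mem_range_self a))
  exact this (Ideal.mem_map_of_mem _ hg)

theorem Talg_mem_pow (s : ℕ) {g : RR} (hg : g ∈ Ip k A i j ^ s) :
    Talg (Equiv.swap i j) g ∈ Ip k A i j ^ s := by
  have : Ideal.map (Talg (k := k) (A := A) (Equiv.swap i j)) (Ip k A i j) ≤ Ip k A i j := by
    intro x hx
    refine Submodule.span_induction ?_ ?_ ?_ ?_ hx
    · rintro _ ⟨g, hg, rfl⟩; exact Talg_mem i j hg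
    · exact zero_mem _
    · intro x y _ _ hx hy; exact add_mem hx hy
    · intro a x _ hx; exact Ideal.mul_mem_left _ a hx
  have h2 := Ideal.mem_map_of_mem (Talg (k := k) (A := A) (Equiv.swap i j)) hg
  rw [Ideal.map_pow] at h2
  exact Ideal.pow_right_mono this s h2

theorem Talg_add_mem {g : RR} (hg : g ∈ Ip k A i j) :
    Talg (Equiv.swap i j) g + g ∈ Ip k A i j ^ 2 := by
  have key : ∀ g ∈ Ip k A i j, g ∈ Ip k A i j ∧ Talg (Equiv.swap i j) g + g ∈ Ip k A i j ^ 2 := by
    intro g hg
    refine Submodule.span_induction ?_ ?_ ?_ ?_ hg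
    · rintro _ ⟨a, rfl⟩
      refine ⟨Ideal.subset_span ⟨a, rfl⟩, ?_⟩
      rw [Talg_delta, neg_add_cancel]; exact zero_mem _
    · exact ⟨zero_mem _, by simp⟩
    · rintro x y _ _ ⟨hx1, hx2⟩ ⟨hy1, hy2⟩
      refine ⟨add_mem hx1 hy1, ?_⟩
      have : Talg (Equiv.swap i j) (x + y) + (x + y) =
          (Talg (Equiv.swap i j) x + x) + (Talg (Equiv.swap i j) y + y) := by
        rw [map_add]; ring
      rw [this]; exact add_mem hx2 hy2
    · rintro r x _ ⟨hx1, hx2⟩
      refine ⟨Ideal.mul_mem_left _ r hx1, ?_⟩
      have : Talg (Equiv.swap i j) (r • x) + r • x =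
          (Talg (Equiv.swap i j) r - r) * Talg (Equiv.swap i j) x +
            r * (Talg (Equiv.swap i j) x + x) := by
        rw [smul_eq_mul, map_mul]; ring
      rw [this, sq]
      exact add_mem (Ideal.mul_mem_mul (Talg_sub_mem i j r) (Talg_mem i j hx1))
        (by rw [← sq]; exact Ideal.mul_mem_left _ r hx2)
  exact (key g hg).2

/-- `T y ≡ (-1)^s y` modulo `I_p^(s+1)` for `y ∈ I_p^s`. -/
theorem Talg_pow (s : ℕ) : ∀ y ∈ Ip k A i j ^ s,
    Talg (Equiv.swap i j) y - (-1) ^ s * y ∈ Ip k A i j ^ (s + 1) := by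
  induction s with
  | zero =>
    intro y _
    simpa using Talg_sub_mem i j y
  | succ s ih =>
    intro y hy
    rw [pow_succ'] at hy
    refine Submodule.mul_induction_on hy ?_ ?_
    · intro g hg z hz
      have : Talg (Equiv.swap i j) (g * z) - (-1) ^ (s + 1) * (g * z) =
          (Talg (Equiv.swap i j) g + g) * Talg (Equiv.swap i j) z -
            g * (Talg (Equiv.swap i j) z - (-1) ^ s * z) := by
        rw [map_mul]; ring
      rw [this]
      refine sub_mem ?_ ?_
      · have := Ideal.mul_mem_mul (Talg_add_mem i j hg) (Talg_mem_pow i j s hz)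
        rwa [← pow_add, show 2 + s = s + 1 + 1 by ring] at this
      · have := Ideal.mul_mem_mul hg (ih z hz)
        rwa [← pow_succ'] at this
    · intro x y hx hy
      have : Talg (Equiv.swap i j) (x + y) - (-1) ^ (s + 1) * (x + y) =
          (Talg (Equiv.swap i j) x - (-1) ^ (s + 1) * x) +
            (Talg (Equiv.swap i j) y - (-1) ^ (s + 1) * y) := by
        rw [map_add]; ring
      rw [this]; exact add_mem hx hy

end Aux

/-- Let k be an algebraically closed field of characteristic zero and A a smooth k-algebra which is a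
domain of Krull dimension 2. In the n-fold tensor power R of A over k, indexed by Fin n, let I_p (p
= (i, j), i < j) be the ideal generated by the a_i − a_j, a ∈ A, and let I be the intersection of
the I_p, the ideal of the big diagonal. Assume that for every s ≥ 0 the power I ^ s is the
intersection of the powers I_p ^ s (a property of the big diagonal of a smooth surface that the
source takes from the literature). Then for m ≥ 1 every element of R fixed by all permutations of
the n factors and lying in I ^ (2m − 1) lies in I ^ (2m): on the symmetric product the invariants of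
the odd power and of the next even power of the ideal of the big diagonal coincide. (The source
states the sheaf version for a smooth quasi-projective complex surface, using the displayed property
of the powers without restating it as a hypothesis.) -/
theorem result (k : Type u) [Field k] [IsAlgClosed k] [CharZero k]
    (A : Type v) [CommRing A] [Algebra k A] [Algebra.Smooth k A] [IsDomain A]
    (hdim : ringKrullDim A = 2) (n : ℕ)
    (I : Fin n × Fin n → Ideal (⨂[k] _ : Fin n, A))
    (hI : ∀ p, I p = Ideal.span (Set.range fun a : A =>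
        PiTensorProduct.singleAlgHom (R := k) (A := fun _ : Fin n => A) p.1 a -
        PiTensorProduct.singleAlgHom (R := k) (A := fun _ : Fin n => A) p.2 a))
    (IΔ : Ideal (⨂[k] _ : Fin n, A))
    (hIΔ : IΔ = ⨅ p ∈ Finset.univ.filter (fun p : Fin n × Fin n => p.1 < p.2), I p)
    (hpow : ∀ s : ℕ, IΔ ^ s = ⨅ p ∈ Finset.univ.filter (fun p : Fin n × Fin n => p.1 < p.2), (I p) ^ s)
    (m : ℕ) (hm : 1 ≤ m) (x : ⨂[k] _ : Fin n, A)
    (hx : ∀ σ : Equiv.Perm (Fin n), PiTensorProduct.reindex k (fun _ : Fin n => A) σ x = x)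
    (hmem : x ∈ IΔ ^ (2 * m - 1)) :
    x ∈ IΔ ^ (2 * m) := by
  rw [hpow] at hmem ⊢
  simp only [Ideal.mem_iInf] at hmem ⊢
  intro p hp
  have hx' := hmem p hp
  have hIp : I p = Aux.Ip k A p.1 p.2 := hI p
  rw [hIp] at hx' ⊢
  have hT : Aux.Talg (Equiv.swap p.1 p.2) x = x := by rw [Aux.Talg_eq]; exact hx _
  have h := Aux.Talg_pow p.1 p.2 (2 * m - 1) x hx'
  rw [hT] at h
  have hodd : ((-1 : ⨂[k] _ : Fin n, A)) ^ (2 * m - 1) = -1 := Odd.neg_one_pow ⟨m - 1, by omega⟩
  rw [hodd, show 2 * m - 1 + 1 = 2 * m by omega] at h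
  have h2 : (2 : ⨂[k] _ : Fin n, A) * x ∈ Aux.Ip k A p.1 p.2 ^ (2 * m) := by
    convert h using 1; ring
  have h3 : algebraMap k (⨂[k] _ : Fin n, A) (1 / 2) * 2 = 1 := by
    rw [← map_ofNat (algebraMap k (⨂[k] _ : Fin n, A)) 2, ← map_mul]
    norm_num
  have h4 : x = algebraMap k (⨂[k] _ : Fin n, A) (1 / 2) * ((2 : ⨂[k] _ : Fin n, A) * x) := by
    rw [← mul_assoc, h3, one_mul]
  rw [h4]
  exact Ideal.mul_mem_left _ _ h2

end Groth.Agent.S19218
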