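import Groth.Statements.S19221
import Mathlib

set_option autoImplicit false
universe u
open SymRep

namespace Groth.Agent.S19221

namespace Aux

theorem det_block {R : Type*} [CommRing R] (α β γ δ : R) :
    Matrix.det !![α, 0, β, 0; 0, α, 0, β; γ, 0, δ, 0; 0, γ, 0, δ] = (α * δ - β * γ) ^ 2 := by
  rw [Matrix.det_succ_row_zero]
  simp [Fin.sum_univ_succ, Matrix.det_fin_three, Fin.succAbove, Matrix.submatrix]
  ring


theorem iMulti4 {k M : Type*} [CommRing k] [AddCommGroup M] [Module k M] (a b c d : M) :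
    ExteriorAlgebra.ιMulti k 4 ![a, b, c, d] =
      ExteriorAlgebra.ι k a * ExteriorAlgebra.ι k b * ExteriorAlgebra.ι k c * ExteriorAlgebra.ι k d := by
  rw [ExteriorAlgebra.ιMulti_apply]
  simp [List.ofFn_succ, mul_assoc]

theorem swap22 {k M : Type*} [CommRing k] [AddCommGroup M] [Module k M] (a b c d : M) :
    ExteriorAlgebra.ι k c * ExteriorAlgebra.ι k d * ExteriorAlgebra.ι k a * ExteriorAlgebra.ι k b =
      ExteriorAlgebra.ι k a * ExteriorAlgebra.ι k b * ExteriorAlgebra.ι k c * ExteriorAlgebra.ι k d := by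
  rw [← iMulti4, ← iMulti4]
  have h : (![c, d, a, b] : Fin 4 → M) = ![a, b, c, d] ∘ (Equiv.swap (0 : Fin 4) 2 * Equiv.swap (1 : Fin 4) 3) := by
    funext i
    fin_cases i <;> rfl
  rw [h, AlternatingMap.map_perm]
  have hs : Equiv.Perm.sign (Equiv.swap (0 : Fin 4) 2 * Equiv.swap (1 : Fin 4) 3) = 1 := by
    rw [Equiv.Perm.sign_mul, Equiv.Perm.sign_swap (by decide), Equiv.Perm.sign_swap (by decide)]
    rfl
  rw [hs, one_smul]

/-- integer cycle coefficients -/
def zI (i j l a b : Fin 4) : ℤ :=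
  (if a = i ∧ b = j then 1 else 0) + (if a = j ∧ b = l then 1 else 0) +
    (if a = l ∧ b = i then 1 else 0) - (if a = j ∧ b = i then 1 else 0) -
    (if a = l ∧ b = j then 1 else 0) - (if a = i ∧ b = l then 1 else 0)

variable (k : Type u) [Field k]

/-- four coordinate functionals -/
def L : (Fin 2 → Fin 4 → Fin 4 → k) →ₗ[k] (Fin 4 → k) where
  toFun f := ![f 0 1 2, f 1 1 2, f 0 2 3, f 1 2 3]
  map_add' := by
    intro f g
    ext r
    fin_cases r <;> simp
  map_smul' := by
    intro c f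
    ext r
    fin_cases r <;> simp

/-- the detecting functional on the exterior algebra -/
noncomputable def Φ : ExteriorAlgebra k (Fin 2 → Fin 4 → Fin 4 → k) →ₗ[k] k :=
  ExteriorAlgebra.liftAlternating (R := k) (M := Fin 2 → Fin 4 → Fin 4 → k) (N := k)
    (Pi.single 4 ((Matrix.detRowAlternating (R := k) (n := Fin 4)).compLinearMap (L k)))

theorem Φ_apply (v : Fin 4 → (Fin 2 → Fin 4 → Fin 4 → k)) :
    Φ k (ExteriorAlgebra.ιMulti k 4 v) = Matrix.det (Matrix.of fun s r => L k (v s) r) := by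
  rw [Φ, ExteriorAlgebra.liftAlternating_apply_ιMulti, Pi.single_eq_same]
  rfl

end Aux

/-- Let k be a field of characteristic zero and F the k-space of functions Fin 2 → Fin 4 → Fin 4 → k,
with the symmetric group of Fin 4 acting through P σ f c a b = f c (σ⁻¹ a) (σ⁻¹ b). The signed edge
vectors of the complete graph on four vertices live in F as the functions antisymmetric in the two
vertex arguments, and for a colour c and an oriented 3-cycle i → j → l → i the cycle vector z c i j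
l is the function equal, in colour c, to +1 at (i,j), (j,l), (l,i), to −1 at (j,i), (l,j), (i,l) and
to 0 elsewhere (and 0 in the other colour); these cycle vectors span k² ⊗ (cycle space), the
representation written C² ⊗ q in the published text. Let Γ be the graph with edges 01, 02, 03, 12,
23 (a 4-cycle with one chord), whose cycle space is spanned by the cycles (0,1,2) and (0,2,3), and
let ω be the product in the exterior algebra of F of the four vectors z 0 0 1 2, z 1 0 1 2, z 0 0 2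
3, z 1 0 2 3 (a generator of the top exterior power of k² ⊗ q_Γ). Then ω is fixed by the stabiliser
of Γ in the symmetric group (generated by the transpositions (0 2) and (1 3)), and the sum over all
24 permutations σ of the images of ω under the maps induced by P σ is nonzero: the projection of ω
to the invariants of the fourth exterior power of k² ⊗ q_{K₄} does not vanish. (The published
statement is over the complex numbers; a field of characteristic zero is used here. The published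
statement also asserts that this map is an isomorphism onto the one-dimensional space of
S₄-invariants of the fourth exterior power of k² ⊗ q_{K₄}; only its non-vanishing is stated here.) -/
theorem result (k : Type u) [Field k] [CharZero k]
    (P : Equiv.Perm (Fin 4) → ((Fin 2 → Fin 4 → Fin 4 → k) →ₗ[k] (Fin 2 → Fin 4 → Fin 4 → k)))
    (hP : ∀ (σ : Equiv.Perm (Fin 4)) (f : Fin 2 → Fin 4 → Fin 4 → k) (c : Fin 2) (a b : Fin 4),
      P σ f c a b = f c (σ.symm a) (σ.symm b))
    (z : Fin 2 → Fin 4 → Fin 4 → Fin 4 → (Fin 2 → Fin 4 → Fin 4 → k))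
    (hz : ∀ (c : Fin 2) (i j l : Fin 4) (c' : Fin 2) (a b : Fin 4), z c i j l c' a b =
      if c' = c then
        ((if a = i ∧ b = j then 1 else 0) + (if a = j ∧ b = l then 1 else 0) + (if a = l ∧ b = i then 1 else 0)
          - (if a = j ∧ b = i then 1 else 0) - (if a = l ∧ b = j then 1 else 0) - (if a = i ∧ b = l then 1 else 0))
      else 0)
    (ω : ExteriorAlgebra k (Fin 2 → Fin 4 → Fin 4 → k))
    (hω : ω = ExteriorAlgebra.ι k (z 0 0 1 2) * ExteriorAlgebra.ι k (z 1 0 1 2) *
      ExteriorAlgebra.ι k (z 0 0 2 3) * ExteriorAlgebra.ι k (z 1 0 2 3)) :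
    ExteriorAlgebra.map (P (Equiv.swap 0 2)) ω = ω ∧
    ExteriorAlgebra.map (P (Equiv.swap 1 3)) ω = ω ∧
    (∑ σ : Equiv.Perm (Fin 4), ExteriorAlgebra.map (P σ) ω) ≠ 0 := by
  classical
  -- P σ on cycle vectors
  have hPz : ∀ (σ : Equiv.Perm (Fin 4)) (c : Fin 2) (i j l : Fin 4),
      P σ (z c i j l) = z c (σ i) (σ j) (σ l) := by
    intro σ c i j l
    funext c' a b
    rw [hP, hz, hz]
    simp only [Equiv.symm_apply_eq]
  -- reversal
  have hrev : ∀ (c : Fin 2) (i j l : Fin 4), z c i l j = -(z c i j l) := by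
    intro c i j l
    funext c' a b
    simp only [Pi.neg_apply]
    rw [hz, hz]
    split_ifs <;> ring
  have hrot : ∀ (c : Fin 2) (i j l : Fin 4), z c j l i = z c i j l := by
    intro c i j l
    funext c' a b
    rw [hz, hz]
    split_ifs <;> ring
  have hmapω : ∀ σ : Equiv.Perm (Fin 4), ExteriorAlgebra.map (P σ) ω =
      ExteriorAlgebra.ι k (P σ (z 0 0 1 2)) * ExteriorAlgebra.ι k (P σ (z 1 0 1 2)) *
        ExteriorAlgebra.ι k (P σ (z 0 0 2 3)) * ExteriorAlgebra.ι k (P σ (z 1 0 2 3)) := by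
    intro σ
    rw [hω]
    simp only [map_mul, ExteriorAlgebra.map_apply_ι]
  refine ⟨?_, ?_, ?_⟩
  · rw [hmapω, hPz, hPz, hPz, hPz]
    have h1 : ∀ c, z c ((Equiv.swap (0 : Fin 4) 2) 0) ((Equiv.swap (0 : Fin 4) 2) 1)
        ((Equiv.swap (0 : Fin 4) 2) 2) = -(z c 0 1 2) := by
      intro c
      have e0 : (Equiv.swap (0 : Fin 4) 2) 0 = 2 := by decide
      have e1 : (Equiv.swap (0 : Fin 4) 2) 1 = 1 := by decide
      have e2 : (Equiv.swap (0 : Fin 4) 2) 2 = 0 := by decide
      rw [e0, e1, e2, hrot c 0 2 1, hrev]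
    have h2 : ∀ c, z c ((Equiv.swap (0 : Fin 4) 2) 0) ((Equiv.swap (0 : Fin 4) 2) 2)
        ((Equiv.swap (0 : Fin 4) 2) 3) = -(z c 0 2 3) := by
      intro c
      have e0 : (Equiv.swap (0 : Fin 4) 2) 0 = 2 := by decide
      have e3 : (Equiv.swap (0 : Fin 4) 2) 3 = 3 := by decide
      have e2 : (Equiv.swap (0 : Fin 4) 2) 2 = 0 := by decide
      rw [e0, e3, e2, hrot c 3 2 0, hrot c 0 3 2, hrev]
    rw [h1, h1, h2, h2, hω]
    simp only [map_neg, neg_mul, mul_neg, neg_neg]
  · rw [hmapω, hPz, hPz, hPz, hPz]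
    have e0 : (Equiv.swap (1 : Fin 4) 3) 0 = 0 := by decide
    have e1 : (Equiv.swap (1 : Fin 4) 3) 1 = 3 := by decide
    have e2 : (Equiv.swap (1 : Fin 4) 3) 2 = 2 := by decide
    have e3 : (Equiv.swap (1 : Fin 4) 3) 3 = 1 := by decide
    rw [e0, e1, e2, e3, hrev 0 0 2 3, hrev 1 0 2 3, hrev 0 0 1 2, hrev 1 0 1 2, hω]
    simp only [map_neg, neg_mul, mul_neg, neg_neg]
    exact Aux.swap22 _ _ _ _
  · have hzI : ∀ (c : Fin 2) (i j l : Fin 4) (c' : Fin 2) (a b : Fin 4),
        z c i j l c' a b = if c' = c then ((Aux.zI i j l a b : ℤ) : k) else 0 := by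
      intro c i j l c' a b
      rw [hz]
      unfold Aux.zI
      push_cast
      rfl
    let nn : Equiv.Perm (Fin 4) → ℤ := fun σ =>
      Aux.zI 0 1 2 (σ.symm 1) (σ.symm 2) * Aux.zI 0 2 3 (σ.symm 2) (σ.symm 3) -
        Aux.zI 0 1 2 (σ.symm 2) (σ.symm 3) * Aux.zI 0 2 3 (σ.symm 1) (σ.symm 2)
    have hterm : ∀ σ : Equiv.Perm (Fin 4),
        Aux.Φ k (ExteriorAlgebra.map (P σ) ω) = ((nn σ : ℤ) : k) ^ 2 := by
      intro σ
      rw [hmapω, ← Aux.iMulti4, Aux.Φ_apply]
      have hM : (Matrix.of fun s r => Aux.L k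
          ((![P σ (z 0 0 1 2), P σ (z 1 0 1 2), P σ (z 0 0 2 3), P σ (z 1 0 2 3)] :
            Fin 4 → (Fin 2 → Fin 4 → Fin 4 → k)) s) r) =
          !![((Aux.zI 0 1 2 (σ.symm 1) (σ.symm 2) : ℤ) : k), 0,
              ((Aux.zI 0 1 2 (σ.symm 2) (σ.symm 3) : ℤ) : k), 0;
             0, ((Aux.zI 0 1 2 (σ.symm 1) (σ.symm 2) : ℤ) : k), 0,
              ((Aux.zI 0 1 2 (σ.symm 2) (σ.symm 3) : ℤ) : k);
             ((Aux.zI 0 2 3 (σ.symm 1) (σ.symm 2) : ℤ) : k), 0,
              ((Aux.zI 0 2 3 (σ.symm 2) (σ.symm 3) : ℤ) : k), 0;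
             0, ((Aux.zI 0 2 3 (σ.symm 1) (σ.symm 2) : ℤ) : k), 0,
              ((Aux.zI 0 2 3 (σ.symm 2) (σ.symm 3) : ℤ) : k)] := by
        ext s r
        fin_cases s <;> fin_cases r <;> simp [Aux.L, hP, hzI]
      rw [hM, Aux.det_block]
      simp only [nn]
      push_cast
      ring
    intro hsum
    have h1 := congrArg (Aux.Φ k) hsum
    rw [map_sum, map_zero, Finset.sum_congr rfl (fun σ _ => hterm σ)] at h1
    have h2 : ((∑ σ : Equiv.Perm (Fin 4), (nn σ) ^ 2 : ℤ) : k) = 0 := by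
      push_cast; exact h1
    have h3 : (∑ σ : Equiv.Perm (Fin 4), (nn σ) ^ 2 : ℤ) = 0 := by exact_mod_cast h2
    have h4 : (nn 1) ^ 2 ≤ ∑ σ : Equiv.Perm (Fin 4), (nn σ) ^ 2 :=
      Finset.single_le_sum (f := fun σ => (nn σ) ^ 2) (fun σ _ => sq_nonneg _) (Finset.mem_univ 1)
    have h5 : nn 1 = 1 := by decide
    rw [h5, h3] at h4
    omega

end Groth.Agent.S19221
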