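import Groth.Statements.S19223
import Mathlib

set_option autoImplicit false
attribute [local instance] Units.mulDistribMulActionRight
open GalCoh

namespace Groth.Agent.S19223

namespace Aux

open CategoryTheory Limits

lemma modcat_zsmul_id_apply {k : Type} [CommRing k] (E : ModuleCat.{0} k) (c : ℕ) (y : E) :
    (((c : ℤ)) • 𝟙 E : E ⟶ E).hom y = c • y := by
  simp [natCast_zsmul]

section LD
universe v₁ u₁ v₂ u₂
variable {C : Type u₁} [Category.{v₁} C] {D : Type u₂} [Category.{v₂} D] [Abelian C]
  [HasProjectiveResolutions C] [Abelian D]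

lemma leftDerived_map_zsmul (F : C ⥤ D) [F.Additive] (n : ℕ) (X : C) (c : ℤ) :
    (F.leftDerived n).map (c • 𝟙 X) = c • 𝟙 ((F.leftDerived n).obj X) := by
  let P := projectiveResolution X
  have w : (c • 𝟙 P.complex) ≫ P.π = P.π ≫ (ChainComplex.single₀ C).map (c • 𝟙 X) := by
    rw [Preadditive.zsmul_comp, Functor.map_zsmul, Preadditive.comp_zsmul,
      CategoryTheory.Functor.map_id, Category.id_comp, Category.comp_id]
  rw [Functor.leftDerived_map_eq F n (c • 𝟙 X) (c • 𝟙 P.complex) w]
  rw [Functor.map_zsmul, CategoryTheory.Functor.map_id, Preadditive.zsmul_comp,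
    Preadditive.comp_zsmul]
  congr 1
  erw [Category.id_comp]
  exact Iso.hom_inv_id _
end LD

section Hensel

variable {R : Type} [CommRing R] [HenselianLocalRing R]

lemma exists_root (N : ℕ) (hN : IsUnit (N : R)) (u : R)
    (hu : u - 1 ∈ IsLocalRing.maximalIdeal R) :
    ∃ v : R, v ^ N = u ∧ v - 1 ∈ IsLocalRing.maximalIdeal R := by
  have hN0 : N ≠ 0 := by
    rintro rfl
    simp at hN
  have e1 : (Polynomial.X ^ N - Polynomial.C u : Polynomial R).eval 1 = 1 - u := by simp
  have e2 : (Polynomial.derivative (Polynomial.X ^ N - Polynomial.C u : Polynomial R)).eval 1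
      = (N : R) := by
    simp [Polynomial.derivative_X_pow]
  have hmem : (1 : R) - u ∈ IsLocalRing.maximalIdeal R := by
    have : (1 : R) - u = -(u - 1) := by ring
    rw [this]
    exact neg_mem hu
  obtain ⟨a, ha, ha1⟩ := HenselianLocalRing.is_henselian
    (Polynomial.X ^ N - Polynomial.C u) (Polynomial.monic_X_pow_sub_C u hN0) 1
    (by rw [e1]; exact hmem) (by rw [e2]; exact hN)
  refine ⟨a, ?_, ha1⟩
  have h : (Polynomial.X ^ N - Polynomial.C u : Polynomial R).eval a = 0 := ha
  simp only [Polynomial.eval_sub, Polynomial.eval_pow,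
    Polynomial.eval_X, Polynomial.eval_C] at h
  exact sub_eq_zero.mp h

lemma eq_one_of_pow_eq_one (N : ℕ) (hN : IsUnit (N : R)) (r : R)
    (hr : r - 1 ∈ IsLocalRing.maximalIdeal R) (hrN : r ^ N = 1) : r = 1 := by
  have h1 : (r - 1) * ∑ i ∈ Finset.range N, r ^ i = 0 := by
    rw [mul_geom_sum, hrN, sub_self]
  have hS : IsUnit (∑ i ∈ Finset.range N, r ^ i) := by
    rw [← IsLocalRing.residue_ne_zero_iff_isUnit]
    have hres : IsLocalRing.residue R r = 1 := by
      have := (IsLocalRing.residue_eq_zero_iff (r - 1)).2 hr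
      rw [map_sub, map_one, sub_eq_zero] at this
      exact this
    rw [map_sum]
    simp only [map_pow, hres, one_pow, Finset.sum_const, Finset.card_range, nsmul_eq_mul,
      mul_one]
    have := (IsLocalRing.residue_ne_zero_iff_isUnit (N : R)).2 hN
    rwa [map_natCast] at this
  have := hS.mul_left_eq_zero.mp h1
  exact sub_eq_zero.mp this

end Hensel

section Abstract

variable {k G : Type} [CommRing k] [Group G] {A B : Rep.{0} k G} (φ : A ⟶ B)

/-- kernel submodule -/
abbrev W : Submodule k A.V := LinearMap.ker φ.hom.toLinearMap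

lemma mem_W (a : A.V) : a ∈ W φ ↔ φ.hom a = 0 := Iff.rfl

lemma hW (g : G) : W φ ≤ (W φ).comap (A.ρ g) := by
  intro a ha
  rw [Submodule.mem_comap, mem_W]
  rw [mem_W] at ha
  rw [Rep.hom_comm_apply, ha, map_zero]

noncomputable abbrev K : Rep.{0} k G := A.subrepresentation (W φ) (hW φ)

noncomputable abbrev ι : K φ ⟶ A := A.subtype (W φ) (hW φ)

noncomputable def X : ShortComplex (Rep.{0} k G) where
  X₁ := K φ
  X₂ := A
  X₃ := B
  f := ι φ
  g := φ
  zero := by
    apply Rep.hom_ext
    apply Representation.IntertwiningMap.ext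
    apply LinearMap.ext
    intro l
    exact LinearMap.mem_ker.mp l.2

lemma X_shortExact (hsurj : Function.Surjective φ.hom) : (X φ).ShortExact where
  exact := by
    rw [← ShortComplex.exact_map_iff_of_faithful _ (forget₂ (Rep.{0} k G) (ModuleCat.{0} k)),
      ShortComplex.moduleCat_exact_iff]
    intro a ha
    exact ⟨⟨a, ha⟩, rfl⟩
  mono_f := by
    rw [Rep.mono_iff_injective]
    intro a b hab
    exact Subtype.ext hab
  epi_g := by
    rw [Rep.epi_iff_surjective]
    exact hsurj

lemma isIso_smul (N : ℕ) (hdiv : ∀ a : A, φ.hom a = 0 → ∃ b : A, φ.hom b = 0 ∧ N • b = a)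
    (hinj : ∀ a : A, φ.hom a = 0 → N • a = 0 → a = 0) :
    IsIso (((N : ℤ)) • 𝟙 (K φ)) := by
  have happ : ∀ x : (K φ), (((N : ℤ)) • 𝟙 (K φ)).hom x = N • x := by
    intro x
    rw [Rep.zsmul_hom, Representation.IntertwiningMap.coe_zsmul]
    simp [natCast_zsmul]
  haveI : Mono (((N : ℤ)) • 𝟙 (K φ)) := by
    rw [Rep.mono_iff_injective]
    intro x y hxy
    rw [happ, happ] at hxy
    have h0 : N • (x - y) = 0 := by rw [smul_sub, hxy, sub_self]
    have : x - y = 0 := by
      apply Subtype.ext
      apply hinj (x - y).1 (x - y).2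
      exact congrArg Subtype.val h0
    exact sub_eq_zero.mp this
  haveI : Epi (((N : ℤ)) • 𝟙 (K φ)) := by
    rw [Rep.epi_iff_surjective]
    intro x
    obtain ⟨b, hb, hNb⟩ := hdiv x.1 x.2
    refine ⟨⟨b, hb⟩, ?_⟩
    rw [happ]
    exact Subtype.ext hNb
  exact isIso_of_mono_of_epi _

end Abstract

section Norm

variable {k : Type} [CommRing k] (G : Type) [Group G] [Fintype G]

noncomputable def eps : Rep.leftRegular k G ⟶ Rep.trivial k G k :=
  Rep.leftRegularHom (Rep.trivial k G k) (1 : k)

noncomputable def normElt : MonoidAlgebra k G := ∑ g : G, MonoidAlgebra.single g (1 : k)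

noncomputable def nu : Rep.trivial k G k ⟶ Rep.leftRegular k G :=
  Rep.ofHom (ρ := Representation.trivial k G k) (σ := Representation.ofMulAction k G G)
    ⟨LinearMap.toSpanSingleton k (MonoidAlgebra k G) (normElt G), fun g => by
      apply LinearMap.ext_ring
      simp only [LinearMap.comp_apply, LinearMap.toSpanSingleton_apply, one_smul]
      have h1 : (Representation.trivial k G k) g (1 : k) = 1 := rfl
      rw [h1, one_smul, normElt, map_sum]
      simp only [Representation.ofMulAction_single, smul_eq_mul]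
      exact (Fintype.sum_equiv (Equiv.mulLeft g) (fun h => MonoidAlgebra.single (g * h) (1 : k))
        (fun h => MonoidAlgebra.single h (1 : k)) (fun h => rfl)).symm⟩

lemma nu_eps : nu (k := k) G ≫ eps G = ((Fintype.card G : ℤ)) • 𝟙 (Rep.trivial k G k) := by
  apply Rep.hom_ext
  apply Representation.IntertwiningMap.ext
  apply LinearMap.ext_ring
  show (eps (k := k) G).hom ((nu G).hom (1 : k)) =
    ((Fintype.card G : ℤ) • 𝟙 (Rep.trivial k G k)).hom (1 : k)
  have h1 : (nu (k := k) G).hom (1 : k) = normElt G := by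
    show (LinearMap.toSpanSingleton k (MonoidAlgebra k G) (normElt G)) 1 = _
    rw [LinearMap.toSpanSingleton_apply, one_smul]
  have h2 : (eps (k := k) G).hom (normElt G) = (Fintype.card G : k) := by
    rw [normElt, map_sum]
    have : ∀ h : G, (eps (k := k) G).hom (MonoidAlgebra.single h (1 : k)) = (1 : k) := by
      intro h
      rw [eps, Rep.leftRegularHom_hom_single]
      simp
    rw [Finset.sum_congr rfl (fun h _ => this h)]
    simp
  rw [h1, h2, Rep.zsmul_hom, Representation.IntertwiningMap.coe_zsmul]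
  simp

lemma ext_smul_zero (M : Rep.{0} k G) (m : ℕ) :
    ((Fintype.card G : ℤ)) •
      𝟙 (((Ext k (Rep.{0} k G) (m + 1)).obj (Opposite.op (Rep.trivial k G k))).obj M) = 0 := by
  have h1 : ((Ext k (Rep.{0} k G) (m + 1)).map
      (((Fintype.card G : ℤ)) • 𝟙 (Rep.trivial k G k)).op).app M = 0 := by
    rw [← nu_eps, op_comp, Functor.map_comp, NatTrans.comp_app]
    have hz := isZero_Ext_succ_of_projective (R := k) (Rep.leftRegular k G) M m
    rw [hz.eq_zero_of_tgt (((Ext k (Rep.{0} k G) (m + 1)).map (eps G).op).app M), zero_comp]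
  have h2 : ((Ext k (Rep.{0} k G) (m + 1)).map
      (((Fintype.card G : ℤ)) • 𝟙 (Rep.trivial k G k)).op).app M
      = ((Fintype.card G : ℤ)) • 𝟙 _ := by
    have h3 := leftDerived_map_zsmul (((linearYoneda k (Rep.{0} k G)).obj M).rightOp) (m + 1)
      (Rep.trivial k G k) (Fintype.card G : ℤ)
    have h4 := congrArg Quiver.Hom.unop h3
    rw [unop_zsmul] at h4
    exact h4
  rw [← h2, h1]

lemma H_nsmul_zero (M : Rep.{0} k G) (m : ℕ) (x : groupCohomology M (m + 1)) :
    (Fintype.card G) • x = 0 := by
  let e := (groupCohomologyIsoExt M (m + 1)).toLinearEquiv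
  apply e.injective
  rw [map_zero, map_nsmul]
  have h := ext_smul_zero G M m
  have h2 := congrArg (fun f => f.hom (e x)) h
  rw [← modcat_zsmul_id_apply]
  exact h2

lemma isZero_H_of_bij (M : Rep.{0} k G) (hM : IsIso (((Fintype.card G : ℤ)) • 𝟙 M)) (m : ℕ) :
    IsZero (groupCohomology M (m + 1)) := by
  haveI := hM
  have hmap : (groupCohomology.functor k G (m + 1)).map (((Fintype.card G : ℤ)) • 𝟙 M)
      = ((Fintype.card G : ℤ)) • 𝟙 _ := by
    show (HomologicalComplex.homologyFunctor (ModuleCat k) (ComplexShape.up ℕ) (m + 1)).map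
        ((groupCohomology.cochainsFunctor k G).map (((Fintype.card G : ℤ)) • 𝟙 M)) = _
    rw [Functor.map_zsmul, Functor.map_zsmul, CategoryTheory.Functor.map_id,
      CategoryTheory.Functor.map_id]
    rfl
  haveI : IsIso ((groupCohomology.functor k G (m + 1)).map (((Fintype.card G : ℤ)) • 𝟙 M)) :=
    inferInstance
  have inj : Function.Injective
      ((groupCohomology.functor k G (m + 1)).map (((Fintype.card G : ℤ)) • 𝟙 M)).hom :=
    (ModuleCat.mono_iff_injective _).1 inferInstance
  have hx : ∀ z : groupCohomology M (m + 1),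
      ((groupCohomology.functor k G (m + 1)).map (((Fintype.card G : ℤ)) • 𝟙 M)).hom z = 0 := by
    intro z
    rw [hmap]
    have h5 := modcat_zsmul_id_apply (groupCohomology M (m + 1)) (Fintype.card G) z
    rw [H_nsmul_zero G M m z] at h5
    exact h5
  haveI : Subsingleton (groupCohomology M (m + 1)) := by
    refine ⟨fun x y => ?_⟩
    apply inj
    rw [hx x, hx y]
  exact ModuleCat.isZero_of_subsingleton _

end Norm

section Abstract2

variable {k G : Type} [CommRing k] [Group G] {A B : Rep.{0} k G} (φ : A ⟶ B)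

theorem abstract_main [Finite G] (hsurj : Function.Surjective φ.hom)
    (hdiv : ∀ a : A, φ.hom a = 0 → ∃ b : A, φ.hom b = 0 ∧ (Nat.card G) • b = a)
    (hinj : ∀ a : A, φ.hom a = 0 → (Nat.card G) • a = 0 → a = 0) (m : ℕ) :
    Function.Bijective ((groupCohomology.functor k G (m + 1)).map φ).hom := by
  cases nonempty_fintype G
  rw [Nat.card_eq_fintype_card] at hdiv hinj
  have hiso := isIso_smul φ (Fintype.card G) hdiv hinj
  have hX := X_shortExact φ hsurj
  have z1 : IsZero (groupCohomology (X φ).X₁ (m + 1)) := isZero_H_of_bij G (K φ) hiso m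
  have z2 : IsZero (groupCohomology (X φ).X₁ (m + 1 + 1)) :=
    isZero_H_of_bij G (K φ) hiso (m + 1)
  have hS := groupCohomology.map_cochainsFunctor_shortExact hX
  have e2 := hS.homology_exact₂ (m + 1)
  have e3 := hS.homology_exact₃ (m + 1) (m + 1 + 1) rfl
  have hmono : Mono ((groupCohomology.functor k G (m + 1)).map φ) :=
    e2.mono_g (z1.eq_of_src _ _)
  have hepi : Epi ((groupCohomology.functor k G (m + 1)).map φ) :=
    e3.epi_f (z2.eq_of_tgt _ _)
  exact ⟨(ModuleCat.mono_iff_injective _).1 hmono, (ModuleCat.epi_iff_surjective _).1 hepi⟩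

end Abstract2

section Concrete

variable (R : Type) [CommRing R] [HenselianLocalRing R] (p : ℕ)
  [CharP (IsLocalRing.ResidueField R) p]
  (G : Type) [Group G] [Finite G] [MulSemiringAction G R]

include p in
lemma isUnit_card (hp : ¬ p ∣ Nat.card G) : IsUnit ((Nat.card G : ℕ) : R) := by
  rw [← IsLocalRing.residue_ne_zero_iff_isUnit, map_natCast]
  intro h
  exact hp ((CharP.cast_eq_zero_iff (IsLocalRing.ResidueField R) p (Nat.card G)).1 h)

theorem main (hp : ¬ p ∣ Nat.card G)
    (φ : Rep.ofMulDistribMulAction G Rˣ ⟶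
      Rep.ofMulDistribMulAction G (IsLocalRing.ResidueField R)ˣ)
    (hφ : ∀ x : Rˣ, Additive.toMul (φ.hom (Additive.ofMul x)) =
      Units.map (IsLocalRing.residue R).toMonoidHom x)
    (n : ℕ) (hn : 1 ≤ n) :
    Function.Bijective ((groupCohomology.functor ℤ G n).map φ).hom := by
  obtain ⟨m, rfl⟩ : ∃ m, n = m + 1 := ⟨n - 1, by omega⟩
  have hNu := isUnit_card R p G hp
  have hφ' : ∀ x : Rˣ, φ.hom (Additive.ofMul x) =
      (Additive.ofMul (Units.map (IsLocalRing.residue R).toMonoidHom x) :
        Additive (IsLocalRing.ResidueField R)ˣ) := fun x => hφ x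
  have key : ∀ x : Rˣ, φ.hom (Additive.ofMul x) =
      (0 : Additive (IsLocalRing.ResidueField R)ˣ) ↔
      (x : R) - 1 ∈ IsLocalRing.maximalIdeal R := by
    intro x
    constructor
    · intro h0
      have h : (Additive.ofMul (Units.map (IsLocalRing.residue R).toMonoidHom x) :
          Additive (IsLocalRing.ResidueField R)ˣ) = 0 := (hφ' x).symm.trans h0
      rw [ofMul_eq_zero] at h
      have h2 : IsLocalRing.residue R (x : R) = 1 := by
        have := congrArg (fun u : (IsLocalRing.ResidueField R)ˣ =>
          (u : IsLocalRing.ResidueField R)) h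
        simpa using this
      rw [← IsLocalRing.residue_eq_zero_iff, map_sub, map_one, h2, sub_self]
    · intro hx
      have h2 : IsLocalRing.residue R (x : R) = 1 := by
        have := (IsLocalRing.residue_eq_zero_iff _).2 hx
        rwa [map_sub, map_one, sub_eq_zero] at this
      have h3 : Units.map (IsLocalRing.residue R).toMonoidHom x = 1 := by
        ext
        simpa using h2
      refine (hφ' x).trans ?_
      rw [h3]
      rfl
  have hsurj : ∀ b : Additive (IsLocalRing.ResidueField R)ˣ, ∃ a : Additive Rˣ,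
      φ.hom a = b := by
    intro b
    obtain ⟨x, hx⟩ := IsLocalRing.surjective_units_map_of_local_ringHom (IsLocalRing.residue R)
      IsLocalRing.residue_surjective inferInstance (Additive.toMul b)
    refine ⟨Additive.ofMul x, ?_⟩
    refine (hφ' x).trans ?_
    rw [hx]
    rfl
  have hdiv : ∀ a : Additive Rˣ, φ.hom a = (0 : Additive (IsLocalRing.ResidueField R)ˣ) →
      ∃ b : Additive Rˣ, φ.hom b = (0 : Additive (IsLocalRing.ResidueField R)ˣ) ∧
        (Nat.card G) • b = a := by
    intro a ha
    have hm := (key (Additive.toMul a)).1 ha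
    obtain ⟨v, hv, hv1⟩ := exists_root (Nat.card G) hNu _ hm
    have hvu : IsUnit v := by
      have : IsUnit (v ^ Nat.card G) := by rw [hv]; exact (Additive.toMul a).isUnit
      exact (isUnit_pow_iff Nat.card_pos.ne').1 this
    refine ⟨Additive.ofMul hvu.unit, (key _).2 (by simpa using hv1), ?_⟩
    rw [← ofMul_pow]
    show Additive.ofMul (hvu.unit ^ Nat.card G) = Additive.ofMul (Additive.toMul a)
    congr 1
    ext
    simpa using hv
  have hinj : ∀ a : Additive Rˣ, φ.hom a = (0 : Additive (IsLocalRing.ResidueField R)ˣ) →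
      (Nat.card G) • a = 0 → a = 0 := by
    intro a ha hNa
    have hm := (key (Additive.toMul a)).1 ha
    have hxN : (Additive.toMul a) ^ Nat.card G = 1 := by
      have : Additive.toMul ((Nat.card G) • a) = Additive.toMul (0 : Additive Rˣ) :=
        congrArg _ hNa
      rwa [toMul_nsmul, toMul_zero] at this
    have h1 : ((Additive.toMul a : Rˣ) : R) = 1 :=
      eq_one_of_pow_eq_one (Nat.card G) hNu _ hm
        (by rw [← Units.val_pow_eq_pow_val, hxN, Units.val_one])
    have hx1 : Additive.toMul a = 1 := Units.ext h1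
    exact Additive.toMul.injective (hx1.trans toMul_zero.symm)
  exact abstract_main φ hsurj hdiv hinj m

end Concrete

end Aux

/-- For a strictly henselian local ring R whose residue field k has characteristic p ≥ 0, and a finite
group G of order prime to p acting on R by ring automorphisms (hence on the unit groups R^× and
k^×), consider the homomorphism H^n(G, R^×) → H^n(G, k^×) induced by the reduction map. It is
bijective for every n ≥ 2; it is also bijective for n = 1 provided that p = 0 or the only p-power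
root of unity in R is 1. (The reduction map on cohomology is pinned by its values on units; groups,
rings and modules are taken in the lowest universe, as integral coefficients in the group-cohomology
library require.) -/
theorem result (R : Type) [CommRing R]
    [HenselianLocalRing R] [IsSepClosed (IsLocalRing.ResidueField R)] (p : ℕ) [CharP (IsLocalRing.ResidueField R) p]
    (G : Type) [Group G] [Finite G] [MulSemiringAction G R] (hp : ¬ p ∣ Nat.card G)
    (φ : Rep.ofMulDistribMulAction G Rˣ ⟶ Rep.ofMulDistribMulAction G (IsLocalRing.ResidueField R)ˣ)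
    (hφ : ∀ x : Rˣ, Additive.toMul (φ.hom (Additive.ofMul x)) = Units.map (IsLocalRing.residue R).toMonoidHom x)
    (n : ℕ) (hn : 1 ≤ n) (h1 : n = 1 → p ≠ 0 → ∀ (ζ : Rˣ) (m : ℕ), ζ ^ p ^ m = 1 → ζ = 1) :
    Function.Bijective ((groupCohomology.functor ℤ G n).map φ).hom := by
  exact Aux.main R p G hp φ hφ n hn

end Groth.Agent.S19223
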