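import Groth.Statements.S19227
import Groth.Agent.Lib.Helper8EtGmNorm
import Groth.Agent.Lib.Helper8EtHofPushInj
import Groth.Agent.S0071
import Groth.Agent.S0101

set_option autoImplicit false
universe u
open CategoryTheory AlgebraicGeometry
open Dix

namespace Groth.Agent.S19227

/-- Let f : X → Y be a finite locally free morphism of schemes of constant degree d ≥ 1, so that f is
finite, flat, of finite presentation and surjective. If H²(X_et, G_m) is a torsion group, then
H²(Y_et, G_m) is a torsion group. (The source states this for a finite, flat, finitely presented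
surjection of algebraic stacks and argues with multiplication by the degree of f; the case of
schemes with f of constant degree is what is stated here.) -/
theorem result (X Y : Scheme.{u}) (f : X ⟶ Y) (d : ℕ) (hd : 1 ≤ d)
    (hf : Mor2.IsFinLocFreeOfDeg d f) (hX : IsAddTorsion (Dix.BrCoh X)) :
    IsAddTorsion (Dix.BrCoh Y) := by
  have : IsFinite f := hf.1.1
  have : Limits.PreservesFiniteLimits (EtCoh.pull f) := Groth.Agent.S0101.result f
  have : (EtCoh.HF Y 2).Additive := by
    unfold EtCoh.HF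
    infer_instance
  have hR : Limits.IsZero ((EtCoh.Rpush f 1).obj (EtCoh.Gm X)) :=
    Groth.Agent.S0071.result f (EtCoh.Gm X) 1 le_rfl
  have hinj := Groth.Agent.Lib.Helper8EtHofPushInj.HofPush_two_injective f (EtCoh.Gm X) hR
  have hsm : ∀ (A : AddCommGrpCat.{u + 1}) (m : ℕ) (a : A), (m • 𝟙 A : A ⟶ A).hom a = m • a := by
    intro A m a
    induction m with
    | zero => simp
    | succ m ih =>
      rw [succ_nsmul, succ_nsmul, AddCommGrpCat.hom_add, AddMonoidHom.add_apply, ih]
      rfl
  intro x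
  let Nm := Groth.Agent.Lib.Helper8EtGmNorm.normGm f d hf
  let y : EtCoh.H Y ((EtCoh.push f).obj (EtCoh.Gm X)) 2 :=
    ((EtCoh.HF Y 2).map (EtLim.GmPush f)).hom x
  obtain ⟨n, hn, hny⟩ :=
    isOfFinAddOrder_iff_nsmul_eq_zero.1 (hX (EtLim.HofPush f (EtCoh.Gm X) 2 y))
  have h1 : n • y = 0 := hinj (by rw [map_nsmul, hny, map_zero])
  have h2 : ((EtCoh.HF Y 2).map Nm).hom y = d • x := by
    have e1 : (EtCoh.HF Y 2).map (EtLim.GmPush f) ≫ (EtCoh.HF Y 2).map Nm =
        d • 𝟙 ((EtCoh.HF Y 2).obj (EtCoh.Gm Y)) := by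
      rw [← CategoryTheory.Functor.map_comp, Groth.Agent.Lib.Helper8EtGmNorm.GmPush_normGm,
        Functor.map_nsmul, CategoryTheory.Functor.map_id]
    have e2 := congrArg (fun m : (EtCoh.HF Y 2).obj (EtCoh.Gm Y) ⟶ (EtCoh.HF Y 2).obj (EtCoh.Gm Y) =>
      m.hom x) e1
    exact e2.trans (hsm ((EtCoh.HF Y 2).obj (EtCoh.Gm Y)) d x)
  rw [isOfFinAddOrder_iff_nsmul_eq_zero]
  refine ⟨n * d, Nat.mul_pos hn hd, ?_⟩
  rw [mul_nsmul', ← h2]
  have h3 := (map_nsmul ((EtCoh.HF Y 2).map Nm).hom n y).symm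
  exact h3.trans ((congrArg ((EtCoh.HF Y 2).map Nm).hom h1).trans (map_zero _))

end Groth.Agent.S19227
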