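import Groth.Statements.S19273
import Mathlib

set_option autoImplicit false
universe u
open CAlg

namespace Groth.Agent.S19273

open KaehlerDifferential in
/-- Let A be an integral domain of prime characteristic p, x_1, …, x_N elements of A, r ≤ N, B =
A[1/(x_1⋯x_r)] with u_i the unit of B defined by x_i for i ≤ r, and suppose that the module Ω_A of
absolute Kähler differentials of A is free with a basis b indexed by {1, …, N} ⊔ ι whose i-th vector
is d(x_i) for i ≤ N. Then the module of logarithmic 1-forms — the A-submodule of Ω_B spanned by the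
image of Ω_A and the forms u_i⁻¹ · d(x_i), i ≤ r — is a free A-module: it has a basis indexed by {1,
…, N} ⊔ ι whose vector at i ≤ r is u_i⁻¹ · d(x_i), at r < i ≤ N is d(x_i), and at k ∈ ι is the image
of b_k. (In the published statement A is a regular local F-finite algebra over the prime field with
maximal ideal (x_1, …, x_N), the basis of Ω_A comes from the preceding lemma, and the assertion
covers the logarithmic q-forms for all q together with their identification with the log de Rham
complex of the log ring; only the degree-one freeness is stated here, from the properties of A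
actually used.) -/
theorem result (p : ℕ) [Fact p.Prime]
    {A B : Type u} [CommRing A] [IsDomain A] [CharP A p] [CommRing B] [Algebra A B] {r N : ℕ}
    (hr : r ≤ N) (x : Fin N → A) [IsLocalization.Away (∏ i : Fin r, x (Fin.castLE hr i)) B]
    (u : Fin r → Bˣ) (hu : ∀ i, (u i : B) = algebraMap A B (x (Fin.castLE hr i)))
    {ι : Type u} (b : Module.Basis (Fin N ⊕ ι) A (Ω[A⁄ℤ])) (hb : ∀ i, b (Sum.inl i) = D ℤ A (x i)) :
    ∃ e : Module.Basis (Fin N ⊕ ι) A
        (W4c6katofilta.logForms1 (fun i : Fin r => x (Fin.castLE hr i)) u),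
      (∀ i : Fin r, (e (Sum.inl (Fin.castLE hr i)) : Ω[B⁄ℤ]) =
          ((u i)⁻¹ : Bˣ) • KaehlerDifferential.map ℤ ℤ A B (D ℤ A (x (Fin.castLE hr i)))) ∧
      (∀ i : Fin N, r ≤ (i : ℕ) →
          (e (Sum.inl i) : Ω[B⁄ℤ]) = KaehlerDifferential.map ℤ ℤ A B (D ℤ A (x i))) ∧
      (∀ k : ι, (e (Sum.inr k) : Ω[B⁄ℤ]) = KaehlerDifferential.map ℤ ℤ A B (b (Sum.inr k))) := by
  classical
  set f : A := ∏ i : Fin r, x (Fin.castLE hr i) with hf
  set φ := KaehlerDifferential.map ℤ ℤ A B with hφ
  -- each x i is nonzero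
  have hx : ∀ i, x i ≠ 0 := by
    intro i h
    have := b.ne_zero (Sum.inl i)
    rw [hb, h, map_zero] at this
    exact this rfl
  have hf0 : f ≠ 0 := Finset.prod_ne_zero_iff.mpr fun i _ => hx _
  have hinj : Function.Injective (algebraMap A B) :=
    IsLocalization.injective B (M := Submonoid.powers f)
      (Submonoid.powers_le.mpr (mem_nonZeroDivisors_of_ne_zero hf0))
  -- the B-basis of Ω_B
  let b' : Module.Basis (Fin N ⊕ ι) B (Ω[B⁄ℤ]) :=
    b.ofIsLocalizedModule B (Submonoid.powers f) φ
  have hb' : ∀ j, b' j = φ (b j) := fun j => b.ofIsLocalizedModule_apply B (Submonoid.powers f) φ j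
  let w : Fin N ⊕ ι → Bˣ := fun j =>
    Sum.elim (fun i : Fin N => if h : (i : ℕ) < r then (u ⟨i, h⟩)⁻¹ else 1) (fun _ => 1) j
  let b'' : Module.Basis (Fin N ⊕ ι) B (Ω[B⁄ℤ]) := b'.unitsSMul w
  have hb'' : ∀ j, b'' j = w j • φ (b j) := fun j => by
    rw [← hb']; exact Module.Basis.unitsSMul_apply j
  have hwl : ∀ (i : Fin N) (h : (i : ℕ) < r), w (Sum.inl i) = (u ⟨i, h⟩)⁻¹ := by
    intro i h; simp [w, h]
  have hwl' : ∀ (i : Fin N), r ≤ (i : ℕ) → w (Sum.inl i) = 1 := by
    intro i h; simp [w, not_lt.mpr h]
  have hwr : ∀ k, w (Sum.inr k) = 1 := fun k => rfl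
  have hcast : ∀ (i : Fin N) (h : (i : ℕ) < r), Fin.castLE hr ⟨i, h⟩ = i := fun i h => rfl
  set L := W4c6katofilta.logForms1 (fun i : Fin r => x (Fin.castLE hr i)) u with hL
  have hli : LinearIndependent A b'' := by
    refine b''.linearIndependent.restrict_scalars ?_
    intro a a' h
    apply hinj
    simpa [Algebra.algebraMap_eq_smul_one] using h
  have hmem : ∀ j, b'' j ∈ L := by
    intro j
    rw [hb'']
    rcases j with i | k
    · by_cases h : (i : ℕ) < r
      · rw [hwl i h, hb]
        apply Submodule.subset_span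
        right
        exact ⟨⟨i, h⟩, rfl⟩
      · rw [hwl' i (not_lt.mp h), one_smul]
        exact Submodule.subset_span (Or.inl ⟨_, rfl⟩)
    · rw [hwr, one_smul]
      exact Submodule.subset_span (Or.inl ⟨_, rfl⟩)
  have hspan : L ≤ Submodule.span A (Set.range b'') := by
    rw [hL, W4c6katofilta.logForms1, Submodule.span_le, Set.union_subset_iff]
    constructor
    · rintro _ ⟨ω, rfl⟩
      have hω : ω ∈ Submodule.span A (Set.range b) := by rw [b.span_eq]; trivial
      have : φ ω ∈ Submodule.map φ (Submodule.span A (Set.range b)) := Submodule.mem_map_of_mem hω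
      rw [Submodule.map_span] at this
      refine Submodule.span_le.mpr ?_ this
      rintro _ ⟨_, ⟨j, rfl⟩, rfl⟩
      rcases j with i | k
      · by_cases h : (i : ℕ) < r
        · have h1 : φ (b (Sum.inl i)) = x i • b'' (Sum.inl i) := by
            have h2 : algebraMap A B (x i) = (u ⟨i, h⟩ : B) := by rw [hu ⟨i, h⟩]; rfl
            rw [hb'', hwl i h, algebra_compatible_smul B (x i), h2,
              ← Units.smul_def, smul_smul, mul_inv_cancel, one_smul]
          rw [h1]
          exact Submodule.smul_mem _ _ (Submodule.subset_span ⟨_, rfl⟩)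
        · have h1 : φ (b (Sum.inl i)) = b'' (Sum.inl i) := by
            rw [hb'', hwl' i (not_lt.mp h), one_smul]
          rw [h1]
          exact Submodule.subset_span ⟨_, rfl⟩
      · have h1 : φ (b (Sum.inr k)) = b'' (Sum.inr k) := by
          rw [hb'', hwr, one_smul]
        rw [h1]
        exact Submodule.subset_span ⟨_, rfl⟩
    · rintro _ ⟨i, rfl⟩
      have h1 : ((u i)⁻¹ : Bˣ) • φ (D ℤ A (x (Fin.castLE hr i))) = b'' (Sum.inl (Fin.castLE hr i)) := by
        rw [hb'', hwl (Fin.castLE hr i) i.2, hb]
        rfl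
      show ((u i)⁻¹ : Bˣ) • φ (D ℤ A (x (Fin.castLE hr i))) ∈ _
      rw [h1]
      exact Submodule.subset_span ⟨_, rfl⟩
  let v : Fin N ⊕ ι → L := fun j => ⟨b'' j, hmem j⟩
  have hvli : LinearIndependent A v := LinearIndependent.of_comp L.subtype hli
  have hvspan : ⊤ ≤ Submodule.span A (Set.range v) := by
    rw [← Submodule.map_le_map_iff_of_injective (Submodule.injective_subtype L),
      Submodule.map_span, ← Set.range_comp, Submodule.map_top, Submodule.range_subtype]
    exact hspan
  refine ⟨Module.Basis.mk hvli hvspan, ?_, ?_, ?_⟩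
  · intro i
    rw [Module.Basis.mk_apply]
    show b'' _ = _
    rw [hb'', hwl (Fin.castLE hr i) i.2, hb]
    rfl
  · intro i hi
    rw [Module.Basis.mk_apply]
    show b'' _ = _
    rw [hb'', hwl' i hi, one_smul, hb]
  · intro k
    rw [Module.Basis.mk_apply]
    show b'' _ = _
    rw [hb'', hwr, one_smul]

end Groth.Agent.S19273
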