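import Groth.Statements.S19322
import Mathlib

set_option autoImplicit false
universe v u
open CategoryTheory CategoryTheory.Limits
open SpSeq

namespace Groth.Agent.S19322

namespace Aux

variable {K : Type u} [Field K]

theorem finite_of_mono {X Y : ModuleCat.{v} K} (f : X ⟶ Y) [Mono f] [Module.Finite K Y] :
    Module.Finite K X :=
  Module.Finite.of_injective f.hom ((ModuleCat.mono_iff_injective f).mp inferInstance)

theorem finite_of_epi {X Y : ModuleCat.{v} K} (f : X ⟶ Y) [Epi f] [Module.Finite K X] :
    Module.Finite K Y :=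
  Module.Finite.of_surjective f.hom ((ModuleCat.epi_iff_surjective f).mp inferInstance)

theorem finrank_le_of_mono {X Y : ModuleCat.{v} K} (f : X ⟶ Y) [Mono f] [Module.Finite K Y] :
    Module.finrank K X ≤ Module.finrank K Y :=
  LinearMap.finrank_le_finrank_of_injective ((ModuleCat.mono_iff_injective f).mp inferInstance)

theorem finrank_le_of_epi {X Y : ModuleCat.{v} K} (f : X ⟶ Y) [Epi f] [Module.Finite K X] :
    Module.finrank K Y ≤ Module.finrank K X :=
  LinearMap.finrank_le_finrank_of_surjective
    ((ModuleCat.epi_iff_surjective f).mp inferInstance)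

theorem epi_of_mono_of_finrank_eq {X Y : ModuleCat.{v} K} (f : X ⟶ Y) [Mono f]
    [Module.Finite K X] [Module.Finite K Y]
    (h : Module.finrank K X = Module.finrank K Y) : Epi f := by
  rw [ModuleCat.epi_iff_surjective]
  exact (LinearMap.injective_iff_surjective_of_finrank_eq_finrank h).mp
    ((ModuleCat.mono_iff_injective f).mp inferInstance)

theorem mono_of_epi_of_finrank_eq {X Y : ModuleCat.{v} K} (f : X ⟶ Y) [Epi f]
    [Module.Finite K X] [Module.Finite K Y]
    (h : Module.finrank K X = Module.finrank K Y) : Mono f := by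
  rw [ModuleCat.mono_iff_injective]
  exact (LinearMap.injective_iff_surjective_of_finrank_eq_finrank h).mpr
    ((ModuleCat.epi_iff_surjective f).mp inferInstance)

/-- homology step -/
theorem hom_step {ι : Type*} {c : ComplexShape ι} (Kc : HomologicalComplex (ModuleCat.{v} K) c)
    (j : ι) [Module.Finite K (Kc.X j)] :
    Module.Finite K (Kc.homology j) ∧
      Module.finrank K (Kc.homology j) ≤ Module.finrank K (Kc.X j) ∧
      (Module.finrank K (Kc.homology j) = Module.finrank K (Kc.X j) →
        Kc.d (c.prev j) j = 0 ∧ Kc.d j (c.next j) = 0) := by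
  haveI hc : Module.Finite K (Kc.cycles j) := finite_of_mono (Kc.iCycles j)
  haveI hh : Module.Finite K (Kc.homology j) := finite_of_epi (Kc.homologyπ j)
  have h1 := finrank_le_of_mono (Kc.iCycles j)
  have h2 := finrank_le_of_epi (Kc.homologyπ j)
  refine ⟨hh, h2.trans h1, fun heq => ?_⟩
  have e1 : Module.finrank K (Kc.cycles j) = Module.finrank K (Kc.X j) := by omega
  have e2 : Module.finrank K (Kc.cycles j) = Module.finrank K (Kc.homology j) := by omega
  haveI := epi_of_mono_of_finrank_eq (Kc.iCycles j) e1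
  haveI := mono_of_epi_of_finrank_eq (Kc.homologyπ j) e2
  constructor
  · have h3 : Kc.toCycles (c.prev j) j = 0 := by
      rw [← cancel_mono (Kc.homologyπ j), zero_comp]
      exact Kc.toCycles_comp_homologyπ _ j
    rw [← Kc.toCycles_i (c.prev j) j, h3, zero_comp]
  · rw [← cancel_epi (Kc.iCycles j), comp_zero]
    exact Kc.iCycles_d j _

section Fil

variable {X : ModuleCat.{v} K} [Module.Finite K X] (F : ℤ → Subobject X) (hF : Antitone F)

theorem finite_sub (S : Subobject X) : Module.Finite K (S : ModuleCat.{v} K) :=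
  finite_of_mono S.arrow

theorem finite_gr (p : ℤ) : Module.Finite K (grPiece F hF p : ModuleCat.{v} K) := by
  haveI := finite_sub (F p)
  have e : Epi (cokernel.π ((F (p + 1)).ofLE (F p) (hF (Int.le_add_one le_rfl)))) := inferInstance
  exact @finite_of_epi _ _ _ _ (cokernel.π ((F (p + 1)).ofLE (F p) (hF (Int.le_add_one le_rfl)))) e _

theorem finrank_step (p : ℤ) :
    Module.finrank K (F p : ModuleCat.{v} K) =
      Module.finrank K (F (p + 1) : ModuleCat.{v} K) + Module.finrank K (grPiece F hF p : ModuleCat.{v} K) := by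
  haveI := finite_sub (F p)
  haveI := finite_sub (F (p + 1))
  haveI := finite_gr F hF p
  let f := (F (p + 1)).ofLE (F p) (hF (Int.le_add_one le_rfl))
  let S : ShortComplex (ModuleCat.{v} K) := ShortComplex.mk f (cokernel.π f) (cokernel.condition f)
  have hS : S.ShortExact :=
    { exact := ShortComplex.exact_cokernel f
      mono_f := by dsimp [S, f]; infer_instance
      epi_g := by dsimp [S]; infer_instance }
  haveI : Module.Finite K S.X₁ := finite_sub (F (p + 1))
  haveI : Module.Finite K S.X₃ := finite_gr F hF p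
  exact ModuleCat.free_shortExact_finrank_add hS rfl rfl

theorem finrank_top : Module.finrank K ((⊤ : Subobject X) : ModuleCat.{v} K) = Module.finrank K X :=
  LinearEquiv.finrank_eq (asIso (⊤ : Subobject X).arrow).toLinearEquiv

theorem finrank_bot : Module.finrank K ((⊥ : Subobject X) : ModuleCat.{v} K) = 0 := by
  have h : IsZero ((⊥ : Subobject X) : ModuleCat.{v} K) :=
    IsZero.of_iso (isZero_zero _) Subobject.botCoeIsoZero
  haveI : Subsingleton ((⊥ : Subobject X) : ModuleCat.{v} K) := ModuleCat.subsingleton_of_isZero h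
  exact Module.finrank_zero_of_subsingleton

theorem sum_gr (a b : ℤ) (ha : F a = ⊤) (hb : F b = ⊥) (lo hi : ℤ) (hlo : lo ≤ a) (hhi : b ≤ hi)
    (hlohi : lo ≤ hi) :
    ∑ p ∈ Finset.Ico lo hi, Module.finrank K (grPiece F hF p : ModuleCat.{v} K) = Module.finrank K X := by
  have key : ∀ (h : ℤ), lo ≤ h →
      ∑ p ∈ Finset.Ico lo h, Module.finrank K (grPiece F hF p : ModuleCat.{v} K) +
        Module.finrank K (F h : ModuleCat.{v} K) = Module.finrank K (F lo : ModuleCat.{v} K) := by
    intro h hh
    induction h, hh using Int.le_induction with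
    | base => simp
    | succ h hh ih =>
      rw [Finset.Ico_add_one_right_eq_Icc, ← Finset.Ico_insert_right hh,
        Finset.sum_insert Finset.right_notMem_Ico, ← ih, finrank_step F hF h]
      ring
  have h1 := key hi hlohi
  have htop : F lo = ⊤ := top_le_iff.mp (ha ▸ hF hlo)
  have hbot : F hi = ⊥ := le_bot_iff.mp (hb ▸ hF hhi)
  rw [htop, hbot, finrank_top, finrank_bot, add_zero] at h1
  exact h1

end Fil

end Aux

/-- Let K be a field and E a cohomological spectral sequence of K-vector spaces, pages from r₀,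
concentrated in the first quadrant on page r₀ and with all terms of page r₀ finite-dimensional, and
let H be abutment data for E whose filtration in degree n is finite, H n finite-dimensional. If the
dimensions of the page-r₀ terms E^{s, n-s}, 0 ≤ s ≤ n, add up to the dimension of H n, then every
position of total degree n is stationary from page r₀ on: all differentials into and out of it
vanish on every page. (The printed statement takes r₀ a positive integer and n ≥ 0; neither
restriction is needed.) -/
theorem result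
    {K : Type u} [Field K] {r₀ : ℤ}
    (E : CohomologicalSpectralSequence (ModuleCat.{v} K) r₀) (H : ℤ → ModuleCat.{v} K)
    (a : SpSeq.Abutment E H) (n : ℤ) (hfin : a.IsFinite n)
    (hquad : ∀ pq : ℤ × ℤ, pq.1 < 0 ∨ pq.2 < 0 → IsZero ((E.page r₀ le_rfl).X pq))
    (hfd : ∀ pq : ℤ × ℤ, Module.Finite K ((E.page r₀ le_rfl).X pq))
    (hH : Module.Finite K (H n))
    (hsum : ∑ s ∈ Finset.Icc (0 : ℤ) n, Module.finrank K ((E.page r₀ le_rfl).X (s, n - s)) =
      Module.finrank K (H n)) :
    ∀ s : ℤ, SpSeq.StationaryAt E (s, n - s) r₀ := by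
  classical
  have hpage : ∀ (r : ℤ) (hr : r₀ ≤ r) (pq : ℤ × ℤ),
      Module.Finite K ((E.page r hr).X pq) ∧
      Module.finrank K ((E.page r hr).X pq) ≤ Module.finrank K ((E.page r₀ le_rfl).X pq) ∧
      (Module.finrank K ((E.page r hr).X pq) = Module.finrank K ((E.page r₀ le_rfl).X pq) →
        ∀ (r' : ℤ) (hr' : r₀ ≤ r'), r' < r →
          (E.page r' hr').d (pq - (r', 1 - r')) pq = 0 ∧
            (E.page r' hr').d pq (pq + (r', 1 - r')) = 0) := by
    intro r hr
    induction r, hr using Int.le_induction with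
    | base =>
      intro pq
      exact ⟨hfd pq, le_rfl, fun _ r' hr' hlt => absurd hr' (not_le.mpr hlt)⟩
    | succ r hr ih =>
      intro pq
      obtain ⟨hfin_r, hle_r, himp_r⟩ := ih pq
      haveI := hfin_r
      obtain ⟨hfin_h, hle_h, heq_h⟩ := Aux.hom_step (E.page r hr) pq
      have e := (E.iso r (r + 1) pq rfl hr).toLinearEquiv
      have hfr : Module.finrank K ((E.page (r + 1) (by omega)).X pq) =
          Module.finrank K ((E.page r hr).homology pq) := e.finrank_eq.symm
      refine ⟨Module.Finite.equiv e, by omega, fun heq r' hr' hlt => ?_⟩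
      have h1 : Module.finrank K ((E.page r hr).homology pq) =
          Module.finrank K ((E.page r hr).X pq) := by omega
      have h2 : Module.finrank K ((E.page r hr).X pq) =
          Module.finrank K ((E.page r₀ le_rfl).X pq) := by omega
      rcases lt_or_eq_of_le (Int.lt_add_one_iff.mp hlt) with hlt' | rfl
      · exact himp_r h2 r' hr' hlt'
      · obtain ⟨d1, d2⟩ := heq_h h1
        have hprev : (ComplexShape.up' (⟨r', 1 - r'⟩ : ℤ × ℤ)).prev pq = pq - (r', 1 - r') :=
          (ComplexShape.up' (⟨r', 1 - r'⟩ : ℤ × ℤ)).prev_eq' (by simp [ComplexShape.up'])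
        have hnext : (ComplexShape.up' (⟨r', 1 - r'⟩ : ℤ × ℤ)).next pq = pq + (r', 1 - r') :=
          (ComplexShape.up' (⟨r', 1 - r'⟩ : ℤ × ℤ)).next_eq' (by simp [ComplexShape.up'])
        rw [hprev] at d1
        rw [hnext] at d2
        exact ⟨d1, d2⟩
  -- stationarity from equality of dimensions
  have hstat : ∀ pq : ℤ × ℤ,
      Module.finrank K ((E.page (a.rk pq) (a.stat pq).1).X pq) =
        Module.finrank K ((E.page r₀ le_rfl).X pq) → SpSeq.StationaryAt E pq r₀ := by
    intro pq heq
    refine ⟨le_rfl, fun r' h₀ _ => ?_⟩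
    by_cases hlt : r' < a.rk pq
    · exact (hpage (a.rk pq) (a.stat pq).1 pq).2.2 heq r' h₀ hlt
    · exact (a.stat pq).2 r' h₀ (not_lt.mp hlt)
  have hle : ∀ pq : ℤ × ℤ,
      Module.finrank K ((E.page (a.rk pq) (a.stat pq).1).X pq) ≤
        Module.finrank K ((E.page r₀ le_rfl).X pq) := fun pq =>
    (hpage (a.rk pq) (a.stat pq).1 pq).2.1
  have hzero : ∀ pq : ℤ × ℤ, pq.1 < 0 ∨ pq.2 < 0 →
      Module.finrank K ((E.page r₀ le_rfl).X pq) = 0 := by
    intro pq hpq
    haveI : Subsingleton ((E.page r₀ le_rfl).X pq) := ModuleCat.subsingleton_of_isZero (hquad pq hpq)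
    exact Module.finrank_zero_of_subsingleton
  -- graded pieces
  have hβ : ∀ s : ℤ, Module.finrank K ((E.page (a.rk (s, n - s)) (a.stat (s, n - s)).1).X (s, n - s)) =
      Module.finrank K (grPiece (a.fil n) (a.anti n) s : ModuleCat.{v} K) := by
    intro s
    have key : ∀ (m : ℤ) (hm : m = n),
        Module.finrank K (grPiece (a.fil m) (a.anti m) s : ModuleCat.{v} K) =
          Module.finrank K (grPiece (a.fil n) (a.anti n) s : ModuleCat.{v} K) := by
      intro m hm; subst hm; rfl
    rw [← key (s + (n - s)) (by ring)]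
    exact (a.β (s, n - s)).toLinearEquiv.finrank_eq
  obtain ⟨⟨p₀, hp₀⟩, ⟨p₁, hp₁⟩⟩ := hfin
  change a.fil n p₀ = ⊤ at hp₀
  change a.fil n p₁ = ⊥ at hp₁
  haveI := hH
  set lo : ℤ := min p₀ 0 with hlo
  set hi : ℤ := max (max p₁ (n + 1)) lo with hhi
  have hsumgr := Aux.sum_gr (a.fil n) (a.anti n) p₀ p₁ hp₀ hp₁ lo hi (min_le_left _ _)
    ((le_max_left _ _).trans (le_max_left _ _)) (le_max_right _ _)
  have hsub : Finset.Icc (0 : ℤ) n ⊆ Finset.Ico lo hi := by
    intro s hs
    rw [Finset.mem_Icc] at hs
    rw [Finset.mem_Ico]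
    refine ⟨(min_le_right _ _).trans hs.1, ?_⟩
    have : n + 1 ≤ hi := (le_max_right _ _).trans (le_max_left _ _)
    omega
  have hsum2 : ∑ s ∈ Finset.Icc (0 : ℤ) n,
      Module.finrank K ((E.page (a.rk (s, n - s)) (a.stat (s, n - s)).1).X (s, n - s)) =
      Module.finrank K (H n) := by
    rw [← hsumgr]
    rw [← Finset.sum_subset hsub]
    · exact Finset.sum_congr rfl fun s _ => hβ s
    · intro s _ hs
      rw [← hβ s]
      have : s < 0 ∨ n - s < 0 := by
        rw [Finset.mem_Icc] at hs
        by_contra h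
        push_neg at h
        exact hs ⟨h.1, by omega⟩
      have h0 := hzero (s, n - s) this
      have := hle (s, n - s)
      omega
  have hall : ∀ s ∈ Finset.Icc (0 : ℤ) n,
      Module.finrank K ((E.page (a.rk (s, n - s)) (a.stat (s, n - s)).1).X (s, n - s)) =
        Module.finrank K ((E.page r₀ le_rfl).X (s, n - s)) :=
    (Finset.sum_eq_sum_iff_of_le (fun s _ => hle (s, n - s))).mp (hsum2.trans hsum.symm)
  intro s
  by_cases hs : s ∈ Finset.Icc (0 : ℤ) n
  · exact hstat _ (hall s hs)
  · apply hstat
    have : s < 0 ∨ n - s < 0 := by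
      rw [Finset.mem_Icc] at hs
      by_contra h
      push_neg at h
      exact hs ⟨h.1, by omega⟩
    have h0 := hzero (s, n - s) this
    have := hle (s, n - s)
    omega

end Groth.Agent.S19322
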