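import Groth.Statements.S19323
import Mathlib

set_option autoImplicit false
universe v u
open CategoryTheory CategoryTheory.Limits
open SpSeq

namespace Groth.Agent.S19323

namespace Aux

variable {C : Type u} [Category.{v} C] [Abelian C]

theorem mono_homologyMap {ι : Type*} {c : ComplexShape ι} {K L : HomologicalComplex C c}
    (φ : K ⟶ L) (j : ι) (hK : K.d (c.prev j) j = 0) (hL : L.d (c.prev j) j = 0)
    [Mono (φ.f j)] : Mono (HomologicalComplex.homologyMap φ j) := by
  haveI : Mono (HomologicalComplex.cyclesMap φ j) := by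
    have h : HomologicalComplex.cyclesMap φ j ≫ L.iCycles j = K.iCycles j ≫ φ.f j :=
      HomologicalComplex.cyclesMap_i φ j
    haveI : Mono (HomologicalComplex.cyclesMap φ j ≫ L.iCycles j) := by
      rw [h]; infer_instance
    exact mono_of_mono _ (L.iCycles j)
  haveI := K.isIso_homologyπ _ j rfl hK
  haveI := L.isIso_homologyπ _ j rfl hL
  have h2 : HomologicalComplex.homologyMap φ j =
      inv (K.homologyπ j) ≫ HomologicalComplex.cyclesMap φ j ≫ L.homologyπ j := by
    rw [IsIso.eq_inv_comp]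
    exact (HomologicalComplex.homologyπ_naturality φ j)
  rw [h2]
  infer_instance

end Aux

/-- In an abelian category let E and E' be first-quadrant E₂ cohomological spectral sequences and φ : E
⟶ E' a morphism of spectral sequences such that (i) every differential of E' leaving a position
whose first coordinate is nonzero vanishes, (ii) on every page the map φ at each position followed
by the outgoing differential of E' is zero, and (iii) φ is a monomorphism at every position of page
2. Then E degenerates at page 2. -/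
theorem result
    {C : Type u} [Category.{v} C] [Abelian C]
    (E E' : E₂CohomologicalSpectralSequence C) (φ : E ⟶ E')
    (hE : ∀ pq : ℤ × ℤ, pq.1 < 0 ∨ pq.2 < 0 → IsZero ((E.page 2 le_rfl).X pq))
    (hE' : ∀ pq : ℤ × ℤ, pq.1 < 0 ∨ pq.2 < 0 → IsZero ((E'.page 2 le_rfl).X pq))
    (hd' : ∀ (r : ℤ) (hr : 2 ≤ r) (pq : ℤ × ℤ), pq.1 ≠ 0 →
      (E'.page r hr).d pq (pq + (r, 1 - r)) = 0)
    (hφd : ∀ (r : ℤ) (hr : 2 ≤ r) (pq : ℤ × ℤ),
      (φ.hom r hr).f pq ≫ (E'.page r hr).d pq (pq + (r, 1 - r)) = 0)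
    (hmono : ∀ pq : ℤ × ℤ, Mono ((φ.hom 2 le_rfl).f pq)) :
    SpSeq.Degenerates E 2 := by
  -- vanishing of differentials from the invariants
  have hB : ∀ (r : ℤ) (hr : 2 ≤ r),
      (∀ pq : ℤ × ℤ, pq.1 < 0 ∨ pq.2 < 0 → IsZero ((E.page r hr).X pq)) →
      (∀ pq : ℤ × ℤ, r ≤ pq.1 → Mono ((φ.hom r hr).f pq)) →
      ∀ pq pq' : ℤ × ℤ, (E.page r hr).d pq pq' = 0 := by
    intro r hr hZ hA pq pq'
    by_cases hrel : (ComplexShape.up' (⟨r, 1 - r⟩ : ℤ × ℤ)).Rel pq pq'
    · have hpq' : pq + (r, 1 - r) = pq' := hrel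
      by_cases hneg : pq.1 < 0
      · exact (hZ pq (Or.inl hneg)).eq_of_src _ _
      · haveI : Mono ((φ.hom r hr).f pq') := hA pq' (by rw [← hpq']; simp; omega)
        rw [← cancel_mono ((φ.hom r hr).f pq'), zero_comp, ← (φ.hom r hr).comm pq pq']
        subst hpq'
        exact hφd r hr pq
    · exact (E.page r hr).shape _ _ hrel
  have key : ∀ (r : ℤ) (hr : 2 ≤ r),
      (∀ pq : ℤ × ℤ, pq.1 < 0 ∨ pq.2 < 0 → IsZero ((E.page r hr).X pq)) ∧
      (∀ pq : ℤ × ℤ, r ≤ pq.1 → Mono ((φ.hom r hr).f pq)) := by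
    intro r hr
    induction r, hr using Int.le_induction with
    | base => exact ⟨hE, fun pq _ => hmono pq⟩
    | succ r hr ih =>
      obtain ⟨hZ, hA⟩ := ih
      have hd := hB r hr hZ hA
      refine ⟨fun pq hpq => ?_, fun pq hpq => ?_⟩
      · refine IsZero.of_iso ?_ (E.iso r (r + 1) pq rfl hr).symm
        exact ShortComplex.isZero_homology_of_isZero_X₂ _ (hZ pq hpq)
      · haveI : Mono ((φ.hom r hr).f pq) := hA pq (by omega)
        have hprev : (ComplexShape.up' (⟨r, 1 - r⟩ : ℤ × ℤ)).prev pq = pq - (r, 1 - r) :=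
          (ComplexShape.up' (⟨r, 1 - r⟩ : ℤ × ℤ)).prev_eq' (by simp [ComplexShape.up'])
        have hL : (E'.page r hr).d ((ComplexShape.up' (⟨r, 1 - r⟩ : ℤ × ℤ)).prev pq) pq = 0 := by
          rw [hprev]
          have := hd' r hr (pq - (r, 1 - r)) (by simp; omega)
          rwa [sub_add_cancel] at this
        haveI := Aux.mono_homologyMap (φ.hom r hr) pq (hd _ _) hL
        have hcomm := φ.comm r (r + 1) pq rfl hr
        have : (φ.hom (r + 1) (by omega)).f pq =
            (E.iso r (r + 1) pq rfl hr).inv ≫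
              HomologicalComplex.homologyMap (φ.hom r hr) pq ≫ (E'.iso r (r + 1) pq rfl hr).hom := by
          rw [hcomm, Iso.inv_hom_id_assoc]
        rw [this]
        infer_instance
  refine ⟨le_rfl, fun r' h₀ _ pq pq' => ?_⟩
  exact hB r' h₀ (key r' h₀).1 (key r' h₀).2 pq pq'

end Groth.Agent.S19323
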