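import Groth.Statements.S19329
import Mathlib
import Groth.Agent.Lib.Helper20EffCartier

set_option autoImplicit false
universe u
open CategoryTheory CategoryTheory.Limits AlgebraicGeometry TopologicalSpace
open ModPair

namespace Groth.Agent.S19329

namespace Aux

open nonZeroDivisors Groth.Agent.Lib.Helper20.EffCartier

theorem isUnit_of_span_eq {A : Type*} [CommRing A] {b c v : A} (hb : b ∈ A⁰) (hbc : b = v * c)
    (h : Ideal.span {b} = Ideal.span {c}) : IsUnit v := by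
  have hc : c ∈ Ideal.span {b} := by rw [h]; exact Ideal.mem_span_singleton_self c
  rw [Ideal.mem_span_singleton'] at hc
  obtain ⟨w, hw⟩ := hc
  have h1 : (1 - v * w) * b = 0 := by
    rw [sub_mul, one_mul, mul_assoc, hw, ← hbc, sub_self]
  have h2 : 1 - v * w = 0 := (mem_nonZeroDivisors_iff_right.mp hb) _ h1
  exact IsUnit.of_mul_eq_one w (sub_eq_zero.mp h2).symm

theorem le_basicOpen {Y : Scheme.{u}} (J K' : Y.IdealSheafData) {W : Y.Opens} (hW : IsAffineOpen W)
    (b c v : Γ(Y, W)) (hb : b ∈ Γ(Y, W)⁰) (hJb : J.ideal ⟨W, hW⟩ = Ideal.span {b})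
    (hKc : K'.ideal ⟨W, hW⟩ = Ideal.span {c}) (hbv : b = v * c) (r₀ : Γ(Y, W))
    (hJK : J.ideal ⟨Y.basicOpen r₀, hW.basicOpen r₀⟩ = K'.ideal ⟨Y.basicOpen r₀, hW.basicOpen r₀⟩) :
    Y.basicOpen r₀ ≤ Y.basicOpen v := by
  have h1 := J.map_ideal (U := ⟨Y.basicOpen r₀, hW.basicOpen r₀⟩) (V := ⟨W, hW⟩) (Y.basicOpen_le r₀)
  have h2 := K'.map_ideal (U := ⟨Y.basicOpen r₀, hW.basicOpen r₀⟩) (V := ⟨W, hW⟩) (Y.basicOpen_le r₀)
  rw [hJb, Ideal.map_span, Set.image_singleton] at h1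
  rw [hKc, Ideal.map_span, Set.image_singleton] at h2
  have hnzd : (Y.presheaf.map (homOfLE (Y.basicOpen_le r₀)).op).hom b ∈ Γ(Y, Y.basicOpen r₀)⁰ := by
    have inst := hW.isLocalization_basicOpen r₀
    have h1 : (Y.presheaf.map (homOfLE (Y.basicOpen_le r₀)).op).hom = algebraMap _ _ := rfl
    rw [h1]
    exact IsLocalization.map_nonZeroDivisors_le (.powers r₀) _ (Submonoid.mem_map_of_mem _ hb)
  have hu : IsUnit ((Y.presheaf.map (homOfLE (Y.basicOpen_le r₀)).op).hom v) :=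
    isUnit_of_span_eq hnzd (by rw [hbv]; exact map_mul _ _ _) (h1.trans (hJK.trans h2.symm))
  have h3 := Y.basicOpen_res v (homOfLE (Y.basicOpen_le r₀)).op
  rw [Y.basicOpen_of_isUnit hu] at h3
  intro z hz
  have : z ∈ Y.basicOpen r₀ ⊓ Y.basicOpen v := h3 ▸ hz
  exact this.2

end Aux

/-- Let (X, I), (Y, J), (Z, K) be modulus pairs, i.e. schemes with quasi-coherent ideal sheaves of
effective Cartier divisors, and let f : X ⟶ Y and g : Y ⟶ Z satisfy the modulus conditions I ≤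
J.comap f and J ≤ K.comap g. Suppose the composite X ⟶ Z is minimal, I = K.comap (f ≫ g). Then f is
minimal, and there is an open subset U of Y whose inclusion is quasi-compact, which contains the
image of f, and such that U ⟶ Z is minimal for the modulus of Y restricted to U. -/
theorem result {X Y Z : Scheme.{u}}
    (I : X.IdealSheafData) (J : Y.IdealSheafData) (K : Z.IdealSheafData)
    (hI : BlowUp.IsEffCartierIdeal I) (hJ : BlowUp.IsEffCartierIdeal J)
    (hK : BlowUp.IsEffCartierIdeal K) (f : X ⟶ Y) (g : Y ⟶ Z)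
    (hf : ModPair.IsAmbient I J f) (hg : ModPair.IsAmbient J K g)
    (hfg : ModPair.IsMinimal I K (f ≫ g)) :
    ModPair.IsMinimal I J f ∧
      ∃ U : Y.Opens, QuasiCompact U.ι ∧ Set.range f.base ⊆ (U : Set Y) ∧
        ModPair.IsMinimal (J.comap U.ι) K (U.ι ≫ g) := by
  have hK' : I = (K.comap g).comap f := by
    rw [← Scheme.IdealSheafData.comap_comp]; exact hfg
  have hmin : I = J.comap f :=
    le_antisymm hf (by rw [hK']; exact Scheme.IdealSheafData.comap_mono _ hg)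
  refine ⟨hmin, ?_⟩
  have good : ∀ y : Y, ∃ (W : Y.Opens) (hW : IsAffineOpen W) (b c v : Γ(Y, W)), y ∈ W ∧
      b ∈ nonZeroDivisors Γ(Y, W) ∧ J.ideal ⟨W, hW⟩ = Ideal.span {b} ∧
      (K.comap g).ideal ⟨W, hW⟩ = Ideal.span {c} ∧ b = v * c := by
    intro y
    obtain ⟨WZ, hyWZ, c, -, hKc⟩ := hK (g y)
    obtain ⟨W, hW, hyW, hWle, b, hb, hJb⟩ := Groth.Agent.Lib.Helper20.EffCartier.exists_le_of_isEffCartierIdeal hJ y (g ⁻¹ᵁ WZ.1) hyWZ
    have hKc' : (K.comap g).ideal ⟨W, hW⟩ = Ideal.span {(g.appLE WZ.1 W hWle).hom c} := by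
      rw [Groth.Agent.Lib.Helper20.EffCartier.ideal_comap_eq_map g K hW WZ.2 hWle]
      change (K.ideal WZ).map _ = _
      rw [hKc, Ideal.map_span, Set.image_singleton]
    have hbmem : b ∈ Ideal.span {(g.appLE WZ.1 W hWle).hom c} := by
      rw [← hKc']
      apply hg ⟨W, hW⟩
      rw [hJb]
      exact Ideal.mem_span_singleton_self b
    rw [Ideal.mem_span_singleton'] at hbmem
    obtain ⟨v, hv⟩ := hbmem
    exact ⟨W, hW, b, _, v, hyW, hb, hJb, hKc', hv.symm⟩
  choose W hW b c v hyW hb hJb hKc hbv using good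
  let U : Y.Opens := ⨆ y, Y.basicOpen (v y)
  have hUle : ∀ y, Y.basicOpen (v y) ≤ U := fun y => le_iSup (fun y => Y.basicOpen (v y)) y
  have hA : ∀ y, J.ideal ⟨Y.basicOpen (v y), (hW y).basicOpen (v y)⟩ =
      (K.comap g).ideal ⟨Y.basicOpen (v y), (hW y).basicOpen (v y)⟩ := by
    intro y
    have h1 := J.map_ideal (U := ⟨Y.basicOpen (v y), (hW y).basicOpen (v y)⟩) (V := ⟨W y, hW y⟩)
      (Y.basicOpen_le (v y))
    have h2 := (K.comap g).map_ideal (U := ⟨Y.basicOpen (v y), (hW y).basicOpen (v y)⟩)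
      (V := ⟨W y, hW y⟩) (Y.basicOpen_le (v y))
    rw [hJb y, Ideal.map_span, Set.image_singleton] at h1
    rw [hKc y, Ideal.map_span, Set.image_singleton] at h2
    rw [← h1, ← h2, hbv y, map_mul]
    exact Ideal.span_singleton_mul_left_unit (RingedSpace.isUnit_res_basicOpen _ (v y)) _
  have hB : ∀ y, U ⊓ W y = Y.basicOpen (v y) := by
    intro y
    apply le_antisymm
    · rintro z ⟨hzU, hzW⟩
      obtain ⟨y', hz'⟩ := Opens.mem_iSup.mp hzU
      obtain ⟨r, r₀, he, hzr⟩ := exists_basicOpen_le_affine_inter ((hW y').basicOpen (v y')) (hW y) z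
        ⟨hz', hzW⟩
      have hle1 : Y.basicOpen r₀ ≤ Y.basicOpen (v y') := he ▸ Y.basicOpen_le r
      have hJK : J.ideal ⟨Y.basicOpen r₀, (hW y).basicOpen r₀⟩ =
          (K.comap g).ideal ⟨Y.basicOpen r₀, (hW y).basicOpen r₀⟩ := by
        rw [← J.map_ideal (U := ⟨Y.basicOpen r₀, (hW y).basicOpen r₀⟩)
            (V := ⟨Y.basicOpen (v y'), (hW y').basicOpen (v y')⟩) hle1,
          ← (K.comap g).map_ideal (U := ⟨Y.basicOpen r₀, (hW y).basicOpen r₀⟩)
            (V := ⟨Y.basicOpen (v y'), (hW y').basicOpen (v y')⟩) hle1, hA y']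
      exact Aux.le_basicOpen J (K.comap g) (hW y) (b y) (c y) (v y) (hb y) (hJb y) (hKc y) (hbv y) r₀ hJK
        (he ▸ hzr)
    · exact le_inf (hUle y) (Y.basicOpen_le _)
  have haff : ∀ y, IsAffineOpen (U.ι ⁻¹ᵁ Y.basicOpen (v y)) := fun y =>
    ((hW y).basicOpen (v y)).preimage_of_isOpenImmersion U.ι
      (by rw [Scheme.Opens.opensRange_ι]; exact hUle y)
  refine ⟨U, ?_, ?_, ?_⟩
  · refine IsZariskiLocalAtTarget.of_iSup_eq_top (P := @QuasiCompact) W ?_ ?_
    · rw [eq_top_iff]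
      intro y _
      exact Opens.mem_iSup.mpr ⟨y, hyW y⟩
    · intro y
      haveI : IsAffine (W y).toScheme := hW y
      have hcpt : IsCompact ((U.ι ⁻¹ᵁ W y : U.toScheme.Opens) : Set U.toScheme) := by
        have : (U.ι ⁻¹ᵁ W y) = U.ι ⁻¹ᵁ Y.basicOpen (v y) := by
          rw [← hB y]
          ext z
          constructor
          · intro hz
            exact ⟨z.2, hz⟩
          · intro hz
            exact hz.2
        rw [this]
        exact (haff y).isCompact
      have i1 : CompactSpace ↥((U.ι ⁻¹ᵁ W y).toScheme) := isCompact_iff_compactSpace.mp hcpt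
      have i2 : QuasiSeparatedSpace ↥((W y).toScheme) := inferInstance
      exact @quasiCompact_of_compactSpace _ _ (U.ι ∣_ W y) i1 i2
  · rintro _ ⟨x, rfl⟩
    obtain ⟨V, hV, hxV, hVle, a, ha, hIa⟩ :=
      Groth.Agent.Lib.Helper20.EffCartier.exists_le_of_isEffCartierIdeal hI x (f ⁻¹ᵁ W (f.base x)) (hyW (f.base x))
    set y := f.base x with hy
    have e1 : (J.comap f).ideal ⟨V, hV⟩ = Ideal.span {(f.appLE (W y) V hVle).hom (b y)} := by
      rw [Groth.Agent.Lib.Helper20.EffCartier.ideal_comap_eq_map f J hV (hW y) hVle]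
      change (J.ideal ⟨W y, hW y⟩).map _ = _
      rw [hJb y, Ideal.map_span, Set.image_singleton]
    have e2 : ((K.comap g).comap f).ideal ⟨V, hV⟩ =
        Ideal.span {(f.appLE (W y) V hVle).hom (c y)} := by
      rw [Groth.Agent.Lib.Helper20.EffCartier.ideal_comap_eq_map f (K.comap g) hV (hW y) hVle]
      change ((K.comap g).ideal ⟨W y, hW y⟩).map _ = _
      rw [hKc y, Ideal.map_span, Set.image_singleton]
    have e3 : I.ideal ⟨V, hV⟩ = (J.comap f).ideal ⟨V, hV⟩ := by rw [← hmin]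
    have e4 : I.ideal ⟨V, hV⟩ = ((K.comap g).comap f).ideal ⟨V, hV⟩ := by rw [← hK']
    have hfb : (f.appLE (W y) V hVle).hom (b y) ∈ nonZeroDivisors Γ(X, V) := by
      have h1 : a ∈ Ideal.span {(f.appLE (W y) V hVle).hom (b y)} := by
        rw [← e1, ← e3, hIa]; exact Ideal.mem_span_singleton_self a
      obtain ⟨w, hw⟩ := Ideal.mem_span_singleton'.mp h1
      rw [mem_nonZeroDivisors_iff_right]
      intro z hz
      apply (mem_nonZeroDivisors_iff_right.mp ha) z
      rw [← hw, mul_comm w, ← mul_assoc, hz, zero_mul]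
    have hu : IsUnit ((f.appLE (W y) V hVle).hom (v y)) :=
      Aux.isUnit_of_span_eq hfb (by rw [hbv y, map_mul]) (by rw [← e1, ← e2, ← e3, e4])
    have h3 := Scheme.basicOpen_appLE f V (W y) hVle (v y)
    rw [X.basicOpen_of_isUnit hu] at h3
    have h4 : x ∈ V ⊓ f ⁻¹ᵁ Y.basicOpen (v y) := h3 ▸ hxV
    exact hUle y h4.2
  · change J.comap U.ι = K.comap (U.ι ≫ g)
    rw [Scheme.IdealSheafData.comap_comp]
    refine Scheme.IdealSheafData.ext_of_iSup_eq_top
      (fun y => ⟨U.ι ⁻¹ᵁ Y.basicOpen (v y), haff y⟩) ?_ ?_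
    · rw [eq_top_iff]
      rintro ⟨z, hz⟩ _
      obtain ⟨y, hy⟩ := Opens.mem_iSup.mp hz
      exact Opens.mem_iSup.mpr ⟨y, hy⟩
    · intro y
      change (J.comap U.ι).ideal ⟨U.ι ⁻¹ᵁ Y.basicOpen (v y), haff y⟩ =
        ((K.comap g).comap U.ι).ideal ⟨U.ι ⁻¹ᵁ Y.basicOpen (v y), haff y⟩
      rw [Groth.Agent.Lib.Helper20.EffCartier.ideal_comap_eq_map U.ι J (haff y) ((hW y).basicOpen (v y)) le_rfl,
        Groth.Agent.Lib.Helper20.EffCartier.ideal_comap_eq_map U.ι (K.comap g) (haff y) ((hW y).basicOpen (v y)) le_rfl, hA y]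

end Groth.Agent.S19329
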