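import Groth.Statements.S19331
import Groth.Agent.S0385
import Groth.Agent.Lib.H9ModPair1
import Groth.Agent.Lib.Helper18Strict1

set_option autoImplicit false
universe u
open CategoryTheory CategoryTheory.Limits AlgebraicGeometry TopologicalSpace
open ModPair

namespace Groth.Agent.S19331

/-- Let (S, I) be a modulus pair, i.e. a scheme with the quasi-coherent ideal sheaf of an effective
Cartier divisor, with S quasi-compact and quasi-separated and with interior U, and let t₀ : T₀ ⟶ U
be a finite surjective morphism. Then there are a finite surjective morphism t : T ⟶ S such that the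
pulled-back modulus I.comap t is again the ideal sheaf of an effective Cartier divisor, making T ⟶ S
a minimal morphism of modulus pairs, and an open immersion j : T₀ ⟶ T with image t⁻¹(U) and j ≫ t =
t₀ ≫ (U ⟶ S), so that t₀ is the interior of t. -/
theorem result {S : Scheme.{u}}
    [CompactSpace S] [QuasiSeparatedSpace S] (I : S.IdealSheafData)
    (hI : BlowUp.IsEffCartierIdeal I) {T₀ : Scheme.{u}}
    (t₀ : T₀ ⟶ (ModPair.interior I : Scheme.{u})) [IsFinite t₀] [Surjective t₀] :
    ∃ (T : Scheme.{u}) (t : T ⟶ S) (j : T₀ ⟶ T), IsFinite t ∧ Surjective t ∧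
      BlowUp.IsEffCartierIdeal (I.comap t) ∧ IsOpenImmersion j ∧
      Set.range j.base = t.base ⁻¹' (ModPair.interior I : Set S) ∧
      j ≫ t = t₀ ≫ (ModPair.interior I).ι := by
  classical
  have hqc : QuasiCompact (ModPair.interior I).ι :=
    Groth.Agent.Helper18Strict.quasiCompact_cmpl_ι I hI
  have hdomU : IsSchemeTheoreticallyDominant (ModPair.interior I).ι :=
    Groth.Agent.Lib.H9ModPair1.interior_ι_dominant I hI
  -- Zariski's main theorem for `T₀ ⟶ U ⟶ S`
  obtain ⟨T', j₁, π', hj₁, hj₁qc, hπ', hfac⟩ :=
    Groth.Agent.S0385.result (t₀ ≫ (ModPair.interior I).ι)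
  -- the scheme-theoretic closure of `T₀` in `T'`
  let T := j₁.image
  let j : T₀ ⟶ T := j₁.toImage
  let t : T ⟶ S := j₁.imageι ≫ π'
  have hjt : j ≫ t = t₀ ≫ (ModPair.interior I).ι := by
    show j₁.toImage ≫ j₁.imageι ≫ π' = _
    rw [Scheme.Hom.toImage_imageι_assoc, hfac]
  have hfin : IsFinite t := by
    show IsFinite (j₁.imageι ≫ π')
    infer_instance
  have hjopen : IsOpenImmersion j := by
    show IsOpenImmersion j₁.toImage
    infer_instance
  have hjdom : IsDominant j := by
    show IsDominant j₁.toImage
    infer_instance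
  -- the range of `j` is `t⁻¹(U)`
  let O : T.Opens := t ⁻¹ᵁ ModPair.interior I
  have hrO : Set.range j ⊆ Set.range O.ι := by
    rintro _ ⟨x, rfl⟩
    rw [Scheme.Opens.range_ι]
    show t (j x) ∈ ModPair.interior I
    rw [← Scheme.Hom.comp_apply, hjt, Scheme.Hom.comp_apply]
    exact (t₀ x).2
  let j' : T₀ ⟶ O.toScheme := IsOpenImmersion.lift O.ι j hrO
  have hj' : j' ≫ O.ι = j := IsOpenImmersion.lift_fac _ _ _
  have hj't : j' ≫ (t ∣_ ModPair.interior I) = t₀ := by
    rw [← cancel_mono (ModPair.interior I).ι, Category.assoc, morphismRestrict_ι,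
      ← Category.assoc, hj', hjt]
  have huc : UniversallyClosed j' := by
    have : UniversallyClosed (j' ≫ (t ∣_ ModPair.interior I)) := by rw [hj't]; infer_instance
    exact UniversallyClosed.of_comp_of_isSeparated j' (t ∣_ ModPair.interior I)
  have hdomj' : IsDominant j' := by
    have : IsDominant (j' ≫ O.ι) := by rw [hj']; exact hjdom
    exact IsDominant.of_comp_of_isOpenImmersion j' O.ι
  have hsurjj' : Surjective j' :=
    surjective_of_isDominant_of_isClosed_range j' j'.isClosedMap.isClosed_range
  have hrange : Set.range j.base = t.base ⁻¹' (ModPair.interior I : Set S) := by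
    have h1 : Set.range j = Set.range O.ι := by
      apply Set.Subset.antisymm hrO
      rintro _ ⟨y, rfl⟩
      obtain ⟨x, rfl⟩ := hsurjj'.surj y
      exact ⟨x, by rw [← Scheme.Hom.comp_apply, hj']⟩
    rw [Scheme.Opens.range_ι] at h1
    exact h1
  -- `t⁻¹(U)` is scheme-theoretically dense in `T`
  have hdomO : IsSchemeTheoreticallyDominant (t ⁻¹ᵁ ModPair.interior I).ι := by
    rw [isSchemeTheoreticallyDominant_iff, eq_bot_iff]
    have h1 := Scheme.Hom.le_ker_comp j' O.ι
    rw [hj'] at h1
    have h2 : j.ker = ⊥ := (Groth.Agent.Lib.H9ModPair1.toImage_dominant j₁).ker_eq_bot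
    rw [h2] at h1
    exact h1
  -- surjectivity of `t`
  have hsurjt : Surjective t := by
    have : IsDominant (j ≫ t) := by rw [hjt]; infer_instance
    have : IsDominant t := IsDominant.of_comp (f := j) (g := t)
    exact surjective_of_isDominant_of_isClosed_range t t.isClosedMap.isClosed_range
  exact ⟨T, t, j, hfin, hsurjt, (Groth.Agent.S18732.result I hI t).2, hjopen, hrange, hjt⟩

end Groth.Agent.S19331
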