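import Groth.Statements.S19334
import Mathlib
import Groth.Agent.Lib.Helper20EffCartier

set_option autoImplicit false
universe u
open CategoryTheory CategoryTheory.Limits AlgebraicGeometry TopologicalSpace
open ModPair

namespace Groth.Agent.S19334

/-- Let (X, I) be a modulus pair, i.e. a scheme X with the quasi-coherent ideal sheaf I of an effective
Cartier divisor. Suppose that for every valuation ring R and every morphism p : Spec R ⟶ X along
which the divisor of I pulls back to an effective Cartier divisor on Spec R (so that p is a minimal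
morphism of modulus pairs for the pulled-back modulus), the pulled-back divisor is empty, I.comap p
= ⊤. Then the divisor of I is empty: I = ⊤. -/
theorem result {X : Scheme.{u}}
    (I : X.IdealSheafData) (hI : BlowUp.IsEffCartierIdeal I)
    (h : ∀ (R : Type u) [CommRing R] [IsDomain R] [ValuationRing R]
      (p : Spec (CommRingCat.of R) ⟶ X), BlowUp.IsEffCartierIdeal (I.comap p) → I.comap p = ⊤) :
    I = ⊤ := by
  by_contra hne
  have hsupp : (I.support : Set X).Nonempty := by
    rw [Set.nonempty_iff_ne_empty]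
    intro he
    apply hne
    rw [← Scheme.IdealSheafData.support_eq_bot_iff]
    exact TopologicalSpace.Closeds.ext he
  obtain ⟨x, hx⟩ := hsupp
  obtain ⟨U, hxU, f, hf, hIf⟩ := hI x
  set 𝔭 : PrimeSpectrum Γ(X, U.1) := U.2.primeIdealOf ⟨x, hxU⟩ with h𝔭
  have hf𝔭 : f ∈ 𝔭.asIdeal := by
    have h1 := (Scheme.IdealSheafData.mem_support_iff_of_mem hxU).mp hx
    rw [Scheme.mem_zeroLocus_iff] at h1
    have hxf : x ∉ X.basicOpen f := h1 f (by rw [hIf]; exact Ideal.mem_span_singleton_self f)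
    by_contra hcon
    have h2 : 𝔭 ∈ PrimeSpectrum.basicOpen f := hcon
    rw [← U.2.fromSpec_preimage_basicOpen] at h2
    have h3 : U.2.fromSpec 𝔭 ∈ X.basicOpen f := h2
    rw [h𝔭, U.2.fromSpec_primeIdealOf] at h3
    exact hxf h3
  obtain ⟨q, hqmin, hq𝔭⟩ := Ideal.exists_minimalPrimes_le (bot_le : (⊥ : Ideal Γ(X, U.1)) ≤ 𝔭.asIdeal)
  have hfq : f ∉ q := fun hfq =>
    Set.disjoint_left.mp (Ideal.disjoint_nonZeroDivisors_of_mem_minimalPrimes hqmin) hfq hf
  haveI : q.IsPrime := hqmin.1.1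
  let B := Γ(X, U.1) ⧸ q
  let K := FractionRing B
  let ψ : Γ(X, U.1) →+* K := (algebraMap B K).comp (Ideal.Quotient.mk q)
  have hψ : ∀ s : 𝔭.asIdeal.primeCompl, IsUnit (ψ s) := by
    intro s
    apply IsUnit.mk0
    intro h0
    have h1 : (Ideal.Quotient.mk q) (s : Γ(X, U.1)) = 0 :=
      (IsFractionRing.injective B K) (by rw [map_zero]; exact h0)
    exact s.2 (hq𝔭 (Ideal.Quotient.eq_zero_iff_mem.mp h1))
  let g : Localization.AtPrime 𝔭.asIdeal →+* K := IsLocalization.lift hψ
  obtain ⟨V, hV, hloc⟩ := IsLocalRing.exists_factor_valuationRing g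
  let φ : Γ(X, U.1) →+* V := (g.codRestrict V.toSubring hV).comp (algebraMap _ _)
  have hφf : φ f ≠ 0 := by
    intro h0
    have h1 : ((φ f : V) : K) = 0 := by rw [h0]; rfl
    have h2 : ((φ f : V) : K) = ψ f := IsLocalization.lift_eq hψ f
    rw [h2] at h1
    have h3 : (Ideal.Quotient.mk q) f = 0 :=
      (IsFractionRing.injective B K) (by rw [map_zero]; exact h1)
    exact hfq (Ideal.Quotient.eq_zero_iff_mem.mp h3)
  have hφu : ¬ IsUnit (φ f) := by
    intro hu
    have h1 : IsUnit (algebraMap Γ(X, U.1) (Localization.AtPrime 𝔭.asIdeal) f) :=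
      hloc.map_nonunit _ hu
    rw [IsLocalization.AtPrime.isUnit_to_map_iff (Localization.AtPrime 𝔭.asIdeal) 𝔭.asIdeal] at h1
    exact h1 hf𝔭
  -- the scheme morphism
  let p : Spec (CommRingCat.of V) ⟶ X := Spec.map (CommRingCat.ofHom φ) ≫ U.2.fromSpec
  have hle : (⊤ : (Spec (CommRingCat.of V)).Opens) ≤ p ⁻¹ᵁ U.1 := by
    rw [Scheme.Hom.comp_preimage, U.2.fromSpec_preimage_self]
    exact le_rfl
  have e1 : (⊤ : (Spec Γ(X, U.1)).Opens) ≤ U.2.fromSpec ⁻¹ᵁ U.1 := by
    rw [U.2.fromSpec_preimage_self]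
  have happ : p.appLE U.1 ⊤ hle = CommRingCat.ofHom φ ≫ (Scheme.ΓSpecIso (CommRingCat.of V)).inv := by
    have h2 : U.2.fromSpec.appLE U.1 ⊤ e1 = (Scheme.ΓSpecIso Γ(X, U.1)).inv := by
      rw [Scheme.Hom.appLE, U.2.fromSpec_app_self, Category.assoc, ← Functor.map_comp]
      convert Category.comp_id _
      exact CategoryTheory.Functor.map_id _ _
    have h3 := Scheme.Hom.appLE_comp_appLE (Spec.map (CommRingCat.ofHom φ)) U.2.fromSpec U.1 ⊤ ⊤ e1
      (by exact le_rfl)
    rw [← h3, h2, Scheme.ΓSpecIso_inv_naturality]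
    congr 1
  have hcomap : (I.comap p).ideal ⟨⊤, isAffineOpen_top _⟩ =
      Ideal.span {(p.appLE U.1 ⊤ hle).hom f} := by
    rw [Groth.Agent.Lib.Helper20.EffCartier.ideal_comap_eq_map p I (isAffineOpen_top _) U.2 hle]
    change (I.ideal U).map _ = _
    rw [hIf, Ideal.map_span, Set.image_singleton]
  have hf' : (p.appLE U.1 ⊤ hle).hom f = (Scheme.ΓSpecIso (CommRingCat.of V)).inv.hom (φ f) := by
    rw [happ]; rfl
  have hiso : ∀ z, (Scheme.ΓSpecIso (CommRingCat.of V)).hom.hom
      ((Scheme.ΓSpecIso (CommRingCat.of V)).inv.hom z) = z := by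
    intro z
    have := (Scheme.ΓSpecIso (CommRingCat.of V)).inv_hom_id
    exact congr($(this).hom z)
  have hcart : BlowUp.IsEffCartierIdeal (I.comap p) := by
    intro y
    refine ⟨⟨⊤, isAffineOpen_top _⟩, trivial, (p.appLE U.1 ⊤ hle).hom f, ?_, hcomap⟩
    rw [mem_nonZeroDivisors_iff_right]
    intro z hz
    have h1 : (Scheme.ΓSpecIso (CommRingCat.of V)).hom.hom z * φ f = 0 := by
      have := congr((Scheme.ΓSpecIso (CommRingCat.of V)).hom.hom $hz)
      rw [map_mul, map_zero, hf', hiso] at this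
      exact this
    have h2 : (Scheme.ΓSpecIso (CommRingCat.of V)).hom.hom z = 0 :=
      (mul_eq_zero.mp h1).resolve_right hφf
    have hinj : Function.Injective (Scheme.ΓSpecIso (CommRingCat.of V)).hom.hom :=
      (ConcreteCategory.bijective_of_isIso (Scheme.ΓSpecIso (CommRingCat.of V)).hom).injective
    exact hinj (by rw [h2, map_zero])
  have htop := h V p hcart
  rw [htop] at hcomap
  have h4 : Ideal.span {(p.appLE U.1 ⊤ hle).hom f} = ⊤ := by
    rw [← hcomap]; rfl
  rw [Ideal.span_singleton_eq_top, hf'] at h4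
  apply hφu
  have := h4.map (Scheme.ΓSpecIso (CommRingCat.of V)).hom.hom
  rwa [hiso] at this

end Groth.Agent.S19334
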