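import Groth.Statements.S19335
import Mathlib
import Groth.Agent.Lib.Helper20EffCartier

set_option autoImplicit false
universe u
open CategoryTheory CategoryTheory.Limits AlgebraicGeometry TopologicalSpace
open ModPair

namespace Groth.Agent.S19335

namespace Aux

theorem exists_prime_max_not_mem {V : Type*} [CommRing V] [IsDomain V] (a : V) (ha : a ≠ 0) :
    ∃ Q : Ideal V, Q.IsPrime ∧ a ∉ Q ∧ ∀ P : Ideal V, P.IsPrime → Q < P → a ∈ P := by
  have hdis : Disjoint ((⊥ : Ideal V) : Set V) (Submonoid.powers a : Set V) := by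
    rw [Set.disjoint_left]
    rintro x hx ⟨n, rfl⟩
    have hx' : a ^ n = 0 := hx
    exact ha (eq_zero_of_pow_eq_zero hx')
  have ⟨p, hIp, hp⟩ := zorn_le_nonempty₀ {p : Ideal V | Disjoint (p : Set V) (Submonoid.powers a : Set V)}
    (fun c hc hc' x hx ↦ ?_) ⊥ hdis
  · refine ⟨p, Ideal.isPrime_of_maximally_disjoint _ _ hp.1 (fun _ ↦ hp.not_prop_of_gt), ?_, ?_⟩
    · intro hap
      exact Set.disjoint_left.mp hp.1 hap ⟨1, pow_one a⟩
    · intro P hP hlt
      have := hp.not_prop_of_gt hlt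
      rw [Set.mem_setOf_eq, Set.not_disjoint_iff] at this
      obtain ⟨x, hxP, ⟨n, rfl⟩⟩ := this
      exact hP.mem_of_pow_mem n hxP
  cases isEmpty_or_nonempty c
  · exact ⟨⊥, hdis, fun J hJ ↦ isEmptyElim (⟨J, hJ⟩ : c)⟩
  refine ⟨sSup c, Set.disjoint_left.mpr fun x hx ↦ ?_, fun _ ↦ le_sSup⟩
  have ⟨p, hp⟩ := (Submodule.mem_iSup_of_directed _ hc'.directed).mp (sSup_eq_iSup' c ▸ hx)
  exact Set.disjoint_left.mp (hc p.2) hp

end Aux

/-- Let X be a scheme and I, J quasi-coherent ideal sheaves of effective Cartier divisors D_I ≤ D_J on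
X, i.e. J ≤ I. Suppose that for every valuation ring R and every morphism p : Spec R ⟶ X such that
I.comap p is the ideal sheaf of an effective Cartier divisor on Spec R (so p is a minimal morphism
of modulus pairs for (X, I)) whose open complement consists of the generic point of Spec R only, the
two divisors agree after pull-back, I.comap p = J.comap p. Then I = J. -/
theorem result {X : Scheme.{u}} (I J : X.IdealSheafData)
    (hI : BlowUp.IsEffCartierIdeal I) (hJ : BlowUp.IsEffCartierIdeal J) (hJI : J ≤ I)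
    (h : ∀ (R : Type u) [CommRing R] [IsDomain R] [ValuationRing R]
      (p : Spec (CommRingCat.of R) ⟶ X), BlowUp.IsEffCartierIdeal (I.comap p) →
        (∀ x : Spec (CommRingCat.of R),
          x ∈ (ModPair.interior (I.comap p) : Set (Spec (CommRingCat.of R))) ↔ x.asIdeal = ⊥) →
        I.comap p = J.comap p) :
    I = J := by
  classical
  choose U hxU f hf hIf using hI
  refine Scheme.IdealSheafData.ext_of_iSup_eq_top U ?_ ?_
  · rw [eq_top_iff]
    intro x _
    exact Opens.mem_iSup.mpr ⟨x, hxU x⟩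
  intro x
  by_contra hne
  have hJle : J.ideal (U x) ≤ I.ideal (U x) := hJI (U x)
  have hfJ : f x ∉ J.ideal (U x) := by
    intro hfJ
    apply hne
    apply le_antisymm
    · rw [hIf x, Ideal.span_singleton_le_iff_mem]; exact hfJ
    · exact hJle
  let 𝔞 : Ideal Γ(X, (U x).1) :=
    { carrier := {a : Γ(X, (U x).1) | a * f x ∈ J.ideal (U x)}
      add_mem' := by
        intro a b ha hb
        show (a + b) * f x ∈ J.ideal (U x)
        rw [add_mul]; exact add_mem ha hb
      zero_mem' := by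
        show (0 : Γ(X, (U x).1)) * f x ∈ J.ideal (U x)
        rw [zero_mul]; exact zero_mem _
      smul_mem' := by
        intro c a ha
        show (c • a) * f x ∈ J.ideal (U x)
        rw [smul_eq_mul, mul_assoc]; exact Ideal.mul_mem_left _ c ha }
  have h𝔞 : 𝔞 ≠ ⊤ := by
    rw [Ideal.ne_top_iff_one]
    intro h1
    apply hfJ
    have : 1 * f x ∈ J.ideal (U x) := h1
    rwa [one_mul] at this
  obtain ⟨M, hMmax, h𝔞M⟩ := Ideal.exists_le_maximal 𝔞 h𝔞
  haveI : M.IsPrime := hMmax.isPrime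
  have hJmem : ∀ j ∈ J.ideal (U x), ∃ a ∈ M, j = a * f x := by
    intro j hj
    have := hJle hj
    rw [hIf x, Ideal.mem_span_singleton'] at this
    obtain ⟨a, rfl⟩ := this
    exact ⟨a, h𝔞M hj, rfl⟩
  obtain ⟨q, hqmin, hqM⟩ := Ideal.exists_minimalPrimes_le (bot_le : (⊥ : Ideal Γ(X, (U x).1)) ≤ M)
  have hfq : f x ∉ q := fun hfq =>
    Set.disjoint_left.mp (Ideal.disjoint_nonZeroDivisors_of_mem_minimalPrimes hqmin) hfq (hf x)
  haveI : q.IsPrime := hqmin.1.1
  let B := Γ(X, (U x).1) ⧸ q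
  let K := FractionRing B
  let ψ : Γ(X, (U x).1) →+* K := (algebraMap B K).comp (Ideal.Quotient.mk q)
  have hψ : ∀ s : M.primeCompl, IsUnit (ψ s) := by
    intro s
    apply IsUnit.mk0
    intro h0
    have h1 : (Ideal.Quotient.mk q) (s : Γ(X, (U x).1)) = 0 :=
      (IsFractionRing.injective B K) (by rw [map_zero]; exact h0)
    exact s.2 (hqM (Ideal.Quotient.eq_zero_iff_mem.mp h1))
  let g : Localization.AtPrime M →+* K := IsLocalization.lift hψ
  obtain ⟨V, hV, hloc⟩ := IsLocalRing.exists_factor_valuationRing g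
  let φ₀ : Γ(X, (U x).1) →+* V := (g.codRestrict V.toSubring hV).comp (algebraMap _ _)
  have hφ₀f : φ₀ (f x) ≠ 0 := by
    intro h0
    have h1 : ((φ₀ (f x) : V) : K) = 0 := by rw [h0]; rfl
    have h2 : ((φ₀ (f x) : V) : K) = ψ (f x) := IsLocalization.lift_eq hψ (f x)
    rw [h2] at h1
    have h3 : (Ideal.Quotient.mk q) (f x) = 0 :=
      (IsFractionRing.injective B K) (by rw [map_zero]; exact h1)
    exact hfq (Ideal.Quotient.eq_zero_iff_mem.mp h3)
  obtain ⟨Q, hQprime, hfQ, hQmax⟩ := Aux.exists_prime_max_not_mem (φ₀ (f x)) hφ₀f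
  haveI := hQprime
  haveI : ValuationRing (V ⧸ Q) :=
    Function.Surjective.valuationRing (Ideal.Quotient.mk Q) Ideal.Quotient.mk_surjective
  haveI : IsLocalHom (Ideal.Quotient.mk Q) :=
    IsLocalHom.of_surjective (Ideal.Quotient.mk Q) Ideal.Quotient.mk_surjective
  let φ : Γ(X, (U x).1) →+* (V ⧸ Q) := (Ideal.Quotient.mk Q).comp φ₀
  have hφf : φ (f x) ≠ 0 := by
    intro h0
    exact hfQ (Ideal.Quotient.eq_zero_iff_mem.mp h0)
  have hφM : ∀ a ∈ M, φ a ∈ IsLocalRing.maximalIdeal (V ⧸ Q) := by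
    intro a ha
    rw [IsLocalRing.mem_maximalIdeal, mem_nonunits_iff]
    intro hu
    have h0 : IsUnit (φ₀ a) := IsUnit.of_map (Ideal.Quotient.mk Q) _ hu
    have h1 : IsUnit (algebraMap Γ(X, (U x).1) (Localization.AtPrime M) a) :=
      hloc.map_nonunit _ h0
    rw [IsLocalization.AtPrime.isUnit_to_map_iff (Localization.AtPrime M) M] at h1
    exact h1 ha
  have hprime : ∀ P : Ideal (V ⧸ Q), P.IsPrime → P ≠ ⊥ → φ (f x) ∈ P := by
    intro P hP hPne
    have hlt : Q < P.comap (Ideal.Quotient.mk Q) := by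
      refine lt_of_le_of_ne ?_ ?_
      · intro v hv
        rw [Ideal.mem_comap, Ideal.Quotient.eq_zero_iff_mem.mpr hv]
        exact zero_mem _
      · intro heq
        apply hPne
        rw [eq_bot_iff]
        intro r hr
        obtain ⟨v, rfl⟩ := Ideal.Quotient.mk_surjective r
        have : v ∈ P.comap (Ideal.Quotient.mk Q) := hr
        rw [← heq] at this
        rw [Ideal.mem_bot, Ideal.Quotient.eq_zero_iff_mem]
        exact this
    exact hQmax _ (Ideal.comap_isPrime _ _) hlt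
  -- the scheme morphism
  let p : Spec (CommRingCat.of (V ⧸ Q)) ⟶ X := Spec.map (CommRingCat.ofHom φ) ≫ (U x).2.fromSpec
  have hle : (⊤ : (Spec (CommRingCat.of (V ⧸ Q))).Opens) ≤ p ⁻¹ᵁ (U x).1 := by
    rw [Scheme.Hom.comp_preimage, (U x).2.fromSpec_preimage_self]
    exact le_rfl
  have e1 : (⊤ : (Spec Γ(X, (U x).1)).Opens) ≤ (U x).2.fromSpec ⁻¹ᵁ (U x).1 := by
    rw [(U x).2.fromSpec_preimage_self]
  have happ : p.appLE (U x).1 ⊤ hle =
      CommRingCat.ofHom φ ≫ (Scheme.ΓSpecIso (CommRingCat.of (V ⧸ Q))).inv := by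
    have h2 : (U x).2.fromSpec.appLE (U x).1 ⊤ e1 = (Scheme.ΓSpecIso Γ(X, (U x).1)).inv := by
      rw [Scheme.Hom.appLE, (U x).2.fromSpec_app_self, Category.assoc, ← Functor.map_comp]
      convert Category.comp_id _
      exact CategoryTheory.Functor.map_id _ _
    have h3 := Scheme.Hom.appLE_comp_appLE (Spec.map (CommRingCat.ofHom φ)) (U x).2.fromSpec
      (U x).1 ⊤ ⊤ e1 (by exact le_rfl)
    rw [← h3, h2, Scheme.ΓSpecIso_inv_naturality]
    congr 1
  have hcomapI : (I.comap p).ideal ⟨⊤, isAffineOpen_top _⟩ =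
      Ideal.span {(p.appLE (U x).1 ⊤ hle).hom (f x)} := by
    rw [Groth.Agent.Lib.Helper20.EffCartier.ideal_comap_eq_map p I (isAffineOpen_top _) (U x).2 hle]
    change (I.ideal (U x)).map _ = _
    rw [hIf x, Ideal.map_span, Set.image_singleton]
  have hcomapJ : (J.comap p).ideal ⟨⊤, isAffineOpen_top _⟩ =
      (J.ideal (U x)).map (p.appLE (U x).1 ⊤ hle).hom :=
    Groth.Agent.Lib.Helper20.EffCartier.ideal_comap_eq_map p J (isAffineOpen_top _) (U x).2 hle
  have hf' : ∀ a, (p.appLE (U x).1 ⊤ hle).hom a =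
      (Scheme.ΓSpecIso (CommRingCat.of (V ⧸ Q))).inv.hom (φ a) := by
    intro a
    rw [happ]; rfl
  have hiso : ∀ z, (Scheme.ΓSpecIso (CommRingCat.of (V ⧸ Q))).hom.hom
      ((Scheme.ΓSpecIso (CommRingCat.of (V ⧸ Q))).inv.hom z) = z := by
    intro z
    have := (Scheme.ΓSpecIso (CommRingCat.of (V ⧸ Q))).inv_hom_id
    exact congr($(this).hom z)
  have hinj : Function.Injective (Scheme.ΓSpecIso (CommRingCat.of (V ⧸ Q))).hom.hom :=
    (ConcreteCategory.bijective_of_isIso (Scheme.ΓSpecIso (CommRingCat.of (V ⧸ Q))).hom).injective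
  have hcart : BlowUp.IsEffCartierIdeal (I.comap p) := by
    intro y
    refine ⟨⟨⊤, isAffineOpen_top _⟩, trivial, (p.appLE (U x).1 ⊤ hle).hom (f x), ?_, hcomapI⟩
    rw [mem_nonZeroDivisors_iff_right]
    intro z hz
    have h1 : (Scheme.ΓSpecIso (CommRingCat.of (V ⧸ Q))).hom.hom z * φ (f x) = 0 := by
      have := congr((Scheme.ΓSpecIso (CommRingCat.of (V ⧸ Q))).hom.hom $hz)
      rw [map_mul, map_zero, hf', hiso] at this
      exact this
    have h2 : (Scheme.ΓSpecIso (CommRingCat.of (V ⧸ Q))).hom.hom z = 0 :=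
      (mul_eq_zero.mp h1).resolve_right hφf
    exact hinj (by rw [h2, map_zero])
  have hint : ∀ y : Spec (CommRingCat.of (V ⧸ Q)),
      y ∈ (ModPair.interior (I.comap p) : Set (Spec (CommRingCat.of (V ⧸ Q)))) ↔ y.asIdeal = ⊥ := by
    intro y
    have hsup : y ∈ (I.comap p).support ↔ φ (f x) ∈ y.asIdeal := by
      rw [Scheme.IdealSheafData.mem_support_iff_of_mem (U := ⟨⊤, isAffineOpen_top _⟩) trivial,
        Scheme.mem_zeroLocus_iff]
      change (∀ g ∈ (I.comap p).ideal ⟨⊤, isAffineOpen_top _⟩, _) ↔ _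
      rw [hcomapI, hf']
      constructor
      · intro h1
        have h2 := h1 _ (Ideal.mem_span_singleton_self _)
        rw [basicOpen_eq_of_affine] at h2
        by_contra h3
        exact h2 h3
      · intro h1 g hg
        rw [Ideal.mem_span_singleton'] at hg
        obtain ⟨c, rfl⟩ := hg
        rw [Scheme.basicOpen_mul]
        intro h2
        have h3 := h2.2
        rw [basicOpen_eq_of_affine] at h3
        exact h3 h1
    change y ∈ ((I.comap p).support.compl : Set _) ↔ _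
    rw [TopologicalSpace.Closeds.coe_compl, Set.mem_compl_iff, SetLike.mem_coe, hsup]
    constructor
    · intro h1
      by_contra h2
      exact h1 (hprime y.asIdeal y.isPrime h2)
    · intro h1 h2
      rw [h1, Ideal.mem_bot] at h2
      exact hφf h2
  have heq := h (V ⧸ Q) p hcart hint
  -- derive the contradiction
  have h5 : (p.appLE (U x).1 ⊤ hle).hom (f x) ∈ (J.ideal (U x)).map (p.appLE (U x).1 ⊤ hle).hom := by
    rw [← hcomapJ, ← heq, hcomapI]
    exact Ideal.mem_span_singleton_self _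
  have h6 : φ (f x) ∈ (J.ideal (U x)).map φ := by
    have h7 : (J.ideal (U x)).map (p.appLE (U x).1 ⊤ hle).hom =
        ((J.ideal (U x)).map φ).map (Scheme.ΓSpecIso (CommRingCat.of (V ⧸ Q))).inv.hom := by
      rw [Ideal.map_map]
      congr 1
      ext a
      exact hf' a
    rw [h7, hf'] at h5
    have hsurj : Function.Surjective (Scheme.ΓSpecIso (CommRingCat.of (V ⧸ Q))).inv.hom :=
      (ConcreteCategory.bijective_of_isIso (Scheme.ΓSpecIso (CommRingCat.of (V ⧸ Q))).inv).surjective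
    obtain ⟨r, hr, hre⟩ := (Ideal.mem_map_iff_of_surjective _ hsurj).mp h5
    have hinj' : Function.Injective (Scheme.ΓSpecIso (CommRingCat.of (V ⧸ Q))).inv.hom :=
      (ConcreteCategory.bijective_of_isIso (Scheme.ΓSpecIso (CommRingCat.of (V ⧸ Q))).inv).injective
    rw [← hinj' hre]
    exact hr
  have h8 : (J.ideal (U x)).map φ ≤ Ideal.span {φ (f x)} * IsLocalRing.maximalIdeal (V ⧸ Q) := by
    rw [Ideal.map_le_iff_le_comap]
    intro j hj
    obtain ⟨a, haM, rfl⟩ := hJmem j hj
    rw [Ideal.mem_comap, map_mul, mul_comm (φ a)]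
    exact Ideal.mul_mem_mul (Ideal.mem_span_singleton_self _) (hφM a haM)
  have h9 := h8 h6
  rw [Ideal.mem_span_singleton_mul] at h9
  obtain ⟨z, hz, hze⟩ := h9
  have h10 : φ (f x) * (z - 1) = 0 := by rw [mul_sub, hze, mul_one, sub_self]
  have h11 : z = 1 := by
    have := (mul_eq_zero.mp h10).resolve_left hφf
    exact sub_eq_zero.mp this
  rw [h11] at hz
  exact (Ideal.ne_top_iff_one _).mp (IsLocalRing.maximalIdeal.isMaximal (V ⧸ Q)).ne_top hz

end Groth.Agent.S19335
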