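import Groth.Statements.S19341
import Mathlib
import Groth.Agent.Lib.Helper20EffCartier

set_option autoImplicit false
universe u
open CategoryTheory CategoryTheory.Limits AlgebraicGeometry TopologicalSpace
open ModPair

namespace Groth.Agent.S19341

namespace Aux

open nonZeroDivisors Groth.Agent.Lib.Helper20.EffCartier

/-- common affine neighbourhood on which two effective Cartier ideals are principal -/
theorem exists_common {X : Scheme.{u}} {I₁ I₂ : X.IdealSheafData}
    (h₁ : BlowUp.IsEffCartierIdeal I₁) (h₂ : BlowUp.IsEffCartierIdeal I₂) (x : X) (W : X.Opens)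
    (hxW : x ∈ W) :
    ∃ (U : X.Opens) (hU : IsAffineOpen U), x ∈ U ∧ U ≤ W ∧
      ∃ a b : Γ(X, U), a ∈ Γ(X, U)⁰ ∧ b ∈ Γ(X, U)⁰ ∧ I₁.ideal ⟨U, hU⟩ = Ideal.span {a} ∧
        I₂.ideal ⟨U, hU⟩ = Ideal.span {b} := by
  obtain ⟨U₁, hU₁, hx₁, hle₁, a, ha, hIa⟩ := exists_le_of_isEffCartierIdeal h₁ x W hxW
  obtain ⟨U₂, hU₂, hx₂, hle₂, b, hb, hIb⟩ := exists_le_of_isEffCartierIdeal h₂ x U₁ hx₁
  obtain ⟨r₁, r₂, he, hxr⟩ := exists_basicOpen_le_affine_inter hU₁ hU₂ x ⟨hx₁, hx₂⟩
  have hle₂' : X.basicOpen r₁ ≤ U₂ := he ▸ X.basicOpen_le r₂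
  refine ⟨X.basicOpen r₁, hU₁.basicOpen r₁, hxr, (X.basicOpen_le r₁).trans hle₁,
    (X.presheaf.map (homOfLE (X.basicOpen_le r₁)).op).hom a,
    (X.presheaf.map (homOfLE hle₂').op).hom b, ?_, ?_, ?_, ?_⟩
  · have inst := hU₁.isLocalization_basicOpen r₁
    have h1 : (X.presheaf.map (homOfLE (X.basicOpen_le r₁)).op).hom = algebraMap _ _ := rfl
    rw [h1]
    exact IsLocalization.map_nonZeroDivisors_le (.powers r₁) _ (Submonoid.mem_map_of_mem _ ha)
  · letI := (X.presheaf.map (homOfLE hle₂').op).hom.toAlgebra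
    have inst := hU₂.isLocalization_of_eq_basicOpen r₂ (homOfLE hle₂') he
    have h1 : (X.presheaf.map (homOfLE hle₂').op).hom = algebraMap _ _ := rfl
    rw [h1]
    exact IsLocalization.map_nonZeroDivisors_le (.powers r₂) _ (Submonoid.mem_map_of_mem _ hb)
  · have h2 := I₁.map_ideal (U := ⟨X.basicOpen r₁, hU₁.basicOpen r₁⟩) (V := ⟨U₁, hU₁⟩)
      (X.basicOpen_le r₁)
    rw [hIa, Ideal.map_span, Set.image_singleton] at h2
    exact h2.symm
  · have h2 := I₂.map_ideal (U := ⟨X.basicOpen r₁, hU₁.basicOpen r₁⟩) (V := ⟨U₂, hU₂⟩) hle₂'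
    rw [hIb, Ideal.map_span, Set.image_singleton] at h2
    exact h2.symm

end Aux

/-- Let (S, I_S), (X, I_X), (T, I_T) be modulus pairs, i.e. schemes with quasi-coherent ideal sheaves of
effective Cartier divisors, and f : X ⟶ S, g : T ⟶ S morphisms satisfying the modulus conditions I_X
≤ I_S.comap f and I_T ≤ I_S.comap g. Suppose that the pulled-back ideals I_X.comap pr₁ and I_T.comap
pr₂ on X ×_S T are again ideal sheaves of effective Cartier divisors. Then the pulled-back base
modulus I_S.comap (pr₁ ≫ f) is also the ideal sheaf of an effective Cartier divisor, and the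
scheme-theoretic closure of pr₁⁻¹(X°) ∩ pr₂⁻¹(T°) is all of X ×_S T: its closed immersion into X ×_S
T is an isomorphism. Consequently the box product of (X, I_X) and (T, I_T) over (S, I_S) has total
space X ×_S T with modulus D_X + D_T − D_S. -/
theorem result {X T S : Scheme.{u}}
    (IS : S.IdealSheafData) (IX : X.IdealSheafData) (IT : T.IdealSheafData)
    (hS : BlowUp.IsEffCartierIdeal IS) (hX : BlowUp.IsEffCartierIdeal IX)
    (hT : BlowUp.IsEffCartierIdeal IT) (f : X ⟶ S) (g : T ⟶ S)
    (hf : ModPair.IsAmbient IX IS f) (hg : ModPair.IsAmbient IT IS g)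
    (h₁ : BlowUp.IsEffCartierIdeal (IX.comap (pullback.fst f g)))
    (h₂ : BlowUp.IsEffCartierIdeal (IT.comap (pullback.snd f g))) :
    BlowUp.IsEffCartierIdeal (IS.comap (pullback.fst f g ≫ f)) ∧
      IsIso (ModPair.mprodι f g IX IT) := by
  constructor
  · intro y
    obtain ⟨WS, hyWS, c, hc, hISc⟩ := hS ((pullback.fst f g ≫ f) y)
    obtain ⟨V, hV, hyV, hVW, a, ha, hIa⟩ :=
      Groth.Agent.Lib.Helper20.EffCartier.exists_le_of_isEffCartierIdeal h₁ y
        ((pullback.fst f g ≫ f) ⁻¹ᵁ WS.1) hyWS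
    have hcomap : (IS.comap (pullback.fst f g ≫ f)).ideal ⟨V, hV⟩ =
        Ideal.span {((pullback.fst f g ≫ f).appLE WS.1 V hVW).hom c} := by
      rw [Groth.Agent.Lib.Helper20.EffCartier.ideal_comap_eq_map (pullback.fst f g ≫ f) IS hV WS.2 hVW]
      change (IS.ideal WS).map _ = _
      rw [hISc, Ideal.map_span, Set.image_singleton]
    have hle : IX.comap (pullback.fst f g) ≤ IS.comap (pullback.fst f g ≫ f) := by
      rw [Scheme.IdealSheafData.comap_comp]
      exact Scheme.IdealSheafData.comap_mono _ hf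
    have hale : a ∈ Ideal.span {((pullback.fst f g ≫ f).appLE WS.1 V hVW).hom c} := by
      rw [← hcomap]
      apply hle ⟨V, hV⟩
      rw [hIa]
      exact Ideal.mem_span_singleton_self a
    rw [Ideal.mem_span_singleton'] at hale
    obtain ⟨t, ht⟩ := hale
    refine ⟨⟨V, hV⟩, hyV, ((pullback.fst f g ≫ f).appLE WS.1 V hVW).hom c, ?_, hcomap⟩
    rw [mem_nonZeroDivisors_iff_right]
    intro z hz
    apply (mem_nonZeroDivisors_iff_right.mp ha) z
    rw [← ht, mul_comm t, ← mul_assoc, hz, zero_mul]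
  · change IsIso (ModPair.prodInterior f g IX IT).ι.ker.subschemeι
    rw [Scheme.isIso_subschemeι_iff_eq_bot]
    have hex := fun y => Aux.exists_common h₁ h₂ y ⊤ trivial
    choose W hW hyW _ a b ha hb hIa hIb using hex
    refine Scheme.IdealSheafData.ext_of_iSup_eq_top (fun y => ⟨W y, hW y⟩) ?_ ?_
    · rw [eq_top_iff]
      intro y _
      exact Opens.mem_iSup.mpr ⟨y, hyW y⟩
    intro y
    rw [Scheme.IdealSheafData.ideal_bot, Pi.bot_apply, eq_bot_iff]
    refine (Scheme.Hom.ideal_ker_le _ _).trans ?_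
    intro s hs
    rw [RingHom.mem_ker, Scheme.Opens.ι_app] at hs
    rw [Ideal.mem_bot]
    -- the basic open of a*b is inside the interior
    have hsub : (pullback f g).basicOpen (a y * b y) ≤
        (ModPair.prodInterior f g IX IT).ι ''ᵁ (ModPair.prodInterior f g IX IT).ι ⁻¹ᵁ (W y) := by
      intro z hz
      rw [Scheme.basicOpen_mul] at hz
      have hzW : z ∈ W y := (pullback f g).basicOpen_le _ hz.1
      have hz1 : z ∉ (IX.comap (pullback.fst f g)).support := by
        intro hz1
        rw [Scheme.IdealSheafData.mem_support_iff_of_mem (U := ⟨W y, hW y⟩) hzW,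
          Scheme.mem_zeroLocus_iff] at hz1
        exact hz1 (a y) (by rw [hIa]; exact Ideal.mem_span_singleton_self _) hz.1
      have hz2 : z ∉ (IT.comap (pullback.snd f g)).support := by
        intro hz2
        rw [Scheme.IdealSheafData.mem_support_iff_of_mem (U := ⟨W y, hW y⟩) hzW,
          Scheme.mem_zeroLocus_iff] at hz2
        exact hz2 (b y) (by rw [hIb]; exact Ideal.mem_span_singleton_self _) hz.2
      rw [Scheme.IdealSheafData.support_comap] at hz1 hz2
      have hzint : z ∈ ModPair.prodInterior f g IX IT := ⟨hz1, hz2⟩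
      exact ⟨⟨z, hzint⟩, hzW, rfl⟩
    have hres : s |_ ((pullback f g).basicOpen (a y * b y)) = 0 := by
      have h1 := (congrArg (((pullback f g).presheaf.map (homOfLE hsub).op).hom) hs).trans
        (map_zero _)
      have le2 : (ModPair.prodInterior f g IX IT).ι ''ᵁ (ModPair.prodInterior f g IX IT).ι ⁻¹ᵁ (W y) ≤ W y :=
        Set.image_preimage_subset _ _
      calc s |_ ((pullback f g).basicOpen (a y * b y))
          = ((pullback f g).presheaf.map (homOfLE le2).op ≫
              (pullback f g).presheaf.map (homOfLE hsub).op).hom s := by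
            rw [← Functor.map_comp]; rfl
        _ = 0 := h1
    obtain ⟨n, hn⟩ := exists_pow_mul_eq_zero_of_res_basicOpen_eq_zero_of_isAffineOpen _
      (hW y) s (a y * b y) hres
    have hab : (a y * b y) ^ n ∈ nonZeroDivisors Γ(pullback f g, W y) :=
      pow_mem (mul_mem (ha y) (hb y)) n
    exact (mem_nonZeroDivisors_iff.mp hab).1 s hn

end Groth.Agent.S19341
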