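import Groth.Statements.S19345
import Mathlib

set_option autoImplicit false
universe u
open CategoryTheory CategoryTheory.Limits AlgebraicGeometry TopologicalSpace
open ModPair

namespace Groth.Agent.S19345

namespace Aux

open Polynomial in
/-- over an absolutely integrally closed ring, a root in a domain of a monic polynomial comes from
the base -/
lemma mem_range_of_aeval_eq_zero {A : Type*} [CommRing A] (hA : Curves.IsAIC A)
    {B : Type*} [CommRing B] [IsDomain B] [Algebra A B] :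
    ∀ (d : ℕ) (f : A[X]), f.natDegree = d → f.Monic → ∀ b : B, aeval b f = 0 →
      b ∈ Set.range (algebraMap A B) := by
  intro d
  induction d with
  | zero =>
    intro f hd hm b hb
    have h1 : f = 1 := by
      have := Polynomial.eq_C_of_natDegree_eq_zero hd
      rw [this]
      have hc : f.coeff 0 = 1 := by
        have := hm.coeff_natDegree
        rwa [hd] at this
      rw [hc]
      simp
    rw [h1] at hb
    simp at hb
  | succ d ih =>
    intro f hd hm b hb
    obtain ⟨r, hr⟩ := hA f hm (by omega)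
    have hroot : f.IsRoot r := hr
    have hfac : (X - C r) * (f /ₘ (X - C r)) = f := mul_divByMonic_eq_iff_isRoot.mpr hroot
    haveI : Nontrivial A := (algebraMap A B).domain_nontrivial
    have hgm : (f /ₘ (X - C r)).Monic :=
      (monic_X_sub_C r).of_mul_monic_left (by rw [hfac]; exact hm)
    have hgd : (f /ₘ (X - C r)).natDegree = d := by
      rw [natDegree_divByMonic f (monic_X_sub_C r), hd, natDegree_X_sub_C]
      rfl
    rw [← hfac, map_mul] at hb
    rcases mul_eq_zero.mp hb with h | h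
    · refine ⟨r, ?_⟩
      simp only [map_sub, aeval_X, aeval_C] at h
      exact (sub_eq_zero.mp h).symm
    · exact ih _ hgd hgm b h

/-- over an absolutely integrally closed domain `A`, an integral `A`-algebra `B` with a prime lying
over `0` has a retraction onto `A` -/
lemma exists_retraction {A : Type*} [CommRing A] [IsDomain A] (hA : Curves.IsAIC A)
    {B : Type*} [CommRing B] (φ : A →+* B) (hφ : φ.IsIntegral) (q : Ideal B) [q.IsPrime]
    (hq : q.comap φ = ⊥) : ∃ σ : B →+* A, σ.comp φ = RingHom.id A := by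
  algebraize [φ]
  let ψ : A →+* B ⧸ q := (Ideal.Quotient.mk q).comp φ
  have hinj : Function.Injective ψ := by
    rw [RingHom.injective_iff_ker_eq_bot]
    ext a
    rw [RingHom.mem_ker, Ideal.mem_bot]
    have : ψ a = 0 ↔ a ∈ q.comap φ := by
      simp only [ψ, RingHom.comp_apply, Ideal.Quotient.eq_zero_iff_mem, Ideal.mem_comap]
    rw [this, hq, Ideal.mem_bot]
  have hsurj : Function.Surjective ψ := by
    intro c
    obtain ⟨b, rfl⟩ := Ideal.Quotient.mk_surjective c
    obtain ⟨f, hfm, hfb⟩ := hφ b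
    have h1 : Polynomial.aeval (Ideal.Quotient.mk q b) f = 0 := by
      have h2 : Polynomial.aeval (Ideal.Quotient.mk q b) f =
          Ideal.Quotient.mk q (Polynomial.eval₂ φ b f) := by
        rw [Polynomial.aeval_def, Polynomial.hom_eval₂]
        rfl
      rw [h2, hfb, map_zero]
    obtain ⟨a, ha⟩ := mem_range_of_aeval_eq_zero hA f.natDegree f rfl hfm _ h1
    exact ⟨a, ha⟩
  let e : A ≃+* B ⧸ q := RingEquiv.ofBijective ψ ⟨hinj, hsurj⟩
  refine ⟨(e.symm : B ⧸ q →+* A).comp (Ideal.Quotient.mk q), ?_⟩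
  ext a
  simp only [RingHom.comp_apply, RingHom.id_apply, RingEquiv.coe_toRingHom]
  apply e.injective
  rw [RingEquiv.apply_symm_apply]
  rfl

/-- from locality with respect to a class of coverings, a retraction of some member of a covering
family of spectra -/
lemma exists_retraction_of_local {P : Scheme.{u}} [IsAffine P] (Q : MorphismProperty Scheme.{u})
    (hloc : ∀ (X : Scheme.{u}) (R : Presieve X), R ∈ Scheme.precoverage Q X →
        ∀ g : P ⟶ X, ∃ (Y : Scheme.{u}) (w : Y ⟶ X) (h : P ⟶ Y), R w ∧ h ≫ w = g)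
    {ι : Type*} (B : ι → CommRingCat.{u}) (φ : ∀ i, Γ(P, ⊤) ⟶ B i)
    (hQ : ∀ i, Q (Spec.map (φ i)))
    (hsurj : ∀ p : PrimeSpectrum Γ(P, ⊤), ∃ i, p ∈ Set.range (PrimeSpectrum.comap (φ i).hom)) :
    ∃ i, ∃ σ : B i ⟶ Γ(P, ⊤), φ i ≫ σ = 𝟙 _ := by
  have hR : Presieve.ofArrows (fun i => Spec (B i)) (fun i => Spec.map (φ i)) ∈
      Scheme.precoverage Q (Spec Γ(P, ⊤)) := by
    rw [Scheme.ofArrows_mem_precoverage_iff]
    exact ⟨fun x => hsurj x, hQ⟩
  obtain ⟨Y, w, h, hRw, hw⟩ := hloc _ _ hR P.isoSpec.hom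
  obtain ⟨i⟩ := hRw
  refine ⟨i, Spec.preimage (P.isoSpec.inv ≫ h), ?_⟩
  apply Spec.map_injective
  rw [Spec.map_comp, Spec.map_preimage, Category.assoc, hw, Iso.inv_hom_id, Spec.map_id]

/-- a quasi-separated scheme which is local for Zariski coverings is affine -/
lemma isAffine_of_local (P : Scheme.{u}) [QuasiSeparatedSpace P]
    (hloc : ∀ (X : Scheme.{u}) (R : Presieve X),
        R ∈ Scheme.precoverage (@IsOpenImmersion ⊓ @QuasiCompact) X →
        ∀ g : P ⟶ X, ∃ (Y : Scheme.{u}) (w : Y ⟶ X) (h : P ⟶ Y), R w ∧ h ≫ w = g) :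
    IsAffine P := by
  have hR : Presieve.ofArrows (fun U : P.affineOpens => (U.1 : Scheme.{u}))
      (fun U => U.1.ι) ∈ Scheme.precoverage (@IsOpenImmersion ⊓ @QuasiCompact) P := by
    rw [Scheme.ofArrows_mem_precoverage_iff]
    refine ⟨fun x => ?_, fun U => ?_⟩
    · obtain ⟨_, ⟨U, hU, rfl⟩, hxU, -⟩ := P.isBasis_affineOpens.exists_subset_of_mem_open
        (Set.mem_univ x) isOpen_univ
      refine ⟨⟨U, hU⟩, ?_⟩
      rw [Scheme.Opens.range_ι]
      exact hxU
    · haveI : IsAffine (U.1 : Scheme.{u}) := U.2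
      exact ⟨inferInstance, inferInstance⟩
  obtain ⟨Y, w, h, hRw, hw⟩ := hloc _ _ hR (𝟙 P)
  obtain ⟨U⟩ := hRw
  haveI : IsAffine (U.1 : Scheme.{u}) := U.2
  have h2 : U.1.ι ≫ h = 𝟙 _ := by
    rw [← cancel_mono U.1.ι, Category.assoc, hw, Category.comp_id, Category.id_comp]
  haveI : IsIso h := ⟨U.1.ι, hw, h2⟩
  exact IsAffine.of_isIso h

lemma nonempty_of_local (P : Scheme.{u})
    (hloc : ∀ (X : Scheme.{u}) (R : Presieve X),
        R ∈ Scheme.precoverage (@IsOpenImmersion ⊓ @QuasiCompact) X →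
        ∀ g : P ⟶ X, ∃ (Y : Scheme.{u}) (w : Y ⟶ X) (h : P ⟶ Y), R w ∧ h ≫ w = g) :
    Nonempty P := by
  by_contra hne
  haveI : IsEmpty P := not_nonempty_iff.mp hne
  obtain ⟨Y, w, h, hRw, -⟩ := hloc P ⊥ (Scheme.bot_mem_precoverage _ P) (𝟙 P)
  exact hRw

lemma isLocalRing_of_local (P : Scheme.{u}) [IsAffine P]
    (hloc : ∀ (X : Scheme.{u}) (R : Presieve X),
        R ∈ Scheme.precoverage (@IsOpenImmersion ⊓ @QuasiCompact) X →
        ∀ g : P ⟶ X, ∃ (Y : Scheme.{u}) (w : Y ⟶ X) (h : P ⟶ Y), R w ∧ h ≫ w = g) :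
    IsLocalRing Γ(P, ⊤) := by
  haveI : Nonempty P := nonempty_of_local P hloc
  haveI : Nontrivial Γ(P, ⊤) := by
    have : Nonempty (Spec Γ(P, ⊤)) := ⟨P.isoSpec.hom (Classical.arbitrary P)⟩
    exact (PrimeSpectrum.nonempty_iff_nontrivial).mp this
  apply IsLocalRing.of_isUnit_or_isUnit_one_sub_self
  intro a
  let B : Bool → CommRingCat.{u} := fun t =>
    cond t (CommRingCat.of (Localization.Away a)) (CommRingCat.of (Localization.Away (1 - a)))
  let φ : ∀ t, Γ(P, ⊤) ⟶ B t := fun t =>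
    match t with
    | true => CommRingCat.ofHom (algebraMap Γ(P, ⊤) (Localization.Away a))
    | false => CommRingCat.ofHom (algebraMap Γ(P, ⊤) (Localization.Away (1 - a)))
  have hQ : ∀ t, (@IsOpenImmersion ⊓ @QuasiCompact : MorphismProperty Scheme.{u}) (Spec.map (φ t)) := by
    intro t
    cases t
    · exact ⟨IsOpenImmersion.of_isLocalization (1 - a), inferInstance⟩
    · exact ⟨IsOpenImmersion.of_isLocalization a, inferInstance⟩
  have hsurj : ∀ p : PrimeSpectrum Γ(P, ⊤), ∃ t, p ∈ Set.range (PrimeSpectrum.comap (φ t).hom) := by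
    intro p
    by_cases hap : a ∈ p.asIdeal
    · refine ⟨false, ?_⟩
      change p ∈ Set.range (PrimeSpectrum.comap (algebraMap Γ(P, ⊤) (Localization.Away (1 - a))))
      rw [PrimeSpectrum.localization_away_comap_range (Localization.Away (1 - a)) (1 - a)]
      change (1 - a) ∉ p.asIdeal
      intro h1
      have : (1 : Γ(P, ⊤)) ∈ p.asIdeal := by
        have := p.asIdeal.add_mem h1 hap
        simpa using this
      exact p.isPrime.ne_top ((Ideal.eq_top_iff_one _).mpr this)
    · refine ⟨true, ?_⟩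
      change p ∈ Set.range (PrimeSpectrum.comap (algebraMap Γ(P, ⊤) (Localization.Away a)))
      rw [PrimeSpectrum.localization_away_comap_range (Localization.Away a) a]
      exact hap
  obtain ⟨t, σ, hσ⟩ := exists_retraction_of_local _ hloc B φ hQ hsurj
  have hσ' : ∀ x, σ.hom ((φ t).hom x) = x := fun x => by
    have := congrArg (fun m => m.hom x) hσ
    simpa using this
  cases t
  · right
    rw [← hσ' (1 - a)]
    exact (IsLocalization.Away.algebraMap_isUnit (S := Localization.Away (1 - a)) (1 - a)).map σ.hom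
  · left
    rw [← hσ' a]
    exact (IsLocalization.Away.algebraMap_isUnit (S := Localization.Away a) a).map σ.hom

lemma noZeroDivisors_of_local (P : Scheme.{u}) [IsAffine P]
    (hloc : ∀ (X : Scheme.{u}) (R : Presieve X), R ∈ Scheme.precoverage @IsFinite X →
        ∀ g : P ⟶ X, ∃ (Y : Scheme.{u}) (w : Y ⟶ X) (h : P ⟶ Y), R w ∧ h ≫ w = g) :
    NoZeroDivisors Γ(P, ⊤) := by
  refine ⟨fun {a b} hab => ?_⟩
  let B : Bool → CommRingCat.{u} := fun t =>
    cond t (CommRingCat.of (Γ(P, ⊤) ⧸ Ideal.span {a})) (CommRingCat.of (Γ(P, ⊤) ⧸ Ideal.span {b}))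
  let φ : ∀ t, Γ(P, ⊤) ⟶ B t := fun t =>
    match t with
    | true => CommRingCat.ofHom (Ideal.Quotient.mk (Ideal.span {a}))
    | false => CommRingCat.ofHom (Ideal.Quotient.mk (Ideal.span {b}))
  have hQ : ∀ t, (@IsFinite : MorphismProperty Scheme.{u}) (Spec.map (φ t)) := by
    intro t
    cases t
    · rw [IsFinite.SpecMap_iff]
      exact RingHom.Finite.of_surjective _ Ideal.Quotient.mk_surjective
    · rw [IsFinite.SpecMap_iff]
      exact RingHom.Finite.of_surjective _ Ideal.Quotient.mk_surjective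
  have hsurj : ∀ p : PrimeSpectrum Γ(P, ⊤), ∃ t, p ∈ Set.range (PrimeSpectrum.comap (φ t).hom) := by
    intro p
    have hmem : a * b ∈ p.asIdeal := by rw [hab]; exact zero_mem _
    rcases p.isPrime.mem_or_mem hmem with h | h
    · refine ⟨true, ?_⟩
      change p ∈ Set.range (PrimeSpectrum.comap (Ideal.Quotient.mk (Ideal.span {a})))
      rw [_root_.range_comap_of_surjective _ _ Ideal.Quotient.mk_surjective,
        Ideal.mk_ker, PrimeSpectrum.mem_zeroLocus]
      intro x hx
      exact (Ideal.span_singleton_le_iff_mem _).mpr h hx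
    · refine ⟨false, ?_⟩
      change p ∈ Set.range (PrimeSpectrum.comap (Ideal.Quotient.mk (Ideal.span {b})))
      rw [_root_.range_comap_of_surjective _ _ Ideal.Quotient.mk_surjective,
        Ideal.mk_ker, PrimeSpectrum.mem_zeroLocus]
      intro x hx
      exact (Ideal.span_singleton_le_iff_mem _).mpr h hx
  obtain ⟨t, σ, hσ⟩ := exists_retraction_of_local _ hloc B φ hQ hsurj
  have hσ' : ∀ x, σ.hom ((φ t).hom x) = x := fun x => by
    have := congrArg (fun m => m.hom x) hσ
    simpa using this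
  cases t
  · right
    rw [← hσ' b]
    have : (φ false).hom b = 0 :=
      Ideal.Quotient.eq_zero_iff_mem.mpr (Ideal.mem_span_singleton_self b)
    rw [this, map_zero]
  · left
    rw [← hσ' a]
    have : (φ true).hom a = 0 :=
      Ideal.Quotient.eq_zero_iff_mem.mpr (Ideal.mem_span_singleton_self a)
    rw [this, map_zero]

lemma isAIC_of_local (P : Scheme.{u}) [IsAffine P] [IsDomain Γ(P, ⊤)]
    (hloc : ∀ (X : Scheme.{u}) (R : Presieve X), R ∈ Scheme.precoverage @IsFinite X →
        ∀ g : P ⟶ X, ∃ (Y : Scheme.{u}) (w : Y ⟶ X) (h : P ⟶ Y), R w ∧ h ≫ w = g) :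
    Curves.IsAIC Γ(P, ⊤) := by
  intro f hfm hfd
  let B : Unit → CommRingCat.{u} := fun _ => CommRingCat.of (AdjoinRoot f)
  let φ : ∀ t, Γ(P, ⊤) ⟶ B t := fun _ => CommRingCat.ofHom (AdjoinRoot.of f)
  have hfin : (AdjoinRoot.of f).Finite := by
    have : Module.Finite Γ(P, ⊤) (AdjoinRoot f) := hfm.finite_adjoinRoot
    exact RingHom.finite_algebraMap.mpr this
  have hQ : ∀ t, (@IsFinite : MorphismProperty Scheme.{u}) (Spec.map (φ t)) := by
    intro t
    rw [IsFinite.SpecMap_iff]
    exact hfin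
  have hinj : Function.Injective (AdjoinRoot.of f) := by
    apply AdjoinRoot.of.injective_of_degree_ne_zero
    rw [Polynomial.degree_eq_natDegree hfm.ne_zero]
    exact_mod_cast hfd.ne'
  have hsurj : ∀ p : PrimeSpectrum Γ(P, ⊤), ∃ t, p ∈ Set.range (PrimeSpectrum.comap (φ t).hom) := by
    intro p
    exact ⟨(), (hfin.to_isIntegral.comap_surjective hinj) p⟩
  obtain ⟨t, σ, hσ⟩ := exists_retraction_of_local _ hloc B φ hQ hsurj
  have hσ' : ∀ x, σ.hom (AdjoinRoot.of f x) = x := fun x => by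
    have := congrArg (fun m => m.hom x) hσ
    exact this
  refine ⟨σ.hom (AdjoinRoot.root f), ?_⟩
  have h1 : Polynomial.eval₂ (σ.hom.comp (AdjoinRoot.of f)) (σ.hom (AdjoinRoot.root f)) f = 0 := by
    rw [← Polynomial.hom_eval₂, AdjoinRoot.eval₂_root, map_zero]
  have h2 : σ.hom.comp (AdjoinRoot.of f) = RingHom.id _ := RingHom.ext hσ'
  rw [h2, Polynomial.eval₂_id] at h1
  exact h1

lemma zariski_local (P : Scheme.{u}) [IsAffine P] [IsLocalRing Γ(P, ⊤)]
    (X : Scheme.{u}) (R : Presieve X)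
    (hR : R ∈ Scheme.precoverage (@IsOpenImmersion ⊓ @QuasiCompact) X) (g : P ⟶ X) :
    ∃ (Y : Scheme.{u}) (w : Y ⟶ X) (h : P ⟶ Y), R w ∧ h ≫ w = g := by
  let c : P := P.isoSpec.inv (IsLocalRing.closedPoint Γ(P, ⊤))
  obtain ⟨Y, w, hw, hx⟩ := Scheme.JointlySurjective.exists_eq R hR (g c)
  have hP : (@IsOpenImmersion ⊓ @QuasiCompact : MorphismProperty Scheme.{u}) w := hR.2 hw
  haveI : IsOpenImmersion w := hP.1
  have hsub : Set.range g ⊆ Set.range w := by
    let O : (Spec Γ(P, ⊤)).Opens := P.isoSpec.inv ⁻¹ᵁ (g ⁻¹ᵁ w.opensRange)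
    have hcO : IsLocalRing.closedPoint Γ(P, ⊤) ∈ O := hx
    have hO : O = ⊤ := (IsLocalRing.closedPoint_mem_iff (R := Γ(P, ⊤)) (U := O)).mp hcO
    rintro _ ⟨p, rfl⟩
    have h1 : P.isoSpec.hom p ∈ O := by rw [hO]; trivial
    have h2 : g (P.isoSpec.inv (P.isoSpec.hom p)) ∈ w.opensRange := h1
    have h3 : P.isoSpec.inv (P.isoSpec.hom p) = p := by
      rw [← Scheme.Hom.comp_apply, Iso.hom_inv_id]
      rfl
    rw [h3] at h2
    exact h2
  exact ⟨Y, w, IsOpenImmersion.lift w g hsub, hw, IsOpenImmersion.lift_fac _ _ _⟩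

lemma finite_local (P : Scheme.{u}) [IsAffine P] [IsDomain Γ(P, ⊤)] (hA : Curves.IsAIC Γ(P, ⊤))
    (X : Scheme.{u}) (R : Presieve X) (hR : R ∈ Scheme.precoverage @IsFinite X) (g : P ⟶ X) :
    ∃ (Y : Scheme.{u}) (w : Y ⟶ X) (h : P ⟶ Y), R w ∧ h ≫ w = g := by
  let A := Γ(P, ⊤)
  let g' : Spec A ⟶ X := P.isoSpec.inv ≫ g
  let η : Spec A := (⟨⊥, Ideal.isPrime_bot⟩ : PrimeSpectrum A)
  obtain ⟨Y, w, hw, ⟨y, hy⟩⟩ := Scheme.JointlySurjective.exists_eq R hR (g' η)
  haveI : IsFinite w := hR.2 hw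
  let pr : pullback w g' ⟶ Spec A := pullback.snd w g'
  haveI : IsFinite pr := inferInstanceAs (IsFinite (pullback.snd w g'))
  obtain ⟨z, hz1, hz2⟩ := Scheme.Pullback.exists_preimage_pullback y η hy
  haveI : IsAffine (pullback w g') := isAffine_of_isAffineHom pr
  let Z := pullback w g'
  let eZ : Z ≅ Spec Γ(Z, ⊤) := Z.isoSpec
  let φ : A ⟶ Γ(Z, ⊤) := Spec.preimage (eZ.inv ≫ pr)
  have hφ : Spec.map φ = eZ.inv ≫ pr := Spec.map_preimage _
  have hfin : φ.hom.Finite := by
    rw [← IsFinite.SpecMap_iff, hφ]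
    infer_instance
  let q : PrimeSpectrum Γ(Z, ⊤) := eZ.hom z
  have hq : q.asIdeal.comap φ.hom = ⊥ := by
    have h1 : Spec.map φ q = η := by
      rw [hφ]
      change (eZ.inv ≫ pr) (eZ.hom z) = η
      rw [← Scheme.Hom.comp_apply, Iso.hom_inv_id_assoc]
      exact hz2
    exact congrArg PrimeSpectrum.asIdeal h1
  haveI := q.isPrime
  obtain ⟨σ, hσ⟩ := exists_retraction hA φ.hom hfin.to_isIntegral q.asIdeal hq
  let s : Spec A ⟶ Z := Spec.map (CommRingCat.ofHom σ) ≫ eZ.inv
  have hs : s ≫ pr = 𝟙 _ := by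
    change (Spec.map (CommRingCat.ofHom σ) ≫ eZ.inv) ≫ pr = 𝟙 _
    rw [Category.assoc, ← hφ, ← Spec.map_comp]
    have : φ ≫ CommRingCat.ofHom σ = 𝟙 _ := by
      ext x
      exact congrArg (fun m : A →+* A => m x) hσ
    rw [this, Spec.map_id]
    rfl
  refine ⟨Y, w, P.isoSpec.hom ≫ s ≫ pullback.fst w g', hw, ?_⟩
  rw [Category.assoc, Category.assoc, pullback.condition]
  change P.isoSpec.hom ≫ s ≫ pr ≫ g' = g
  rw [reassoc_of% hs]
  change P.isoSpec.hom ≫ P.isoSpec.inv ≫ g = g
  rw [Iso.hom_inv_id_assoc]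

end Aux

/-- Let P be a quasi-separated scheme. Then P is local for Zariski coverings (for every scheme X, every
jointly surjective family of quasi-compact open immersions into X and every morphism P ⟶ X, the
morphism factors through a member) and for finite coverings (the same for jointly surjective
families of finite morphisms) — which together is locality for the rqfh coverings, the finite
composites of coverings of these two kinds — if and only if P is affine and Γ(P) is a local integral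
domain in which every monic polynomial of positive degree has a root, i.e. the spectrum of an
absolutely integrally closed local domain. The published statement allows any scheme P; this row
assumes P quasi-separated. -/
theorem result (P : Scheme.{u}) [QuasiSeparatedSpace P] :
    ((∀ (X : Scheme.{u}) (R : Presieve X), R ∈ Scheme.precoverage (@IsOpenImmersion ⊓ @QuasiCompact) X →
        ∀ g : P ⟶ X, ∃ (Y : Scheme.{u}) (w : Y ⟶ X) (h : P ⟶ Y), R w ∧ h ≫ w = g) ∧
      (∀ (X : Scheme.{u}) (R : Presieve X), R ∈ Scheme.precoverage @IsFinite X →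
        ∀ g : P ⟶ X, ∃ (Y : Scheme.{u}) (w : Y ⟶ X) (h : P ⟶ Y), R w ∧ h ≫ w = g)) ↔
    (IsAffine P ∧ IsLocalRing Γ(P, ⊤) ∧ IsDomain Γ(P, ⊤) ∧ Curves.IsAIC Γ(P, ⊤)) := by
  constructor
  · rintro ⟨hZ, hF⟩
    haveI : IsAffine P := Aux.isAffine_of_local P hZ
    haveI : IsLocalRing Γ(P, ⊤) := Aux.isLocalRing_of_local P hZ
    haveI : NoZeroDivisors Γ(P, ⊤) := Aux.noZeroDivisors_of_local P hF
    haveI : IsDomain Γ(P, ⊤) := NoZeroDivisors.to_isDomain _
    exact ⟨inferInstance, inferInstance, inferInstance, Aux.isAIC_of_local P hF⟩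
  · rintro ⟨h1, h2, h3, h4⟩
    exact ⟨fun X R hR g => Aux.zariski_local P X R hR g,
      fun X R hR g => Aux.finite_local P h4 X R hR g⟩

end Groth.Agent.S19345
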