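import Groth.Statements.S19437
import Mathlib

set_option autoImplicit false
universe u
open CAlg

namespace Groth.Agent.S19437

namespace Aux
open MvPowerSeries

variable {k : Type u} [Field k]

/-- exponent of `x^i` -/
noncomputable abbrev ex (i : ℕ) : Fin 2 →₀ ℕ := Finsupp.single 0 i
/-- exponent of `y^j` -/
noncomputable abbrev ey (j : ℕ) : Fin 2 →₀ ℕ := Finsupp.single 1 j

theorem eq_ex {m : Fin 2 →₀ ℕ} (h : m 1 = 0) : m = ex (m 0) := by
  ext i; fin_cases i <;> simp [ex, h]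

theorem eq_ey {m : Fin 2 →₀ ℕ} (h : m 0 = 0) : m = ey (m 1) := by
  ext i; fin_cases i <;> simp [ey, h]

variable (k) in
/-- the ideal `(xy, x^s, y^t)` -/
noncomputable def K (s t : ℕ) : Ideal (MvPowerSeries (Fin 2) k) :=
  Ideal.span {X 0 * X 1, X 0 ^ s, X 1 ^ t}

theorem exists_of_mem_K {s t : ℕ} {f : MvPowerSeries (Fin 2) k} (hf : f ∈ K k s t) :
    ∃ A B C : MvPowerSeries (Fin 2) k, f = A * (X 0 * X 1) + (B * X 0 ^ s + C * X 1 ^ t) := by
  rw [K, Ideal.mem_span_insert] at hf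
  obtain ⟨A, z, hz, rfl⟩ := hf
  rw [Ideal.mem_span_insert] at hz
  obtain ⟨B, z', hz', rfl⟩ := hz
  rw [Ideal.mem_span_singleton'] at hz'
  obtain ⟨C, rfl⟩ := hz'
  exact ⟨A, B, C, rfl⟩

theorem coeff_ex_xy (A : MvPowerSeries (Fin 2) k) (i : ℕ) :
    coeff (ex i) (A * (X 0 * X 1)) = 0 :=
  (X_dvd_iff (s := (1 : Fin 2))).1 ⟨A * X 0, by ring⟩ (ex i) (by simp [ex])

theorem coeff_ey_xy (A : MvPowerSeries (Fin 2) k) (j : ℕ) :
    coeff (ey j) (A * (X 0 * X 1)) = 0 :=
  (X_dvd_iff (s := (0 : Fin 2))).1 ⟨A * X 1, by ring⟩ (ey j) (by simp [ey])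

theorem coeff_ex_ypow (C : MvPowerSeries (Fin 2) k) (i : ℕ) {t : ℕ} (ht : 1 ≤ t) :
    coeff (ex i) (C * X 1 ^ t) = 0 :=
  (X_pow_dvd_iff (s := (1 : Fin 2)) (n := t)).1 ⟨C, by ring⟩ (ex i) (by simp [ex]; omega)

theorem coeff_ey_xpow (B : MvPowerSeries (Fin 2) k) (j : ℕ) {s : ℕ} (hs : 1 ≤ s) :
    coeff (ey j) (B * X 0 ^ s) = 0 :=
  (X_pow_dvd_iff (s := (0 : Fin 2)) (n := s)).1 ⟨B, by ring⟩ (ey j) (by simp [ey]; omega)

theorem coeff_ex_xpow_lt (B : MvPowerSeries (Fin 2) k) {i s : ℕ} (h : i < s) :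
    coeff (ex i) (B * X 0 ^ s) = 0 :=
  (X_pow_dvd_iff (s := (0 : Fin 2)) (n := s)).1 ⟨B, by ring⟩ (ex i) (by simpa [ex] using h)

theorem coeff_ey_ypow_lt (C : MvPowerSeries (Fin 2) k) {j t : ℕ} (h : j < t) :
    coeff (ey j) (C * X 1 ^ t) = 0 :=
  (X_pow_dvd_iff (s := (1 : Fin 2)) (n := t)).1 ⟨C, by ring⟩ (ey j) (by simpa [ey] using h)

theorem coeff_ex_xpow_self (B : MvPowerSeries (Fin 2) k) (s : ℕ) :
    coeff (ex s) (B * X 0 ^ s) = constantCoeff B := by
  rw [X_pow_eq]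
  have := coeff_add_mul_monomial (σ := Fin 2) (R := k) (m := 0) (n := ex s) (φ := B) (1 : k)
  rw [zero_add, mul_one] at this
  rw [this, coeff_zero_eq_constantCoeff_apply]

theorem coeff_ey_ypow_self (C : MvPowerSeries (Fin 2) k) (t : ℕ) :
    coeff (ey t) (C * X 1 ^ t) = constantCoeff C := by
  rw [X_pow_eq]
  have := coeff_add_mul_monomial (σ := Fin 2) (R := k) (m := 0) (n := ey t) (φ := C) (1 : k)
  rw [zero_add, mul_one] at this
  rw [this, coeff_zero_eq_constantCoeff_apply]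

theorem coeff_of_mem_K {s t : ℕ} (hs : 1 ≤ s) (ht : 1 ≤ t) {f : MvPowerSeries (Fin 2) k}
    (hf : f ∈ K k s t) :
    (∀ i < s, coeff (ex i) f = 0) ∧ (∀ j < t, coeff (ey j) f = 0) := by
  obtain ⟨A, B, C, rfl⟩ := exists_of_mem_K hf
  constructor
  · intro i hi
    rw [map_add, map_add, coeff_ex_xy, coeff_ex_xpow_lt B hi, coeff_ex_ypow C i ht]
    simp
  · intro j hj
    rw [map_add, map_add, coeff_ey_xy, coeff_ey_xpow B j hs, coeff_ey_ypow_lt C hj]
    simp

theorem mem_K_of_coeff {s t : ℕ} {f : MvPowerSeries (Fin 2) k}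
    (hx : ∀ i < s, coeff (ex i) f = 0) (hy : ∀ j < t, coeff (ey j) f = 0) : f ∈ K k s t := by
  classical
  let fx : MvPowerSeries (Fin 2) k := fun m => if m 1 = 0 then coeff m f else 0
  let fy : MvPowerSeries (Fin 2) k := fun m => if m 1 ≠ 0 ∧ m 0 = 0 then coeff m f else 0
  let fxy : MvPowerSeries (Fin 2) k := fun m => if m 1 ≠ 0 ∧ m 0 ≠ 0 then coeff m f else 0
  have hsplit : f = fxy + (fx + fy) := by
    ext m
    simp only [map_add, coeff_apply, fx, fy, fxy]
    by_cases h1 : m 1 = 0 <;> by_cases h0 : m 0 = 0 <;> simp [h1, h0]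
  have h1 : X 0 ^ s ∣ fx := X_pow_dvd_iff.2 (fun m hm => by
    rw [coeff_apply]
    show (if m 1 = 0 then coeff m f else 0) = 0
    split_ifs with h
    · have := hx (m 0) hm
      rwa [← eq_ex h] at this
    · rfl)
  have h2 : X 1 ^ t ∣ fy := X_pow_dvd_iff.2 (fun m hm => by
    rw [coeff_apply]
    show (if m 1 ≠ 0 ∧ m 0 = 0 then coeff m f else 0) = 0
    split_ifs with h
    · have := hy (m 1) hm
      rwa [← eq_ey h.2] at this
    · rfl)
  have h3 : X 0 * X 1 ∣ fxy := by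
    obtain ⟨h, hh⟩ : X 0 ∣ fxy := X_dvd_iff.2 (fun m hm => by
      rw [coeff_apply]
      show (if m 1 ≠ 0 ∧ m 0 ≠ 0 then coeff m f else 0) = 0
      rw [if_neg (by tauto)])
    have : X 1 ∣ h := X_dvd_iff.2 (fun m hm => by
      have e1 : coeff (ex 1 + m) fxy = coeff m h := by
        rw [hh, show (X 0 : MvPowerSeries (Fin 2) k) = monomial (ex 1) 1 from rfl,
          coeff_add_monomial_mul, one_mul]
      rw [← e1, coeff_apply]
      show (if (ex 1 + m) 1 ≠ 0 ∧ (ex 1 + m) 0 ≠ 0 then coeff (ex 1 + m) f else 0) = 0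
      rw [if_neg]
      simp [ex, hm])
    obtain ⟨h', rfl⟩ := this
    exact ⟨h', by rw [hh]; ring⟩
  rw [hsplit]
  refine Ideal.add_mem _ ?_ (Ideal.add_mem _ ?_ ?_)
  · obtain ⟨c, hc⟩ := h3
    rw [hc]
    exact Ideal.mul_mem_right _ _ (Ideal.subset_span (by simp))
  · obtain ⟨c, hc⟩ := h1
    rw [hc]
    exact Ideal.mul_mem_right _ _ (Ideal.subset_span (by simp))
  · obtain ⟨c, hc⟩ := h2
    rw [hc]
    exact Ideal.mul_mem_right _ _ (Ideal.subset_span (by simp))

/-- (L1) -/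
theorem xpow_succ_mem {J : Ideal (MvPowerSeries (Fin 2) k)}
    (hxy : (X 0 * X 1 : MvPowerSeries (Fin 2) k) ∈ J) {s t : ℕ} (ht : 1 ≤ t)
    {f : MvPowerSeries (Fin 2) k} (hfJ : f ∈ J) (hfK : f ∈ K k s t)
    (hne : coeff (ex s) f ≠ 0) : (X 0 ^ (s + 1) : MvPowerSeries (Fin 2) k) ∈ J := by
  obtain ⟨A, B, C, rfl⟩ := exists_of_mem_K hfK
  rw [map_add, map_add, coeff_ex_xy, coeff_ex_xpow_self, coeff_ex_ypow C s ht, zero_add,
    add_zero] at hne
  have hB : IsUnit B := isUnit_iff_constantCoeff.2 (IsUnit.mk0 _ hne)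
  obtain ⟨t', rfl⟩ : ∃ t', t = t' + 1 := ⟨t - 1, by omega⟩
  have h1 : X 0 ^ (s + 1) * B =
      X 0 * (A * (X 0 * X 1) + (B * X 0 ^ s + C * X 1 ^ (t' + 1))) -
        (A * X 0 + C * X 1 ^ t') * (X 0 * X 1) := by ring
  rw [← Ideal.mul_unit_mem_iff_mem J hB, h1]
  exact Ideal.sub_mem _ (Ideal.mul_mem_left _ _ hfJ) (Ideal.mul_mem_left _ _ hxy)

/-- (L1') -/
theorem ypow_succ_mem {J : Ideal (MvPowerSeries (Fin 2) k)}
    (hxy : (X 0 * X 1 : MvPowerSeries (Fin 2) k) ∈ J) {s t : ℕ} (hs : 1 ≤ s)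
    {f : MvPowerSeries (Fin 2) k} (hfJ : f ∈ J) (hfK : f ∈ K k s t)
    (hne : coeff (ey t) f ≠ 0) : (X 1 ^ (t + 1) : MvPowerSeries (Fin 2) k) ∈ J := by
  obtain ⟨A, B, C, rfl⟩ := exists_of_mem_K hfK
  rw [map_add, map_add, coeff_ey_xy, coeff_ey_ypow_self, coeff_ey_xpow B t hs, zero_add,
    zero_add] at hne
  have hC : IsUnit C := isUnit_iff_constantCoeff.2 (IsUnit.mk0 _ hne)
  obtain ⟨s', rfl⟩ : ∃ s', s = s' + 1 := ⟨s - 1, by omega⟩
  have h1 : X 1 ^ (t + 1) * C =
      X 1 * (A * (X 0 * X 1) + (B * X 0 ^ (s' + 1) + C * X 1 ^ t)) -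
        (A * X 1 + B * X 0 ^ s') * (X 0 * X 1) := by ring
  rw [← Ideal.mul_unit_mem_iff_mem J hC, h1]
  exact Ideal.sub_mem _ (Ideal.mul_mem_left _ _ hfJ) (Ideal.mul_mem_left _ _ hxy)

/-- (L2) -/
theorem xpow_mem {J : Ideal (MvPowerSeries (Fin 2) k)}
    (hxy : (X 0 * X 1 : MvPowerSeries (Fin 2) k) ∈ J) {s t : ℕ} (ht : 1 ≤ t)
    (hyt : (X 1 ^ t : MvPowerSeries (Fin 2) k) ∈ J)
    {f : MvPowerSeries (Fin 2) k} (hfJ : f ∈ J) (hfK : f ∈ K k s t)
    (hne : coeff (ex s) f ≠ 0) : (X 0 ^ s : MvPowerSeries (Fin 2) k) ∈ J := by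
  obtain ⟨A, B, C, rfl⟩ := exists_of_mem_K hfK
  rw [map_add, map_add, coeff_ex_xy, coeff_ex_xpow_self, coeff_ex_ypow C s ht, zero_add,
    add_zero] at hne
  have hB : IsUnit B := isUnit_iff_constantCoeff.2 (IsUnit.mk0 _ hne)
  have h1 : X 0 ^ s * B =
      (A * (X 0 * X 1) + (B * X 0 ^ s + C * X 1 ^ t)) - A * (X 0 * X 1) - C * X 1 ^ t := by ring
  rw [← Ideal.mul_unit_mem_iff_mem J hB, h1]
  exact Ideal.sub_mem _ (Ideal.sub_mem _ hfJ (Ideal.mul_mem_left _ _ hxy))
    (Ideal.mul_mem_left _ _ hyt)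

/-- (L2') -/
theorem ypow_mem {J : Ideal (MvPowerSeries (Fin 2) k)}
    (hxy : (X 0 * X 1 : MvPowerSeries (Fin 2) k) ∈ J) {s t : ℕ} (hs : 1 ≤ s)
    (hxs : (X 0 ^ s : MvPowerSeries (Fin 2) k) ∈ J)
    {f : MvPowerSeries (Fin 2) k} (hfJ : f ∈ J) (hfK : f ∈ K k s t)
    (hne : coeff (ey t) f ≠ 0) : (X 1 ^ t : MvPowerSeries (Fin 2) k) ∈ J := by
  obtain ⟨A, B, C, rfl⟩ := exists_of_mem_K hfK
  rw [map_add, map_add, coeff_ey_xy, coeff_ey_ypow_self, coeff_ey_xpow B t hs, zero_add,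
    zero_add] at hne
  have hC : IsUnit C := isUnit_iff_constantCoeff.2 (IsUnit.mk0 _ hne)
  have h1 : X 1 ^ t * C =
      (A * (X 0 * X 1) + (B * X 0 ^ s + C * X 1 ^ t)) - A * (X 0 * X 1) - B * X 0 ^ s := by ring
  rw [← Ideal.mul_unit_mem_iff_mem J hC, h1]
  exact Ideal.sub_mem _ (Ideal.sub_mem _ hfJ (Ideal.mul_mem_left _ _ hxy))
    (Ideal.mul_mem_left _ _ hxs)

theorem coeff_ex_xpow (i s : ℕ) :
    coeff (ex i) (X 0 ^ s : MvPowerSeries (Fin 2) k) = if i = s then 1 else 0 := by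
  classical
  rw [coeff_X_pow]
  by_cases h : i = s
  · subst h; simp
  · rw [if_neg h, if_neg]
    intro h'
    exact h (Finsupp.single_injective 0 h')

theorem coeff_ey_ypow (j t : ℕ) :
    coeff (ey j) (X 1 ^ t : MvPowerSeries (Fin 2) k) = if j = t then 1 else 0 := by
  classical
  rw [coeff_X_pow]
  by_cases h : j = t
  · subst h; simp
  · rw [if_neg h, if_neg]
    intro h'
    exact h (Finsupp.single_injective 1 h')

theorem coeff_ex_ypow' (i : ℕ) {t : ℕ} (ht : 1 ≤ t) :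
    coeff (ex i) (X 1 ^ t : MvPowerSeries (Fin 2) k) = 0 := by
  have := coeff_ex_ypow (1 : MvPowerSeries (Fin 2) k) i ht
  rwa [one_mul] at this

theorem coeff_ey_xpow' (j : ℕ) {s : ℕ} (hs : 1 ≤ s) :
    coeff (ey j) (X 0 ^ s : MvPowerSeries (Fin 2) k) = 0 := by
  have := coeff_ey_xpow (1 : MvPowerSeries (Fin 2) k) j hs
  rwa [one_mul] at this

/-- coefficient map -/
noncomputable def tau (a b : ℕ) :
    MvPowerSeries (Fin 2) k →ₗ[k] (Fin a → k) × (Fin (b - 1) → k) :=
  LinearMap.prod (LinearMap.pi (fun i : Fin a => coeff (ex (i : ℕ))))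
    (LinearMap.pi (fun j : Fin (b - 1) => coeff (ey ((j : ℕ) + 1))))

theorem tau_fst {a b : ℕ} (f : MvPowerSeries (Fin 2) k) (i : Fin a) :
    (tau a b f).1 i = coeff (ex (i : ℕ)) f := rfl

theorem tau_snd {a b : ℕ} (f : MvPowerSeries (Fin 2) k) (j : Fin (b - 1)) :
    (tau a b f).2 j = coeff (ey ((j : ℕ) + 1)) f := rfl

theorem mem_ker_tau {a b : ℕ} (ha : 1 ≤ a) (hb : 1 ≤ b) (f : MvPowerSeries (Fin 2) k) :
    tau a b f = 0 ↔ f ∈ K k a b := by
  constructor
  · intro h
    have h1 : ∀ i < a, coeff (ex i) f = 0 := fun i hi =>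
      congrFun (congrArg Prod.fst h) ⟨i, hi⟩
    refine mem_K_of_coeff h1 (fun j hj => ?_)
    rcases j with _ | j
    · have := h1 0 (by omega)
      rwa [show ex 0 = ey 0 by simp [ex, ey]] at this
    · exact congrFun (congrArg Prod.snd h) ⟨j, by omega⟩
  · intro h
    obtain ⟨h1, h2⟩ := coeff_of_mem_K ha hb h
    apply Prod.ext
    · funext i; exact h1 i i.2
    · funext j; exact h2 _ (by have := j.2; omega)

theorem tau_surjective (a b : ℕ) : Function.Surjective (tau (k := k) a b) := by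
  classical
  rintro ⟨u, v⟩
  refine ⟨∑ i : Fin a, C (u i) * X 0 ^ (i : ℕ) +
    ∑ j : Fin (b - 1), C (v j) * X 1 ^ ((j : ℕ) + 1), ?_⟩
  apply Prod.ext
  · funext i'
    rw [tau_fst, map_add, map_sum, map_sum]
    have h1 : ∀ i : Fin a, coeff (ex (i' : ℕ)) (C (u i) * X 0 ^ (i : ℕ)) =
        if i = i' then u i else 0 := by
      intro i
      rw [coeff_C_mul, coeff_ex_xpow]
      by_cases h : i = i'
      · subst h; simp
      · rw [if_neg h, if_neg, mul_zero]
        intro h'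
        exact h (Fin.ext h'.symm)
    have h2 : ∀ j : Fin (b - 1), coeff (ex (i' : ℕ)) (C (v j) * X 1 ^ ((j : ℕ) + 1)) = 0 := by
      intro j
      rw [coeff_C_mul, coeff_ex_ypow' _ (by omega), mul_zero]
    simp only [h1, h2, Finset.sum_ite_eq', Finset.mem_univ, if_true, Finset.sum_const_zero,
      add_zero]
  · funext j'
    rw [tau_snd, map_add, map_sum, map_sum]
    have h1 : ∀ i : Fin a, coeff (ey ((j' : ℕ) + 1)) (C (u i) * X 0 ^ (i : ℕ)) = 0 := by
      intro i
      rw [coeff_C_mul]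
      by_cases hi : (i : ℕ) = 0
      · rw [hi, pow_zero, coeff_one, if_neg, mul_zero]
        intro h'
        have := DFunLike.congr_fun h' 1
        simp [ey] at this
      · rw [coeff_ey_xpow' _ (by omega), mul_zero]
    have h2 : ∀ j : Fin (b - 1), coeff (ey ((j' : ℕ) + 1)) (C (v j) * X 1 ^ ((j : ℕ) + 1)) =
        if j = j' then v j else 0 := by
      intro j
      rw [coeff_C_mul, coeff_ey_ypow]
      by_cases h : j = j'
      · subst h; simp
      · rw [if_neg h, if_neg, mul_zero]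
        intro h'
        exact h (Fin.ext (by omega))
    simp only [h1, h2, Finset.sum_ite_eq', Finset.mem_univ, if_true, Finset.sum_const_zero,
      zero_add]

theorem finrank_quot {a b : ℕ} (J : Ideal (MvPowerSeries (Fin 2) k))
    (L : Submodule k ((Fin a → k) × (Fin (b - 1) → k)))
    (h : J.restrictScalars k = L.comap (tau a b)) :
    Module.finrank k (MvPowerSeries (Fin 2) k ⧸ J) + Module.finrank k L = a + (b - 1) := by
  let φ := L.mkQ ∘ₗ tau (k := k) a b
  have hφ : Function.Surjective φ := (Submodule.mkQ_surjective L).comp (tau_surjective a b)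
  have hker : LinearMap.ker φ = J.restrictScalars k := by
    rw [LinearMap.ker_comp, Submodule.ker_mkQ, h]
  have e : (MvPowerSeries (Fin 2) k ⧸ J) ≃ₗ[k] (((Fin a → k) × (Fin (b - 1) → k)) ⧸ L) :=
    (Submodule.Quotient.restrictScalarsEquiv k J).symm ≪≫ₗ
      (Submodule.quotEquivOfEq _ _ hker.symm) ≪≫ₗ φ.quotKerEquivOfSurjective hφ
  rw [e.finrank_eq]
  have := Submodule.finrank_quotient_add_finrank L
  rw [this, Module.finrank_prod, Module.finrank_fin_fun, Module.finrank_fin_fun]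

theorem exists_pow_mem (J : Ideal (MvPowerSeries (Fin 2) k))
    [Module.Finite k (MvPowerSeries (Fin 2) k ⧸ J)] (hJ : J ≠ ⊤) (v : Fin 2) :
    ∃ N : ℕ, (X v : MvPowerSeries (Fin 2) k) ^ N ∈ J := by
  haveI : IsArtinianRing (MvPowerSeries (Fin 2) k ⧸ J) :=
    IsArtinianRing.of_finite k (MvPowerSeries (Fin 2) k ⧸ J)
  haveI : Nontrivial (MvPowerSeries (Fin 2) k ⧸ J) := Ideal.Quotient.nontrivial_iff.2 hJ
  haveI : IsLocalRing (MvPowerSeries (Fin 2) k ⧸ J) :=
    IsLocalRing.of_surjective' (Ideal.Quotient.mk J) Ideal.Quotient.mk_surjective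
  have hnil : IsNilpotent (IsLocalRing.maximalIdeal (MvPowerSeries (Fin 2) k ⧸ J)) := by
    rw [← IsLocalRing.jacobson_eq_maximalIdeal ⊥ bot_ne_top]
    exact IsArtinianRing.isNilpotent_jacobson_bot
  obtain ⟨N, hN⟩ := hnil
  have hXv : (X v : MvPowerSeries (Fin 2) k) ∈ IsLocalRing.maximalIdeal _ := by
    rw [IsLocalRing.mem_maximalIdeal, mem_nonunits_iff, isUnit_iff_constantCoeff]
    simp
  have hx : Ideal.Quotient.mk J (X v) ∈
      IsLocalRing.maximalIdeal (MvPowerSeries (Fin 2) k ⧸ J) := by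
    rw [IsLocalRing.mem_maximalIdeal, mem_nonunits_iff]
    intro hu
    obtain ⟨y, hy⟩ := hu.exists_right_inv
    obtain ⟨y', rfl⟩ := Ideal.Quotient.mk_surjective y
    rw [← map_mul, ← map_one (Ideal.Quotient.mk J), Ideal.Quotient.eq] at hy
    have h1 := IsLocalRing.le_maximalIdeal hJ hy
    have h2 : (1 : MvPowerSeries (Fin 2) k) ∈ IsLocalRing.maximalIdeal _ := by
      have := Ideal.sub_mem _ (Ideal.mul_mem_right y' _ hXv) h1
      simpa using this
    exact (Ideal.ne_top_iff_one _).1 (IsLocalRing.maximalIdeal.isMaximal _).ne_top h2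
  refine ⟨N, ?_⟩
  rw [← Ideal.Quotient.eq_zero_iff_mem, map_pow]
  have := Ideal.pow_mem_pow hx N
  rw [hN] at this
  exact this

end Aux

/-- Ideals of colength n of the complete local ring of a node. Let k be a field and J an ideal of the
power series ring k[[x,y]] in two variables x, y which contains xy and whose quotient is
finite-dimensional over k of dimension n ≥ 2. Then there are integers a, b ≥ 1 such that either a +
b = n + 1 and J is generated by xy, x^a, y^b, or a + b = n and J is generated by xy and x^a + α y^b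
for some nonzero scalar α. -/
theorem result (k : Type u) [Field k]
    (J : Ideal (MvPowerSeries (Fin 2) k))
    (hxy : (MvPowerSeries.X 0 * MvPowerSeries.X 1 : MvPowerSeries (Fin 2) k) ∈ J)
    [Module.Finite k (MvPowerSeries (Fin 2) k ⧸ J)] (n : ℕ) (hn : Module.finrank k (MvPowerSeries (Fin 2) k ⧸ J) = n)
    (h2 : 2 ≤ n) :
    ∃ a b : ℕ, 1 ≤ a ∧ 1 ≤ b ∧
      ((a + b = n + 1 ∧
        J = Ideal.span {MvPowerSeries.X 0 * MvPowerSeries.X 1, MvPowerSeries.X 0 ^ a, MvPowerSeries.X 1 ^ b}) ∨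
       (a + b = n ∧ ∃ α : k, α ≠ 0 ∧
        J = Ideal.span {MvPowerSeries.X 0 * MvPowerSeries.X 1,
          MvPowerSeries.X 0 ^ a + MvPowerSeries.C α * MvPowerSeries.X 1 ^ b})) := by
  classical
  have hJtop : J ≠ ⊤ := by
    rintro rfl
    haveI : Subsingleton (MvPowerSeries (Fin 2) k ⧸ (⊤ : Ideal (MvPowerSeries (Fin 2) k))) :=
      Ideal.Quotient.subsingleton_iff.2 rfl
    rw [Module.finrank_zero_of_subsingleton] at hn
    omega
  have hcc : ∀ f ∈ J, MvPowerSeries.constantCoeff f = 0 := by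
    intro f hf
    by_contra h
    exact hJtop (Ideal.eq_top_of_isUnit_mem _ hf
      (MvPowerSeries.isUnit_iff_constantCoeff.2 (IsUnit.mk0 _ h)))
  have hxN := Aux.exists_pow_mem J hJtop 0
  have hyN := Aux.exists_pow_mem J hJtop 1
  obtain ⟨a, ha, ha_min⟩ : ∃ a, (MvPowerSeries.X 0 : MvPowerSeries (Fin 2) k) ^ a ∈ J ∧
      ∀ i < a, (MvPowerSeries.X 0 : MvPowerSeries (Fin 2) k) ^ i ∉ J :=
    ⟨Nat.find hxN, Nat.find_spec hxN, fun i hi => Nat.find_min hxN hi⟩
  obtain ⟨b, hb, hb_min⟩ : ∃ b, (MvPowerSeries.X 1 : MvPowerSeries (Fin 2) k) ^ b ∈ J ∧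
      ∀ j < b, (MvPowerSeries.X 1 : MvPowerSeries (Fin 2) k) ^ j ∉ J :=
    ⟨Nat.find hyN, Nat.find_spec hyN, fun i hi => Nat.find_min hyN hi⟩
  have ha1 : 1 ≤ a := by
    by_contra h
    have h0 : a = 0 := by omega
    rw [h0, pow_zero] at ha
    exact hJtop ((Ideal.eq_top_iff_one _).2 ha)
  have hb1 : 1 ≤ b := by
    by_contra h
    have h0 : b = 0 := by omega
    rw [h0, pow_zero] at hb
    exact hJtop ((Ideal.eq_top_iff_one _).2 hb)
  have hKJ : Aux.K k a b ≤ J := by
    rw [Aux.K, Ideal.span_le]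
    intro z hz
    simp only [Set.mem_insert_iff, Set.mem_singleton_iff] at hz
    rcases hz with rfl | rfl | rfl
    · exact hxy
    · exact ha
    · exact hb
  -- classification of the elements of J
  have hclass : ∀ f ∈ J, f ∈ Aux.K k a b ∨
      (f ∈ Aux.K k (a - 1) (b - 1) ∧ MvPowerSeries.coeff (Aux.ex (a - 1)) f ≠ 0 ∧
        MvPowerSeries.coeff (Aux.ey (b - 1)) f ≠ 0 ∧ 2 ≤ a ∧ 2 ≤ b) := by
    intro f hf
    have hs_ex : ∃ i, a ≤ i ∨ MvPowerSeries.coeff (Aux.ex i) f ≠ 0 := ⟨a, Or.inl le_rfl⟩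
    have ht_ex : ∃ j, b ≤ j ∨ MvPowerSeries.coeff (Aux.ey j) f ≠ 0 := ⟨b, Or.inl le_rfl⟩
    obtain ⟨s, hs_spec, hs_min⟩ : ∃ s, (a ≤ s ∨ MvPowerSeries.coeff (Aux.ex s) f ≠ 0) ∧
        ∀ i < s, ¬ (a ≤ i ∨ MvPowerSeries.coeff (Aux.ex i) f ≠ 0) :=
      ⟨Nat.find hs_ex, Nat.find_spec hs_ex, fun i hi => Nat.find_min hs_ex hi⟩
    obtain ⟨t, ht_spec, ht_min⟩ : ∃ t, (b ≤ t ∨ MvPowerSeries.coeff (Aux.ey t) f ≠ 0) ∧
        ∀ j < t, ¬ (b ≤ j ∨ MvPowerSeries.coeff (Aux.ey j) f ≠ 0) :=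
      ⟨Nat.find ht_ex, Nat.find_spec ht_ex, fun i hi => Nat.find_min ht_ex hi⟩
    have hs_le : s ≤ a := by
      by_contra h
      exact hs_min a (by omega) (Or.inl le_rfl)
    have ht_le : t ≤ b := by
      by_contra h
      exact ht_min b (by omega) (Or.inl le_rfl)
    have hs_lt : ∀ i < s, MvPowerSeries.coeff (Aux.ex i) f = 0 := fun i hi => by
      have := hs_min i hi
      push Not at this
      exact this.2
    have ht_lt : ∀ j < t, MvPowerSeries.coeff (Aux.ey j) f = 0 := fun j hj => by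
      have := ht_min j hj
      push Not at this
      exact this.2
    have hc0 : MvPowerSeries.coeff (Aux.ex 0) f = 0 := by
      rw [show Aux.ex 0 = 0 from Finsupp.single_zero _,
        MvPowerSeries.coeff_zero_eq_constantCoeff_apply]
      exact hcc f hf
    have hc0' : MvPowerSeries.coeff (Aux.ey 0) f = 0 := by
      rw [show Aux.ey 0 = 0 from Finsupp.single_zero _,
        MvPowerSeries.coeff_zero_eq_constantCoeff_apply]
      exact hcc f hf
    have hs1 : 1 ≤ s := by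
      by_contra h
      have h0 : s = 0 := by omega
      subst h0
      rcases hs_spec with h' | h'
      · omega
      · exact h' hc0
    have ht1 : 1 ≤ t := by
      by_contra h
      have h0 : t = 0 := by omega
      subst h0
      rcases ht_spec with h' | h'
      · omega
      · exact h' hc0'
    have hfK : f ∈ Aux.K k s t := Aux.mem_K_of_coeff hs_lt ht_lt
    by_cases hsa : s = a
    · by_cases htb : t = b
      · left
        rw [← hsa, ← htb]
        exact hfK
      · exfalso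
        have htlt : t < b := lt_of_le_of_ne ht_le htb
        have hne : MvPowerSeries.coeff (Aux.ey t) f ≠ 0 := by
          rcases ht_spec with h' | h'
          · omega
          · exact h'
        exact hb_min t htlt (Aux.ypow_mem hxy hs1 (hsa ▸ ha) hf hfK hne)
    · have hslt : s < a := lt_of_le_of_ne hs_le hsa
      have hne : MvPowerSeries.coeff (Aux.ex s) f ≠ 0 := by
        rcases hs_spec with h' | h'
        · omega
        · exact h'
      have hs_eq : s + 1 = a := by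
        have := Aux.xpow_succ_mem hxy ht1 hf hfK hne
        by_contra h
        exact ha_min (s + 1) (by omega) this
      by_cases htb : t = b
      · exfalso
        exact ha_min s hslt (Aux.xpow_mem hxy ht1 (htb ▸ hb) hf hfK hne)
      · have htlt : t < b := lt_of_le_of_ne ht_le htb
        have hne' : MvPowerSeries.coeff (Aux.ey t) f ≠ 0 := by
          rcases ht_spec with h' | h'
          · omega
          · exact h'
        have ht_eq : t + 1 = b := by
          have := Aux.ypow_succ_mem hxy hs1 hf hfK hne'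
          by_contra h
          exact hb_min (t + 1) (by omega) this
        right
        have e1 : a - 1 = s := by omega
        have e2 : b - 1 = t := by omega
        rw [e1, e2]
        exact ⟨hfK, hne, hne', by omega, by omega⟩
  by_cases hJK : J ≤ Aux.K k a b
  · -- first case
    have hJeq : J = Aux.K k a b := le_antisymm hJK hKJ
    refine ⟨a, b, ha1, hb1, Or.inl ⟨?_, hJeq⟩⟩
    have hL : J.restrictScalars k = (⊥ : Submodule k _).comap (Aux.tau a b) := by
      ext f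
      rw [Submodule.restrictScalars_mem, Submodule.mem_comap, Submodule.mem_bot,
        Aux.mem_ker_tau ha1 hb1, hJeq]
    have := Aux.finrank_quot J ⊥ hL
    rw [hn, finrank_bot] at this
    omega
  · -- second case
    obtain ⟨f₀, hf₀J, hf₀K⟩ := Set.not_subset.1 hJK
    rcases hclass f₀ hf₀J with h | ⟨hf₀K', hα₀, hβ₀, ha2, hb2⟩
    · exact absurd h hf₀K
    obtain ⟨a', rfl⟩ : ∃ a', a = a' + 2 := ⟨a - 2, by omega⟩
    obtain ⟨b', rfl⟩ : ∃ b', b = b' + 2 := ⟨b - 2, by omega⟩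
    have ea : a' + 2 - 1 = a' + 1 := by omega
    have eb : b' + 2 - 1 = b' + 1 := by omega
    rw [ea, eb] at hf₀K' 
    rw [ea] at hα₀
    rw [eb] at hβ₀
    simp only [ea, eb] at hclass
    set α₀ := MvPowerSeries.coeff (Aux.ex (a' + 1)) f₀ with hα₀def
    set β₀ := MvPowerSeries.coeff (Aux.ey (b' + 1)) f₀ with hβ₀def
    obtain ⟨hf₀x, hf₀y⟩ := Aux.coeff_of_mem_K (by omega) (by omega) hf₀K'
    -- every element of J is a multiple of f₀ modulo K
    have hred : ∀ f ∈ J, f - MvPowerSeries.C (MvPowerSeries.coeff (Aux.ex (a' + 1)) f / α₀) * f₀ ∈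
        Aux.K k (a' + 2) (b' + 2) := by
      intro f hf
      have hf' : f - MvPowerSeries.C (MvPowerSeries.coeff (Aux.ex (a' + 1)) f / α₀) * f₀ ∈ J :=
        Ideal.sub_mem _ hf (Ideal.mul_mem_left _ _ hf₀J)
      rcases hclass _ hf' with h | ⟨_, h, _⟩
      · exact h
      · exfalso
        apply h
        rw [map_sub, MvPowerSeries.coeff_C_mul, ← hα₀def, div_mul_cancel₀ _ hα₀, sub_self]
    set γ := β₀ / α₀ with hγdef
    have hγ : γ ≠ 0 := div_ne_zero hβ₀ hα₀
    set g₀ : MvPowerSeries (Fin 2) k :=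
      MvPowerSeries.X 0 ^ (a' + 1) + MvPowerSeries.C γ * MvPowerSeries.X 1 ^ (b' + 1) with hg₀
    have hg₀K : MvPowerSeries.C α₀ * g₀ - f₀ ∈ Aux.K k (a' + 2) (b' + 2) := by
      apply Aux.mem_K_of_coeff
      · intro i hi
        rw [map_sub, MvPowerSeries.coeff_C_mul, hg₀, map_add, MvPowerSeries.coeff_C_mul,
          Aux.coeff_ex_xpow, Aux.coeff_ex_ypow' _ (by omega), mul_zero, add_zero]
        by_cases hi' : i = a' + 1
        · subst hi'
          rw [if_pos rfl, mul_one, ← hα₀def, sub_self]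
        · rw [if_neg hi', mul_zero, hf₀x i (by omega), sub_zero]
      · intro j hj
        rw [map_sub, MvPowerSeries.coeff_C_mul, hg₀, map_add, MvPowerSeries.coeff_C_mul,
          Aux.coeff_ey_ypow, Aux.coeff_ey_xpow' _ (by omega), zero_add]
        by_cases hj' : j = b' + 1
        · subst hj'
          rw [if_pos rfl, mul_one, ← hβ₀def, hγdef, mul_div_cancel₀ _ hα₀, sub_self]
        · rw [if_neg hj', mul_zero, mul_zero, hf₀y j (by omega), sub_zero]
    have hCC : MvPowerSeries.C (α₀⁻¹) * MvPowerSeries.C α₀ = (1 : MvPowerSeries (Fin 2) k) := by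
      rw [← map_mul, inv_mul_cancel₀ hα₀, map_one]
    have hg₀J : g₀ ∈ J := by
      have h1 : g₀ = MvPowerSeries.C (α₀⁻¹) * ((MvPowerSeries.C α₀ * g₀ - f₀) + f₀) := by
        rw [sub_add_cancel, ← mul_assoc, hCC, one_mul]
      rw [h1]
      exact Ideal.mul_mem_left _ _ (Ideal.add_mem _ (hKJ hg₀K) hf₀J)
    have hKspan : Aux.K k (a' + 2) (b' + 2) ≤ Ideal.span {MvPowerSeries.X 0 * MvPowerSeries.X 1, g₀} := by
      rw [Aux.K, Ideal.span_le]
      intro z hz
      simp only [Set.mem_insert_iff, Set.mem_singleton_iff] at hz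
      have hxyS : (MvPowerSeries.X 0 * MvPowerSeries.X 1 : MvPowerSeries (Fin 2) k) ∈
          Ideal.span {MvPowerSeries.X 0 * MvPowerSeries.X 1, g₀} := Ideal.subset_span (by simp)
      have hgS : g₀ ∈ Ideal.span {MvPowerSeries.X 0 * MvPowerSeries.X 1, g₀} :=
        Ideal.subset_span (by simp)
      rcases hz with rfl | rfl | rfl
      · exact hxyS
      · have h1 : (MvPowerSeries.X 0 : MvPowerSeries (Fin 2) k) ^ (a' + 2) =
            MvPowerSeries.X 0 * g₀ - MvPowerSeries.C γ * MvPowerSeries.X 1 ^ b' *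
              (MvPowerSeries.X 0 * MvPowerSeries.X 1) := by
          rw [hg₀]; ring
        rw [h1]
        exact Ideal.sub_mem _ (Ideal.mul_mem_left _ _ hgS) (Ideal.mul_mem_left _ _ hxyS)
      · have hCγ : MvPowerSeries.C (γ⁻¹) * MvPowerSeries.C γ = (1 : MvPowerSeries (Fin 2) k) := by
          rw [← map_mul, inv_mul_cancel₀ hγ, map_one]
        have h1 : (MvPowerSeries.X 1 : MvPowerSeries (Fin 2) k) ^ (b' + 2) =
            MvPowerSeries.C (γ⁻¹) * (MvPowerSeries.X 1 * g₀ - MvPowerSeries.X 0 ^ a' *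
              (MvPowerSeries.X 0 * MvPowerSeries.X 1)) := by
          have h2 : MvPowerSeries.X 1 * g₀ - MvPowerSeries.X 0 ^ a' *
              (MvPowerSeries.X 0 * MvPowerSeries.X 1) =
              MvPowerSeries.C γ * (MvPowerSeries.X 1 : MvPowerSeries (Fin 2) k) ^ (b' + 2) := by
            rw [hg₀]; ring
          rw [h2, ← mul_assoc, hCγ, one_mul]
        rw [h1]
        exact Ideal.mul_mem_left _ _
          (Ideal.sub_mem _ (Ideal.mul_mem_left _ _ hgS) (Ideal.mul_mem_left _ _ hxyS))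
    refine ⟨a' + 1, b' + 1, by omega, by omega, Or.inr ⟨?_, γ, hγ, ?_⟩⟩
    · -- dimension count
      have hτ0 : Aux.tau (a' + 2) (b' + 2) f₀ ≠ 0 := by
        intro h
        exact hf₀K ((Aux.mem_ker_tau ha1 hb1 f₀).1 h)
      have hL : J.restrictScalars k =
          (Submodule.span k {Aux.tau (a' + 2) (b' + 2) f₀}).comap (Aux.tau (a' + 2) (b' + 2)) := by
        ext f
        rw [Submodule.restrictScalars_mem, Submodule.mem_comap, Submodule.mem_span_singleton]
        constructor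
        · intro hf
          refine ⟨MvPowerSeries.coeff (Aux.ex (a' + 1)) f / α₀, ?_⟩
          have := (Aux.mem_ker_tau ha1 hb1 _).2 (hred f hf)
          rw [map_sub, sub_eq_zero, ← MvPowerSeries.smul_eq_C_mul, map_smul] at this
          exact this.symm
        · rintro ⟨c, hc⟩
          have h1 : Aux.tau (a' + 2) (b' + 2) (f - c • f₀) = 0 := by
            rw [map_sub, map_smul, hc, sub_self]
          have h2 := hKJ ((Aux.mem_ker_tau ha1 hb1 _).1 h1)
          have h3 : f = (f - c • f₀) + MvPowerSeries.C c * f₀ := by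
            rw [MvPowerSeries.smul_eq_C_mul]; ring
          rw [h3]
          exact Ideal.add_mem _ h2 (Ideal.mul_mem_left _ _ hf₀J)
      have := Aux.finrank_quot J _ hL
      rw [hn, finrank_span_singleton hτ0] at this
      omega
    · apply le_antisymm
      · intro f hf
        have h1 := hKspan (hred f hf)
        have h2 : f₀ ∈ Ideal.span {MvPowerSeries.X 0 * MvPowerSeries.X 1, g₀} := by
          have h3 : f₀ = MvPowerSeries.C α₀ * g₀ - (MvPowerSeries.C α₀ * g₀ - f₀) := by ring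
          rw [h3]
          exact Ideal.sub_mem _ (Ideal.mul_mem_left _ _ (Ideal.subset_span (by simp)))
            (hKspan hg₀K)
        have h4 : f = (f - MvPowerSeries.C (MvPowerSeries.coeff (Aux.ex (a' + 1)) f / α₀) * f₀) +
            MvPowerSeries.C (MvPowerSeries.coeff (Aux.ex (a' + 1)) f / α₀) * f₀ := by ring
        rw [h4]
        exact Ideal.add_mem _ h1 (Ideal.mul_mem_left _ _ h2)
      · rw [Ideal.span_le]
        intro z hz
        simp only [Set.mem_insert_iff, Set.mem_singleton_iff] at hz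
        rcases hz with rfl | rfl
        · exact hxy
        · exact hg₀J

end Groth.Agent.S19437
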