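import Groth.Statements.S19452
import Mathlib

set_option autoImplicit false
universe u
attribute [local instance] W4c6puncthilbintro.dualAlgebra
open HilbD

namespace Groth.Agent.S19452

namespace Aux
open TrivSqZeroExt DualNumber

section Crit
variable {A : Type u} [CommRing A] {N : Type u} [AddCommGroup N] [Module (DualNumber A) N]
  {Nb : Type u} [AddCommGroup Nb] [Module A Nb] [Module.Flat A Nb]

theorem dn_decomp (f : DualNumber A) : f = inl f.fst + ε * inl f.snd := by
  apply TrivSqZeroExt.ext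
  · simp
  · simp [DualNumber.snd_mul]

set_option maxHeartbeats 800000 in
/-- Flatness criterion over the dual numbers, in equational form. -/
theorem flat_of_crit (π : N →+ Nb) (hπs : Function.Surjective π)
    (hπsmul : ∀ (f : DualNumber A) (n : N), π (f • n) = f.fst • π n)
    (hker : ∀ n : N, π n = 0 → ∃ m : N, n = (ε : DualNumber A) • m)
    (hii : ∀ n : N, (ε : DualNumber A) • n = 0 → π n = 0) :
    Module.Flat (DualNumber A) N := by
  classical
  letI modA : Module A N := Module.compHom N (TrivSqZeroExt.inlHom A A)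
  have smulA : ∀ (a : A) (n : N), a • n = (inl a : DualNumber A) • n := fun _ _ => rfl
  have K1 : ∀ (f : DualNumber A) (n : N),
      f • n = f.fst • n + (ε : DualNumber A) • (f.snd • n) := by
    intro f n
    rw [smulA, smulA, smul_smul, ← add_smul, ← dn_decomp]
  have K2 : ∀ n : N, (ε : DualNumber A) • (ε : DualNumber A) • n = 0 := by
    intro n; rw [smul_smul, DualNumber.eps_mul_eps, zero_smul]
  have K3 : ∀ (a : A) (n : N), a • (ε : DualNumber A) • n = (ε : DualNumber A) • a • n := by
    intro a n; rw [smulA, smulA, smul_smul, smul_smul, mul_comm]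
  have hπA : ∀ (a : A) (n : N), π (a • n) = a • π n := by
    intro a n; rw [smulA, hπsmul, TrivSqZeroExt.fst_inl]
  have hπε : ∀ n : N, π ((ε : DualNumber A) • n) = 0 := by
    intro n; rw [hπsmul, DualNumber.fst_eps, zero_smul]
  -- general double-sum lemma
  have L0 : ∀ {l k : ℕ} (g : Fin l → A) (c : Fin l → Fin k → A) (y : Fin k → N),
      ∑ i, g i • ∑ j, c i j • y j = ∑ j, (∑ i, g i * c i j) • y j := by
    intro l k g c y
    simp_rw [Finset.smul_sum, smul_smul]
    rw [Finset.sum_comm]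
    simp_rw [← Finset.sum_smul]
  apply Module.Flat.of_forall_isTrivialRelation
  intro l f x hfx
  -- Step 1
  have h1 : ∑ i, (f i).fst • π (x i) = 0 := by
    have := congrArg π hfx
    rw [map_sum, map_zero] at this
    rw [← this]
    exact Finset.sum_congr rfl fun i _ => (hπsmul _ _).symm
  obtain ⟨k₁, c, yb, hc1', hc2'⟩ := Module.Flat.isTrivialRelation_of_sum_smul_eq_zero h1
  have hc1 : ∀ i, π (x i) = ∑ j, c i j • yb j := hc1'
  have hc2 : ∀ j, ∑ i, (f i).fst * c i j = 0 := hc2'
  choose y hy using fun j => hπs (yb j)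
  have h2 : ∀ i, ∃ z : N, x i = ∑ j, c i j • y j + (ε : DualNumber A) • z := by
    intro i
    obtain ⟨z, hz⟩ := hker (x i - ∑ j, c i j • y j) (by
      rw [map_sub, map_sum, hc1 i, sub_eq_zero]
      exact Finset.sum_congr rfl fun j _ => by rw [hπA, hy])
    exact ⟨z, by rw [← hz]; abel⟩
  choose z hz using h2
  -- Step 2
  set b : Fin k₁ → A := fun j => ∑ i, (f i).snd * c i j with hb
  have e1 : ∀ i, f i • x i = (f i).fst • (∑ j, c i j • y j) +
      (ε : DualNumber A) • ((f i).fst • z i + (f i).snd • ∑ j, c i j • y j) := by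
    intro i
    have hx := hz i
    set Y := ∑ j, c i j • y j with hY
    rw [hx, K1]
    simp only [smul_add, K3, K2, smul_zero, add_zero]
    abel
  have h3 : ∑ i, f i • x i =
      (ε : DualNumber A) • (∑ i, (f i).fst • z i + ∑ j, b j • y j) := by
    rw [Finset.sum_congr rfl (fun i _ => e1 i), Finset.sum_add_distrib, ← Finset.smul_sum,
      Finset.sum_add_distrib, L0, L0]
    have : ∀ j, (∑ i, (f i).fst * c i j) = 0 := hc2
    simp only [this, zero_smul, Finset.sum_const_zero, zero_add]
    rfl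
  have h4 : π (∑ i, (f i).fst • z i + ∑ j, b j • y j) = 0 :=
    hii _ (by rw [← h3]; exact hfx)
  -- Step 3
  have h5 : ∑ s : Fin l ⊕ Fin k₁, (Sum.elim (fun i => (f i).fst) b s) •
      (Sum.elim (fun i => π (z i)) yb s) = 0 := by
    rw [Fintype.sum_sum_type]
    simp only [Sum.elim_inl, Sum.elim_inr]
    rw [← h4, map_add, map_sum, map_sum]
    congr 1
    · exact Finset.sum_congr rfl fun i _ => by rw [hπA]
    · exact Finset.sum_congr rfl fun j _ => by rw [hπA, hy]
  obtain ⟨k₂, d, wb, hd1, hd2⟩ := Module.Flat.isTrivialRelation_of_sum_smul_eq_zero h5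
  choose w hw using fun k => hπs (wb k)
  have h6 : ∀ i, ∃ v : N, z i = ∑ k, d (Sum.inl i) k • w k + (ε : DualNumber A) • v := by
    intro i
    obtain ⟨v, hv⟩ := hker (z i - ∑ k, d (Sum.inl i) k • w k) (by
      have := hd1 (Sum.inl i)
      simp only [Sum.elim_inl] at this
      rw [map_sub, map_sum, this, sub_eq_zero]
      exact Finset.sum_congr rfl fun k _ => by rw [hπA, hw])
    exact ⟨v, by rw [← hv]; abel⟩
  have h7 : ∀ j, ∃ u : N, y j = ∑ k, d (Sum.inr j) k • w k + (ε : DualNumber A) • u := by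
    intro j
    obtain ⟨u, hu⟩ := hker (y j - ∑ k, d (Sum.inr j) k • w k) (by
      have := hd1 (Sum.inr j)
      simp only [Sum.elim_inr] at this
      rw [map_sub, map_sum, hy, this, sub_eq_zero]
      exact Finset.sum_congr rfl fun k _ => by rw [hπA, hw])
    exact ⟨u, by rw [← hu]; abel⟩
  choose v hv using h6
  choose u hu using h7
  -- Step 4
  refine ⟨k₂ + k₁, fun i => Fin.addCases
      (fun k => (inl (∑ j, c i j * d (Sum.inr j) k) : DualNumber A) + ε * inl (d (Sum.inl i) k))
      (fun j => (ε : DualNumber A) * inl (c i j)), Fin.addCases w u, ?_, ?_⟩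
  · intro i
    rw [Fin.sum_univ_add]
    simp only [Fin.addCases_left, Fin.addCases_right]
    have hx := hz i
    rw [hx]
    have hy' : ∀ j, c i j • y j = ∑ k, (c i j * d (Sum.inr j) k) • w k +
        (ε : DualNumber A) • (c i j • u j) := by
      intro j
      rw [hu j, smul_add, Finset.smul_sum, K3]
      simp_rw [smul_smul]
    rw [Finset.sum_congr rfl (fun j _ => hy' j), Finset.sum_add_distrib, Finset.sum_comm]
    simp_rw [← Finset.sum_smul]
    rw [hv i, smul_add, K2, add_zero, Finset.smul_sum]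
    simp only [add_smul, mul_smul, ← smulA, Finset.sum_add_distrib]
    abel
  · intro t
    refine Fin.addCases (fun k => ?_) (fun j => ?_) t
    · simp only [Fin.addCases_left]
      have hd2k := hd2 k
      rw [Fintype.sum_sum_type] at hd2k
      simp only [Sum.elim_inl, Sum.elim_inr] at hd2k
      apply TrivSqZeroExt.ext
      · rw [TrivSqZeroExt.fst_sum]
        simp only [TrivSqZeroExt.fst_mul, TrivSqZeroExt.fst_add, TrivSqZeroExt.fst_inl,
          DualNumber.fst_eps, zero_mul, add_zero, TrivSqZeroExt.fst_zero]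
        simp_rw [Finset.mul_sum, ← mul_assoc]
        rw [Finset.sum_comm]
        simp_rw [← Finset.sum_mul]
        simp only [hc2, zero_mul, Finset.sum_const_zero]
      · rw [TrivSqZeroExt.snd_sum]
        simp only [DualNumber.snd_mul, TrivSqZeroExt.fst_add, TrivSqZeroExt.snd_add,
          TrivSqZeroExt.fst_inl, TrivSqZeroExt.snd_inl, DualNumber.fst_eps, DualNumber.snd_eps,
          TrivSqZeroExt.fst_mul, zero_mul, add_zero, zero_add, one_mul, mul_zero,
          TrivSqZeroExt.snd_zero]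
        rw [Finset.sum_add_distrib, ← hd2k]
        congr 1
        simp only [hb]
        simp_rw [Finset.mul_sum, Finset.sum_mul, ← mul_assoc]
        rw [Finset.sum_comm]
    · simp only [Fin.addCases_right]
      apply TrivSqZeroExt.ext
      · rw [TrivSqZeroExt.fst_sum]
        simp only [TrivSqZeroExt.fst_mul, DualNumber.fst_eps, zero_mul, mul_zero,
          Finset.sum_const_zero, TrivSqZeroExt.fst_zero]
      · rw [TrivSqZeroExt.snd_sum]
        simp only [DualNumber.snd_mul, TrivSqZeroExt.fst_mul, TrivSqZeroExt.fst_inl,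
          TrivSqZeroExt.snd_inl, DualNumber.fst_eps, DualNumber.snd_eps, zero_mul, mul_zero,
          add_zero, zero_add, one_mul, TrivSqZeroExt.snd_zero]
        exact hc2 j

end Crit

section Concrete
variable {A : Type u} [CommRing A] {R : Type u} [CommRing R] [Algebra A R]

lemma algebraMap_fst (f : DualNumber A) :
    (algebraMap (DualNumber A) (DualNumber R) f).fst = algebraMap A R f.fst := by
  show (W4c6puncthilbintro.dualMap A R f).fst = _
  unfold W4c6puncthilbintro.dualMap
  rw [DualNumber.lift_apply_apply]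
  simp [TrivSqZeroExt.algebraMap_eq_inl', Algebra.ofId_apply]

lemma algebraMap_eps :
    algebraMap (DualNumber A) (DualNumber R) (ε : DualNumber A) = (ε : DualNumber R) :=
  W4c6puncthilbintro.dualMap_eps A R

lemma smul_mk (J : Ideal (DualNumber R)) (f : DualNumber A) (x : DualNumber R) :
    f • Ideal.Quotient.mk J x =
      Ideal.Quotient.mk J (algebraMap (DualNumber A) (DualNumber R) f * x) := by
  rw [← Algebra.smul_def]; rfl

lemma eps_smul_mk (J : Ideal (DualNumber R)) (x : DualNumber R) :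
    (ε : DualNumber A) • Ideal.Quotient.mk J x = Ideal.Quotient.mk J ((ε : DualNumber R) * x) := by
  rw [smul_mk, algebraMap_eps]

lemma eps_mul (x : DualNumber R) : (ε : DualNumber R) * x = inr x.fst := by
  apply TrivSqZeroExt.ext
  · simp
  · simp [DualNumber.snd_mul]

theorem flat_quot (I : Ideal R) [Module.Flat A (R ⧸ I)] (J : Ideal (DualNumber R))
    (h1 : ∀ x ∈ J, x.fst ∈ I) (h2 : ∀ a ∈ I, ∃ x ∈ J, x.fst = a)
    (h3 : ∀ a : R, (inr a : DualNumber R) ∈ J → a ∈ I) :
    Module.Flat (DualNumber A) (DualNumber R ⧸ J) := by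
  let g : DualNumber R →+* R ⧸ I :=
    (Ideal.Quotient.mk I).comp (TrivSqZeroExt.fstHom A R R : DualNumber R →+* R)
  have hg : ∀ x ∈ J, g x = 0 := fun x hx => Ideal.Quotient.eq_zero_iff_mem.2 (h1 x hx)
  let π : DualNumber R ⧸ J →+ R ⧸ I := (Ideal.Quotient.lift J g hg).toAddMonoidHom
  have hπmk : ∀ x : DualNumber R, π (Ideal.Quotient.mk J x) = Ideal.Quotient.mk I x.fst :=
    fun x => rfl
  refine flat_of_crit (A := A) π ?_ ?_ ?_ ?_
  · intro r
    obtain ⟨r, rfl⟩ := Ideal.Quotient.mk_surjective r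
    exact ⟨Ideal.Quotient.mk J (inl r), by rw [hπmk, fst_inl]⟩
  · intro f n
    obtain ⟨x, rfl⟩ := Ideal.Quotient.mk_surjective n
    rw [smul_mk, hπmk, hπmk, TrivSqZeroExt.fst_mul, algebraMap_fst, ← Algebra.smul_def]
    rfl
  · intro n hn
    obtain ⟨x, rfl⟩ := Ideal.Quotient.mk_surjective n
    rw [hπmk, Ideal.Quotient.eq_zero_iff_mem] at hn
    obtain ⟨y, hyJ, hy⟩ := h2 _ hn
    refine ⟨Ideal.Quotient.mk J (inl (x.snd - y.snd)), ?_⟩
    rw [eps_smul_mk, Ideal.Quotient.eq]
    have : x - ε * inl (x.snd - y.snd) = y := by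
      apply TrivSqZeroExt.ext
      · simp [hy]
      · simp [DualNumber.snd_mul]
    rw [this]; exact hyJ
  · intro n hn
    obtain ⟨x, rfl⟩ := Ideal.Quotient.mk_surjective n
    rw [eps_smul_mk, Ideal.Quotient.eq_zero_iff_mem, eps_mul] at hn
    rw [hπmk, Ideal.Quotient.eq_zero_iff_mem]
    exact h3 _ hn

theorem exists_of_inr_mem (J : Ideal (DualNumber R))
    (hflat : Module.Flat (DualNumber A) (DualNumber R ⧸ J))
    (a : R) (ha : (inr a : DualNumber R) ∈ J) : ∃ x ∈ J, x.fst = a := by
  haveI := hflat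
  have hrel : ∑ i : Fin 1, (fun _ => (ε : DualNumber A)) i •
      (fun _ => Ideal.Quotient.mk J (inl a)) i = 0 := by
    simp only [Fin.sum_univ_one]
    rw [eps_smul_mk, Ideal.Quotient.eq_zero_iff_mem, eps_mul, fst_inl]
    exact ha
  obtain ⟨k, α, yy, h1, h2⟩ := Module.Flat.isTrivialRelation_of_sum_smul_eq_zero
    (R := DualNumber A) (M := DualNumber R ⧸ J) (f := fun _ : Fin 1 => (ε : DualNumber A))
    (x := fun _ => Ideal.Quotient.mk J (inl a)) hrel
  choose yr hyr using fun j => Ideal.Quotient.mk_surjective (yy j)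
  have h2' : ∀ j, (α 0 j).fst = 0 := by
    intro j
    have h := h2 j
    simp only [Fin.sum_univ_one] at h
    have h' := congrArg TrivSqZeroExt.snd h
    simpa [DualNumber.snd_mul] using h'
  have h1' : Ideal.Quotient.mk J (inl a) = ∑ j, α 0 j • yy j := h1 0
  have h3 : Ideal.Quotient.mk J (inl a) = Ideal.Quotient.mk J
      (∑ j, algebraMap (DualNumber A) (DualNumber R) (α 0 j) * yr j) := by
    rw [map_sum, h1']
    refine Finset.sum_congr rfl fun j _ => ?_
    rw [← hyr j, smul_mk]
  rw [Ideal.Quotient.eq] at h3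
  refine ⟨_, h3, ?_⟩
  simp [TrivSqZeroExt.fst_sum, algebraMap_fst, h2']

end Concrete

section Main
variable {A : Type u} [CommRing A] {R : Type u} [CommRing R] [Algebra A R]

lemma mem_liftIdeal (I : Ideal R) (φ : I →ₗ[R] R ⧸ I) (x : DualNumber R) :
    x ∈ W4c6puncthilbintro.liftIdeal I φ ↔
      ∃ h : x.fst ∈ I, Ideal.Quotient.mk I x.snd = φ ⟨x.fst, h⟩ := Iff.rfl

lemma fstHom_surjective :
    Function.Surjective (TrivSqZeroExt.fstHom A R R) := fun r => ⟨(inl r : DualNumber R), by simp⟩

lemma lift_h1 (I : Ideal R) (φ : I →ₗ[R] R ⧸ I) :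
    ∀ x ∈ W4c6puncthilbintro.liftIdeal I φ, x.fst ∈ I := fun x hx => ((mem_liftIdeal I φ x).1 hx).1

lemma lift_h2 (I : Ideal R) (φ : I →ₗ[R] R ⧸ I) :
    ∀ a ∈ I, ∃ x ∈ W4c6puncthilbintro.liftIdeal I φ, x.fst = a := by
  intro a ha
  obtain ⟨b, hb⟩ := Ideal.Quotient.mk_surjective (φ ⟨a, ha⟩)
  refine ⟨inl a + inr b, ?_, by simp⟩
  rw [mem_liftIdeal]
  have hf : (inl a + inr b : DualNumber R).fst = a := by simp
  refine ⟨by rw [hf]; exact ha, ?_⟩
  have hs : (inl a + inr b : DualNumber R).snd = b := by simp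
  rw [hs, hb]
  congr 1
  exact Subtype.ext hf.symm

lemma lift_h3 (I : Ideal R) (φ : I →ₗ[R] R ⧸ I) :
    ∀ a : R, (inr a : DualNumber R) ∈ W4c6puncthilbintro.liftIdeal I φ → a ∈ I := by
  intro a ha
  obtain ⟨h, hmk⟩ := (mem_liftIdeal I φ _).1 ha
  have h0 : (⟨(inr a : DualNumber R).fst, h⟩ : I) = 0 := Subtype.ext (TrivSqZeroExt.fst_inr R a)
  rw [h0, map_zero, snd_inr, Ideal.Quotient.eq_zero_iff_mem] at hmk
  exact hmk

theorem main (I : Ideal R) [Module.Flat A (R ⧸ I)] :
    (∀ φ : I →ₗ[R] R ⧸ I,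
        Module.Flat (DualNumber A) (DualNumber R ⧸ W4c6puncthilbintro.liftIdeal I φ) ∧
          Ideal.map (TrivSqZeroExt.fstHom A R R) (W4c6puncthilbintro.liftIdeal I φ) = I) ∧
      Function.Injective (W4c6puncthilbintro.liftIdeal I) ∧
      ∀ J : Ideal (DualNumber R), Module.Flat (DualNumber A) (DualNumber R ⧸ J) →
        Ideal.map (TrivSqZeroExt.fstHom A R R) J = I →
          ∃ φ : I →ₗ[R] R ⧸ I, J = W4c6puncthilbintro.liftIdeal I φ := by
  refine ⟨fun φ => ⟨flat_quot (A := A) I _ (lift_h1 I φ) (lift_h2 I φ) (lift_h3 I φ), ?_⟩, ?_, ?_⟩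
  · ext a
    rw [Ideal.mem_map_iff_of_surjective _ (fstHom_surjective (A := A) (R := R))]
    constructor
    · rintro ⟨x, hx, rfl⟩
      exact lift_h1 I φ x hx
    · intro ha
      obtain ⟨x, hx, hxa⟩ := lift_h2 I φ a ha
      exact ⟨x, hx, hxa⟩
  · intro φ ψ hφψ
    apply LinearMap.ext
    rintro ⟨a, ha⟩
    obtain ⟨x, hx, hxa⟩ := lift_h2 I φ a ha
    have hx' : x ∈ W4c6puncthilbintro.liftIdeal I ψ := by
      have : W4c6puncthilbintro.liftIdeal I φ = W4c6puncthilbintro.liftIdeal I ψ := hφψ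
      rw [← this]; exact hx
    obtain ⟨h1, e1⟩ := (mem_liftIdeal I φ x).1 hx
    obtain ⟨h2, e2⟩ := (mem_liftIdeal I ψ x).1 hx'
    have hsub : (⟨x.fst, h1⟩ : I) = ⟨a, ha⟩ := Subtype.ext hxa
    rw [← hsub, ← e1, e2]
  · intro J hflat hJI
    have hJ1 : ∀ x ∈ J, x.fst ∈ I := by
      intro x hx
      rw [← hJI]
      exact Ideal.mem_map_of_mem (TrivSqZeroExt.fstHom A R R) hx
    have hJ2 : ∀ a ∈ I, ∃ x ∈ J, x.fst = a := by
      intro a ha
      rw [← hJI, Ideal.mem_map_iff_of_surjective _ (fstHom_surjective (A := A) (R := R))] at ha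
      exact ha
    have hJ3 : ∀ a : R, (inr a : DualNumber R) ∈ J → a ∈ I := by
      intro a ha
      obtain ⟨x, hx, rfl⟩ := exists_of_inr_mem (A := A) J hflat a ha
      exact hJ1 x hx
    have hex : ∀ a : I, ∃ x : DualNumber R, x ∈ J ∧ x.fst = a := fun a => by
      obtain ⟨x, hx, hxa⟩ := hJ2 a.1 a.2
      exact ⟨x, hx, hxa⟩
    choose X hXJ hXf using hex
    have uniq : ∀ x ∈ J, ∀ a : I, x.fst = a →
        Ideal.Quotient.mk I x.snd = Ideal.Quotient.mk I (X a).snd := by
      intro x hx a hxa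
      rw [Ideal.Quotient.eq]
      apply hJ3
      have : (inr (x.snd - (X a).snd) : DualNumber R) = x - X a := by
        apply TrivSqZeroExt.ext
        · simp [hxa, hXf a]
        · simp
      rw [this]
      exact J.sub_mem hx (hXJ a)
    let φ : I →ₗ[R] R ⧸ I :=
      { toFun := fun a => Ideal.Quotient.mk I (X a).snd
        map_add' := by
          intro a b
          have := uniq (X a + X b) (J.add_mem (hXJ a) (hXJ b)) (a + b) (by simp [hXf])
          rw [← this]
          simp
        map_smul' := by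
          intro r a
          have := uniq (inl r * X a) (J.mul_mem_left _ (hXJ a)) (r • a) (by simp [hXf])
          rw [← this]
          simp [DualNumber.snd_mul, Algebra.smul_def] }
    refine ⟨φ, ?_⟩
    ext x
    rw [mem_liftIdeal]
    constructor
    · intro hx
      exact ⟨hJ1 x hx, uniq x hx ⟨x.fst, hJ1 x hx⟩ rfl⟩
    · rintro ⟨h, hmk⟩
      have hmk' : Ideal.Quotient.mk I x.snd = Ideal.Quotient.mk I (X ⟨x.fst, h⟩).snd := hmk
      rw [Ideal.Quotient.eq] at hmk'
      obtain ⟨y, hyJ, hy⟩ := hJ2 _ hmk'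
      have hεy : (inr (x.snd - (X ⟨x.fst, h⟩).snd) : DualNumber R) ∈ J := by
        rw [← hy, ← eps_mul]
        exact J.mul_mem_left _ hyJ
      have : x = X ⟨x.fst, h⟩ + inr (x.snd - (X ⟨x.fst, h⟩).snd) := by
        apply TrivSqZeroExt.ext
        · simp [hXf]
        · simp
      rw [this]
      exact J.add_mem (hXJ _) hεy

end Main

end Aux

/-- Let A be a commutative ring, R a commutative A-algebra free as an A-module, I an ideal of R with R/I
flat over A, and view the dual numbers R[ε] as an algebra over A[ε] (ε ↦ ε). For φ : I → R/I linear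
over R, let J_φ be the ideal of elements a + bε of R[ε] with a ∈ I and b ≡ φ(a) modulo I. Then each
R[ε]/J_φ is flat over A[ε] and J_φ reduces to I modulo ε; the assignment φ ↦ J_φ is injective; and
every ideal J of R[ε] with R[ε]/J flat over A[ε] which reduces to I modulo ε equals some J_φ. Thus
the first-order liftings of I correspond one-to-one to Hom_R(I, R/I) (the tangent space of the
Hilbert scheme at I). -/
theorem result (A : Type u) [CommRing A] (R : Type u) [CommRing R]
    [Algebra A R] [Module.Free A R] (I : Ideal R) [Module.Flat A (R ⧸ I)] :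
    (∀ φ : I →ₗ[R] R ⧸ I,
        Module.Flat (DualNumber A) (DualNumber R ⧸ W4c6puncthilbintro.liftIdeal I φ) ∧
          Ideal.map (TrivSqZeroExt.fstHom A R R) (W4c6puncthilbintro.liftIdeal I φ) = I) ∧
      Function.Injective (W4c6puncthilbintro.liftIdeal I) ∧
      ∀ J : Ideal (DualNumber R), Module.Flat (DualNumber A) (DualNumber R ⧸ J) →
        Ideal.map (TrivSqZeroExt.fstHom A R R) J = I →
          ∃ φ : I →ₗ[R] R ⧸ I, J = W4c6puncthilbintro.liftIdeal I φ := by
  exact Aux.main I

end Groth.Agent.S19452
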