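import Groth.Statements.S19484
import Groth.Agent.Lib.Helper8EtClosedPtSuppField

set_option autoImplicit false
universe u
open CategoryTheory CategoryTheory.Limits AlgebraicGeometry
open Curves

namespace Groth.Agent.S19484

/-- Let k be a separably closed field and C a curve over k, that is a scheme of finite type over k of
dimension at most one (no connectedness, smoothness, separatedness or properness assumed). Let φ : F
→ G be a morphism of torsion abelian sheaves on the small étale site of C which induces an
isomorphism on stalks at every geometric point of C lying over a generic point of an irreducible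
component (a point admitting no proper generalization). Then the induced map H^q(C_ét, F) →
H^q(C_ét, G) is an isomorphism for all q > 1; if moreover φ is an epimorphism, it is an isomorphism
for q = 1 as well. (The published statement fixes one geometric point over each generic point; the
dimension is taken at most one here.) -/
theorem result
    (k : Type u) [Field k] [IsSepClosed k] (C : Scheme.{u})
    (f : C ⟶ Spec (CommRingCat.of k)) [LocallyOfFiniteType f] [QuasiCompact f]
    (hdim : topologicalKrullDim C ≤ 1) (F G : EtCoh.Ab C) (hF : EtCoh.IsTorsion F) (hG : EtCoh.IsTorsion G)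
    (φ : F ⟶ G)
    (hgen : ∀ (Ω : Type u) [Field Ω] [IsSepClosed Ω] (ξ : Spec (CommRingCat.of Ω) ⟶ C),
      (∀ x ∈ Set.range ξ.base, ∀ y : C, y ⤳ x → y = x) → IsIso ((EtCoh.stalk ξ).map φ)) :
    (∀ q : ℕ, 1 < q → IsIso ((EtCoh.HF C q).map φ)) ∧ (Epi φ → IsIso ((EtCoh.HF C 1).map φ)) := by
  have hiso : ∀ (Ω : Type u) [Field Ω] [IsSepClosed Ω] (ξ : Spec (CommRingCat.of Ω) ⟶ C),
      ¬ IsClosed ({ξ (default : Spec (CommRingCat.of Ω))} : Set C) →
        IsIso ((EtCoh.stalk ξ).map φ) := fun Ω _ _ ξ hcl =>
    hgen Ω ξ (Groth.Agent.Lib.Helper8EtClosedPtSuppField.generic_of_not_isClosed hdim ξ hcl)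
  obtain ⟨hK, hQ⟩ := Groth.Agent.Lib.Helper8EtClosedPtSuppField.closedPtSupp_kernel_cokernel φ hiso
  obtain ⟨h1, h2⟩ := Groth.Agent.Lib.Helper8EtClosedPtSuppField.bijective_H_map f φ hK hQ
  refine ⟨fun q hq => ?_, fun hepi => ?_⟩
  · exact (ConcreteCategory.isIso_iff_bijective _).mpr (h1 q hq)
  · exact (ConcreteCategory.isIso_iff_bijective _).mpr (h2 hepi)

end Groth.Agent.S19484
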