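import Groth.Statements.S19488
import Mathlib
import Groth.Agent.Lib.Helper23CounitEpi

set_option autoImplicit false
universe u
open CategoryTheory CategoryTheory.Limits AlgebraicGeometry
open W4c1frobunstiva

set_option linter.style.haveILetI false

namespace Groth.Agent.S19488.Aux

/-- generic: a right exact additive functor sends the kernel of an epi onto the kernel of the
image. -/
theorem epi_kernelComparison {C D : Type*} [Category C] [Category D] [Abelian C] [Abelian D]
    (L : C ⥤ D) [L.PreservesZeroMorphisms] [PreservesFiniteColimits L]
    {X Y : C} (ψ : X ⟶ Y) [Epi ψ] : Epi (kernelComparison ψ L) := by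
  let S : ShortComplex C := ShortComplex.mk (kernel.ι ψ) ψ (kernel.condition ψ)
  have hS : S.Exact := ShortComplex.exact_kernel ψ
  have hSL : (S.map L).Exact :=
    hS.map_of_epi_of_preservesCokernel L (inferInstanceAs (Epi ψ)) inferInstance
  exact (S.map L).exact_iff_epi_kernel_lift.mp hSL

/-- for a closed immersion the counit `f^* f_* E ⟶ E` is an epimorphism -/
theorem epi_counit {S T : Scheme.{u}} (f : S ⟶ T) [IsClosedImmersion f] (E : S.Modules) :
    Epi ((Scheme.Modules.pullbackPushforwardAdjunction f).counit.app E) := by
  rw [Groth.Agent.Lib.Helper23.CounitEpi.epi_counit_iff]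
  intro G φ ψ h
  apply Scheme.Modules.hom_ext
  intro W
  -- every open of `S` is a preimage
  have hemb : Topology.IsEmbedding f.base := f.isClosedEmbedding.isEmbedding
  obtain ⟨V, hV, hVW⟩ := hemb.isOpen_iff.mp W.2
  have : W = f ⁻¹ᵁ ⟨V, hV⟩ := by
    ext x
    show x ∈ W.carrier ↔ _
    rw [← hVW]
    rfl
  rw [this]
  exact h _

end Groth.Agent.S19488.Aux


namespace Groth.Agent.S19488

/-- Fix a closed immersion of schemes f : S → T, an O_T-module G, an O_S-module E and an epimorphism ψ :
G → f_*E. Then the morphism ψ′ : f^*G → E that corresponds to ψ under the adjunction between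
pullback and pushforward (it is the pullback f^*ψ followed by the counit f^*f_*E → E, an isomorphism
for a closed immersion) is an epimorphism, and the canonical map f^*(ker ψ) → ker(f^*ψ) is an
epimorphism. (The published statement takes G and E locally free, which these two assertions do not
use.) -/
theorem result
    {S T : Scheme.{u}} (f : S ⟶ T) [IsClosedImmersion f] (G : T.Modules) (E : S.Modules)
    (ψ : G ⟶ (Scheme.Modules.pushforward f).obj E) [Epi ψ] :
    Epi (((Scheme.Modules.pullbackPushforwardAdjunction f).homEquiv G E).symm ψ) ∧
      Epi (kernelComparison ψ (Scheme.Modules.pullback f)) := by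
  haveI : (Scheme.Modules.pullback f).IsLeftAdjoint :=
    (Scheme.Modules.pullbackPushforwardAdjunction f).isLeftAdjoint
  haveI : (Scheme.Modules.pullback f).Additive :=
    (Scheme.Modules.pullbackPushforwardAdjunction f).left_adjoint_additive
  constructor
  · rw [Adjunction.homEquiv_counit]
    haveI := Aux.epi_counit f E
    haveI : Epi ((Scheme.Modules.pullback f).map ψ) := inferInstance
    exact epi_comp _ _
  · exact Aux.epi_kernelComparison _ ψ

end Groth.Agent.S19488
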