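import Groth.Statements.S19514
import Mathlib
import Groth.Agent.S19511

set_option autoImplicit false
universe u
open CategoryTheory CategoryTheory.Limits AlgebraicGeometry
open Variety

namespace Groth.Agent.S19514

namespace Aux

theorem isReduced_of_affine_cover (Z : Scheme.{u})
    (h : ∀ z : Z, ∃ W : Z.Opens, IsAffineOpen W ∧ z ∈ W ∧ _root_.IsReduced Γ(Z, W)) :
    IsReduced Z := by
  haveI : ∀ z : Z, _root_.IsReduced (Z.presheaf.stalk z) := by
    intro z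
    obtain ⟨W, hW, hz, hr⟩ := h z
    letI := TopCat.Presheaf.algebra_section_stalk Z.presheaf (⟨z, hz⟩ : W)
    haveI := hW.isLocalization_stalk ⟨z, hz⟩
    exact isReduced_localizationPreserves (hW.primeIdealOf ⟨z, hz⟩).asIdeal.primeCompl _ hr
  exact isReduced_of_isReduced_stalk Z

theorem appLE_of_eq {X Y : Scheme.{u}} {f g : X ⟶ Y} (h : f = g) (U : Y.Opens) (V : X.Opens)
    (e : V ≤ f ⁻¹ᵁ U) : f.appLE U V e = g.appLE U V (h ▸ e) := by
  subst h
  rfl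

theorem injective_appLE_baseChange {S T X Y XT YT : Scheme.{u}} (pX : X ⟶ S) (pY : Y ⟶ S)
    (t : T ⟶ S) [Flat t] (f : X ⟶ Y) (hf : f ≫ pY = pX)
    {gX : XT ⟶ X} {qX : XT ⟶ T} (HX : IsPullback gX qX pX t)
    {gY : YT ⟶ Y} {qY : YT ⟶ T} (HY : IsPullback gY qY pY t)
    (fT : XT ⟶ YT) (h1 : fT ≫ gY = gX ≫ f) (h2 : fT ≫ qY = qX)
    [IsAffine S] [IsAffine T]
    (V : Y.Opens) (hV : IsAffineOpen V) (hc : IsCompact (f ⁻¹ᵁ V : Set X)) [IsIso (f.app V)]
    (e : gX ⁻¹ᵁ (f ⁻¹ᵁ V) ≤ fT ⁻¹ᵁ (gY ⁻¹ᵁ V)) :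
    Function.Injective (fT.appLE (gY ⁻¹ᵁ V) (gX ⁻¹ᵁ (f ⁻¹ᵁ V)) e).hom := by
  have hST : (⊤ : T.Opens) ≤ t ⁻¹ᵁ (⊤ : S.Opens) := le_rfl
  have hSY : V ≤ pY ⁻¹ᵁ (⊤ : S.Opens) := le_top
  have hSX : f ⁻¹ᵁ V ≤ pX ⁻¹ᵁ (⊤ : S.Opens) := le_top
  have hUY : gY ⁻¹ᵁ V = gY ⁻¹ᵁ V ⊓ qY ⁻¹ᵁ (⊤ : T.Opens) := by simp
  have hUX : gX ⁻¹ᵁ (f ⁻¹ᵁ V) = gX ⁻¹ᵁ (f ⁻¹ᵁ V) ⊓ qX ⁻¹ᵁ (⊤ : T.Opens) := by simp
  haveI iY : IsIso (pushoutSection HY hST hSY hUY) :=
    isIso_pushoutSection_of_isAffineOpen HY hST hSY hUY (isAffineOpen_top S) (isAffineOpen_top T) hV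
  haveI mX : Mono (pushoutSection HX hST hSX hUX) :=
    mono_pushoutSection_of_isCompact_of_flat_right HX hST hSX hUX (isAffineOpen_top S)
      (isAffineOpen_top T) hc
  have comm1 : pY.appLE ⊤ V hSY ≫ f.app V = 𝟙 _ ≫ pX.appLE ⊤ (f ⁻¹ᵁ V) hSX := by
    rw [Category.id_comp]
    subst hf
    rw [Scheme.Hom.app_eq_appLE, Scheme.Hom.appLE_comp_appLE]
  have comm2 : t.appLE ⊤ ⊤ hST ≫ 𝟙 _ = 𝟙 _ ≫ t.appLE ⊤ ⊤ hST := by simp
  have key : pushoutSection HY hST hSY hUY ≫ fT.appLE (gY ⁻¹ᵁ V) (gX ⁻¹ᵁ (f ⁻¹ᵁ V)) e =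
      pushout.map _ _ _ _ (f.app V) (𝟙 _) (𝟙 _) comm1 comm2 ≫ pushoutSection HX hST hSX hUX := by
    apply pushout.hom_ext
    · simp only [pushout.inl_desc_assoc, pushout.inl_desc, Scheme.Hom.appLE_comp_appLE,
        Category.assoc, Scheme.Hom.app_eq_appLE]
      exact appLE_of_eq h1 _ _ _
    · simp only [pushout.inr_desc_assoc, pushout.inr_desc, Scheme.Hom.appLE_comp_appLE,
        Category.id_comp, Category.assoc]
      exact appLE_of_eq h2 _ _ _
  have hmono : Mono (fT.appLE (gY ⁻¹ᵁ V) (gX ⁻¹ᵁ (f ⁻¹ᵁ V)) e) := by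
    have : fT.appLE (gY ⁻¹ᵁ V) (gX ⁻¹ᵁ (f ⁻¹ᵁ V)) e =
        inv (pushoutSection HY hST hSY hUY) ≫
          pushout.map _ _ _ _ (f.app V) (𝟙 _) (𝟙 _) comm1 comm2 ≫
            pushoutSection HX hST hSX hUX := by
      rw [← key, IsIso.inv_hom_id_assoc]
    rw [this]
    infer_instance
  exact ConcreteCategory.injective_of_mono_of_preservesPullback _

theorem main (k : Type u) [Field k] (X Y : Scheme.{u})
    [X.Over (Spec (CommRingCat.of k))] [Y.Over (Spec (CommRingCat.of k))] [IsProper (X ↘ Spec (CommRingCat.of k))] [IsProper (Y ↘ Spec (CommRingCat.of k))]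
    (f : X ⟶ Y) (hf : f ≫ (Y ↘ Spec (CommRingCat.of k)) = X ↘ Spec (CommRingCat.of k)) (hfib : ∀ V : Y.Opens, IsIso (f.app V))
    [GeometricallyIntegral (X ↘ Spec (CommRingCat.of k))] : GeometricallyIntegral (Y ↘ Spec (CommRingCat.of k)) := by
  have hsurj : Surjective f := Groth.Agent.S19511.result k X Y f hf hfib
  have hp1 : IsProper (f ≫ (Y ↘ Spec (CommRingCat.of k))) := by rw [hf]; infer_instance
  have hfp : IsProper f := IsProper.of_comp f (Y ↘ Spec (CommRingCat.of k))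
  refine ⟨?_⟩
  intro K _ t Z fst snd h
  have HX : IsPullback (pullback.fst (X ↘ Spec (CommRingCat.of k)) t) (pullback.snd _ _)
      (X ↘ Spec (CommRingCat.of k)) t := IsPullback.of_hasPullback _ _
  haveI hXK : IsIntegral (pullback (X ↘ Spec (CommRingCat.of k)) t) :=
    GeometricallyIntegral.geometrically_isIntegral _ _ _ HX
  have hw : (pullback.fst (X ↘ Spec (CommRingCat.of k)) t ≫ f) ≫ (Y ↘ Spec (CommRingCat.of k)) =
      pullback.snd _ _ ≫ t := by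
    rw [Category.assoc, hf, pullback.condition]
  have h1 : h.lift (pullback.fst _ _ ≫ f) (pullback.snd _ _) hw ≫ fst = pullback.fst _ _ ≫ f :=
    h.lift_fst _ _ _
  have h2 : h.lift (pullback.fst _ _ ≫ f) (pullback.snd _ _) hw ≫ snd = pullback.snd _ _ :=
    h.lift_snd _ _ _
  generalize h.lift (pullback.fst _ _ ≫ f) (pullback.snd _ _) hw = fK at h1 h2
  have HL : IsPullback fK (pullback.fst _ _) fst f := by
    refine IsPullback.of_right ?_ h1 h.flip
    rw [h2, hf]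
    exact HX.flip
  haveI hsK : Surjective fK := MorphismProperty.of_isPullback HL.flip hsurj
  haveI : IrreducibleSpace Z := by
    exact fK.surjective.irreducibleSpace fK.continuous
  haveI : IsReduced Z := by
    apply isReduced_of_affine_cover
    intro z
    obtain ⟨V, hV, hzV⟩ : ∃ V : Y.Opens, IsAffineOpen V ∧ fst z ∈ V := by
      obtain ⟨_, ⟨V, hV, rfl⟩, hz, -⟩ := Y.isBasis_affineOpens.exists_subset_of_mem_open
        (Set.mem_univ (fst z)) isOpen_univ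
      exact ⟨V, hV, hz⟩
    haveI : IsAffineHom fst := MorphismProperty.of_isPullback h.flip (inferInstance : IsAffineHom t)
    refine ⟨fst ⁻¹ᵁ V, hV.preimage fst, hzV, ?_⟩
    haveI := hfib V
    have hc : IsCompact (f ⁻¹ᵁ V : Set X) :=
      QuasiCompact.isCompact_preimage (f := f) _ V.isOpen hV.isCompact
    have e : pullback.fst (X ↘ Spec (CommRingCat.of k)) t ⁻¹ᵁ (f ⁻¹ᵁ V) ≤ fK ⁻¹ᵁ (fst ⁻¹ᵁ V) := by
      rw [← Scheme.Hom.comp_preimage, ← Scheme.Hom.comp_preimage, h1]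
    have hinj := injective_appLE_baseChange (X ↘ Spec (CommRingCat.of k))
      (Y ↘ Spec (CommRingCat.of k)) t f hf HX h fK h1 h2 V hV hc e
    exact isReduced_of_injective _ hinj
  exact (isIntegral_iff_irreducibleSpace_and_isReduced Z).mpr ⟨inferInstance, inferInstance⟩

end Aux

/-- Let k be a field and f : X → Y a k-morphism between proper k-schemes which is a fibration, i.e. O_Y
→ f_*O_X is an isomorphism (Γ(V, O_Y) → Γ(f⁻¹V, O_X) bijective for every open V ⊆ Y). If X is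
geometrically integral over k, then so is Y. (The assertion of (iii) for geometric normality is not
stated here.) -/
theorem result (k : Type u) [Field k] (X Y : Scheme.{u})
    [X.Over (Spec (CommRingCat.of k))] [Y.Over (Spec (CommRingCat.of k))] [IsProper (X ↘ Spec (CommRingCat.of k))] [IsProper (Y ↘ Spec (CommRingCat.of k))]
    (f : X ⟶ Y) (hf : f ≫ (Y ↘ Spec (CommRingCat.of k)) = X ↘ Spec (CommRingCat.of k)) (hfib : ∀ V : Y.Opens, IsIso (f.app V))
    [GeometricallyIntegral (X ↘ Spec (CommRingCat.of k))] : GeometricallyIntegral (Y ↘ Spec (CommRingCat.of k)) := by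
  exact Aux.main k X Y f hf hfib

end Groth.Agent.S19514
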