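import Groth.Statements.S19515
import Mathlib
import Groth.Agent.S19514
import Groth.Agent.Lib.R2LeadNormalDesc

set_option autoImplicit false
universe u
open CategoryTheory CategoryTheory.Limits AlgebraicGeometry
open Variety

namespace Groth.Agent.S19515

namespace Aux

open TopologicalSpace Opposite

theorem bijective_of_away {A B A' B' : Type u} [CommRing A] [CommRing B] [CommRing A']
    [CommRing B'] [Algebra A A'] [Algebra B B'] (s : A) [IsLocalization.Away s A'] (φ : A →+* B)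
    (hφ : Function.Bijective φ) [IsLocalization.Away (φ s) B'] (ψ : A' →+* B')
    (hψ : ψ.comp (algebraMap A A') = (algebraMap B B').comp φ) : Function.Bijective ψ := by
  have H : Submonoid.map (RingEquiv.ofBijective φ hφ).toMonoidHom (Submonoid.powers s) =
      Submonoid.powers (φ s) := by
    rw [Submonoid.map_powers]; rfl
  have hE : ψ = (IsLocalization.ringEquivOfRingEquiv (M := Submonoid.powers s)
      (T := Submonoid.powers (φ s)) A' B' (RingEquiv.ofBijective φ hφ) H).toRingHom := by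
    apply IsLocalization.ringHom_ext (Submonoid.powers s)
    ext a
    have h1 : ψ (algebraMap A A' a) = algebraMap B B' (φ a) := congrArg (fun F => F a) hψ
    simp only [RingHom.comp_apply, h1]
    exact (IsLocalization.ringEquivOfRingEquiv_eq (M := Submonoid.powers s)
      (T := Submonoid.powers (φ s)) (S := A') (Q := B') H a).symm
  rw [hE]
  exact RingEquiv.bijective _

theorem isLocalization_away_of_eq_basicOpen {X : Scheme.{u}} {U : X.Opens}
    (hU : IsCompact (U : Set X)) (hU' : IsQuasiSeparated (U : Set X)) (t : Γ(X, U))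
    (W : X.Opens) (hW : W = X.basicOpen t) (hWU : W ≤ U) :
    @IsLocalization.Away _ _ t Γ(X, W) _ (X.presheaf.map (homOfLE hWU).op).hom.toAlgebra := by
  subst hW
  exact isLocalization_basicOpen_of_qcqs hU hU' t

theorem isIso_app_basicOpen {X Y : Scheme.{u}} (g : X ⟶ Y) (V : Y.Opens) (hV : IsAffineOpen V)
    (hc : IsCompact (g ⁻¹ᵁ V : Set X)) (hqs : IsQuasiSeparated (g ⁻¹ᵁ V : Set X))
    [IsIso (g.app V)] (s : Γ(Y, V)) : IsIso (g.app (Y.basicOpen s)) := by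
  have hW : g ⁻¹ᵁ Y.basicOpen s = X.basicOpen ((g.app V).hom s) := Scheme.preimage_basicOpen g s
  have hWU : g ⁻¹ᵁ Y.basicOpen s ≤ g ⁻¹ᵁ V := g.preimage_mono (Y.basicOpen_le s)
  letI algX : Algebra Γ(X, g ⁻¹ᵁ V) Γ(X, g ⁻¹ᵁ Y.basicOpen s) :=
    (X.presheaf.map (homOfLE hWU).op).hom.toAlgebra
  haveI locX : IsLocalization.Away ((g.app V).hom s) Γ(X, g ⁻¹ᵁ Y.basicOpen s) :=
    isLocalization_away_of_eq_basicOpen hc hqs _ _ hW hWU
  haveI locY : IsLocalization.Away s Γ(Y, Y.basicOpen s) := hV.isLocalization_basicOpen s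
  have hbij := bijective_of_away s (g.app V).hom (ConcreteCategory.bijective_of_isIso _)
    (g.app (Y.basicOpen s)).hom ?_
  · exact (ConcreteCategory.isIso_iff_bijective _).mpr hbij
  · ext a
    simp only [RingHom.comp_apply, RingHom.algebraMap_toAlgebra]
    exact congrArg (fun F => F.hom a) (g.naturality (homOfLE (Y.basicOpen_le s)).op)

theorem isIso_app_of_basis {X Y : Scheme.{u}} (g : X ⟶ Y) {ι : Type u} (B : ι → Y.Opens)
    (hB : Opens.IsBasis (Set.range B)) (h : ∀ i, IsIso (g.app (B i))) (W : Y.Opens) :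
    IsIso (g.app W) := by
  let φ : Y.sheaf ⟶ (TopCat.Sheaf.pushforward CommRingCat g.base).obj X.sheaf := ⟨g.c⟩
  haveI : IsIso φ := TopCat.Sheaf.isIso_iff_isIso_basis (B := B) hB (φ := φ) (fun i => h i)
  haveI : IsIso φ.hom := (inferInstance : IsIso ((TopCat.Sheaf.forget CommRingCat Y.toTopCat).map φ))
  exact (inferInstance : IsIso (φ.hom.app (op W)))

theorem isIso_appLE_baseChange {S T X Y XT YT : Scheme.{u}} (pX : X ⟶ S) (pY : Y ⟶ S)
    (t : T ⟶ S) [Flat t] (f : X ⟶ Y) (hf : f ≫ pY = pX)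
    {gX : XT ⟶ X} {qX : XT ⟶ T} (HX : IsPullback gX qX pX t)
    {gY : YT ⟶ Y} {qY : YT ⟶ T} (HY : IsPullback gY qY pY t)
    (fT : XT ⟶ YT) (h1 : fT ≫ gY = gX ≫ f) (h2 : fT ≫ qY = qX)
    [IsAffine S] [IsAffine T]
    (V : Y.Opens) (hV : IsAffineOpen V) (hc : IsCompact (f ⁻¹ᵁ V : Set X))
    (hqs : IsQuasiSeparated (f ⁻¹ᵁ V : Set X)) [IsIso (f.app V)]
    (e : gX ⁻¹ᵁ (f ⁻¹ᵁ V) ≤ fT ⁻¹ᵁ (gY ⁻¹ᵁ V)) :
    IsIso (fT.appLE (gY ⁻¹ᵁ V) (gX ⁻¹ᵁ (f ⁻¹ᵁ V)) e) := by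
  have hST : (⊤ : T.Opens) ≤ t ⁻¹ᵁ (⊤ : S.Opens) := le_rfl
  have hSY : V ≤ pY ⁻¹ᵁ (⊤ : S.Opens) := le_top
  have hSX : f ⁻¹ᵁ V ≤ pX ⁻¹ᵁ (⊤ : S.Opens) := le_top
  have hUY : gY ⁻¹ᵁ V = gY ⁻¹ᵁ V ⊓ qY ⁻¹ᵁ (⊤ : T.Opens) := by simp
  have hUX : gX ⁻¹ᵁ (f ⁻¹ᵁ V) = gX ⁻¹ᵁ (f ⁻¹ᵁ V) ⊓ qX ⁻¹ᵁ (⊤ : T.Opens) := by simp
  haveI iY : IsIso (pushoutSection HY hST hSY hUY) :=
    isIso_pushoutSection_of_isAffineOpen HY hST hSY hUY (isAffineOpen_top S) (isAffineOpen_top T) hV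
  haveI iX : IsIso (pushoutSection HX hST hSX hUX) :=
    isIso_pushoutSection_of_isQuasiSeparated_of_flat_right HX hST hSX hUX (isAffineOpen_top S)
      (isAffineOpen_top T) hc hqs
  have comm1 : pY.appLE ⊤ V hSY ≫ f.app V = 𝟙 _ ≫ pX.appLE ⊤ (f ⁻¹ᵁ V) hSX := by
    rw [Category.id_comp]
    subst hf
    rw [Scheme.Hom.app_eq_appLE, Scheme.Hom.appLE_comp_appLE]
  have comm2 : t.appLE ⊤ ⊤ hST ≫ 𝟙 _ = 𝟙 _ ≫ t.appLE ⊤ ⊤ hST := by simp
  have key : pushoutSection HY hST hSY hUY ≫ fT.appLE (gY ⁻¹ᵁ V) (gX ⁻¹ᵁ (f ⁻¹ᵁ V)) e =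
      pushout.map _ _ _ _ (f.app V) (𝟙 _) (𝟙 _) comm1 comm2 ≫ pushoutSection HX hST hSX hUX := by
    apply pushout.hom_ext
    · simp only [pushout.inl_desc_assoc, pushout.inl_desc, Scheme.Hom.appLE_comp_appLE,
        Category.assoc, Scheme.Hom.app_eq_appLE]
      exact Groth.Agent.S19514.Aux.appLE_of_eq h1 _ _ _
    · simp only [pushout.inr_desc_assoc, pushout.inr_desc, Scheme.Hom.appLE_comp_appLE,
        Category.id_comp]
      exact Groth.Agent.S19514.Aux.appLE_of_eq h2 _ _ _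
  have : fT.appLE (gY ⁻¹ᵁ V) (gX ⁻¹ᵁ (f ⁻¹ᵁ V)) e =
      inv (pushoutSection HY hST hSY hUY) ≫
        pushout.map _ _ _ _ (f.app V) (𝟙 _) (𝟙 _) comm1 comm2 ≫
          pushoutSection HX hST hSX hUX := by
    rw [← key, IsIso.inv_hom_id_assoc]
  rw [this]
  infer_instance

theorem isIso_app_of_isIso_appLE {X Y : Scheme.{u}} (g : X ⟶ Y) (W : Y.Opens) (U : X.Opens)
    (hU : U = g ⁻¹ᵁ W) (e : U ≤ g ⁻¹ᵁ W) [IsIso (g.appLE W U e)] : IsIso (g.app W) := by
  subst hU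
  rw [Scheme.Hom.app_eq_appLE]
  infer_instance

theorem isIso_app_baseChange {S T X Y XT YT : Scheme.{u}} (pX : X ⟶ S) (pY : Y ⟶ S)
    (t : T ⟶ S) [Flat t] (f : X ⟶ Y) (hf : f ≫ pY = pX)
    {gX : XT ⟶ X} {qX : XT ⟶ T} (HX : IsPullback gX qX pX t)
    {gY : YT ⟶ Y} {qY : YT ⟶ T} (HY : IsPullback gY qY pY t)
    (fT : XT ⟶ YT) (h1 : fT ≫ gY = gX ≫ f) (h2 : fT ≫ qY = qX)
    [IsAffine S] [IsAffine T] [QuasiCompact f] [QuasiSeparatedSpace X]
    [QuasiCompact fT] [QuasiSeparatedSpace XT]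
    (hfib : ∀ V : Y.Opens, IsIso (f.app V)) (W : YT.Opens) : IsIso (fT.app W) := by
  haveI : IsAffineHom gY := MorphismProperty.of_isPullback HY.flip (inferInstance : IsAffineHom t)
  have hpre : ∀ V : Y.Opens, gX ⁻¹ᵁ (f ⁻¹ᵁ V) = fT ⁻¹ᵁ (gY ⁻¹ᵁ V) := by
    intro V
    rw [← Scheme.Hom.comp_preimage, ← Scheme.Hom.comp_preimage, h1]
  have hstep : ∀ V : Y.Opens, IsAffineOpen V → IsIso (fT.app (gY ⁻¹ᵁ V)) := by
    intro V hV
    haveI := hfib V
    have hc : IsCompact (f ⁻¹ᵁ V : Set X) :=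
      QuasiCompact.isCompact_preimage (f := f) _ V.isOpen hV.isCompact
    have hqs : IsQuasiSeparated (f ⁻¹ᵁ V : Set X) := IsQuasiSeparated.of_quasiSeparatedSpace _
    haveI := isIso_appLE_baseChange pX pY t f hf HX HY fT h1 h2 V hV hc hqs (hpre V).le
    exact isIso_app_of_isIso_appLE fT (gY ⁻¹ᵁ V) _ (hpre V) (hpre V).le
  refine isIso_app_of_basis fT
    (fun i : (Σ V : Y.affineOpens, Γ(YT, gY ⁻¹ᵁ V.1)) => YT.basicOpen i.2) ?_ ?_ W
  · rw [Opens.isBasis_iff_nbhd]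
    intro U x hx
    obtain ⟨_, ⟨V, hV, rfl⟩, hxV, -⟩ := Y.isBasis_affineOpens.exists_subset_of_mem_open
        (Set.mem_univ (gY x)) isOpen_univ
    obtain ⟨s, hsU, hxs⟩ := (hV.preimage gY).exists_basicOpen_le (V := U) ⟨x, hx⟩ hxV
    exact ⟨_, ⟨⟨⟨V, hV⟩, s⟩, rfl⟩, hxs, hsU⟩
  · rintro ⟨V, s⟩
    haveI := hstep V.1 V.2
    have hc : IsCompact (fT ⁻¹ᵁ (gY ⁻¹ᵁ V.1) : Set XT) :=
      QuasiCompact.isCompact_preimage (f := fT) _ (gY ⁻¹ᵁ V.1).isOpen (V.2.preimage gY).isCompact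
    exact isIso_app_basicOpen fT (gY ⁻¹ᵁ V.1) (V.2.preimage gY) hc
      (IsQuasiSeparated.of_quasiSeparatedSpace _) s

theorem main (k : Type u) [Field k] (X Y : Scheme.{u})
    [X.Over (Spec (CommRingCat.of k))] [Y.Over (Spec (CommRingCat.of k))] [IsProper (X ↘ Spec (CommRingCat.of k))] [IsProper (Y ↘ Spec (CommRingCat.of k))]
    (f : X ⟶ Y) (hf : f ≫ (Y ↘ Spec (CommRingCat.of k)) = X ↘ Spec (CommRingCat.of k)) (hfib : ∀ V : Y.Opens, IsIso (f.app V))
    (hX : ∀ (K : Type u) [Field K] [Algebra k K] [IsAlgClosure k K],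
      Pi1.IsNormalScheme (pullback (X ↘ Spec (CommRingCat.of k)) (Spec.map (CommRingCat.ofHom (algebraMap k K)))))
    (K : Type u) [Field K] [Algebra k K] [IsAlgClosure k K] :
    Pi1.IsNormalScheme (pullback (Y ↘ Spec (CommRingCat.of k)) (Spec.map (CommRingCat.ofHom (algebraMap k K)))) := by
  have hXK := hX K
  generalize Spec.map (CommRingCat.ofHom (algebraMap k K)) = t at hXK ⊢
  have hp1 : IsProper (f ≫ (Y ↘ Spec (CommRingCat.of k))) := by rw [hf]; infer_instance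
  have hfp : IsProper f := IsProper.of_comp f (Y ↘ Spec (CommRingCat.of k))
  have HX := IsPullback.of_hasPullback (X ↘ Spec (CommRingCat.of k)) t
  have HY := IsPullback.of_hasPullback (Y ↘ Spec (CommRingCat.of k)) t
  have hw : (pullback.fst (X ↘ Spec (CommRingCat.of k)) t ≫ f) ≫ (Y ↘ Spec (CommRingCat.of k)) =
      pullback.snd _ _ ≫ t := by
    rw [Category.assoc, hf, pullback.condition]
  have h1 : pullback.lift (pullback.fst _ _ ≫ f) (pullback.snd _ _) hw ≫ pullback.fst _ _ =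
      pullback.fst _ _ ≫ f := pullback.lift_fst _ _ _
  have h2 : pullback.lift (pullback.fst _ _ ≫ f) (pullback.snd _ _) hw ≫ pullback.snd _ _ =
      pullback.snd _ _ := pullback.lift_snd _ _ _
  generalize pullback.lift (pullback.fst _ _ ≫ f) (pullback.snd _ _) hw = fK at h1 h2
  have HL : IsPullback fK (pullback.fst _ _) (pullback.fst _ _) f := by
    refine IsPullback.of_right ?_ h1 HY.flip
    rw [h2, hf]
    exact HX.flip
  haveI : IsProper fK := MorphismProperty.of_isPullback HL.flip hfp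
  haveI : IsLocallyNoetherian X :=
    LocallyOfFiniteType.isLocallyNoetherian (X ↘ Spec (CommRingCat.of k))
  haveI : IsLocallyNoetherian (pullback (X ↘ Spec (CommRingCat.of k)) t) :=
    LocallyOfFiniteType.isLocallyNoetherian (pullback.snd (X ↘ Spec (CommRingCat.of k)) t)
  have hfibK : ∀ W, IsIso (fK.app W) :=
    isIso_app_baseChange (X ↘ Spec (CommRingCat.of k)) (Y ↘ Spec (CommRingCat.of k)) t f hf HX HY
      fK h1 h2 hfib
  intro y
  haveI : NoZeroDivisors ((pullback (Y ↘ Spec (CommRingCat.of k)) t).presheaf.stalk y) :=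
    Groth.Agent.Lib.R2Lead.NormalDesc.noZeroDivisors_stalk fK hfibK (fun x => (hXK x).1) y
  haveI : IsDomain ((pullback (Y ↘ Spec (CommRingCat.of k)) t).presheaf.stalk y) :=
    NoZeroDivisors.to_isDomain _
  exact ⟨inferInstance, Groth.Agent.Lib.R2Lead.NormalDesc.isIntegrallyClosed_stalk fK hfibK hXK y⟩

end Aux

/-- Let k be a field and f : X → Y a k-morphism between proper k-schemes which is a fibration, i.e. O_Y
→ f_*O_X is an isomorphism (Γ(V, O_Y) → Γ(f⁻¹V, O_X) bijective for every open V ⊆ Y). If X is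
geometrically normal, i.e. its base change to every algebraic closure of k has all local rings
integrally closed domains, then Y is geometrically normal in the same sense. -/
theorem result (k : Type u) [Field k] (X Y : Scheme.{u})
    [X.Over (Spec (CommRingCat.of k))] [Y.Over (Spec (CommRingCat.of k))] [IsProper (X ↘ Spec (CommRingCat.of k))] [IsProper (Y ↘ Spec (CommRingCat.of k))]
    (f : X ⟶ Y) (hf : f ≫ (Y ↘ Spec (CommRingCat.of k)) = X ↘ Spec (CommRingCat.of k)) (hfib : ∀ V : Y.Opens, IsIso (f.app V))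
    (hX : ∀ (K : Type u) [Field K] [Algebra k K] [IsAlgClosure k K],
      Pi1.IsNormalScheme (pullback (X ↘ Spec (CommRingCat.of k)) (Spec.map (CommRingCat.ofHom (algebraMap k K)))))
    (K : Type u) [Field K] [Algebra k K] [IsAlgClosure k K] :
    Pi1.IsNormalScheme (pullback (Y ↘ Spec (CommRingCat.of k)) (Spec.map (CommRingCat.ofHom (algebraMap k K)))) := by
  exact Aux.main k X Y f hf hfib hX K

end Groth.Agent.S19515
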