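import Groth.Statements.S19548
import Mathlib

set_option autoImplicit false
universe u
open CategoryTheory AlgebraicGeometry
open RedSub

namespace Groth.Agent.S19548

namespace Aux

variable {idx M N : Type} [AddCommGroup M] [AddCommGroup N]
  (P : RootPairing idx ℤ M N) (b : P.Base)

theorem exists_sum_of_mem_closure (m : M)
    (hm : m ∈ AddSubmonoid.closure (P.root '' (b.support : Set idx))) :
    ∃ f : idx → ℕ, m = ∑ j ∈ b.support, f j • P.root j := by
  classical
  refine AddSubmonoid.closure_induction ?_ ⟨0, by simp⟩ ?_ hm
  · rintro - ⟨j, hj, rfl⟩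
    refine ⟨Pi.single j 1, ?_⟩
    rw [Finset.sum_eq_single j]
    · simp
    · intro k _ hk; simp [Pi.single_apply, hk]
    · intro h; exact absurd hj h
  · intro _ _ _ _ ⟨f, hf⟩ ⟨g, hg⟩
    exact ⟨f + g, by simp [hf, hg, add_smul, Finset.sum_add_distrib]⟩

theorem isPos_of_mem_posRoots {c : idx} (hc : c ∈ posRoots P b) : b.IsPos c := by
  obtain ⟨f, hf⟩ := exists_sum_of_mem_closure P b _ hc
  rw [RootPairing.Base.isPos_iff']
  have h : P.root c = ∑ j ∈ b.support, ((f j : ℤ)) • P.root j := by
    rw [hf]; simp
  rw [RootPairing.Base.height_eq_sum h]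
  exact Finset.sum_nonneg fun j _ => Int.natCast_nonneg _

theorem not_isPos_of_mem_negRoots {c : idx} (hc : c ∈ negRoots P b) : ¬ b.IsPos c := by
  obtain ⟨f, hf⟩ := exists_sum_of_mem_closure P b _ hc
  rw [RootPairing.Base.isPos_iff]
  have h : P.root c = ∑ j ∈ b.support, (-(f j : ℤ)) • P.root j := by
    rw [← neg_neg (P.root c), hf]; simp
  rw [RootPairing.Base.height_eq_sum h, Finset.sum_neg_distrib]
  have : (0 : ℤ) ≤ ∑ j ∈ b.support, (f j : ℤ) := Finset.sum_nonneg fun j _ => Int.natCast_nonneg _
  omega

theorem mem_negRoots_of_not_isPos {c : idx} (hc : ¬ b.IsPos c) : c ∈ negRoots P b := by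
  rcases b.root_mem_or_neg_mem c with h | h
  · exact absurd (isPos_of_mem_posRoots P b h) hc
  · exact h

theorem reflectionPerm_conj (i j : idx) :
    P.reflectionPerm (P.reflectionPerm j i) =
      P.reflectionPerm j * P.reflectionPerm i * P.reflectionPerm j := by
  ext k
  apply P.root.injective
  simp only [Equiv.Perm.coe_mul, Function.comp_apply, RootPairing.root_reflectionPerm,
    RootPairing.reflection_reflectionPerm]
  rfl

theorem main [Finite idx] [P.IsReduced] (l : List idx) (hl : ∀ a ∈ l, a ∈ b.support)
    (c : idx) (hc : b.IsPos c) (hneg : ¬ b.IsPos ((wordPerm P l).symm c)) :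
    ∃ i : ℕ, i < l.length ∧
      P.reflectionPerm c * wordPerm P (l.take (i + 1)) = wordPerm P (l.take i) := by
  induction l generalizing c with
  | nil => exact absurd hc hneg
  | cons a l ih =>
    have ha : a ∈ b.support := hl a (List.mem_cons_self)
    by_cases hca : c = a
    · subst hca
      refine ⟨0, by simp, ?_⟩
      simp only [zero_add, List.take_succ_cons, List.take_zero, wordPerm, List.map_cons,
        List.map_nil, List.prod_cons, List.prod_nil, mul_one]
      rw [← sq, RootPairing.reflectionPerm_sq]
    · have hc' : b.IsPos (P.reflectionPerm a c) := hc.reflectionPerm ha hca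
      have hneg' : ¬ b.IsPos ((wordPerm P l).symm (P.reflectionPerm a c)) := by
        intro h
        apply hneg
        have : (wordPerm P (a :: l)).symm c = (wordPerm P l).symm (P.reflectionPerm a c) := by
          simp only [wordPerm, List.map_cons, List.prod_cons]
          rw [← Equiv.Perm.inv_def, mul_inv_rev, RootPairing.reflectionPerm_inv]
          rfl
        rw [this]; exact h
      obtain ⟨i, hi, hi'⟩ := ih (fun x hx => hl x (List.mem_cons_of_mem _ hx)) _ hc' hneg'
      refine ⟨i + 1, by simpa using hi, ?_⟩
      simp only [List.take_succ_cons, wordPerm, List.map_cons, List.prod_cons] at hi' ⊢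
      rw [← hi', reflectionPerm_conj]
      simp only [mul_assoc]
      rw [← mul_assoc (P.reflectionPerm a) (P.reflectionPerm a), ← sq,
        RootPairing.reflectionPerm_sq, one_mul]

end Aux

/-- Let Φ be a finite reduced root system (a reduced root pairing over ℤ on a finite index set) with a
base b, let w = σ_{α_1} ⋯ σ_{α_ℓ} be a reduced decomposition of a Weyl group element into simple
reflections (every α_j in the base, and no shorter word in the simple reflections gives the same
permutation of the roots), and let γ be a positive root with w⁻¹(γ) negative. Then for some i with 1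
≤ i ≤ ℓ one has σ_γ σ_{α_1} ⋯ σ_{α_i} = σ_{α_1} ⋯ σ_{α_{i-1}}. (Indices are shifted by one below:
the word is a list and the prefixes are its first i + 1 and first i letters.) -/
theorem result {idx M N : Type}
    [AddCommGroup M] [AddCommGroup N] [Finite idx]
    (P : RootPairing idx ℤ M N) [P.IsReduced] (b : P.Base) (l : List idx)
    (hl : ∀ a ∈ l, a ∈ b.support)
    (hred : ∀ l' : List idx, (∀ a ∈ l', a ∈ b.support) →
      RedSub.wordPerm P l' = RedSub.wordPerm P l → l.length ≤ l'.length)
    (c : idx) (hc : c ∈ RedSub.posRoots P b) (hneg : (RedSub.wordPerm P l).symm c ∈ RedSub.negRoots P b) :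
    ∃ i : ℕ, i < l.length ∧
      P.reflectionPerm c * RedSub.wordPerm P (l.take (i + 1)) = RedSub.wordPerm P (l.take i) := by
  exact Aux.main P b l hl c (Aux.isPos_of_mem_posRoots P b hc)
    (Aux.not_isPos_of_mem_negRoots P b hneg)

end Groth.Agent.S19548
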