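import Groth.Statements.S19552
import Mathlib
import Groth.Agent.Lib.R2LeadBassCancel

set_option autoImplicit false
universe u
open CAlg

namespace Groth.Agent.S19552

/-- Let R be a Noetherian ring of Krull dimension d and P, Q finitely generated projective R-modules of
constant rank at every prime which have the same class in the Grothendieck group, i.e. are stably
isomorphic: P ⊕ R^m ≅ Q ⊕ R^m for some m. Then there is a positive integer N with P^N ≅ Q^N. (The
two exponents in the published display are read as the same integer N; for modules of positive rank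
an isomorphism between direct powers forces equal exponents.) -/
theorem result (R : Type u) [CommRing R] [IsNoetherianRing R]
    (d n : ℕ) (hdim : ringKrullDim R = d)
    (P Q : Type u) [AddCommGroup P] [Module R P] [Module.Finite R P] [Module.Projective R P]
    [AddCommGroup Q] [Module R Q] [Module.Finite R Q] [Module.Projective R Q]
    (hrk : ∀ p : PrimeSpectrum R, Module.rankAtStalk (R := R) P p = n)
    (hrk' : ∀ p : PrimeSpectrum R, Module.rankAtStalk (R := R) Q p = n)
    (m : ℕ) (e : (P × (Fin m → R)) ≃ₗ[R] (Q × (Fin m → R))) :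
    ∃ N : ℕ, 1 ≤ N ∧ Nonempty ((Fin N → P) ≃ₗ[R] (Fin N → Q)) := by
  haveI : Nontrivial R := by
    by_contra hnt
    rw [not_nontrivial_iff_subsingleton] at hnt
    have hb := ringKrullDim_eq_bot_of_subsingleton (R := R)
    rw [hdim] at hb
    exact absurd hb (by simp)
  haveI : TopologicalSpace.NoetherianSpace (MaximalSpectrum R) :=
    Topology.IsInducing.noetherianSpace (i := MaximalSpectrum.toPrimeSpectrum) ⟨rfl⟩
  have hdim' : topologicalKrullDim (MaximalSpectrum R) ≤ d := by
    have h1 := Topology.IsInducing.topologicalKrullDim_le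
      (f := (MaximalSpectrum.toPrimeSpectrum : MaximalSpectrum R → PrimeSpectrum R)) ⟨rfl⟩
    rw [PrimeSpectrum.topologicalKrullDim_eq_ringKrullDim, hdim] at h1
    exact h1
  classical
  by_cases hn : n = 0
  · haveI : Subsingleton P := Module.rankAtStalk_eq_zero_iff_subsingleton.mp
      (funext fun p => by rw [hrk p, hn]; rfl)
    haveI : Subsingleton Q := Module.rankAtStalk_eq_zero_iff_subsingleton.mp
      (funext fun p => by rw [hrk' p, hn]; rfl)
    exact ⟨1, le_refl 1, ⟨LinearEquiv.ofSubsingleton _ _⟩⟩
  · refine ⟨d + 1, by omega, ?_⟩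
    haveI : Module.Projective R (Fin (d + 1) → P) :=
      Module.Projective.of_equiv
        (DFinsupp.linearEquivFunOnFintype (R := R) (M := fun _ : Fin (d + 1) => P))
    have hrkN : ∀ p : PrimeSpectrum R,
        Module.rankAtStalk (R := R) (Fin (d + 1) → P) p = (d + 1) * n := by
      intro p
      rw [Module.rankAtStalk_pi (fun _ : Fin (d + 1) => P) p, finsum_eq_sum_of_fintype]
      simp [hrk p]
    have piProd : ∀ (A : Type u) [AddCommGroup A] [Module R A],
        (Fin (d + 1) → (A × (Fin m → R))) ≃ₗ[R]
          ((Fin (d + 1) → A) × (Fin (d + 1) → (Fin m → R))) := fun A _ _ =>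
      LinearEquiv.ofLinear
        (LinearMap.prod
          (LinearMap.pi fun i => (LinearMap.fst R A (Fin m → R)).comp (LinearMap.proj i))
          (LinearMap.pi fun i => (LinearMap.snd R A (Fin m → R)).comp (LinearMap.proj i)))
        (LinearMap.pi fun i => LinearMap.prod
          ((LinearMap.proj i).comp (LinearMap.fst R (Fin (d + 1) → A) (Fin (d + 1) → (Fin m → R))))
          ((LinearMap.proj i).comp (LinearMap.snd R (Fin (d + 1) → A) (Fin (d + 1) → (Fin m → R)))))
        (LinearMap.ext fun x => rfl) (LinearMap.ext fun x => rfl)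
    let b : (Fin (d + 1) → (Fin m → R)) ≃ₗ[R]
        (Fin (Module.finrank R (Fin (d + 1) → (Fin m → R))) → R) :=
      (Module.finBasis R (Fin (d + 1) → (Fin m → R))).equivFun
    have E : ((Fin (d + 1) → P) × (Fin (Module.finrank R (Fin (d + 1) → (Fin m → R))) → R)) ≃ₗ[R]
        ((Fin (d + 1) → Q) × (Fin (Module.finrank R (Fin (d + 1) → (Fin m → R))) → R)) :=
      ((LinearEquiv.prodCongr (LinearEquiv.refl R (Fin (d + 1) → P)) b).symm.trans
        ((piProd P).symm.trans
          ((LinearEquiv.piCongrRight fun _ => e).trans (piProd Q)))).trans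
        (LinearEquiv.prodCongr (LinearEquiv.refl R (Fin (d + 1) → Q)) b)
    exact Groth.Agent.Lib.R2Lead.BassCancel.cancel_many R d hdim' _ (Fin (d + 1) → P)
      (Fin (d + 1) → Q) ((d + 1) * n) hrkN (by
        have h1 : 1 ≤ n := by omega
        nlinarith) E

end Groth.Agent.S19552
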