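import Groth.Statements.S19593
import Groth.Agent.Lib.R2H3VeryAmpleData
import Groth.Agent.Lib.R2H3VAmpleMor
import Groth.Agent.Lib.Helper23PB
import Groth.Agent.Lib.Helper23RestrJ

set_option autoImplicit false
universe u
open CategoryTheory AlgebraicGeometry
open PicF

namespace Groth.Agent.S19593

open Groth.Agent.Lib.Helper23.SecTw Groth.Agent.Lib.Helper6 Groth.Agent.Lib.Helper23.GenLocus
  Groth.Agent.Lib.Helper2.RelTwistGen Groth.Agent.Lib.R2H3.VeryAmpleData Opposite TopologicalSpace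
  Groth.Agent.Lib.Helper23.Extend

section glob

variable {P S : Scheme.{u}} {𝒮 : RelProj.QCGrAlg S} (p : P ⟶ S)
  (chart : ∀ (U : S.Opens) (hU : IsAffineOpen U), (((p ⁻¹ᵁ U : P.Opens) : Scheme.{u}) ≅ Proj (𝒮.deg U hU)))
  (d : ℕ) (L : P.Modules)
  (lam : ∀ (U : S.Opens) (hU : IsAffineOpen U),
    L ⟶ (Scheme.Modules.pushforward (RelProj.emb p chart U hU)).obj (GrTwist.twist (𝒮.deg U hU) (d : ℤ)))
  (hL : RelProj.IsRelTwist 𝒮 p chart (d : ℤ) L lam)

include hL in
/-- over an affine base, a homogeneous element `g` of degree `d` gives a global section of `O_P(d)` whose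
generating locus is `D₊(g)` -/
theorem exists_global_section (hS : IsAffineOpen (⊤ : S.Opens))
    (hcov : ∀ y : ProjectiveSpectrum (𝒮.deg ⊤ hS), ∃ g ∈ 𝒮.deg ⊤ hS d, g ∉ y.asHomogeneousIdeal)
    (g : 𝒮.presheaf.obj (op ⊤)) (hg : g ∈ 𝒮.deg ⊤ hS d) :
    ∃ s : Coh.structureModule P ⟶ L,
      (RelProj.emb p chart ⊤ hS) ⁻¹ᵁ CohB1.genLocus L s = Proj.basicOpen (𝒮.deg ⊤ hS) g := by
  obtain ⟨ℓ, hℓ⟩ := exists_section_genLocus_eq_basicOpen' p chart d L lam hL ⊤ hS hcov g hg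
  have htop : (⊤ : P.Opens) ≤ p ⁻¹ᵁ ⊤ := le_of_eq (Scheme.Hom.preimage_top p).symm
  refine ⟨secHom L (res L htop ℓ), ?_⟩
  rw [← Groth.Agent.Lib.Helper23.RestrJ.genLocus_restrSec (RelProj.emb p chart ⊤ hS), ← hℓ]
  congr 1
  apply Groth.Agent.Lib.Helper23.SecTw.hom_ext_of_sv
  rw [sv_secHom, res_self]
  change (secHom L (res L htop ℓ)).app ((RelProj.emb p chart ⊤ hS) ''ᵁ ⊤)
    ((Scheme.Modules.restrictUnitIso (RelProj.emb p chart ⊤ hS)).inv.app ⊤ (toS ⊤ 1)) = _
  rw [Groth.Agent.Lib.Helper23.RestrJ.restrictUnitIso_inv_one]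
  change sv (secHom L (res L htop ℓ)) ((RelProj.emb p chart ⊤ hS) ''ᵁ ⊤) = _
  rw [sv_secHom, res_res]

end glob

/-- Let k be an infinite field, Y a scheme proper over k with a relatively very ample O_Y-module A (the
pullback of O(1) along an immersion of Y into the Proj of a symmetric algebra over k), and y_1, …,
y_m finitely many points of Y. Then some global section of A generates A at every y_i. (The
published statement takes Y projective over k and A a very ample line bundle; here Y is proper over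
k and A very ample relative to Y → Spec k, which makes Y projective.) -/
theorem result
    (k : Type u) [Field k] [Infinite k] (Y : Scheme.{u}) (f : Y ⟶ Spec (CommRingCat.of k)) [IsProper f]
    (A : Y.Modules) (hA : RelProj.IsRelVeryAmple f A)
    (ι : Type) [Finite ι] (y : ι → ↥Y) :
    ∃ s : Coh.structureModule Y ⟶ A, ∀ i : ι, y i ∈ CohB1.genLocus A s := by
  classical
  obtain ⟨E, hE, 𝒮, jE, hjE, P, p, chart, hP, O1, lam, hO1, i, hi, hif, ⟨φ⟩⟩ := hA
  have : E.IsQuasicoherent := hE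
  have hgen := isGenDegOne_of_isGrSymAlg E 𝒮 jE hjE
  have hO1inv : PicF.IsInvertible O1 := Groth.Agent.S8286.result 𝒮 hgen p chart hP 1 O1 lam hO1
  have hT : IsAffineOpen (⊤ : (Spec (CommRingCat.of k)).Opens) := isAffineOpen_top _
  have hcov : ∀ q : ProjectiveSpectrum (𝒮.deg ⊤ hT), ∃ g ∈ 𝒮.deg ⊤ hT 1, g ∉ q.asHomogeneousIdeal :=
    fun q => exists_degOne_not_mem_of_gen (𝒮.deg ⊤ hT) (hgen ⊤ hT) q
  -- the points in the chart
  have hmem : ∀ a : ι, i (y a) ∈ p ⁻¹ᵁ (⊤ : (Spec (CommRingCat.of k)).Opens) := fun a => trivial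
  let z : ι → ((p ⁻¹ᵁ (⊤ : (Spec (CommRingCat.of k)).Opens) : P.Opens) : Scheme.{u}) :=
    fun a => ⟨i (y a), hmem a⟩
  let q : ι → ProjectiveSpectrum (𝒮.deg ⊤ hT) := fun a => (chart ⊤ hT).hom (z a)
  have hq : ∀ a, (RelProj.emb p chart ⊤ hT) (q a) = i (y a) := by
    intro a
    change ((chart ⊤ hT).inv ≫ (p ⁻¹ᵁ ⊤).ι) ((chart ⊤ hT).hom (z a)) = _
    rw [Scheme.Hom.comp_apply, Scheme.hom_inv_apply]
    rfl
  -- the vector space structure
  let ρ : k →+* 𝒮.presheaf.obj (op ⊤) :=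
    (𝒮.str.app (op ⊤)).hom.comp (Scheme.ΓSpecIso (CommRingCat.of k)).inv.hom
  have hρ : ∀ c, ρ c ∈ 𝒮.deg ⊤ hT 0 := fun c => 𝒮.str_mem ⊤ hT _
  let _ : Module k (𝒮.presheaf.obj (op ⊤)) := Module.compHom _ ρ
  have hsmul : ∀ (c : k) (x : 𝒮.presheaf.obj (op ⊤)), c • x = ρ c * x := fun c x => rfl
  let M1 : Submodule k (𝒮.presheaf.obj (op ⊤)) :=
    { carrier := {x | x ∈ 𝒮.deg ⊤ hT 1}
      add_mem' := fun ha hb => AddSubgroup.add_mem _ ha hb
      zero_mem' := AddSubgroup.zero_mem _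
      smul_mem' := fun c x hx => by
        change c • x ∈ 𝒮.deg ⊤ hT 1
        rw [hsmul]
        have := SetLike.mul_mem_graded (hρ c) hx
        rwa [zero_add] at this }
  let W : ι → Submodule k M1 := fun a =>
    { carrier := {x | (x : 𝒮.presheaf.obj (op ⊤)) ∈ (q a).asHomogeneousIdeal}
      add_mem' := fun {x z} hx hz => by
        change ((x + z : M1) : 𝒮.presheaf.obj (op ⊤)) ∈ (q a).asHomogeneousIdeal
        rw [Submodule.coe_add]
        exact Ideal.add_mem _ hx hz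
      zero_mem' := by
        change ((0 : M1) : 𝒮.presheaf.obj (op ⊤)) ∈ (q a).asHomogeneousIdeal
        rw [Submodule.coe_zero]
        exact Ideal.zero_mem _
      smul_mem' := fun c x hx => by
        change ((c • x : M1) : 𝒮.presheaf.obj (op ⊤)) ∈ (q a).asHomogeneousIdeal
        rw [Submodule.coe_smul, hsmul]
        exact Ideal.mul_mem_left _ _ hx }
  have hW : ∀ a, W a ≠ ⊤ := by
    intro a h
    obtain ⟨g, hg, hgq⟩ := hcov (q a)
    have : (⟨g, hg⟩ : M1) ∈ W a := by rw [h]; trivial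
    exact hgq this
  obtain ⟨x, hx⟩ := Submodule.exists_forall_notMem_of_forall_ne_top W hW
  obtain ⟨sP, hsP⟩ := exists_global_section p chart 1 O1 lam hO1 hT hcov x.1 x.2
  -- pull back to `Y`
  have hloc := Groth.Agent.Lib.Helper23.PB.genLocus_pullback i O1 hO1inv sP
    (Groth.Agent.Lib.Helper23.PB.pullbackUnitIso i).symm
  refine ⟨((Groth.Agent.Lib.Helper23.PB.pullbackUnitIso i).symm.hom ≫
    (Scheme.Modules.pullback i).map sP) ≫ φ.symm.hom, fun a => ?_⟩
  rw [Groth.Agent.Lib.Helper23.AmpleIso.genLocus_comp_iso, hloc]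
  change i (y a) ∈ CohB1.genLocus O1 sP
  rw [← hq a]
  change q a ∈ (RelProj.emb p chart ⊤ hT) ⁻¹ᵁ CohB1.genLocus O1 sP
  rw [hsP]
  exact (ProjectiveSpectrum.mem_basicOpen _ _ (q a)).mpr (hx a)

end Groth.Agent.S19593
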