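import Groth.Statements.S19595
import Mathlib

set_option autoImplicit false
universe u
open ArLef

namespace Groth.Agent.S19595

namespace Aux

open PowerSeries

lemma sub_mem_mul {P : Type*} [CommRing P] (σ : P →+* P) (J : Ideal P) {x y : P}
    (hx : σ x - x ∈ J) (hy : σ y - y ∈ J) : σ (x * y) - x * y ∈ J := by
  have : σ (x * y) - x * y = σ x * (σ y - y) + y * (σ x - x) := by rw [map_mul]; ring
  rw [this]
  exact J.add_mem (J.mul_mem_left _ hy) (J.mul_mem_left _ hx)

lemma sub_mem_pow {P : Type*} [CommRing P] (σ : P →+* P) (J : Ideal P) {x : P}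
    (hx : σ x - x ∈ J) (n : ℕ) : σ (x ^ n) - x ^ n ∈ J := by
  rw [map_pow]
  obtain ⟨c, hc⟩ := sub_dvd_pow_sub_pow (σ x) x n
  rw [hc]
  exact J.mul_mem_right _ hx

lemma sub_mem_poly {B : Type u} [CommRing B] (σ : B⟦X⟧ →+* B⟦X⟧) (J : Ideal B⟦X⟧)
    (hC : ∀ b, σ (C b) - C b ∈ J) (hX : σ X - X ∈ J) (p : Polynomial B) :
    σ (p : B⟦X⟧) - (p : B⟦X⟧) ∈ J := by
  induction p using Polynomial.induction_on' with
  | add p q hp hq =>
    rw [Polynomial.coe_add, map_add]
    have : σ ↑p + σ ↑q - ((p : B⟦X⟧) + (q : B⟦X⟧)) = (σ ↑p - ↑p) + (σ ↑q - ↑q) := by ring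
    rw [this]
    exact J.add_mem hp hq
  | monomial n a =>
    rw [Polynomial.coe_monomial, PowerSeries.monomial_eq_C_mul_X_pow]
    exact sub_mem_mul σ J (hC a) (sub_mem_pow σ J hX n)

lemma fix_sub_mem {B : Type u} [CommRing B] [IsNoetherianRing B] [IsLocalRing B]
    (σ : B⟦X⟧ →+* B⟦X⟧) (J : Ideal B⟦X⟧)
    (hC : ∀ b, σ (C b) - C b ∈ J) (hX : σ X - X ∈ J) (x : B⟦X⟧) : σ x - x ∈ J := by
  have hI : Ideal.span ({X} : Set B⟦X⟧) ≠ ⊤ := by
    rw [Ne, Ideal.span_singleton_eq_top]
    intro h
    have := (PowerSeries.isUnit_iff_constantCoeff).mp h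
    simp at this
  have hK := Ideal.iInf_pow_smul_eq_bot_of_isLocalRing (R := B⟦X⟧) (M := B⟦X⟧ ⧸ J)
    (Ideal.span ({X} : Set B⟦X⟧)) hI
  have hmem : Submodule.Quotient.mk (p := J) (σ x - x) ∈
      (⨅ i : ℕ, Ideal.span ({X} : Set B⟦X⟧) ^ i • ⊤ : Submodule B⟦X⟧ (B⟦X⟧ ⧸ J)) := by
    rw [Submodule.mem_iInf]
    intro N
    have hx := PowerSeries.eq_X_pow_mul_shift_add_trunc N x
    set y : B⟦X⟧ := PowerSeries.mk fun i ↦ coeff (i + N) x with hy
    set t : Polynomial B := x.trunc N with ht
    have h1 : σ x - x = X ^ N * (σ y - y) + ((σ (X ^ N) - X ^ N) * σ y + (σ (t : B⟦X⟧) - (t : B⟦X⟧))) := by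
      conv_lhs => rw [hx]
      rw [map_add, map_mul]
      ring
    have h2 : (σ (X ^ N) - X ^ N) * σ y + (σ (t : B⟦X⟧) - (t : B⟦X⟧)) ∈ J :=
      J.add_mem (J.mul_mem_right _ (sub_mem_pow σ J hX N)) (sub_mem_poly σ J hC hX t)
    have h3 : Submodule.Quotient.mk (p := J) (σ x - x) =
        (X ^ N : B⟦X⟧) • Submodule.Quotient.mk (p := J) (σ y - y) := by
      rw [h1, Submodule.Quotient.mk_add, (Submodule.Quotient.mk_eq_zero J).mpr h2, add_zero,
        ← smul_eq_mul, Submodule.Quotient.mk_smul]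
    rw [h3]
    exact Submodule.smul_mem_smul (Ideal.pow_mem_pow (Ideal.mem_span_singleton_self _) N)
      Submodule.mem_top
  rw [hK] at hmem
  exact (Submodule.Quotient.mk_eq_zero J).mp ((Submodule.mem_bot _).mp hmem)

lemma length_step {P : Type*} [CommRing P] [IsDomain P] (p f : P) (hp : p ≠ 0)
    (hinj : ∀ b, p ∣ b * f → p ∣ b) (e : ℕ) :
    Module.length P (P ⧸ Ideal.span ({p ^ (e + 1), f} : Set P)) =
      Module.length P (P ⧸ Ideal.span ({p ^ e, f} : Set P)) +
        Module.length P (P ⧸ Ideal.span ({p, f} : Set P)) := by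
  have h01 : Ideal.span ({p ^ e, f} : Set P) ≤
      Submodule.comap (p • (LinearMap.id : P →ₗ[P] P)) (Ideal.span ({p ^ (e + 1), f} : Set P)) := by
    intro x hx
    rw [Ideal.mem_span_pair] at hx
    obtain ⟨c, d, rfl⟩ := hx
    rw [Submodule.mem_comap]
    simp only [LinearMap.smul_apply, LinearMap.id_coe, id_eq, smul_eq_mul]
    rw [Ideal.mem_span_pair]
    exact ⟨c, p * d, by ring⟩
  have h12 : Ideal.span ({p ^ (e + 1), f} : Set P) ≤
      Submodule.comap (LinearMap.id : P →ₗ[P] P) (Ideal.span ({p, f} : Set P)) := by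
    intro x hx
    rw [Ideal.mem_span_pair] at hx
    obtain ⟨c, d, rfl⟩ := hx
    rw [Submodule.mem_comap, LinearMap.id_apply, Ideal.mem_span_pair]
    exact ⟨c * p ^ e, d, by ring⟩
  refine Module.length_eq_add_of_exact (Submodule.mapQ _ _ _ h01) (Submodule.mapQ _ _ _ h12) ?_ ?_ ?_
  · rw [injective_iff_map_eq_zero]
    intro y hy
    obtain ⟨x, rfl⟩ := Submodule.Quotient.mk_surjective _ y
    rw [Submodule.mapQ_apply, Submodule.Quotient.mk_eq_zero] at hy
    simp only [LinearMap.smul_apply, LinearMap.id_coe, id_eq, smul_eq_mul] at hy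
    rw [Ideal.mem_span_pair] at hy
    obtain ⟨c, d, hcd⟩ := hy
    have hd : p ∣ d * f := ⟨x - c * p ^ e, by linear_combination hcd⟩
    obtain ⟨d', rfl⟩ := hinj d hd
    rw [Submodule.Quotient.mk_eq_zero, Ideal.mem_span_pair]
    refine ⟨c, d', mul_left_cancel₀ hp ?_⟩
    linear_combination hcd
  · intro y
    obtain ⟨x, rfl⟩ := Submodule.Quotient.mk_surjective _ y
    exact ⟨Submodule.Quotient.mk x, by rw [Submodule.mapQ_apply]; rfl⟩
  · intro y
    obtain ⟨x, rfl⟩ := Submodule.Quotient.mk_surjective _ y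
    rw [Submodule.mapQ_apply, Submodule.Quotient.mk_eq_zero, LinearMap.id_apply,
      Ideal.mem_span_pair]
    constructor
    · rintro ⟨c, d, rfl⟩
      refine ⟨Submodule.Quotient.mk c, ?_⟩
      rw [Submodule.mapQ_apply]
      simp only [LinearMap.smul_apply, LinearMap.id_coe, id_eq, smul_eq_mul]
      rw [eq_comm, ← sub_eq_zero, ← Submodule.Quotient.mk_sub, Submodule.Quotient.mk_eq_zero,
        Ideal.mem_span_pair]
      exact ⟨0, d, by ring⟩
    · rintro ⟨z, hz⟩
      obtain ⟨c, rfl⟩ := Submodule.Quotient.mk_surjective _ z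
      rw [Submodule.mapQ_apply] at hz
      simp only [LinearMap.smul_apply, LinearMap.id_coe, id_eq, smul_eq_mul] at hz
      rw [← sub_eq_zero, ← Submodule.Quotient.mk_sub, Submodule.Quotient.mk_eq_zero,
        Ideal.mem_span_pair] at hz
      obtain ⟨a, b, hab⟩ := hz
      exact ⟨c - a * p ^ e, -b, by linear_combination -hab⟩

lemma length_pow {P : Type*} [CommRing P] [IsDomain P] (p f : P) (hp : p ≠ 0)
    (hinj : ∀ b, p ∣ b * f → p ∣ b) (e : ℕ) :
    Module.length P (P ⧸ Ideal.span ({p ^ e, f} : Set P)) =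
      (e : ℕ∞) * Module.length P (P ⧸ Ideal.span ({p, f} : Set P)) := by
  induction e with
  | zero =>
    have : Ideal.span ({p ^ 0, f} : Set P) = ⊤ := by
      rw [Ideal.eq_top_iff_one]
      exact Ideal.subset_span (by simp)
    rw [this]
    simp
  | succ e ih =>
    rw [length_step p f hp hinj e, ih]
    push_cast
    rw [add_mul, one_mul]

lemma length_residue {P K : Type*} [CommRing P] [CommRing K] (p f : P) (φ : P →+* K)
    (hφ : Function.Surjective φ) (hker : ∀ x, φ x = 0 ↔ p ∣ x) :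
    Module.length P (P ⧸ Ideal.span ({p, f} : Set P)) =
      Module.length K (K ⧸ Ideal.span ({φ f} : Set K)) := by
  letI : Algebra P K := φ.toAlgebra
  have h1 : Module.length P (K ⧸ Ideal.span ({φ f} : Set K)) =
      Module.length K (K ⧸ Ideal.span ({φ f} : Set K)) :=
    Module.length_eq_of_surjective hφ
  rw [← h1]
  let g : P →ₗ[P] (K ⧸ Ideal.span ({φ f} : Set K)) :=
    ((Submodule.mkQ (Ideal.span ({φ f} : Set K))).restrictScalars P) ∘ₗ (Algebra.linearMap P K)
  have hg : Function.Surjective g := by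
    intro y
    obtain ⟨x, rfl⟩ := Submodule.Quotient.mk_surjective _ y
    obtain ⟨z, rfl⟩ := hφ x
    exact ⟨z, rfl⟩
  have hk : LinearMap.ker g = Ideal.span ({p, f} : Set P) := by
    ext x
    rw [LinearMap.mem_ker]
    change Submodule.Quotient.mk (φ x) = 0 ↔ _
    rw [Submodule.Quotient.mk_eq_zero, Ideal.mem_span_singleton', Ideal.mem_span_pair]
    constructor
    · rintro ⟨c, hc⟩
      obtain ⟨c', rfl⟩ := hφ c
      have : φ (x - c' * f) = 0 := by rw [map_sub, map_mul, hc, sub_self]
      obtain ⟨d, hd⟩ := (hker _).mp this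
      exact ⟨d, c', by linear_combination -hd⟩
    · rintro ⟨c, d, rfl⟩
      refine ⟨φ d, ?_⟩
      rw [map_add, map_mul, map_mul, (hker p).mpr dvd_rfl, mul_zero, zero_add]
  exact ((Submodule.quotEquivOfEq _ _ hk.symm).trans (g.quotKerEquivOfSurjective hg)).length_eq

theorem main (B : Type u) [CommRing B] [IsDomain B] [IsDiscreteValuationRing B] (π : B) (hπ : Irreducible π)
    (j i : ℕ) (hi : 0 < i) (hij : i < j) (γ : B) (hγ : IsUnit γ)
    (σ : PowerSeries B ≃+* PowerSeries B)
    (hσB : ∀ b : B, σ (algebraMap B (PowerSeries B) b) - algebraMap B (PowerSeries B) b ∈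
      Ideal.span ({algebraMap B (PowerSeries B) (π ^ j)} : Set (PowerSeries B)))
    (hσπ : σ (algebraMap B (PowerSeries B) π) = algebraMap B (PowerSeries B) (π + γ * π ^ j))
    (f : PowerSeries B) (hf : σ PowerSeries.X - PowerSeries.X = algebraMap B (PowerSeries B) (π ^ i) * f)
    (hfπ : ¬ (algebraMap B (PowerSeries B) π ∣ f)) :
    Module.length (PowerSeries B) (PowerSeries B ⧸ (ArLef.fixIdeal σ).colon ({algebraMap B (PowerSeries B) (π ^ i)} : Set (PowerSeries B))) =
      ((j - i : ℕ) : ℕ∞) * Module.length (PowerSeries (IsLocalRing.ResidueField B)) (PowerSeries (IsLocalRing.ResidueField B) ⧸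
        Ideal.span ({PowerSeries.map (IsLocalRing.residue B) f} : Set (PowerSeries (IsLocalRing.ResidueField B)))) := by
  rw [PowerSeries.algebraMap_eq] at *
  obtain ⟨pi, hpi⟩ : ∃ pi : B⟦X⟧, pi = C π := ⟨_, rfl⟩
  have hpi0 : pi ≠ 0 := by
    rw [hpi, Ne, ← map_zero (C (R := B))]
    intro h
    exact hπ.ne_zero (PowerSeries.C_injective h)
  have hker : ∀ x : B⟦X⟧, PowerSeries.map (IsLocalRing.residue B) x = 0 ↔ pi ∣ x := by
    intro x
    constructor
    · intro h
      have h' : ∀ n, π ∣ coeff n x := by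
        intro n
        have := congrArg (coeff n) h
        rw [PowerSeries.coeff_map, map_zero, IsLocalRing.residue_eq_zero_iff,
          hπ.maximalIdeal_eq, Ideal.mem_span_singleton] at this
        exact this
      choose c hc using h'
      refine ⟨PowerSeries.mk c, ?_⟩
      ext n
      rw [hpi, PowerSeries.coeff_C_mul, PowerSeries.coeff_mk, hc n]
    · rintro ⟨y, rfl⟩
      rw [hpi, map_mul, PowerSeries.map_C]
      have : IsLocalRing.residue B π = 0 := by
        rw [IsLocalRing.residue_eq_zero_iff, hπ.maximalIdeal_eq]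
        exact Ideal.mem_span_singleton_self _
      rw [this, map_zero, zero_mul]
  have hinj : ∀ b, pi ∣ b * f → pi ∣ b := by
    intro b hb
    have h1 := (hker _).mpr hb
    rw [map_mul, mul_eq_zero] at h1
    rcases h1 with h1 | h1
    · exact (hker _).mp h1
    · exact absurd (hpi ▸ (hker _).mp h1) hfπ
  have hpj : ∀ n : ℕ, C (π ^ n) = pi ^ n := fun n => by rw [hpi, map_pow]
  rw [hpj] at hf ⊢
  simp only [hpj] at hσB
  have hJ : ArLef.fixIdeal σ = Ideal.span ({pi ^ j, pi ^ i * f} : Set B⟦X⟧) := by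
    apply le_antisymm
    · unfold ArLef.fixIdeal
      rw [Ideal.span_le]
      rintro _ ⟨r, rfl⟩
      refine fix_sub_mem (σ : B⟦X⟧ →+* B⟦X⟧) _ ?_ ?_ r
      · intro b
        refine Ideal.span_mono ?_ (hσB b)
        simp
      · change σ X - X ∈ _
        rw [hf]
        exact Ideal.subset_span (by simp)
    · rw [Ideal.span_le]
      rintro x (rfl | rfl)
      · obtain ⟨u, rfl⟩ := hγ
        have h1 : σ pi - pi = C (u : B) * pi ^ j := by
          rw [hpi, hσπ, ← map_sub, add_sub_cancel_left, map_mul, map_pow]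
        have h2 : pi ^ j = C ((u⁻¹ : Bˣ) : B) * (σ pi - pi) := by
          rw [h1, ← mul_assoc, ← map_mul, Units.inv_mul, map_one, one_mul]
        rw [SetLike.mem_coe, h2]
        exact Ideal.mul_mem_left _ _ (Ideal.subset_span ⟨pi, rfl⟩)
      · rw [SetLike.mem_coe, ← hf]
        exact Ideal.subset_span ⟨X, rfl⟩
  have hcolon : (ArLef.fixIdeal σ).colon ({pi ^ i} : Set B⟦X⟧) =
      Ideal.span ({pi ^ (j - i), f} : Set B⟦X⟧) := by
    ext x
    rw [Submodule.mem_colon_singleton, hJ, smul_eq_mul, Ideal.mem_span_pair, Ideal.mem_span_pair]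
    have hji : pi ^ j = pi ^ i * pi ^ (j - i) := by
      rw [← pow_add, Nat.add_sub_cancel' hij.le]
    constructor
    · rintro ⟨c, d, hcd⟩
      refine ⟨c, d, mul_left_cancel₀ (pow_ne_zero i hpi0) ?_⟩
      rw [hji] at hcd
      linear_combination hcd
    · rintro ⟨c, d, rfl⟩
      refine ⟨c, d, ?_⟩
      rw [hji]
      ring
  rw [hcolon, length_pow pi f hpi0 hinj,
    length_residue pi f _ (PowerSeries.map_surjective _ IsLocalRing.residue_surjective) hker]

end Aux

/-- In the case of a smooth point lying on the divisorial part of the fixed locus with multiplicity i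
strictly between 0 and j, let B be a discrete valuation ring with uniformizer π and residue field k,
B[[t]] the complete local ring of a semi-stable arithmetic surface over B at a point x where the
closed fibre is smooth, and σ a ring automorphism of B[[t]] with σ(π) = π + γ π^j (γ a unit of B, j
≥ 1) and σ(b) - b ∈ π^j B[[t]] for all b ∈ B (σ lies over an automorphism τ of B with v(τ(π) - π) =
j). Suppose σ(t) - t = π^i f with 0 < i < j and π not dividing f, so that the fixed-point ideal I of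
σ is (π^j, π^i f) and its divisorial part near x is the closed fibre with multiplicity i. Then the
residual fixed-point scheme, with ideal (I : π^i), has length (j - i) m at x, where m is the length
of k[[t]]/(f mod π) (the order at x of the derivation induced by σ on the closed fibre). -/
theorem result (B : Type u) [CommRing B] [IsDomain B] [IsDiscreteValuationRing B] (π : B) (hπ : Irreducible π)
    (j i : ℕ) (hi : 0 < i) (hij : i < j) (γ : B) (hγ : IsUnit γ)
    (σ : PowerSeries B ≃+* PowerSeries B)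
    (hσB : ∀ b : B, σ (algebraMap B (PowerSeries B) b) - algebraMap B (PowerSeries B) b ∈
      Ideal.span ({algebraMap B (PowerSeries B) (π ^ j)} : Set (PowerSeries B)))
    (hσπ : σ (algebraMap B (PowerSeries B) π) = algebraMap B (PowerSeries B) (π + γ * π ^ j))
    (f : PowerSeries B) (hf : σ PowerSeries.X - PowerSeries.X = algebraMap B (PowerSeries B) (π ^ i) * f)
    (hfπ : ¬ (algebraMap B (PowerSeries B) π ∣ f)) :
    Module.length (PowerSeries B) (PowerSeries B ⧸ (ArLef.fixIdeal σ).colon ({algebraMap B (PowerSeries B) (π ^ i)} : Set (PowerSeries B))) =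
      ((j - i : ℕ) : ℕ∞) * Module.length (PowerSeries (IsLocalRing.ResidueField B)) (PowerSeries (IsLocalRing.ResidueField B) ⧸
        Ideal.span ({PowerSeries.map (IsLocalRing.residue B) f} : Set (PowerSeries (IsLocalRing.ResidueField B)))) := by
  exact Aux.main B π hπ j i hi hij γ hγ σ hσB hσπ f hf hfπ

end Groth.Agent.S19595
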