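import Groth.Statements.S19606
import Mathlib
import Groth.Agent.Lib.Helper23Serre
import Groth.Agent.Lib.Helper18OmLS15
import Groth.Agent.Lib.Helper20IdealModSec

set_option autoImplicit false
universe u
open CategoryTheory CategoryTheory.Limits AlgebraicGeometry
open ClSub

namespace Groth.Agent.S19606

namespace Aux

variable {X : Scheme.{u}}

theorem toSub_surj (I : X.IdealSheafData) (V : X.Opens) (hV : IsAffineOpen V)
    (t : Γ(ClSub.quotMod I, V)) :
    ∃ a : Γ(X, V), (ClSub.toSubscheme I).app V (a : Γ(Coh.structureModule X, V)) = t :=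
  I.subschemeι_app_surjective ⟨V, hV⟩ t

theorem toSub_eq_zero_iff (I : X.IdealSheafData) (V : X.Opens) (hV : IsAffineOpen V)
    (a : Γ(X, V)) :
    (ClSub.toSubscheme I).app V (a : Γ(Coh.structureModule X, V)) = 0 ↔ a ∈ I.ideal ⟨V, hV⟩ := by
  rw [← I.ker_subschemeι_app ⟨V, hV⟩, RingHom.mem_ker]
  rfl

theorem toSub_sub (I : X.IdealSheafData) (V : X.Opens) (a b : Γ(X, V)) :
    (ClSub.toSubscheme I).app V ((a - b : Γ(X, V)) : Γ(Coh.structureModule X, V)) =
      (ClSub.toSubscheme I).app V (a : Γ(Coh.structureModule X, V)) -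
        (ClSub.toSubscheme I).app V (b : Γ(Coh.structureModule X, V)) := by
  show (I.subschemeι.app V).hom (a - b) = (I.subschemeι.app V).hom a - (I.subschemeι.app V).hom b
  exact map_sub _ _ _

theorem toSub_add (I : X.IdealSheafData) (V : X.Opens) (a b : Γ(X, V)) :
    (ClSub.toSubscheme I).app V ((a + b : Γ(X, V)) : Γ(Coh.structureModule X, V)) =
      (ClSub.toSubscheme I).app V (a : Γ(Coh.structureModule X, V)) +
        (ClSub.toSubscheme I).app V (b : Γ(Coh.structureModule X, V)) := by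
  show (I.subschemeι.app V).hom (a + b) = (I.subschemeι.app V).hom a + (I.subschemeι.app V).hom b
  exact map_add _ _ _

theorem epi_toSub (I : X.IdealSheafData) : Epi (ClSub.toSubscheme I) := by
  apply Groth.Agent.Lib.Helper23.Serre.epi_of_locally_surjective
  intro V t x hx
  obtain ⟨W, hW, hxW, hWV⟩ := exists_isAffineOpen_mem_and_subset (x := x) (U := V) hx
  obtain ⟨s, hs⟩ := toSub_surj I W hW ((ClSub.quotMod I).presheaf.map (homOfLE hWV).op t)
  exact ⟨W, hWV, hxW, s, hs⟩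

end Aux

/-- Let X be a scheme and I₁, I₂ quasi-coherent ideal sheaves with I₁ ⊓ I₂ = 0, cutting out closed
subschemes X₁, X₂ and X₁ ∩ X₂ (ideal I₁ + I₂). Then 0 → O_X → O_X/I₁ ⊕ O_X/I₂ → O_X/(I₁ + I₂) → 0 is
an exact sequence of O_X-modules, the maps being the two restrictions and the difference of the
restrictions q₁, q₂ (the module maps compatible with the quotient maps from O_X). The published
statement is for a locally free sheaf E on a reduced scheme with two irreducible components X₁, X₂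
(whose ideals meet in zero); this row is the case E = O_X for any two ideals with zero intersection,
which is what the local argument uses. -/
theorem result (X : Scheme.{u}) (I₁ I₂ : X.IdealSheafData)
    (h : I₁ ⊓ I₂ = ⊥)
    (q₁ : ClSub.quotMod I₁ ⟶ ClSub.quotMod (I₁ ⊔ I₂)) (q₂ : ClSub.quotMod I₂ ⟶ ClSub.quotMod (I₁ ⊔ I₂))
    (hq₁ : ClSub.toSubscheme I₁ ≫ q₁ = ClSub.toSubscheme (I₁ ⊔ I₂))
    (hq₂ : ClSub.toSubscheme I₂ ≫ q₂ = ClSub.toSubscheme (I₁ ⊔ I₂)) :
    Epi (biprod.desc q₁ (-q₂)) ∧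
      ∃ w : biprod.lift (ClSub.toSubscheme I₁) (ClSub.toSubscheme I₂) ≫ biprod.desc q₁ (-q₂) = 0,
        Nonempty (IsLimit (KernelFork.ofι (biprod.lift (ClSub.toSubscheme I₁) (ClSub.toSubscheme I₂)) w)) := by
  classical
  haveI := Aux.epi_toSub (I₁ ⊔ I₂)
  have hq₁epi : Epi q₁ := by
    haveI : Epi (ClSub.toSubscheme I₁ ≫ q₁) := by rw [hq₁]; infer_instance
    exact epi_of_epi (ClSub.toSubscheme I₁) q₁
  have hw : biprod.lift (ClSub.toSubscheme I₁) (ClSub.toSubscheme I₂) ≫ biprod.desc q₁ (-q₂) = 0 := by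
    rw [biprod.lift_desc, hq₁, Preadditive.comp_neg, hq₂, add_neg_cancel]
  refine ⟨?_, hw, ?_⟩
  · haveI : Epi (biprod.inl ≫ biprod.desc q₁ (-q₂)) := by rw [biprod.inl_desc]; exact hq₁epi
    exact epi_of_epi biprod.inl _
  -- sectionwise identities
  have efst : ∀ (V : X.Opens) (a : Γ(Coh.structureModule X, V)),
      (biprod.fst : ClSub.quotMod I₁ ⊞ ClSub.quotMod I₂ ⟶ _).app V
        ((biprod.lift (ClSub.toSubscheme I₁) (ClSub.toSubscheme I₂)).app V a) =
        (ClSub.toSubscheme I₁).app V a := by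
    intro V a
    rw [← ConcreteCategory.comp_apply, ← Scheme.Modules.Hom.comp_app, biprod.lift_fst]
  have esnd : ∀ (V : X.Opens) (a : Γ(Coh.structureModule X, V)),
      (biprod.snd : ClSub.quotMod I₁ ⊞ ClSub.quotMod I₂ ⟶ _).app V
        ((biprod.lift (ClSub.toSubscheme I₁) (ClSub.toSubscheme I₂)).app V a) =
        (ClSub.toSubscheme I₂).app V a := by
    intro V a
    rw [← ConcreteCategory.comp_apply, ← Scheme.Modules.Hom.comp_app, biprod.lift_snd]
  have etotal : ∀ (V : X.Opens) (b : Γ(ClSub.quotMod I₁ ⊞ ClSub.quotMod I₂, V)),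
      b = (biprod.inl : _ ⟶ ClSub.quotMod I₁ ⊞ ClSub.quotMod I₂).app V
          ((biprod.fst : ClSub.quotMod I₁ ⊞ ClSub.quotMod I₂ ⟶ _).app V b) +
        (biprod.inr : _ ⟶ ClSub.quotMod I₁ ⊞ ClSub.quotMod I₂).app V
          ((biprod.snd : ClSub.quotMod I₁ ⊞ ClSub.quotMod I₂ ⟶ _).app V b) := by
    intro V b
    have h1 : (𝟙 (ClSub.quotMod I₁ ⊞ ClSub.quotMod I₂) :).app V b = b := rfl
    conv_lhs => rw [← h1, ← biprod.total]
    rfl
  have edesc : ∀ (V : X.Opens) (b : Γ(ClSub.quotMod I₁ ⊞ ClSub.quotMod I₂, V)),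
      (biprod.desc q₁ (-q₂)).app V b =
        q₁.app V ((biprod.fst : ClSub.quotMod I₁ ⊞ ClSub.quotMod I₂ ⟶ _).app V b) -
        q₂.app V ((biprod.snd : ClSub.quotMod I₁ ⊞ ClSub.quotMod I₂ ⟶ _).app V b) := by
    intro V b
    have h1 : biprod.desc q₁ (-q₂) = biprod.fst ≫ q₁ - biprod.snd ≫ q₂ := by
      rw [biprod.desc_eq, Preadditive.comp_neg, sub_eq_add_neg]
    rw [h1]
    rfl
  have hinf : ∀ (V : X.Opens) (hV : IsAffineOpen V), I₁.ideal ⟨V, hV⟩ ⊓ I₂.ideal ⟨V, hV⟩ = ⊥ := by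
    intro V hV
    have := congrArg (fun I : X.IdealSheafData => I.ideal ⟨V, hV⟩) h
    simpa [Scheme.IdealSheafData.ideal_inf, Scheme.IdealSheafData.ideal_bot] using this
  haveI hmono : Mono (biprod.lift (ClSub.toSubscheme I₁) (ClSub.toSubscheme I₂)) := by
    apply Groth.Agent.Helper18OmLS.mono_of_injective_app_basis _ X.affineOpens
      X.isBasis_affineOpens
    intro V hV
    rw [injective_iff_map_eq_zero]
    intro a ha
    have h1 : (ClSub.toSubscheme I₁).app V a = 0 := by rw [← efst, ha, map_zero]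
    have h2 : (ClSub.toSubscheme I₂).app V a = 0 := by rw [← esnd, ha, map_zero]
    have h3 : (a : Γ(X, V)) ∈ I₁.ideal ⟨V, hV⟩ ⊓ I₂.ideal ⟨V, hV⟩ :=
      ⟨(Aux.toSub_eq_zero_iff I₁ V hV a).1 h1, (Aux.toSub_eq_zero_iff I₂ V hV a).1 h2⟩
    rw [hinf V hV] at h3
    exact h3
  have hex : (ShortComplex.mk _ _ hw).Exact := by
    rw [ShortComplex.exact_iff_epi_kernel_lift]
    show Epi (kernel.lift (biprod.desc q₁ (-q₂))
      (biprod.lift (ClSub.toSubscheme I₁) (ClSub.toSubscheme I₂)) hw)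
    apply Groth.Agent.Lib.Helper23.Serre.epi_of_locally_surjective
    intro V t x hx
    obtain ⟨W, hW, hxW, hWV⟩ := exists_isAffineOpen_mem_and_subset (x := x) (U := V) hx
    refine ⟨W, hWV, hxW, ?_⟩
    have key : ∀ k : Γ(kernel (biprod.desc q₁ (-q₂)), W), ∃ s : Γ(Coh.structureModule X, W),
        (kernel.lift (biprod.desc q₁ (-q₂))
          (biprod.lift (ClSub.toSubscheme I₁) (ClSub.toSubscheme I₂)) hw).app W s = k := by
      intro k
      obtain ⟨b, hb⟩ : ∃ b, b = (kernel.ι (biprod.desc q₁ (-q₂))).app W k := ⟨_, rfl⟩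
      have hk : (biprod.desc q₁ (-q₂)).app W b = 0 := by
        rw [hb, ← ConcreteCategory.comp_apply, ← Scheme.Modules.Hom.comp_app, kernel.condition]
        rfl
      obtain ⟨a₁, ha₁⟩ := Aux.toSub_surj I₁ W hW
        ((biprod.fst : ClSub.quotMod I₁ ⊞ ClSub.quotMod I₂ ⟶ _).app W b)
      obtain ⟨a₂, ha₂⟩ := Aux.toSub_surj I₂ W hW
        ((biprod.snd : ClSub.quotMod I₁ ⊞ ClSub.quotMod I₂ ⟶ _).app W b)
      have e₁ : (ClSub.toSubscheme (I₁ ⊔ I₂)).app W (a₁ : Γ(Coh.structureModule X, W)) =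
          q₁.app W ((ClSub.toSubscheme I₁).app W (a₁ : Γ(Coh.structureModule X, W))) := by
        rw [← hq₁]; rfl
      have e₂ : (ClSub.toSubscheme (I₁ ⊔ I₂)).app W (a₂ : Γ(Coh.structureModule X, W)) =
          q₂.app W ((ClSub.toSubscheme I₂).app W (a₂ : Γ(Coh.structureModule X, W))) := by
        rw [← hq₂]; rfl
      have h3 : (ClSub.toSubscheme (I₁ ⊔ I₂)).app W
          ((a₁ - a₂ : Γ(X, W)) : Γ(Coh.structureModule X, W)) = 0 := by
        rw [edesc, ← ha₁, ← ha₂] at hk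
        rw [Aux.toSub_sub, e₁, e₂]
        exact hk
      have h4 : (a₁ - a₂ : Γ(X, W)) ∈ I₁.ideal ⟨W, hW⟩ ⊔ I₂.ideal ⟨W, hW⟩ := by
        have := (Aux.toSub_eq_zero_iff (I₁ ⊔ I₂) W hW (a₁ - a₂)).1 h3
        rw [Scheme.IdealSheafData.ideal_sup] at this
        exact this
      obtain ⟨i₁, hi₁, i₂, hi₂, hsum⟩ := Submodule.mem_sup.1 h4
      have hi₁' := (Aux.toSub_eq_zero_iff I₁ W hW i₁).2 hi₁
      have hi₂' := (Aux.toSub_eq_zero_iff I₂ W hW i₂).2 hi₂
      refine ⟨((a₁ - i₁ : Γ(X, W)) : Γ(Coh.structureModule X, W)), ?_⟩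
      apply Groth.Agent.Lib.Helper20.StalkExact.injective_app_of_mono
        (kernel.ι (biprod.desc q₁ (-q₂))) W
      rw [← hb, ← ConcreteCategory.comp_apply, ← Scheme.Modules.Hom.comp_app, kernel.lift_ι,
        etotal W b, etotal W ((biprod.lift (ClSub.toSubscheme I₁)
        (ClSub.toSubscheme I₂)).app W _), efst, esnd, ← ha₁, ← ha₂]
      have e1 : (ClSub.toSubscheme I₁).app W ((a₁ - i₁ : Γ(X, W)) : Γ(Coh.structureModule X, W)) =
          (ClSub.toSubscheme I₁).app W (a₁ : Γ(Coh.structureModule X, W)) := by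
        rw [Aux.toSub_sub, hi₁', sub_zero]
      have e2 : (ClSub.toSubscheme I₂).app W ((a₁ - i₁ : Γ(X, W)) : Γ(Coh.structureModule X, W)) =
          (ClSub.toSubscheme I₂).app W (a₂ : Γ(Coh.structureModule X, W)) := by
        have h5 : (a₁ - i₁ : Γ(X, W)) = a₂ + i₂ := by
          have := hsum; linear_combination -this
        rw [h5, Aux.toSub_add, hi₂', add_zero]
      rw [e1, e2]
    exact key _
  exact ⟨hex.fIsKernel⟩

end Groth.Agent.S19606
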