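import Groth.Statements.S19613
import Mathlib
import Groth.Agent.Lib.Helper22ThickAffine
import Groth.Agent.Lib.Helper23FinTypeLocal

set_option autoImplicit false
universe u
open CategoryTheory AlgebraicGeometry TopologicalSpace
open CartMod

namespace Groth.Agent.S19613

namespace Aux

variable {T Tc U : Scheme.{u}}

theorem surjective_of_nil (i : T ⟶ Tc) [IsClosedImmersion i]
    (hnil : ∃ n : ℕ, ∀ V : Tc.affineOpens, i.ker.ideal V ^ n = ⊥) : Function.Surjective i := by
  obtain ⟨n, hn⟩ := hnil
  intro x
  have hx : x ∈ i.ker.support := by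
    obtain ⟨_, ⟨V, hV, rfl⟩, hxV, -⟩ :=
      (Tc.isBasis_affineOpens).exists_subset_of_mem_open (Set.mem_univ x) isOpen_univ
    rw [Scheme.IdealSheafData.mem_support_iff_of_mem (U := ⟨V, hV⟩) hxV, Scheme.mem_zeroLocus_iff]
    intro f hf hxf
    have hfn : f ^ n = 0 := by
      have : f ^ n ∈ i.ker.ideal ⟨V, hV⟩ ^ n := Ideal.pow_mem_pow hf n
      rw [hn] at this
      exact this
    have hb : Tc.basicOpen f = ⊥ := by
      by_cases h0 : n = 0
      · subst h0
        rw [pow_zero] at hfn
        have : Subsingleton Γ(Tc, V) := subsingleton_of_zero_eq_one hfn.symm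
        rw [Subsingleton.elim f 0, Scheme.basicOpen_zero]
      · rw [← Scheme.basicOpen_pow _ _ (Nat.pos_of_ne_zero h0), hfn, Scheme.basicOpen_zero]
    rw [hb] at hxf
    exact hxf
  have hx' : x ∈ (i.ker.support : Set Tc) := hx
  rw [Scheme.Hom.support_ker, i.isClosedEmbedding.isClosed_range.closure_eq] at hx'
  exact hx'

theorem isAffineOpen_preimage (i : T ⟶ Tc) [IsClosedImmersion i]
    (hnil : ∃ n : ℕ, ∀ V : Tc.affineOpens, i.ker.ideal V ^ n = ⊥)
    (u : T ⟶ U) [IsAffineHom u] (g : Tc.carrier ⟶ U.carrier) (hg : i.base ≫ g = u.base)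
    (W : U.Opens) (hW : IsAffineOpen W) : IsAffineOpen ((Opens.map g).obj W) := by
  set V : Tc.Opens := (Opens.map g).obj W with hV
  have hsurj := surjective_of_nil i hnil
  have hpre : i ⁻¹ᵁ V = u ⁻¹ᵁ W := by
    ext x
    show g (i.base x) ∈ W ↔ u.base x ∈ W
    rw [← hg]
    rfl
  have haff : IsAffineOpen (i ⁻¹ᵁ V) := by
    rw [hpre]
    exact hW.preimage u
  haveI : IsAffine (i ⁻¹ᵁ V).toScheme := haff
  have hs : Function.Surjective (i ∣_ V) := by
    rintro ⟨y, hy⟩
    obtain ⟨x, rfl⟩ := hsurj y
    refine ⟨⟨x, hy⟩, ?_⟩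
    apply Subtype.ext
    exact congrArg (fun f => f.base ⟨x, hy⟩) (morphismRestrict_ι i V)
  exact Groth.Agent.Lib.Helper22.ThickAffine.isAffine_of_thickening (i ∣_ V) hs

end Aux

/-- Let u : T → U be an affine morphism of schemes and i : T → T♮ a nilpotent closed immersion (its
ideal has a vanishing power), so that |T♮| = |T|; let g : |T♮| → |U| be the continuous map
underlying u, and v : (T♮, O_{T♮}) → (U, g_*O_{T♮}) the induced morphism of ringed spaces (identity
on structure rings), with direct image v_* (sections over g⁻¹ of an open) and inverse image v^* its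
left adjoint. Then the restriction of v_* to quasi-coherent O_{T♮}-modules is exact; since v_* is a
right adjoint, the content is that v_* of an epimorphism between quasi-coherent O_{T♮}-modules is an
epimorphism of sheaves of g_*O_{T♮}-modules on U, which is what is stated. -/
theorem result
    {T Tc U : Scheme.{u}} (i : T ⟶ Tc) [IsClosedImmersion i]
    (hnil : ∃ n : ℕ, ∀ V : Tc.affineOpens, i.ker.ideal V ^ n = ⊥)
    (u : T ⟶ U) [IsAffineHom u] (g : Tc.carrier ⟶ U.carrier) (hg : i.base ≫ g = u.base)
    (M N : Tc.Modules) [M.IsQuasicoherent] [N.IsQuasicoherent] (φ : M ⟶ N) [Epi φ] :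
    Epi ((SheafOfModules.pushforward (F := Opens.map g) (R := Tc.ringCatSheaf)
      (𝟙 (((Opens.map g).sheafPushforwardContinuous RingCat.{u} (Opens.grothendieckTopology U)
        (Opens.grothendieckTopology Tc)).obj Tc.ringCatSheaf))).map φ) := by
  set R' := ((Opens.map g).sheafPushforwardContinuous RingCat.{u} (Opens.grothendieckTopology U)
        (Opens.grothendieckTopology Tc)).obj Tc.ringCatSheaf with hR'
  set ψ := (SheafOfModules.pushforward (F := Opens.map g) (R := Tc.ringCatSheaf) (𝟙 R')).map φ with hψ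
  haveI : Presheaf.IsLocallySurjective (Opens.grothendieckTopology U)
      ((SheafOfModules.toSheaf R').map ψ).hom := by
    constructor
    intro W s
    intro x hx
    obtain ⟨_, ⟨W', hW', rfl⟩, hxW', hW'W⟩ :=
      (U.isBasis_affineOpens).exists_subset_of_mem_open hx W.isOpen
    have hV := Aux.isAffineOpen_preimage i hnil u g hg W' hW'
    have hsurj := Groth.Agent.Lib.Helper23.FinType.surjective_app_of_epi φ hV
    refine ⟨W', homOfLE hW'W, ?_, hxW'⟩
    obtain ⟨t, ht⟩ := hsurj
      ((((SheafOfModules.toSheaf R').obj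
        ((SheafOfModules.pushforward (𝟙 R')).obj N)).obj.map (homOfLE hW'W).op) s)
    exact ⟨t, ht⟩
  haveI : Epi ((SheafOfModules.toSheaf R').map ψ) :=
    Sheaf.epi_of_isLocallySurjective _
  exact (SheafOfModules.toSheaf R').epi_of_epi_map this

end Groth.Agent.S19613
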