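import Groth.Statements.S19616
import Mathlib

set_option autoImplicit false
universe u
open CartMod

namespace Groth.Agent.S19616

namespace Aux

open MvPolynomial

noncomputable section

variable (p : ℕ) (A : Type u) [CommRing A] {n : ℕ} (a : Fin n → A)

/-- relations `p t_i = a_i` -/
def rel : Ideal (MvPolynomial (Fin n) A) :=
  Ideal.span (Set.range fun i : Fin n => C (p : A) * X i - C (a i))

def D0 : Type u := MvPolynomial (Fin n) A ⧸ rel p A a

instance : CommRing (D0 p A a) := inferInstanceAs (CommRing (MvPolynomial (Fin n) A ⧸ rel p A a))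
instance : Algebra A (D0 p A a) :=
  inferInstanceAs (Algebra A (MvPolynomial (Fin n) A ⧸ rel p A a))

def mk0 : MvPolynomial (Fin n) A →ₐ[A] D0 p A a := Ideal.Quotient.mkₐ A (rel p A a)

theorem mk0_surjective : Function.Surjective (mk0 p A a) := Ideal.Quotient.mk_surjective

theorem mk0_eq_zero_iff (x : MvPolynomial (Fin n) A) : mk0 p A a x = 0 ↔ x ∈ rel p A a :=
  Ideal.Quotient.eq_zero_iff_mem

/-- `p`-power torsion of `D0` -/
def tors : Ideal (D0 p A a) where
  carrier := {x | ∃ m : ℕ, (p : D0 p A a) ^ m * x = 0}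
  add_mem' := by
    rintro x y ⟨m, hm⟩ ⟨m', hm'⟩
    refine ⟨m + m', ?_⟩
    have : (p : D0 p A a) ^ (m + m') * (x + y) =
        (p : D0 p A a) ^ m' * ((p : D0 p A a) ^ m * x) + (p : D0 p A a) ^ m * ((p : D0 p A a) ^ m' * y) := by
      ring
    rw [this, hm, hm', mul_zero, mul_zero, add_zero]
  zero_mem' := ⟨0, by simp⟩
  smul_mem' := by
    rintro c x ⟨m, hm⟩
    refine ⟨m, ?_⟩
    rw [smul_eq_mul, mul_left_comm, hm, mul_zero]

def D1 : Type u := D0 p A a ⧸ tors p A a

instance : CommRing (D1 p A a) := inferInstanceAs (CommRing (D0 p A a ⧸ tors p A a))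
instance : Algebra A (D1 p A a) := inferInstanceAs (Algebra A (D0 p A a ⧸ tors p A a))

def mk1 : D0 p A a →ₐ[A] D1 p A a := Ideal.Quotient.mkₐ A (tors p A a)

theorem mk1_surjective : Function.Surjective (mk1 p A a) := Ideal.Quotient.mk_surjective

theorem mk1_eq_zero_iff (x : D0 p A a) : mk1 p A a x = 0 ↔ ∃ m : ℕ, (p : D0 p A a) ^ m * x = 0 :=
  Ideal.Quotient.eq_zero_iff_mem

theorem D1_regular (x : D1 p A a) (hx : (p : D1 p A a) * x = 0) : x = 0 := by
  obtain ⟨y, rfl⟩ := mk1_surjective p A a x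
  have h1 : (p : D1 p A a) = mk1 p A a (p : D0 p A a) := (map_natCast (mk1 p A a) p).symm
  rw [h1, ← map_mul, mk1_eq_zero_iff] at hx
  obtain ⟨m, hm⟩ := hx
  rw [mk1_eq_zero_iff]
  exact ⟨m + 1, by rw [pow_succ, mul_assoc]; exact hm⟩

theorem D1_regular_pow (k : ℕ) (x : D1 p A a) (hx : (p : D1 p A a) ^ k * x = 0) : x = 0 := by
  induction k with
  | zero => simpa using hx
  | succ k ih =>
    apply ih
    apply D1_regular p A a
    rw [← mul_assoc, ← pow_succ']
    exact hx

/-- the class of `t_i` in `D1` -/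
def t1 (i : Fin n) : D1 p A a := mk1 p A a (mk0 p A a (X i))

theorem t1_spec (i : Fin n) : (p : D1 p A a) * t1 p A a i = algebraMap A (D1 p A a) (a i) := by
  have h : (C (p : A) * X i - C (a i) : MvPolynomial (Fin n) A) ∈ rel p A a :=
    Ideal.subset_span ⟨i, rfl⟩
  have h2 := (mk0_eq_zero_iff p A a _).mpr h
  rw [map_sub, map_mul, sub_eq_zero] at h2
  have h3 : mk0 p A a (C (p : A)) = (p : D0 p A a) := by
    have : (C (p : A) : MvPolynomial (Fin n) A) = ((p : ℕ) : MvPolynomial (Fin n) A) := by simp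
    rw [this, map_natCast]
  have h4 : mk0 p A a (C (a i)) = algebraMap A (D0 p A a) (a i) := by
    rw [← MvPolynomial.algebraMap_eq, AlgHom.commutes]
  rw [h3, h4] at h2
  have h5 := congrArg (mk1 p A a) h2
  rw [map_mul, map_natCast, AlgHom.commutes] at h5
  exact h5

abbrev J : Ideal (D1 p A a) := Ideal.span {(p : D1 p A a)}

abbrev Dh := AdicCompletion (J p A a) (D1 p A a)

theorem Dh_complete : IsAdicComplete (Ideal.span {(p : Dh p A a)}) (Dh p A a) := by
  have h := AdicCompletion.isAdicComplete_self (J p A a) ⟨{(p : D1 p A a)}, by simp⟩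
  have e : (J p A a).map (algebraMap (D1 p A a) (Dh p A a)) = Ideal.span {(p : Dh p A a)} := by
    rw [Ideal.map_span, Set.image_singleton, map_natCast]
  rwa [e] at h

theorem Dh_regular (z : Dh p A a) (hz : (p : Dh p A a) * z = 0) : z = 0 := by
  apply AdicCompletion.ext_evalₐ
  intro k
  rw [map_zero]
  obtain ⟨c, rfl⟩ := AdicCompletion.mk_surjective (J p A a) (D1 p A a) z
  rw [AdicCompletion.evalₐ_mk]
  have h1 := congrArg (AdicCompletion.evalₐ (J p A a) (k + 1)) hz
  rw [map_mul, map_natCast, map_zero, AdicCompletion.evalₐ_mk,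
    ← map_natCast (Ideal.Quotient.mk (J p A a ^ (k + 1))), ← map_mul,
    Ideal.Quotient.eq_zero_iff_mem, Ideal.span_singleton_pow, Ideal.mem_span_singleton'] at h1
  obtain ⟨e, he⟩ := h1
  have h2 : c.val (k + 1) = (p : D1 p A a) ^ k * e := by
    have : (p : D1 p A a) * (c.val (k + 1) - (p : D1 p A a) ^ k * e) = 0 := by
      rw [mul_sub, ← he]; ring
    exact sub_eq_zero.mp (D1_regular p A a _ this)
  have h3 := AdicCompletion.Ideal.mk_eq_mk (J p A a) (Nat.le_succ k) c
  rw [← h3, Ideal.Quotient.eq_zero_iff_mem, h2, Ideal.span_singleton_pow]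
  exact Ideal.mul_mem_right _ _ (Ideal.mem_span_singleton_self _)

theorem Dh_div (i : Fin n) :
    algebraMap A (Dh p A a) (a i) ∈ Ideal.span {(p : Dh p A a)} := by
  rw [Ideal.mem_span_singleton']
  refine ⟨algebraMap (D1 p A a) (Dh p A a) (t1 p A a i), ?_⟩
  rw [mul_comm, ← map_natCast (algebraMap (D1 p A a) (Dh p A a)), ← map_mul, t1_spec]
  rfl

section UP

variable {p A a}
variable (B : Type u) [CommRing B] [Algebra A B]

theorem hregpow (hreg : ∀ x : B, (p : B) * x = 0 → x = 0) (k : ℕ) (x : B)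
    (hx : (p : B) ^ k * x = 0) : x = 0 := by
  induction k with
  | zero => simpa using hx
  | succ k ih =>
    apply ih
    apply hreg
    rw [← mul_assoc, ← pow_succ']
    exact hx

theorem aeval_rel (b : Fin n → B) (hb : ∀ i, (p : B) * b i = algebraMap A B (a i)) :
    ∀ x ∈ rel p A a, MvPolynomial.aeval b x = 0 := by
  have : rel p A a ≤ RingHom.ker (MvPolynomial.aeval b : MvPolynomial (Fin n) A →ₐ[A] B) := by
    rw [rel, Ideal.span_le]
    rintro _ ⟨i, rfl⟩
    have h1 : (C (p : A) : MvPolynomial (Fin n) A) = ((p : ℕ) : MvPolynomial (Fin n) A) := by simp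
    rw [SetLike.mem_coe, RingHom.mem_ker, map_sub, map_mul, h1, map_natCast, aeval_X, aeval_C, hb,
      sub_self]
  exact fun x hx => this hx

def psi0 (b : Fin n → B) (hb : ∀ i, (p : B) * b i = algebraMap A B (a i)) : D0 p A a →ₐ[A] B :=
  Ideal.Quotient.liftₐ (rel p A a) (MvPolynomial.aeval b) (aeval_rel B b hb)

theorem psi0_tors (hreg : ∀ x : B, (p : B) * x = 0 → x = 0) (b : Fin n → B)
    (hb : ∀ i, (p : B) * b i = algebraMap A B (a i)) : ∀ x ∈ tors p A a, psi0 B b hb x = 0 := by
  rintro x ⟨m, hm⟩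
  have := congrArg (psi0 B b hb) hm
  rw [map_mul, map_pow, map_natCast, map_zero] at this
  exact hregpow B hreg m _ this

def psi1 (hreg : ∀ x : B, (p : B) * x = 0 → x = 0) (b : Fin n → B)
    (hb : ∀ i, (p : B) * b i = algebraMap A B (a i)) : D1 p A a →ₐ[A] B :=
  Ideal.Quotient.liftₐ (tors p A a) (psi0 B b hb) (psi0_tors B hreg b hb)

theorem psi1_le (hreg : ∀ x : B, (p : B) * x = 0 → x = 0) (b : Fin n → B)
    (hb : ∀ i, (p : B) * b i = algebraMap A B (a i)) (k : ℕ) :
    J p A a ^ k ≤ ((Ideal.span {(p : B)}) ^ k).comap (psi1 B hreg b hb : D1 p A a →+* B) := by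
  rw [Ideal.span_singleton_pow, Ideal.span_le]
  rintro _ rfl
  rw [SetLike.mem_coe, Ideal.mem_comap, map_pow]
  have : (psi1 B hreg b hb : D1 p A a →+* B) (p : D1 p A a) = (p : B) := map_natCast _ p
  rw [this, Ideal.span_singleton_pow]
  exact Ideal.mem_span_singleton_self _

def famRing (hreg : ∀ x : B, (p : B) * x = 0 → x = 0) (b : Fin n → B)
    (hb : ∀ i, (p : B) * b i = algebraMap A B (a i)) (k : ℕ) :
    Dh p A a →+* B ⧸ (Ideal.span {(p : B)}) ^ k :=
  (Ideal.quotientMap ((Ideal.span {(p : B)}) ^ k) (psi1 B hreg b hb : D1 p A a →+* B)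
    (psi1_le B hreg b hb k)).comp
    (AdicCompletion.evalₐ (J p A a) k : Dh p A a →+* D1 p A a ⧸ J p A a ^ k)

theorem famRing_mk (hreg : ∀ x : B, (p : B) * x = 0 → x = 0) (b : Fin n → B)
    (hb : ∀ i, (p : B) * b i = algebraMap A B (a i)) (k : ℕ)
    (c : AdicCompletion.AdicCauchySequence (J p A a) (D1 p A a)) :
    famRing B hreg b hb k (AdicCompletion.mk (J p A a) (D1 p A a) c) =
      Ideal.Quotient.mk _ (psi1 B hreg b hb (c.val k)) := by
  simp only [famRing, RingHom.comp_apply, RingHom.coe_coe, AdicCompletion.evalₐ_mk,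
    Ideal.quotientMap_mk]

def fam (hreg : ∀ x : B, (p : B) * x = 0 → x = 0) (b : Fin n → B)
    (hb : ∀ i, (p : B) * b i = algebraMap A B (a i)) (k : ℕ) :
    Dh p A a →ₐ[A] B ⧸ (Ideal.span {(p : B)}) ^ k :=
  { famRing B hreg b hb k with
    commutes' := fun r => by
      show famRing B hreg b hb k (algebraMap A (Dh p A a) r) = _
      rw [AdicCompletion.algebraMap_apply]
      simp only [famRing, RingHom.comp_apply, RingHom.coe_coe, AdicCompletion.evalₐ_of,
        Ideal.quotientMap_mk, AlgHom.commutes]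
      rfl }

theorem fam_compat (hreg : ∀ x : B, (p : B) * x = 0 → x = 0) (b : Fin n → B)
    (hb : ∀ i, (p : B) * b i = algebraMap A B (a i)) {m k : ℕ} (hle : m ≤ k) :
    (Ideal.Quotient.factorₐ A (Ideal.pow_le_pow_right hle)).comp (fam B hreg b hb k) =
      fam B hreg b hb m := by
  ext x
  obtain ⟨c, rfl⟩ := AdicCompletion.mk_surjective (J p A a) (D1 p A a) x
  show Ideal.Quotient.factor (Ideal.pow_le_pow_right hle)
    (famRing B hreg b hb k (AdicCompletion.mk (J p A a) (D1 p A a) c)) =
    famRing B hreg b hb m (AdicCompletion.mk (J p A a) (D1 p A a) c)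
  rw [famRing_mk, famRing_mk, Ideal.Quotient.factor_mk, Ideal.Quotient.eq, ← map_sub]
  have h1 := AdicCompletion.Ideal.mk_eq_mk (J p A a) hle c
  rw [Ideal.Quotient.eq] at h1
  exact psi1_le B hreg b hb m h1

theorem exists_hom [IsAdicComplete (Ideal.span {(p : B)}) B]
    (hreg : ∀ x : B, (p : B) * x = 0 → x = 0) (b : Fin n → B)
    (hb : ∀ i, (p : B) * b i = algebraMap A B (a i)) : Nonempty (Dh p A a →ₐ[A] B) :=
  ⟨IsAdicComplete.liftAlgHom (Ideal.span {(p : B)}) (fam B hreg b hb)
    (fun hle => fam_compat B hreg b hb hle)⟩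

def iota : D1 p A a →ₐ[A] Dh p A a :=
  { (algebraMap (D1 p A a) (Dh p A a)) with commutes' := fun _ => rfl }

theorem agree_on_D1 (hreg : ∀ x : B, (p : B) * x = 0 → x = 0) (f g : Dh p A a →ₐ[A] B)
    (d : D1 p A a) :
    f (algebraMap (D1 p A a) (Dh p A a) d) = g (algebraMap (D1 p A a) (Dh p A a) d) := by
  have key : (f.comp (iota (p := p) (A := A) (a := a))).comp ((mk1 p A a).comp (mk0 p A a)) =
      (g.comp (iota (p := p) (A := A) (a := a))).comp ((mk1 p A a).comp (mk0 p A a)) := by
    apply MvPolynomial.algHom_ext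
    intro i
    show f (algebraMap (D1 p A a) (Dh p A a) (t1 p A a i)) =
      g (algebraMap (D1 p A a) (Dh p A a) (t1 p A a i))
    have hf : ∀ h : Dh p A a →ₐ[A] B,
        (p : B) * h (algebraMap (D1 p A a) (Dh p A a) (t1 p A a i)) = algebraMap A B (a i) := by
      intro h
      rw [← map_natCast h, ← map_mul, ← map_natCast (algebraMap (D1 p A a) (Dh p A a)), ← map_mul,
        t1_spec]
      exact h.commutes (a i)
    have : (p : B) * (f (algebraMap (D1 p A a) (Dh p A a) (t1 p A a i)) -
        g (algebraMap (D1 p A a) (Dh p A a) (t1 p A a i))) = 0 := by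
      rw [mul_sub, hf f, hf g, sub_self]
    exact sub_eq_zero.mp (hreg _ this)
  obtain ⟨d0, rfl⟩ := mk1_surjective p A a d
  obtain ⟨P, rfl⟩ := mk0_surjective p A a d0
  exact DFunLike.congr_fun key P

theorem sub_mem_pow (hreg : ∀ x : B, (p : B) * x = 0 → x = 0) (f g : Dh p A a →ₐ[A] B) (k : ℕ)
    (x : Dh p A a) : f x - g x ∈ (Ideal.span {(p : B)}) ^ k := by
  obtain ⟨c, rfl⟩ := AdicCompletion.mk_surjective (J p A a) (D1 p A a) x
  set y := AdicCompletion.mk (J p A a) (D1 p A a) c - algebraMap (D1 p A a) (Dh p A a) (c.val k)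
    with hy
  have hy0 : AdicCompletion.evalₐ (J p A a) k y = 0 := by
    have : algebraMap (D1 p A a) (Dh p A a) (c.val k) = AdicCompletion.of _ _ (c.val k) := rfl
    rw [hy, map_sub, AdicCompletion.evalₐ_mk, this, AdicCompletion.evalₐ_of, sub_self]
  have hy1 : y ∈ LinearMap.ker (AdicCompletion.eval (J p A a) (D1 p A a) k) := by
    rw [LinearMap.mem_ker, ← AdicCompletion.factor_evalₐ_eq_eval (J p A a) y (by simp), hy0, map_zero]
  rw [← AdicCompletion.pow_smul_top_eq_ker_eval ⟨{(p : D1 p A a)}, by simp⟩,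
    Ideal.span_singleton_pow, Submodule.ideal_span_singleton_smul,
    Submodule.mem_smul_pointwise_iff_exists] at hy1
  obtain ⟨y', -, hy'⟩ := hy1
  have hx : AdicCompletion.mk (J p A a) (D1 p A a) c =
      algebraMap (D1 p A a) (Dh p A a) (c.val k) + (p : Dh p A a) ^ k * y' := by
    have : (p : Dh p A a) ^ k * y' = y := by
      rw [← hy', Algebra.smul_def, map_pow, map_natCast]
    rw [this, hy]; ring
  rw [hx, map_add, map_add, agree_on_D1 B hreg f g, add_sub_add_left_eq_sub, map_mul, map_mul,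
    map_pow, map_pow, map_natCast, map_natCast, ← mul_sub, Ideal.span_singleton_pow]
  exact Ideal.mul_mem_right _ _ (Ideal.mem_span_singleton_self _)

theorem subsingleton_hom [IsAdicComplete (Ideal.span {(p : B)}) B]
    (hreg : ∀ x : B, (p : B) * x = 0 → x = 0) : Subsingleton (Dh p A a →ₐ[A] B) := by
  constructor
  intro f g
  apply IsAdicComplete.algHom_ext (Ideal.span {(p : B)})
  intro k
  ext x
  show Ideal.Quotient.mk _ (f x) = Ideal.Quotient.mk _ (g x)
  rw [Ideal.Quotient.eq]
  exact sub_mem_pow B hreg f g k x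

end UP

end

end Aux

/-- Let p be a prime, A a commutative ring which is complete and separated for the p-adic topology and
has no p-torsion, and a_1, …, a_n elements of A (so that (p, a_1, …, a_n) is an open ideal
containing p). Then there is a commutative A-algebra D, complete and separated for the p-adic
topology and without p-torsion, in which each a_i is divisible by p, with the following universal
property: for every A-algebra B which is p-adically complete and separated, has no p-torsion, and in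
which each a_i is divisible by p, there is exactly one A-algebra homomorphism D → B; moreover this
homomorphism is surjective whenever A → B is. (D is the coordinate ring of the dilatation of Spf A
with respect to p along the closed subscheme defined by (p, a_1, …, a_n). The published statement is
for flat p-adic formal schemes locally of finite type over the Witt vectors of a perfect field; this
row is its affine, ring-level case without a finiteness hypothesis.) -/
theorem result (p : ℕ) [Fact p.Prime]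
    (A : Type u) [CommRing A] [IsAdicComplete (Ideal.span {(p : A)}) A]
    (hA : IsSMulRegular A (p : A)) {n : ℕ} (a : Fin n → A) :
    ∃ (D : Type u) (_ : CommRing D) (_ : Algebra A D),
      IsAdicComplete (Ideal.span {(p : D)}) D ∧ IsSMulRegular D (p : D) ∧
      (∀ i, algebraMap A D (a i) ∈ Ideal.span {(p : D)}) ∧
      ∀ (B : Type u) [CommRing B] [Algebra A B] [IsAdicComplete (Ideal.span {(p : B)}) B],
        IsSMulRegular B (p : B) → (∀ i, algebraMap A B (a i) ∈ Ideal.span {(p : B)}) →
          Nonempty (D →ₐ[A] B) ∧ Subsingleton (D →ₐ[A] B) ∧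
            (Function.Surjective (algebraMap A B) → ∀ f : D →ₐ[A] B, Function.Surjective f) := by
  refine ⟨Aux.Dh p A a, inferInstance, inferInstance, Aux.Dh_complete p A a, ?_, Aux.Dh_div p A a, ?_⟩
  · intro x y hxy
    have hxy' : (p : Aux.Dh p A a) * x = (p : Aux.Dh p A a) * y := hxy
    have : (p : Aux.Dh p A a) * (x - y) = 0 := by rw [mul_sub]; exact sub_eq_zero.mpr hxy'
    exact sub_eq_zero.mp (Aux.Dh_regular p A a _ this)
  · intro B _ _ _ hBreg hBdiv
    have hreg : ∀ x : B, (p : B) * x = 0 → x = 0 := by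
      intro x hx
      apply hBreg
      show (p : B) * x = (p : B) * 0
      rw [hx, mul_zero]
    choose b hb using fun i => Ideal.mem_span_singleton'.mp (hBdiv i)
    have hb' : ∀ i, (p : B) * b i = algebraMap A B (a i) := fun i => by rw [mul_comm]; exact hb i
    refine ⟨Aux.exists_hom B hreg b hb', Aux.subsingleton_hom B hreg, ?_⟩
    intro hsurj f y
    obtain ⟨r, rfl⟩ := hsurj y
    exact ⟨algebraMap A _ r, f.commutes r⟩

end Groth.Agent.S19616
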