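import Groth.Statements.S19628
import Mathlib
import Groth.Agent.S15295

set_option autoImplicit false
universe u
open DeRham

namespace Groth.Agent.S19628.Aux

open TensorProduct in
/-- Over a field, the kernel of `K ⊗ f` is `K ⊗ ker f`. -/
theorem ker_lTensor_le {k K N N' : Type u} [Field k] [Field K] [Algebra k K] [AddCommGroup N]
    [Module k N] [AddCommGroup N'] [Module k N'] (f : N →ₗ[k] N') (t : K ⊗[k] N)
    (h : f.lTensor K t = 0) :
    t ∈ LinearMap.range ((LinearMap.ker f).subtype.lTensor K) := by
  have hex : Function.Exact ((LinearMap.ker f).subtype.lTensor K) (f.lTensor K) :=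
    Module.Flat.lTensor_exact K (LinearMap.exact_subtype_ker_map f)
  exact (hex t).mp h

end Groth.Agent.S19628.Aux

namespace Groth.Agent.S19628

open exteriorPower in
/-- In the affine case, at ring level, let k ⊆ K be an extension of fields of characteristic zero, A a
smooth k-algebra and A' = K ⊗_k A (a pushout square of commutative rings with the scalar-tower
conventions). Let d be the de Rham differential of A over k, d' that of A' over K, and ψ the map of
de Rham complexes induced by A → A', assumed compatible with d and d'. Then for every p the K-span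
of ψ(closed p-forms of A/k) is the module of closed p-forms of A'/K, and the K-span of ψ(exact
p-forms of A/k) is the module of exact p-forms of A'/K. Together with the degreewise base-change
bijection for exterior powers of differentials, this says that the natural map H^p_dR(A/k) ⊗_k K →
H^p_dR(A'/K) is an isomorphism. (The source states the isomorphism H^i_dR(X) ⊗_k K ≅ H^i_dR(X_K) for
a smooth variety X, induced by a quasi-isomorphism of complexes; this row is the case of an affine
X, phrased through closed and exact forms.) -/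
theorem result
    (k K : Type u) [Field k] [Field K] [CharZero k] [Algebra k K]
    (A A' : Type u) [CommRing A] [CommRing A'] [Algebra k A] [Algebra.Smooth k A]
    [Algebra A A'] [Algebra k A'] [IsScalarTower k A A'] [Algebra K A'] [IsScalarTower k K A']
    [Algebra.IsPushout k K A A']
    (d : ∀ p : ℕ, ↥(⋀[A]^p (Ω[A⁄k])) →ₗ[k] ↥(⋀[A]^(p + 1) (Ω[A⁄k])))
    (hd : DeRham.IsDiff (KaehlerDifferential.D k A) d)
    (d' : ∀ p : ℕ, ↥(⋀[A']^p (Ω[A'⁄K])) →ₗ[K] ↥(⋀[A']^(p + 1) (Ω[A'⁄K])))
    (hd' : DeRham.IsDiff (KaehlerDifferential.D K A') d')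
    (ψ : ∀ p : ℕ, ↥(⋀[A]^p (Ω[A⁄k])) →+ ↥(⋀[A']^p (Ω[A'⁄K])))
    (hψ : DeRham.IsCxMap (KaehlerDifferential.D k A) (KaehlerDifferential.D K A') (algebraMap A A') ψ)
    (hcomm : ∀ (p : ℕ) (x : ↥(⋀[A]^p (Ω[A⁄k]))), ψ (p + 1) (d p x) = d' p (ψ p x))
    (p : ℕ) :
    Submodule.span K (ψ p '' (DeRham.cocycles d p : Set ↥(⋀[A]^p (Ω[A⁄k])))) = DeRham.cocycles d' p ∧
      Submodule.span K (ψ p '' (DeRham.coboundaries d p : Set ↥(⋀[A]^p (Ω[A⁄k])))) =
        DeRham.coboundaries d' p := by
  classical
  -- the base change bijection `K ⊗ ⋀^q Ω_{A/k} ≃ ⋀^q Ω_{A'/K}` of S15295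
  have hΦ : ∀ (q : ℕ) (s : K) (x : ↥(⋀[A]^q (Ω[A⁄k]))),
      Groth.Agent.S15295.Aux.total k K A A' q (TensorProduct.tmul k s x) = s • ψ q x := by
    intro q s x
    induction x using Groth.Agent.S15295.Aux.gen_induction with
    | h0 => simp
    | hadd x y hx hy => rw [TensorProduct.tmul_add, map_add, hx, hy, map_add, smul_add]
    | hgen c b => rw [hψ q c b, Groth.Agent.S15295.Aux.total_tmul_gen]
  have hcommΦ : ∀ (q : ℕ) (z : TensorProduct k K ↥(⋀[A]^q (Ω[A⁄k]))),
      d' q (Groth.Agent.S15295.Aux.total k K A A' q z) =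
        Groth.Agent.S15295.Aux.total k K A A' (q + 1) ((d q).lTensor K z) := by
    intro q z
    induction z using TensorProduct.induction_on with
    | zero => simp
    | add x y hx hy => simp only [map_add, hx, hy]
    | tmul s x => rw [hΦ, map_smul, ← hcomm, LinearMap.lTensor_tmul, hΦ]
  constructor
  · apply le_antisymm
    · rw [Submodule.span_le]
      rintro _ ⟨x, hx, rfl⟩
      show d' p (ψ p x) = 0
      have hx' : d p x = 0 := hx
      rw [← hcomm, hx', map_zero]
    · intro y hy
      have hy' : d' p y = 0 := hy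
      obtain ⟨t, rfl⟩ := (Groth.Agent.S15295.Aux.total k K A A' p).surjective y
      have h0 : (d p).lTensor K t = 0 := by
        apply (Groth.Agent.S15295.Aux.total k K A A' (p + 1)).injective
        rw [← hcommΦ, map_zero]
        exact hy'
      obtain ⟨w, rfl⟩ := Groth.Agent.S19628.Aux.ker_lTensor_le (d p) t h0
      have claim : ∀ w : TensorProduct k K ↥(LinearMap.ker (d p)),
          Groth.Agent.S15295.Aux.total k K A A' p ((LinearMap.ker (d p)).subtype.lTensor K w) ∈
            Submodule.span K (ψ p '' (DeRham.cocycles d p : Set ↥(⋀[A]^p (Ω[A⁄k])))) := by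
        intro w
        induction w using TensorProduct.induction_on with
        | zero => simp
        | add a b ha hb =>
          rw [map_add, map_add]
          exact Submodule.add_mem _ ha hb
        | tmul s z =>
          rw [LinearMap.lTensor_tmul, hΦ]
          exact Submodule.smul_mem _ _ (Submodule.subset_span ⟨z.1, z.2, rfl⟩)
      exact claim w
  · cases p with
    | zero =>
      show Submodule.span K (ψ 0 '' ((⊥ : Submodule k ↥(⋀[A]^0 (Ω[A⁄k]))) : Set ↥(⋀[A]^0 (Ω[A⁄k])))) = ⊥
      simp
    | succ q =>
      show Submodule.span K (ψ (q + 1) '' (LinearMap.range (d q) : Set ↥(⋀[A]^(q + 1) (Ω[A⁄k])))) =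
        LinearMap.range (d' q)
      apply le_antisymm
      · rw [Submodule.span_le]
        rintro _ ⟨_, ⟨x, rfl⟩, rfl⟩
        exact ⟨ψ q x, (hcomm q x).symm⟩
      · rintro _ ⟨y, rfl⟩
        obtain ⟨t, rfl⟩ := (Groth.Agent.S15295.Aux.total k K A A' q).surjective y
        induction t using TensorProduct.induction_on with
        | zero => simp
        | add a b ha hb =>
          rw [map_add, map_add]
          exact Submodule.add_mem _ ha hb
        | tmul s x =>
          rw [hΦ, map_smul, ← hcomm]
          exact Submodule.smul_mem _ _ (Submodule.subset_span ⟨d q x, ⟨x, rfl⟩, rfl⟩)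

end Groth.Agent.S19628
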