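import Groth.Statements.S19630
import Mathlib
import Groth.Agent.Lib.Helper22DeRham

set_option autoImplicit false
universe u
open DeRham

namespace Groth.Agent.S19630

open exteriorPower in
/-- In the affine case, at ring level, let k ⊆ K be a finite extension of fields of characteristic zero
and B a smooth K-algebra, so that Y = Spec B is a smooth affine variety over K which may also be
regarded over k. Let ψ be the map of de Rham complexes from Ω•_{B/k} to Ω•_{B/K} induced by the
identity of B. Then ψ is bijective in every degree: the de Rham complex of Y over k and over K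
coincide, and hence the natural map H^i_dR(Y/k) → H^i_dR(Y/K) is an isomorphism. (The source states
the isomorphism on de Rham cohomology for any smooth variety Y over K, through the equality of the
two de Rham complexes; this row is that equality for affine Y.) -/
theorem result
    (k K : Type u) [Field k] [Field K] [CharZero k] [Algebra k K] [Module.Finite k K]
    (B : Type u) [CommRing B] [Algebra K B] [Algebra k B] [IsScalarTower k K B] [Algebra.Smooth K B]
    (ψ : ∀ p : ℕ, ↥(⋀[B]^p (Ω[B⁄k])) →+ ↥(⋀[B]^p (Ω[B⁄K])))
    (hψ : DeRham.IsCxMap (KaehlerDifferential.D k B) (KaehlerDifferential.D K B) (RingHom.id B) ψ)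
    (p : ℕ) :
    Function.Bijective (ψ p) := by
  classical
  -- the comparison map on one-forms
  let π : Ω[B⁄k] →ₗ[B] Ω[B⁄K] := KaehlerDifferential.map k K B B
  haveI : Algebra.IsSeparable k K := inferInstance
  haveI : Algebra.FormallyUnramified k K := Algebra.FormallyUnramified.of_isSeparable k K
  haveI : Subsingleton (Ω[K⁄k]) := inferInstance
  have hπsurj : Function.Surjective π := KaehlerDifferential.map_surjective k K B
  have hπinj : Function.Injective π := by
    rw [injective_iff_map_eq_zero]
    intro x hx
    obtain ⟨y, rfl⟩ := (KaehlerDifferential.exact_mapBaseChange_map k K B x).mp hx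
    have : y = 0 := Subsingleton.elim _ _
    rw [this, map_zero]
  let e : Ω[B⁄k] ≃ₗ[B] Ω[B⁄K] := LinearEquiv.ofBijective π ⟨hπinj, hπsurj⟩
  have key : ∀ ω, ψ p ω = exteriorPower.map p e.toLinearMap ω := by
    refine Groth.Agent.Lib.Helper22.deRham_gen_induction p _ ?_ ?_ ?_
    · rw [map_zero, map_zero]
    · intro x y hx hy
      rw [map_add, map_add, hx, hy]
    · intro c b
      rw [hψ p c b]
      simp only [DeRham.gen, map_smul, exteriorPower.map_apply_ιMulti, RingHom.id_apply]
      congr 2
      funext i
      simp [e, π, Function.comp]
  have hbij : Function.Bijective (exteriorPower.map p e.toLinearMap) := by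
    refine Function.bijective_iff_has_inverse.mpr ⟨exteriorPower.map p e.symm.toLinearMap, ?_, ?_⟩
    · intro x
      rw [← LinearMap.comp_apply, ← exteriorPower.map_comp]
      simp
    · intro x
      rw [← LinearMap.comp_apply, ← exteriorPower.map_comp]
      simp
  have : (ψ p : ↥(⋀[B]^p (Ω[B⁄k])) → ↥(⋀[B]^p (Ω[B⁄K]))) = exteriorPower.map p e.toLinearMap := funext key
  rw [this]
  exact hbij

end Groth.Agent.S19630
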