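import Groth.Statements.S19633
import Mathlib
import Groth.Agent.S19632

set_option autoImplicit false
universe u
open DeRham

namespace Groth.Agent.S19633.Aux

open LaurentPolynomial

/-- Multiply the `n`-th coefficient by `c n`. -/
noncomputable def cm (k : Type u) [Field k] (c : ℤ → k) : LaurentPolynomial k →ₗ[k] LaurentPolynomial k :=
  (AddMonoidAlgebra.coeffLinearEquiv k).symm.toLinearMap ∘ₗ
    (Finsupp.lsum k (fun n : ℤ => (c n) • Finsupp.lsingle (R := k) (M := k) n)) ∘ₗ
    (AddMonoidAlgebra.coeffLinearEquiv k).toLinearMap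

theorem cm_single (k : Type u) [Field k] (c : ℤ → k) (n : ℤ) (r : k) :
    cm k c (AddMonoidAlgebra.single n r) = AddMonoidAlgebra.single n (c n * r) := by
  apply AddMonoidAlgebra.coeff_injective
  show (Finsupp.lsum k (fun n : ℤ => (c n) • Finsupp.lsingle (R := k) (M := k) n))
    (Finsupp.single n r) = Finsupp.single n (c n * r)
  rw [Finsupp.lsum_single, LinearMap.smul_apply, Finsupp.lsingle_apply, Finsupp.smul_single,
    smul_eq_mul]

theorem cm_coeff (k : Type u) [Field k] (c : ℤ → k) (f : LaurentPolynomial k) (n : ℤ) :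
    (cm k c f).coeff n = c n * f.coeff n := by
  induction f using AddMonoidAlgebra.induction_linear with
  | zero => simp
  | add f g hf hg => rw [map_add, AddMonoidAlgebra.coeff_add, Finsupp.add_apply, hf, hg,
      AddMonoidAlgebra.coeff_add, Finsupp.add_apply, mul_add]
  | single m r =>
    rw [cm_single, AddMonoidAlgebra.coeff_single, AddMonoidAlgebra.coeff_single]
    by_cases h : m = n
    · subst h; simp
    · simp [Finsupp.single_eq_of_ne, Ne.symm h]

theorem T_mul_coeff (k : Type u) [Field k] (m : ℤ) (h : LaurentPolynomial k) (n : ℤ) :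
    (T m * h).coeff n = h.coeff (n - m) := by
  induction h using AddMonoidAlgebra.induction_linear with
  | zero => simp
  | add f g hf hg => rw [mul_add, AddMonoidAlgebra.coeff_add, Finsupp.add_apply, hf, hg,
      AddMonoidAlgebra.coeff_add, Finsupp.add_apply]
  | single a r =>
    rw [T, AddMonoidAlgebra.single_mul_single, AddMonoidAlgebra.coeff_single,
      AddMonoidAlgebra.coeff_single, one_mul]
    by_cases h : a = n - m
    · subst h; simp
    · have : m + a ≠ n := by omega
      simp [Finsupp.single_eq_of_ne, Ne.symm h, Ne.symm this]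

end Groth.Agent.S19633.Aux

namespace Groth.Agent.S19633.Aux2
open LaurentPolynomial Groth.Agent.S19633.Aux

variable (k : Type u) [Field k]

/-- The derivation `d/dT = T⁻¹ · (T d/dT)`. -/
noncomputable def dT : Derivation k (LaurentPolynomial k) (LaurentPolynomial k) :=
  (T (-1) : LaurentPolynomial k) • Groth.Agent.S19632.eulerDer k

theorem dT_apply (f : LaurentPolynomial k) : dT k f = T (-1) * Groth.Agent.S19632.euler k f := rfl

theorem euler_T (n : ℤ) : Groth.Agent.S19632.euler k (T n : LaurentPolynomial k) = (n : k) • T n := by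
  apply LaurentPolynomial.ext
  intro a
  rw [Groth.Agent.S19632.euler_coeff, T_apply]
  have : ((n : k) • (T n : LaurentPolynomial k)).coeff a = (n : k) * (T n : LaurentPolynomial k).coeff a := by
    simp
  rw [this, T_apply]
  split_ifs with h
  · rw [h]
  · simp

theorem dT_T_one : dT k (T 1 : LaurentPolynomial k) = 1 := by
  rw [dT_apply, euler_T, Int.cast_one, one_smul, ← T_add]
  simp

/-- `Ω → L`, `df ↦ f'`. -/
noncomputable def φ : Ω[LaurentPolynomial k⁄k] →ₗ[LaurentPolynomial k] LaurentPolynomial k :=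
  (dT k).liftKaehlerDifferential

theorem φ_D (f : LaurentPolynomial k) : φ k (KaehlerDifferential.D k _ f) = dT k f :=
  Derivation.liftKaehlerDifferential_comp_D _ _

theorem D_T_neg_one_mem :
    KaehlerDifferential.D k (LaurentPolynomial k) (T (-1)) ∈
      Submodule.span (LaurentPolynomial k) {KaehlerDifferential.D k (LaurentPolynomial k) (T 1)} := by
  have h1 : (T 1 : LaurentPolynomial k) * T (-1) = 1 := by rw [← T_add]; simp
  have h2 : KaehlerDifferential.D k (LaurentPolynomial k) ((T 1 : LaurentPolynomial k) * T (-1)) = 0 := by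
    rw [h1]; exact Derivation.map_one_eq_zero _
  rw [Derivation.leibniz] at h2
  have h3 : KaehlerDifferential.D k (LaurentPolynomial k) (T (-1)) =
      -((T (-1) * T (-1) : LaurentPolynomial k) • KaehlerDifferential.D k (LaurentPolynomial k) (T 1)) := by
    have h4 : (T (-1) : LaurentPolynomial k) • ((T 1 : LaurentPolynomial k) • KaehlerDifferential.D k (LaurentPolynomial k) (T (-1)) +
        (T (-1) : LaurentPolynomial k) • KaehlerDifferential.D k (LaurentPolynomial k) (T 1)) = 0 := by
      rw [h2, smul_zero]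
    rw [smul_add, smul_smul, smul_smul, mul_comm (T (-1)) (T 1), h1, one_smul] at h4
    exact eq_neg_of_add_eq_zero_left h4
  rw [h3]
  exact Submodule.neg_mem _ (Submodule.smul_mem _ _ (Submodule.mem_span_singleton_self _))

theorem span_D_T : Submodule.span (LaurentPolynomial k) {KaehlerDifferential.D k (LaurentPolynomial k) (T 1)} = ⊤ := by
  rw [eq_top_iff, ← KaehlerDifferential.span_range_derivation k (LaurentPolynomial k), Submodule.span_le]
  rintro _ ⟨f, rfl⟩
  show KaehlerDifferential.D k (LaurentPolynomial k) f ∈ _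
  induction f using LaurentPolynomial.induction_on with
  | h_C a =>
    rw [LaurentPolynomial.C_eq_algebraMap, Derivation.map_algebraMap]
    exact Submodule.zero_mem _
  | h_add hp hq => rw [map_add]; exact Submodule.add_mem _ hp hq
  | h_C_mul_T n a h =>
    have : (C a * T ((n : ℤ) + 1) : LaurentPolynomial k) = (C a * T n) * T 1 := by rw [T_add, mul_assoc]
    rw [this, Derivation.leibniz]
    exact Submodule.add_mem _ (Submodule.smul_mem _ _ (Submodule.mem_span_singleton_self _))
      (Submodule.smul_mem _ _ h)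
  | h_C_mul_T_Z n a h =>
    have : (C a * T (-(n : ℤ) - 1) : LaurentPolynomial k) = (C a * T (-n)) * T (-1) := by
      rw [sub_eq_add_neg, T_add, mul_assoc]
    rw [this, Derivation.leibniz]
    exact Submodule.add_mem _ (Submodule.smul_mem _ _ (D_T_neg_one_mem k))
      (Submodule.smul_mem _ _ h)

theorem eq_φ_smul (m : Ω[LaurentPolynomial k⁄k]) :
    m = φ k m • KaehlerDifferential.D k (LaurentPolynomial k) (T 1) := by
  have hm : m ∈ Submodule.span (LaurentPolynomial k) {KaehlerDifferential.D k (LaurentPolynomial k) (T 1)} := by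
    rw [span_D_T]; exact Submodule.mem_top
  obtain ⟨g, rfl⟩ := Submodule.mem_span_singleton.mp hm
  rw [map_smul, φ_D, dT_T_one, smul_eq_mul, mul_one]

theorem φ_injective : Function.Injective (φ k) := by
  rw [injective_iff_map_eq_zero]
  intro m hm
  rw [eq_φ_smul k m, hm, zero_smul]

end Groth.Agent.S19633.Aux2

namespace Groth.Agent.S19633.Aux3
open LaurentPolynomial exteriorPower Groth.Agent.S19633.Aux Groth.Agent.S19633.Aux2

variable (k : Type u) [Field k]

/-- `⋀^1 Ω → L`. -/
noncomputable def Ψ : ↥(⋀[LaurentPolynomial k]^1 (Ω[LaurentPolynomial k⁄k])) →ₗ[LaurentPolynomial k]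
    LaurentPolynomial k :=
  (φ k) ∘ₗ (exteriorPower.oneEquiv (LaurentPolynomial k) (Ω[LaurentPolynomial k⁄k])).toLinearMap

theorem Ψ_injective : Function.Injective (Ψ k) :=
  (φ_injective k).comp (LinearEquiv.injective _)

theorem Ψ_ιMulti (v : Fin 1 → Ω[LaurentPolynomial k⁄k]) :
    Ψ k (ιMulti (LaurentPolynomial k) 1 v) = φ k (v 0) := by
  simp [Ψ, oneEquiv_ιMulti]

theorem subsingleton_extPow (i : ℕ) :
    Subsingleton ↥(⋀[LaurentPolynomial k]^(i + 2) (Ω[LaurentPolynomial k⁄k])) := by
  have hspan := exteriorPower.ιMulti_span_of_span (R := LaurentPolynomial k) (n := i + 2)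
    (M := Ω[LaurentPolynomial k⁄k]) (span_D_T k)
  have key : ∀ x : ↥(⋀[LaurentPolynomial k]^(i + 2) (Ω[LaurentPolynomial k⁄k])), x = 0 := by
    intro x
    have hx : x ∈ Submodule.span (LaurentPolynomial k)
        (ιMulti (LaurentPolynomial k) (i + 2) '' {v : Fin (i + 2) → Ω[LaurentPolynomial k⁄k] |
          Set.range v ⊆ {KaehlerDifferential.D k (LaurentPolynomial k) (T 1)}}) := by
      rw [hspan]; exact Submodule.mem_top
    induction hx using Submodule.span_induction with
    | mem y hy =>
      obtain ⟨v, hv, rfl⟩ := hy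
      have h0 : v 0 = v 1 := by
        rw [Set.mem_singleton_iff.mp (hv ⟨0, rfl⟩), Set.mem_singleton_iff.mp (hv ⟨1, rfl⟩)]
      exact (ιMulti (LaurentPolynomial k) (i + 2)).map_eq_zero_of_eq v h0 Fin.zero_ne_one
    | zero => rfl
    | add _ _ _ _ hx hy => rw [hx, hy, add_zero]
    | smul a _ _ hx => rw [hx, smul_zero]
  exact ⟨fun a b => by rw [key a, key b]⟩

theorem eq_gen_zero (y : ↥(⋀[LaurentPolynomial k]^0 (Ω[LaurentPolynomial k⁄k]))) :
    y = DeRham.gen (KaehlerDifferential.D k (LaurentPolynomial k)) 0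
      (zeroEquiv (LaurentPolynomial k) (Ω[LaurentPolynomial k⁄k]) y) Fin.elim0 := by
  apply (zeroEquiv (LaurentPolynomial k) (Ω[LaurentPolynomial k⁄k])).injective
  unfold DeRham.gen
  rw [map_smul, zeroEquiv_ιMulti, smul_eq_mul, mul_one]

end Groth.Agent.S19633.Aux3

namespace Groth.Agent.S19633

open exteriorPower in
/-- Let k be a field of characteristic zero, G_m = Spec k[t, t⁻¹], and d the de Rham differential of
k[t, t⁻¹] over k. Then: every 1-form is closed; the exact 1-forms and the k-line spanned by t⁻¹ dt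
are complementary subspaces of the 1-forms, and t⁻¹ dt is not exact — so H^1_dR(G_m/k) is
one-dimensional, generated by the class of dt/t (the isomorphism with k being the residue); and for
every i ≥ 2 the closed i-forms are exact, so H^i_dR(G_m/k) = 0 for i > 1. (Characteristic zero is
used in the computation of the exact forms.) -/
theorem result (k : Type u) [Field k] [CharZero k]
    (d : ∀ p : ℕ, ↥(⋀[LaurentPolynomial k]^p (Ω[LaurentPolynomial k⁄k])) →ₗ[k] ↥(⋀[LaurentPolynomial k]^(p + 1) (Ω[LaurentPolynomial k⁄k])))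
    (hd : DeRham.IsDiff (KaehlerDifferential.D k (LaurentPolynomial k)) d) :
    DeRham.cocycles d 1 = ⊤ ∧
    IsCompl (DeRham.coboundaries d 1)
      (Submodule.span k {DeRham.gen (KaehlerDifferential.D k (LaurentPolynomial k)) 1
        (LaurentPolynomial.T (-1)) (fun _ => LaurentPolynomial.T 1)}) ∧
    DeRham.gen (KaehlerDifferential.D k (LaurentPolynomial k)) 1
        (LaurentPolynomial.T (-1)) (fun _ => LaurentPolynomial.T 1) ∉ DeRham.coboundaries d 1 ∧
    ∀ i : ℕ, DeRham.cocycles d (i + 2) ≤ DeRham.coboundaries d (i + 2) := by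
  classical
  obtain ⟨hrule, -⟩ := hd
  have hss := Aux3.subsingleton_extPow k
  -- the value of `Ψ` on exact forms
  have hΨd : ∀ f : LaurentPolynomial k,
      Aux3.Ψ k (d 0 (DeRham.gen (KaehlerDifferential.D k (LaurentPolynomial k)) 0 f Fin.elim0)) =
        LaurentPolynomial.T (-1) * Groth.Agent.S19632.euler k f := by
    intro f
    rw [hrule 0 f Fin.elim0]
    show Aux3.Ψ k (exteriorPower.ιMulti (LaurentPolynomial k) 1 _) = _
    rw [Aux3.Ψ_ιMulti]
    show Aux2.φ k (KaehlerDifferential.D k (LaurentPolynomial k) f) = _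
    rw [Aux2.φ_D, Aux2.dT_apply]
  -- the value of `Ψ` on `dT/T`
  have hΨω : Aux3.Ψ k (DeRham.gen (KaehlerDifferential.D k (LaurentPolynomial k)) 1
        (LaurentPolynomial.T (-1)) (fun _ => LaurentPolynomial.T 1)) = LaurentPolynomial.T (-1) := by
    unfold DeRham.gen
    rw [map_smul, Aux3.Ψ_ιMulti, Aux2.φ_D, Aux2.dT_T_one, smul_eq_mul, mul_one]
  -- exact forms have no residue
  have hres : ∀ y, (Aux3.Ψ k (d 0 y)).coeff (-1) = 0 := by
    intro y
    rw [Aux3.eq_gen_zero k y, hΨd, Aux.T_mul_coeff, Groth.Agent.S19632.euler_coeff]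
    simp
  -- forms without residue are exact
  have hex : ∀ g : LaurentPolynomial k, g.coeff (-1) = 0 → ∃ y, Aux3.Ψ k (d 0 y) = g := by
    intro g hg
    refine ⟨DeRham.gen (KaehlerDifferential.D k (LaurentPolynomial k)) 0
      (Aux.cm k (fun n => ((n : k))⁻¹) (LaurentPolynomial.T 1 * g)) Fin.elim0, ?_⟩
    rw [hΨd]
    have h1 : Groth.Agent.S19632.euler k (Aux.cm k (fun n => ((n : k))⁻¹) (LaurentPolynomial.T 1 * g)) =
        LaurentPolynomial.T 1 * g := by
      apply LaurentPolynomial.ext
      intro n
      rw [Groth.Agent.S19632.euler_coeff, Aux.cm_coeff, Aux.T_mul_coeff]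
      by_cases hn : n = 0
      · subst hn
        simp [hg]
      · have : (n : k) ≠ 0 := by exact_mod_cast hn
        rw [← mul_assoc, mul_inv_cancel₀ this, one_mul]
    rw [h1, ← mul_assoc, ← LaurentPolynomial.T_add]
    simp
  have hωne : DeRham.gen (KaehlerDifferential.D k (LaurentPolynomial k)) 1
        (LaurentPolynomial.T (-1)) (fun _ => LaurentPolynomial.T 1) ∉ DeRham.coboundaries d 1 := by
    rintro ⟨y, hy⟩
    have := hres y
    rw [hy, hΨω] at this
    simp at this
  refine ⟨?_, ?_, hωne, ?_⟩
  · rw [eq_top_iff]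
    intro x _
    show d 1 x = 0
    haveI := hss 0
    exact Subsingleton.elim _ _
  · constructor
    · rw [Submodule.disjoint_def]
      rintro x ⟨y, rfl⟩ hx
      obtain ⟨c, hc⟩ := Submodule.mem_span_singleton.mp hx
      have h1 := hres y
      rw [← hc] at h1
      have h2 : Aux3.Ψ k (c • DeRham.gen (KaehlerDifferential.D k (LaurentPolynomial k)) 1
        (LaurentPolynomial.T (-1)) (fun _ => LaurentPolynomial.T 1)) = c • LaurentPolynomial.T (-1) := by
        rw [LinearMap.map_smul_of_tower, hΨω]
      rw [h2] at h1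
      have hc0 : c = 0 := by simpa using h1
      rw [← hc, hc0, zero_smul]
    · rw [codisjoint_iff, eq_top_iff]
      intro x _
      set c : k := (Aux3.Ψ k x).coeff (-1) with hcdef
      obtain ⟨y, hy⟩ := hex (Aux3.Ψ k x - c • LaurentPolynomial.T (-1)) (by simp [hcdef])
      have hx : x = d 0 y + c • DeRham.gen (KaehlerDifferential.D k (LaurentPolynomial k)) 1
          (LaurentPolynomial.T (-1)) (fun _ => LaurentPolynomial.T 1) := by
        apply Aux3.Ψ_injective k
        have h2 : Aux3.Ψ k (c • DeRham.gen (KaehlerDifferential.D k (LaurentPolynomial k)) 1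
          (LaurentPolynomial.T (-1)) (fun _ => LaurentPolynomial.T 1)) = c • LaurentPolynomial.T (-1) := by
          rw [LinearMap.map_smul_of_tower, hΨω]
        rw [map_add, hy, h2]
        abel
      rw [hx]
      exact Submodule.add_mem_sup ⟨y, rfl⟩ (Submodule.smul_mem _ _ (Submodule.mem_span_singleton_self _))
  · intro i x _
    haveI := hss i
    rw [Subsingleton.elim x 0]
    exact Submodule.zero_mem _

end Groth.Agent.S19633
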