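import Groth.Statements.S19649
import Mathlib
import Groth.Agent.Lib.R2LeadGrProj

set_option autoImplicit false
universe u v
open Instab

namespace Groth.Agent.S19649

namespace Aux
open MvPolynomial

variable {R : Type u} [CommRing R] {n : ℕ}

theorem weight_eq (d : Fin n →₀ ℕ) :
    Finsupp.weight (fun i : Fin n => (Pi.single i 1 : Fin n → ℤ)) d = fun i => (d i : ℤ) := by
  classical
  rw [Finsupp.weight_apply, Finsupp.sum_fintype _ _ (by intro i; simp)]
  ext k
  rw [Finset.sum_apply]
  simp [Pi.single_apply]

theorem weight_eq_zero {d : Fin n →₀ ℕ}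
    (h : Finsupp.weight (fun i : Fin n => (Pi.single i 1 : Fin n → ℤ)) d = 0) : d = 0 := by
  rw [weight_eq] at h
  ext i
  have := congrFun h i
  simpa using this

theorem mem_zero {f : MvPolynomial (Fin n) R}
    (hf : f ∈ weightedHomogeneousSubmodule R (fun i : Fin n => (Pi.single i 1 : Fin n → ℤ)) 0) :
    f = C (constantCoeff f) := by
  classical
  rw [mem_weightedHomogeneousSubmodule] at hf
  ext m
  rw [coeff_C]
  split_ifs with h
  · subst h; rfl
  · by_contra hne
    exact h (weight_eq_zero (hf hne)).symm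

theorem C_cc_mem {f : MvPolynomial (Fin n) R} {δ : Fin n → ℤ}
    (hf : f ∈ weightedHomogeneousSubmodule R (fun i : Fin n => (Pi.single i 1 : Fin n → ℤ)) δ) :
    C (constantCoeff f) ∈
      weightedHomogeneousSubmodule R (fun i : Fin n => (Pi.single i 1 : Fin n → ℤ)) δ := by
  classical
  by_cases hδ : δ = 0
  · subst hδ
    rw [← mem_zero hf]; exact hf
  · have : constantCoeff f = 0 := by
      by_contra hne
      rw [mem_weightedHomogeneousSubmodule] at hf
      have := hf (d := 0) hne
      rw [map_zero] at this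
      exact hδ this.symm
    rw [this, map_zero]
    exact Submodule.zero_mem _

end Aux

open MvPolynomial DirectSum in
/-- The case of a point, in graded-module form over an affine base. Let R be a commutative ring, n a
natural number, A = R[x_1, …, x_n] the polynomial ring graded by ℤ^n with x_i of degree the i-th
basis vector (the weight grading of the standard action of the n-dimensional split torus on affine
n-space), and P a finitely generated projective A-module carrying a compatible ℤ^n-grading (an
equivariant vector bundle on affine n-space over Spec R). Then P is graded-free Zariski-locally on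
Spec R: for every prime p of R there are r ∉ p and finitely many homogeneous elements f_1, …, f_m of
P such that, after inverting r, the f_i form an A-basis of P — every element of P multiplied by a
power of r is an A-linear combination of the f_i, and the coefficients of every A-linear relation
among the f_i are killed by a power of r. (This is the case of a point of the source's description
of filtered points of quotient stacks by the general linear group, whose argument the source gives
in full: an equivariant vector bundle on affine n-space over a base is, locally on the base, the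
standard one attached to a cocharacter; the general case, an identification of mapping stacks, is
not stated here.) -/
theorem result
    {R : Type u} [CommRing R] (n : ℕ)
    {P : Type v} [AddCommGroup P] [Module (MvPolynomial (Fin n) R) P] [Module R P]
    [IsScalarTower R (MvPolynomial (Fin n) R) P]
    (ℳ : (Fin n → ℤ) → Submodule R P) [DirectSum.Decomposition ℳ]
    [SetLike.GradedSMul (MvPolynomial.weightedHomogeneousSubmodule R (fun i : Fin n => (Pi.single i 1 : Fin n → ℤ))) ℳ]
    [Module.Finite (MvPolynomial (Fin n) R) P] [Module.Projective (MvPolynomial (Fin n) R) P]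
    (p : PrimeSpectrum R) :
    ∃ r : R, r ∉ p.asIdeal ∧ ∃ (m : ℕ) (d : Fin m → (Fin n → ℤ)) (f : Fin m → P), (∀ i, f i ∈ ℳ (d i)) ∧
      (∀ q : P, ∃ (N : ℕ) (c : Fin m → MvPolynomial (Fin n) R), (MvPolynomial.C r : MvPolynomial (Fin n) R) ^ N • q = ∑ i, c i • f i) ∧
      (∀ c : Fin m → MvPolynomial (Fin n) R, ∑ i, c i • f i = 0 →
        ∃ N : ℕ, ∀ i, (MvPolynomial.C r : MvPolynomial (Fin n) R) ^ N * c i = 0) := by
  classical
  letI : GradedAlgebra (MvPolynomial.weightedHomogeneousSubmodule R
      (fun i : Fin n => (Pi.single i 1 : Fin n → ℤ))) :=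
    MvPolynomial.weightedGradedAlgebra R _
  set 𝒜 := MvPolynomial.weightedHomogeneousSubmodule R
      (fun i : Fin n => (Pi.single i 1 : Fin n → ℤ)) with h𝒜
  obtain ⟨S, hS1, hS2⟩ := Groth.Agent.Lib.R2Lead.GrProj.exists_homogeneous_generators
    (A := MvPolynomial (Fin n) R) ℳ
  let g : S → P := Subtype.val
  choose e he using (fun x : S => hS1 x.1 x.2)
  have hspan : Submodule.span (MvPolynomial (Fin n) R) (Set.range g) = ⊤ := by
    rw [Subtype.range_coe]; exact hS2
  have hsurj : Function.Surjective (Fintype.linearCombination (MvPolynomial (Fin n) R) g) := by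
    rw [← LinearMap.range_eq_top, Fintype.range_linearCombination, hspan]
  obtain ⟨σ₁, hσ₁'⟩ := Module.projective_lifting_property
    (Fintype.linearCombination (MvPolynomial (Fin n) R) g) LinearMap.id hsurj
  have hσ₁ : ∀ q, Fintype.linearCombination (MvPolynomial (Fin n) R) g (σ₁ q) = q :=
    fun q => LinearMap.congr_fun hσ₁' q
  set σ₀ := Groth.Agent.Lib.R2Lead.GrProj.grSec 𝒜 ℳ e σ₁ with hσ₀def
  have hσ₀ : ∀ q, Fintype.linearCombination (MvPolynomial (Fin n) R) g (σ₀ q) = q :=
    Groth.Agent.Lib.R2Lead.GrProj.grSec_section 𝒜 ℳ g e he σ₁ hσ₁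
  set E := Groth.Agent.Lib.R2Lead.GrProj.eMat g σ₀ with hEdef
  have hEgr : Groth.Agent.Lib.R2Lead.GrProj.IsGr 𝒜 e E :=
    fun l j => Groth.Agent.Lib.R2Lead.GrProj.grSec_mem 𝒜 ℳ e σ₁ l (he j)
  have hEE : E * E = E := Groth.Agent.Lib.R2Lead.GrProj.eMat_idem g σ₀ hσ₀
  set Eb : Matrix S S R := E.map MvPolynomial.constantCoeff with hEb
  have hEbEb : Eb * Eb = Eb := by
    have := congrArg (fun X : Matrix S S (MvPolynomial (Fin n) R) => X.map MvPolynomial.constantCoeff) hEE
    simpa [Matrix.map_mul] using this
  set E' : Matrix S S (MvPolynomial (Fin n) R) := Eb.map MvPolynomial.C with hE'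
  have hE'gr : Groth.Agent.Lib.R2Lead.GrProj.IsGr 𝒜 e E' := fun l j => Aux.C_cc_mem (hEgr l j)
  have hE'E' : E' * E' = E' := by
    have := congrArg (fun X : Matrix S S R => X.map (MvPolynomial.C (σ := Fin n))) hEbEb
    simpa [Matrix.map_mul] using this
  set Φ : Matrix S S (MvPolynomial (Fin n) R) := E * E' + (1 - E) * (1 - E') with hΦ
  have hΦgr : Groth.Agent.Lib.R2Lead.GrProj.IsGr 𝒜 e Φ :=
    Groth.Agent.Lib.R2Lead.GrProj.IsGr.add 𝒜 e
      (Groth.Agent.Lib.R2Lead.GrProj.IsGr.mul 𝒜 e hEgr hE'gr)
      (Groth.Agent.Lib.R2Lead.GrProj.IsGr.mul 𝒜 e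
        (Groth.Agent.Lib.R2Lead.GrProj.IsGr.sub 𝒜 e (Groth.Agent.Lib.R2Lead.GrProj.IsGr.one 𝒜 e) hEgr)
        (Groth.Agent.Lib.R2Lead.GrProj.IsGr.sub 𝒜 e (Groth.Agent.Lib.R2Lead.GrProj.IsGr.one 𝒜 e) hE'gr))
  have hdetΦ : Φ.det = 1 := by
    rw [Aux.mem_zero (Groth.Agent.Lib.R2Lead.GrProj.IsGr.det_mem 𝒜 e hΦgr), RingHom.map_det, RingHom.mapMatrix_apply]
    have h1 : E'.map MvPolynomial.constantCoeff = Eb := by
      ext l j; simp [hE']
    have h2 : Φ.map (MvPolynomial.constantCoeff (R := R) (σ := Fin n)) = 1 := by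
      rw [hΦ, Matrix.map_add _ (map_add _), Matrix.map_mul, Matrix.map_mul,
        Matrix.map_sub _ (map_sub _), Matrix.map_sub _ (map_sub _),
        Matrix.map_one _ (map_zero _) (map_one _), h1, ← hEb]
      rw [Matrix.sub_mul, Matrix.mul_sub, Matrix.mul_sub, Matrix.one_mul, Matrix.mul_one,
        Matrix.one_mul, hEbEb]
      abel
    rw [h2, Matrix.det_one, map_one]
  have hEΦ : E * Φ = E * E' := by
    have h1 : E * (1 - E) = 0 := by rw [Matrix.mul_sub, Matrix.mul_one, hEE, sub_self]
    rw [hΦ, Matrix.mul_add, ← Matrix.mul_assoc, hEE, ← Matrix.mul_assoc, h1, Matrix.zero_mul,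
      add_zero]
  have hΦE' : Φ * E' = E * E' := by
    have h2 : (1 - E') * E' = 0 := by rw [Matrix.sub_mul, Matrix.one_mul, hE'E', sub_self]
    rw [hΦ, Matrix.add_mul, Matrix.mul_assoc, hE'E', Matrix.mul_assoc, h2, Matrix.mul_zero,
      add_zero]
  -- linear algebra over the residue field
  let ρ : R →+* p.asIdeal.ResidueField := algebraMap R p.asIdeal.ResidueField
  let vR : S ⊕ S → (S → R) := Sum.elim (fun j l => Eb l j) (fun j l => (1 - Eb) l j)
  let vk : S ⊕ S → (S → p.asIdeal.ResidueField) := fun b l => ρ (vR b l)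
  have hspank : Submodule.span p.asIdeal.ResidueField (Set.range vk) = ⊤ := by
    rw [eq_top_iff, ← (Pi.basisFun p.asIdeal.ResidueField S).span_eq, Submodule.span_le]
    rintro _ ⟨j, rfl⟩
    have : Pi.basisFun p.asIdeal.ResidueField S j = vk (Sum.inl j) + vk (Sum.inr j) := by
      ext l
      simp only [Pi.basisFun_apply, Pi.add_apply, vk, vR, Sum.elim_inl, Sum.elim_inr, ← map_add,
        Matrix.sub_apply, add_sub_cancel, Matrix.one_apply, Pi.single_apply]
      split_ifs <;> simp
    rw [this]
    exact Submodule.add_mem _ (Submodule.subset_span ⟨_, rfl⟩) (Submodule.subset_span ⟨_, rfl⟩)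
  obtain ⟨T, a, ha, hsp, hli⟩ := exists_linearIndependent' p.asIdeal.ResidueField vk
  haveI : Finite T := Finite.of_injective a ha
  letI : Fintype T := Fintype.ofFinite T
  let bT : Module.Basis T p.asIdeal.ResidueField (S → p.asIdeal.ResidueField) :=
    Module.Basis.mk hli (by rw [hsp, hspank])
  have hcard : Fintype.card S = Fintype.card T := by
    rw [← Module.finrank_eq_card_basis bT, Module.finrank_fintype_fun_eq_card]
  let ε : S ≃ T := Fintype.equivOfCardEq hcard
  let MR : Matrix S S R := fun l j => vR (a (ε j)) l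
  refine ⟨MR.det, ?_, ?_⟩
  · intro hmem
    have h0 : ρ MR.det = 0 := (Ideal.algebraMap_residueField_eq_zero).2 hmem
    rw [RingHom.map_det, RingHom.mapMatrix_apply] at h0
    have hcols : LinearIndependent p.asIdeal.ResidueField (MR.map ρ).col := by
      have := hli.comp ε ε.injective
      exact this
    have hu := (Matrix.isUnit_iff_isUnit_det _).1 (Matrix.linearIndependent_cols_iff_isUnit.1 hcols)
    rw [h0] at hu
    exact not_isUnit_zero hu
  have hEbMR : ∀ l j, (Eb * MR) l j = if (a (ε j)).isLeft = true then MR l j else 0 := by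
    intro l j
    rw [Matrix.mul_apply]
    rcases h : a (ε j) with t | t
    · have hMR : ∀ k, MR k j = Eb k t := fun k => by simp [MR, vR, h]
      simp only [hMR, Sum.isLeft_inl, if_true]
      rw [← Matrix.mul_apply, hEbEb]
    · have hMR : ∀ k, MR k j = (1 - Eb) k t := fun k => by simp [MR, vR, h]
      simp only [hMR, Sum.isLeft_inr, Bool.false_eq_true, if_false]
      rw [← Matrix.mul_apply, Matrix.mul_sub, Matrix.mul_one, hEbEb, sub_self]
      rfl
  set M' : Matrix S S (MvPolynomial (Fin n) R) := MR.map MvPolynomial.C with hM'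
  have hE'M : ∀ l j, (E' * M') l j = if (a (ε j)).isLeft = true then M' l j else 0 := by
    intro l j
    have h1 : E' * M' = (Eb * MR).map MvPolynomial.C := by
      rw [hE', hM', Matrix.map_mul]
    rw [h1, Matrix.map_apply, hEbMR]
    split_ifs
    · rfl
    · exact map_zero _
  set M : Matrix S S (MvPolynomial (Fin n) R) := Φ * M' with hM
  have hdetM : M.det = (MvPolynomial.C MR.det : MvPolynomial (Fin n) R) := by
    rw [hM, Matrix.det_mul, hdetΦ, one_mul, hM', RingHom.map_det, RingHom.mapMatrix_apply]
  let Jt := {j : S // (a (ε j)).isLeft = true}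
  let eJ : Fin (Fintype.card Jt) ≃ Jt := (Fintype.equivFin Jt).symm
  let F : S → P := fun j => Fintype.linearCombination (MvPolynomial (Fin n) R) g (fun l => M' l j)
  refine ⟨Fintype.card Jt, fun i => e ((a (ε (eJ i).1)).getLeft (eJ i).2), fun i => F (eJ i).1,
    ?_, ?_, ?_⟩
  · intro i
    show F (eJ i).1 ∈ ℳ (e ((a (ε (eJ i).1)).getLeft (eJ i).2))
    have hat : a (ε (eJ i).1) = Sum.inl ((a (ε (eJ i).1)).getLeft (eJ i).2) :=
      (Sum.inl_getLeft _ _).symm
    generalize (a (ε (eJ i).1)).getLeft (eJ i).2 = t at hat ⊢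
    show Fintype.linearCombination (MvPolynomial (Fin n) R) g (fun l => M' l (eJ i).1) ∈ ℳ (e t)
    rw [Fintype.linearCombination_apply]
    refine Submodule.sum_mem _ (fun l _ => ?_)
    have h1 : M' l (eJ i).1 = MvPolynomial.C (MvPolynomial.constantCoeff (E l t)) := by
      simp [hM', MR, vR, hat, hEb]
    have h2 : M' l (eJ i).1 ∈ 𝒜 (e t - e l) := by
      rw [h1]; exact Aux.C_cc_mem (hEgr l t)
    have h3 := SetLike.GradedSMul.smul_mem h2 (he l)
    have h4 : (e t - e l) +ᵥ e l = e t := by rw [vadd_eq_add, sub_add_cancel]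
    rw [h4] at h3
    exact h3
  · intro q
    obtain ⟨u, hu_def⟩ : ∃ u, u = σ₀ q := ⟨_, rfl⟩
    obtain ⟨z, hz⟩ : ∃ z, z = M.adjugate.mulVec u := ⟨_, rfl⟩
    refine ⟨1, fun i => z (eJ i).1, ?_⟩
    have hu : E.mulVec u = u := by
      rw [hu_def]; exact Groth.Agent.Lib.R2Lead.GrProj.eMat_mulVec_sec g σ₀ hσ₀ q
    have h1 : M.mulVec z = (MvPolynomial.C MR.det : MvPolynomial (Fin n) R) • u := by
      rw [hz, Matrix.mulVec_mulVec, Matrix.mul_adjugate, hdetM, Matrix.smul_mulVec,
        Matrix.one_mulVec]
    have h2 : (MvPolynomial.C MR.det : MvPolynomial (Fin n) R) • u = E.mulVec ((E' * M').mulVec z) := by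
      calc (MvPolynomial.C MR.det : MvPolynomial (Fin n) R) • u = (MvPolynomial.C MR.det : MvPolynomial (Fin n) R) • E.mulVec u := by rw [hu]
        _ = E.mulVec ((MvPolynomial.C MR.det : MvPolynomial (Fin n) R) • u) := (Matrix.mulVec_smul _ _ _).symm
        _ = E.mulVec (M.mulVec z) := by rw [h1]
        _ = (E * Φ * M').mulVec z := by rw [Matrix.mulVec_mulVec, hM, ← Matrix.mul_assoc]
        _ = (E * E' * M').mulVec z := by rw [hEΦ]
        _ = E.mulVec ((E' * M').mulVec z) := by rw [Matrix.mulVec_mulVec, Matrix.mul_assoc]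
    have h3 : (MvPolynomial.C MR.det : MvPolynomial (Fin n) R) • q =
        Fintype.linearCombination (MvPolynomial (Fin n) R) g ((E' * M').mulVec z) := by
      calc (MvPolynomial.C MR.det : MvPolynomial (Fin n) R) • q
          = (MvPolynomial.C MR.det : MvPolynomial (Fin n) R) • Fintype.linearCombination (MvPolynomial (Fin n) R) g u := by
            rw [hu_def, hσ₀]
        _ = Fintype.linearCombination (MvPolynomial (Fin n) R) g ((MvPolynomial.C MR.det : MvPolynomial (Fin n) R) • u) :=
            (map_smul _ _ _).symm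
        _ = Fintype.linearCombination (MvPolynomial (Fin n) R) g
              (E.mulVec ((E' * M').mulVec z)) := by rw [h2]
        _ = _ := Groth.Agent.Lib.R2Lead.GrProj.lc_eMat_mulVec g σ₀ hσ₀ _
    have h5 : ∀ j, Fintype.linearCombination (MvPolynomial (Fin n) R) g (fun l => (E' * M') l j) =
        if (a (ε j)).isLeft = true then F j else 0 := by
      intro j
      simp only [hE'M]
      split_ifs
      · rfl
      · exact map_zero _
    rw [pow_one, h3, Groth.Agent.Lib.R2Lead.GrProj.lc_mulVec]
    simp only [h5, smul_ite, smul_zero]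
    rw [← Finset.sum_filter, Finset.sum_subtype (Finset.univ.filter
      (fun j => (a (ε j)).isLeft = true)) (p := fun j => (a (ε j)).isLeft = true)
      (fun x => by simp)]
    exact (Equiv.sum_comp eJ (fun x : Jt => z x.1 • F x.1)).symm
  · intro c hc
    refine ⟨1, fun i => ?_⟩
    let ct : S → MvPolynomial (Fin n) R := fun j =>
      if h : (a (ε j)).isLeft = true then c (eJ.symm ⟨j, h⟩) else 0
    have hct : ∀ i, ct (eJ i).1 = c i := by
      intro i
      simp only [ct]
      rw [dif_pos (eJ i).2]
      simp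
    have hsum : ∑ j, ct j • F j = 0 := by
      rw [← hc, ← Finset.sum_filter_of_ne (p := fun j => (a (ε j)).isLeft = true)
        (fun j _ hj => by
          by_contra hneg
          apply hj
          simp only [ct]
          rw [dif_neg hneg, zero_smul]),
        Finset.sum_subtype (Finset.univ.filter
          (fun j => (a (ε j)).isLeft = true)) (p := fun j => (a (ε j)).isLeft = true)
          (fun x => by simp)]
      rw [← Equiv.sum_comp eJ (fun x : Jt => ct x.1 • F x.1)]
      exact Finset.sum_congr rfl (fun i _ => by rw [hct])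
    have hπ : Fintype.linearCombination (MvPolynomial (Fin n) R) g (M'.mulVec ct) = 0 := by
      rw [Groth.Agent.Lib.R2Lead.GrProj.lc_mulVec]; exact hsum
    have hsupp : (E' * M').mulVec ct = M'.mulVec ct := by
      funext l
      simp only [Matrix.mulVec, dotProduct]
      refine Finset.sum_congr rfl (fun j _ => ?_)
      rw [hE'M]
      split_ifs with h
      · rfl
      · simp only [ct]
        rw [dif_neg h, mul_zero, mul_zero]
    have hEM0 : E.mulVec (M'.mulVec ct) = 0 := by
      rw [← Groth.Agent.Lib.R2Lead.GrProj.sec_lc g σ₀, hπ, map_zero]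
    have hM0 : M.mulVec ct = 0 := by
      calc M.mulVec ct = Φ.mulVec (M'.mulVec ct) := by rw [hM, Matrix.mulVec_mulVec]
        _ = Φ.mulVec ((E' * M').mulVec ct) := by rw [hsupp]
        _ = (Φ * E').mulVec (M'.mulVec ct) := by
            rw [Matrix.mulVec_mulVec, Matrix.mulVec_mulVec, Matrix.mul_assoc]
        _ = (E * E').mulVec (M'.mulVec ct) := by rw [hΦE']
        _ = E.mulVec ((E' * M').mulVec ct) := by
            rw [Matrix.mulVec_mulVec, Matrix.mulVec_mulVec, Matrix.mul_assoc]
        _ = E.mulVec (M'.mulVec ct) := by rw [hsupp]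
        _ = 0 := hEM0
    have hfin : (MvPolynomial.C MR.det : MvPolynomial (Fin n) R) • ct = 0 := by
      have := congrArg M.adjugate.mulVec hM0
      rw [Matrix.mulVec_mulVec, Matrix.adjugate_mul, hdetM, Matrix.mulVec_zero,
        Matrix.smul_mulVec, Matrix.one_mulVec] at this
      exact this
    have := congrFun hfin (eJ i).1
    rw [Pi.smul_apply, hct, smul_eq_mul, Pi.zero_apply] at this
    rw [pow_one]; exact this

end Groth.Agent.S19649
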