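import Groth.Statements.S19741
import Mathlib

set_option autoImplicit false
universe w u
open EssDim

namespace Groth.Agent.S19741

namespace Aux

open IntermediateField in
open scoped IntermediateField.algebraAdjoinAdjoin in
theorem trdeg_le_of_adjoin_range_eq_top {k K M E : Type u} [Field k] [Field K] [Field M] [Field E]
    [Algebra k K] [Algebra K M] [Algebra k M] [IsScalarTower k K M] [Algebra k E]
    (φ : E →ₐ[k] M) (htop : IntermediateField.adjoin K (Set.range φ) = ⊤) :
    Algebra.trdeg K M ≤ Algebra.trdeg k E := by
  obtain ⟨s, hs⟩ := exists_isTranscendenceBasis k E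
  rw [← hs.cardinalMk_eq_trdeg]
  set T : Set M := φ '' s with hT
  -- the field F' = K(T)
  have hF0 : ∀ x : IntermediateField.adjoin k (Set.range ((↑) : s → E)),
      φ (x : E) ∈ IntermediateField.adjoin K T := by
    rintro ⟨x, hx⟩
    induction hx using IntermediateField.adjoin_induction with
    | mem x hx =>
      obtain ⟨⟨y, hy⟩, rfl⟩ := hx
      exact IntermediateField.subset_adjoin _ _ ⟨y, hy, rfl⟩
    | algebraMap c =>
      rw [AlgHom.commutes, IsScalarTower.algebraMap_apply k K M]
      exact (IntermediateField.adjoin K T).algebraMap_mem _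
    | add x y _ _ hx hy => rw [map_add]; exact add_mem hx hy
    | mul x y _ _ hx hy => rw [map_mul]; exact mul_mem hx hy
    | inv x _ hx => rw [map_inv₀]; exact inv_mem hx
  let f : IntermediateField.adjoin k (Set.range ((↑) : s → E)) →+* IntermediateField.adjoin K T :=
    { toFun := fun x => ⟨φ (x : E), hF0 x⟩
      map_one' := by ext; simp
      map_mul' := by intro x y; ext; simp
      map_zero' := by ext; simp
      map_add' := by intro x y; ext; simp }
  have hEalg : Algebra.IsAlgebraic (IntermediateField.adjoin k (Set.range ((↑) : s → E))) E :=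
    hs.isAlgebraic_field
  have hmem : ∀ e : E, IsAlgebraic (IntermediateField.adjoin K T) (φ e) := by
    intro e
    have h1 := hEalg.isAlgebraic e
    exact h1.ringHom_of_comp_eq f (φ : E →+* M) f.injective (by ext x; rfl)
  have hFM : Algebra.IsAlgebraic (IntermediateField.adjoin K T) M := by
    refine ⟨fun x => ?_⟩
    have hx : x ∈ IntermediateField.adjoin K (Set.range φ) := by rw [htop]; trivial
    induction hx using IntermediateField.adjoin_induction with
    | mem x hx =>
      obtain ⟨e, rfl⟩ := hx
      exact hmem e
    | algebraMap c =>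
      rw [IsScalarTower.algebraMap_apply K (IntermediateField.adjoin K T) M]
      exact isAlgebraic_algebraMap _
    | add x y _ _ hx hy => exact hx.add hy
    | mul x y _ _ hx hy => exact hx.mul hy
    | inv x _ hx => exact hx.inv
  have halg : Algebra.IsAlgebraic (Algebra.adjoin K T) M :=
    Algebra.IsAlgebraic.trans (Algebra.adjoin K T) (IntermediateField.adjoin K T) M
  refine (Algebra.IsAlgebraic.trdeg_le_cardinalMk K T).trans ?_
  exact Cardinal.mk_image_le

theorem trdeg_adjoin_le {k K L : Type u} [Field k] [Field K] [Field L] [Algebra k K] [Algebra K L]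
    [Algebra k L] [IsScalarTower k K L] (E : IntermediateField k L) :
    Algebra.trdeg K (IntermediateField.adjoin K (E : Set L)) ≤ Algebra.trdeg k E := by
  let φ : E →ₐ[k] IntermediateField.adjoin K (E : Set L) :=
    { toFun := fun x => ⟨x, IntermediateField.subset_adjoin _ _ x.2⟩
      map_one' := rfl
      map_mul' := fun _ _ => rfl
      map_zero' := rfl
      map_add' := fun _ _ => rfl
      commutes' := fun _ => rfl }
  apply trdeg_le_of_adjoin_range_eq_top φ
  apply IntermediateField.map_injective (IntermediateField.val _)
  rw [IntermediateField.adjoin_map, ← AlgHom.fieldRange_eq_map, IntermediateField.fieldRange_val]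
  congr 1
  ext x
  constructor
  · rintro ⟨_, ⟨e, rfl⟩, rfl⟩
    exact e.2
  · intro hx
    exact ⟨φ ⟨x, hx⟩, ⟨⟨x, hx⟩, rfl⟩, rfl⟩

end Aux

open CategoryTheory AlgebraicGeometry in
/-- For a field extension `K` of `k` and a presheaf of sets `P` on schemes over `k`, restrict `P` to
schemes over `K` by viewing a scheme over `Spec K` as a scheme over `Spec k`; then the essential
dimension over `K` of the restricted presheaf is at most the essential dimension of `P` over `k`.
(The source states this for an algebraic stack over `k` and its base change to `K`, through the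
presheaf of isomorphism classes of objects, whose restriction to schemes over `K` is the presheaf of
classes of the base-changed stack; the inequality is stated here for an arbitrary presheaf, which is
what the argument with composita of fields of definition gives.) -/
theorem result (k : Type u) [Field k] (K : Type u) [Field K] [Algebra k K]
    (P : (Over (Spec (CommRingCat.of k)))ᵒᵖ ⥤ Type w) :
    EssDim.ed (k := K) ((Over.map (Spec.map (CommRingCat.ofHom (algebraMap k K)))).op ⋙ P) ≤ EssDim.ed P := by
  refine iSup_le fun L => iSup_le fun _ => iSup_le fun _ => iSup_le fun ξ => ?_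
  letI : Algebra k L := ((algebraMap K L).comp (algebraMap k K)).toAlgebra
  haveI : IsScalarTower k K L := IsScalarTower.of_algebraMap_eq (fun _ => rfl)
  let f0 : Spec (CommRingCat.of K) ⟶ Spec (CommRingCat.of k) :=
    Spec.map (CommRingCat.ofHom (algebraMap k K))
  change (edAt ((Over.map f0).op ⋙ P) ξ : WithBot ℕ∞) ≤ _
  let aL : SGA7.pt (K := k) L ⟶ (Over.map f0).obj (SGA7.pt (K := K) L) :=
    Over.homMk (𝟙 _) (by
      simp only [Over.map_obj_hom, Over.mk_hom, Category.id_comp, f0,
        ← Spec.map_comp, ← CommRingCat.ofHom_comp])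
  let bL : (Over.map f0).obj (SGA7.pt (K := K) L) ⟶ SGA7.pt (K := k) L :=
    Over.homMk (𝟙 _) (by
      simp only [Over.map_obj_hom, Over.mk_hom, Category.id_comp, f0,
        ← Spec.map_comp, ← CommRingCat.ofHom_comp])
  have hba : bL ≫ aL = 𝟙 _ := by
    ext : 1
    simp [aL, bL]
  let ξ' : FPt P L := P.map aL.op ξ
  have hξ : ξ = P.map bL.op ξ' := by
    change ξ = (P.map aL.op ≫ P.map bL.op) ξ
    rw [← P.map_comp, ← op_comp, hba, op_id, P.map_id]
    rfl
  refine le_trans ?_ (edAt_le_ed ξ')
  rw [WithBot.coe_le_coe]
  refine le_iInf ?_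
  rintro ⟨E, hE⟩
  obtain ⟨η, hη⟩ := hE
  let E' : IntermediateField K L := IntermediateField.adjoin K (E : Set L)
  have hdesc : Descends ((Over.map f0).op ⋙ P) ξ E' := by
    let φ : E →+* E' :=
      { toFun := fun x => ⟨x, IntermediateField.subset_adjoin _ _ x.2⟩
        map_one' := rfl
        map_mul' := fun _ _ => rfl
        map_zero' := rfl
        map_add' := fun _ _ => rfl }
    let c : (Over.map f0).obj (SGA7.pt (K := K) E') ⟶ SGA7.pt (K := k) E :=
      Over.homMk (Spec.map (CommRingCat.ofHom φ)) (by
        simp only [Over.map_obj_hom, Over.mk_hom, f0,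
          ← Spec.map_comp, ← CommRingCat.ofHom_comp])
    refine ⟨P.map c.op η, ?_⟩
    have hcomm : (Over.map f0).map (resPt (k := K) E'.val) ≫ c = bL ≫ resPt (k := k) E.val := by
      ext : 1
      simp only [Over.comp_left, Over.map_map_left, resPt_left, c, bL, Over.homMk_left,
        Category.id_comp, ← Spec.map_comp, ← CommRingCat.ofHom_comp]
      rfl
    rw [hξ, ← hη]
    change (P.map c.op ≫ P.map ((Over.map f0).map (resPt (k := K) E'.val)).op) η =
      (P.map (resPt (k := k) E.val).op ≫ P.map bL.op) η
    rw [← P.map_comp, ← P.map_comp, ← op_comp, ← op_comp, hcomm]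
  refine (edAt_le_of_descends hdesc).trans ?_
  exact Cardinal.toENat.monotone' (Aux.trdeg_adjoin_le E)

end Groth.Agent.S19741
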