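import Groth.Statements.S19756
import Mathlib
import Groth.Agent.Lib.H6xSegMod
import Groth.Agent.S19754

set_option autoImplicit false
universe u
open scoped TensorProduct
open GrSegre

namespace Groth.Agent.S19756

/-- Let R and S be graded rings defined over a field k with m = R_+ and T = R # S, let M be a finitely
generated graded Cohen–Macaulay R-module of dimension 1 and N a finitely generated graded
Cohen–Macaulay S-module of dimension s ≥ 1, and assume M # N ≠ 0. (ii) If s ≥ 2, then M # N is a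
Cohen–Macaulay T-module if and only if H^1_m(M) # N = 0, that is, for every degree d, H^1_m(M)_d = 0
or N_d = 0. (iii) If s = 1, then M # N is a Cohen–Macaulay T-module. The numbers 1 and s are here
the dimensions of the modules M and N themselves and are not assumed to equal dim R and dim S. Here
a graded ring defined over k is a commutative k-algebra of finite type, graded in nonnegative
degrees by k-subspaces with degree-zero part k·1; the Segre product T = R # S = ⊕_n R_n ⊗_k S_n is
presented abstractly as a graded k-algebra T with an injective k-algebra homomorphism ψ : T → R ⊗_k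
S carrying T_n onto the k-span of the elementary tensors a ⊗ b with a ∈ R_n, b ∈ S_n; the Segre
product M # N = ⊕_n M_n ⊗_k N_n of a graded R-module M and a graded S-module N is presented
abstractly as a graded T-module P with an injective k-linear map φ : P → M ⊗_k N carrying P_n onto
the k-span of the tensors x ⊗ y with x ∈ M_n, y ∈ N_n and turning the action of t ∈ T into that of
ψ(t) (acting factorwise on M ⊗_k N); a module over a ring is called Cohen–Macaulay when each of its
localizations at a prime ideal is zero or a Cohen–Macaulay module over the local ring (dimension of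
the support equal to the depth), and the dimension of a module is the Krull dimension of its
support; the graded local cohomology pieces are computed from a *injective resolution of M in the
graded category. -/
theorem result (k : Type u) [Field k] (R : Type u) [CommRing R] [Algebra k R] (𝒜 : ℤ → Submodule k R) [GradedAlgebra 𝒜] (hposR : ∀ n : ℤ, n < 0 → 𝒜 n = ⊥) (h0R : 𝒜 0 = Submodule.span k {(1 : R)}) [Algebra.FiniteType k R] (S : Type u) [CommRing S] [Algebra k S] (ℬ : ℤ → Submodule k S) [GradedAlgebra ℬ] (hposS : ∀ n : ℤ, n < 0 → ℬ n = ⊥) (h0S : ℬ 0 = Submodule.span k {(1 : S)}) [Algebra.FiniteType k S] (T : Type u) [CommRing T] [Algebra k T] (𝒯 : ℤ → Submodule k T) [GradedAlgebra 𝒯] (ψ : T →ₐ[k] TensorProduct k R S) (hT : GrSeg.IsSegreRing 𝒜 ℬ 𝒯 ψ) (mR : HomogeneousIdeal 𝒜) (hmR : mR.toIdeal = Ideal.span (⋃ n ∈ Set.Ioi (0 : ℤ), (𝒜 n : Set R))) (M : Type u) [AddCommGroup M] [Module R M] [Module k M] [IsScalarTower k R M] (ℳ : ℤ → AddSubgroup M) [DirectSum.Decomposition ℳ] [SetLike.GradedSMul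 𝒜 ℳ] [Module.Finite R M] (EM : GrLC.StarInjRes 𝒜 ℳ) (N : Type u) [AddCommGroup N] [Module S N] [Module k N] [IsScalarTower k S N] (𝒩 : ℤ → AddSubgroup N) [DirectSum.Decomposition 𝒩] [SetLike.GradedSMul ℬ 𝒩] [Module.Finite S N] (P : Type u) [AddCommGroup P] [Module T P] [Module k P] [IsScalarTower k T P] (𝒬 : ℤ → AddSubgroup P) [DirectSum.Decomposition 𝒬] (φ : P →ₗ[k] TensorProduct k M N) (hP : GrSeg.IsSegreMod ψ ℳ 𝒩 𝒬 φ) [Nontrivial P] (s : ℕ) (h1s : 1 ≤ s) (hdM : Module.supportDim R M = 1) (hdN : Module.supportDim S N = s) (hMcm : (∀ (q : Ideal R) [q.IsPrime], Subsingleton (LocalizedModule q.primeCompl M) ∨ LocCoh.IsCohenMacaulayModule (Localization.AtPrime q) (LocalizedModule q.primeCompl M))) (hNcm : (∀ (q : Ideal S) [q.IsPrime], Subsingleton (LocalizedModule q.primeCompl N) ∨ LocCoh.IsCohenMacaulayModule (Localization.AtPrime q) (LocalizedModule q.primeCompl N))) : (2 ≤ s → ((∀ (q : Ideal T) [q.IsPrime], Subsingleton (LocalizedModule q.primeCompl P) ∨ LocCoh.IsCohenMacaulayModule (Localization.AtPrime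 q) (LocalizedModule q.primeCompl P)) ↔ ∀ d : ℤ, EM.Hcomp mR 1 d = ⊥ ∨ 𝒩 d = ⊥)) ∧ (s = 1 → (∀ (q : Ideal T) [q.IsPrime], Subsingleton (LocalizedModule q.primeCompl P) ∨ LocCoh.IsCohenMacaulayModule (Localization.AtPrime q) (LocalizedModule q.primeCompl P))) := by
  classical
  have hdM' : Module.supportDim R M = ((1 : ℕ) : WithBot ℕ∞) := by rw [hdM]; rfl
  haveI : Nontrivial M := Groth.Agent.Lib.H6xSegMod.nontrivial_of_supportDim 1 hdM'
  haveI : Nontrivial N := Groth.Agent.Lib.H6xSegMod.nontrivial_of_supportDim s hdN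
  haveI : Nontrivial R := Module.nontrivial R M
  haveI : Nontrivial S := Module.nontrivial S N
  obtain ⟨EN⟩ := Groth.Agent.Lib.R2H7.SegCM.exists_res_conv ℬ 𝒩
  have hMv : ∀ i, i ≠ 1 → ∀ d : ℤ, EM.Hcomp mR i d = ⊥ := fun i hi d =>
    Groth.Agent.Lib.H6xSegMod.hcomp_eq_bot_of_cm 𝒜 hposR h0R mR hmR ℳ EM 1 hdM' hMcm i hi d
  have hNv : ∀ i, i ≠ s → ∀ d : ℤ,
      EN.Hcomp (Groth.Agent.Lib.R2H7.SegCM.irrIdeal ℬ) i d = ⊥ := fun i hi d =>
    Groth.Agent.Lib.H6xSegMod.hcomp_eq_bot_of_cm ℬ hposS h0S
      (Groth.Agent.Lib.R2H7.SegCM.irrIdeal ℬ) (Groth.Agent.Lib.R2H7.SegCM.irrIdeal_toIdeal ℬ) 𝒩 EN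
      s hdN hNcm i hi d
  have hdim : Module.supportDim T P = ((s : ℕ) : WithBot ℕ∞) := by
    rcases Groth.Agent.S19754.result k R 𝒜 hposR h0R S ℬ hposS h0S T 𝒯 ψ hT M ℳ N 𝒩 P 𝒬 φ hP 1 s
      le_rfl h1s hdM' hdN hMcm hNcm with h | h
    · rw [h]
      congr 2
      omega
    · exact absurd h (not_subsingleton P)
  have key := Groth.Agent.Lib.H6xSegMod.segre_mod_cm_iff k R 𝒜 hposR h0R S ℬ hposS h0S T 𝒯 ψ hT
    mR hmR (Groth.Agent.Lib.R2H7.SegCM.irrIdeal ℬ) (Groth.Agent.Lib.R2H7.SegCM.irrIdeal_toIdeal ℬ)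
    M ℳ EM N 𝒩 EN P 𝒬 φ hP (hMv 0 (by omega)) (hNv 0 (by omega)) s hdim
  have hcond : ∀ q < s, ∀ d : ℤ, q ≠ 1 →
      Groth.Agent.Lib.H6xSegMod.KCond mR (Groth.Agent.Lib.R2H7.SegCM.irrIdeal ℬ) EM EN q d := by
    intro q hq d hq1
    refine ⟨Or.inr (hNv q (by omega) d), Or.inl (hMv q hq1 d), ?_⟩
    intro i hi
    rw [Finset.mem_range] at hi
    by_cases hi1 : i = 1
    · right
      subst hi1
      exact hNv _ (by omega) d
    · exact Or.inl (hMv i hi1 d)
  refine ⟨fun h2s => ?_, fun hs1 => ?_⟩
  · rw [key]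
    constructor
    · intro h d
      rcases (h 1 (by omega) d).2.1 with h1 | h1
      · exact Or.inl h1
      · exact Or.inr ((AddSubgroup.eq_bot_iff_forall _).mpr h1)
    · intro h q hq d
      by_cases hq1 : q = 1
      · subst hq1
        refine ⟨Or.inr (hNv 1 (by omega) d), ?_, ?_⟩
        · rcases h d with h1 | h1
          · exact Or.inl h1
          · exact Or.inr ((AddSubgroup.eq_bot_iff_forall _).mp h1)
        · intro i hi
          rw [Finset.mem_range] at hi
          by_cases hi1 : i = 1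
          · right
            subst hi1
            exact hNv _ (by omega) d
          · exact Or.inl (hMv i hi1 d)
      · exact hcond q hq d hq1
  · rw [key]
    intro q hq d
    exact hcond q hq d (by omega)

end Groth.Agent.S19756
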