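import Groth.Statements.S19809
import Mathlib
import Groth.Agent.Lib.Helper24Trisec

set_option autoImplicit false
universe u
open RatCurv

namespace Groth.Agent.S19809

namespace Aux
open MvPolynomial Module Groth.Agent.Lib.Helper24Binary Groth.Agent.Lib.Helper24Trisec

variable (K : Type u) [Field K]

/-- natDegree bound for dehomogenisation. -/
theorem natDegree_dehom {n : ℕ} {g : MvPolynomial (Fin 2) K} (hg : g.IsHomogeneous n) :
    (MvPolynomial.aeval ![(Polynomial.X : Polynomial K), 1] g).natDegree ≤ n := by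
  rw [g.as_sum, map_sum]
  refine Polynomial.natDegree_sum_le_of_forall_le _ _ (fun d hd => ?_)
  rw [MvPolynomial.aeval_monomial]
  have hd' : d.weight 1 = n := hg (by simpa using hd)
  have h0 : d 0 ≤ n := by
    rw [← hd']
    simp [Finsupp.weight_apply, Finsupp.sum_fintype, Fin.sum_univ_two]
  have : (d.prod fun i k => (![(Polynomial.X : Polynomial K), 1] i) ^ k) = Polynomial.X ^ (d 0) := by
    simp [Finsupp.prod_fintype, Fin.prod_univ_two]
  rw [this, ← Polynomial.C_eq_algebraMap]
  exact (Polynomial.natDegree_C_mul_X_pow_le _ _).trans h0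

theorem exists_factor [IsAlgClosed K] {g : MvPolynomial (Fin 2) K}
    (hg : g ∈ homogeneousSubmodule (Fin 2) K 3) (hg0 : g ≠ 0) :
    ∃ l ∈ homogeneousSubmodule (Fin 2) K 1, ∃ e ∈ homogeneousSubmodule (Fin 2) K 2, g = l * e := by
  have hg' : g.IsHomogeneous 3 := hg
  set p : Polynomial K := MvPolynomial.aeval ![(Polynomial.X : Polynomial K), 1] g with hp
  have hgp : p.homogenize 3 = g := Polynomial.homogenize_eq_of_isHomogeneous hg' rfl
  have hdeg : p.natDegree ≤ 3 := natDegree_dehom K hg'
  have hp0 : p ≠ 0 := by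
    intro h
    rw [h, Polynomial.homogenize_zero] at hgp
    exact hg0 hgp.symm
  by_cases h2 : p.natDegree ≤ 2
  · refine ⟨(1 : Polynomial K).homogenize 1, Polynomial.isHomogeneous_homogenize _,
      p.homogenize 2, Polynomial.isHomogeneous_homogenize _, ?_⟩
    rw [← Polynomial.homogenize_mul _ _ (by simp) h2, one_mul]
    exact hgp.symm
  · have h3 : p.natDegree = 3 := by omega
    have hdeg' : p.degree ≠ 0 := by
      rw [Polynomial.degree_eq_natDegree hp0, h3]
      norm_num
    obtain ⟨a, ha⟩ := IsAlgClosed.exists_root p hdeg'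
    obtain ⟨p₁, hp₁⟩ := Polynomial.dvd_iff_isRoot.2 ha
    have hp₁0 : p₁ ≠ 0 := by
      rintro rfl
      rw [mul_zero] at hp₁
      exact hp0 hp₁
    have hd1 : p₁.natDegree ≤ 2 := by
      have := Polynomial.natDegree_mul (Polynomial.X_sub_C_ne_zero a) hp₁0
      rw [← hp₁, Polynomial.natDegree_X_sub_C] at this
      omega
    refine ⟨(Polynomial.X - Polynomial.C a).homogenize 1, Polynomial.isHomogeneous_homogenize _,
      p₁.homogenize 2, Polynomial.isHomogeneous_homogenize _, ?_⟩
    rw [← Polynomial.homogenize_mul _ _ (by simp) hd1, ← hp₁]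
    exact hgp.symm

theorem no_bad [IsAlgClosed K] (V : Submodule K (MvPolynomial (Fin 2) K))
    (hV : V ≤ homogeneousSubmodule (Fin 2) K 5) (hdim : finrank K ↥V = 4)
    (hsep : ∀ e ∈ homogeneousSubmodule (Fin 2) K 2, e ≠ 0 →
      ∀ F ∈ homogeneousSubmodule (Fin 2) K 5, ∃ v ∈ V,
        ∃ h ∈ homogeneousSubmodule (Fin 2) K 3, F = v + e * h)
    {g : MvPolynomial (Fin 2) K} (hg : g ∈ homogeneousSubmodule (Fin 2) K 3) (hg0 : g ≠ 0)
    (hbad : ∀ q ∈ homogeneousSubmodule (Fin 2) K 2, q * g ∈ V) : False := by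
  obtain ⟨l, hl, e, he, rfl⟩ := exists_factor K hg hg0
  have hl0 : l ≠ 0 := left_ne_zero_of_mul hg0
  have he0 : e ≠ 0 := right_ne_zero_of_mul hg0
  set U' : Submodule K (homogeneousSubmodule (Fin 2) K 5) :=
    V.comap (homogeneousSubmodule (Fin 2) K 5).subtype with hU'
  have h1 : finrank K U' = finrank K V :=
    LinearEquiv.finrank_eq (Submodule.comapSubtypeEquivOfLe hV)
  have h2 := Submodule.finrank_quotient_add_finrank U'
  rw [finrank_homog, h1, hdim] at h2
  have hW : finrank K (homogeneousSubmodule (Fin 2) K 5 ⧸ U') = 2 := by omega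
  let Φ := mulQ K (show 2 + 3 = 5 by norm_num) U'
  let φ : homogeneousSubmodule (Fin 2) K 3 →ₗ[K] (homogeneousSubmodule (Fin 2) K 5 ⧸ U') :=
    Φ ⟨e, he⟩
  have hsurj : Function.Surjective φ := by
    intro w
    obtain ⟨F, rfl⟩ := U'.mkQ_surjective w
    obtain ⟨v, hv, h, hh, hF⟩ := hsep e he he0 F.1 F.2
    refine ⟨⟨h, hh⟩, ?_⟩
    show U'.mkQ ⟨e * h, _⟩ = U'.mkQ F
    rw [Submodule.mkQ_apply, Submodule.mkQ_apply, eq_comm, Submodule.Quotient.eq]
    show (F - ⟨e * h, _⟩ : homogeneousSubmodule (Fin 2) K 5).1 ∈ V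
    simp only [AddSubgroupClass.coe_sub]
    rw [hF, add_sub_cancel_right]
    exact hv
  -- the map q ↦ l * q into the kernel
  let m1 : homogeneousSubmodule (Fin 2) K 2 →ₗ[K] homogeneousSubmodule (Fin 2) K 3 :=
    ((LinearMap.mulLeft K l).comp (homogeneousSubmodule (Fin 2) K 2).subtype).codRestrict _
      (fun q => by
        have := IsHomogeneous.mul hl q.2
        simpa using this)
  have hm1 : ∀ q, (m1 q).1 = l * q.1 := fun q => rfl
  have hm1ker : ∀ q, m1 q ∈ LinearMap.ker φ := by
    intro q
    rw [LinearMap.mem_ker]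
    show Φ ⟨e, he⟩ (m1 q) = 0
    rw [mulQ_eq_zero_iff]
    show e * (l * q.1) ∈ V
    have := hbad q.1 q.2
    have h3 : e * (l * q.1) = q.1 * (l * e) := by ring
    rw [h3]; exact this
  let m2 : homogeneousSubmodule (Fin 2) K 2 →ₗ[K] LinearMap.ker φ := m1.codRestrict _ hm1ker
  have hm2 : Function.Injective m2 := by
    intro q q' hqq
    have := congrArg (fun x => (x.1).1) hqq
    simp only [m2, LinearMap.codRestrict_apply, hm1] at this
    exact Subtype.ext (mul_left_cancel₀ hl0 this)
  have h4 := LinearMap.finrank_le_finrank_of_injective hm2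
  rw [finrank_homog] at h4
  have h5 := LinearMap.finrank_range_add_finrank_ker φ
  rw [LinearMap.range_eq_top.2 hsurj, finrank_top, hW, finrank_homog] at h5
  omega

end Aux

/-- A smooth rational quintic curve C ⊂ P^3 has a one-parameter family of 3-secant lines. Stated, as for
the nondegenerate case, through binary forms: C is the image of P^1 under a 4-dimensional linear
series V of binary quintic forms which separates every length-2 subscheme of P^1 (for every nonzero
quadratic form e, the forms of V together with the multiples of e span all quintic forms), so that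
P^1 → P(V^*) = P^3 is a closed embedding; the linear forms on P^3 are the elements of V, a line L ⊂
P^3 is the 2-dimensional space of linear forms vanishing on it, and L ∩ C has length at least 3
exactly when that space is contained in g · K[s,t]_2 for a cubic form g. The conclusion: there are
infinitely many pairwise non-proportional nonzero cubic forms g with dim (V ∩ g · K[s,t]_2) ≥ 2,
i.e. for every finite set of cubics there is such a g proportional to none of them. (The ground
field is algebraically closed of characteristic zero in place of the complex numbers; the third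
printed assertion, on curves all of whose 3-secants are 4-secant, is not stated.) -/
theorem result (K : Type u) [Field K] [IsAlgClosed K]
    [CharZero K] (V : Submodule K (MvPolynomial (Fin 2) K))
    (hV : V ≤ MvPolynomial.homogeneousSubmodule (Fin 2) K 5) (hdim : Module.finrank K ↥V = 4)
    (hsep : ∀ e ∈ MvPolynomial.homogeneousSubmodule (Fin 2) K 2, e ≠ 0 →
      ∀ F ∈ MvPolynomial.homogeneousSubmodule (Fin 2) K 5, ∃ v ∈ V,
        ∃ h ∈ MvPolynomial.homogeneousSubmodule (Fin 2) K 3, F = v + e * h)
    (F : Finset (MvPolynomial (Fin 2) K)) :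
    ∃ g ∈ MvPolynomial.homogeneousSubmodule (Fin 2) K 3, g ≠ 0 ∧
      2 ≤ Module.finrank K ↥(V ⊓ (MvPolynomial.homogeneousSubmodule (Fin 2) K 2).map (LinearMap.mulLeft K g)) ∧
      ∀ g' ∈ F, ∀ c : K, g ≠ c • g' := by
  classical
  set U' : Submodule K (MvPolynomial.homogeneousSubmodule (Fin 2) K 5) :=
    V.comap (MvPolynomial.homogeneousSubmodule (Fin 2) K 5).subtype with hU'
  have h1 : Module.finrank K U' = Module.finrank K V :=
    LinearEquiv.finrank_eq (Submodule.comapSubtypeEquivOfLe hV)
  have h2 := Submodule.finrank_quotient_add_finrank U'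
  rw [Groth.Agent.Lib.Helper24Binary.finrank_homog, h1, hdim] at h2
  have hW : Module.finrank K (MvPolynomial.homogeneousSubmodule (Fin 2) K 5 ⧸ U') = 2 := by omega
  let b : Module.Basis (Fin 2) K (MvPolynomial.homogeneousSubmodule (Fin 2) K 5 ⧸ U') :=
    Module.finBasisOfFinrankEq K _ hW
  let Φ := Groth.Agent.Lib.Helper24Trisec.mulQ K (show 2 + 3 = 5 by norm_num) U'
  let lam : K → ((MvPolynomial.homogeneousSubmodule (Fin 2) K 5 ⧸ U') →ₗ[K] K) :=
    fun t => b.coord 0 + t • b.coord 1
  have hzero : ∀ (t s : K), t ≠ s → ∀ w, lam t w = 0 → lam s w = 0 → w = 0 := by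
    intro t s hts w hw1 hw2
    simp only [lam, LinearMap.add_apply, LinearMap.smul_apply, smul_eq_mul] at hw1 hw2
    have h3 : (t - s) * b.coord 1 w = 0 := by linear_combination hw1 - hw2
    have h4 : b.coord 1 w = 0 := by
      rcases mul_eq_zero.1 h3 with h | h
      · exact absurd (sub_eq_zero.1 h) hts
      · exact h
    have h5 : b.coord 0 w = 0 := by rw [h4, mul_zero, add_zero] at hw1; exact hw1
    apply b.ext_elem
    intro i
    fin_cases i
    · simpa using h5
    · simpa using h4
  have hker : ∀ t : K, ∃ g : MvPolynomial.homogeneousSubmodule (Fin 2) K 3, g ≠ 0 ∧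
      ∀ q : MvPolynomial.homogeneousSubmodule (Fin 2) K 2, lam t (Φ q g) = 0 := by
    intro t
    have : LinearMap.ker (Φ.flip.compr₂ (lam t)) ≠ ⊥ := by
      apply LinearMap.ker_ne_bot_of_finrank_lt
      rw [Module.finrank_linearMap, Groth.Agent.Lib.Helper24Binary.finrank_homog,
        Groth.Agent.Lib.Helper24Binary.finrank_homog, Module.finrank_self]
      norm_num
    obtain ⟨g, hg, hg0⟩ := (Submodule.ne_bot_iff _).1 this
    refine ⟨g, hg0, fun q => ?_⟩
    have := LinearMap.congr_fun (LinearMap.mem_ker.1 hg) q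
    simpa using this
  choose G hG0 hG using hker
  haveI : Module.Finite K V := Module.finite_of_finrank_pos (by rw [hdim]; norm_num)
  -- each G t is a 3-secant
  have htwo : ∀ t : K, 2 ≤ Module.finrank K ↥(V ⊓ (MvPolynomial.homogeneousSubmodule (Fin 2) K 2).map
      (LinearMap.mulLeft K (G t).1)) := by
    intro t
    let μ : MvPolynomial.homogeneousSubmodule (Fin 2) K 2 →ₗ[K] K := (b.coord 1).comp (Φ.flip (G t))
    have hμ : 2 ≤ Module.finrank K (LinearMap.ker μ) := by
      have h5 := LinearMap.finrank_range_add_finrank_ker μ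
      rw [Groth.Agent.Lib.Helper24Binary.finrank_homog] at h5
      have h6 : Module.finrank K (LinearMap.range μ) ≤ 1 := by
        have := Submodule.finrank_le (LinearMap.range μ)
        rwa [Module.finrank_self] at this
      omega
    have hmem : ∀ q : LinearMap.ker μ, (G t).1 * q.1.1 ∈
        V ⊓ (MvPolynomial.homogeneousSubmodule (Fin 2) K 2).map (LinearMap.mulLeft K (G t).1) := by
      intro q
      refine ⟨?_, ⟨q.1.1, q.1.2, rfl⟩⟩
      have hq1 : b.coord 1 (Φ q.1 (G t)) = 0 := LinearMap.mem_ker.1 q.2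
      have hq2 : lam t (Φ q.1 (G t)) = 0 := hG t q.1
      have hq0 : Φ q.1 (G t) = 0 := by
        simp only [lam, LinearMap.add_apply, LinearMap.smul_apply, smul_eq_mul] at hq2
        rw [hq1, mul_zero, add_zero] at hq2
        apply b.ext_elem
        intro i
        fin_cases i
        · simpa using hq2
        · simpa using hq1
      rw [Groth.Agent.Lib.Helper24Trisec.mulQ_eq_zero_iff] at hq0
      rw [mul_comm]; exact hq0
    let ι : LinearMap.ker μ →ₗ[K] ↥(V ⊓ (MvPolynomial.homogeneousSubmodule (Fin 2) K 2).map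
        (LinearMap.mulLeft K (G t).1)) :=
      ((LinearMap.mulLeft K (G t).1).comp
        ((MvPolynomial.homogeneousSubmodule (Fin 2) K 2).subtype.comp (LinearMap.ker μ).subtype)).codRestrict _ hmem
    have hι : Function.Injective ι := by
      intro q q' hqq
      have := congrArg Subtype.val hqq
      simp only [ι, LinearMap.codRestrict_apply, LinearMap.comp_apply, LinearMap.mulLeft_apply,
        Submodule.subtype_apply] at this
      have hG0' : (G t).1 ≠ 0 := fun h => hG0 t (Subtype.ext h)
      exact Subtype.ext (Subtype.ext (mul_left_cancel₀ hG0' this))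
    exact hμ.trans (LinearMap.finrank_le_finrank_of_injective hι)
  by_contra hcon
  push Not at hcon
  have hτ : ∀ t : K, ∃ g' : F, ∃ c : K, (G t).1 = c • g'.1 := by
    intro t
    obtain ⟨g', hg', c, hc⟩ := hcon (G t).1 (G t).2 (fun h => hG0 t (Subtype.ext h)) (htwo t)
    exact ⟨⟨g', hg'⟩, c, hc⟩
  choose τ cc hτ using hτ
  haveI : Infinite K := Infinite.of_injective (Nat.cast : ℕ → K) Nat.cast_injective
  obtain ⟨t, s, hts, hτts⟩ := Finite.exists_ne_map_eq_of_infinite τ
  have hct : cc t ≠ 0 := by
    intro h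
    have := hτ t
    rw [h, zero_smul] at this
    exact hG0 t (Subtype.ext this)
  have hcs : cc s ≠ 0 := by
    intro h
    have := hτ s
    rw [h, zero_smul] at this
    exact hG0 s (Subtype.ext this)
  have hg'1 : (τ t).1 = (cc t)⁻¹ • (G t).1 := by
    rw [hτ t, smul_smul, inv_mul_cancel₀ hct, one_smul]
  have hg'2 : (τ t).1 = (cc s)⁻¹ • (G s).1 := by
    rw [hτ s, smul_smul, inv_mul_cancel₀ hcs, one_smul, hτts]
  have hg'H : (τ t).1 ∈ MvPolynomial.homogeneousSubmodule (Fin 2) K 3 := by
    rw [hg'1]; exact Submodule.smul_mem _ _ (G t).2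
  have hg'0 : (τ t).1 ≠ 0 := by
    intro h
    have := hτ t
    rw [h, smul_zero] at this
    exact hG0 t (Subtype.ext this)
  refine Aux.no_bad K V hV hdim hsep hg'H hg'0 (fun q hq => ?_)
  have e1 : (⟨(τ t).1, hg'H⟩ : MvPolynomial.homogeneousSubmodule (Fin 2) K 3) = (cc t)⁻¹ • G t :=
    Subtype.ext hg'1
  have e2 : (⟨(τ t).1, hg'H⟩ : MvPolynomial.homogeneousSubmodule (Fin 2) K 3) = (cc s)⁻¹ • G s :=
    Subtype.ext hg'2
  have hw : Φ ⟨q, hq⟩ ⟨(τ t).1, hg'H⟩ = 0 := by
    apply hzero t s hts
    · rw [e1, map_smul, map_smul, hG t, smul_zero]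
    · rw [e2, map_smul, map_smul, hG s, smul_zero]
  rw [Groth.Agent.Lib.Helper24Trisec.mulQ_eq_zero_iff] at hw
  exact hw

end Groth.Agent.S19809
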