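import Groth.Statements.S19855
import Groth.Agent.S15530
import Groth.Agent.S15531
import Groth.Agent.Lib.R2H2HodgeDeg

set_option autoImplicit false
universe u
open DeRhamSh

namespace Groth.Agent.S19855

open CategoryTheory AlgebraicGeometry TopologicalSpace in
/-- Let A be a ring, n ≥ 1, and D a de Rham complex of the sheaf of differentials of projective n-space
P^n_A over Spec A whose differentials are A-linear, A acting through the structure map. Then for
every i with 0 ≤ i ≤ n the algebraic de Rham cohomology H^{2i}_dR(P^n_A/A) = H^{2i}(P^n_A, D), with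
its A-module structure, is a free A-module of rank one: there is an A-linear isomorphism with A.
(Existence of an A-linear isomorphism only: the published statement names the basis element, the
i-th cup power of the de Rham first Chern class of O(1), which is not expressed here; the vanishing
in the other degrees is a separate statement. The A-linearity of the differentials holds for the de
Rham complex and is carried as a hypothesis.) -/
theorem result (A : Type u) [CommRing A] (n : ℕ) (hn : 1 ≤ n)
    [QuasiSeparated (CohB1.ProjSpace.toSpec n A)] (D : DeRhamSh.OmegaCx (CohB1.ProjSpace.toSpec n A))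
    (h : KLinDR.TermwiseLinear (Coh.toGlobal (CohB1.ProjSpace.toSpec n A)) D.K D.term D.iso)
    [HasDerivedCategory.{u} (Sheaf (Opens.grothendieckTopology ↥(CohB1.ProjSpace n A)) AddCommGrpCat.{u})]
    (i : ℕ) (hi : i ≤ n) :
    Nonempty (KLinDR.HdR (Coh.toGlobal (CohB1.ProjSpace.toSpec n A)) D h (2 * (i : ℤ)) ≃ₗ[A] A) := by
  have hvan : ∀ p q : ℕ, q ≠ p → Subsingleton (Coh.HH (CohB1.ProjSpace n A) (D.term p) q) :=
    fun p q hpq => Groth.Agent.S15530.result A n hn p (D.term p) (D.isExtPow p) q (Or.inl (Ne.symm hpq))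
  obtain ⟨e⟩ := Groth.Agent.S15531.result A n hn i hi (D.term i) (D.isExtPow i)
  have e' : KLinDR.HdR (Coh.toGlobal (CohB1.ProjSpace.toSpec n A)) D h (2 * (i : ℤ)) ≃ₗ[A]
      Coh.HH (CohB1.ProjSpace n A) (D.term i) i :=
    { (KLinDR.toHdRU D h (2 * (i : ℤ)) ⊤).trans
        (Groth.Agent.Lib.R2H2.HodgeDeg.Φ D.K D.term D.iso hvan i) with
      map_smul' := fun a x => by
        change Groth.Agent.Lib.R2H2.HodgeDeg.Φ D.K D.term D.iso hvan i (KLinDR.HTρ.toHT (a • x)) =
          Sheaf.H.map (Coh.smulAb (D.term i) (Coh.toGlobal (CohB1.ProjSpace.toSpec n A) a)) i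
            (Groth.Agent.Lib.R2H2.HodgeDeg.Φ D.K D.term D.iso hvan i (KLinDR.HTρ.toHT x))
        rw [KLinDR.smul_def]
        exact Groth.Agent.Lib.R2H2.HodgeDeg.Φ_smul D.K D.term D.iso hvan h i a (KLinDR.HTρ.toHT x) }
  exact ⟨e'.trans e⟩

end Groth.Agent.S19855
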