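import Groth.Statements.S19866
import Mathlib

set_option autoImplicit false
universe v₁ v₂ u₁ u₂
open CategoryTheory
open FibCat

namespace Groth.Agent.S19866

universe v₃ u₃

namespace Aux

section Transport

variable {𝒮 : Type u₁} [Category.{v₁} 𝒮] {𝒳 : Type u₂} [Category.{v₂} 𝒳]
  {𝒴 : Type u₃} [Category.{v₃} 𝒴]
  (Φ : 𝒳 ⥤ 𝒴) (Ψ : 𝒴 ⥤ 𝒳) (h₁ : Φ ⋙ Ψ = 𝟭 𝒳) (h₂ : Ψ ⋙ Φ = 𝟭 𝒴) (q : 𝒴 ⥤ 𝒮)

theorem isHomLift_comp_iff {R S : 𝒮} {a b : 𝒳} (f : R ⟶ S) (φ : a ⟶ b) :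
    (Φ ⋙ q).IsHomLift f φ ↔ q.IsHomLift f (Φ.map φ) := by
  constructor
  · intro h
    exact IsHomLift.of_fac q f (Φ.map φ) (IsHomLift.domain_eq (Φ ⋙ q) f φ)
      (IsHomLift.codomain_eq (Φ ⋙ q) f φ) (IsHomLift.fac (Φ ⋙ q) f φ)
  · intro h
    exact IsHomLift.of_fac (Φ ⋙ q) f φ (IsHomLift.domain_eq q f (Φ.map φ))
      (IsHomLift.codomain_eq q f (Φ.map φ)) (IsHomLift.fac q f (Φ.map φ))

include h₁ h₂ in
theorem isCartesian_of_map {R S : 𝒮} {a b : 𝒳} (f : R ⟶ S) (φ : a ⟶ b)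
    (hφ : q.IsCartesian f (Φ.map φ)) : (Φ ⋙ q).IsCartesian f φ := by
  let e : 𝒳 ≌ 𝒴 := CategoryTheory.Equivalence.mk Φ Ψ (eqToIso h₁.symm) (eqToIso h₂)
  have ff : Φ.FullyFaithful := e.fullyFaithfulFunctor
  haveI : (Φ ⋙ q).IsHomLift f φ := (isHomLift_comp_iff Φ q f φ).mpr inferInstance
  refine { universal_property := ?_ }
  intro a' φ' hφ'
  haveI : q.IsHomLift f (Φ.map φ') := (isHomLift_comp_iff Φ q f φ').mp hφ'
  obtain ⟨χ', ⟨hχ'1, hχ'2⟩, huniq⟩ := hφ.universal_property (Φ.map φ')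
  refine ⟨ff.preimage χ', ⟨?_, ?_⟩, ?_⟩
  · rw [isHomLift_comp_iff, ff.map_preimage]; exact hχ'1
  · apply ff.map_injective
    rw [Functor.map_comp, ff.map_preimage]; exact hχ'2
  · rintro χ ⟨hχ1, hχ2⟩
    apply ff.map_injective
    rw [ff.map_preimage]
    apply huniq
    exact ⟨(isHomLift_comp_iff Φ q (𝟙 R) χ).mp hχ1, by rw [← Functor.map_comp, hχ2]⟩

theorem obj_congr (K₀ : Cleavage q) {R S : 𝒮} {y y' : 𝒴} (e : y' = y) (h : q.obj y = S)
    (h' : q.obj y' = S) (g : R ⟶ S) : K₀.obj h' g = K₀.obj h g := by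
  subst e; rfl

theorem lift_congr (K₀ : Cleavage q) {R S : 𝒮} {y y' : 𝒴} (e : y' = y) (h : q.obj y = S)
    (h' : q.obj y' = S) (g : R ⟶ S) :
    K₀.lift h' g = eqToHom (obj_congr q K₀ e h h' g) ≫ K₀.lift h g ≫ eqToHom e.symm := by
  subst e; simp

/-- the transported cleavage -/
noncomputable def transport (K₀ : Cleavage q) : Cleavage (Φ ⋙ q) where
  obj {R S a} ha f := Ψ.obj (K₀.obj (a := Φ.obj a) ha f)
  lift {R S a} ha f := Ψ.map (K₀.lift (a := Φ.obj a) ha f) ≫ eqToHom (Functor.congr_obj h₁ a)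
  isCartesian {R S a} ha f := by
    apply isCartesian_of_map Φ Ψ h₁ h₂ q
    rw [Functor.map_comp, eqToHom_map]
    have := Functor.congr_hom h₂ (K₀.lift (a := Φ.obj a) ha f)
    simp only [Functor.comp_map, Functor.id_map] at this
    rw [this]
    simp only [Category.assoc, eqToHom_trans, eqToHom_refl, Category.comp_id]
    haveI : q.IsHomLift (𝟙 R) (eqToIso (Functor.congr_obj h₂
        (K₀.obj (a := Φ.obj a) ha f))).hom :=
      IsHomLift.eqToHom_codomain_lift_id (Functor.congr_obj h₂ _) (K₀.obj_proj ha f)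
    exact Functor.IsCartesian.of_iso_comp q f (K₀.lift (a := Φ.obj a) ha f)
      (eqToIso (Functor.congr_obj h₂ (K₀.obj (a := Φ.obj a) ha f)))

theorem transport_isSplitting (K₀ : Cleavage q) (hK₀ : K₀.IsSplitting) :
    (transport Φ Ψ h₁ h₂ q K₀).IsSplitting := by
  refine ⟨?_, ?_⟩
  · intro S a ha
    have hn : ∀ ⦃S : 𝒮⦄ ⦃a : 𝒴⦄ (ha : q.obj a = S),
        ∃ h : K₀.obj ha (𝟙 S) = a, K₀.lift ha (𝟙 S) = eqToHom h := hK₀.1
    obtain ⟨h₀, hl₀⟩ := hn (a := Φ.obj a) ha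
    refine ⟨(congrArg Ψ.obj h₀).trans (Functor.congr_obj h₁ a), ?_⟩
    show Ψ.map (K₀.lift (a := Φ.obj a) ha (𝟙 S)) ≫ eqToHom (Functor.congr_obj h₁ a) = _
    rw [hl₀, eqToHom_map, eqToHom_trans]
    rfl
  · intro S T U f g a ha
    have hs : ∀ ⦃S T U : 𝒮⦄ (f : T ⟶ S) (g : U ⟶ T) ⦃a : 𝒴⦄ (ha : q.obj a = S),
        ∃ h : K₀.obj (K₀.obj_proj ha f) g = K₀.obj ha (g ≫ f),
          K₀.lift (K₀.obj_proj ha f) g ≫ K₀.lift ha f = eqToHom h ≫ K₀.lift ha (g ≫ f) := hK₀.2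
    obtain ⟨h₀, hl₀⟩ := hs f g (a := Φ.obj a) ha
    have e : Φ.obj (Ψ.obj (K₀.obj (a := Φ.obj a) ha f)) = K₀.obj (a := Φ.obj a) ha f :=
      Functor.congr_obj h₂ _
    have pf : q.obj (Φ.obj (Ψ.obj (K₀.obj (a := Φ.obj a) ha f))) = T :=
      (transport Φ Ψ h₁ h₂ q K₀).obj_proj ha f
    have hc := obj_congr q K₀ e (K₀.obj_proj ha f) pf g
    refine ⟨congrArg Ψ.obj (hc.trans h₀), ?_⟩
    show (Ψ.map (K₀.lift (a := Φ.obj (Ψ.obj (K₀.obj (a := Φ.obj a) ha f))) pf g) ≫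
        eqToHom (Functor.congr_obj h₁ _)) ≫
      (Ψ.map (K₀.lift (a := Φ.obj a) ha f) ≫ eqToHom (Functor.congr_obj h₁ a)) =
      eqToHom _ ≫ (Ψ.map (K₀.lift (a := Φ.obj a) ha (g ≫ f)) ≫ eqToHom (Functor.congr_obj h₁ a))
    rw [lift_congr q K₀ e (K₀.obj_proj ha f) pf g]
    simp only [Functor.map_comp, eqToHom_map, Category.assoc, eqToHom_trans_assoc, eqToHom_refl,
      Category.id_comp]
    rw [← Functor.map_comp_assoc, hl₀]
    simp only [Functor.map_comp, eqToHom_map, Category.assoc, eqToHom_trans_assoc]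

end Transport

section CoG

open Pseudofunctor Pseudofunctor.CoGrothendieck Opposite

variable {𝒮 : Type u₁} [Category.{v₁} 𝒮] (F : 𝒮ᵒᵖ ⥤ Cat.{v₂, u₂})

theorem map_eq {R S : 𝒮} (g : R ⟶ S) : F.toPseudofunctor'.map g.op.toLoc = F.map g.op := rfl

theorem map_id_obj (S : 𝒮) (g : S ⟶ S) (hg : g = 𝟙 S) (x : F.toPseudofunctor'.obj ⟨op S⟩) :
    (F.toPseudofunctor'.map g.op.toLoc).toFunctor.obj x = x := by
  subst hg
  rw [map_eq]
  simp

theorem eqToHom_base' {a b : CoGrothendieck F.toPseudofunctor'} (h : a = b) :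
    (eqToHom h).base = eqToHom (congrArg CoGrothendieck.base h) := by
  subst h; rfl

theorem eqToHom_fiber' {a b : CoGrothendieck F.toPseudofunctor'} (h : a = b) :
    ∃ h' : a.fiber = (F.toPseudofunctor'.map (eqToHom h).base.op.toLoc).toFunctor.obj b.fiber,
      (eqToHom h).fiber = eqToHom h' := by
  subst h
  refine ⟨(map_id_obj F _ _ rfl _).symm, ?_⟩
  simp only [eqToHom_refl, categoryStruct_id_fiber, Functor.toPseudofunctor'_mapId]
  simp
  rfl

theorem ofCoG_normalised : (Cleavage.ofCoGrothendieck F.toPseudofunctor').IsNormalised := by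
  intro S a ha
  subst ha
  have hobj : (Cleavage.ofCoGrothendieck F.toPseudofunctor').obj
      (rfl : (CoGrothendieck.forget F.toPseudofunctor').obj a = _) (𝟙 _) = a := by
    apply CoGrothendieck.ext
    · rfl
    · apply heq_of_eq
      exact map_id_obj F _ _ ((Category.id_comp _).trans (eqToHom_refl _ _)) _
  refine ⟨hobj, ?_⟩
  apply Hom.ext
  · obtain ⟨h', hf⟩ := eqToHom_fiber' F hobj
    rw [hf]
    exact ((eqToHom_trans _ _).trans (eqToHom_refl _ _)).symm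
  · rw [eqToHom_base']
    exact (Category.id_comp _).trans ((eqToHom_refl _ _).trans (eqToHom_refl _ _).symm)

theorem map_comp_obj {R S T : 𝒮} (f : S ⟶ T) (g : R ⟶ S) (k : R ⟶ T) (hk : k = g ≫ f)
    (x : F.toPseudofunctor'.obj ⟨op T⟩) :
    (F.toPseudofunctor'.map g.op.toLoc).toFunctor.obj
      ((F.toPseudofunctor'.map f.op.toLoc).toFunctor.obj x) =
      (F.toPseudofunctor'.map k.op.toLoc).toFunctor.obj x := by
  subst hk
  rw [map_eq, map_eq, map_eq, op_comp, Functor.map_comp]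
  rfl

theorem hom_ext_eqToHom {a b : CoGrothendieck F.toPseudofunctor'} (m₁ m₂ : a ⟶ b)
    (hb : m₁.base = m₂.base) (h₁ : ∃ e, m₁.fiber = eqToHom e) (h₂ : ∃ e, m₂.fiber = eqToHom e) :
    m₁ = m₂ := by
  obtain ⟨e₁, h₁⟩ := h₁
  obtain ⟨e₂, h₂⟩ := h₂
  refine Hom.ext _ _ hb ?_
  rw [h₁, h₂, eqToHom_trans]

theorem comp_fiber_eqToHom {a b c : CoGrothendieck F.toPseudofunctor'} (m : a ⟶ b) (n : b ⟶ c)
    (h₁ : ∃ e, m.fiber = eqToHom e) (h₂ : ∃ e, n.fiber = eqToHom e) :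
    ∃ e, (m ≫ n).fiber = eqToHom e := by
  obtain ⟨e₁, h₁⟩ := h₁
  obtain ⟨e₂, h₂⟩ := h₂
  have hobj : a.fiber = (F.toPseudofunctor'.map (m ≫ n).base.op.toLoc).toFunctor.obj c.fiber := by
    rw [e₁, e₂]
    exact map_comp_obj F n.base m.base _ rfl _
  refine ⟨hobj, ?_⟩
  rw [categoryStruct_comp_fiber, h₁, h₂, eqToHom_map]
  simp
  exact eqToHom_trans _ _

theorem ofCoG_isSplitting : (Cleavage.ofCoGrothendieck F.toPseudofunctor').IsSplitting := by
  refine ⟨ofCoG_normalised F, ?_⟩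
  intro S T U f g a ha
  subst ha
  have hobj : (Cleavage.ofCoGrothendieck F.toPseudofunctor').obj
      ((Cleavage.ofCoGrothendieck F.toPseudofunctor').obj_proj
        (rfl : (CoGrothendieck.forget F.toPseudofunctor').obj a = _) f) g =
      (Cleavage.ofCoGrothendieck F.toPseudofunctor').obj
        (rfl : (CoGrothendieck.forget F.toPseudofunctor').obj a = _) (g ≫ f) := by
    apply CoGrothendieck.ext
    · rfl
    · apply heq_of_eq
      refine map_comp_obj F _ _ _ ?_ _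
      show (g ≫ f) ≫ eqToHom rfl = (g ≫ eqToHom (rfl : T = T)) ≫ (f ≫ eqToHom rfl)
      simp only [eqToHom_refl, Category.id_comp, Category.comp_id]
  refine ⟨hobj, ?_⟩
  apply hom_ext_eqToHom
  · rw [categoryStruct_comp_base, categoryStruct_comp_base, eqToHom_base']
    show (g ≫ eqToHom (rfl : T = T)) ≫ (f ≫ eqToHom rfl) =
      eqToHom (rfl : U = U) ≫ ((g ≫ f) ≫ eqToHom rfl)
    simp only [eqToHom_refl, Category.id_comp, Category.comp_id]
  · apply comp_fiber_eqToHom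
    · exact ⟨rfl, (eqToHom_refl _ _).symm⟩
    · exact ⟨rfl, (eqToHom_refl _ _).symm⟩
  · apply comp_fiber_eqToHom
    · exact eqToHom_fiber' F hobj
    · exact ⟨rfl, (eqToHom_refl _ _).symm⟩

end CoG

end Aux

/-- Let p : 𝒳 → 𝒮 be a functor, F : 𝒮ᵒᵖ → Cat a strict functor, and suppose 𝒳 is isomorphic over 𝒮 to
the category of pairs (U, x), x an object of F(U), built from F: there are functors Φ : 𝒳 → ∫F and Ψ
: ∫F → 𝒳 inverse to each other on the nose with Φ followed by the projection equal to p. Then 𝒳 has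
a cleavage over 𝒮 which is a splitting: the chosen transport morphism over each identity is the
identity, and the chosen transport morphism of g at f^* a followed by that of f at a is the chosen
transport morphism of g ≫ f at a. In particular the inverse-image functors of that cleavage satisfy
(fg)^* = g^* f^* on the nose, which is the published conclusion; no fibredness hypothesis is needed,
𝒳 being fibred as a consequence. -/
theorem result {𝒮 : Type u₁} [Category.{v₁} 𝒮] {𝒳 : Type u₂} [Category.{v₂} 𝒳]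
    (p : 𝒳 ⥤ 𝒮) (F : 𝒮ᵒᵖ ⥤ Cat.{v₂, u₂})
    (Φ : 𝒳 ⥤ Pseudofunctor.CoGrothendieck F.toPseudofunctor')
    (Ψ : Pseudofunctor.CoGrothendieck F.toPseudofunctor' ⥤ 𝒳)
    (h₁ : Φ ⋙ Ψ = 𝟭 𝒳) (h₂ : Ψ ⋙ Φ = 𝟭 _)
    (h₃ : Φ ⋙ Pseudofunctor.CoGrothendieck.forget F.toPseudofunctor' = p) :
    ∃ K : FibCat.Cleavage p, K.IsSplitting := by
  subst h₃
  exact ⟨Aux.transport Φ Ψ h₁ h₂ _ (Cleavage.ofCoGrothendieck F.toPseudofunctor'),
    Aux.transport_isSplitting Φ Ψ h₁ h₂ _ _ (Aux.ofCoG_isSplitting F)⟩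

end Groth.Agent.S19866
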