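import Groth.Statements.S19878
import Mathlib
import Groth.Agent.Lib.Helper20EffCartier

set_option autoImplicit false
universe u
open LVCorr

namespace Groth.Agent.S19878

namespace Aux

open AlgebraicGeometry CategoryTheory

theorem mem_basicOpen_iff_primeIdealOf {X : Scheme.{u}} {V : X.Opens} (hV : IsAffineOpen V)
    (z : V) (r : Γ(X, V)) : z.1 ∈ X.basicOpen r ↔ r ∉ (hV.primeIdealOf z).asIdeal := by
  have h1 : hV.primeIdealOf z ∈ PrimeSpectrum.basicOpen r ↔ r ∉ (hV.primeIdealOf z).asIdeal :=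
    Iff.rfl
  rw [← h1, ← hV.fromSpec_preimage_basicOpen]
  change _ ↔ hV.fromSpec (hV.primeIdealOf z) ∈ X.basicOpen r
  rw [hV.fromSpec_primeIdealOf]

end Aux

open AlgebraicGeometry CategoryTheory CategoryTheory.Limits in
/-- Let k be a field, C a k-scheme of finite type, X a k-scheme and c = (c₁, c₂) : C → X ×_k X a
correspondence; let Fix(c) = C ×_{X ×_k X} X be its scheme of fixed points (pullback along the
diagonal), with projections i : Fix(c) → C and δ : Fix(c) → X. Let Z ⊂ X be the closed subscheme of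
a quasi-coherent ideal I and suppose c is contracting near Z in a neighbourhood of the fixed points:
there is an open W ⊆ C containing the image of Fix(c) such that on W the inverse image ideal of I
under c₁ is contained in the inverse image ideal of I under c₂ (c stabilizes Z on W) and some power
(I·O_W via c₁)^k₀ is contained in (I·O_W via c₂)^(k₀+1). Then every connected open subset β of
Fix(c) whose image under δ meets Z is contained, as a set, in δ⁻¹(Z). (The source works with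
separated schemes of finite type over an algebraically closed field; this row assumes only that C is
of finite type over a field k.) -/
theorem result {C X Fx : Scheme.{u}} (k : Type u) [Field k]
    (pC : C ⟶ Spec (CommRingCat.of k)) [LocallyOfFiniteType pC] [QuasiCompact pC]
    (pX : X ⟶ Spec (CommRingCat.of k)) (c₁ c₂ : C ⟶ X) (hc : c₁ ≫ pX = c₂ ≫ pX)
    (i : Fx ⟶ C) (δ : Fx ⟶ X) (hF : IsPullback i δ (pullback.lift c₁ c₂ hc) (pullback.diagonal pX))
    (I : X.IdealSheafData) (W : C.Opens) (hW : Set.range i.base ⊆ (W : Set C))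
    (hle : I.comap (W.ι ≫ c₁) ≤ I.comap (W.ι ≫ c₂))
    (k₀ : ℕ) (hpow : I.comap (W.ι ≫ c₁) ^ k₀ ≤ I.comap (W.ι ≫ c₂) ^ (k₀ + 1))
    (β : Fx.Opens) (hβ : _root_.IsConnected (β : Set Fx))
    (hβZ : (δ.base '' (β : Set Fx) ∩ (I.support : Set X)).Nonempty) :
    (β : Set Fx) ⊆ δ.base ⁻¹' (I.support : Set X) := by
  -- noetherianity
  haveI : IsLocallyNoetherian C := LocallyOfFiniteType.isLocallyNoetherian pC
  haveI : IsImmersion i := MorphismProperty.of_isPullback (P := @IsImmersion) hF.flip inferInstance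
  haveI : IsLocallyNoetherian Fx := LocallyOfFiniteType.isLocallyNoetherian i
  -- factor through W
  have hWr : Set.range i.base ⊆ Set.range W.ι.base := by
    rw [Scheme.Opens.range_ι]; exact hW
  let i' : Fx ⟶ W := IsOpenImmersion.lift W.ι i hWr
  have hi' : i' ≫ W.ι = i := IsOpenImmersion.lift_fac _ _ _
  have h1 : i ≫ c₁ = δ := by
    have := congr($(hF.w) ≫ pullback.fst pX pX)
    rw [Category.assoc, Category.assoc, pullback.lift_fst, pullback.diagonal_fst,
      Category.comp_id] at this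
    exact this
  have h2 : i ≫ c₂ = δ := by
    have := congr($(hF.w) ≫ pullback.snd pX pX)
    rw [Category.assoc, Category.assoc, pullback.lift_snd, pullback.diagonal_snd,
      Category.comp_id] at this
    exact this
  set A := I.comap (W.ι ≫ c₁) with hA
  set B := I.comap (W.ι ≫ c₂) with hB
  set J := I.comap δ with hJ
  have hAJ : A.comap i' = J := by
    rw [hA, hJ, ← Scheme.IdealSheafData.comap_comp, ← Category.assoc, hi', h1]
  have hBJ : B.comap i' = J := by
    rw [hB, hJ, ← Scheme.IdealSheafData.comap_comp, ← Category.assoc, hi', h2]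
  -- local power inequality
  have hloc : ∀ (V : Fx.Opens) (hV : IsAffineOpen V) (V' : W.toScheme.Opens) (hV' : IsAffineOpen V')
      (hVV' : V ≤ i' ⁻¹ᵁ V'), (J.ideal ⟨V, hV⟩) ^ k₀ ≤ (J.ideal ⟨V, hV⟩) ^ (k₀ + 1) := by
    intro V hV V' hV' hVV'
    have eA : J.ideal ⟨V, hV⟩ = (A.ideal ⟨V', hV'⟩).map (i'.appLE V' V hVV').hom := by
      rw [← hAJ]
      exact Groth.Agent.Lib.Helper20.EffCartier.ideal_comap_eq_map i' A hV hV' hVV'
    have eB : J.ideal ⟨V, hV⟩ = (B.ideal ⟨V', hV'⟩).map (i'.appLE V' V hVV').hom := by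
      rw [← hBJ]
      exact Groth.Agent.Lib.Helper20.EffCartier.ideal_comap_eq_map i' B hV hV' hVV'
    calc (J.ideal ⟨V, hV⟩) ^ k₀ = ((A.ideal ⟨V', hV'⟩) ^ k₀).map (i'.appLE V' V hVV').hom := by
          rw [eA, Ideal.map_pow]
      _ ≤ ((B.ideal ⟨V', hV'⟩) ^ (k₀ + 1)).map (i'.appLE V' V hVV').hom := by
          apply Ideal.map_mono
          have := hpow ⟨V', hV'⟩
          simpa [Scheme.IdealSheafData.ideal_pow] using this
      _ = (J.ideal ⟨V, hV⟩) ^ (k₀ + 1) := by
          rw [eB, Ideal.map_pow]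
  -- the support of J is clopen
  have hSeq : (δ.base ⁻¹' (I.support : Set X)) = (J.support : Set Fx) := by
    rw [hJ, Scheme.IdealSheafData.support_comap]
    rfl
  rw [hSeq]
  have hopen : IsOpen (J.support : Set Fx) := by
    rw [isOpen_iff_mem_nhds]
    intro z hz
    obtain ⟨V', hV', hzV', -⟩ := exists_isAffineOpen_mem_and_subset (x := i'.base z)
      (U := (⊤ : W.toScheme.Opens)) trivial
    obtain ⟨V, hV, hzV, hVV'⟩ := exists_isAffineOpen_mem_and_subset (x := z)
      (U := i' ⁻¹ᵁ V') hzV'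
    haveI : IsNoetherianRing Γ(Fx, V) := IsLocallyNoetherian.component_noetherian ⟨V, hV⟩
    set 𝔍 := J.ideal ⟨V, hV⟩ with h𝔍
    have hfg : (𝔍 ^ k₀).FG := IsNoetherian.noetherian _
    have hle' : 𝔍 ^ k₀ ≤ 𝔍 • 𝔍 ^ k₀ := by
      have := hloc V hV V' hV' hVV'
      rwa [pow_succ', ← smul_eq_mul] at this
    obtain ⟨r, hr1, hr0⟩ :=
      Submodule.exists_sub_one_mem_and_smul_eq_zero_of_fg_of_le_smul 𝔍 (𝔍 ^ k₀) hfg hle'
    have hzsupp : ∀ g ∈ 𝔍, g ∈ (hV.primeIdealOf ⟨z, hzV⟩).asIdeal := by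
      intro g hg
      have h3 := (Scheme.IdealSheafData.mem_support_iff_of_mem (U := ⟨V, hV⟩) hzV).mp hz
      rw [Scheme.mem_zeroLocus_iff] at h3
      have h4 := h3 g hg
      rw [Aux.mem_basicOpen_iff_primeIdealOf hV ⟨z, hzV⟩ g] at h4
      exact not_not.mp h4
    have hzr : z ∈ Fx.basicOpen r := by
      rw [Aux.mem_basicOpen_iff_primeIdealOf hV ⟨z, hzV⟩ r]
      intro hr
      have h5 := hzsupp _ hr1
      have h6 : (1 : Γ(Fx, V)) ∈ (hV.primeIdealOf ⟨z, hzV⟩).asIdeal := by
        have := sub_mem hr h5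
        simpa using this
      exact (hV.primeIdealOf ⟨z, hzV⟩).isPrime.ne_top ((Ideal.eq_top_iff_one _).mpr h6)
    refine Filter.mem_of_superset ((Fx.basicOpen r).isOpen.mem_nhds hzr) ?_
    intro z' hz'
    have hz'V : z' ∈ V := Fx.basicOpen_le r hz'
    change z' ∈ J.support
    rw [Scheme.IdealSheafData.mem_support_iff_of_mem (U := ⟨V, hV⟩) hz'V, Scheme.mem_zeroLocus_iff]
    intro g hg
    rw [Aux.mem_basicOpen_iff_primeIdealOf hV ⟨z', hz'V⟩ g, not_not]
    have hr' : r ∉ (hV.primeIdealOf ⟨z', hz'V⟩).asIdeal :=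
      (Aux.mem_basicOpen_iff_primeIdealOf hV ⟨z', hz'V⟩ r).mp hz'
    have h7 : r • g ^ k₀ = 0 := hr0 _ (Ideal.pow_mem_pow hg k₀)
    have h8 : r * g ^ k₀ ∈ (hV.primeIdealOf ⟨z', hz'V⟩).asIdeal := by
      rw [← smul_eq_mul, h7]; exact zero_mem _
    have h9 := ((hV.primeIdealOf ⟨z', hz'V⟩).isPrime.mem_or_mem h8).resolve_left hr'
    exact (hV.primeIdealOf ⟨z', hz'V⟩).isPrime.mem_of_pow_mem k₀ h9
  have hclopen : IsClopen (J.support : Set Fx) := ⟨J.support.isClosed, hopen⟩
  apply hβ.isPreconnected.subset_isClopen hclopen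
  obtain ⟨_, ⟨z, hzβ, rfl⟩, hzI⟩ := hβZ
  refine ⟨z, hzβ, ?_⟩
  rw [← hSeq]
  exact hzI

end Groth.Agent.S19878
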