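import Groth.Statements.S19886
import Groth.Agent.Lib.Helper8ASProper
import Groth.Agent.Lib.R2H4GVSch

set_option autoImplicit false
universe u
open CategoryTheory CategoryTheory.Limits AlgebraicGeometry
open EtCoh

namespace Groth.Agent.S19886

/-- Let k be a separably closed field of characteristic p > 0 and X a scheme proper over k of dimension
d. Then the étale cohomology groups H^q(X_et, Z/p) with constant coefficients vanish for all q > d.
(The same vanishing for X separated of finite type over an algebraically closed field is a separate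
statement; here the field is only separably closed and X is proper.) -/
theorem result (k : Type u) [Field k] [IsSepClosed k]
    (p : ℕ) [Fact p.Prime] [CharP k p]
    (X : Scheme.{u}) (f : X ⟶ Spec (CommRingCat.of k)) [IsProper f]
    (d : ℕ) (hd : topologicalKrullDim X = d) (q : ℕ) (hq : d + 1 ≤ q) :
    Subsingleton (EtCoh.H X (EtCoh.const X (ZMod p)) q) := by
  letI : X.Over (Spec (CommRingCat.of k)) := ⟨f⟩
  haveI : IsProper (X ↘ Spec (CommRingCat.of k)) := ‹IsProper f›
  have hp : Fact p.Prime := inferInstance
  have h0 := Groth.Agent.Lib.Helper8GaFrob.h0_of_charP X k p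
  haveI : EtZar.ZarCont X := Groth.Agent.Lib.Helper8ZarCont.zarCont X
  haveI hN : IsNoetherian X :=
    Groth.Agent.Lib.R2H1.CurveEuler.isNoetherian_of_proper k X
  have hv : Subsingleton (Coh.HH X (Coh.structureModule X) q) :=
    Groth.Agent.Lib.R2H4GVSch.subsingleton_HH X d (le_of_eq hd) _ q (by omega)
  haveI := hv
  have hGa : Subsingleton (EtCoh.H X (EtCoh.Ga X) q) :=
    (Groth.Agent.Lib.Helper8GaLin.gaEquiv X q).toEquiv.subsingleton
  have hK : Subsingleton (EtCoh.H X (Groth.Agent.Lib.Helper8ASKernel.K X p hp.out h0) q) :=
    (Groth.Agent.Lib.Helper8ASProper.injective_Kι X k p h0 q).subsingleton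
  haveI : Subsingleton ((EtCoh.HF X q).obj (Groth.Agent.Lib.Helper8ASKernel.K X p hp.out h0)) := hK
  exact (((EtCoh.HF X q).mapIso
    (Groth.Agent.Lib.Helper8ASKernel.constIsoK hp.out h0)).addCommGroupIsoToAddEquiv.toEquiv).subsingleton

end Groth.Agent.S19886
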