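import Groth.Statements.S1989
import Groth.Agent.Lib.R2H1EtRam

set_option autoImplicit false
set_option linter.style.haveILetI false
universe u
open EtAlg

namespace Groth.Agent.S1989

open IsLocalRing Groth.Agent.Lib.R2H1.EtRam

/-- The common set-up: a valuation subring `W` of `M` whose restriction `V` to `L` dominates `A`. -/
theorem key (A K : Type u) [CommRing A] [IsDomain A] [IsDiscreteValuationRing A] [Field K]
    [Algebra A K] [IsFractionRing A K] (L M : Type u) [Field L] [Field M]
    [Algebra K L] [Algebra K M] [Algebra L M] [IsScalarTower K L M] [FiniteDimensional K M]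
    [Algebra.IsSeparable K M] (W : ValuationSubring M)
    (hV : EtRam.Dominates A ((algebraMap K L).comp (algebraMap A K)) (W.comap (algebraMap L M)))
    (hW : EtRam.Dominates A ((algebraMap K M).comp (algebraMap A K)) W) :
    letI : Algebra A (W.comap (algebraMap L M)) :=
      (RingHom.codRestrict ((algebraMap K L).comp (algebraMap A K)) _ hV.1).toAlgebra
    letI : Algebra A W :=
      (RingHom.codRestrict ((algebraMap K M).comp (algebraMap A K)) W hW.1).toAlgebra
    ∀ [IsLocalHom (algebraMap A (W.comap (algebraMap L M)))] [IsLocalHom (algebraMap A W)],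
    (Algebra.IsSeparable (ResidueField A) (ResidueField W) →
      Algebra.IsSeparable (ResidueField A) (ResidueField (W.comap (algebraMap L M)))) ∧
    Ideal.ramificationIdx' (maximalIdeal A) (maximalIdeal (W.comap (algebraMap L M))) ∣
      Ideal.ramificationIdx' (maximalIdeal A) (maximalIdeal W) ∧
    (EtRam.IsWeaklyUnramified A W → EtRam.IsWeaklyUnramified A (W.comap (algebraMap L M))) := by
  intro locV locW
  letI algV : Algebra A (W.comap (algebraMap L M)) :=
    (RingHom.codRestrict ((algebraMap K L).comp (algebraMap A K)) _ hV.1).toAlgebra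
  letI algW : Algebra A W :=
    (RingHom.codRestrict ((algebraMap K M).comp (algebraMap A K)) W hW.1).toAlgebra
  haveI : Algebra.IsSeparable K L := Algebra.isSeparable_tower_bot_of_isSeparable K L M
  haveI : FiniteDimensional K L := FiniteDimensional.left K L M
  haveI : IsDiscreteValuationRing (W.comap (algebraMap L M)) :=
    isDiscreteValuationRing_of_dominates' A K L _ hV
  haveI : IsDiscreteValuationRing W := isDiscreteValuationRing_of_dominates' A K M _ hW
  letI algVW : Algebra (W.comap (algebraMap L M)) W :=
    (EtRam.inclOfComap W (algebraMap L M)).toAlgebra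
  haveI : IsLocalHom (algebraMap (W.comap (algebraMap L M)) W) :=
    EtRam.isLocalHom_inclOfComap W (algebraMap L M)
  haveI : IsScalarTower A (W.comap (algebraMap L M)) W := by
    refine IsScalarTower.of_algebraMap_eq (fun a => ?_)
    apply Subtype.ext
    show algebraMap K M (algebraMap A K a) = algebraMap L M (algebraMap K L (algebraMap A K a))
    rw [← IsScalarTower.algebraMap_apply K L M]
  have hinjVW : Function.Injective (algebraMap (W.comap (algebraMap L M)) W) := by
    intro x y hxy
    apply Subtype.ext
    apply (algebraMap L M).injective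
    exact congrArg Subtype.val hxy
  have hinjAW : Function.Injective (algebraMap A W) := by
    intro x y hxy
    have h1 : algebraMap K M (algebraMap A K x) = algebraMap K M (algebraMap A K y) :=
      congrArg Subtype.val hxy
    exact IsFractionRing.injective A K ((algebraMap K M).injective h1)
  have hAW : (maximalIdeal A).map (algebraMap A W) ≠ ⊥ := by
    rw [Ne, Ideal.map_eq_bot_iff_of_injective hinjAW]
    exact IsDiscreteValuationRing.not_a_field A
  have hAV : (maximalIdeal A).map (algebraMap A (W.comap (algebraMap L M))) ≠ ⊥ := by
    intro h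
    apply hAW
    rw [IsScalarTower.algebraMap_eq A (W.comap (algebraMap L M)) W, ← Ideal.map_map, h,
      Ideal.map_bot]
  have htower := ramificationIdx'_tower (A := A) (V := W.comap (algebraMap L M)) (W := W)
    hinjVW hAW
  refine ⟨?_, ?_, ?_⟩
  · intro hsep
    exact Algebra.isSeparable_tower_bot_of_isSeparable (ResidueField A)
      (ResidueField (W.comap (algebraMap L M))) (ResidueField W)
  · exact Dvd.intro _ htower.symm
  · intro hu
    rw [isWeaklyUnramified_iff hAW] at hu
    rw [isWeaklyUnramified_iff hAV]
    rw [htower] at hu
    exact Nat.eq_one_of_mul_eq_one_right hu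

/-- Let K be the fraction field of a discrete valuation ring A, and K ⊂ L ⊂ M finite separable
extensions. If M is tamely ramified, respectively unramified, with respect to A, then so is L. -/
theorem result (A K : Type u) [CommRing A] [IsDomain A] [IsDiscreteValuationRing A] [Field K] [Algebra A K] [IsFractionRing A K] (L M : Type u) [Field L] [Field M]
    [Algebra K L] [Algebra K M] [Algebra L M] [IsScalarTower K L M] [FiniteDimensional K M] [Algebra.IsSeparable K M] :
    (EtRam.IsTamelyRamified A ((algebraMap K M).comp (algebraMap A K)) →
      EtRam.IsTamelyRamified A ((algebraMap K L).comp (algebraMap A K))) ∧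
    (EtRam.IsUnramifiedExt A ((algebraMap K M).comp (algebraMap A K)) →
      EtRam.IsUnramifiedExt A ((algebraMap K L).comp (algebraMap A K))) := by
  have hcomp : (algebraMap K M).comp (algebraMap A K) =
      (algebraMap L M).comp ((algebraMap K L).comp (algebraMap A K)) := by
    ext a
    simp [← IsScalarTower.algebraMap_apply K L M]
  constructor
  · intro hM V hV locV
    obtain ⟨W, rfl⟩ := exists_comap_eq (algebraMap L M) V
    have hW : EtRam.Dominates A ((algebraMap K M).comp (algebraMap A K)) W := by
      rw [hcomp]; exact dominates_of_comap _ _ W hV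
    have hlocW := isLocalHom_codRestrict _ W hW
    obtain ⟨hsep, hp⟩ := @hM W hW hlocW
    obtain ⟨k1, k2, -⟩ := @key A K _ _ _ _ _ _ L M _ _ _ _ _ _ _ _ W hV hW locV hlocW
    exact ⟨k1 hsep, fun p hpp hchar hdvd => hp p hpp hchar (dvd_trans hdvd k2)⟩
  · intro hM V hV locV
    obtain ⟨W, rfl⟩ := exists_comap_eq (algebraMap L M) V
    have hW : EtRam.Dominates A ((algebraMap K M).comp (algebraMap A K)) W := by
      rw [hcomp]; exact dominates_of_comap _ _ W hV
    have hlocW := isLocalHom_codRestrict _ W hW
    obtain ⟨hu, hsep⟩ := @hM W hW hlocW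
    obtain ⟨k1, -, k3⟩ := @key A K _ _ _ _ _ _ L M _ _ _ _ _ _ _ _ W hV hW locV hlocW
    exact ⟨k3 hu, k1 hsep⟩

end Groth.Agent.S1989
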