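import Groth.Statements.S1990
import Groth.Agent.Lib.R2H1EtRam

set_option autoImplicit false
set_option linter.style.haveILetI false
universe u
open EtAlg

namespace Groth.Agent.S1990

open IsLocalRing Groth.Agent.Lib.R2H1.EtRam

theorem dominates_subtype_comap {L M : Type u} [Field L] [Field M] (f : L →+* M)
    (W : ValuationSubring M) :
    EtRam.Dominates (W.comap f) (f.comp (W.comap f).subtype) W := by
  refine ⟨fun v => v.2, fun v hv => ?_⟩
  have h1 : (W.comap f).valuation (v : L) < 1 := ((W.comap f).valuation_lt_one_iff v).mp hv
  rw [← ValuationSubring.mem_nonunits_iff] at h1 ⊢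
  rw [ValuationSubring.mem_nonunits_iff_or] at h1 ⊢
  rcases h1 with h1 | h1
  · left
    show f (v : L) = 0
    simp [h1]
  · right
    intro hc
    apply h1
    show f ((v : L)⁻¹) ∈ W
    rw [map_inv₀]
    exact hc

theorem key (A K : Type u) [CommRing A] [IsDomain A] [IsDiscreteValuationRing A] [Field K]
    [Algebra A K] [IsFractionRing A K] (L M : Type u) [Field L] [Field M]
    [Algebra K L] [Algebra K M] [Algebra L M] [IsScalarTower K L M] [FiniteDimensional K M]
    [Algebra.IsSeparable K M] (W : ValuationSubring M)
    (hV : EtRam.Dominates A ((algebraMap K L).comp (algebraMap A K)) (W.comap (algebraMap L M)))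
    (hW : EtRam.Dominates A ((algebraMap K M).comp (algebraMap A K)) W)
    (hVW : EtRam.Dominates (W.comap (algebraMap L M))
      ((algebraMap L M).comp (W.comap (algebraMap L M)).subtype) W) :
    letI : Algebra A (W.comap (algebraMap L M)) :=
      (RingHom.codRestrict ((algebraMap K L).comp (algebraMap A K)) _ hV.1).toAlgebra
    letI : Algebra A W :=
      (RingHom.codRestrict ((algebraMap K M).comp (algebraMap A K)) W hW.1).toAlgebra
    letI : Algebra (W.comap (algebraMap L M)) W :=
      (RingHom.codRestrict ((algebraMap L M).comp (W.comap (algebraMap L M)).subtype) W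
        hVW.1).toAlgebra
    ∀ [IsLocalHom (algebraMap A (W.comap (algebraMap L M)))] [IsLocalHom (algebraMap A W)]
      [IsLocalHom (algebraMap (W.comap (algebraMap L M)) W)],
    (Algebra.IsSeparable (ResidueField A) (ResidueField (W.comap (algebraMap L M))) →
      Algebra.IsSeparable (ResidueField (W.comap (algebraMap L M))) (ResidueField W) →
      Algebra.IsSeparable (ResidueField A) (ResidueField W)) ∧
    Ideal.ramificationIdx' (maximalIdeal A) (maximalIdeal W) =
      Ideal.ramificationIdx' (maximalIdeal A) (maximalIdeal (W.comap (algebraMap L M))) *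
      Ideal.ramificationIdx' (maximalIdeal (W.comap (algebraMap L M))) (maximalIdeal W) ∧
    (EtRam.IsWeaklyUnramified A (W.comap (algebraMap L M)) →
      EtRam.IsWeaklyUnramified (W.comap (algebraMap L M)) W → EtRam.IsWeaklyUnramified A W) ∧
    (∀ p : ℕ, CharP (ResidueField A) p → CharP (ResidueField (W.comap (algebraMap L M))) p) := by
  intro locV locW locVW
  letI algV : Algebra A (W.comap (algebraMap L M)) :=
    (RingHom.codRestrict ((algebraMap K L).comp (algebraMap A K)) _ hV.1).toAlgebra
  letI algW : Algebra A W :=
    (RingHom.codRestrict ((algebraMap K M).comp (algebraMap A K)) W hW.1).toAlgebra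
  letI algVW : Algebra (W.comap (algebraMap L M)) W :=
    (RingHom.codRestrict ((algebraMap L M).comp (W.comap (algebraMap L M)).subtype) W
      hVW.1).toAlgebra
  haveI : Algebra.IsSeparable K L := Algebra.isSeparable_tower_bot_of_isSeparable K L M
  haveI : FiniteDimensional K L := FiniteDimensional.left K L M
  haveI : IsDiscreteValuationRing (W.comap (algebraMap L M)) :=
    isDiscreteValuationRing_of_dominates' A K L _ hV
  haveI : IsDiscreteValuationRing W := isDiscreteValuationRing_of_dominates' A K M _ hW
  haveI : IsScalarTower A (W.comap (algebraMap L M)) W := by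
    refine IsScalarTower.of_algebraMap_eq (fun a => ?_)
    apply Subtype.ext
    show algebraMap K M (algebraMap A K a) = algebraMap L M (algebraMap K L (algebraMap A K a))
    rw [← IsScalarTower.algebraMap_apply K L M]
  have hinjVW : Function.Injective (algebraMap (W.comap (algebraMap L M)) W) := by
    intro x y hxy
    apply Subtype.ext
    apply (algebraMap L M).injective
    exact congrArg Subtype.val hxy
  have hinjAW : Function.Injective (algebraMap A W) := by
    intro x y hxy
    have h1 : algebraMap K M (algebraMap A K x) = algebraMap K M (algebraMap A K y) :=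
      congrArg Subtype.val hxy
    exact IsFractionRing.injective A K ((algebraMap K M).injective h1)
  have hAW : (maximalIdeal A).map (algebraMap A W) ≠ ⊥ := by
    rw [Ne, Ideal.map_eq_bot_iff_of_injective hinjAW]
    exact IsDiscreteValuationRing.not_a_field A
  have htower := ramificationIdx'_tower (A := A) (V := W.comap (algebraMap L M)) (W := W)
    hinjVW hAW
  refine ⟨?_, htower, ?_, ?_⟩
  · intro h1 h2
    exact Algebra.IsSeparable.trans (ResidueField A)
      (ResidueField (W.comap (algebraMap L M))) (ResidueField W)
  · intro h1 h2
    unfold EtRam.IsWeaklyUnramified at h1 h2 ⊢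
    rw [IsScalarTower.algebraMap_eq A (W.comap (algebraMap L M)) W, ← Ideal.map_map, h1, h2]
  · intro p hp
    exact charP_of_injective_algebraMap
      (algebraMap (ResidueField A) (ResidueField (W.comap (algebraMap L M)))).injective p

/-- Let K be the fraction field of a discrete valuation ring A, and K ⊂ L ⊂ M finite separable
extensions. If L/K is tamely ramified (resp. unramified) with respect to A and M/L is tamely
ramified (resp. unramified) with respect to every valuation subring of L dominating A, then M/K is
tamely ramified (resp. unramified) with respect to A. -/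
theorem result (A K : Type u) [CommRing A] [IsDomain A] [IsDiscreteValuationRing A] [Field K] [Algebra A K] [IsFractionRing A K] (L M : Type u) [Field L] [Field M]
    [Algebra K L] [Algebra K M] [Algebra L M] [IsScalarTower K L M] [FiniteDimensional K M] [Algebra.IsSeparable K M] :
    (EtRam.IsTamelyRamified A ((algebraMap K L).comp (algebraMap A K)) →
      (∀ (V : ValuationSubring L), EtRam.Dominates A ((algebraMap K L).comp (algebraMap A K)) V →
        EtRam.IsTamelyRamified V ((algebraMap L M).comp V.subtype)) →
      EtRam.IsTamelyRamified A ((algebraMap K M).comp (algebraMap A K))) ∧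
    (EtRam.IsUnramifiedExt A ((algebraMap K L).comp (algebraMap A K)) →
      (∀ (V : ValuationSubring L), EtRam.Dominates A ((algebraMap K L).comp (algebraMap A K)) V →
        EtRam.IsUnramifiedExt V ((algebraMap L M).comp V.subtype)) →
      EtRam.IsUnramifiedExt A ((algebraMap K M).comp (algebraMap A K))) := by
  have hcomp : (algebraMap K M).comp (algebraMap A K) =
      (algebraMap L M).comp ((algebraMap K L).comp (algebraMap A K)) := by
    ext a
    simp [← IsScalarTower.algebraMap_apply K L M]
  constructor
  · intro hL hML W hW locW
    have hV : EtRam.Dominates A ((algebraMap K L).comp (algebraMap A K))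
        (W.comap (algebraMap L M)) := by
      apply dominates_comap
      rw [← hcomp]; exact hW
    have hVW := dominates_subtype_comap (algebraMap L M) W
    have hlocV := isLocalHom_codRestrict _ _ hV
    have hlocVW := isLocalHom_codRestrict _ _ hVW
    obtain ⟨hsep1, hp1⟩ := @hL _ hV hlocV
    obtain ⟨hsep2, hp2⟩ := @hML _ hV W hVW hlocVW
    obtain ⟨k1, k2, -, k4⟩ := @key A K _ _ _ _ _ _ L M _ _ _ _ _ _ _ _ W hV hW hVW hlocV locW hlocVW
    refine ⟨k1 hsep1 hsep2, fun p hpp hchar hdvd => ?_⟩
    rw [k2] at hdvd
    rcases (Nat.Prime.dvd_mul hpp).mp hdvd with h | h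
    · exact hp1 p hpp hchar h
    · exact hp2 p hpp (k4 p hchar) h
  · intro hL hML W hW locW
    have hV : EtRam.Dominates A ((algebraMap K L).comp (algebraMap A K))
        (W.comap (algebraMap L M)) := by
      apply dominates_comap
      rw [← hcomp]; exact hW
    have hVW := dominates_subtype_comap (algebraMap L M) W
    have hlocV := isLocalHom_codRestrict _ _ hV
    have hlocVW := isLocalHom_codRestrict _ _ hVW
    obtain ⟨hu1, hsep1⟩ := @hL _ hV hlocV
    obtain ⟨hu2, hsep2⟩ := @hML _ hV W hVW hlocVW
    obtain ⟨k1, -, k3, -⟩ := @key A K _ _ _ _ _ _ L M _ _ _ _ _ _ _ _ W hV hW hVW hlocV locW hlocVW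
    exact ⟨k3 hu1 hu2, k1 hsep1 hsep2⟩

end Groth.Agent.S1990
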