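import Groth.Statements.S19907
import Mathlib

set_option autoImplicit false
universe u
open CategoryTheory TensorProduct
open ArtFun

namespace Groth.Agent.S19907.Aux
open Polynomial

section
variable {Λ k' k : Type u} [CommRing Λ] [Field k'] [Field k] [Algebra Λ k'] [Algebra k' k]
  [Algebra Λ k] [IsScalarTower Λ k' k]

lemma exists_map_eq (hs : Function.Surjective (algebraMap Λ k')) (p : k'[X]) :
    ∃ q : Λ[X], q.map (algebraMap Λ k') = p :=
  Polynomial.map_surjective _ hs p

lemma exists_monic_lift (hs : Function.Surjective (algebraMap Λ k')) (p : k'[X]) (hp : p.Monic) :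
    ∃ q : Λ[X], q.map (algebraMap Λ k') = p ∧ q.Monic := by
  have : p ∈ Polynomial.lifts (algebraMap Λ k') := by
    obtain ⟨q, hq⟩ := exists_map_eq hs p
    exact ⟨q, hq⟩
  obtain ⟨q, h1, _, h3⟩ := Polynomial.lifts_and_natDegree_eq_and_monic this hp
  exact ⟨q, h1, h3⟩

lemma aeval_lift (α : k) (q : Λ[X]) :
    aeval α q = aeval α (q.map (algebraMap Λ k')) := by
  rw [Polynomial.aeval_map_algebraMap]

/-- the standard etale pair attached to a monic polynomial `G` -/
noncomputable def pair (G : Λ[X]) (hG : G.Monic) : StandardEtalePair Λ where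
  f := G
  monic_f := hG
  g := derivative G
  cond := ⟨1, 0, 1, by simp⟩

variable [FiniteDimensional k' k] [Algebra.IsSeparable k' k]

lemma hasMap (α : k) (G : Λ[X]) (hG : G.Monic)
    (hGg : G.map (algebraMap Λ k') = minpoly k' α) : (pair G hG).HasMap α := by
  constructor
  · show aeval α G = 0
    rw [aeval_lift (k' := k'), hGg, minpoly.aeval]
  · show IsUnit (aeval α (derivative G))
    rw [aeval_lift (k' := k'), ← Polynomial.derivative_map, hGg]
    have hsep : (minpoly k' α).Separable := Algebra.IsSeparable.isSeparable k' α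
    exact (hsep.aeval_derivative_ne_zero (minpoly.aeval k' α)).isUnit


/-- the map `E → k` -/
noncomputable def π (α : k) (G : Λ[X]) (hG : G.Monic)
    (hGg : G.map (algebraMap Λ k') = minpoly k' α) : (pair G hG).Ring →ₐ[Λ] k :=
  (pair G hG).lift α (hasMap α G hG hGg)

lemma π_X (α : k) (G : Λ[X]) (hG : G.Monic)
    (hGg : G.map (algebraMap Λ k') = minpoly k' α) : π α G hG hGg (pair G hG).X = α :=
  (pair G hG).lift_X α _

lemma π_aeval (α : k) (G : Λ[X]) (hG : G.Monic)
    (hGg : G.map (algebraMap Λ k') = minpoly k' α) (q : Λ[X]) :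
    π α G hG hGg (aeval (pair G hG).X q) = aeval α q := by
  rw [← Polynomial.aeval_algHom_apply, π_X]

lemma π_surjective (hs : Function.Surjective (algebraMap Λ k')) (α : k)
    (hα : Algebra.adjoin k' {α} = ⊤) (G : Λ[X]) (hG : G.Monic)
    (hGg : G.map (algebraMap Λ k') = minpoly k' α) : Function.Surjective (π α G hG hGg) := by
  intro y
  have hy : y ∈ Algebra.adjoin k' {α} := hα ▸ Algebra.mem_top
  rw [Algebra.adjoin_singleton_eq_range_aeval] at hy
  obtain ⟨p, rfl⟩ := hy
  obtain ⟨q, rfl⟩ := exists_map_eq hs p
  exact ⟨aeval (pair G hG).X q, by rw [π_aeval, aeval_lift (k' := k')]; rfl⟩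


/-- the tautological presentation -/
noncomputable def pres (G : Λ[X]) (hG : G.Monic) :
    StandardEtalePresentation Λ (pair G hG).Ring :=
  ⟨pair G hG, (pair G hG).X, StandardEtalePair.hasMap_X,
    by simpa [StandardEtalePair.lift_X_left] using Function.bijective_id⟩

lemma aeval_mem_map_of_coeff_mem {E : Type u} [CommRing E] [Algebra Λ E] (I : Ideal Λ) (x : E)
    (r : Λ[X]) (hr : ∀ i, r.coeff i ∈ I) : aeval x r ∈ I.map (algebraMap Λ E) := by
  rw [Polynomial.aeval_eq_sum_range]
  refine Ideal.sum_mem _ fun i _ => ?_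
  rw [Algebra.smul_def]
  exact Ideal.mul_mem_right _ _ (Ideal.mem_map_of_mem _ (hr i))

/-- kernel of `π` is generated by the kernel of `Λ → k'` -/
lemma ker_π_le (hs : Function.Surjective (algebraMap Λ k')) (α : k)
    (G : Λ[X]) (hG : G.Monic)
    (hGg : G.map (algebraMap Λ k') = minpoly k' α) (e : (pair G hG).Ring)
    (he : π α G hG hGg e = 0) :
    e ∈ (RingHom.ker (algebraMap Λ k')).map (algebraMap Λ (pair G hG).Ring) := by
  obtain ⟨p, n, hpn⟩ := (pres G hG).exists_mul_aeval_x_g_pow_eq_aeval_x e
  change e * aeval (pair G hG).X (derivative G) ^ n = aeval (pair G hG).X p at hpn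
  have hp0 : aeval α p = 0 := by
    rw [← π_aeval α G hG hGg, ← hpn, map_mul, he, zero_mul]
  rw [aeval_lift (k' := k')] at hp0
  obtain ⟨qbar, hq⟩ := minpoly.dvd k' α hp0
  obtain ⟨q, rfl⟩ := exists_map_eq hs qbar
  have hr : ∀ i, (p - G * q).coeff i ∈ RingHom.ker (algebraMap Λ k') := by
    intro i
    rw [RingHom.mem_ker, ← Polynomial.coeff_map, Polynomial.map_sub, Polynomial.map_mul, hGg, hq,
      sub_self, Polynomial.coeff_zero]
  have hG0 : aeval (pair G hG).X G = 0 := (StandardEtalePair.hasMap_X (P := pair G hG)).1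
  have hmem : aeval (pair G hG).X p ∈
      (RingHom.ker (algebraMap Λ k')).map (algebraMap Λ (pair G hG).Ring) := by
    have := aeval_mem_map_of_coeff_mem (RingHom.ker (algebraMap Λ k')) (pair G hG).X _ hr
    rwa [map_sub, map_mul, hG0, zero_mul, sub_zero] at this
  have hu : IsUnit (aeval (pair G hG).X (derivative G) ^ n) :=
    (StandardEtalePair.hasMap_X (P := pair G hG)).2.pow n
  rw [← hpn] at hmem
  obtain ⟨u, hu'⟩ := hu
  have := Ideal.mul_mem_right (↑u⁻¹ : (pair G hG).Ring) _ hmem
  rwa [← hu', mul_assoc, Units.mul_inv, mul_one] at this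


set_option backward.isDefEq.respectTransparency false in
set_option linter.style.haveILetI false in
open Algebra in
theorem main (hs : Function.Surjective (algebraMap Λ k')) :
    Function.Bijective ((Algebra.H1Cotangent.map Λ Λ k' k).liftBaseChange k) := by
  -- primitive element
  obtain ⟨α, hα⟩ := Field.exists_primitive_element k' k
  have hα' : Algebra.adjoin k' {α} = ⊤ := by
    have h1 := IntermediateField.adjoin_simple_toSubalgebra_of_isAlgebraic
      (Algebra.IsAlgebraic.isAlgebraic (R := k') α)
    rw [← h1, hα]; rfl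
  obtain ⟨G, hGg, hG⟩ := exists_monic_lift hs (minpoly k' α)
    (minpoly.monic (Algebra.IsIntegral.isIntegral α))
  -- the two extensions
  let P : Extension.{u} Λ k' := Extension.ofSurjective (Algebra.ofId Λ k') hs
  let Q : Extension.{u} Λ k := Extension.ofSurjective (π α G hG hGg) (π_surjective hs α hα' G hG hGg)
  let f : P.Hom Q :=
    { toRingHom := algebraMap Λ (pair G hG).Ring
      toRingHom_algebraMap := fun x => rfl
      algebraMap_toRingHom := fun x => by
        show π α G hG hGg (algebraMap Λ _ x) = algebraMap k' k (algebraMap Λ k' x)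
        rw [AlgHom.commutes, ← IsScalarTower.algebraMap_apply] }
  letI algPQ : Algebra P.Ring Q.Ring := (inferInstance : Algebra Λ (pair G hG).Ring)
  have halg : algebraMap P.Ring Q.Ring = f.toRingHom := rfl
  have H₁ : f.toRingHom.FormallyEtale :=
    RingHom.formallyEtale_algebraMap.mpr
      (inferInstance : Algebra.FormallyEtale Λ (pair G hG).Ring)
  have H₂ : Function.Bijective ((f.mapKer halg).liftBaseChange Q.Ring) := by
    -- the composite with the inclusion into `E`
    have hflat : Module.Flat Λ (pair G hG).Ring := inferInstance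
    have hcomp : (Q.ker.subtype.restrictScalars Λ) ∘ₗ
        (((f.mapKer halg).liftBaseChange Q.Ring).restrictScalars Λ) =
        (TensorProduct.rid Λ (pair G hG).Ring).toLinearMap ∘ₗ
          (LinearMap.lTensor (pair G hG).Ring (Submodule.subtype P.ker)) := by
      apply TensorProduct.ext'
      intro e c
      show (((f.mapKer halg).liftBaseChange Q.Ring) (e ⊗ₜ c) : Q.Ring) =
        TensorProduct.rid Λ (pair G hG).Ring (e ⊗ₜ[Λ] c.1)
      rw [LinearMap.liftBaseChange_tmul, TensorProduct.rid_tmul]
      have key : ∀ (e : (pair G hG).Ring) (c : Λ),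
          e * algebraMap Λ (pair G hG).Ring c = c • e := fun e c => by
        rw [Algebra.smul_def, mul_comm]
      exact key e c.1
    constructor
    · have hinj : Function.Injective ((TensorProduct.rid Λ (pair G hG).Ring).toLinearMap ∘ₗ
          (LinearMap.lTensor (pair G hG).Ring (Submodule.subtype P.ker))) :=
        (TensorProduct.rid Λ (pair G hG).Ring).injective.comp
          (Module.Flat.lTensor_preserves_injective_linearMap _ Subtype.val_injective)
      rw [← hcomp] at hinj
      have hinj' : Function.Injective (⇑Q.ker.subtype ∘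
          ⇑((f.mapKer halg).liftBaseChange Q.Ring)) := hinj
      exact Function.Injective.of_comp hinj'
    · intro j
      have hj : (j : Q.Ring) ∈ (RingHom.ker (algebraMap Λ k')).map
          (algebraMap Λ (pair G hG).Ring) := ker_π_le hs α G hG hGg j.1 j.2
      -- the range of the composite is an ideal containing the generators
      let ψ : Q.Ring ⊗[P.Ring] P.ker →ₗ[Q.Ring] Q.Ring :=
        Q.ker.subtype ∘ₗ (f.mapKer halg).liftBaseChange Q.Ring
      have hle : (RingHom.ker (algebraMap Λ k')).map (algebraMap Λ (pair G hG).Ring) ≤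
          LinearMap.range ψ := by
        rw [Ideal.map, Ideal.span_le]
        rintro _ ⟨c, hc, rfl⟩
        refine ⟨(1 : Q.Ring) ⊗ₜ[P.Ring] (⟨c, hc⟩ : P.ker), ?_⟩
        simp only [ψ, LinearMap.coe_comp, Function.comp_apply, LinearMap.liftBaseChange_tmul,
          one_smul, Submodule.subtype_apply]
        rfl
      obtain ⟨t, ht⟩ := hle hj
      exact ⟨t, Subtype.ext ht⟩
  have hf_bij : Function.Bijective ((Extension.H1Cotangent.map f).liftBaseChange k) :=
    (Extension.tensorH1CotangentOfFormallyEtale f halg H₁ H₂).bijective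
  -- transfer to the canonical extensions
  let P₁ : Extension.{u} Λ k' := (Generators.self Λ k').toExtension
  let Q₁ : Extension.{u} Λ k := (Generators.self Λ k).toExtension
  let h₁ : P₁.Hom Q₁ :=
    (Generators.defaultHom (Generators.self Λ k') (Generators.self Λ k)).toExtensionHom
  let a : P₁.Hom P :=
    { toRingHom := (MvPolynomial.aeval P.σ).toRingHom
      toRingHom_algebraMap := (MvPolynomial.aeval P.σ).commutes
      algebraMap_toRingHom := by
        have : (IsScalarTower.toAlgHom Λ P.Ring k').comp (MvPolynomial.aeval P.σ) =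
            IsScalarTower.toAlgHom _ (Generators.self Λ k').toExtension.Ring _ := by
          ext i
          change _ = algebraMap (Generators.self Λ k').Ring _ (.X i)
          simp
        exact DFunLike.congr_fun this }
  let b : Q₁.Hom Q :=
    { toRingHom := (MvPolynomial.aeval Q.σ).toRingHom
      toRingHom_algebraMap := (MvPolynomial.aeval Q.σ).commutes
      algebraMap_toRingHom := by
        have : (IsScalarTower.toAlgHom Λ Q.Ring k).comp (MvPolynomial.aeval Q.σ) =
            IsScalarTower.toAlgHom _ (Generators.self Λ k).toExtension.Ring _ := by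
          ext i
          change _ = algebraMap (Generators.self Λ k).Ring _ (.X i)
          simp
        exact DFunLike.congr_fun this }
  haveI : FormallySmooth Λ P₁.Ring := inferInstanceAs (FormallySmooth Λ (MvPolynomial _ _))
  haveI : FormallySmooth Λ Q₁.Ring := inferInstanceAs (FormallySmooth Λ (MvPolynomial _ _))
  haveI : FormallySmooth Λ P.Ring := inferInstanceAs (FormallySmooth Λ Λ)
  haveI : FormallySmooth Λ Q.Ring := inferInstanceAs (FormallySmooth Λ (pair G hG).Ring)
  let ea : P₁.H1Cotangent ≃ₗ[k'] P.H1Cotangent := Extension.H1Cotangent.equivOfFormallySmooth P₁ P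
  let eb : Q₁.H1Cotangent ≃ₗ[k] Q.H1Cotangent := Extension.H1Cotangent.equivOfFormallySmooth Q₁ Q
  have hea : ∀ x, ea x = Extension.H1Cotangent.map a x :=
    fun x => Extension.H1Cotangent.equivOfFormallySmooth_apply a x
  have heb : ∀ x, eb x = Extension.H1Cotangent.map b x :=
    fun x => Extension.H1Cotangent.equivOfFormallySmooth_apply b x
  have hsq : ∀ x, Extension.H1Cotangent.map b (Extension.H1Cotangent.map h₁ x) =
      Extension.H1Cotangent.map f (Extension.H1Cotangent.map a x) := by
    intro x
    rw [← Extension.H1Cotangent.map_comp_apply, ← Extension.H1Cotangent.map_comp_apply,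
      Extension.H1Cotangent.map_eq (b.comp h₁) (f.comp a)]
  have hcomp : eb.toLinearMap ∘ₗ (Algebra.H1Cotangent.map Λ Λ k' k).liftBaseChange k =
      ((Extension.H1Cotangent.map f).liftBaseChange k) ∘ₗ (ea.toLinearMap.baseChange k) := by
    apply TensorProduct.AlgebraTensorModule.ext
    intro c x
    show eb ((LinearMap.liftBaseChange k (Algebra.H1Cotangent.map Λ Λ k' k)) (c ⊗ₜ x)) =
      (LinearMap.liftBaseChange k (Extension.H1Cotangent.map f))
        ((LinearMap.baseChange k ea.toLinearMap) (c ⊗ₜ x))
    rw [LinearMap.liftBaseChange_tmul, LinearMap.baseChange_tmul, LinearMap.liftBaseChange_tmul,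
      map_smul, heb]
    congr 1
    show Extension.H1Cotangent.map b (Extension.H1Cotangent.map h₁ x) =
      Extension.H1Cotangent.map f (ea x)
    rw [hea]
    exact hsq x
  have hbij : Function.Bijective (eb.toLinearMap ∘ₗ
      (Algebra.H1Cotangent.map Λ Λ k' k).liftBaseChange k) := by
    rw [hcomp]
    exact hf_bij.comp (LinearEquiv.baseChange k' k _ _ ea).bijective
  exact (Function.Bijective.of_comp_iff' eb.bijective _).mp hbij

end

end Groth.Agent.S19907.Aux


namespace Groth.Agent.S19907

/-- Let Λ be a Noetherian ring with a finite ring map to a field k, let k' ⊂ k be the image of Λ and m_Λ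
the kernel, so that m_Λ/m_Λ² = H₁(L_{k'/Λ}) (Λ → k' being surjective with kernel m_Λ). If k is
separable over k', the canonical map m_Λ/m_Λ² ⊗_{k'} k → H₁(L_{k/Λ}) is an isomorphism. Stated for
H₁(L_{k'/Λ}) in place of m_Λ/m_Λ²: the k-linear base change of the functoriality map H₁(L_{k'/Λ}) →
H₁(L_{k/Λ}) is bijective. (The general construction of the map and the case k = k' are the other
assertions of the source; only the separable case is stated here.) -/
theorem result {Λ : Type u} {k : Type u} [CommRing Λ] [Field k] [Algebra Λ k]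
    [IsNoetherianRing Λ] [Module.Finite Λ k]
    [Algebra.IsSeparable (↥(algebraMap Λ k).range) k] :
    letI : Algebra Λ (↥(algebraMap Λ k).range) := (algebraMap Λ k).rangeRestrict.toAlgebra
    letI : IsScalarTower Λ (↥(algebraMap Λ k).range) k := IsScalarTower.of_algebraMap_eq (fun _ ↦ rfl)
    Function.Bijective ((Algebra.H1Cotangent.map Λ Λ (↥(algebraMap Λ k).range) k).liftBaseChange k) := by
  letI i1 : Algebra Λ (↥(algebraMap Λ k).range) := (algebraMap Λ k).rangeRestrict.toAlgebra
  letI i2 : IsScalarTower Λ (↥(algebraMap Λ k).range) k :=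
    IsScalarTower.of_algebraMap_eq (fun _ ↦ rfl)
  have hs : Function.Surjective (algebraMap Λ (↥(algebraMap Λ k).range)) :=
    (algebraMap Λ k).rangeRestrict_surjective
  haveI : Module.Finite (↥(algebraMap Λ k).range) k :=
    Module.Finite.of_restrictScalars_finite Λ _ k
  have hF : IsField (↥(algebraMap Λ k).range) :=
    isField_of_isIntegral_of_isField (S := k) Subtype.val_injective (Field.toIsField k)
  letI : Field (↥(algebraMap Λ k).range) := hF.toField
  exact Aux.main (k' := ↥(algebraMap Λ k).range) hs

end Groth.Agent.S19907
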