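import Groth.Statements.S19957
import Mathlib
import Groth.Agent.Lib.H5bELMain

set_option autoImplicit false
universe u
open CategoryTheory CategoryTheory.Limits AlgebraicGeometry
open Grpd

namespace Groth.Agent.S19957

open Groth.Agent.Lib.H5bEL Groth.Agent.Lib.Helper2.Grpd

section Helpers

/-- the residue field map of a preimmersion is an isomorphism. -/
lemma isIso_residueFieldMap_of_isPreimmersion {X Y : Scheme.{u}} (f : X ⟶ Y) [IsPreimmersion f]
    (x : ↥X) : IsIso (f.residueFieldMap x) := by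
  rw [ConcreteCategory.isIso_iff_bijective]
  refine ⟨(f.residueFieldMap x).hom.injective, ?_⟩
  intro c
  obtain ⟨c', rfl⟩ := X.residue_surjective x c
  obtain ⟨d, rfl⟩ := f.stalkMap_surjective x c'
  refine ⟨Y.residue (f x) d, ?_⟩
  exact congrArg (fun φ => φ.hom d) (Scheme.residue_residueFieldMap f x)

variable {S : Scheme.{u}} (G : Grpd.GroupoidScheme S)

/-- the map from the stabilizer to the arrows. -/
noncomputable def fstS : G.stabilizer ⟶ G.R := pullback.fst G.j G.diag

lemma j_fst' : G.j ≫ pullback.fst G.pU G.pU = G.t := pullback.lift_fst _ _ _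
lemma j_snd' : G.j ≫ pullback.snd G.pU G.pU = G.s := pullback.lift_snd _ _ _
lemma diag_fst' : G.diag ≫ pullback.fst G.pU G.pU = 𝟙 _ := pullback.lift_fst _ _ _
lemma diag_snd' : G.diag ≫ pullback.snd G.pU G.pU = 𝟙 _ := pullback.lift_snd _ _ _

lemma fstS_t : fstS G ≫ G.t = G.stabilizerToU := by
  have h : pullback.fst G.j G.diag ≫ G.t = pullback.snd G.j G.diag := by
    rw [← j_fst', ← Category.assoc, pullback.condition, Category.assoc, diag_fst', Category.comp_id]
  exact h

lemma fstS_s : fstS G ≫ G.s = G.stabilizerToU := by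
  have h : pullback.fst G.j G.diag ≫ G.s = pullback.snd G.j G.diag := by
    rw [← j_snd', ← Category.assoc, pullback.condition, Category.assoc, diag_snd', Category.comp_id]
  exact h

instance isImmersion_fstS : IsImmersion (fstS G) := by
  haveI : IsImmersion G.diag := inferInstanceAs (IsImmersion (pullback.diagonal G.pU))
  exact MorphismProperty.pullback_fst (P := @IsImmersion) _ _ inferInstance

/-- a point of the stabilizer from an arrow with equal source and target. -/
noncomputable def stabMk {T : Scheme.{u}} (r : T ⟶ G.R) (v : T ⟶ G.U) (hs : r ≫ G.s = v)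
    (ht : r ≫ G.t = v) : T ⟶ G.stabilizer :=
  pullback.lift r v (by
    apply pullback.hom_ext
    · rw [Category.assoc, j_fst', ht, Category.assoc, diag_fst', Category.comp_id]
    · rw [Category.assoc, j_snd', hs, Category.assoc, diag_snd', Category.comp_id])

lemma stabMk_fstS {T : Scheme.{u}} (r : T ⟶ G.R) (v : T ⟶ G.U) (hs : r ≫ G.s = v)
    (ht : r ≫ G.t = v) : stabMk G r v hs ht ≫ fstS G = r := pullback.lift_fst _ _ _

lemma stabMk_toU {T : Scheme.{u}} (r : T ⟶ G.R) (v : T ⟶ G.U) (hs : r ≫ G.s = v)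
    (ht : r ≫ G.t = v) : stabMk G r v hs ht ≫ G.stabilizerToU = v := pullback.lift_snd _ _ _

/-- the arrows in the image of the stabilizer over `u`. -/
def Z0 (u : ↥G.U) : Set ↥G.R := (fun g => fstS G g) '' {g : ↥G.stabilizer | G.stabilizerToU g = u}

lemma mem_Z0_of_point (u : ↥G.U) (K : Type u) [Field K] (γ : Spec (CommRingCat.of K) ⟶ G.R)
    (v : Spec (CommRingCat.of K) ⟶ G.U) (hs : γ ≫ G.s = v) (ht : γ ≫ G.t = v)
    (hv : v (pt K) = u) : γ (pt K) ∈ Z0 G u := by
  refine ⟨stabMk G γ v hs ht (pt K), ?_, ?_⟩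
  · change G.stabilizerToU _ = u
    rw [← Scheme.Hom.comp_apply, stabMk_toU, hv]
  · change fstS G _ = _
    rw [← Scheme.Hom.comp_apply, stabMk_fstS]

lemma s_eq_t_of_at_Z0 (u : ↥G.U) (K : Type u) [Field K] (α : Spec (CommRingCat.of K) ⟶ G.R)
    (z : ↥G.R) (hz : z ∈ Z0 G u) (hα : ∀ p, α p = z) :
    α ≫ G.s = α ≫ G.t ∧ (α ≫ G.s) (pt K) = u := by
  obtain ⟨g, hg, rfl⟩ := hz
  haveI := isIso_residueFieldMap_of_isPreimmersion (fstS G) g
  obtain ⟨α', hα', hα'g⟩ := exists_lift_at (fstS G) g K α hα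
  refine ⟨?_, ?_⟩
  · rw [← hα', Category.assoc, Category.assoc, fstS_s, fstS_t]
  · rw [← hα', Category.assoc, fstS_s, Scheme.Hom.comp_apply, hα'g]
    exact hg

theorem z0Closed (u : ↥G.U) : Z0Closed G u (Z0 G u) := by
  refine ⟨?_, ?_, ?_⟩
  · rintro z ⟨g, hg, rfl⟩
    change G.t (fstS G g) = u
    rw [← Scheme.Hom.comp_apply, fstS_t]
    exact hg
  · intro ω h1 h2
    obtain ⟨K, _, a, ha⟩ := exists_field_point ω
    obtain ⟨hα1, hα2⟩ := s_eq_t_of_at_Z0 G u K (a ≫ pullback.fst G.s G.t) _ h1 (by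
      intro p
      rw [Scheme.Hom.comp_apply, ha])
    obtain ⟨hβ1, -⟩ := s_eq_t_of_at_Z0 G u K (a ≫ pullback.snd G.s G.t) _ h2 (by
      intro p
      rw [Scheme.Hom.comp_apply, ha])
    have hcond : (a ≫ pullback.fst G.s G.t) ≫ G.s = (a ≫ pullback.snd G.s G.t) ≫ G.t := by
      rw [Category.assoc, Category.assoc, pullback.condition]
    have hac : a ≫ G.c = comp G (a ≫ pullback.fst G.s G.t) (a ≫ pullback.snd G.s G.t) hcond := by
      unfold comp
      congr 1
      apply pullback.hom_ext
      · rw [pullback.lift_fst]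
      · rw [pullback.lift_snd]
    have h3 := mem_Z0_of_point G u K (a ≫ G.c) ((a ≫ pullback.fst G.s G.t) ≫ G.s)
      (by rw [hac, comp_s, hβ1, hcond]) (by rw [hac, comp_t, hα1]) hα2
    rwa [Scheme.Hom.comp_apply, ha] at h3
  · rintro z ⟨g, hg, rfl⟩
    obtain ⟨K, _, α', hα'⟩ := exists_field_point g
    have h3 := mem_Z0_of_point G u K ((α' ≫ fstS G) ≫ G.i) (α' ≫ G.stabilizerToU)
      (by rw [Category.assoc, G.i_s, Category.assoc, fstS_t])
      (by rw [Category.assoc, G.i_t, Category.assoc, fstS_s])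
      (by rw [Scheme.Hom.comp_apply, hα']; exact hg)
    rwa [Scheme.Hom.comp_apply, Scheme.Hom.comp_apply, hα'] at h3

end Helpers

/-- Let (U, R, s, t, c) be a groupoid scheme over S with U affine and s, t separated, flat and locally
of finite presentation, and let u ∈ U be a point such that the set of points of the stabilizer G → U
(the base change of j = (t, s) : R → U ×_S U along the diagonal of U) lying over u is finite and s
is quasi-finite at the image in R of each of these points. Then there exist an etale morphism U' → U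
with U' affine and a point u' of U' lying over u with trivial residue field extension κ(u) = κ(u'),
such that the restriction R' of R to U' (the groupoid scheme on U' whose arrows form the base change
of j along U' ×_S U' → U ×_S U) is split over u': there is an open subscheme P ⊂ R' which is a
subgroupoid (the identity of U', the inverse of P and the composition of composable pairs of P land
in P), with s'|_P and t'|_P finite, and containing the image in R' of every point of the stabilizer
G' → U' of R' lying over u'. -/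
theorem result (S : Scheme.{u}) (G : Grpd.GroupoidScheme S) [IsAffine G.U]
    [IsSeparated G.s] [IsSeparated G.t] [Flat G.s] [Flat G.t]
    [LocallyOfFinitePresentation G.s] [LocallyOfFinitePresentation G.t]
    (u : ↥G.U) (hfin : Set.Finite {g : ↥G.stabilizer | G.stabilizerToU g = u})
    (hqf : ∀ g : ↥G.stabilizer, G.stabilizerToU g = u →
      Dual3.QuasiFiniteAt G.s ((pullback.fst G.j G.diag : G.stabilizer ⟶ G.R) g)) :
    ∃ (G' : Grpd.GroupoidScheme S) (φ : Grpd.GroupoidScheme.Hom G' G) (u' : ↥G'.U),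
      IsAffine G'.U ∧ Etale φ.fU ∧ φ.fU u' = u ∧ IsIso (φ.fU.residueFieldMap u') ∧
      IsPullback φ.fR G'.j G.j
        (pullback.map G'.pU G'.pU G.pU G.pU φ.fU φ.fU (𝟙 S)
          ((Category.comp_id _).trans φ.fU_over.symm) ((Category.comp_id _).trans φ.fU_over.symm)) ∧
      ∃ (P : Scheme.{u}) (ιP : P ⟶ G'.R), IsOpenImmersion ιP ∧
        (∃ eP : G'.U ⟶ P, eP ≫ ιP = G'.e) ∧ (∃ iP : P ⟶ P, iP ≫ ιP = ιP ≫ G'.i) ∧
        (∃ cP : pullback (ιP ≫ G'.s) (ιP ≫ G'.t) ⟶ P,
          cP ≫ ιP = pullback.map (ιP ≫ G'.s) (ιP ≫ G'.t) G'.s G'.t ιP ιP (𝟙 G'.U)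
            (Category.comp_id _) (Category.comp_id _) ≫ G'.c) ∧
        IsFinite (ιP ≫ G'.s) ∧ IsFinite (ιP ≫ G'.t) ∧
        ∀ g' : ↥G'.stabilizer, G'.stabilizerToU g' = u' →
          ∃ p : ↥P, ιP p = (pullback.fst G'.j G'.diag : G'.stabilizer ⟶ G'.R) g' := by
  classical
  have hZ := z0Closed G u
  have he : G.e u ∈ Z0 G u := by
    refine ⟨G.eStab u, ?_, ?_⟩
    · change G.stabilizerToU (G.eStab u) = u
      rw [← Scheme.Hom.comp_apply]
      have : G.eStab ≫ G.stabilizerToU = 𝟙 _ := pullback.lift_snd _ _ _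
      rw [this]
      rfl
    · change fstS G (G.eStab u) = G.e u
      rw [← Scheme.Hom.comp_apply]
      have : G.eStab ≫ fstS G = G.e := pullback.lift_fst _ _ _
      rw [this]
  obtain ⟨G', φ, u', h1, h2, h3, h4, h5, P, ιP, h6, h7, h8, h9, h10, h11, h12⟩ :=
    Groth.Agent.Lib.H5bEL.main u (Z0 G u) (hfin.image _)
      (fun z hz => by
        obtain ⟨g, hg, rfl⟩ := hz
        refine ⟨?_, quasiFiniteAt_of_dual3 _ _ (hqf g hg)⟩
        change G.s (fstS G g) = u
        rw [← Scheme.Hom.comp_apply, fstS_s]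
        exact hg) he hZ
  refine ⟨G', φ, u', h1, h2, h3, h4, h5, P, ιP, h6, h7, h8, h9, h10, h11, ?_⟩
  intro g' hg'
  refine h12 (fstS G' g') ?_ ?_ ?_
  · rw [← Scheme.Hom.comp_apply, fstS_s]
    exact hg'
  · rw [← Scheme.Hom.comp_apply, fstS_t]
    exact hg'
  · obtain ⟨K, _, α', hα'⟩ := exists_field_point g'
    have h13 := mem_Z0_of_point G u K ((α' ≫ fstS G') ≫ φ.fR) ((α' ≫ G'.stabilizerToU) ≫ φ.fU)
      (by rw [Category.assoc, φ.comm_s, ← Category.assoc, Category.assoc α', fstS_s])
      (by rw [Category.assoc, φ.comm_t, ← Category.assoc, Category.assoc α', fstS_t])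
      (by rw [Scheme.Hom.comp_apply, Scheme.Hom.comp_apply, hα', hg', h3])
    rwa [Scheme.Hom.comp_apply, Scheme.Hom.comp_apply, hα'] at h13

end Groth.Agent.S19957
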