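import Groth.Statements.S20004
import Mathlib
import Groth.Agent.Lib.R2H7WildExt
import Groth.Agent.S15800

set_option autoImplicit false
universe u v w
open WildQuot

namespace Groth.Agent.S20004

/-- Let `A` be a complete regular local ring of Krull dimension at least `2` and prime characteristic
`p`; let `k` be a field with `k → A` mapping onto the residue field, such that `k` has no Galois
extension of degree `p`; let `G` be a group of order `p` acting on `A` by `k`-algebra automorphisms,
ramified precisely at the origin (for every non-maximal prime `P`, the inertia subgroup of `P` is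
trivial). Let `R` be a `k`-algebra with an injective structure map `R → A` whose image is fixed by
`G` (so `R ⊆ A^G`), with `A` finite over `R`. Galois extensions of fraction fields are expressed
through automorphism counts: since `A` and `A^G` are normal domains finite over `R`,
`Frac(A^G)/Frac(R)` is Galois exactly when `p` times the number of `k`-algebra automorphisms of
`A^G` fixing the image of `R` equals the rank `[Frac A : Frac R]` of `A` over `R`, and
`Frac(A)/Frac(R)` is Galois exactly when the number of `R`-algebra automorphisms of `A` equals that
rank. The row: the first equality implies the second. (The published statement assumes `R ⊆ A^G`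
finite with `Frac(A^G)/Frac(R)` Galois and concludes that `Frac(A)/Frac(R)` is Galois; here `R` is
taken to contain `k`, as the norm subrings of the source do.) -/
theorem result
    (p : ℕ) [Fact p.Prime] (A : Type u) [CommRing A] [IsRegularLocalRing A] [CharP A p]
    [IsAdicComplete (IsLocalRing.maximalIdeal A) A] (hdim : 2 ≤ ringKrullDim A)
    (k : Type v) [Field k] [Algebra k A]
    (hk : Function.Surjective (IsLocalRing.residue A ∘ algebraMap k A))
    (hkp : ∀ (L : Type v) [Field L] [Algebra k L], IsGalois k L → Module.finrank k L ≠ p)
    (G : Type w) [Group G] [Finite G] [MulSemiringAction G A] (hcard : Nat.card G = p)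
    [SMulCommClass G k A]
    (hram : ∀ P : Ideal A, P.IsPrime → P ≠ IsLocalRing.maximalIdeal A → P.inertia G = ⊥)
    (R : Type v) [CommRing R] [Algebra k R] [Algebra R A] [IsScalarTower k R A] [Module.Finite R A]
    (hRinj : Function.Injective (algebraMap R A))
    (hRG : ∀ (σ : G) (r : R), σ • algebraMap R A r = algebraMap R A r)
    (hgal : p * Nat.card {φ : FixedPoints.subalgebra k A G ≃ₐ[k] FixedPoints.subalgebra k A G //
        ∀ b : FixedPoints.subalgebra k A G, (b : A) ∈ Set.range (algebraMap R A) → (φ b : A) = b} =
      Module.finrank R A) :
    Nat.card (A ≃ₐ[R] A) = Module.finrank R A := by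
  classical
  haveI : IsDomain A := Groth.Agent.Lib.Helper5.isDomain_of_isRegularLocalRing A
  haveI : IsDomain R := hRinj.isDomain (algebraMap R A)
  haveI : FaithfulSMul R A := (faithfulSMul_iff_algebraMap_injective R A).mpr hRinj
  have hbot := Groth.Agent.Lib.R2H7.WildInv.bot_ne_maximalIdeal hdim
  haveI : FaithfulSMul G A := Groth.Agent.Lib.R2H7.WildInv.faithful hbot hram
  have hpos : 0 < Module.finrank R A := Module.finrank_pos
  haveI : FaithfulSMul R (FractionRing A) :=
    (faithfulSMul_iff_algebraMap_injective R (FractionRing A)).mpr (by
      rw [IsScalarTower.algebraMap_eq R A (FractionRing A)]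
      exact (IsFractionRing.injective A (FractionRing A)).comp hRinj)
  letI : Algebra (FractionRing R) (FractionRing A) := FractionRing.liftAlgebra R (FractionRing A)
  haveI : IsScalarTower R (FractionRing R) (FractionRing A) :=
    FractionRing.isScalarTower_liftAlgebra R (FractionRing A)
  have hfr : Module.finrank (FractionRing R) (FractionRing A) = Module.finrank R A :=
    IsFractionRing.finrank_eq R (FractionRing R) A (FractionRing A)
  haveI : FiniteDimensional (FractionRing R) (FractionRing A) :=
    FiniteDimensional.of_finrank_pos (by rw [hfr]; exact hpos)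
  have hinj := IsFractionRing.fieldEquivOfAlgEquivHom_injective R A (FractionRing R) (FractionRing A)
  haveI : Finite (A ≃ₐ[R] A) := Finite.of_injective _ hinj
  have hle : Nat.card (A ≃ₐ[R] A) ≤ Module.finrank R A := by
    rw [← hfr]
    refine (Nat.card_le_card_of_injective _ hinj).trans ?_
    rw [Nat.card_eq_fintype_card]
    exact AlgEquiv.card_le
  -- the lower bound
  have hmemB : ∀ r : R, algebraMap R A r ∈ FixedPoints.subalgebra k A G := fun r σ => hRG σ r
  have hext := fun φ : FixedPoints.subalgebra k A G ≃ₐ[k] FixedPoints.subalgebra k A G =>
    Groth.Agent.S15800.result p A hdim k hk hkp G hcard hram φ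
  choose Ψ hΨ using hext
  have key : ∀ {H : Type u} (ι : H → (FixedPoints.subalgebra k A G ≃ₐ[k] FixedPoints.subalgebra k A G))
      (hι : Function.Injective ι)
      (hH : ∀ h : H, ∀ b : FixedPoints.subalgebra k A G, (b : A) ∈ Set.range (algebraMap R A) →
        (ι h b : A) = b), p * Nat.card H ≤ Nat.card (A ≃ₐ[R] A) := by
    intro H ι hι hH
    let f : G × H → (A ≃ₐ[R] A) := fun x =>
      AlgEquiv.ofRingEquiv (f := (MulSemiringAction.toRingEquiv G A x.1).trans (Ψ (ι x.2)).toRingEquiv)
        (fun r => by
          change Ψ (ι x.2) (x.1 • algebraMap R A r) = algebraMap R A r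
          rw [hRG]
          have h1 := hΨ (ι x.2) ⟨algebraMap R A r, hmemB r⟩
          have h2 := hH x.2 ⟨algebraMap R A r, hmemB r⟩ ⟨r, rfl⟩
          exact h1.trans h2)
    have hf : Function.Injective f := by
      rintro ⟨g, h⟩ ⟨g', h'⟩ hgh
      have hall : ∀ a : A, Ψ (ι h) (g • a) = Ψ (ι h') (g' • a) := fun a =>
        AlgEquiv.congr_fun hgh a
      have hhh : h = h' := by
        apply hι
        ext b
        have h1 := hall (b : A)
        rw [b.2 g, b.2 g', hΨ, hΨ] at h1
        exact h1
      subst hhh
      have hgg : g = g' := by
        apply eq_of_smul_eq_smul (α := A)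
        intro a
        exact (Ψ (ι h)).injective (hall a)
      rw [hgg]
    calc p * Nat.card H = Nat.card (G × H) := by rw [Nat.card_prod, hcard]
      _ ≤ Nat.card (A ≃ₐ[R] A) := Nat.card_le_card_of_injective f hf
  have hge := key (H := {φ : FixedPoints.subalgebra k A G ≃ₐ[k] FixedPoints.subalgebra k A G //
        ∀ b : FixedPoints.subalgebra k A G, (b : A) ∈ Set.range (algebraMap R A) → (φ b : A) = b})
    Subtype.val Subtype.val_injective (fun h => h.2)
  omega

end Groth.Agent.S20004
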