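import Groth.Statements.S2055
import Mathlib.Algebra.Module.Torsion.Basic
import Mathlib.LinearAlgebra.TensorProduct.Pi
import Mathlib.RingTheory.Flat.Basic
import Mathlib.RingTheory.Ideal.Quotient.Operations
import Mathlib.LinearAlgebra.TensorProduct.Quotient
import Mathlib.RingTheory.Finiteness.Ideal
-- import your own Groth.Agent.* helpers here

set_option autoImplicit false
universe u
open CAlg

namespace Groth.Agent.S2055

open TensorProduct

section Lemmas

variable {R S : Type u} [CommRing R] [CommRing S] [Algebra R S] (I : Ideal R)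

theorem exists_sub_mem
    (hq : Function.Surjective (algebraMap (R ⧸ I) (S ⧸ I.map (algebraMap R S)))) (s : S) :
    ∃ r : R, s - algebraMap R S r ∈ I.map (algebraMap R S) := by
  obtain ⟨q, hq'⟩ := hq (Ideal.Quotient.mk _ s)
  obtain ⟨r, rfl⟩ := Ideal.Quotient.mk_surjective q
  refine ⟨r, ?_⟩
  rw [← Ideal.Quotient.eq]
  exact hq'.symm

/-- L1 : pure tensors with a power-torsion second component come from `T`. -/
theorem tmul_mem_range
    (hq : Function.Surjective (algebraMap (R ⧸ I) (S ⧸ I.map (algebraMap R S))))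
    {T : Type u} [AddCommGroup T] [Module R T] (k : ℕ) :
    ∀ (t : T), (∀ a ∈ I ^ k, a • t = 0) → ∀ s : S,
      s ⊗ₜ[R] t ∈ LinearMap.range (TensorProduct.mk R S T 1) := by
  induction k with
  | zero =>
    intro t ht s
    have : t = 0 := by simpa using ht 1 (by simp)
    rw [this, tmul_zero]
    exact Submodule.zero_mem _
  | succ k ih =>
    intro t ht s
    have hgen : ∀ a ∈ I, ∀ s' : S, s' ⊗ₜ[R] (a • t) ∈ LinearMap.range (TensorProduct.mk R S T 1) := by
      intro a ha s'
      apply ih
      intro b hb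
      rw [smul_smul]
      apply ht
      rw [pow_succ]
      exact Ideal.mul_mem_mul hb ha
    have key : ∀ x ∈ I.map (algebraMap R S), ∀ s' : S,
        (s' * x) ⊗ₜ[R] t ∈ LinearMap.range (TensorProduct.mk R S T 1) := by
      intro x hx
      unfold Ideal.map at hx
      induction hx using Submodule.span_induction with
      | mem x hx =>
        obtain ⟨a, ha, rfl⟩ := hx
        intro s'
        have : (s' * algebraMap R S a) ⊗ₜ[R] t = s' ⊗ₜ[R] (a • t) := by
          rw [← smul_tmul, Algebra.smul_def, mul_comm]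
        rw [this]
        exact hgen a ha s'
      | zero =>
        intro s'
        rw [mul_zero, zero_tmul]
        exact Submodule.zero_mem _
      | add x y _ _ hx hy =>
        intro s'
        rw [mul_add, add_tmul]
        exact Submodule.add_mem _ (hx s') (hy s')
      | smul c x _ hx =>
        intro s'
        rw [smul_eq_mul, ← mul_assoc]
        exact hx (s' * c)
    obtain ⟨r, hr⟩ := exists_sub_mem I hq s
    have h1 := key _ hr 1
    rw [one_mul, sub_tmul] at h1
    have h2 : (algebraMap R S r) ⊗ₜ[R] t ∈ LinearMap.range (TensorProduct.mk R S T 1) := by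
      refine ⟨r • t, ?_⟩
      rw [TensorProduct.mk_apply, ← smul_tmul, Algebra.smul_def, mul_one]
    have := Submodule.add_mem _ h1 h2
    rwa [sub_add_cancel] at this


/-- L2 : for a module killed by `I`, `t ↦ 1 ⊗ t` is injective. -/
theorem mk_injective_of_killed
    (hq : Function.Bijective (algebraMap (R ⧸ I) (S ⧸ I.map (algebraMap R S))))
    {T : Type u} [AddCommGroup T] [Module R T] (hT : ∀ a ∈ I, ∀ t : T, a • t = 0) :
    Function.Injective (TensorProduct.mk R S T 1) := by
  let e : (R ⧸ I) ≃ₗ[R] (S ⧸ I.map (algebraMap R S)) :=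
    LinearEquiv.ofBijective (IsScalarTower.toAlgHom R (R ⧸ I) (S ⧸ I.map (algebraMap R S))).toLinearMap hq
  let ψ : S →ₗ[R] (R ⧸ I) :=
    e.symm.toLinearMap ∘ₗ (Ideal.Quotient.mkₐ R (I.map (algebraMap R S))).toLinearMap
  have hψ : ψ 1 = 1 := by
    show e.symm (Ideal.Quotient.mk _ 1) = 1
    rw [LinearEquiv.symm_apply_eq]
    show _ = algebraMap (R ⧸ I) (S ⧸ I.map (algebraMap R S)) 1
    rw [map_one, map_one]
  let σ : S ⊗[R] T →ₗ[R] T ⧸ (I • (⊤ : Submodule R T)) :=
    (quotTensorEquivQuotSMul T I).toLinearMap ∘ₗ LinearMap.rTensor T ψ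
  have hσ : ∀ t : T, σ (1 ⊗ₜ[R] t) = Submodule.Quotient.mk t := by
    intro t
    show quotTensorEquivQuotSMul T I (LinearMap.rTensor T ψ (1 ⊗ₜ[R] t)) = _
    rw [LinearMap.rTensor_tmul, hψ, quotTensorEquivQuotSMul_mk_one_tmul]
  have hbot : (I • (⊤ : Submodule R T)) = ⊥ := by
    rw [eq_bot_iff, Submodule.smul_le]
    intro a ha t _
    rw [hT a ha t]
    exact Submodule.zero_mem _
  rw [injective_iff_map_eq_zero]
  intro t ht
  have h1 : σ (1 ⊗ₜ[R] t) = 0 := by
    have : (1 : S) ⊗ₜ[R] t = 0 := ht
    rw [this, map_zero]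
  rw [hσ, Submodule.Quotient.mk_eq_zero, hbot] at h1
  exact h1

/-- L3 : for a module killed by `I ^ k`, `t ↦ 1 ⊗ t` is injective. -/
theorem mk_injective_of_killed_pow [Module.Flat R S]
    (hq : Function.Bijective (algebraMap (R ⧸ I) (S ⧸ I.map (algebraMap R S)))) (k : ℕ) :
    ∀ {T : Type u} [AddCommGroup T] [Module R T], (∀ a ∈ I ^ k, ∀ t : T, a • t = 0) →
    Function.Injective (TensorProduct.mk R S T 1) := by
  induction k with
  | zero =>
    intro T _ _ hT
    have : Subsingleton T := ⟨fun x y => by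
      have hx : x = 0 := by simpa using hT 1 (by simp) x
      have hy : y = 0 := by simpa using hT 1 (by simp) y
      rw [hx, hy]⟩
    exact Function.injective_of_subsingleton _
  | succ k ih =>
    intro T _ _ hT
    let T' : Submodule R T := I • ⊤
    have hT' : ∀ a ∈ I ^ k, ∀ t : T', a • t = 0 := by
      intro a ha ⟨t, ht⟩
      apply Subtype.ext
      show a • t = 0
      refine Submodule.smul_induction_on ht ?_ ?_
      · intro b hb x _
        rw [smul_smul]
        apply hT
        rw [pow_succ]
        exact Ideal.mul_mem_mul ha hb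
      · intro x y hx hy
        rw [smul_add, hx, hy, add_zero]
    have hT'' : ∀ a ∈ I, ∀ t : T ⧸ T', a • t = 0 := by
      intro a ha t
      obtain ⟨t, rfl⟩ := Submodule.Quotient.mk_surjective _ t
      rw [← Submodule.Quotient.mk_smul, Submodule.Quotient.mk_eq_zero]
      exact Submodule.smul_mem_smul ha trivial
    have i1 := ih hT'
    have i2 := mk_injective_of_killed I hq hT''
    rw [injective_iff_map_eq_zero]
    intro t ht
    have ht0 : (1 : S) ⊗ₜ[R] t = 0 := ht
    -- image in the quotient
    have h1 : (1 : S) ⊗ₜ[R] (Submodule.Quotient.mk t : T ⧸ T') = 0 := by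
      have := congrArg (LinearMap.lTensor S T'.mkQ) ht0
      simpa using this
    have h2 : (Submodule.Quotient.mk t : T ⧸ T') = 0 := by
      apply i2
      rw [map_zero]
      exact h1
    rw [Submodule.Quotient.mk_eq_zero] at h2
    -- now t ∈ T'
    have hinj : Function.Injective (LinearMap.lTensor S T'.subtype) :=
      Module.Flat.lTensor_preserves_injective_linearMap _ T'.injective_subtype
    have h3 : (1 : S) ⊗ₜ[R] (⟨t, h2⟩ : T') = 0 := by
      apply hinj
      rw [map_zero]
      simpa using ht0
    have h4 : (⟨t, h2⟩ : T') = 0 := by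
      apply i1
      rw [map_zero]
      exact h3
    exact congrArg Subtype.val h4

/-- the `I ^ k`-torsion submodule -/
def tors (N : Type u) [AddCommGroup N] [Module R N] (k : ℕ) : Submodule R N where
  carrier := {n | ∀ a ∈ I ^ k, a • n = 0}
  add_mem' := by
    intro x y hx hy a ha
    rw [smul_add, hx a ha, hy a ha, add_zero]
  zero_mem' := by
    intro a _
    rw [smul_zero]
  smul_mem' := by
    intro c x hx a ha
    rw [smul_comm, hx a ha, smul_zero]

/-- A' : `n ↦ 1 ⊗ n` is injective on power-torsion elements. -/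
theorem eq_zero_of_tmul_eq_zero [Module.Flat R S]
    (hq : Function.Bijective (algebraMap (R ⧸ I) (S ⧸ I.map (algebraMap R S))))
    {N : Type u} [AddCommGroup N] [Module R N] (k : ℕ) (n : N) (hn : ∀ a ∈ I ^ k, a • n = 0)
    (h : (1 : S) ⊗ₜ[R] n = 0) : n = 0 := by
  have hinj : Function.Injective (LinearMap.lTensor S (tors I N k).subtype) :=
    Module.Flat.lTensor_preserves_injective_linearMap _ (tors I N k).injective_subtype
  have h3 : (1 : S) ⊗ₜ[R] (⟨n, hn⟩ : tors I N k) = 0 := by
    apply hinj
    rw [map_zero]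
    simpa using h
  have h4 : (⟨n, hn⟩ : tors I N k) = 0 := by
    apply mk_injective_of_killed_pow I hq k (T := tors I N k)
      (fun a ha t => Subtype.ext (t.2 a ha))
    rw [map_zero]
    exact h3
  exact congrArg Subtype.val h4


/-- L4 : by flatness, the `I ^ k`-torsion of `S ⊗ N` comes from `S ⊗ N[I ^ k]`. -/
theorem mem_range_lTensor_tors [Module.Flat R S] (hI : I.FG)
    {N : Type u} [AddCommGroup N] [Module R N] (k : ℕ) (x : S ⊗[R] N)
    (hx : ∀ a ∈ I ^ k, a • x = 0) :
    x ∈ LinearMap.range (LinearMap.lTensor S (tors I N k).subtype) := by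
  classical
  obtain ⟨s, hs⟩ := (Ideal.FG.pow (n := k) hI)
  let φ : N →ₗ[R] (s → N) := LinearMap.pi (fun a => (a : R) • LinearMap.id)
  have hker : LinearMap.ker φ = tors I N k := by
    ext n
    constructor
    · intro hn a ha
      rw [LinearMap.mem_ker] at hn
      rw [← hs] at ha
      refine Submodule.span_induction ?_ ?_ ?_ ?_ ha
      · intro b hb
        have := congrFun hn ⟨b, hb⟩
        simpa [φ] using this
      · rw [zero_smul]
      · intro b c _ _ hb hc
        rw [add_smul, hb, hc, add_zero]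
      · intro c b _ hb
        rw [smul_eq_mul, mul_smul, hb, smul_zero]
    · intro hn
      rw [LinearMap.mem_ker]
      funext a
      have : (a : R) ∈ I ^ k := by
        rw [← hs]
        exact Submodule.subset_span a.2
      simpa [φ] using hn a this
  have hex : Function.Exact (LinearMap.lTensor S (tors I N k).subtype) (LinearMap.lTensor S φ) := by
    apply Module.Flat.lTensor_exact
    rw [← hker]
    exact LinearMap.exact_subtype_ker_map φ
  rw [LinearMap.mem_range]
  apply (hex x).1
  apply (TensorProduct.piRight R R S (fun _ : s => N)).injective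
  rw [map_zero]
  have hcomp : (TensorProduct.piRight R R S (fun _ : s => N)).toLinearMap ∘ₗ LinearMap.lTensor S φ =
      LinearMap.pi (fun a : s => (a : R) • (LinearMap.id : S ⊗[R] N →ₗ[R] S ⊗[R] N)) := by
    apply TensorProduct.ext'
    intro s' n
    funext a
    simp [φ]
  have := LinearMap.congr_fun hcomp x
  simp only [LinearMap.comp_apply, LinearEquiv.coe_coe] at this
  rw [this]
  funext a
  have ha : (a : R) ∈ I ^ k := by
    rw [← hs]
    exact Submodule.subset_span a.2
  simpa using hx a ha


/-- `t ↦ 1 ⊗ t` is surjective for a power-torsion module. -/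
theorem mk_surjective_of_powerTorsion
    (hq : Function.Surjective (algebraMap (R ⧸ I) (S ⧸ I.map (algebraMap R S))))
    {T : Type u} [AddCommGroup T] [Module R T] (hT : ∀ t : T, ∃ k : ℕ, ∀ a ∈ I ^ k, a • t = 0)
    (x : S ⊗[R] T) : x ∈ LinearMap.range (TensorProduct.mk R S T 1) := by
  induction x using TensorProduct.induction_on with
  | zero => exact Submodule.zero_mem _
  | tmul s t =>
    obtain ⟨k, hk⟩ := hT t
    exact tmul_mem_range I hq k t hk s
  | add x y hx hy => exact Submodule.add_mem _ hx hy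

/-- uniqueness of power-torsion preimages under `n ↦ 1 ⊗ n` -/
theorem eq_of_tmul_eq [Module.Flat R S]
    (hq : Function.Bijective (algebraMap (R ⧸ I) (S ⧸ I.map (algebraMap R S))))
    {N : Type u} [AddCommGroup N] [Module R N] (n n' : N)
    (hn : ∃ k : ℕ, ∀ a ∈ I ^ k, a • n = 0) (hn' : ∃ k : ℕ, ∀ a ∈ I ^ k, a • n' = 0)
    (h : (1 : S) ⊗ₜ[R] n = (1 : S) ⊗ₜ[R] n') : n = n' := by
  obtain ⟨k, hk⟩ := hn
  obtain ⟨k', hk'⟩ := hn'
  rw [← sub_eq_zero]
  apply eq_zero_of_tmul_eq_zero I hq (max k k')
  · intro a ha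
    rw [smul_sub, hk a (Ideal.pow_le_pow_right (le_max_left k k') ha),
      hk' a (Ideal.pow_le_pow_right (le_max_right k k') ha), sub_zero]
  · rw [tmul_sub, h, sub_self]

end Lemmas

open TensorProduct in
/-- Let `R → S` be flat and `I ⊆ R` a finitely generated ideal with `R/I → S/IS` bijective. If one of
the `R`-modules `M`, `N` has every element killed by a power of `I`, then base change of linear maps
`Hom_R(M, N) → Hom_S(S ⊗ M, S ⊗ N)` is bijective. -/
theorem result {R S M N : Type u} [CommRing R] [CommRing S]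
    [Algebra R S] [Module.Flat R S] (I : Ideal R) (hI : I.FG)
    (hq : Function.Bijective (algebraMap (R ⧸ I) (S ⧸ I.map (algebraMap R S))))
    [AddCommGroup M] [Module R M] [AddCommGroup N] [Module R N]
    (hMN : (∀ x : M, ∃ n : ℕ, ∀ a ∈ I ^ n, a • x = 0) ∨ (∀ y : N, ∃ n : ℕ, ∀ a ∈ I ^ n, a • y = 0)) :
    Function.Bijective (fun f : M →ₗ[R] N => LinearMap.baseChange S f) := by
  -- the difference of values of two maps is always power torsion
  have htors : ∀ (f : M →ₗ[R] N) (m : M), ∃ k : ℕ, ∀ a ∈ I ^ k, a • f m = 0 := by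
    intro f m
    rcases hMN with hM | hN
    · obtain ⟨k, hk⟩ := hM m
      exact ⟨k, fun a ha => by rw [← map_smul, hk a ha, map_zero]⟩
    · exact hN (f m)
  constructor
  · intro f f' hff'
    have hff'' : LinearMap.baseChange S f = LinearMap.baseChange S f' := hff'
    ext m
    apply eq_of_tmul_eq I hq _ _ (htors f m) (htors f' m)
    have := LinearMap.congr_fun hff'' ((1 : S) ⊗ₜ[R] m)
    simpa using this
  · intro g
    have claim : ∀ m : M, ∃ n : N, (∃ k : ℕ, ∀ a ∈ I ^ k, a • n = 0) ∧
        (1 : S) ⊗ₜ[R] n = g ((1 : S) ⊗ₜ[R] m) := by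
      intro m
      rcases hMN with hM | hN
      · obtain ⟨k, hk⟩ := hM m
        have hx : ∀ a ∈ I ^ k, a • g ((1 : S) ⊗ₜ[R] m) = 0 := by
          intro a ha
          have h1 : a • g ((1 : S) ⊗ₜ[R] m) = g (a • ((1 : S) ⊗ₜ[R] m)) := by
            rw [← algebraMap_smul S a, ← map_smul, algebraMap_smul]
          rw [h1, ← tmul_smul, hk a ha, tmul_zero, map_zero]
        obtain ⟨y, hy⟩ := mem_range_lTensor_tors I hI k _ hx
        obtain ⟨t, ht⟩ := mk_surjective_of_powerTorsion I hq.2 (T := tors I N k)
          (fun t => ⟨k, fun a ha => Subtype.ext (t.2 a ha)⟩) y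
        refine ⟨t.1, ⟨k, t.2⟩, ?_⟩
        rw [← hy, ← ht]
        simp
      · obtain ⟨n, hn⟩ := mk_surjective_of_powerTorsion I hq.2 hN (g ((1 : S) ⊗ₜ[R] m))
        exact ⟨n, hN n, hn⟩
    choose f hf1 hf2 using claim
    let F : M →ₗ[R] N :=
      { toFun := f
        map_add' := by
          intro m m'
          apply eq_of_tmul_eq I hq _ _ (hf1 _)
          · obtain ⟨k, hk⟩ := hf1 m
            obtain ⟨k', hk'⟩ := hf1 m'
            refine ⟨max k k', fun a ha => ?_⟩
            rw [smul_add, hk a (Ideal.pow_le_pow_right (le_max_left k k') ha),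
              hk' a (Ideal.pow_le_pow_right (le_max_right k k') ha), add_zero]
          · rw [hf2, tmul_add, map_add, tmul_add, hf2, hf2]
        map_smul' := by
          intro r m
          apply eq_of_tmul_eq I hq _ _ (hf1 _)
          · obtain ⟨k, hk⟩ := hf1 m
            refine ⟨k, fun a ha => ?_⟩
            rw [RingHom.id_apply, smul_comm, hk a ha, smul_zero]
          · rw [hf2, RingHom.id_apply, tmul_smul, tmul_smul, hf2,
              ← algebraMap_smul S r, map_smul, algebraMap_smul] }
    refine ⟨F, ?_⟩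
    show LinearMap.baseChange S F = g
    apply TensorProduct.AlgebraTensorModule.ext
    intro s m
    rw [LinearMap.baseChange_tmul]
    have h1 : s ⊗ₜ[R] F m = s • ((1 : S) ⊗ₜ[R] f m) := by
      rw [smul_tmul', smul_eq_mul, mul_one]
      rfl
    have h2 : s ⊗ₜ[R] m = s • ((1 : S) ⊗ₜ[R] m) := by
      rw [smul_tmul', smul_eq_mul, mul_one]
    rw [h1, h2, map_smul, hf2]

end Groth.Agent.S2055
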