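import Groth.Statements.S2058
import Mathlib
import Groth.Agent.Lib.Helper28DepthLoc
import Groth.Agent.Lib.Helper5RLR

set_option autoImplicit false
universe u
open CAlg

namespace Groth.Agent.S2058

open IsLocalRing
open scoped Pointwise

/-- Case A: the maximal ideal is an associated prime of `R`. -/
theorem caseA {R : Type u} [CommRing R] [IsLocalRing R] [IsNoetherianRing R]
    (h1 : ¬ IsArtinianRing R) (hm : maximalIdeal R ∈ associatedPrimes R R) :
    ∃ (R' : Type u) (_ : CommRing R') (_ : Algebra R R'), Nontrivial R' ∧ Module.Finite R R' ∧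
      ¬ Function.Bijective (algebraMap R R') ∧
      (∃ n : ℕ, (∀ x : R, algebraMap R R' x = 0 → ∀ a ∈ IsLocalRing.maximalIdeal R ^ n, a * x = 0) ∧
        (∀ y : R', ∀ a ∈ IsLocalRing.maximalIdeal R ^ n, a • y ∈ Set.range (algebraMap R R'))) ∧
      IsLocalRing.maximalIdeal R ∉ associatedPrimes R R' := by
  obtain ⟨-, z, hz⟩ := (isAssociatedPrime_iff (M := R)).mp hm
  have hzm : ∀ a ∈ maximalIdeal R, a * z = 0 := by
    intro a ha
    rw [hz, Submodule.mem_colon_singleton] at ha
    simpa using ha
  have hz0 : z ≠ 0 := by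
    rintro rfl
    have : (1 : R) ∈ maximalIdeal R := by
      rw [hz, Submodule.mem_colon_singleton]; simp
    exact (Ideal.ne_top_iff_one _).mp (IsLocalRing.maximalIdeal.isMaximal R).ne_top this
  -- the chain of annihilators
  let J : ℕ →o Ideal R :=
    ⟨fun n => Submodule.annihilator (maximalIdeal R ^ n), fun a b hab =>
      Submodule.annihilator_mono (Ideal.pow_le_pow_right hab)⟩
  obtain ⟨N₀, hN₀⟩ := monotone_stabilizes_iff_noetherian.mpr (inferInstance : IsNoetherian R R) J
  set N := max N₀ 1 with hN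
  have hN1 : 1 ≤ N := le_max_right _ _
  have hstab : J (N + 1) = J N := by
    rw [← hN₀ N (le_max_left _ _), ← hN₀ (N + 1) ((le_max_left _ _).trans (Nat.le_succ _))]
  have hJmem : ∀ r : R, r ∈ J N ↔ ∀ b ∈ maximalIdeal R ^ N, r * b = 0 := by
    intro r
    change r ∈ Submodule.annihilator (maximalIdeal R ^ N) ↔ _
    rw [Submodule.mem_annihilator]
    simp only [smul_eq_mul]
  have hJne : J N ≠ ⊤ := by
    intro htop
    apply h1
    rw [isArtinianRing_iff_isNilpotent_maximalIdeal]
    refine ⟨N, ?_⟩
    rw [Ideal.zero_eq_bot, eq_bot_iff]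
    intro b hb
    have h1' : (1 : R) ∈ J N := by rw [htop]; trivial
    have := (hJmem 1).mp h1' b hb
    simpa using this
  have hzJ : z ∈ J N := by
    rw [hJmem]
    intro b hb
    have hb' : b ∈ maximalIdeal R := by
      have := Ideal.pow_le_pow_right (I := maximalIdeal R) hN1 hb
      simpa using this
    rw [mul_comm]; exact hzm b hb'
  refine ⟨R ⧸ J N, inferInstance, inferInstance, Ideal.Quotient.nontrivial_iff.mpr hJne, inferInstance, ?_,
    ⟨N, ?_, ?_⟩, ?_⟩
  · intro hbij
    apply hz0
    apply hbij.1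
    rw [map_zero]
    exact Ideal.Quotient.eq_zero_iff_mem.mpr hzJ
  · intro x hx a ha
    have hxJ : x ∈ J N := Ideal.Quotient.eq_zero_iff_mem.mp hx
    rw [mul_comm]
    exact (hJmem x).mp hxJ a ha
  · intro y a _
    obtain ⟨r, hr⟩ := Ideal.Quotient.mk_surjective (a • y)
    exact ⟨r, hr⟩
  · intro hass
    obtain ⟨-, y', hy'⟩ := (isAssociatedPrime_iff (M := R ⧸ J N)).mp hass
    obtain ⟨y, rfl⟩ := Ideal.Quotient.mk_surjective y'
    have hyJ : y ∈ J (N + 1) := by
      change y ∈ Submodule.annihilator (maximalIdeal R ^ (N + 1))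
      rw [Submodule.mem_annihilator]
      intro c hc
      rw [pow_succ'] at hc
      refine Submodule.mul_induction_on hc ?_ ?_
      · intro a ha b hb
        have ha' : a ∈ (⊥ : Submodule R (R ⧸ J N)).colon {Ideal.Quotient.mk (J N) y} := hy' ▸ ha
        rw [Submodule.mem_colon_singleton, Submodule.mem_bot] at ha'
        have : a * y ∈ J N := by
          apply Ideal.Quotient.eq_zero_iff_mem.mp
          rw [map_mul]
          simpa [Algebra.smul_def] using ha'
        have := (hJmem _).mp this b hb
        simp only [smul_eq_mul]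
        rw [← this]; ring
      · intro c₁ c₂ h₁ h₂
        rw [smul_add, h₁, h₂, add_zero]
    rw [hstab] at hyJ
    have : Ideal.Quotient.mk (J N) y = 0 := Ideal.Quotient.eq_zero_iff_mem.mpr hyJ
    have h1m : (1 : R) ∈ maximalIdeal R := by
      rw [hy', Submodule.mem_colon_singleton, this]; simp
    exact (Ideal.ne_top_iff_one _).mp (IsLocalRing.maximalIdeal.isMaximal R).ne_top h1m

/-- Case B2a: a fractional multiplier `y/x` preserving the maximal ideal. -/
theorem caseB2a {R : Type u} [CommRing R] [IsLocalRing R] [IsNoetherianRing R]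
    (x : R) (hxm : x ∈ maximalIdeal R) (hxreg : IsSMulRegular R x)
    (y : R) (hy : ∀ r : R, y ≠ x * r)
    (hmy : ∀ a ∈ maximalIdeal R, ∃ b ∈ maximalIdeal R, a * y = x * b) :
    ∃ (R' : Type u) (_ : CommRing R') (_ : Algebra R R'), Nontrivial R' ∧ Module.Finite R R' ∧
      ¬ Function.Bijective (algebraMap R R') ∧
      (∃ n : ℕ, (∀ x : R, algebraMap R R' x = 0 → ∀ a ∈ IsLocalRing.maximalIdeal R ^ n, a * x = 0) ∧
        (∀ y : R', ∀ a ∈ IsLocalRing.maximalIdeal R ^ n, a • y ∈ Set.range (algebraMap R R'))) ∧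
      IsLocalRing.maximalIdeal R ∉ associatedPrimes R R' := by
  classical
  have hxnzd : x ∈ nonZeroDivisors R :=
    isRegular_iff_mem_nonZeroDivisors.mp (isLeftRegular_iff_isRegular.mp (isLeftRegular_iff.mpr hxreg))
  have hinj : Function.Injective (algebraMap R (Localization.Away x)) :=
    IsLocalization.injective (Localization.Away x) (M := Submonoid.powers x)
      (Submonoid.powers_le.mpr hxnzd)
  have hxu : IsUnit (algebraMap R (Localization.Away x) x) :=
    IsLocalization.Away.algebraMap_isUnit x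
  obtain ⟨t, ht⟩ : ∃ t : Localization.Away x,
      algebraMap R (Localization.Away x) x * t = algebraMap R (Localization.Away x) y := by
    obtain ⟨v, hv⟩ := hxu
    refine ⟨↑v⁻¹ * algebraMap R (Localization.Away x) y, ?_⟩
    rw [← hv, ← mul_assoc, Units.mul_inv, one_mul]
  have hcancel : ∀ c₁ c₂ : Localization.Away x, x • c₁ = x • c₂ → c₁ = c₂ := by
    intro c₁ c₂ h
    rw [Algebra.smul_def, Algebra.smul_def] at h
    exact hxu.mul_left_cancel h
  have key : ∀ z ∈ Algebra.adjoin R {t}, ∀ a ∈ maximalIdeal R,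
      ∃ b ∈ maximalIdeal R, a • z = algebraMap R (Localization.Away x) b := by
    intro z hz
    induction hz using Algebra.adjoin_induction with
    | mem z hz =>
      rw [Set.mem_singleton_iff] at hz
      subst hz
      intro a ha
      obtain ⟨b, hb, hab⟩ := hmy a ha
      refine ⟨b, hb, ?_⟩
      apply hxu.mul_left_cancel
      rw [Algebra.smul_def, ← mul_assoc, mul_comm (algebraMap R _ x), mul_assoc, ht, ← map_mul,
        ← map_mul, hab]
    | algebraMap r =>
      intro a ha
      exact ⟨a * r, Ideal.mul_mem_right _ _ ha, by rw [Algebra.smul_def, map_mul]⟩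
    | add z₁ z₂ _ _ h₁ h₂ =>
      intro a ha
      obtain ⟨b₁, hb₁, e₁⟩ := h₁ a ha
      obtain ⟨b₂, hb₂, e₂⟩ := h₂ a ha
      exact ⟨b₁ + b₂, Ideal.add_mem _ hb₁ hb₂, by rw [smul_add, e₁, e₂, map_add]⟩
    | mul z₁ z₂ _ _ h₁ h₂ =>
      intro a ha
      obtain ⟨b₁, hb₁, e₁⟩ := h₁ a ha
      obtain ⟨b₂, hb₂, e₂⟩ := h₂ b₁ hb₁
      exact ⟨b₂, hb₂, by rw [← smul_mul_assoc, e₁, ← Algebra.smul_def, e₂]⟩
  have hfin : Module.Finite R (Algebra.adjoin R {t}) := by
    let P : Submodule R (Localization.Away x) :=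
      LinearMap.range (Algebra.linearMap R (Localization.Away x))
    have : IsNoetherian R P := isNoetherian_of_isNoetherianRing_of_finite R P
    let g : Algebra.adjoin R {t} →ₗ[R] Localization.Away x :=
      (LinearMap.lsmul R (Localization.Away x) x).comp (Subalgebra.val _).toLinearMap
    have hg : ∀ c, g c ∈ P := by
      intro c
      obtain ⟨b, -, hb⟩ := key c c.2 x hxm
      exact ⟨b, hb.symm⟩
    refine Module.Finite.of_injective (g.codRestrict P hg) ?_
    intro c₁ c₂ h
    have h' : x • (c₁ : Localization.Away x) = x • (c₂ : Localization.Away x) :=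
      congrArg Subtype.val h
    exact Subtype.ext (hcancel _ _ h')
  have htmem : t ∈ Algebra.adjoin R {t} := Algebra.subset_adjoin (Set.mem_singleton t)
  refine ⟨Algebra.adjoin R {t}, inferInstance, inferInstance, ?_, hfin, ?_, ⟨1, ?_, ?_⟩, ?_⟩
  · have : Nontrivial (Localization.Away x) := hinj.nontrivial
    infer_instance
  · intro hbij
    obtain ⟨r, hr⟩ := hbij.2 ⟨t, htmem⟩
    have hr' : algebraMap R (Localization.Away x) r = t := congrArg Subtype.val hr
    apply hy r
    apply hinj
    rw [map_mul, hr', ht]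
  · intro r hr a _
    have hr' : algebraMap R (Localization.Away x) r = 0 := congrArg Subtype.val hr
    have : r = 0 := hinj (by rw [hr', map_zero])
    rw [this, mul_zero]
  · intro z a ha
    rw [pow_one] at ha
    obtain ⟨b, -, hb⟩ := key z z.2 a ha
    exact ⟨b, Subtype.ext hb.symm⟩
  · intro hass
    obtain ⟨-, z, hz⟩ := (isAssociatedPrime_iff (M := Algebra.adjoin R {t})).mp hass
    have hxz : x ∈ (⊥ : Submodule R (Algebra.adjoin R {t})).colon {z} := hz ▸ hxm
    rw [Submodule.mem_colon_singleton, Submodule.mem_bot] at hxz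
    have hz0 : z = 0 := by
      apply Subtype.ext
      apply hcancel
      have h0 := congrArg Subtype.val hxz
      simpa using h0
    have h1m : (1 : R) ∈ maximalIdeal R := by
      rw [hz, Submodule.mem_colon_singleton, hz0]; simp
    exact (Ideal.ne_top_iff_one _).mp (IsLocalRing.maximalIdeal.isMaximal R).ne_top h1m

/-- Case B2b: the maximal ideal is generated by one element; contradiction. -/
theorem caseB2b {R : Type u} [CommRing R] [IsLocalRing R] [IsNoetherianRing R]
    (h1 : ¬ IsArtinianRing R) (h2 : ¬ (IsRegularLocalRing R ∧ ringKrullDim R = 1))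
    (x : R) (hxreg : IsSMulRegular R x) (y : R)
    (hmy : ∀ a ∈ maximalIdeal R, ∃ b, a * y = x * b)
    (f : R) (hf : f ∈ maximalIdeal R) (u : R) (hu : IsUnit u) (hfu : f * y = x * u) : False := by
  have hyreg : ∀ t : R, y * t = 0 → t = 0 := by
    intro t ht
    have h : x • (u * t) = x • (0 : R) := by
      simp only [smul_eq_mul, mul_zero]
      rw [← mul_assoc, ← hfu, mul_assoc, ht, mul_zero]
    have := hxreg h
    exact (hu.mul_right_eq_zero).mp this
  have hle : maximalIdeal R ≤ Ideal.span {f} := by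
    intro a ha
    obtain ⟨c, hc⟩ := hmy a ha
    have hua : u * a = f * c := by
      have h0 : y * (u * a - f * c) = 0 := by
        have e : y * (u * a - f * c) = u * (a * y) - (f * y) * c := by ring
        rw [e, hc, hfu]; ring
      exact sub_eq_zero.mp (hyreg _ h0)
    obtain ⟨u', hu'⟩ := hu
    rw [Ideal.mem_span_singleton']
    refine ⟨↑u'⁻¹ * c, ?_⟩
    calc ↑u'⁻¹ * c * f = ↑u'⁻¹ * (f * c) := by ring
      _ = ↑u'⁻¹ * (u * a) := by rw [hua]
      _ = a := by rw [← hu', ← mul_assoc, Units.inv_mul, one_mul]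
  have heq : maximalIdeal R = Ideal.span {f} :=
    le_antisymm hle ((Ideal.span_singleton_le_iff_mem _).mpr hf)
  have hsf : (maximalIdeal R).spanFinrank ≤ 1 := by
    rw [heq]
    have := Submodule.spanFinrank_span_le_ncard_of_finite (R := R) (Set.finite_singleton f)
    simpa using this
  obtain ⟨n, hn⟩ := Groth.Agent.Lib.Helper5.exists_nat_ringKrullDim_eq R
  have hle1 := ringKrullDim_le_spanFinrank_maximalIdeal R
  have hn1 : n ≤ 1 := by
    rw [hn] at hle1
    have h3 : n ≤ (maximalIdeal R).spanFinrank := by exact_mod_cast hle1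
    omega
  have hn0 : n ≠ 0 := by
    rintro rfl
    apply h1
    rw [isArtinianRing_iff_krullDimLE_zero, Ring.krullDimLE_iff, hn]
  have hn' : n = 1 := by omega
  subst hn'
  apply h2
  refine ⟨IsRegularLocalRing.of_spanFinrank_maximalIdeal_le R ?_, by rw [hn]; rfl⟩
  rw [hn]
  exact_mod_cast hsf

/-- Let R be a Noetherian local ring which is not Artinian, is not a regular local ring of dimension
one, and has depth at most one. Then there is a finite ring map R → R' with R' ≠ 0, not bijective,
whose kernel and cokernel are killed by a power of the maximal ideal of R, such that the maximal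
ideal of R is not an associated prime of the R-module R'. (This says that the four cases for a
Noetherian local ring — Artinian, regular of dimension one, depth at least two, or admitting such a
map — cover everything; that they are mutually exclusive is not asserted.) -/
theorem result {R : Type u} [CommRing R] [IsLocalRing R] [IsNoetherianRing R]
    (h1 : ¬ IsArtinianRing R) (h2 : ¬ (IsRegularLocalRing R ∧ ringKrullDim R = 1))
    (h3 : LocCoh.depth R R ≤ 1) :
    ∃ (R' : Type u) (_ : CommRing R') (_ : Algebra R R'), Nontrivial R' ∧ Module.Finite R R' ∧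
      ¬ Function.Bijective (algebraMap R R') ∧
      (∃ n : ℕ, (∀ x : R, algebraMap R R' x = 0 → ∀ a ∈ IsLocalRing.maximalIdeal R ^ n, a * x = 0) ∧
        (∀ y : R', ∀ a ∈ IsLocalRing.maximalIdeal R ^ n, a • y ∈ Set.range (algebraMap R R'))) ∧
      IsLocalRing.maximalIdeal R ∉ associatedPrimes R R' := by
  have hne : maximalIdeal R • (⊤ : Submodule R R) ≠ ⊤ :=
    Groth.Agent.Lib.Helper28.maximalIdeal_smul_top_ne_top
  have hmax : ∀ p : Ideal R, p.IsPrime → maximalIdeal R ≤ p → p = maximalIdeal R := by
    intro p hp hmp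
    exact ((IsLocalRing.maximalIdeal.isMaximal R).eq_of_le hp.ne_top hmp).symm
  by_cases h0 : LocCoh.depth R R = 0
  · obtain ⟨p, hp, hmp⟩ := (Groth.Agent.Lib.Helper28.idealDepth_eq_zero_iff hne).mp h0
    have hpm := hmax p (AssociatedPrimes.mem_iff.mp hp).isPrime hmp
    rw [hpm] at hp
    exact caseA h1 hp
  · have h1le : 1 ≤ LocCoh.depth R R := Order.one_le_iff_ne_zero.mpr h0
    obtain ⟨x, hxm, hxreg⟩ := (Groth.Agent.Lib.Helper28.one_le_idealDepth_iff hne).mp h1le
    have hadd := Groth.Agent.Lib.Helper28.idealDepth_quotSMulTop_add_one (maximalIdeal R) R hne x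
      hxm hxreg
    have hd0 : LocCoh.idealDepth (maximalIdeal R) (QuotSMulTop x R) = 0 := by
      have hle : LocCoh.idealDepth (maximalIdeal R) (QuotSMulTop x R) + 1 ≤ 0 + 1 := by
        rw [hadd, zero_add]; exact h3
      have := (ENat.add_le_add_iff_right ENat.one_ne_top).mp hle
      exact nonpos_iff_eq_zero.mp this
    have hne' : maximalIdeal R • (⊤ : Submodule R (QuotSMulTop x R)) ≠ ⊤ :=
      Groth.Agent.Lib.Helper28.smul_top_quotSMulTop_ne_top hxm hne
    obtain ⟨p, hp, hmp⟩ := (Groth.Agent.Lib.Helper28.idealDepth_eq_zero_iff hne').mp hd0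
    have hpm := hmax p (AssociatedPrimes.mem_iff.mp hp).isPrime hmp
    rw [hpm] at hp
    obtain ⟨-, y', hy'⟩ := (isAssociatedPrime_iff (M := QuotSMulTop x R)).mp hp
    obtain ⟨y, rfl⟩ := Submodule.Quotient.mk_surjective _ y'
    have hmemx : ∀ w : R, Submodule.Quotient.mk (p := x • (⊤ : Submodule R R)) w = 0 ↔
        ∃ b, w = x * b := by
      intro w
      rw [Submodule.Quotient.mk_eq_zero, Submodule.mem_smul_pointwise_iff_exists]
      constructor
      · rintro ⟨b, -, hb⟩; exact ⟨b, by rw [← hb, smul_eq_mul]⟩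
      · rintro ⟨b, hb⟩; exact ⟨b, trivial, by rw [hb, smul_eq_mul]⟩
    have hy : ∀ r : R, y ≠ x * r := by
      intro r hr
      have hy0 : Submodule.Quotient.mk (p := x • (⊤ : Submodule R R)) y = 0 :=
        (hmemx y).mpr ⟨r, hr⟩
      have h1m : (1 : R) ∈ maximalIdeal R := by
        rw [hy', Submodule.mem_colon_singleton, hy0]; simp
      exact (Ideal.ne_top_iff_one _).mp (IsLocalRing.maximalIdeal.isMaximal R).ne_top h1m
    have hmy : ∀ a ∈ maximalIdeal R, ∃ b, a * y = x * b := by
      intro a ha
      have ha' : a ∈ (⊥ : Submodule R (QuotSMulTop x R)).colon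
          {Submodule.Quotient.mk (p := x • (⊤ : Submodule R R)) y} := hy' ▸ ha
      rw [Submodule.mem_colon_singleton, Submodule.mem_bot, ← Submodule.Quotient.mk_smul] at ha'
      exact (hmemx _).mp ha'
    by_cases hcase : ∀ a ∈ maximalIdeal R, ∃ b ∈ maximalIdeal R, a * y = x * b
    · exact caseB2a x hxm hxreg y hy hcase
    · push Not at hcase
      obtain ⟨f, hf, hfn⟩ := hcase
      obtain ⟨u, hu⟩ := hmy f hf
      have huu : IsUnit u := by
        by_contra hnu
        exact hfn u ((IsLocalRing.mem_maximalIdeal u).mpr hnu) hu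
      exact (caseB2b h1 h2 x hxreg y hmy f hf u huu hu).elim

end Groth.Agent.S2058
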