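import Groth.Statements.S2094
import Mathlib.RingTheory.Smooth.Basic
import Mathlib.LinearAlgebra.SymmetricAlgebra.Basis
import Mathlib.Algebra.TrivSqZeroExt.Basic
import Mathlib.RingTheory.FinitePresentation

set_option autoImplicit false
universe u
open CAlg

namespace Groth.Agent.S2094

section Helpers

variable {A M : Type u} [CommRing A] [AddCommGroup M] [Module A M]

theorem formallySmooth_of_projective [Module.Projective A M] :
    Algebra.FormallySmooth A (SymmetricAlgebra A M) := by
  apply Algebra.FormallySmooth.of_comp_surjective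
  intro B _ _ I hI g
  have hsurj : Function.Surjective (Ideal.Quotient.mkₐ A I).toLinearMap :=
    Ideal.Quotient.mk_surjective
  obtain ⟨h, hh⟩ := Module.projective_lifting_property (Ideal.Quotient.mkₐ A I).toLinearMap
    (g.toLinearMap ∘ₗ SymmetricAlgebra.ι A M) hsurj
  refine ⟨SymmetricAlgebra.lift h, ?_⟩
  apply SymmetricAlgebra.algHom_ext
  ext m
  have := congr($hh m)
  simpa using this

theorem finitePresentation_of_finite_projective [Module.Finite A M] [Module.Projective A M] :
    Algebra.FinitePresentation A (SymmetricAlgebra A M) := by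
  obtain ⟨n, f, g, hf, hg, hfg⟩ := Module.Finite.exists_comp_eq_id_of_projective A M
  let P := MvPolynomial (Fin n) A
  -- the linear map `(Fin n → A) → P`, `v ↦ ∑ v j • X j`
  let lin : (Fin n → A) →ₗ[A] P := (Pi.basisFun A (Fin n)).constr A (fun j => (MvPolynomial.X j : P))
  let r : P →ₐ[A] SymmetricAlgebra A M :=
    MvPolynomial.aeval (fun j => SymmetricAlgebra.ι A M (f (Pi.single j 1)))
  let i : SymmetricAlgebra A M →ₐ[A] P := SymmetricAlgebra.lift (lin ∘ₗ g)
  have hlin : ∀ v : Fin n → A, r (lin v) = SymmetricAlgebra.ι A M (f v) := by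
    intro v
    have h1 : r.toLinearMap ∘ₗ lin = SymmetricAlgebra.ι A M ∘ₗ f := by
      apply (Pi.basisFun A (Fin n)).ext
      intro j
      simp only [LinearMap.coe_comp, Function.comp_apply, AlgHom.toLinearMap_apply, lin,
        Module.Basis.constr_basis, r, MvPolynomial.aeval_X]
      simp only [Pi.basisFun_apply]
      exact MvPolynomial.aeval_X _ j
    exact congr($h1 v)
  have hri : r.comp i = AlgHom.id A _ := by
    apply SymmetricAlgebra.algHom_ext
    ext m
    have : f (g m) = m := congr($hfg m)
    simp [i, hlin, this]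
  have hr : Function.Surjective r := fun x => ⟨i x, congr($hri x)⟩
  refine Algebra.FinitePresentation.of_surjective hr ?_
  let K : Ideal P := Ideal.span (Set.range fun j : Fin n => (MvPolynomial.X j : P) - i (r (MvPolynomial.X j)))
  have hK : RingHom.ker r.toRingHom = K := by
    apply le_antisymm
    · intro p hp
      have hp' : r p = 0 := hp
      have key : (Ideal.Quotient.mkₐ A K) = (Ideal.Quotient.mkₐ A K).comp (i.comp r) := by
        apply MvPolynomial.algHom_ext
        intro j
        simp only [AlgHom.comp_apply, Ideal.Quotient.mkₐ_eq_mk]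
        rw [Ideal.Quotient.eq]
        exact Ideal.subset_span ⟨j, rfl⟩
      have := congr($key p)
      simp only [AlgHom.comp_apply, hp', map_zero, Ideal.Quotient.mkₐ_eq_mk] at this
      exact Ideal.Quotient.eq_zero_iff_mem.mp this
    · rw [Ideal.span_le]
      rintro _ ⟨j, rfl⟩
      change r _ = 0
      rw [map_sub]
      have := congr($hri (r (MvPolynomial.X j)))
      simp only [AlgHom.comp_apply, AlgHom.id_apply] at this
      rw [this, sub_self]
  rw [hK]
  classical
  exact ⟨Finset.univ.image (fun j : Fin n => (MvPolynomial.X j : P) - i (r (MvPolynomial.X j))),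
    by simp [K]⟩

theorem projective_of_formallySmooth_aux [Module Aᵐᵒᵖ M] [IsCentralScalar A M]
    [Algebra.FormallySmooth A (SymmetricAlgebra A M)] : Module.Projective A M := by
  let F := M →₀ A
  let π : F →ₗ[A] M := Finsupp.linearCombination A id
  have hπ : Function.Surjective π := fun x ↦ ⟨Finsupp.single x 1,
    (Finsupp.linearCombination_single A 1 x).trans (one_smul _ _)⟩
  let φ : TrivSqZeroExt A F →ₐ[A] TrivSqZeroExt A M := TrivSqZeroExt.map π
  have hφ : Function.Surjective φ := by
    intro x
    obtain ⟨y, hy⟩ := hπ x.snd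
    refine ⟨TrivSqZeroExt.inl x.fst + TrivSqZeroExt.inr y, ?_⟩
    simp [φ, hy, TrivSqZeroExt.inl_fst_add_inr_snd_eq]
  let I : Ideal (TrivSqZeroExt A F) := RingHom.ker φ.toRingHom
  have hfst : ∀ a ∈ I, a.fst = 0 := by
    intro a ha
    have h1 : φ a = 0 := ha
    have := congr(TrivSqZeroExt.fst $h1)
    simpa [φ] using this
  have hI : I ^ 2 = ⊥ := by
    rw [pow_two, eq_bot_iff, Ideal.mul_le]
    intro a ha b hb
    have ha' := hfst a ha
    have hb' := hfst b hb
    show a * b = 0
    ext <;> simp [ha', hb']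
  let e := Ideal.quotientKerAlgEquivOfSurjective hφ
  let α : SymmetricAlgebra A M →ₐ[A] TrivSqZeroExt A M :=
    SymmetricAlgebra.lift (TrivSqZeroExt.inrHom A M)
  obtain ⟨β, hβ⟩ := Algebra.FormallySmooth.comp_surjective A (SymmetricAlgebra A M) I hI
    (e.symm.toAlgHom.comp α)
  let s : M →ₗ[A] F := TrivSqZeroExt.sndHom A F ∘ₗ β.toLinearMap ∘ₗ SymmetricAlgebra.ι A M
  refine Module.Projective.of_split s π ?_
  ext m
  have h1 := congr($hβ (SymmetricAlgebra.ι A M m))
  have h2 := congr(e $h1)
  simp only [AlgHom.comp_apply, α, SymmetricAlgebra.lift_ι_apply] at h2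
  have h3 : φ (β (SymmetricAlgebra.ι A M m)) = TrivSqZeroExt.inr m := by
    refine Eq.trans ?_ (h2.trans (e.apply_symm_apply _))
    rfl
  have h4 := congr(TrivSqZeroExt.snd $h3)
  simpa [φ, s] using h4

theorem projective_of_formallySmooth
    [Algebra.FormallySmooth A (SymmetricAlgebra A M)] : Module.Projective A M := by
  letI : Module Aᵐᵒᵖ M := Module.compHom _ ((RingHom.id A).fromOpposite mul_comm)
  haveI : IsCentralScalar A M := ⟨fun r m => rfl⟩
  exact projective_of_formallySmooth_aux

/-- Every element of the symmetric algebra lies in the subalgebra generated by a finitely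
generated submodule. -/
theorem exists_fg_mem_adjoin (x : SymmetricAlgebra A M) :
    ∃ N : Submodule A M, N.FG ∧ x ∈ Algebra.adjoin A (SymmetricAlgebra.ι A M '' (N : Set M)) := by
  induction x using SymmetricAlgebra.induction with
  | algebraMap r => exact ⟨⊥, Submodule.fg_bot, Subalgebra.algebraMap_mem _ r⟩
  | ι m =>
    exact ⟨Submodule.span A {m}, Submodule.fg_span_singleton m,
      Algebra.subset_adjoin ⟨m, Submodule.mem_span_singleton_self m, rfl⟩⟩
  | mul a b ha hb =>
    obtain ⟨N₁, h₁, ha⟩ := ha
    obtain ⟨N₂, h₂, hb⟩ := hb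
    refine ⟨N₁ ⊔ N₂, h₁.sup h₂, mul_mem ?_ ?_⟩
    · exact Algebra.adjoin_mono (Set.image_mono (SetLike.coe_subset_coe.mpr le_sup_left)) ha
    · exact Algebra.adjoin_mono (Set.image_mono (SetLike.coe_subset_coe.mpr le_sup_right)) hb
  | add a b ha hb =>
    obtain ⟨N₁, h₁, ha⟩ := ha
    obtain ⟨N₂, h₂, hb⟩ := hb
    refine ⟨N₁ ⊔ N₂, h₁.sup h₂, add_mem ?_ ?_⟩
    · exact Algebra.adjoin_mono (Set.image_mono (SetLike.coe_subset_coe.mpr le_sup_left)) ha
    · exact Algebra.adjoin_mono (Set.image_mono (SetLike.coe_subset_coe.mpr le_sup_right)) hb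

theorem exists_fg_adjoin_eq_top [Algebra.FiniteType A (SymmetricAlgebra A M)] :
    ∃ N : Submodule A M, N.FG ∧ Algebra.adjoin A (SymmetricAlgebra.ι A M '' (N : Set M)) = ⊤ := by
  obtain ⟨S, hS⟩ := (Algebra.FiniteType.out : (⊤ : Subalgebra A (SymmetricAlgebra A M)).FG)
  classical
  choose N hN hmem using fun x : SymmetricAlgebra A M => exists_fg_mem_adjoin x
  refine ⟨S.sup N, ?_, ?_⟩
  · clear hS
    induction S using Finset.induction_on with
    | empty => simpa using Submodule.fg_bot
    | insert a s ha ih =>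
      rw [Finset.sup_insert]
      exact (hN a).sup ih
  · rw [eq_top_iff, ← hS]
    apply Algebra.adjoin_le
    intro x hx
    exact Algebra.adjoin_mono (Set.image_mono (SetLike.coe_subset_coe.mpr
      (Finset.le_sup (f := N) hx))) (hmem x)

theorem finite_of_finiteType_aux {Q : Type u} [AddCommGroup Q] [Module A Q] [Module Aᵐᵒᵖ Q]
    [IsCentralScalar A Q] (q : M →ₗ[A] Q) (N : Submodule A M) (hq : N ≤ LinearMap.ker q)
    (hN : Algebra.adjoin A (SymmetricAlgebra.ι A M '' (N : Set M)) = ⊤) : q = 0 := by
  let ψ : SymmetricAlgebra A M →ₐ[A] TrivSqZeroExt A Q :=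
    SymmetricAlgebra.lift (TrivSqZeroExt.inrHom A Q ∘ₗ q)
  let ψ₀ : SymmetricAlgebra A M →ₐ[A] TrivSqZeroExt A Q :=
    SymmetricAlgebra.lift 0
  have h : ψ = ψ₀ := by
    apply AlgHom.ext_of_adjoin_eq_top hN
    rintro _ ⟨m, hm, rfl⟩
    have : q m = 0 := hq hm
    simp [ψ, ψ₀, this]
  ext m
  have h1 := congr(TrivSqZeroExt.snd ($h (SymmetricAlgebra.ι A M m)))
  simpa [ψ, ψ₀] using h1

theorem finite_of_finiteType [Algebra.FiniteType A (SymmetricAlgebra A M)] :
    Module.Finite A M := by
  obtain ⟨N, hfg, hN⟩ := exists_fg_adjoin_eq_top (A := A) (M := M)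
  letI : Module Aᵐᵒᵖ (M ⧸ N) := Module.compHom _ ((RingHom.id A).fromOpposite mul_comm)
  haveI : IsCentralScalar A (M ⧸ N) := ⟨fun r m => rfl⟩
  have h := finite_of_finiteType_aux N.mkQ N (by simp) hN
  have hN' : N = ⊤ := by
    rw [← Submodule.ker_mkQ N, h, LinearMap.ker_zero]
  rw [Module.finite_def, ← hN']
  exact hfg

end Helpers


/-- The symmetric algebra of an `A`-module is a smooth `A`-algebra exactly when the module is finite
projective. -/
theorem result {A M : Type u} [CommRing A] [AddCommGroup M] [Module A M] :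
    Algebra.Smooth A (SymmetricAlgebra A M) ↔ Module.Finite A M ∧ Module.Projective A M := by
  constructor
  · intro h
    haveI := h.formallySmooth
    haveI := h.finitePresentation
    haveI : Algebra.FiniteType A (SymmetricAlgebra A M) := inferInstance
    exact ⟨finite_of_finiteType, projective_of_formallySmooth⟩
  · rintro ⟨h1, h2⟩
    exact { formallySmooth := formallySmooth_of_projective
            finitePresentation := finitePresentation_of_finite_projective }

end Groth.Agent.S2094
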