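import Groth.Statements.S2106
import Groth.Agent.Lib.H9FCM8
import Groth.Agent.Lib.H9FCM12
import Groth.Agent.Lib.H9FCM13

set_option autoImplicit false
universe u
open CAlg

namespace Groth.Agent.S2106

/-- Let `R → S → S'` be local homomorphisms of local rings with `S` and `S'` essentially of finite
presentation over `R`, and `M` a nonzero finitely presented `S'`-module which is flat over `R` and
such that `M/𝔪_R M` is flat over `S/𝔪_R S`. Then `S` is flat over `R` and `M` is flat over `S`. -/
theorem result {R S S' M : Type u} [CommRing R] [CommRing S] [CommRing S']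
    [IsLocalRing R] [IsLocalRing S] [IsLocalRing S'] [Algebra R S] [Algebra S S'] [Algebra R S'] [IsScalarTower R S S']
    [IsLocalHom (algebraMap R S)] [IsLocalHom (algebraMap S S')]
    (hS : CAlgX.IsEssFinitePresentation R S) (hS' : CAlgX.IsEssFinitePresentation R S')
    [AddCommGroup M] [Module S' M] [Module S M] [Module R M] [IsScalarTower S S' M] [IsScalarTower R S' M]
    [IsScalarTower R S M] [Module.FinitePresentation S' M] [Nontrivial M] [Module.Flat R M]
    (hfib : Module.Flat (S ⧸ (IsLocalRing.maximalIdeal R).map (algebraMap R S))
      (M ⧸ (IsLocalRing.maximalIdeal R).map (algebraMap R S) • (⊤ : Submodule S M))) :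
    Module.Flat R S ∧ Module.Flat S M := by
  classical
  obtain ⟨B, iB, aRB, aBS, tRBS, TB, hBfp, hBloc⟩ := hS
  obtain ⟨D, iD, aRD, aDS', tRDS', TD, hDfp, hDloc⟩ := hS'
  -- the composite `B → S → S'` spreads out
  let ψ : B →ₐ[R] S' := (IsScalarTower.toAlgHom R S S').comp (IsScalarTower.toAlgHom R B S)
  obtain ⟨t, ht, θ, hθ⟩ := Groth.Agent.Lib.H9FCM12.exists_away_algHom TD ψ
  have hunit : IsUnit (algebraMap D S' t) := IsLocalization.map_units S' ⟨t, ht⟩
  -- the finitely presented model `C = D[1/t]`
  haveI : Algebra.FinitePresentation D (Localization.Away t) :=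
    IsLocalization.Away.finitePresentation t
  haveI : Algebra.FinitePresentation R (Localization.Away t) :=
    Algebra.FinitePresentation.trans R D (Localization.Away t)
  letI aCS' : Algebra (Localization.Away t) S' :=
    (IsLocalization.Away.lift (S := Localization.Away t) t (g := algebraMap D S') hunit).toAlgebra
  have hCS' : ∀ d : D, algebraMap (Localization.Away t) S' (algebraMap D (Localization.Away t) d) =
      algebraMap D S' d := fun d => IsLocalization.Away.lift_eq t hunit d
  haveI tDCS' : IsScalarTower D (Localization.Away t) S' :=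
    IsScalarTower.of_algebraMap_eq (fun d => (hCS' d).symm)
  haveI tRCS' : IsScalarTower R (Localization.Away t) S' := IsScalarTower.of_algebraMap_eq (fun r => by
    rw [IsScalarTower.algebraMap_apply R D (Localization.Away t), hCS',
      ← IsScalarTower.algebraMap_apply R D S'])
  letI aBC : Algebra B (Localization.Away t) := θ.toRingHom.toAlgebra
  haveI tRBC : IsScalarTower R B (Localization.Away t) :=
    IsScalarTower.of_algebraMap_eq' θ.comp_algebraMap.symm
  have hBC : ∀ b : B, algebraMap (Localization.Away t) S' (algebraMap B (Localization.Away t) b) =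
      algebraMap S S' (algebraMap B S b) := fun b => hθ b
  -- module structures on `M`
  letI mCM : Module (Localization.Away t) M := Module.compHom M (algebraMap (Localization.Away t) S')
  haveI tCS'M : IsScalarTower (Localization.Away t) S' M :=
    IsScalarTower.of_algebraMap_smul (fun _ _ => rfl)
  letI mBM : Module B M := Module.compHom M (algebraMap B S)
  haveI tBSM : IsScalarTower B S M := IsScalarTower.of_algebraMap_smul (fun _ _ => rfl)
  haveI tBCM : IsScalarTower B (Localization.Away t) M := by
    refine IsScalarTower.of_algebraMap_smul (fun b x => ?_)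
    change algebraMap (Localization.Away t) S' (algebraMap B (Localization.Away t) b) • x =
      algebraMap B S b • x
    rw [hBC, algebraMap_smul]
  haveI tRBM : IsScalarTower R B M := by
    refine IsScalarTower.of_algebraMap_smul (fun r x => ?_)
    change algebraMap B S (algebraMap R B r) • x = r • x
    rw [← IsScalarTower.algebraMap_apply R B S, algebraMap_smul]
  haveI tRCM : IsScalarTower R (Localization.Away t) M := by
    refine IsScalarTower.of_algebraMap_smul (fun r x => ?_)
    change algebraMap (Localization.Away t) S' (algebraMap R (Localization.Away t) r) • x = r • x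
    rw [← IsScalarTower.algebraMap_apply R (Localization.Away t) S', algebraMap_smul]
  -- the primes
  haveI hloc' : IsLocalHom (algebraMap R S') := by
    rw [IsScalarTower.algebraMap_eq R S S']
    exact RingHom.isLocalHom_comp _ _
  let P : Ideal (Localization.Away t) :=
    (IsLocalRing.maximalIdeal S').comap (algebraMap (Localization.Away t) S')
  haveI : P.IsPrime := Ideal.comap_isPrime _ _
  have hP : P.under R = IsLocalRing.maximalIdeal R := by
    change ((IsLocalRing.maximalIdeal S').comap (algebraMap (Localization.Away t) S')).comap
      (algebraMap R (Localization.Away t)) = _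
    rw [Ideal.comap_comap, ← IsScalarTower.algebraMap_eq, IsLocalRing.maximalIdeal_comap]
  -- the finitely presented model of `M`
  haveI locC : IsLocalization (TD.map (algebraMap D (Localization.Away t))) S' :=
    IsLocalization.isLocalization_of_submonoid_le (Localization.Away t) S'
      (Submonoid.powers t) TD (Submonoid.powers_le.mpr ht)
  obtain ⟨M₀, iM₀, mM₀, hM₀fp, φ, hφ⟩ :=
    Groth.Agent.Lib.H9FCM13.exists_fp_model_of_module (C := Localization.Away t) (S' := S')
      (M := M) (TD.map (algebraMap D (Localization.Away t)))
  haveI hφP : IsLocalizedModule P.primeCompl φ := by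
    refine ⟨?_, ?_, ?_⟩
    · rintro ⟨c, hc⟩
      have hcu : IsUnit (algebraMap (Localization.Away t) S' c) := by
        by_contra hnu
        exact hc ((IsLocalRing.mem_maximalIdeal _).mpr hnu)
      obtain ⟨u, hu⟩ := hcu
      rw [Module.End.isUnit_iff]
      constructor
      · intro y y' hyy
        have h' : (u : S') • y = (u : S') • y' := by rw [hu]; exact hyy
        have := congrArg (fun z => (u⁻¹ : S'ˣ).1 • z) h'
        simpa [smul_smul] using this
      · intro y
        refine ⟨(u⁻¹ : S'ˣ).1 • y, ?_⟩
        change algebraMap (Localization.Away t) S' c • ((u⁻¹ : S'ˣ).1 • y) = y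
        rw [← hu, smul_smul, Units.mul_inv, one_smul]
    · intro y
      obtain ⟨⟨m, s⟩, hs⟩ := IsLocalizedModule.surj (TD.map (algebraMap D (Localization.Away t))) φ y
      refine ⟨⟨m, ⟨s.1, ?_⟩⟩, hs⟩
      intro hmem
      have hsu : IsUnit (algebraMap (Localization.Away t) S' s.1) :=
        IsLocalization.map_units S' s
      exact (IsLocalRing.mem_maximalIdeal _).mp hmem hsu
    · intro x₁ x₂ hx
      obtain ⟨s, hs⟩ := IsLocalizedModule.exists_of_eq
        (S := TD.map (algebraMap D (Localization.Away t))) hx
      refine ⟨⟨s.1, ?_⟩, hs⟩
      intro hmem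
      have hsu : IsUnit (algebraMap (Localization.Away t) S' s.1) :=
        IsLocalization.map_units S' s
      exact (IsLocalRing.mem_maximalIdeal _).mp hmem hsu
  -- the fibre hypothesis over `B`
  haveI flatBS : Module.Flat B S := IsLocalization.flat S TB
  have hJ : (IsLocalRing.maximalIdeal R).map (algebraMap R S) =
      ((IsLocalRing.maximalIdeal R).map (algebraMap R B)).map (algebraMap B S) := by
    rw [Ideal.map_map, ← IsScalarTower.algebraMap_eq]
  have hfibB := Groth.Agent.Lib.H9FCM8.flat_quotient_tensor_of_flat_quotient
    (B := B) (By := S) (X := M) _ _ hJ hfib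
  -- the core
  have hBM : Module.Flat B M :=
    Groth.Agent.Lib.H9FCM8.flat_of_fibre_flat_of_isLocalizedModule (A := R) (B := B)
      (C := Localization.Away t) (M := M₀) (X := M) (IsLocalRing.maximalIdeal R) P hP φ hfibB
      inferInstance
  haveI hSM : Module.Flat S M := (Module.flat_iff_of_isLocalization S TB M).mpr hBM
  exact ⟨Groth.Agent.Lib.H9FCM8.flat_of_flat_of_finite_of_isLocalHom (R := R) (S := S)
    (S' := S') (M := M), hSM⟩

end Groth.Agent.S2106
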