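import Groth.Statements.S2115
import Groth.Agent.Lib.R2H3FPExtend
import Groth.Agent.Lib.Helper18Strict6

set_option autoImplicit false
universe u
open CategoryTheory AlgebraicGeometry
open Mor

namespace Groth.Agent.S2115

/-- Let `X` be quasi-compact and quasi-separated, `F` a quasi-coherent `O_X`-module, `U ⊆ X` a
quasi-compact open and `G` a finitely presented `O_U`-module with a map `φ : G → F|_U`. Then there
are a finitely presented `O_X`-module `G'` with a map `φ' : G' → F` and an isomorphism `G'|_U ≅ G`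
identifying `φ'|_U` with `φ`. -/
theorem result (X : Scheme.{u}) [CompactSpace X] [QuasiSeparatedSpace X]
    (F : X.Modules) (hF : Coh.IsQCoh F) (U : X.Opens) (hU : IsCompact (U : Set X)) (G : (U : Scheme.{u}).Modules)
    (hG : CohB1.IsFP G) (φ : G ⟶ F.restrict U.ι) :
    ∃ (G' : X.Modules) (φ' : G' ⟶ F) (e : G'.restrict U.ι ≅ G), CohB1.IsFP G' ∧
      e.hom ≫ φ = (Scheme.Modules.restrictFunctor U.ι).map φ' := by
  have hFq : F.IsQuasicoherent := hF
  have hGfp : SheafOfModules.IsFinitePresentation (R := (U : Scheme.{u}).ringCatSheaf) G := hG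
  have hGq : G.IsQuasicoherent := Groth.Agent.Helper18Strict.isQCoh_of_isFP G hG
  have hcU : CompactSpace ↥(U : Scheme.{u}) := isCompact_iff_compactSpace.mp hU
  have hqc : QuasiCompact U.ι := quasiCompact_of_compactSpace U.ι
  obtain ⟨H, ψ, e, hHq, hcomp, -, -⟩ := Groth.Agent.Lib.Helper23.Extend.exists_extension' U.ι F G φ
  have := hHq
  have hHr : SheafOfModules.IsFinitePresentation (R := (U : Scheme.{u}).ringCatSheaf) (H.restrict U.ι) :=
    (SheafOfModules.isFinitePresentation (U : Scheme.{u}).ringCatSheaf).prop_of_iso e.symm hGfp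
  have hHU : Groth.Agent.Lib.R2H3.FPExtend.FPOn H U := by
    have h1 := Groth.Agent.Lib.R2H3.FPExtend.fpOn_of_isFinitePresentation_restrict U.ι H
    rw [Scheme.Opens.opensRange_ι] at h1
    exact h1
  obtain ⟨G', θ, hG'q, hG'fp, hiso⟩ := Groth.Agent.Lib.R2H3.FPExtend.exists_fp_isoOn H U hU hHU
  have hθ : IsIso ((Scheme.Modules.restrictFunctor U.ι).map θ) :=
    (Groth.Agent.Lib.Helper23.Extend.isIso_restrict_iff U.ι θ).2 (by
      rw [Scheme.Opens.opensRange_ι]
      exact hiso)
  refine ⟨G', θ ≫ ψ, asIso ((Scheme.Modules.restrictFunctor U.ι).map θ) ≪≫ e, hG'fp, ?_⟩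
  rw [Iso.trans_hom, asIso_hom, Category.assoc, hcomp, ← Functor.map_comp]

end Groth.Agent.S2115
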