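import Groth.Statements.S2118
import Mathlib.RingTheory.Flat.EquationalCriterion
import Mathlib.Algebra.Category.ModuleCat.FilteredColimits
import Mathlib.CategoryTheory.Presentable.Directed
import Mathlib.CategoryTheory.Limits.Final
import Mathlib.CategoryTheory.Limits.Types.Filtered
import Mathlib.LinearAlgebra.Finsupp.SumProd
-- import your own Groth.Agent.* helpers here

set_option autoImplicit false
universe u
open CategoryTheory
open CAlg

namespace Groth.Agent.S2118

section Cat

variable (R : Type u) [CommRing R] (M : Type u) [AddCommGroup M] [Module R M]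

/-- Objects: finite free modules `R^n` with a map to `M`. -/
structure Obj : Type u where
  n : ℕ
  x : (Fin n →₀ R) →ₗ[R] M

variable {R M}

/-- Morphisms: linear maps commuting with the maps to `M`. -/
structure Hom (X Y : Obj R M) : Type u where
  a : (Fin X.n →₀ R) →ₗ[R] (Fin Y.n →₀ R)
  comm : Y.x ∘ₗ a = X.x

@[ext] theorem Hom.ext' {X Y : Obj R M} {f g : Hom X Y} (h : f.a = g.a) : f = g := by
  cases f; cases g; congr

noncomputable instance : Category (Obj R M) where
  Hom := Hom
  id X := ⟨LinearMap.id, by simp⟩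
  comp f g := ⟨g.a ∘ₗ f.a, by rw [← LinearMap.comp_assoc, g.comm, f.comm]⟩

@[simp] theorem comp_a {X Y Z : Obj R M} (f : X ⟶ Y) (g : Y ⟶ Z) : (f ≫ g).a = g.a ∘ₗ f.a := rfl
@[simp] theorem id_a (X : Obj R M) : (𝟙 X : X ⟶ X).a = LinearMap.id := rfl

end Cat


section Filtered

variable {R : Type u} [CommRing R] {M : Type u} [AddCommGroup M] [Module R M]

/-- the sum of two objects -/
noncomputable def sumEquiv (n m : ℕ) : (Fin (n + m) →₀ R) ≃ₗ[R] ((Fin n →₀ R) × (Fin m →₀ R)) :=
  (Finsupp.domLCongr finSumFinEquiv.symm).trans (Finsupp.sumFinsuppLEquivProdFinsupp R)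

noncomputable def sumObj (X Y : Obj R M) : Obj R M where
  n := X.n + Y.n
  x := (X.x.coprod Y.x) ∘ₗ (sumEquiv X.n Y.n).toLinearMap

noncomputable def sumInl (X Y : Obj R M) : X ⟶ sumObj X Y where
  a := (sumEquiv X.n Y.n).symm.toLinearMap ∘ₗ LinearMap.inl R _ _
  comm := by
    ext i
    simp [sumObj]

noncomputable def sumInr (X Y : Obj R M) : Y ⟶ sumObj X Y where
  a := (sumEquiv X.n Y.n).symm.toLinearMap ∘ₗ LinearMap.inr R _ _
  comm := by
    ext i
    simp [sumObj]

instance : Nonempty (Obj R M) := ⟨⟨0, 0⟩⟩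

theorem isFiltered [Module.Flat R M] : IsFiltered (Obj R M) where
  cocone_objs X Y := ⟨sumObj X Y, sumInl X Y, sumInr X Y, trivial⟩
  cocone_maps {X Y} f g := by
    have h : Y.x ∘ₗ (f.a - g.a) = 0 := by
      rw [LinearMap.comp_sub, f.comm, g.comm, sub_self]
    obtain ⟨k, a, y, hy, ha⟩ := Module.Flat.exists_factorization_of_comp_eq_zero_of_free h
    refine ⟨⟨k, y⟩, ⟨a, hy.symm⟩, ?_⟩
    apply Hom.ext'
    rw [LinearMap.comp_sub] at ha
    exact sub_eq_zero.mp ha

end Filtered


section Colim

open CategoryTheory.Limits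

variable (R : Type u) [CommRing R] (M : Type u) [AddCommGroup M] [Module R M]

/-- the tautological diagram of finite free modules -/
noncomputable def G : Obj R M ⥤ ModuleCat.{u} R where
  obj X := ModuleCat.of R (Fin X.n →₀ R)
  map f := ModuleCat.ofHom f.a
  map_id _ := rfl
  map_comp _ _ := rfl

/-- the tautological cocone -/
noncomputable def coconeG : Cocone (G R M) where
  pt := ModuleCat.of R M
  ι := { app := fun X => ModuleCat.ofHom X.x
         naturality := by
           intro X Y f
           ext : 1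
           simp only [Functor.const_obj_obj, Functor.const_obj_map]
           exact f.comm }

/-- the object corresponding to an element of `M` -/
noncomputable def ptObj (m : M) : Obj R M where
  n := 1
  x := (LinearMap.toSpanSingleton R M m) ∘ₗ (Finsupp.lapply 0)

variable {R M}

theorem ptObj_apply (m : M) : (ptObj R M m).x (Finsupp.single (0 : Fin 1) (1 : R)) = m := by
  show (LinearMap.toSpanSingleton R M m) ((Finsupp.lapply (0 : Fin 1)) (Finsupp.single (0 : Fin 1) (1 : R))) = m
  rw [Finsupp.lapply_apply, Finsupp.single_eq_same, LinearMap.toSpanSingleton_apply, one_smul]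

noncomputable def isColimitCoconeG [Module.Flat R M] : IsColimit (coconeG R M) := by
  have := isFiltered (R := R) (M := M)
  apply isColimitOfReflects (forget (ModuleCat.{u} R))
  apply Types.FilteredColimit.isColimitOf'
  · intro (m : M)
    exact ⟨ptObj R M m, (Finsupp.single (0 : Fin 1) (1 : R) : Fin 1 →₀ R), (ptObj_apply m).symm⟩
  · intro X (v : Fin X.n →₀ R) (w : Fin X.n →₀ R) h
    have h0 : X.x v = X.x w := h
    have h' : X.x (v - w) = 0 := by
      rw [map_sub, sub_eq_zero]
      exact h0
    obtain ⟨k, a, y, hy, ha⟩ := Module.Flat.exists_factorization_of_apply_eq_zero_of_free h'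
    refine ⟨⟨k, y⟩, ⟨a, hy.symm⟩, ?_⟩
    rw [map_sub, sub_eq_zero] at ha
    exact ha

end Colim


section Main

open CategoryTheory.Limits

variable {R : Type u} [CommRing R] {M : Type u} [AddCommGroup M] [Module R M]

theorem forward [Module.Flat R M] :
    ∃ (J : Type u) (_ : Preorder J) (_ : IsDirected J (fun a b => a ≤ b)) (_ : Nonempty J)
      (F : J ⥤ ModuleCat.{u} R), (∀ j, Module.Finite R (F.obj j) ∧ Module.Free R (F.obj j)) ∧
      Nonempty (Limits.colimit F ≅ ModuleCat.of R M) := by
  have := isFiltered (R := R) (M := M)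
  obtain ⟨α, hpo, hd, hne, F, hF⟩ := IsFiltered.exists_directed (Obj R M)
  refine ⟨α, inferInstance, hd, hne, F ⋙ G R M, ?_, ?_⟩
  · intro j
    exact ⟨inferInstanceAs (Module.Finite R (Fin (F.obj j).n →₀ R)),
      inferInstanceAs (Module.Free R (Fin (F.obj j).n →₀ R))⟩
  · exact ⟨Functor.Final.colimitIso F (G R M) ≪≫
      IsColimit.coconePointUniqueUpToIso (colimit.isColimit _) isColimitCoconeG⟩

/-- finite families in a directed union live in a common stage -/
theorem exists_common_stage {J : Type u} [Preorder J] [IsDirected J (fun a b => a ≤ b)] [Nonempty J]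
    {X : Type u} (S : J → Set X) (hmono : ∀ {j k : J}, j ≤ k → S j ⊆ S k) (hcov : ∀ x, ∃ j, x ∈ S j)
    {l : ℕ} (x : Fin l → X) : ∃ j, ∀ i, x i ∈ S j := by
  induction l with
  | zero => exact ⟨Classical.arbitrary J, fun i => i.elim0⟩
  | succ n ih =>
    obtain ⟨j, hj⟩ := ih (fun i => x i.succ)
    obtain ⟨j0, h0⟩ := hcov (x 0)
    obtain ⟨k, hjk, hj0k⟩ := exists_ge_ge j j0
    refine ⟨k, fun i => ?_⟩
    refine Fin.cases ?_ (fun i => ?_) i
    · exact hmono hj0k h0
    · exact hmono hjk (hj i)

theorem backward (J : Type u) [Preorder J] [IsDirected J (fun a b => a ≤ b)] [Nonempty J]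
    (F : J ⥤ ModuleCat.{u} R) (hF : ∀ j, Module.Flat R (F.obj j)) :
    Module.Flat R (Limits.colimit F : ModuleCat.{u} R) := by
  have hfil : IsFiltered J := inferInstance
  let c := colimit.cocone F
  have hc : IsColimit ((forget (ModuleCat.{u} R)).mapCocone c) :=
    isColimitOfPreserves _ (colimit.isColimit F)
  refine Module.Flat.of_forall_isTrivialRelation fun {l f x} h => ?_
  -- common stage
  obtain ⟨j, hj⟩ := exists_common_stage (J := J) (X := (colimit F : ModuleCat.{u} R))
    (fun j => Set.range (colimit.ι F j).hom)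
    (by
      intro j k hjk y hy
      obtain ⟨z, rfl⟩ := hy
      refine ⟨(F.map (homOfLE hjk)).hom z, ?_⟩
      rw [← colimit.w F (homOfLE hjk)]
      rfl)
    (by
      intro y
      obtain ⟨j, z, hz⟩ := Types.jointly_surjective_of_isColimit hc y
      exact ⟨j, z, hz⟩) x
  choose y hy using hj
  have h0 : (colimit.ι F j).hom (∑ i, f i • y i) = (colimit.ι F j).hom 0 := by
    rw [map_sum, map_zero, ← h]
    refine Finset.sum_congr rfl fun i _ => ?_
    rw [map_smul, hy]
  obtain ⟨k, g, hg⟩ := (Types.FilteredColimit.isColimit_eq_iff' hc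
    (∑ i, f i • y i : F.obj j) (0 : F.obj j)).1 h0
  have hg' : ∑ i, f i • (F.map g).hom (y i) = 0 := by
    have : (F.map g).hom (∑ i, f i • y i) = (F.map g).hom 0 := hg
    rw [map_sum, map_zero] at this
    rw [← this]
    refine Finset.sum_congr rfl fun i _ => ?_
    rw [map_smul]
  have := hF k
  obtain ⟨κ, a, z, hz, ha⟩ := Module.Flat.isTrivialRelation_of_sum_smul_eq_zero hg'
  refine ⟨κ, a, fun m => (colimit.ι F k).hom (z m), fun i => ?_, ha⟩
  rw [← hy i, ← colimit.w F g]
  show (colimit.ι F k).hom ((F.map g).hom (y i)) = _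
  have hzi : (F.map g).hom (y i) = ∑ j, a i j • z j := hz i
  rw [hzi, map_sum]
  refine Finset.sum_congr rfl fun m _ => ?_
  rw [map_smul]

end Main

/-- An `R`-module `M` is flat if and only if it is isomorphic to the colimit of a diagram of finite free
`R`-modules indexed by a nonempty directed preorder (in the same universe). -/
theorem result {R : Type u} [CommRing R] (M : Type u) [AddCommGroup M] [Module R M] :
    Module.Flat R M ↔
      ∃ (J : Type u) (_ : Preorder J) (_ : IsDirected J (fun a b => a ≤ b)) (_ : Nonempty J)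
        (F : J ⥤ ModuleCat.{u} R), (∀ j, Module.Finite R (F.obj j) ∧ Module.Free R (F.obj j)) ∧
        Nonempty (Limits.colimit F ≅ ModuleCat.of R M) := by
  constructor
  · intro h
    exact forward
  · rintro ⟨J, hp, hd, hne, F, hF, ⟨e⟩⟩
    have h1 : Module.Flat R (Limits.colimit F : ModuleCat.{u} R) := by
      apply backward J F
      intro j
      have := (hF j).1
      have := (hF j).2
      infer_instance
    exact Module.Flat.of_linearEquiv e.toLinearEquiv.symm

end Groth.Agent.S2118
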