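import Groth.Statements.S2167
import Groth.Agent.Lib.Helper28DepthCM2
import Groth.Agent.Lib.Helper5RLR3

set_option autoImplicit false
universe u
open LCI

namespace Groth.Agent.S2167

section Helpers

variable {R : Type u} [CommRing R]

/-- The conormal module of an ideal generated by a finite set `s` is generated by at most
`s.ncard` elements. -/
theorem spanFinrank_cotangent_le (s : Set R) (hs : s.Finite) :
    (⊤ : Submodule (R ⧸ Ideal.span s) (Ideal.span s).Cotangent).spanFinrank ≤ s.ncard := by
  set I := Ideal.span s with hIdef
  let t : Set I := ((↑) : I → R) ⁻¹' s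
  have ht : Submodule.span R t = ⊤ := Submodule.span_span_coe_preimage
  have htop : Submodule.span (R ⧸ I) (I.toCotangent '' t) = ⊤ := by
    rw [eq_top_iff]
    intro x _
    obtain ⟨y, rfl⟩ := I.toCotangent_surjective x
    have hy : y ∈ Submodule.span R t := ht ▸ Submodule.mem_top
    have h1 : I.toCotangent y ∈ (Submodule.span R t).map I.toCotangent :=
      Submodule.mem_map_of_mem hy
    rw [Submodule.map_span] at h1
    exact Submodule.span_le_restrictScalars R (R ⧸ I) _ h1
  have hfin : (I.toCotangent '' t).Finite := by
    have : t.Finite := hs.preimage (Subtype.coe_injective.injOn)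
    exact this.image _
  calc (⊤ : Submodule (R ⧸ I) I.Cotangent).spanFinrank
      = (Submodule.span (R ⧸ I) (I.toCotangent '' t)).spanFinrank := by rw [htop]
    _ ≤ (I.toCotangent '' t).ncard := Submodule.spanFinrank_span_le_ncard_of_finite hfin
    _ ≤ t.ncard := Set.ncard_image_le (hs.preimage (Subtype.coe_injective.injOn))
    _ ≤ s.ncard := by
      have : t.ncard = (((↑) : I → R) '' t).ncard :=
        (Set.ncard_image_of_injective t Subtype.coe_injective).symm
      rw [this]
      exact Set.ncard_le_ncard (Set.image_preimage_subset _ _) hs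

/-- Nakayama: an ideal contained in the Jacobson radical is generated by lifts of generators
of its conormal module. -/
theorem exists_list_of_spanFinrank_cotangent [IsNoetherianRing R] (I : Ideal R)
    (hI : I ≤ Ideal.jacobson ⊥) :
    ∃ rs : List R, rs.length = (⊤ : Submodule (R ⧸ I) I.Cotangent).spanFinrank ∧
      Ideal.ofList rs = I := by
  classical
  have hfg : (⊤ : Submodule (R ⧸ I) I.Cotangent).FG := by
    have h0 : Module.Finite R I.Cotangent :=
      Module.Finite.of_surjective I.toCotangent I.toCotangent_surjective
    have : Module.Finite (R ⧸ I) I.Cotangent :=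
      Module.Finite.of_restrictScalars_finite R (R ⧸ I) I.Cotangent
    exact Module.Finite.fg_top
  obtain ⟨s, hscard, hs⟩ := hfg.exists_span_finset_card_eq_spanFinrank
  -- lift the generators
  choose lift hlift using I.toCotangent_surjective
  let l : List R := s.toList.map (fun x => ((lift x : I) : R))
  refine ⟨l, by simp [l, hscard], ?_⟩
  have hsurj : Function.Surjective (algebraMap R (R ⧸ I)) := Ideal.Quotient.mk_surjective
  have hsR : Submodule.span R (s : Set I.Cotangent) = ⊤ := by
    rw [← Submodule.restrictScalars_span R (R ⧸ I) hsurj, hs]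
    rfl
  have hlI : Ideal.ofList l ≤ I := by
    rw [Ideal.ofList, Ideal.span_le]
    intro r hr
    simp only [l, List.mem_map, Set.mem_ofPred_eq] at hr
    obtain ⟨x, _, rfl⟩ := hr
    exact (lift x).2
  refine le_antisymm hlI ?_
  refine Submodule.le_of_le_smul_of_le_jacobson_bot (I := I) (IsNoetherian.noetherian I) hI ?_
  intro x hx
  have hx' : I.toCotangent ⟨x, hx⟩ ∈ Submodule.span R (s : Set I.Cotangent) := hsR ▸ Submodule.mem_top
  -- write the class of `x` as an `R`-combination of the generators
  have key : ∀ z ∈ Submodule.span R (s : Set I.Cotangent),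
      ∃ y : I, (y : R) ∈ Ideal.ofList l ∧ I.toCotangent y = z := by
    intro z hz
    induction hz using Submodule.span_induction with
    | mem z hz =>
      refine ⟨lift z, ?_, hlift z⟩
      apply Ideal.subset_span
      simp only [l, List.mem_map, Set.mem_ofPred_eq]
      exact ⟨z, by simpa using hz, rfl⟩
    | zero => exact ⟨0, by simp, by simp⟩
    | add a b _ _ ha hb =>
      obtain ⟨ya, hya, rfl⟩ := ha
      obtain ⟨yb, hyb, rfl⟩ := hb
      exact ⟨ya + yb, by simpa using add_mem hya hyb, by simp⟩
    | smul r a _ ha =>
      obtain ⟨ya, hya, rfl⟩ := ha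
      exact ⟨r • ya, by simpa using Ideal.mul_mem_left _ r hya, by simp⟩
  obtain ⟨y, hy, hyx⟩ := key _ hx'
  have h2 : (x - y : R) ∈ I ^ 2 := by
    have := (I.toCotangent_eq (x := ⟨x, hx⟩) (y := y)).mp hyx.symm
    simpa using this
  have : x = (y : R) + (x - y) := by ring
  rw [this]
  refine Submodule.add_mem_sup hy ?_
  rw [smul_eq_mul, ← pow_two]
  exact h2

end Helpers

/-- Equivalence of (2) and (3), special case with R already a regular local ring: for a regular local
ring R and a proper ideal I, the ideal I is generated by a regular sequence if and only if the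
conormal module I/I^2 can be generated by (dim R - dim R/I) elements, the inequality below being the
additive form of that count. -/
theorem result {R : Type u} [CommRing R] [IsRegularLocalRing R]
    (I : Ideal R) (hI : I ≠ ⊤) :
    (∃ rs : List R, Ideal.ofList rs = I ∧ RingTheory.Sequence.IsRegular R rs) ↔
      (((⊤ : Submodule (R ⧸ I) I.Cotangent).spanFinrank : WithBot ℕ∞) + ringKrullDim (R ⧸ I)
        ≤ ringKrullDim R) := by
  classical
  have hle : I ≤ IsLocalRing.maximalIdeal R := IsLocalRing.le_maximalIdeal hI
  -- identification of the two ways of writing `dim R/I`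
  have hquot : ∀ rs : List R, Module.supportDim R (R ⧸ (Ideal.ofList rs • ⊤ : Submodule R R)) =
      ringKrullDim (R ⧸ Ideal.ofList rs) := by
    intro rs
    have eq : Ideal.ofList rs = Ideal.ofList rs • (⊤ : Ideal R) := by simp
    rw [ringKrullDim_eq_of_ringEquiv (Ideal.quotientEquivAlgOfEq R eq).toRingEquiv,
      ← Module.supportDim_quotient_eq_ringKrullDim]
  constructor
  · rintro ⟨rs, rfl, hreg⟩
    have hdim := ringKrullDim_add_length_eq_ringKrullDim_of_isRegular rs hreg
    have h1 : (⊤ : Submodule (R ⧸ Ideal.ofList rs) (Ideal.ofList rs).Cotangent).spanFinrank ≤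
        rs.length := by
      have hfin : {r | r ∈ rs}.Finite := List.finite_toSet rs
      refine (spanFinrank_cotangent_le {r | r ∈ rs} hfin).trans ?_
      have : {r | r ∈ rs} = (rs.toFinset : Set R) := by ext; simp
      rw [this, Set.ncard_coe_finset]
      exact List.toFinset_card_le rs
    rw [← hdim, add_comm]
    have h2 : (((⊤ : Submodule (R ⧸ Ideal.ofList rs) (Ideal.ofList rs).Cotangent).spanFinrank : ℕ) :
        WithBot ℕ∞) ≤ ((rs.length : ℕ) : WithBot ℕ∞) := by exact_mod_cast h1
    exact add_le_add_right h2 _
  · intro h
    have hjac : I ≤ Ideal.jacobson ⊥ := by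
      rw [IsLocalRing.jacobson_eq_maximalIdeal ⊥ bot_ne_top]
      exact hle
    obtain ⟨rs, hlen, hrs⟩ := exists_list_of_spanFinrank_cotangent I hjac
    refine ⟨rs, hrs, ?_⟩
    have hmem : ∀ x ∈ rs, x ∈ IsLocalRing.maximalIdeal R := by
      intro x hx
      apply hle
      rw [← hrs]
      exact Ideal.subset_span hx
    have hCMring : LocCoh.IsCohenMacaulayLocalRing R :=
      Groth.Agent.Lib.Helper5.isCohenMacaulayLocalRing_of_isRegularLocalRing R
    have hCM : LocCoh.IsCohenMacaulayModule R R := hCMring.supportDim_eq_depth
    have hge := Groth.Agent.Lib.Helper28.supportDim_le_supportDim_quot_ofList_add_length_local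
      rs R hmem
    have hdim : Module.supportDim R (R ⧸ (Ideal.ofList rs • ⊤ : Submodule R R)) + rs.length =
        Module.supportDim R R := by
      refine le_antisymm ?_ hge
      rw [hquot, Module.supportDim_self_eq_ringKrullDim, hrs, hlen, add_comm]
      exact h
    refine ⟨Groth.Agent.Lib.Helper28.isWeaklyRegular_of_supportDim_add_length_eq rs R hCM hmem hdim,
      ?_⟩
    rw [smul_eq_mul, Ideal.mul_top, hrs]
    exact hI.symm

end Groth.Agent.S2167
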