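import Groth.Statements.S2169
import Mathlib
import Groth.Agent.Lib.H6xCIE

set_option autoImplicit false
universe u
open LCI

namespace Groth.Agent.S2169

/-- Let A be a complete Noetherian local ring whose completion is a regular local ring modulo a regular
sequence. Then for every surjection R -> A from a regular local ring R, the kernel is generated by a
regular sequence of R. -/
theorem result {A R : Type u} [CommRing A] [CommRing R]
    [IsNoetherianRing A] [IsLocalRing A] [IsAdicComplete (IsLocalRing.maximalIdeal A) A]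
    [IsRegularLocalRing R] (f : R →+* A) (hf : Function.Surjective f)
    (hA : Pi1.IsCompleteIntersection A) :
    ∃ rs : List R, Ideal.ofList rs = RingHom.ker f ∧ RingTheory.Sequence.IsRegular R rs := by
  obtain ⟨B', _, _, rs, hmem, hreg, ⟨eq'⟩⟩ := hA
  let c : A ≃+* AdicCompletion (IsLocalRing.maximalIdeal A) A :=
    (AdicCompletion.ofAlgEquiv (IsLocalRing.maximalIdeal A)).toRingEquiv
  let ψ : B' ⧸ Ideal.span {r | r ∈ rs} ≃+* A := eq'.symm.trans c.symm
  let φ' : B' →+* A := (ψ : B' ⧸ Ideal.span {r | r ∈ rs} →+* A).comp (Ideal.Quotient.mk _)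
  have hφ' : Function.Surjective φ' := ψ.surjective.comp Ideal.Quotient.mk_surjective
  have hker' : RingHom.ker φ' = Ideal.ofList rs := by
    ext b
    rw [RingHom.mem_ker]
    show ψ (Ideal.Quotient.mk _ b) = 0 ↔ _
    rw [map_eq_zero_iff _ ψ.injective, Ideal.Quotient.eq_zero_iff_mem]
  have natdim : ∀ (S : Type u) [CommRing S] [IsNoetherianRing S] [IsLocalRing S],
      ∃ n : ℕ, ringKrullDim S = n := by
    intro S _ _ _
    have hfin : ringKrullDim S ≠ ⊤ := ringKrullDim_ne_top
    have hbot : ringKrullDim S ≠ ⊥ := ringKrullDim_ne_bot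
    obtain ⟨x, hx⟩ := WithBot.ne_bot_iff_exists.mp hbot
    rw [← hx] at hfin ⊢
    have hx' : x ≠ ⊤ := fun h => hfin (by rw [h]; rfl)
    obtain ⟨n, hn⟩ := ENat.ne_top_iff_exists.mp hx'
    exact ⟨n, by rw [← hn]; rfl⟩
  obtain ⟨e', he'⟩ := natdim B'
  obtain ⟨e, he⟩ := natdim R
  obtain ⟨d, hd⟩ := natdim A
  have hinv := Groth.Agent.Lib.H6xCI.invariance f hf φ' hφ' e e' he he'
  have heq := Groth.Agent.Lib.H6xCI.dim_eq_of_isRegular φ' hφ' d e' hd he' rs hker'.symm hreg
  exact Groth.Agent.Lib.H6xCI.exists_isRegular_of_dim_eq f hf d e hd he (by omega)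

end Groth.Agent.S2169
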