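import Groth.Statements.S2177
import Mathlib
import Groth.Agent.Lib.Helper11Genus
import Groth.Agent.Lib.Helper11Graph

set_option autoImplicit false
open Finset
open Models Models.NumericalType

namespace Groth.Agent.S2177

open Groth.Agent.Lib.Helper11

theorem two_le_div_add_div {x y : ℚ} (hx : 0 < x) (hy : 0 < y) : 2 ≤ x / y + y / x := by
  rw [div_add_div _ _ hy.ne' hx.ne', le_div_iff₀ (mul_pos hy hx)]
  nlinarith [sq_nonneg (x - y)]

/-- sum of ratios over a symmetric relation -/
theorem card_le_sum_ratio {n : ℕ} (A : Fin n → Fin n → Prop) [DecidableRel A]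
    (hsymm : ∀ i j, A i j → A j i) (m : Fin n → ℚ) (hm : ∀ i, 0 < m i) :
    ((#(univ.filter fun p : Fin n × Fin n => A p.1 p.2) : ℕ) : ℚ) ≤
      ∑ i, ∑ j, if A i j then m j / m i else 0 := by
  have hcard : ((#(univ.filter fun p : Fin n × Fin n => A p.1 p.2) : ℕ) : ℚ) =
      ∑ i, ∑ j, if A i j then (1 : ℚ) else 0 := by
    rw [Finset.card_filter, Nat.cast_sum, Fintype.sum_prod_type]
    refine Finset.sum_congr rfl fun i _ => Finset.sum_congr rfl fun j _ => ?_
    simp
  have hcomm : ∑ i, ∑ j, (if A i j then m j / m i else 0) =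
      ∑ i, ∑ j, (if A j i then m i / m j else 0) := Finset.sum_comm
  have h2 : 2 * ∑ i, ∑ j, (if A i j then (1 : ℚ) else 0) ≤
      2 * ∑ i, ∑ j, (if A i j then m j / m i else 0) := by
    have e1 : 2 * ∑ i, ∑ j, (if A i j then m j / m i else 0) =
        ∑ i, ∑ j, ((if A i j then m j / m i else 0) + (if A j i then m i / m j else 0)) := by
      rw [two_mul]
      nth_rewrite 2 [hcomm]
      rw [← Finset.sum_add_distrib]
      exact Finset.sum_congr rfl fun i _ => Finset.sum_add_distrib.symm
    rw [e1, Finset.mul_sum]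
    refine Finset.sum_le_sum fun i _ => ?_
    rw [Finset.mul_sum]
    refine Finset.sum_le_sum fun j _ => ?_
    by_cases hA : A i j
    · rw [if_pos hA, if_pos hA, if_pos (hsymm i j hA), mul_one]
      exact two_le_div_add_div (hm j) (hm i)
    · have hA' : ¬ A j i := fun h => hA (hsymm j i h)
      rw [if_neg hA, if_neg hA, if_neg hA']
      simp
  rw [hcard]
  linarith

theorem main {n : ℕ} (T : Models.NumericalType n) (hmin : T.IsMinimal) (hn : 1 < n) :
    T.topGenus ≤ T.genus := by
  classical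
  have hmpos : ∀ i, (0 : ℚ) < (T.m i : ℚ) := fun i => by exact_mod_cast T.m_pos i
  -- number of adjacent ordered pairs
  have hpairs : #(univ.filter fun p : Fin n × Fin n => (dualGraph T).Adj p.1 p.2) =
      2 * T.edgeCount := by
    have h := (dualGraph T).two_mul_card_edgeFinset
    rw [card_edgeFinset_dualGraph] at h
    rw [h]
  have hsymm : ∀ i j, (dualGraph T).Adj i j → (dualGraph T).Adj j i := fun i j h => h.symm
  have hsum := card_le_sum_ratio (fun i j => (dualGraph T).Adj i j) hsymm (fun i => (T.m i : ℚ)) hmpos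
  rw [hpairs] at hsum
  -- row bound
  have hrow : ∀ i, (∑ j, if (dualGraph T).Adj i j then (T.m j : ℚ) / (T.m i : ℚ) else 0) ≤
      ((-kk T i i : ℤ) : ℚ) := by
    intro i
    have h0 : ∑ j, ((kk T i j : ℤ) : ℚ) * ((T.m j : ℚ) / (T.m i : ℚ)) = 0 := by
      have h1 : ∑ j, ((kk T i j : ℤ) : ℚ) * ((T.m j : ℚ) / (T.m i : ℚ)) =
          (((∑ j, kk T i j * T.m j : ℤ)) : ℚ) / (T.m i : ℚ) := by
        push_cast
        rw [Finset.sum_div]
        exact Finset.sum_congr rfl fun j _ => by ring
      rw [h1, kk_row, Int.cast_zero, zero_div]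
    rw [← Finset.add_sum_erase univ _ (mem_univ i), div_self (hmpos i).ne', mul_one] at h0
    have h1 : ((-kk T i i : ℤ) : ℚ) =
        ∑ j ∈ univ.erase i, ((kk T i j : ℤ) : ℚ) * ((T.m j : ℚ) / (T.m i : ℚ)) := by
      push_cast; linarith
    rw [h1]
    have h2 : (∑ j, if (dualGraph T).Adj i j then (T.m j : ℚ) / (T.m i : ℚ) else 0) =
        ∑ j ∈ univ.erase i, if (dualGraph T).Adj i j then (T.m j : ℚ) / (T.m i : ℚ) else 0 := by
      symm
      apply Finset.sum_erase
      rw [if_neg]
      exact fun h => h.1 rfl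
    rw [h2]
    refine Finset.sum_le_sum fun j hj => ?_
    have hji : j ≠ i := (Finset.mem_erase.mp hj).1
    have hr : (0 : ℚ) < (T.m j : ℚ) / (T.m i : ℚ) := div_pos (hmpos j) (hmpos i)
    by_cases hA : (dualGraph T).Adj i j
    · rw [if_pos hA]
      have hk : (1 : ℚ) ≤ ((kk T i j : ℤ) : ℚ) := by exact_mod_cast kk_pos T hA.1 hA.2
      nlinarith
    · rw [if_neg hA]
      have hk : (0 : ℚ) ≤ ((kk T i j : ℤ) : ℚ) := by exact_mod_cast kk_nonneg T hji.symm
      exact mul_nonneg hk hr.le
  have hQ : ((2 * T.edgeCount : ℕ) : ℚ) ≤ ((∑ i, -kk T i i : ℤ) : ℚ) := by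
    refine hsum.trans ?_
    rw [Int.cast_sum]
    exact Finset.sum_le_sum fun i _ => hrow i
  have hZ : (2 * (T.edgeCount : ℤ)) ≤ ∑ i, -kk T i i := by exact_mod_cast hQ
  -- contributions
  have hcontr : ∀ i, -kk T i i - 2 ≤ T.m i * (2 * T.w i * (T.g i - 1) - T.a i i) := by
    intro i
    have hnn := contribution_nonneg T hn hmin i
    have hm := T.m_pos i
    have hw := T.w_pos i
    have hg := T.g_nonneg i
    have ha := a_eq_kk T i i
    have e : T.m i * (2 * T.w i * (T.g i - 1) - T.a i i) =
        (T.m i * T.w i) * (2 * (T.g i - 1) - kk T i i) := by rw [ha]; ring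
    rw [e] at hnn ⊢
    have hmw : 1 ≤ T.m i * T.w i := by nlinarith
    have hX : 0 ≤ 2 * (T.g i - 1) - kk T i i := by
      by_contra hcon
      push Not at hcon
      nlinarith
    nlinarith
  have h2g := two_genus T
  have hsumc : ∑ i : Fin n, (-kk T i i - 2) ≤ 2 * T.genus - 2 := by
    rw [h2g]
    exact Finset.sum_le_sum fun i _ => hcontr i
  rw [Finset.sum_sub_distrib] at hsumc
  simp only [Finset.sum_const, Finset.card_univ, Fintype.card_fin, nsmul_eq_mul] at hsumc
  unfold NumericalType.topGenus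
  linarith

/-- If a numerical type is minimal and has at least two indices, its genus is bounded below by the
topological genus 1 - n + e, e being the number of pairs i < j with a i j > 0. -/
theorem result {n : ℕ} (T : Models.NumericalType n) (hmin : T.IsMinimal) (hn : 1 < n) : T.topGenus ≤ T.genus := by
  exact main T hmin hn

end Groth.Agent.S2177
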