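import Groth.Statements.S2187
import Groth.Agent.Lib.H1LocalAvoid
import Groth.Agent.Lib.Helper13Vasc1
import Groth.Agent.Lib.Helper21PdLoc

set_option autoImplicit false
universe u
open CategoryTheory
open LCI

namespace Groth.Agent.S2187

/-- In a Noetherian local ring, if the proper ideal `I` has finite projective dimension, then every
class in `I/I²` can be represented by a nonzerodivisor, provided `I ≠ 0`. -/
theorem exists_nonZeroDivisor_lift {R : Type u} [CommRing R]
    [IsNoetherianRing R] [IsLocalRing R] (I : Ideal R) (hI : I ≠ ⊤) (hI0 : I ≠ ⊥) (n : ℕ)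
    (hpd : HasProjectiveDimensionLT (ModuleCat.of R I) n) (x₀ : R) (hx₀ : x₀ ∈ I) :
    ∃ (x : R) (hx : x ∈ I), x ∈ nonZeroDivisors R ∧
      I.toCotangent ⟨x, hx⟩ = I.toCotangent ⟨x₀, hx₀⟩ := by
  classical
  have hIm : I ≤ IsLocalRing.maximalIdeal R := IsLocalRing.le_maximalIdeal hI
  have hn1 : HasProjectiveDimensionLT (ModuleCat.of R I) (n + 1) :=
    hasProjectiveDimensionLT_of_ge _ n (n + 1) (Nat.le_succ n)
  have hpdq : HasProjectiveDimensionLT (ModuleCat.of R (R ⧸ I)) (n + 1 + 1) :=
    (Groth.Agent.Lib.Helper21.PdLoc.pdLT_succ_iff_of_ses I.subtype (Submodule.mkQ I)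
      (Submodule.injective_subtype _) (Submodule.mkQ_surjective _)
      (LinearMap.exact_subtype_mkQ _) n).mpr hn1
  obtain ⟨y₀, hy₀I, hy₀reg⟩ := Groth.Agent.Helper13Vasc.exists_isSMulRegular_mem I hI0 (n + 1) hpdq
  have hfin : (associatedPrimes R R).Finite := associatedPrimes.finite R R
  have hnotmem : ∀ z : R, IsSMulRegular R z ↔ ∀ P ∈ hfin.toFinset, z ∉ P := by
    intro z
    have h := biUnion_associatedPrimes_eq_compl_regular R R
    constructor
    · intro hz P hP hzP
      have : z ∈ ⋃ p ∈ associatedPrimes R R, (p : Set R) :=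
        Set.mem_biUnion ((Set.Finite.mem_toFinset _).mp hP) hzP
      rw [h] at this
      exact this hz
    · intro hz
      by_contra hcon
      have : z ∈ ⋃ p ∈ associatedPrimes R R, (p : Set R) := by
        rw [h]; exact hcon
      obtain ⟨P, hP, hzP⟩ := Set.mem_iUnion₂.mp this
      exact hz P ((Set.Finite.mem_toFinset _).mpr hP) hzP
  obtain ⟨a, ha2, ha⟩ := Groth.Agent.Lib.H1LocalAvoid.exists_pow_add_notMem hfin.toFinset
    (fun P hP => ((Set.Finite.mem_toFinset _).mp hP).isPrime) x₀ y₀ (hIm hy₀I)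
    ((hnotmem y₀).mp hy₀reg)
  have hya : y₀ ^ a ∈ I ^ 2 := by
    have : y₀ ^ a = y₀ ^ 2 * y₀ ^ (a - 2) := by rw [← pow_add]; congr 1; omega
    rw [this]
    exact Ideal.mul_mem_right _ _ (Ideal.pow_mem_pow hy₀I 2)
  have hxI : x₀ + y₀ ^ a ∈ I := I.add_mem hx₀ (Ideal.pow_le_self (by norm_num) hya)
  refine ⟨x₀ + y₀ ^ a, hxI, ?_, ?_⟩
  · have hreg : IsSMulRegular R (x₀ + y₀ ^ a) := (hnotmem _).mpr ha
    have hleft : IsLeftRegular (x₀ + y₀ ^ a) := isLeftRegular_iff.mpr hreg
    exact (isLeftRegular_iff_isRegular.mp hleft).mem_nonZeroDivisors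
  · rw [Ideal.toCotangent_eq]
    simpa using hya

/-- Let R be a Noetherian local ring and I an ideal of finite projective dimension as an R-module. If F
is a direct summand of the conormal module I/I^2 which is isomorphic to R/I, then there is a
nonzerodivisor x in I whose class in I/I^2 generates F. -/
theorem result {R : Type u} [CommRing R]
    [IsNoetherianRing R] [IsLocalRing R] (I : Ideal R) (n : ℕ)
    (hpd : HasProjectiveDimensionLT (ModuleCat.of R I) n)
    (F G : Submodule (R ⧸ I) I.Cotangent) (hFG : IsCompl F G) (e : F ≃ₗ[R ⧸ I] (R ⧸ I)) :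
    ∃ (x : R) (hx : x ∈ I), x ∈ nonZeroDivisors R ∧
      Submodule.span (R ⧸ I) {I.toCotangent ⟨x, hx⟩} = F := by
  classical
  by_cases hI : I = ⊤
  · subst hI
    have hsub : Subsingleton (⊤ : Ideal R).Cotangent := by
      rw [Ideal.cotangent_subsingleton_iff]
      exact Ideal.mul_top ⊤
    refine ⟨1, Submodule.mem_top, one_mem _, ?_⟩
    ext z
    have hz : z = 0 := Subsingleton.elim _ _
    simp [hz]
  · -- generator of `F`
    have hnt : Nontrivial (R ⧸ I) := Ideal.Quotient.nontrivial_iff.mpr hI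
    set f₀ : F := e.symm 1 with hf₀
    have hf₀ne : (f₀ : I.Cotangent) ≠ 0 := by
      intro h
      have h1 : f₀ = 0 := Subtype.ext h
      have h2 : e f₀ = 0 := by rw [h1, map_zero]
      rw [hf₀, LinearEquiv.apply_symm_apply] at h2
      exact one_ne_zero h2
    obtain ⟨⟨x₀, hx₀⟩, hx₀f⟩ := I.toCotangent_surjective (f₀ : I.Cotangent)
    have hI0 : I ≠ ⊥ := by
      intro h0
      apply hf₀ne
      rw [← hx₀f]
      have : x₀ = 0 := by
        have := hx₀
        rw [h0] at this
        exact this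
      rw [Ideal.toCotangent_eq_zero]
      simp [this]
    obtain ⟨x, hx, hxreg, hxc⟩ := exists_nonZeroDivisor_lift I hI hI0 n hpd x₀ hx₀
    refine ⟨x, hx, hxreg, ?_⟩
    rw [hxc, hx₀f]
    apply le_antisymm
    · rw [Submodule.span_le, Set.singleton_subset_iff]
      exact f₀.2
    · intro z hz
      have h1 : (⟨z, hz⟩ : F) = (e ⟨z, hz⟩) • f₀ := by
        apply e.injective
        rw [map_smul, hf₀, LinearEquiv.apply_symm_apply, smul_eq_mul, mul_one]
      have h2 : z = (e ⟨z, hz⟩) • (f₀ : I.Cotangent) := congrArg Subtype.val h1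
      rw [h2]
      exact Submodule.smul_mem _ _ (Submodule.mem_span_singleton_self _)

end Groth.Agent.S2187
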