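import Groth.Statements.S2188
import Groth.Agent.S2187
import Groth.Agent.Lib.Helper13Vasc2

set_option autoImplicit false
universe u
open CategoryTheory
open LCI

namespace Groth.Agent.S2188

section Helpers

variable {R : Type u} [CommRing R]

/-- A functional `I → R/I` kills `I²`. -/
theorem functional_eq_zero_of_mem_sq (I : Ideal R) (ψ : I →ₗ[R] R ⧸ I) (z : I)
    (hz : (z : R) ∈ I ^ 2) : ψ z = 0 := by
  have hz' : z ∈ I • (⊤ : Submodule R I) :=
    (Submodule.mem_smul_top_iff I I z).mpr (by rwa [smul_eq_mul, ← pow_two])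
  refine Submodule.smul_induction_on hz' (fun a ha w _ => ?_) (fun x y hx hy => ?_)
  · rw [map_smul, Algebra.smul_def]
    have : algebraMap R (R ⧸ I) a = 0 := Ideal.Quotient.eq_zero_iff_mem.mpr ha
    rw [this, zero_mul]
  · rw [map_add, hx, hy, add_zero]

theorem functional_congr (I : Ideal R) (ψ : I →ₗ[R] R ⧸ I) (z z' : I)
    (h : (z : R) - z' ∈ I ^ 2) : ψ z = ψ z' := by
  have := functional_eq_zero_of_mem_sq I ψ (z - z') (by simpa using h)
  rwa [map_sub, sub_eq_zero] at this

/-- A functional `I → R/I` killing `y ∈ I` descends to the quotient by `y`. -/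
theorem exists_descended_functional (I : Ideal R) (y : R) (hy : y ∈ I) (ψ : I →ₗ[R] R ⧸ I)
    (hψy : ψ ⟨y, hy⟩ = 0) :
    ∃ ψ' : ↥(I.map (Ideal.Quotient.mk (Ideal.span {y}))) →ₗ[R ⧸ Ideal.span {y}]
        (R ⧸ Ideal.span {y}) ⧸ I.map (Ideal.Quotient.mk (Ideal.span {y})),
      ∀ (z : R) (hz : z ∈ I), ψ' ⟨Ideal.Quotient.mk _ z, Ideal.mem_map_of_mem _ hz⟩ =
        Ideal.quotientMap _ (Ideal.Quotient.mk (Ideal.span {y})) Ideal.le_comap_map (ψ ⟨z, hz⟩) := by
  let R' := R ⧸ Ideal.span {y}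
  let I' : Ideal R' := I.map (Ideal.Quotient.mk (Ideal.span {y}))
  let π : (R ⧸ I) →+* (R' ⧸ I') :=
    Ideal.quotientMap I' (Ideal.Quotient.mk (Ideal.span {y})) Ideal.le_comap_map
  -- the composite `I → R/I → R'/I'` as an `R`-linear map
  let c : I →ₗ[R] (R' ⧸ I') :=
    { toFun := fun z => π (ψ z)
      map_add' := fun a b => by rw [map_add, map_add]
      map_smul' := fun t z => by
        rw [map_smul, RingHom.id_apply, Algebra.smul_def, map_mul, Algebra.smul_def]
        rfl }
  let mkI : I →ₗ[R] I' :=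
    { toFun := fun z => ⟨Ideal.Quotient.mk _ (z : R), Ideal.mem_map_of_mem _ z.2⟩
      map_add' := fun a b => Subtype.ext (by simp)
      map_smul' := fun t z => Subtype.ext (by simp [Algebra.smul_def]; rfl) }
  have hsurj : Function.Surjective mkI := by
    rintro ⟨w, hw⟩
    obtain ⟨z, hz, rfl⟩ := (Ideal.mem_map_iff_of_surjective _ Ideal.Quotient.mk_surjective).mp hw
    exact ⟨⟨z, hz⟩, rfl⟩
  have hle : LinearMap.ker mkI ≤ LinearMap.ker c := by
    intro z hz
    rw [LinearMap.mem_ker] at hz ⊢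
    have h1 : Ideal.Quotient.mk (Ideal.span {y}) (z : R) = 0 := congrArg Subtype.val hz
    rw [Ideal.Quotient.eq_zero_iff_mem, Ideal.mem_span_singleton'] at h1
    obtain ⟨t, ht⟩ := h1
    have h2 : z = t • (⟨y, hy⟩ : I) := Subtype.ext (by simpa using ht.symm)
    show π (ψ z) = 0
    rw [h2, map_smul, hψy, smul_zero, map_zero]
  let e := mkI.quotKerEquivOfSurjective hsurj
  let ψR : I' →ₗ[R] (R' ⧸ I') := (Submodule.liftQ _ c hle) ∘ₗ e.symm.toLinearMap
  refine ⟨ψR.extendScalarsOfSurjective Ideal.Quotient.mk_surjective, fun z hz => ?_⟩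
  rw [LinearMap.extendScalarsOfSurjective_apply]
  have h3 : e.symm ⟨Ideal.Quotient.mk _ z, Ideal.mem_map_of_mem _ hz⟩ =
      Submodule.Quotient.mk (⟨z, hz⟩ : I) := by
    rw [LinearEquiv.symm_apply_eq]
    rfl
  show Submodule.liftQ _ c hle (e.symm _) = _
  rw [h3, Submodule.liftQ_apply]
  rfl

open scoped Pointwise in
open RingTheory.Sequence IsLocalRing in
open Groth.Agent.Helper13Vasc Groth.Agent.Lib.Helper28 Groth.Agent.Lib.Helper21.PdLoc in
theorem claim (r : ℕ) : ∀ (R : Type u) [CommRing R] [IsNoetherianRing R] [IsLocalRing R]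
    (I : Ideal R), I ≠ ⊤ → (∃ n, HasProjectiveDimensionLT (ModuleCat.of R I) n) →
    ∀ (x₀ : Fin r → R) (hx₀ : ∀ i, x₀ i ∈ I) (ψ : Fin r → (I →ₗ[R] R ⧸ I)),
      (∀ i j, ψ j ⟨x₀ i, hx₀ i⟩ = if i = j then 1 else 0) →
      ∃ x : Fin r → R, (∀ i, x i - x₀ i ∈ I ^ 2) ∧ IsWeaklyRegular R (List.ofFn x) := by
  induction r with
  | zero =>
    intro R _ _ _ I _ _ x₀ _ _ _
    refine ⟨x₀, fun i => i.elim0, ?_⟩
    rw [List.ofFn_zero]
    exact IsWeaklyRegular.nil R R
  | succ r ih =>
    intro R _ _ _ I hI hpd x₀ hx₀ ψ hψ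
    obtain ⟨n, hn⟩ := hpd
    have hnt : Nontrivial (R ⧸ I) := Ideal.Quotient.nontrivial_iff.mpr hI
    have hIm : I ≤ maximalIdeal R := le_maximalIdeal hI
    have hI0 : I ≠ ⊥ := by
      intro h0
      have h1 := hψ 0 0
      rw [if_pos rfl] at h1
      have h2 : (⟨x₀ 0, hx₀ 0⟩ : I) = 0 := Subtype.ext (by
        have := hx₀ 0
        rw [h0] at this
        exact this)
      rw [h2, map_zero] at h1
      exact zero_ne_one h1
    obtain ⟨y, hy, hyreg, hyc⟩ :=
      Groth.Agent.S2187.exists_nonZeroDivisor_lift I hI hI0 n hn (x₀ 0) (hx₀ 0)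
    have hy2 : y - x₀ 0 ∈ I ^ 2 := by
      rw [Ideal.toCotangent_eq] at hyc
      simpa using hyc
    have hψy : ∀ j, ψ j ⟨y, hy⟩ = if (0 : Fin (r + 1)) = j then 1 else 0 := fun j =>
      (functional_congr I (ψ j) ⟨y, hy⟩ ⟨x₀ 0, hx₀ 0⟩ hy2).trans (hψ 0 j)
    have hyregS : IsSMulRegular R y := by
      rw [← isLeftRegular_iff]
      exact (isRegular_iff_mem_nonZeroDivisors.mpr hyreg).left
    have hne : Ideal.span {y} ≠ ⊤ := by
      intro h
      have h1 : Ideal.span {y} ≤ maximalIdeal R :=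
        (Ideal.span_singleton_le_iff_mem _).2 (hIm hy)
      exact (maximalIdeal.isMaximal R).ne_top (top_le_iff.1 (h ▸ h1))
    haveI : IsLocalRing (R ⧸ Ideal.span {y}) := Groth.Agent.Lib.Helper5.isLocalRing_quotient hne
    have hI' : I.map (Ideal.Quotient.mk (Ideal.span {y})) ≠ ⊤ := by
      intro h
      have h1 : I.map (Ideal.Quotient.mk (Ideal.span {y})) ≤
          maximalIdeal (R ⧸ Ideal.span {y}) := by
        rw [Ideal.map_le_iff_le_comap]
        intro z hz
        rw [Ideal.mem_comap]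
        exact (Groth.Agent.Lib.Helper5.mk_mem_maximalIdeal_quotient_iff _ z).2 (hIm hz)
      exact (maximalIdeal.isMaximal _).ne_top (top_le_iff.1 (h ▸ h1))
    have hpd' : ∃ n, HasProjectiveDimensionLT (ModuleCat.of (R ⧸ Ideal.span {y})
        ↥(I.map (Ideal.Quotient.mk (Ideal.span {y})))) n := by
      obtain ⟨i, ρ, hri⟩ := exists_retract_quotSMulTop I y hy (ψ 0) (by rw [hψy 0, if_pos rfl])
      have hJreg : IsSMulRegular ↥I y := hyregS.submodule I y
      have hn1 : HasProjectiveDimensionLT (ModuleCat.of R ↥I) (n + 1) :=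
        hasProjectiveDimensionLT_of_ge _ n (n + 1) (Nat.le_succ n)
      have h2 := hasProjectiveDimensionLT_quotSMulTop y hyregS n ↥I hJreg hn1
      exact ⟨n + 1, hasProjectiveDimensionLT_of_retract i ρ hri (n + 1) h2⟩
    have hdesc : ∀ j : Fin r, _ := fun j =>
      exists_descended_functional I y hy (ψ j.succ)
        (by rw [hψy, if_neg (Fin.succ_ne_zero j).symm])
    choose ψ' hψ' using hdesc
    have hx₀' : ∀ i : Fin r, Ideal.Quotient.mk (Ideal.span {y}) (x₀ i.succ) ∈
        I.map (Ideal.Quotient.mk (Ideal.span {y})) := fun i => Ideal.mem_map_of_mem _ (hx₀ i.succ)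
    have hψ'' : ∀ i j : Fin r, ψ' j ⟨Ideal.Quotient.mk (Ideal.span {y}) (x₀ i.succ), hx₀' i⟩ =
        if i = j then 1 else 0 := by
      intro i j
      rw [hψ' j (x₀ i.succ) (hx₀ i.succ), hψ i.succ j.succ]
      by_cases h : i = j
      · rw [if_pos h, if_pos (congrArg Fin.succ h), map_one]
      · rw [if_neg h, if_neg (fun h' => h (Fin.succ_injective _ h')), map_zero]
    obtain ⟨x', hx'2, hx'reg⟩ := ih (R ⧸ Ideal.span {y}) _ hI' hpd'
      (fun i => Ideal.Quotient.mk (Ideal.span {y}) (x₀ i.succ)) hx₀' ψ' hψ''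
    have hlift : ∀ i : Fin r, ∃ w : R, Ideal.Quotient.mk (Ideal.span {y}) w = x' i ∧
        w - x₀ i.succ ∈ I ^ 2 := by
      intro i
      have h1 := hx'2 i
      rw [← Ideal.map_pow] at h1
      obtain ⟨v, hv, hv'⟩ :=
        (Ideal.mem_map_iff_of_surjective _ Ideal.Quotient.mk_surjective).mp h1
      refine ⟨x₀ i.succ + v, ?_, by simpa using hv⟩
      rw [map_add, hv']
      ring
    choose w hw hw2 using hlift
    refine ⟨Fin.cons y w, ?_, ?_⟩
    · intro i
      refine Fin.cases ?_ (fun i => ?_) i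
      · simpa using hy2
      · simpa using hw2 i
    · rw [List.ofFn_succ]
      simp only [Fin.cons_zero, Fin.cons_succ]
      rw [isWeaklyRegular_cons_iff]
      refine ⟨hyregS, ?_⟩
      have hsm : (y • (⊤ : Submodule R R)) = Ideal.span {y} := by
        rw [← Submodule.ideal_span_singleton_smul, smul_eq_mul, Ideal.mul_top]
      let e : QuotSMulTop y R ≃ₗ[R] (R ⧸ Ideal.span {y}) := Submodule.quotEquivOfEq _ _ hsm
      rw [e.isWeaklyRegular_congr,
        ← isWeaklyRegular_map_algebraMap_iff (R ⧸ Ideal.span {y}) (R ⧸ Ideal.span {y})]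
      have : (List.ofFn w).map (algebraMap R (R ⧸ Ideal.span {y})) = List.ofFn x' := by
        rw [List.map_ofFn]
        congr 1
        ext i
        exact hw i
      rw [this]
      exact hx'reg

end Helpers


/-- Let R be a Noetherian local ring and I an ideal of finite projective dimension as an R-module. If F
is a direct summand of I/I^2 which is free of rank r over R/I, then there is a regular sequence x_1,
..., x_r of R inside I whose classes in I/I^2 generate F. -/
theorem result {R : Type u} [CommRing R]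
    [IsNoetherianRing R] [IsLocalRing R] (I : Ideal R) (hI : I ≠ ⊤) (n : ℕ)
    (hpd : HasProjectiveDimensionLT (ModuleCat.of R I) n)
    (F G : Submodule (R ⧸ I) I.Cotangent) (hFG : IsCompl F G) (r : ℕ)
    (e : F ≃ₗ[R ⧸ I] (Fin r → R ⧸ I)) :
    ∃ (x : Fin r → R) (hx : ∀ i, x i ∈ I), RingTheory.Sequence.IsRegular R (List.ofFn x) ∧
      Submodule.span (R ⧸ I) (Set.range fun i => I.toCotangent ⟨x i, hx i⟩) = F := by
  classical
  have hsurjC := I.toCotangent_surjective
  -- the basis of `F` and lifts to `I`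
  let f : Fin r → F := fun i => e.symm (Pi.single i 1)
  choose z hz using fun i => hsurjC (f i : I.Cotangent)
  -- the coordinate functionals
  let proj : I.Cotangent →ₗ[R ⧸ I] F := Submodule.projectionOnto F G hFG
  let ψ : Fin r → (I →ₗ[R] R ⧸ I) := fun j =>
    ((LinearMap.proj j ∘ₗ e.toLinearMap ∘ₗ proj).restrictScalars R) ∘ₗ I.toCotangent
  have hψ : ∀ i j, ψ j ⟨(z i : R), (z i).2⟩ = if i = j then 1 else 0 := by
    intro i j
    show (e (proj (I.toCotangent ⟨(z i : R), (z i).2⟩))) j = _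
    have h1 : I.toCotangent ⟨(z i : R), (z i).2⟩ = (f i : I.Cotangent) := hz i
    rw [h1]
    have h2 : proj (f i : I.Cotangent) = f i := Submodule.projectionOnto_apply_left hFG (f i)
    rw [h2]
    show (e (e.symm (Pi.single i 1))) j = _
    rw [LinearEquiv.apply_symm_apply, Pi.single_apply]
    by_cases h : i = j
    · rw [if_pos h, if_pos h.symm]
    · rw [if_neg h, if_neg (fun h' => h h'.symm)]
  obtain ⟨x, hx2, hxreg⟩ := claim r R I hI ⟨n, hpd⟩ (fun i => (z i : R)) (fun i => (z i).2) ψ hψ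
  have hx : ∀ i, x i ∈ I := by
    intro i
    have : x i = (z i : R) + (x i - z i) := by ring
    rw [this]
    exact I.add_mem (z i).2 (Ideal.pow_le_self (by norm_num) (hx2 i))
  refine ⟨x, hx, ⟨hxreg, ?_⟩, ?_⟩
  · rw [smul_eq_mul, Ideal.mul_top]
    intro h
    apply hI
    rw [eq_top_iff, h, Ideal.ofList, Ideal.span_le]
    intro a ha
    obtain ⟨i, rfl⟩ := (List.mem_ofFn' x a).mp ha
    exact hx i
  · have hclass : ∀ i, I.toCotangent ⟨x i, hx i⟩ = (f i : I.Cotangent) := by
      intro i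
      rw [← hz i, Ideal.toCotangent_eq]
      exact hx2 i
    have hfun : (fun i => I.toCotangent ⟨x i, hx i⟩) =
        (F.subtype ∘ₗ e.symm.toLinearMap) ∘ (fun i => (Pi.single i 1 : Fin r → R ⧸ I)) := by
      funext i
      exact hclass i
    rw [hfun, Set.range_comp, ← Submodule.map_span]
    have hbasis : Submodule.span (R ⧸ I)
        (Set.range fun i => (Pi.single i 1 : Fin r → R ⧸ I)) = ⊤ := by
      have := (Pi.basisFun (R ⧸ I) (Fin r)).span_eq
      convert this using 3
      funext i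
      simp
    rw [hbasis, Submodule.map_top, LinearMap.range_comp, LinearEquiv.range, Submodule.map_top,
      Submodule.range_subtype]

end Groth.Agent.S2188
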