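import Groth.Statements.S2218
import Mathlib.RingTheory.Localization.Integer
import Mathlib.Algebra.Module.LocalizedModule.Basic
import Mathlib.LinearAlgebra.Dual.Lemmas
import Mathlib.RingTheory.Localization.FractionRing
import Mathlib.RingTheory.Ideal.GoingUp
import Mathlib.RingTheory.IntegralClosure.IsIntegralClosure.Basic

set_option autoImplicit false
universe u v
open Disc

namespace Groth.Agent.S2218

section Helpers

open Submodule

/-- A nonzero finite torsion-free module over a domain admits a nonzero linear functional. -/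
theorem exists_linearMap_ne_zero (D : Type u) (M : Type v) [CommRing D] [IsDomain D] [AddCommGroup M]
    [Module D M] [Module.Finite D M] (htf : ∀ (d : D) (m : M), d • m = 0 → d = 0 ∨ m = 0)
    (m₀ : M) (hm₀ : m₀ ≠ 0) : ∃ ψ : M →ₗ[D] D, ψ m₀ ≠ 0 := by
  classical
  let S := nonZeroDivisors D
  let K := FractionRing D
  let V := LocalizedModule S M
  have hv₀ : (LocalizedModule.mk m₀ 1 : V) ≠ 0 := by
    intro h
    rw [← LocalizedModule.zero_mk 1, LocalizedModule.mk_eq] at h
    obtain ⟨u, hu⟩ := h
    simp only [one_smul, smul_zero] at hu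
    rcases htf (u : D) m₀ hu with h | h
    · exact nonZeroDivisors.coe_ne_zero u h
    · exact hm₀ h
  obtain ⟨f, hf⟩ := Module.Projective.exists_dual_ne_zero K hv₀
  let g : M →ₗ[D] K := (f.restrictScalars D) ∘ₗ (LocalizedModule.mkLinearMap S M)
  have hg₀ : g m₀ ≠ 0 := hf
  obtain ⟨gens, hgens⟩ := (Module.Finite.fg_top : (⊤ : Submodule D M).FG)
  obtain ⟨b, hb⟩ := IsLocalization.exist_integer_multiples_of_finset S (gens.image g)
  let T : Submodule D K := LinearMap.range (Algebra.linearMap D K)
  let h : M →ₗ[D] K := (b : D) • g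
  have hmem : ∀ m, h m ∈ T := by
    intro m
    have hm : m ∈ Submodule.span D (gens : Set M) := hgens ▸ Submodule.mem_top
    induction hm using Submodule.span_induction with
    | mem x hx =>
      obtain ⟨d, hd⟩ := hb (g x) (Finset.mem_image_of_mem g hx)
      exact ⟨d, hd⟩
    | zero => simp
    | add x y _ _ hx hy => rw [map_add]; exact T.add_mem hx hy
    | smul a x _ hx => rw [map_smul]; exact T.smul_mem a hx
  have hinj : Function.Injective (Algebra.linearMap D K) := IsFractionRing.injective D K
  let e := LinearEquiv.ofInjective (Algebra.linearMap D K) hinj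
  refine ⟨e.symm.toLinearMap ∘ₗ h.codRestrict T hmem, ?_⟩
  intro h0
  simp only [LinearMap.coe_comp, LinearEquiv.coe_coe, Function.comp_apply,
    EmbeddingLike.map_eq_zero_iff] at h0
  have h1 : h m₀ = 0 := congrArg Subtype.val h0
  have h2 : (b : D) • g m₀ = 0 := h1
  rw [Algebra.smul_def, mul_eq_zero] at h2
  rcases h2 with h2 | h2
  · rw [map_eq_zero_iff _ (IsFractionRing.injective D K)] at h2
    exact nonZeroDivisors.coe_ne_zero b h2
  · exact hg₀ h2

variable {A : Type u} {B : Type v} [CommRing A] [CommRing B] [Algebra A B]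

theorem smul_eq_zero_iff (b : B) (φ : Disc.Omega A B) :
    b • φ = 0 ↔ ∀ x, φ.toLinearMap (b * x) = 0 := by
  constructor
  · intro h x
    have := congrArg (fun ψ : Disc.Omega A B => ψ.toLinearMap x) h
    simpa using this
  · intro h
    apply Disc.Omega.ext
    ext x
    simpa using h x

/-- the inclusion `⊆`. -/
theorem comap_mem_of_mem [IsNoetherianRing A] [IsNoetherianRing B] [Module.Finite A B]
    (q : Ideal B) (hq : q ∈ associatedPrimes B (Disc.Omega A B)) :
    q.IsPrime ∧ q.comap (algebraMap A B) ∈ associatedPrimes A A := by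
  classical
  obtain ⟨hqp, φ, hφ⟩ := (isAssociatedPrime_iff (M := Disc.Omega A B)).mp hq
  refine ⟨hqp, ?_⟩
  have hpprime : (q.comap (algebraMap A B)).IsPrime := Ideal.comap_isPrime _ _
  obtain ⟨gens, hgens⟩ := (Module.Finite.fg_top : (⊤ : Submodule A B).FG)
  have hmem : ∀ a : A, a ∈ q.comap (algebraMap A B) ↔ ∀ b ∈ gens, a * φ.toLinearMap b = 0 := by
    intro a
    rw [Ideal.mem_comap, hφ, mem_colon_singleton, mem_bot, smul_eq_zero_iff]
    constructor
    · intro h b _
      have := h b
      rwa [← Algebra.smul_def, map_smul, smul_eq_mul] at this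
    · intro h x
      rw [← Algebra.smul_def, map_smul, smul_eq_mul]
      have hx : x ∈ Submodule.span A (gens : Set B) := hgens ▸ Submodule.mem_top
      induction hx using Submodule.span_induction with
      | mem y hy => exact h y hy
      | zero => simp
      | add y z _ _ hy hz => rw [map_add, mul_add, hy, hz, add_zero]
      | smul c y _ hy => rw [map_smul, smul_eq_mul, mul_left_comm, hy, mul_zero]
  have hle : gens.inf (fun b => (⊥ : Submodule A A).colon {φ.toLinearMap b}) ≤
      q.comap (algebraMap A B) := by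
    intro a ha
    rw [hmem]
    intro b hb
    have := (Finset.inf_le (f := fun b => (⊥ : Submodule A A).colon {φ.toLinearMap b}) hb) ha
    rwa [mem_colon_singleton, mem_bot, smul_eq_mul] at this
  obtain ⟨b, hb, hble⟩ := (Ideal.IsPrime.inf_le' hpprime).mp hle
  rw [AssociatedPrimes.mem_iff, isAssociatedPrime_iff]
  refine ⟨hpprime, φ.toLinearMap b, le_antisymm ?_ hble⟩
  intro a ha
  rw [mem_colon_singleton, mem_bot, smul_eq_mul]
  exact (hmem a).mp ha b hb

/-- the inclusion `⊇`. -/
theorem mem_of_comap_mem [IsNoetherianRing A] [IsNoetherianRing B] [Module.Finite A B]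
    (q : Ideal B) [hqp : q.IsPrime] (hq : q.comap (algebraMap A B) ∈ associatedPrimes A A) :
    q ∈ associatedPrimes B (Disc.Omega A B) := by
  classical
  obtain ⟨hpprime, a, ha⟩ := (isAssociatedPrime_iff (M := A)).mp hq
  have hmemp : ∀ r : A, algebraMap A B r ∈ q ↔ r * a = 0 := by
    intro r
    rw [← Ideal.mem_comap, ha, mem_colon_singleton, mem_bot, smul_eq_mul]
  -- notation
  let D := A ⧸ q.comap (algebraMap A B)
  let M := B ⧸ q
  haveI : IsDomain D := Ideal.Quotient.isDomain _
  haveI : IsDomain M := Ideal.Quotient.isDomain _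
  have hinj : Function.Injective (algebraMap D M) := Ideal.algebraMap_quotient_injective
  haveI : Module.Finite D M := by
    haveI : Module.Finite A M :=
      Module.Finite.of_surjective (Ideal.Quotient.mkₐ A q).toLinearMap
        (Ideal.Quotient.mkₐ_surjective A q)
    exact Module.Finite.of_restrictScalars_finite A D M
  have htf : ∀ (d : D) (m : M), d • m = 0 → d = 0 ∨ m = 0 := by
    intro d m h
    rw [Algebra.smul_def, mul_eq_zero] at h
    rcases h with h | h
    · left; exact (map_eq_zero_iff _ hinj).mp h
    · right; exact h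
  obtain ⟨ψ, hψ⟩ := exists_linearMap_ne_zero D M htf 1 one_ne_zero
  -- the embedding `D → A`, `d ↦ d * a`
  have hker : q.comap (algebraMap A B) ≤ LinearMap.ker (LinearMap.toSpanSingleton A A a) := by
    intro r hr
    rw [LinearMap.mem_ker, LinearMap.toSpanSingleton_apply, smul_eq_mul]
    exact (hmemp r).mp hr
  let ι : D →ₗ[A] A := Submodule.liftQ _ (LinearMap.toSpanSingleton A A a) hker
  have hιinj : Function.Injective ι := by
    rw [← LinearMap.ker_eq_bot]
    apply Submodule.ker_liftQ_eq_bot
    intro r hr
    rw [LinearMap.mem_ker, LinearMap.toSpanSingleton_apply, smul_eq_mul] at hr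
    exact (hmemp r).mpr hr
  let φ₀ : B →ₗ[A] A := ι ∘ₗ (ψ.restrictScalars A) ∘ₗ (Ideal.Quotient.mkₐ A q).toLinearMap
  have hφ₀ : ∀ x : B, φ₀ x = ι (ψ (Ideal.Quotient.mk q x)) := fun x => rfl
  rw [AssociatedPrimes.mem_iff, isAssociatedPrime_iff]
  refine ⟨hqp, ⟨φ₀⟩, ?_⟩
  ext b
  rw [mem_colon_singleton, mem_bot, smul_eq_zero_iff]
  constructor
  · intro hb x
    show φ₀ (b * x) = 0
    rw [hφ₀]
    have : Ideal.Quotient.mk q (b * x) = 0 :=
      Ideal.Quotient.eq_zero_iff_mem.mpr (q.mul_mem_right x hb)
    rw [this, map_zero, map_zero]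
  · intro h
    by_contra hb
    have hb0 : (Ideal.Quotient.mk q b : M) ≠ 0 := fun h0 => hb (Ideal.Quotient.eq_zero_iff_mem.mp h0)
    have hy : ∀ y : M, ψ (Ideal.Quotient.mk q b * y) = 0 := by
      intro y
      obtain ⟨x, rfl⟩ := Ideal.Quotient.mk_surjective y
      have h1 : φ₀ (b * x) = 0 := h x
      rw [hφ₀, map_mul] at h1
      exact (map_eq_zero_iff ι hιinj).mp h1
    haveI : Algebra.IsIntegral D M := Algebra.IsIntegral.of_finite D M
    have hne := Ideal.comap_ne_bot_of_integral_mem (R := D) hb0
      (Ideal.mem_span_singleton_self (Ideal.Quotient.mk q b))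
      (Algebra.IsIntegral.isIntegral (R := D) _)
    obtain ⟨c, hc, hc0⟩ := Submodule.exists_mem_ne_zero_of_ne_bot hne
    rw [Ideal.mem_comap, Ideal.mem_span_singleton'] at hc
    obtain ⟨y, hy'⟩ := hc
    have h2 : ψ (algebraMap D M c) = 0 := by
      rw [← hy', mul_comm]
      exact hy y
    rw [Algebra.algebraMap_eq_smul_one, map_smul, smul_eq_mul, mul_eq_zero] at h2
    rcases h2 with h2 | h2
    · exact hc0 h2
    · exact hψ h2

end Helpers


/-- Special case: A -> B finite (the source allows quasi-finite maps). For a finite map of Noetherian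
rings and omega = Hom_A(B, A) with its B-module structure through the argument, the associated
primes of the B-module omega are exactly the primes of B whose contraction to A is an associated
prime of A. -/
theorem result {A : Type u} {B : Type v} [CommRing A] [CommRing B]
    [Algebra A B] [IsNoetherianRing A] [IsNoetherianRing B] [Module.Finite A B] :
    associatedPrimes B (Disc.Omega A B) =
      {q : Ideal B | q.IsPrime ∧ q.comap (algebraMap A B) ∈ associatedPrimes A A} := by
  ext q
  constructor
  · intro hq
    exact comap_mem_of_mem q hq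
  · rintro ⟨hqp, hq⟩
    exact mem_of_comap_mem q hq

end Groth.Agent.S2218
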