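import Groth.Statements.S2221
import Mathlib
import Groth.Agent.S2215

set_option autoImplicit false
universe u
open Disc

namespace Groth.Agent.S2221

namespace Aux

variable {A B : Type u} [CommRing A] [CommRing B] [Algebra A B] [IsNoetherianRing A]
  [Module.Finite A B] [Module.Free A B]

lemma mem_differentSet_iff (b : B) : b ∈ Disc.differentSet A B ↔
    ∀ l : Disc.Omega A B, ∃ c : B, b • l = c • Disc.Omega.trace A B := by
  constructor
  · intro h l
    obtain ⟨c, hc⟩ := h l.toLinearMap
    refine ⟨c, ?_⟩
    apply Disc.Omega.ext
    apply LinearMap.ext
    intro x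
    show l.toLinearMap (b * x) = (Disc.Omega.trace A B).toLinearMap (c * x)
    exact hc x
  · intro h φ
    obtain ⟨c, hc⟩ := h ⟨φ⟩
    refine ⟨c, fun x => ?_⟩
    have := congrArg (fun l : Disc.Omega A B => l.toLinearMap x) hc
    exact this

theorem main [Module.Invertible B (Disc.Omega A B)] :
    Disc.differentSet A B = (Disc.noetherDifferent A B : Set B) := by
  have hN := Groth.Agent.S2215.result (A := A) (B := B)
  ext b
  constructor
  · intro hb
    rw [mem_differentSet_iff] at hb
    have key : ∀ t : TensorProduct B (Module.Dual B (Disc.Omega A B)) (Disc.Omega A B),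
        b * (contractLeft B (Disc.Omega A B) t) ∈ Disc.noetherDifferent A B := by
      intro t
      induction t using TensorProduct.induction_on with
      | zero => simp
      | tmul φ l =>
        obtain ⟨c, hc⟩ := hb l
        have h1 : b * contractLeft B (Disc.Omega A B) (φ ⊗ₜ l)
            = c * φ (Disc.Omega.trace A B) := by
          rw [contractLeft_apply, ← smul_eq_mul, ← map_smul, hc, map_smul, smul_eq_mul]
        rw [h1]
        apply Ideal.mul_mem_left
        have : φ (Disc.Omega.trace A B) ∈ (Disc.noetherDifferent A B : Set B) := by
          rw [hN]; exact ⟨φ, rfl⟩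
        exact this
      | add x y hx hy =>
        rw [map_add, mul_add]; exact add_mem hx hy
    obtain ⟨t, ht⟩ := (Module.Invertible.bijective (R := B) (M := Disc.Omega A B)).2 1
    have := key t
    rw [ht, mul_one] at this
    exact this
  · intro hb
    rw [hN] at hb
    obtain ⟨φ, rfl⟩ := hb
    rw [mem_differentSet_iff]
    intro l
    obtain ⟨a, ha⟩ :=
      (Module.Invertible.toModuleEnd_bijective B (Disc.Omega A B)).2 (φ.smulRight l)
    refine ⟨a, ?_⟩
    have := congrArg (fun E : Module.End B (Disc.Omega A B) => E (Disc.Omega.trace A B)) ha
    simp at this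
    exact this.symm

end Aux

/-- Affine finite free case: let A be a Noetherian ring and B an A-algebra which is finite free as an
A-module, and suppose omega = Hom_A(B, A) is an invertible B-module. Then the different of B over A
(the b with b omega inside B Trace) equals the Noether different of B over A. -/
theorem result {A B : Type u} [CommRing A]
    [CommRing B] [Algebra A B] [IsNoetherianRing A] [Module.Finite A B] [Module.Free A B]
    [Module.Invertible B (Disc.Omega A B)] :
    Disc.differentSet A B = (Disc.noetherDifferent A B : Set B) := by
  exact Aux.main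

end Groth.Agent.S2221
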