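import Groth.Statements.S2229
import Mathlib
import Groth.Agent.S2215
import Groth.Agent.S2216
import Groth.Agent.S2221

set_option autoImplicit false
universe u
open Disc

namespace Groth.Agent.S2229

namespace Aux

variable {A B : Type u} [CommRing A] [CommRing B] [Algebra A B]

/-- the additive map wrapping functionals into Omega -/
def toΩ : (B →ₗ[A] A) →+ Disc.Omega A B where
  toFun l := ⟨l⟩
  map_zero' := rfl
  map_add' _ _ := rfl

lemma toΩ_smul (a : A) (l : B →ₗ[A] A) :
    toΩ (a • l) = (algebraMap A B a) • toΩ l := by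
  apply Disc.Omega.ext
  apply LinearMap.ext
  intro x
  show (a • l) x = l (algebraMap A B a * x)
  rw [← Algebra.smul_def, map_smul, LinearMap.smul_apply]

variable {ι : Type} [Fintype ι] [DecidableEq ι] (b : Module.Basis ι A B)

/-- matrix of φ in dual basis / basis -/
noncomputable def P (φ : Disc.Omega A B →ₗ[B] B) : Matrix ι ι A :=
  fun i j => b.repr (φ (toΩ (b.coord j))) i

lemma smul_tau (x : B) :
    x • (⟨Algebra.trace A B⟩ : Disc.Omega A B) =
      toΩ (∑ j, (Algebra.trace A B (x * b j)) • b.coord j) := by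
  apply Disc.Omega.ext
  apply LinearMap.ext
  intro y
  show Algebra.trace A B (x * y) = (∑ j, (Algebra.trace A B (x * b j)) • b.coord j) y
  rw [LinearMap.sum_apply]
  conv_lhs => rw [← b.sum_repr y]
  rw [Finset.mul_sum, map_sum]
  refine Finset.sum_congr rfl fun j _ => ?_
  rw [mul_smul_comm, map_smul, LinearMap.smul_apply, Module.Basis.coord_apply, smul_eq_mul,
    smul_eq_mul, mul_comm]

lemma expand (l : B →ₗ[A] A) : l = ∑ j, (l (b j)) • b.coord j := by
  apply b.ext
  intro i
  rw [LinearMap.sum_apply]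
  simp [Module.Basis.coord_apply, Finsupp.single_apply]

lemma phi_toΩ_sum (φ : Disc.Omega A B →ₗ[B] B) (a : ι → A) :
    φ (toΩ (∑ j, a j • b.coord j)) = ∑ j, algebraMap A B (a j) * φ (toΩ (b.coord j)) := by
  rw [map_sum, map_sum]
  refine Finset.sum_congr rfl fun j _ => ?_
  rw [toΩ_smul, map_smul, smul_eq_mul]

lemma leftMul_eq (φ : Disc.Omega A B →ₗ[B] B) :
    Algebra.leftMulMatrix b (φ ⟨Algebra.trace A B⟩) = P b φ * Algebra.traceMatrix A b := by
  ext i k
  rw [Algebra.leftMulMatrix_eq_repr_mul, Matrix.mul_apply]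
  have h1 : φ ⟨Algebra.trace A B⟩ * b k =
      φ (b k • (⟨Algebra.trace A B⟩ : Disc.Omega A B)) := by
    rw [map_smul, smul_eq_mul, mul_comm]
  rw [h1, smul_tau b, phi_toΩ_sum b, map_sum, Finsupp.coe_finset_sum, Finset.sum_apply]
  refine Finset.sum_congr rfl fun j _ => ?_
  rw [← Algebra.smul_def, map_smul, Finsupp.smul_apply, smul_eq_mul, Algebra.traceMatrix_apply,
    Algebra.traceForm_apply, mul_comm (b k) (b j), mul_comm]
  rfl

lemma norm_eq (φ : Disc.Omega A B →ₗ[B] B) :
    Algebra.norm A (φ ⟨Algebra.trace A B⟩) = (P b φ).det * Algebra.discr A b := by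
  rw [Algebra.norm_eq_matrix_det b, leftMul_eq, Matrix.det_mul, Algebra.discr_def]

lemma exists_not_mem [Module.Invertible B (Disc.Omega A B)] (n : Ideal B) (hn : n ≠ ⊤) :
    ∃ (φ : Disc.Omega A B →ₗ[B] B) (l : Disc.Omega A B), φ l ∉ n := by
  by_contra hcon
  push Not at hcon
  have key : ∀ t : TensorProduct B (Module.Dual B (Disc.Omega A B)) (Disc.Omega A B),
      contractLeft B (Disc.Omega A B) t ∈ n := by
    intro t
    induction t using TensorProduct.induction_on with
    | zero => simp
    | tmul φ l => rw [contractLeft_apply]; exact hcon φ l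
    | add x y hx hy => rw [map_add]; exact add_mem hx hy
  obtain ⟨t, ht⟩ := (Module.Invertible.bijective (R := B) (M := Disc.Omega A B)).2 1
  exact hn ((Ideal.eq_top_iff_one n).2 (ht ▸ key t))

lemma exists_phi_range [Module.Finite A B] [Module.Invertible B (Disc.Omega A B)]
    (m : Ideal A) [hm : m.IsMaximal] :
    ∃ φ : Disc.Omega A B →ₗ[B] B,
      (LinearMap.range φ : Ideal B) ⊔ m.map (algebraMap A B) = ⊤ := by
  classical
  have hfin : (m.primesOver B).Finite := Algebra.QuasiFinite.finite_primesOver m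
  set s := hfin.toFinset with hs
  have hmem : ∀ n, n ∈ s ↔ n ∈ m.primesOver B := fun n => hfin.mem_toFinset
  have hmax : ∀ n ∈ s, n.IsMaximal := by
    intro n hn
    rw [hmem] at hn
    obtain ⟨hp, hl⟩ := hn
    haveI := hp
    haveI := hl
    exact Ideal.IsMaximal.of_liesOver_isMaximal n m
  have h1 : ∀ n : Ideal B, ∃ (φ : Disc.Omega A B →ₗ[B] B) (l : Disc.Omega A B),
      n ∈ s → φ l ∉ n := by
    intro n
    by_cases hn : n ∈ s
    · obtain ⟨φ, l, h⟩ := exists_not_mem (A := A) n (hmax n hn).ne_top
      exact ⟨φ, l, fun _ => h⟩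
    · exact ⟨0, 0, fun h => absurd h hn⟩
  choose Φ L hΦ using h1
  have h2 : ∀ n : Ideal B, ∃ e : B, n ∈ s → (e ∉ n ∧ ∀ n' ∈ s, n' ≠ n → e ∈ n') := by
    intro n
    by_cases hn : n ∈ s
    · have hnle : ¬ (∏ n' ∈ s.erase n, n') ≤ n := by
        intro hle
        rw [(hmax n hn).isPrime.prod_le] at hle
        obtain ⟨n', hn', hle'⟩ := hle
        rw [Finset.mem_erase] at hn'
        exact hn'.1 ((hmax n' hn'.2).eq_of_le (hmax n hn).ne_top hle')
      obtain ⟨e, he, hen⟩ := SetLike.not_le_iff_exists.1 hnle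
      refine ⟨e, fun _ => ⟨hen, fun n' hn' hne => ?_⟩⟩
      have hle2 : (∏ n'' ∈ s.erase n, n'') ≤ n' :=
        Ideal.prod_le_inf.trans (Finset.inf_le (Finset.mem_erase.2 ⟨hne, hn'⟩))
      exact hle2 he
    · exact ⟨0, fun h => absurd h hn⟩
  choose E hE using h2
  let φ : Disc.Omega A B →ₗ[B] B := ∑ n ∈ s, E n • Φ n
  have h3 : ∀ n ∈ s, φ (L n) ∉ n := by
    intro n hn hcon
    have hsum : φ (L n) = E n * Φ n (L n) + ∑ n' ∈ s.erase n, E n' * Φ n' (L n) := by
      simp only [φ, LinearMap.sum_apply, LinearMap.smul_apply, smul_eq_mul]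
      exact (Finset.add_sum_erase s (fun x => E x * Φ x (L n)) hn).symm
    rw [hsum] at hcon
    have hrest : ∑ n' ∈ s.erase n, E n' * Φ n' (L n) ∈ n := by
      apply Ideal.sum_mem
      intro n' hn'
      rw [Finset.mem_erase] at hn'
      exact Ideal.mul_mem_right _ _ ((hE n' hn'.2).2 n hn (Ne.symm hn'.1))
    have h4 : E n * Φ n (L n) ∈ n := by
      have := Ideal.sub_mem n hcon hrest
      simpa using this
    rcases (hmax n hn).isPrime.mem_or_mem h4 with h | h
    · exact (hE n hn).1 h
    · exact hΦ n hn h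
  refine ⟨φ, ?_⟩
  by_contra hne
  obtain ⟨n, hnmax, hle⟩ := Ideal.exists_le_maximal _ hne
  have hn : n ∈ s := by
    rw [hmem]
    refine ⟨hnmax.isPrime, ⟨?_⟩⟩
    have h1 : m ≤ n.comap (algebraMap A B) := by
      rw [← Ideal.map_le_iff_le_comap]; exact le_sup_right.trans hle
    exact hm.eq_of_le (Ideal.comap_ne_top _ hnmax.ne_top) h1
  exact h3 n hn (hle (Ideal.mem_sup_left ⟨L n, rfl⟩))

lemma det_not_mem (φ : Disc.Omega A B →ₗ[B] B) (m : Ideal A) [hm : m.IsMaximal]
    (hφ : (LinearMap.range φ : Ideal B) ⊔ m.map (algebraMap A B) = ⊤) :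
    (P b φ).det ∉ m := by
  classical
  intro hdet
  letI : Field (A ⧸ m) := Ideal.Quotient.field m
  have hdet0 : ((Ideal.Quotient.mk m).mapMatrix (P b φ)).det = 0 := by
    rw [← RingHom.map_det, Ideal.Quotient.eq_zero_iff_mem]
    exact hdet
  obtain ⟨vb, hvb0, hvb⟩ := Matrix.exists_vecMul_eq_zero_iff.2 hdet0
  have hlift : ∀ i, ∃ a : A, Ideal.Quotient.mk m a = vb i :=
    fun i => Ideal.Quotient.mk_surjective (vb i)
  choose v hv using hlift
  let g : B →ₗ[A] A := ∑ i, v i • b.coord i
  have hg_apply : ∀ y : B, g y = ∑ i, v i * b.repr y i := by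
    intro y
    simp only [g, LinearMap.sum_apply, LinearMap.smul_apply, Module.Basis.coord_apply, smul_eq_mul]
  -- g kills φ (coord j) mod m
  have hg1 : ∀ j, g (φ (toΩ (b.coord j))) ∈ m := by
    intro j
    rw [hg_apply, ← Ideal.Quotient.eq_zero_iff_mem, map_sum]
    have h := congrFun hvb j
    simp only [Matrix.vecMul, dotProduct, RingHom.mapMatrix_apply, Matrix.map_apply,
      Pi.zero_apply] at h
    rw [← h]
    refine Finset.sum_congr rfl fun i _ => ?_
    rw [map_mul, hv]
    rfl
  have hgalg : ∀ (a : A) (y : B), g (algebraMap A B a * y) = a * g y := by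
    intro a y
    rw [← Algebra.smul_def, map_smul, smul_eq_mul]
  have hg2 : ∀ l : Disc.Omega A B, g (φ l) ∈ m := by
    intro l
    have hl : l = toΩ (∑ j, (l.toLinearMap (b j)) • b.coord j) := by
      apply Disc.Omega.ext
      exact expand b l.toLinearMap
    rw [hl, phi_toΩ_sum b, map_sum]
    apply Ideal.sum_mem
    intro j _
    rw [hgalg]
    exact Ideal.mul_mem_left _ _ (hg1 j)
  have hg3 : ∀ y ∈ m.map (algebraMap A B), ∀ c : B, g (c * y) ∈ m := by
    intro y hy
    unfold Ideal.map at hy
    induction hy using Submodule.span_induction with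
    | mem x hx =>
      obtain ⟨a, ha, rfl⟩ := hx
      intro c
      rw [mul_comm, hgalg]
      exact Ideal.mul_mem_right _ _ ha
    | zero => intro c; simp
    | add x y _ _ hx hy => intro c; rw [mul_add, map_add]; exact Ideal.add_mem _ (hx c) (hy c)
    | smul c' x _ hx => intro c; rw [smul_eq_mul, ← mul_assoc]; exact hx (c * c')
  have hg4 : ∀ z : B, g z ∈ m := by
    intro z
    have hz : z ∈ (LinearMap.range φ : Ideal B) ⊔ m.map (algebraMap A B) := by
      rw [hφ]; trivial
    obtain ⟨x, hx, y, hy, rfl⟩ := Submodule.mem_sup.1 hz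
    obtain ⟨l, rfl⟩ := hx
    rw [map_add]
    refine Ideal.add_mem _ (hg2 l) ?_
    have := hg3 y hy 1
    rwa [one_mul] at this
  apply hvb0
  funext i
  have h5 := hg4 (b i)
  rw [hg_apply] at h5
  simp only [Module.Basis.repr_self, Finsupp.single_apply] at h5
  rw [Finset.sum_eq_single i] at h5
  · simp only [if_true, mul_one] at h5
    rw [Pi.zero_apply, ← hv, Ideal.Quotient.eq_zero_iff_mem]
    exact h5
  · intro j _ hji
    rw [if_neg (Ne.symm hji), mul_zero]
  · intro h; exact absurd (Finset.mem_univ i) h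

theorem main [IsNoetherianRing A] [Module.Invertible B (Disc.Omega A B)] :
    Ideal.span (Algebra.norm A '' Disc.differentSet A B) = Ideal.span {Algebra.discr A b} := by
  haveI : Module.Finite A B := Module.Finite.of_basis b
  haveI : Module.Free A B := Module.Free.of_basis b
  apply le_antisymm
  · rw [Ideal.span_le]
    rintro _ ⟨x, hx, rfl⟩
    exact Groth.Agent.S2216.result b x hx
  · rw [Ideal.span_le, Set.singleton_subset_iff]
    set D : Ideal A := Ideal.span (Algebra.norm A '' Disc.differentSet A B) with hD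
    let C : Ideal A :=
      { carrier := {a | a * Algebra.discr A b ∈ D}
        add_mem' := by
          intro x y hx hy
          simp only [Set.mem_setOf_eq, add_mul] at *
          exact D.add_mem hx hy
        zero_mem' := by simp
        smul_mem' := by
          intro c x hx
          simp only [Set.mem_setOf_eq, smul_eq_mul, mul_assoc] at *
          exact D.mul_mem_left c hx }
    by_cases hC : C = ⊤
    · have h1 : (1 : A) ∈ C := by rw [hC]; trivial
      have h2 : (1 : A) * Algebra.discr A b ∈ D := h1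
      rwa [one_mul] at h2
    · exfalso
      obtain ⟨m, hm, hCm⟩ := Ideal.exists_le_maximal C hC
      haveI := hm
      obtain ⟨φ, hφ⟩ := exists_phi_range (A := A) (B := B) m
      apply det_not_mem b φ m hφ
      apply hCm
      show (P b φ).det * Algebra.discr A b ∈ D
      rw [← norm_eq b φ]
      apply Ideal.subset_span
      refine ⟨_, ?_, rfl⟩
      rw [Groth.Agent.S2221.result (A := A) (B := B)]
      have := Groth.Agent.S2215.result (A := A) (B := B)
      rw [this]
      exact ⟨φ, rfl⟩

end Aux

/-- Part (2), special case: affine with B finite free over the Noetherian ring A (basis b) and omega =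
Hom_A(B, A) an invertible B-module. Then the ideal of A generated by the norms of all elements of
the different of B over A equals the ideal generated by the discriminant of the basis b (the norm of
the ramification locus is the discriminant). -/
theorem result {A B : Type u} [CommRing A] [CommRing B]
    [Algebra A B] [IsNoetherianRing A] {ι : Type} [Fintype ι] [DecidableEq ι]
    (b : Module.Basis ι A B) [Module.Invertible B (Disc.Omega A B)] :
    Ideal.span (Algebra.norm A '' Disc.differentSet A B) = Ideal.span {Algebra.discr A b} := by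
  exact Aux.main b

end Groth.Agent.S2229
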