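import Groth.Statements.S2470
import Mathlib
import Groth.Agent.Lib.Helper5LocalDim
import Groth.Agent.S2082
import Groth.Agent.Lib.Helper28FlatNormal
import Groth.Agent.Lib.Helper28RegLoc
import Groth.Agent.Lib.Helper5RLR3

set_option autoImplicit false
set_option linter.style.haveILetI false
universe u
open EGA41

namespace Groth.Agent.S2470

section Helpers
open IsLocalRing

section Emb

variable {A B : Type u} [CommRing A] [IsLocalRing A] [IsNoetherianRing A] [CommRing B] [IsLocalRing B]
  [IsNoetherianRing B] [Algebra A B] [IsLocalHom (algebraMap A B)]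
  [IsLocalRing (B ⧸ (maximalIdeal A).map (algebraMap A B))]

/-- the embedding dimension of `B` is at most that of `A` plus that of the closed fibre -/
theorem spanFinrank_maximalIdeal_le_add :
    (maximalIdeal B).spanFinrank ≤ (maximalIdeal A).spanFinrank +
      (maximalIdeal (B ⧸ (maximalIdeal A).map (algebraMap A B))).spanFinrank := by
  classical
  set I : Ideal B := (maximalIdeal A).map (algebraMap A B) with hI
  obtain ⟨sA, hsAc, hsA⟩ :=
    Submodule.FG.exists_span_finset_card_eq_spanFinrank (maximalIdeal A).fg_of_isNoetherianRing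
  obtain ⟨s0, hs0c, hs0⟩ :=
    Submodule.FG.exists_span_finset_card_eq_spanFinrank (maximalIdeal (B ⧸ I)).fg_of_isNoetherianRing
  let σ : B ⧸ I → B := Function.surjInv Ideal.Quotient.mk_surjective
  have hσ : ∀ x, Ideal.Quotient.mk I (σ x) = x := Function.surjInv_eq Ideal.Quotient.mk_surjective
  let T : Finset B := sA.image (algebraMap A B) ∪ s0.image σ
  have hloc : IsLocalHom (Ideal.Quotient.mk I) := IsLocalHom.of_surjective _ Ideal.Quotient.mk_surjective
  have hT : Submodule.span B (T : Set B) = maximalIdeal B := by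
    apply le_antisymm
    · rw [Submodule.span_le]
      intro b hb
      simp only [T, Finset.coe_union, Finset.coe_image, Set.mem_union, Set.mem_image,
        Finset.mem_coe] at hb
      rcases hb with ⟨a, ha, rfl⟩ | ⟨x, hx, rfl⟩
      · have ham : a ∈ maximalIdeal A := by rw [← hsA]; exact Submodule.subset_span ha
        have : maximalIdeal A ≤ (maximalIdeal B).comap (algebraMap A B) := by
          rw [IsLocalRing.maximalIdeal_comap]
        exact this ham
      · have hxm : x ∈ maximalIdeal (B ⧸ I) := by rw [← hs0]; exact Submodule.subset_span hx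
        rw [IsLocalRing.mem_maximalIdeal, mem_nonunits_iff] at hxm
        rw [SetLike.mem_coe, IsLocalRing.mem_maximalIdeal, mem_nonunits_iff]
        intro hu
        apply hxm
        rw [← hσ x]
        exact hu.map _
    · intro b hb
      have hbm : Ideal.Quotient.mk I b ∈ maximalIdeal (B ⧸ I) := by
        rw [IsLocalRing.mem_maximalIdeal, mem_nonunits_iff] at hb ⊢
        intro hu
        exact hb (hloc.map_nonunit b hu)
      rw [← hs0] at hbm
      have h1 : Submodule.span (B ⧸ I) (s0 : Set (B ⧸ I)) =
          (Ideal.span ((s0.image σ : Finset B) : Set B)).map (Ideal.Quotient.mk I) := by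
        rw [Ideal.map_span]
        congr 1
        ext y
        simp only [Finset.coe_image, Set.mem_image, Finset.mem_coe]
        constructor
        · intro hy
          exact ⟨σ y, ⟨y, hy, rfl⟩, hσ y⟩
        · rintro ⟨_, ⟨z, hz, rfl⟩, rfl⟩
          rw [hσ z]; exact hz
      rw [h1, Ideal.mem_map_iff_of_surjective _ Ideal.Quotient.mk_surjective] at hbm
      obtain ⟨c, hc, hcb⟩ := hbm
      have hker : b - c ∈ I := by
        rw [← Ideal.Quotient.eq_zero_iff_mem, map_sub, hcb, sub_self]
      have hI' : I = Ideal.span ((sA.image (algebraMap A B) : Finset B) : Set B) := by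
        rw [hI, ← hsA, Ideal.map_span, Finset.coe_image]
      have : b = (b - c) + c := by ring
      rw [this]
      refine Submodule.add_mem _ ?_ ?_
      · rw [hI'] at hker
        exact Submodule.span_mono (by simp [T]) hker
      · exact Submodule.span_mono (by simp [T]) hc
  calc (maximalIdeal B).spanFinrank = (Submodule.span B (T : Set B)).spanFinrank := by rw [hT]
    _ ≤ (T : Set B).ncard := Submodule.spanFinrank_span_le_ncard_of_finite T.finite_toSet
    _ = T.card := Set.ncard_coe_finset T
    _ ≤ (sA.image (algebraMap A B)).card + (s0.image σ).card := Finset.card_union_le _ _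
    _ ≤ sA.card + s0.card := add_le_add Finset.card_image_le Finset.card_image_le
    _ = _ := by rw [hsAc, hs0c]

end Emb



theorem exists_nat_dim (R : Type u) [CommRing R] [IsLocalRing R] [IsNoetherianRing R] :
    ∃ n : ℕ, ringKrullDim R = n := by
  have h1 : ringKrullDim R ≠ ⊤ := ringKrullDim_ne_top
  have h2 : ringKrullDim R ≠ ⊥ := ringKrullDim_ne_bot
  obtain ⟨m, hm⟩ := WithBot.ne_bot_iff_exists.mp h2
  have : m ≠ ⊤ := by
    intro h; apply h1; rw [← hm, h]; rfl
  obtain ⟨n, hn⟩ := ENat.ne_top_iff_exists.mp this
  exact ⟨n, by rw [← hm, ← hn]; rfl⟩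


end Helpers

open IsLocalRing in
/-- Let A → B be a local homomorphism of Noetherian local rings with maximal ideals 𝔪, 𝔫 and residue
fields k, k', and let B₀ = B/𝔪B be the closed fibre. The following are equivalent: (a) B is regular
and the canonical map (𝔪/𝔪²) ⊗_k k' → 𝔫/𝔫² is injective — stated here through dimensions, as
rank_{k'} 𝔫/𝔫² = rank_k 𝔪/𝔪² + rank_{k'} of the cotangent space of B₀, which is equivalent since the
cokernel of that map is the cotangent space of B₀; (c) B and B₀ are regular and B is flat over A;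
(d) A and B₀ are regular and B is flat over A; (e) A and B₀ are regular and dim B = dim A + dim B₀.
(Condition (b) of the source, on regular systems of parameters, is not stated.) -/
theorem result {A B : Type u} [CommRing A] [IsLocalRing A] [IsNoetherianRing A] [CommRing B] [IsLocalRing B] [IsNoetherianRing B]
    [Algebra A B] [IsLocalHom (algebraMap A B)] [IsLocalRing (B ⧸ (maximalIdeal A).map (algebraMap A B))] :
    [IsRegularLocalRing B ∧
       Module.finrank (ResidueField B) (CotangentSpace B) =
         Module.finrank (ResidueField A) (CotangentSpace A) +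
           Module.finrank (ResidueField (B ⧸ (maximalIdeal A).map (algebraMap A B))) (CotangentSpace (B ⧸ (maximalIdeal A).map (algebraMap A B))),
     IsRegularLocalRing B ∧ IsRegularLocalRing (B ⧸ (maximalIdeal A).map (algebraMap A B)) ∧ Module.Flat A B,
     IsRegularLocalRing A ∧ IsRegularLocalRing (B ⧸ (maximalIdeal A).map (algebraMap A B)) ∧ Module.Flat A B,
     IsRegularLocalRing A ∧ IsRegularLocalRing (B ⧸ (maximalIdeal A).map (algebraMap A B)) ∧
       ringKrullDim B = ringKrullDim A + ringKrullDim (B ⧸ (maximalIdeal A).map (algebraMap A B))].TFAE := by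
  set B₀ := B ⧸ (maximalIdeal A).map (algebraMap A B) with hB₀
  rw [← spanFinrank_maximalIdeal_eq_finrank_cotangentSpace (R := B),
    ← spanFinrank_maximalIdeal_eq_finrank_cotangentSpace (R := A),
    ← spanFinrank_maximalIdeal_eq_finrank_cotangentSpace (R := B₀)]
  obtain ⟨nA, hnA⟩ := exists_nat_dim A
  obtain ⟨nB, hnB⟩ := exists_nat_dim B
  obtain ⟨n0, hn0⟩ := exists_nat_dim B₀
  have hemb : (maximalIdeal B).spanFinrank ≤ (maximalIdeal A).spanFinrank +
      (maximalIdeal B₀).spanFinrank := spanFinrank_maximalIdeal_le_add (A := A) (B := B)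
  have hdimle : ringKrullDim B ≤ ringKrullDim A + ringKrullDim B₀ := Groth.Agent.Lib.Helper5.ringKrullDim_le_add_of_isLocalHom (algebraMap A B)
  have hA := ringKrullDim_le_spanFinrank_maximalIdeal A
  have hB := ringKrullDim_le_spanFinrank_maximalIdeal B
  have h0 := ringKrullDim_le_spanFinrank_maximalIdeal B₀
  rw [hnA, hnB, hn0] at hdimle
  rw [hnA] at hA
  rw [hnB] at hB
  rw [hn0] at h0
  have hdimle' : nB ≤ nA + n0 := by exact_mod_cast hdimle
  have hA' : nA ≤ (maximalIdeal A).spanFinrank := by exact_mod_cast hA
  have hB' : nB ≤ (maximalIdeal B).spanFinrank := by exact_mod_cast hB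
  have h0' : n0 ≤ (maximalIdeal B₀).spanFinrank := by exact_mod_cast h0
  have regA : IsRegularLocalRing A ↔ (maximalIdeal A).spanFinrank = nA := by
    rw [isRegularLocalRing_iff, hnA]; norm_cast
  have regB : IsRegularLocalRing B ↔ (maximalIdeal B).spanFinrank = nB := by
    rw [isRegularLocalRing_iff, hnB]; norm_cast
  have reg0 : IsRegularLocalRing B₀ ↔ (maximalIdeal B₀).spanFinrank = n0 := by
    rw [isRegularLocalRing_iff, hn0]; norm_cast
  have dimeq : ringKrullDim B = ringKrullDim A + ringKrullDim B₀ ↔ nB = nA + n0 := by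
    rw [hnA, hnB, hn0]; norm_cast
  tfae_have 1 → 4 := by
    rintro ⟨h1, h2⟩
    rw [regB] at h1
    rw [regA, reg0, dimeq]
    omega
  tfae_have 4 → 1 := by
    rintro ⟨h1, h2, h3⟩
    rw [regA] at h1
    rw [reg0] at h2
    rw [dimeq] at h3
    rw [regB]
    omega
  tfae_have 4 → 3 := by
    rintro ⟨h1, h2, h3⟩
    refine ⟨h1, h2, ?_⟩
    have hregB : IsRegularLocalRing B := by
      rw [regA] at h1
      rw [reg0] at h2
      rw [dimeq] at h3
      rw [regB]
      omega
    haveI := Groth.Agent.Lib.Helper5.isCohenMacaulayLocalRing_of_isRegularLocalRing (R := B)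
    exact Groth.Agent.S2082.result h3
  tfae_have 3 → 4 := by
    rintro ⟨h1, h2, h3⟩
    refine ⟨h1, h2, ?_⟩
    rw [Groth.Agent.Lib.Helper28.ringKrullDim_eq_add_of_flat (R := A) (S := B) _ rfl, add_comm]
  tfae_have 3 → 2 := by
    rintro ⟨h1, h2, h3⟩
    exact ⟨Groth.Agent.Lib.Helper28.isRegularLocalRing_of_flat_of_isRegularLocalRing_fibre (R := A) (S := B) _ rfl, h2, h3⟩
  tfae_have 2 → 3 := by
    rintro ⟨h1, h2, h3⟩
    exact ⟨Groth.Agent.Lib.Helper28.isRegularLocalRing_of_flat_of_isLocalHom A B, h2, h3⟩
  tfae_finish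


end Groth.Agent.S2470
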