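import Groth.Statements.S2921
import Groth.Agent.Lib.R2H2KummerAlg

set_option autoImplicit false
universe u
open IsLocalRing
open SGA1

namespace Groth.Agent.S2921

/-- Regularity and etaleness; the tameness assertion is not stated: Let A be a regular local ring, f_1,
…, f_r elements of the maximal ideal whose images in the cotangent space are linearly independent
(part of a regular system of parameters), and n_1, …, n_r ≥ 1. Then A' = A[T_1, …, T_r]/(T_i^{n_i} −
f_i) is a regular local ring; and if each n_i is invertible in the residue field of A, then A'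
becomes etale over A after inverting f_1 ⋯ f_r. -/
theorem result (A : Type u) [CommRing A] [IsRegularLocalRing A] (r : ℕ) (f : Fin r → A)
    (hm : ∀ i, f i ∈ maximalIdeal A)
    (hf : LinearIndependent (ResidueField A) (fun i => (maximalIdeal A).toCotangent ⟨f i, hm i⟩))
    (n : Fin r → ℕ) (hn : ∀ i, 1 ≤ n i) :
    IsRegularLocalRing (SGA1.kummerAlg A f n) ∧
    ((∀ i, IsUnit ((n i : ℕ) : ResidueField A)) →
      letI := (Localization.awayMap (algebraMap A (SGA1.kummerAlg A f n)) (∏ i, f i)).toAlgebra
      Algebra.Etale (Localization.Away (∏ i, f i)) (Localization.Away (algebraMap A (SGA1.kummerAlg A f n) (∏ i, f i)))) := by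
  open Groth.Agent.Lib.R2H2 in
  refine ⟨KummerAlg.isRegularLocalRing f n hm (fun i => hn i) hf, fun hu => ?_⟩
  let := (Localization.awayMap (algebraMap A (SGA1.kummerAlg A f n)) (∏ i, f i)).toAlgebra
  have htower : IsScalarTower A (Localization.Away (∏ i, f i))
      (Localization.Away (algebraMap A (SGA1.kummerAlg A f n) (∏ i, f i))) := by
    refine IsScalarTower.of_algebraMap_eq (fun a => ?_)
    show _ = Localization.awayMap (algebraMap A (SGA1.kummerAlg A f n)) (∏ i, f i)
      (algebraMap A (Localization.Away (∏ i, f i)) a)
    rw [Localization.awayMap, IsLocalization.Away.map, IsLocalization.map_eq]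
    exact IsScalarTower.algebraMap_apply A (SGA1.kummerAlg A f n) _ a
  have hnA : ∀ i, IsUnit ((n i : ℕ) : A) := fun i =>
    isUnit_of_map_unit (IsLocalRing.residue A) _ (by rw [map_natCast]; exact hu i)
  exact KummerAlg.etale f n (∏ i, f i) _ _ (fun i => hn i)
    (fun i => IsLocalization.Away.isUnit_of_dvd (x := ∏ i, f i)
      (Finset.dvd_prod_of_mem f (Finset.mem_univ i)))
    (fun i => by
      have := (hnA i).map (algebraMap A (Localization.Away (∏ i, f i)))
      rwa [map_natCast] at this)

end Groth.Agent.S2921
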