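import Groth.Statements.S2927
import Groth.Agent.Lib.R2H3ExtStalkDual
import Groth.Agent.Lib.R2H3ExtShVanish
import Groth.Agent.Lib.R2H3SuppCodim
import Groth.Agent.Lib.Helper4IrrFib
import Groth.Agent.Lib.Helper6SmRegSch
import Groth.Agent.Lib.R2H1P1Inter
import Groth.Agent.Lib.R2H1PLineA
import Groth.Agent.Lib.R2H2QProjK0
import Groth.Agent.Lib.Helper23SecTw
import Groth.Agent.Lib.R2LeadKRR
import Groth.Agent.S10829
import Groth.Agent.S9705
import Groth.Agent.S0458
set_option backward.isDefEq.respectTransparency.types false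

set_option autoImplicit false
universe u
open CategoryTheory AlgebraicGeometry
open ProjDual

namespace Groth.Agent.S2927

/-- (i)⇔(iii): Let k be a field, X = P^r_k, F a coherent O_X-module and i ≥ 0. Then H^i(X, F(−m))
vanishes for all sufficiently large m if and only if for every closed point x of X the local
cohomology H^i of the stalk F_x, with support in the maximal ideal of O_{X,x}, vanishes. -/
theorem result (k : Type u) [Field k] (r : ℕ) (F : (CohB1.ProjSpace r k).Modules) (hF : Coh.IsCoh F) (i : ℕ) : (∃ m₀ : ℤ, ∀ m : ℤ, m₀ ≤ m → Subsingleton (Coh.HH (CohB1.ProjSpace r k) (Twist.twistBy _ F (-m)) i)) ↔ ∀ x : (CohB1.ProjSpace r k), IsClosed ({x} : Set (CohB1.ProjSpace r k)) → Subsingleton (LocCoh.H (IsLocalRing.maximalIdeal ((CohB1.ProjSpace r k).presheaf.stalk x)) i (F.presheaf.stalk x)) := by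
  letI : (CohB1.ProjSpace r k).Over (Spec (CommRingCat.of k)) := ⟨CohB1.ProjSpace.toSpec r k⟩
  haveI : IsNoetherian (CohB1.ProjSpace r k) :=
    Groth.Agent.Lib.R2H2.QProjK0.isNoetherian_projSpace r k
  haveI : IsProper (CohB1.ProjSpace.toSpec r k) := Groth.Agent.S9705.isProper_projSpace_toSpec r k
  haveI : LocallyOfFiniteType ((CohB1.ProjSpace r k) ↘ Spec (CommRingCat.of k)) := by
    change LocallyOfFiniteType (CohB1.ProjSpace.toSpec r k)
    infer_instance
  haveI : IsIntegral (CohB1.ProjSpace r k) := Groth.Agent.Lib.R2H1.PLineA.isIntegral_projSpace r k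
  haveI : Smooth (CohB1.ProjSpace.toSpec r k) := Groth.Agent.Lib.R2H1.P1Inter.smooth_toSpec r k
  letI : HasInjectiveResolutions (ModSite.Mod (CohB1.ProjSpace r k).sheaf) :=
    Groth.Agent.Lib.R2H3.RpushRestrict.hasInjectiveResolutions_modules (CohB1.ProjSpace r k)
  haveI : ModSite.HasSheafHom (O := (CohB1.ProjSpace r k).sheaf) F :=
    Groth.Agent.Lib.Helper21.ExtShDelta.hasSheafHom _ _
  have hdim : topologicalKrullDim ↥(CohB1.ProjSpace r k) = (r : WithBot ℕ∞) :=
    Groth.Agent.S10829.result k r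
  -- closed points
  have hpt : ∀ x : (CohB1.ProjSpace r k), IsClosed ({x} : Set (CohB1.ProjSpace r k)) →
      IsRegularLocalRing ((CohB1.ProjSpace r k).presheaf.stalk x) ∧
        ringKrullDim ((CohB1.ProjSpace r k).presheaf.stalk x) = (r : WithBot ℕ∞) := by
    intro x hx
    refine ⟨Groth.Agent.Lib.Helper6.SmRegSch.isRegularLocalRing_stalk_of_smooth_over_field k _
      (CohB1.ProjSpace.toSpec r k) x, ?_⟩
    obtain ⟨b, hb, hbn⟩ := Groth.Agent.Lib.R2H3.SuppCodim.ringKrullDim_stalk_add_trdegNat k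
      (CohB1.ProjSpace r k) r hdim x
    rw [Groth.Agent.Lib.Helper4.IrrFib.trdegNat_eq_zero_of_isClosed k _ x hx, add_zero] at hbn
    rw [hb, hbn]
  by_cases hi : i ≤ r
  · have h1 := Groth.Agent.Lib.R2H3.ExtShVanish.isZero_extSh_iff k r F hF (r - i) (Nat.sub_le _ _)
    have hri : r - (r - i) = i := by omega
    rw [hri] at h1
    refine h1.symm.trans ?_
    have hω : FlatMod.IsFinLocFreeOfRank 1 (Twist.twistProjSpace r k (-((r : ℤ) + 1))) :=
      Groth.Agent.Lib.Helper23.SecTw.isFinLocFreeOfRank_one_of_isInvertible _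
        (Groth.Agent.Lib.R2Lead.KRR.isInvertible_twistProjSpace r k _)
    have hE : Coh.IsCoh ((ModSite.extSh (O := (CohB1.ProjSpace r k).sheaf) F (r - i)).obj
        (Twist.twistProjSpace r k (-((r : ℤ) + 1)))) :=
      Groth.Agent.Lib.R2H3.ExtAffQC.isCoh_extSh F _ hF
        (Groth.Agent.Lib.R2H3.ExtShVanish.isCoh_twist k r _) (r - i)
    let E : (CohB1.ProjSpace r k).Modules :=
      (ModSite.extSh (O := (CohB1.ProjSpace r k).sheaf) F (r - i)).obj
        (Twist.twistProjSpace r k (-((r : ℤ) + 1)))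
    haveI : SheafOfModules.IsFiniteType (R := (CohB1.ProjSpace r k).ringCatSheaf) E := hE.2
    refine (Groth.Agent.Lib.R2H3.ExtStalkDual.isZero_iff_closed_stalks E).trans ?_
    refine forall_congr' fun x => forall_congr' fun hx => ?_
    obtain ⟨hreg, hd⟩ := hpt x hx
    exact Groth.Agent.Lib.R2H3.ExtStalkDual.subsingleton_stalk_extSh_iff F _ hF hω x r hd i hi
  · push_neg at hi
    constructor
    · intro _ x hx
      obtain ⟨hreg, hd⟩ := hpt x hx
      haveI : LocCoh.IsGorensteinLocalRing ((CohB1.ProjSpace r k).presheaf.stalk x) :=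
        Groth.Agent.S0342.result _
      haveI : F.IsQuasicoherent := hF.1
      haveI : SheafOfModules.IsFiniteType (R := (CohB1.ProjSpace r k).ringCatSheaf) F := hF.2
      haveI : Module.Finite ((CohB1.ProjSpace r k).presheaf.stalk x) (F.presheaf.stalk x) :=
        Groth.Agent.Lib.Helper2.FibreCrit.finite_stalk F x
      exact Groth.Agent.Lib.R2H3.LocDualVan.subsingleton_H_of_dim_lt _ r hd _ i hi
    · intro _
      refine ⟨0, fun m _ => ?_⟩
      exact Groth.Agent.S0458.result (X := (CohB1.ProjSpace r k).carrier) r hdim.le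
        (Coh.toAb _) i hi

end Groth.Agent.S2927
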