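import Groth.Statements.S2928
import Groth.Agent.Lib.R2H3DepthEmb

set_option autoImplicit false
universe u
open CategoryTheory AlgebraicGeometry
open ProjDual

namespace Groth.Agent.S2928

/-- (i)⇔(ii): Let k be a field, X = P^r_k, F a coherent O_X-module and n ≥ 0. Then H^i(X, F(−m)) = 0 for
all i ≤ n and all sufficiently large m if and only if at every closed point x of X the stalk F_x has
depth greater than n over O_{X,x}. -/
theorem result (k : Type u) [Field k] (r : ℕ) (F : (CohB1.ProjSpace r k).Modules) (hF : Coh.IsCoh F) (n : ℕ) : (∃ m₀ : ℤ, ∀ m : ℤ, m₀ ≤ m → ∀ i : ℕ, i ≤ n → Subsingleton (Coh.HH (CohB1.ProjSpace r k) (Twist.twistBy _ F (-m)) i)) ↔ ∀ x : (CohB1.ProjSpace r k), IsClosed ({x} : Set (CohB1.ProjSpace r k)) → (n : ℕ∞) < LocCoh.depth ((CohB1.ProjSpace r k).presheaf.stalk x) (F.presheaf.stalk x) := by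
  have key := Groth.Agent.Lib.R2H3.DepthEmb.vanishing_iff_depth k r (𝟙 (CohB1.ProjSpace r k)) F hF n
  have hiso : ∀ q : ℕ, Nonempty (CohB1.tensorMod F
      ((Scheme.Modules.pullback (𝟙 (CohB1.ProjSpace r k))).obj
        (Twist.twistProjSpace r k (-(q : ℤ)))) ≅
      Twist.twistBy (CohB1.polyGrading r k) F (-(q : ℤ))) := fun q =>
    ⟨Groth.Agent.Lib.Helper23.AmpleIso.tensorModIso (Iso.refl F)
      ((Scheme.Modules.pullbackId (CohB1.ProjSpace r k)).app _)⟩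
  have hlt : ∀ d : ℕ∞, (n : ℕ∞) < d ↔ ((n + 1 : ℕ) : ℕ∞) ≤ d := by
    intro d
    rw [Nat.cast_add, Nat.cast_one, ENat.add_one_le_iff (ENat.natCast_ne_top n)]
  constructor
  · rintro ⟨m₀, hm₀⟩ x hcl
    rw [hlt]
    refine key.1 ⟨m₀.toNat, fun q hq j hj => ?_⟩ x hcl
    obtain ⟨e⟩ := hiso q
    refine Groth.Agent.Lib.R2H2.PnSerre.subsingleton_HH_of_iso e.symm j (hm₀ (q : ℤ) ?_ j hj)
    have h1 : m₀ ≤ (m₀.toNat : ℤ) := Int.self_le_toNat m₀
    have h2 : (m₀.toNat : ℤ) ≤ (q : ℤ) := by exact_mod_cast hq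
    exact h1.trans h2
  · intro hd
    obtain ⟨q₀, hq₀⟩ := key.2 (fun x hcl => (hlt _).1 (hd x hcl))
    refine ⟨(q₀ : ℤ), fun m hm i hi => ?_⟩
    have hm0 : 0 ≤ m := le_trans (Int.natCast_nonneg q₀) hm
    obtain ⟨q, rfl⟩ := Int.eq_ofNat_of_zero_le hm0
    obtain ⟨e⟩ := hiso q
    exact Groth.Agent.Lib.R2H2.PnSerre.subsingleton_HH_of_iso e i
      (hq₀ q (by exact_mod_cast hm) i hi)

end Groth.Agent.S2928
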