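import Groth.Statements.S2941
import Mathlib
import Groth.Agent.Lib.H6xCID

set_option autoImplicit false
universe u
open CInt

namespace Groth.Agent.S2941

/-- Let A be a Noetherian local ring and let f : B → A and f' : B' → A be surjective ring homomorphisms
from regular local rings, with kernels I and I'. If q, q' are the minimal numbers of generators of
I, I' then dim B − q = dim B' − q'. -/
theorem result (A : Type u) [CommRing A] [IsLocalRing A] [IsNoetherianRing A] (B B' : Type u) [CommRing B] [CommRing B'] [IsRegularLocalRing B] [IsRegularLocalRing B'] (f : B →+* A) (hf : Function.Surjective f) (f' : B' →+* A) (hf' : Function.Surjective f') (d d' : ℕ) (hd : ringKrullDim B = d) (hd' : ringKrullDim B' = d') : (d : ℤ) - ((RingHom.ker f).spanFinrank : ℤ) = (d' : ℤ) - ((RingHom.ker f').spanFinrank : ℤ) := by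
  classical
  haveI : IsNoetherianRing A := inferInstance
  obtain ⟨s, hs⟩ : (IsLocalRing.maximalIdeal A).FG := IsNoetherian.noetherian _
  let x : Fin s.card → A := fun i => (s.equivFin.symm i : A)
  have hx : Ideal.span (Set.range x) = IsLocalRing.maximalIdeal A := by
    rw [← hs]
    congr 1
    ext a
    constructor
    · rintro ⟨i, rfl⟩
      exact (s.equivFin.symm i).2
    · intro ha
      exact ⟨s.equivFin ⟨a, ha⟩, by simp [x]⟩
  have h1 := Groth.Agent.Lib.H6xCI.spanFinrank_ker_add_card f hf x hx d hd
  have h2 := Groth.Agent.Lib.H6xCI.spanFinrank_ker_add_card f' hf' x hx d' hd'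
  have hfin : Module.length A (Groth.Agent.Lib.H6xCI.H1 x) ≠ ⊤ := by
    intro h
    rw [h, top_add] at h1
    exact ENat.natCast_ne_top _ (by exact_mod_cast h1)
  obtain ⟨n, hn⟩ := ENat.ne_top_iff_exists.mp hfin
  rw [← hn] at h1 h2
  have h1' : (RingHom.ker f).spanFinrank + Fintype.card (Fin s.card) = n + d := by
    exact_mod_cast h1
  have h2' : (RingHom.ker f').spanFinrank + Fintype.card (Fin s.card) = n + d' := by
    exact_mod_cast h2
  omega

end Groth.Agent.S2941
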