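import Groth.Statements.S3129
-- import your own Groth.Agent.* helpers here

set_option autoImplicit false
open BigOperators
open SGA4h

namespace Groth.Agent.S3129

section aux

variable {F : Type} [Field F] [Fintype F] [DecidableEq F] {R : Type} [CommRing R] [IsDomain R]

omit [Fintype F] [DecidableEq F] [IsDomain R] in
/-- An additive character turns finite sums into products. -/
theorem addChar_sum {ι : Type} (s : Finset ι) (Ψ : AddChar F R) (f : ι → F) :
    Ψ (∑ i ∈ s, f i) = ∏ i ∈ s, Ψ (f i) := by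
  classical
  induction s using Finset.induction_on with
  | empty => simp
  | insert a s ha ih => rw [Finset.sum_insert ha, Finset.prod_insert ha, AddChar.map_add_eq_mul, ih]

omit [IsDomain R] in
/-- A sum over the field of a function vanishing at `0` is the sum over the units. -/
theorem sum_eq_sum_units (h : F → R) (h0 : h 0 = 0) : ∑ y : F, h y = ∑ x : Fˣ, h (x : F) := by
  classical
  have h1 : ∑ y : F, h y = ∑ y ∈ Finset.univ.filter (fun y : F => y ≠ 0), h y := by
    rw [Finset.sum_filter]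
    refine Finset.sum_congr rfl fun y _ => ?_
    by_cases hy : y = 0
    · simp [hy, h0]
    · simp [hy]
  rw [h1, Finset.sum_subtype (p := fun y : F => y ≠ 0) _ (by simp)]
  exact (Fintype.sum_equiv unitsEquivNeZero _ _ (fun x => rfl)).symm

omit [Fintype F] [DecidableEq F] [IsDomain R] in
/-- Evaluation of a finite product of multiplicative characters at a unit. -/
theorem mulChar_prod_apply {ι : Type} (s : Finset ι) (ψ : ι → MulChar F R) (t : Fˣ) :
    (∏ i ∈ s, ψ i) (t : F) = ∏ i ∈ s, ψ i (t : F) := by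
  classical
  induction s using Finset.induction_on with
  | empty => simp [MulChar.one_apply_coe]
  | insert a s ha ih => rw [Finset.prod_insert ha, Finset.prod_insert ha, MulChar.mul_apply, ih]

/-- The sums `S(s) = Σ_{x₁ + ⋯ + x_N = s} ∏ χ_{i+1}⁻¹(x_i)` over tuples of units. -/
noncomputable def S {N : ℕ} (χ : Fin (N + 1) → MulChar F R) (s : F) : R :=
  ∑ x ∈ (Finset.univ : Finset (Fin N → Fˣ)).filter (fun x => ∑ i, ((x i : Fˣ) : F) = s),
    ∏ i : Fin N, (χ i.succ)⁻¹ ((x i : Fˣ) : F)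

omit [DecidableEq F] [IsDomain R] in
theorem inv_prod_eq {N : ℕ} (χ : Fin (N + 1) → MulChar F R) (hprod : ∏ i, χ i = 1) (t : Fˣ) :
    ∏ i : Fin N, (χ i.succ)⁻¹ (t : F) = χ 0 (t : F) := by
  have h1 : ∀ u : Fˣ, χ 0 (u : F) * ∏ i : Fin N, χ i.succ (u : F) = 1 := by
    intro u
    have := congrArg (fun ψ : MulChar F R => ψ (u : F)) hprod
    simp only [MulChar.one_apply_coe] at this
    rw [mulChar_prod_apply, Fin.prod_univ_succ] at this
    exact this
  have h2 : χ 0 (t : F) * χ 0 ((t⁻¹ : Fˣ) : F) = 1 := by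
    rw [← map_mul, ← Units.val_mul, mul_inv_cancel, Units.val_one, map_one]
  have h3 : ∏ i : Fin N, (χ i.succ)⁻¹ (t : F) = ∏ i : Fin N, χ i.succ ((t⁻¹ : Fˣ) : F) := by
    refine Finset.prod_congr rfl fun i _ => ?_
    rw [MulChar.inv_apply', Units.val_inv_eq_inv_val]
  rw [h3]
  calc ∏ i : Fin N, χ i.succ ((t⁻¹ : Fˣ) : F)
      = (χ 0 (t : F) * χ 0 ((t⁻¹ : Fˣ) : F)) * ∏ i : Fin N, χ i.succ ((t⁻¹ : Fˣ) : F) := by
        rw [h2, one_mul]
    _ = χ 0 (t : F) * (χ 0 ((t⁻¹ : Fˣ) : F) * ∏ i : Fin N, χ i.succ ((t⁻¹ : Fˣ) : F)) := by ring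
    _ = χ 0 (t : F) := by rw [h1, mul_one]

omit [IsDomain R] in
/-- Scaling: `S(t s) = χ₀(t) S(s)`. -/
theorem S_scale {N : ℕ} (χ : Fin (N + 1) → MulChar F R) (hprod : ∏ i, χ i = 1) (t : Fˣ) (s : F) :
    S χ ((t : F) * s) = χ 0 (t : F) * S χ s := by
  classical
  unfold S
  rw [Finset.mul_sum]
  refine (Finset.sum_bij' (fun x _ => fun i => t * x i) (fun x _ => fun i => t⁻¹ * x i)
    ?_ ?_ ?_ ?_ ?_).symm
  · intro x hx
    simp only [Finset.mem_filter, Finset.mem_univ, true_and] at hx ⊢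
    simp only [Units.val_mul]
    rw [← Finset.mul_sum, hx]
  · intro x hx
    simp only [Finset.mem_filter, Finset.mem_univ, true_and] at hx ⊢
    simp only [Units.val_mul]
    rw [← Finset.mul_sum, hx, ← mul_assoc, ← Units.val_mul, inv_mul_cancel, Units.val_one, one_mul]
  · intro x _
    funext i
    simp
  · intro x _
    funext i
    simp
  · intro x _
    simp only [Units.val_mul, map_mul]
    rw [Finset.prod_mul_distrib, inv_prod_eq χ hprod t]


omit [IsDomain R] in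
/-- The product of the Gauss sums of `χ₁⁻¹, …, χ_N⁻¹` is `Σ_s Ψ(s) S(s)`. -/
theorem prod_gauss_eq {N : ℕ} (χ : Fin (N + 1) → MulChar F R) (Ψ : AddChar F R) :
    ∏ i : Fin N, (∑ y : F, Ψ y * (χ i.succ)⁻¹ y) = ∑ s : F, Ψ s * S χ s := by
  classical
  have h1 : ∀ i : Fin N, (∑ y : F, Ψ y * (χ i.succ)⁻¹ y)
      = ∑ x : Fˣ, Ψ (x : F) * (χ i.succ)⁻¹ (x : F) := by
    intro i
    refine sum_eq_sum_units (fun y => Ψ y * (χ i.succ)⁻¹ y) ?_
    simp [MulChar.map_zero]
  rw [Finset.prod_congr rfl (fun i _ => h1 i), Fintype.prod_sum]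
  rw [← Finset.sum_fiberwise (Finset.univ : Finset (Fin N → Fˣ))
    (fun x => ∑ i, ((x i : Fˣ) : F))]
  refine Finset.sum_congr rfl fun s _ => ?_
  unfold S
  rw [Finset.mul_sum]
  refine Finset.sum_congr rfl fun x hx => ?_
  simp only [Finset.mem_filter, Finset.mem_univ, true_and] at hx
  rw [Finset.prod_mul_distrib, ← addChar_sum, hx]

/-- The total sum of the `S(s)` vanishes when one of `χ₁, …, χ_N` is nontrivial. -/
theorem sum_S_eq_zero {N : ℕ} (χ : Fin (N + 1) → MulChar F R) (hnt : ∃ i : Fin N, χ i.succ ≠ 1) :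
    ∑ s : F, S χ s = 0 := by
  classical
  unfold S
  rw [Finset.sum_fiberwise (Finset.univ : Finset (Fin N → Fˣ))
    (fun x => ∑ i, ((x i : Fˣ) : F)) (fun x => ∏ i : Fin N, (χ i.succ)⁻¹ ((x i : Fˣ) : F))]
  rw [← Fintype.prod_sum (fun (i : Fin N) (x : Fˣ) => (χ i.succ)⁻¹ (x : F))]
  obtain ⟨i, hi⟩ := hnt
  refine Finset.prod_eq_zero (Finset.mem_univ i) ?_
  rw [← sum_eq_sum_units (fun y => (χ i.succ)⁻¹ y) (by simp [MulChar.map_zero])]
  exact MulChar.sum_eq_zero_of_ne_one (fun h => hi (by simpa using congrArg (·⁻¹) h))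

end aux

/-- Let F be a finite field with q elements, N ≥ 1, χ₀, …, χ_N multiplicative characters of F with
values in a domain, not all trivial and with product 1, and Ψ a nontrivial additive character of F.
Put τ(χ, Ψ) = −Σ_{x ∈ F} Ψ(x) χ⁻¹(x) and J(χ) = (−1)^{N−1} Σ χ₁⁻¹(x₁) ⋯ χ_N⁻¹(x_N), the sum over x₁,
…, x_N ∈ F^* with x₁ + ⋯ + x_N = −1. Then q · J(χ) = τ(χ₀, Ψ) ⋯ τ(χ_N, Ψ). -/
theorem result (F : Type) [Field F] [Fintype F] [DecidableEq F] (R : Type) [CommRing R] [IsDomain R]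
    (N : ℕ) (hN : 1 ≤ N) (χ : Fin (N + 1) → MulChar F R) (hprod : ∏ i, χ i = 1) (hnt : ∃ i, χ i ≠ 1)
    (Ψ : AddChar F R) (hΨ : Ψ ≠ 1) :
    (Fintype.card F : R) * ((-1) ^ (N - 1) *
        ∑ x ∈ (Finset.univ : Finset (Fin N → Fˣ)).filter (fun x => ∑ i, ((x i : Fˣ) : F) = -1),
          ∏ i : Fin N, (χ i.succ)⁻¹ ((x i : Fˣ) : F)) =
      ∏ i : Fin (N + 1), (-(∑ y : F, Ψ y * (χ i)⁻¹ y)) := by
  classical
  change (Fintype.card F : R) * ((-1) ^ (N - 1) * S χ (-1)) = _
  -- the sign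
  have hsign : ((-1 : R)) ^ (N + 1) = (-1) ^ (N - 1) := by
    obtain ⟨k, rfl⟩ : ∃ k, N = k + 1 := ⟨N - 1, by omega⟩
    simp [pow_succ]
  -- Gauss sums in Mathlib's normalisation
  have hG : ∀ ψ : MulChar F R, (∑ y : F, Ψ y * ψ y) = gaussSum ψ Ψ := by
    intro ψ
    unfold gaussSum
    exact Finset.sum_congr rfl fun y _ => mul_comm _ _
  -- the value `χ₀(-1)` squares to one
  have hneg1 : χ 0 (-1) * χ 0 (-1) = 1 := by
    rw [← map_mul]; simp
  -- `S(s)` for `s ≠ 0`
  have hS3 : ∀ s : F, s ≠ 0 → S χ s = χ 0 (-s) * S χ (-1) := by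
    intro s hs
    have h := S_scale χ hprod (Units.mk0 (-s) (neg_ne_zero.mpr hs)) (-1)
    simpa using h
  -- the product of the last `N` Gauss sums
  have hP : ∏ i : Fin N, (∑ y : F, Ψ y * (χ i.succ)⁻¹ y)
      = S χ 0 + χ 0 (-1) * S χ (-1) * gaussSum (χ 0) Ψ := by
    rw [prod_gauss_eq χ Ψ, ← hG (χ 0)]
    have h : ∀ s : F, Ψ s * S χ s
        = (if s = 0 then S χ 0 else 0) + χ 0 (-1) * S χ (-1) * (Ψ s * χ 0 s) := by
      intro s
      by_cases hs : s = 0
      · subst hs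
        simp [MulChar.map_zero]
      · rw [if_neg hs, zero_add, hS3 s hs]
        have h' : χ 0 (-s) = χ 0 (-1) * χ 0 s := by
          rw [← map_mul]; simp
        rw [h']; ring
    rw [Finset.sum_congr rfl (fun s _ => h s), Finset.sum_add_distrib, Finset.sum_ite_eq',
      ← Finset.mul_sum]
    simp
  -- rewrite the right-hand side
  rw [Fin.prod_univ_succ, Finset.prod_neg, Finset.card_univ, Fintype.card_fin, hP, hG]
  by_cases h0 : χ 0 = 1
  · -- `χ₀` trivial
    have hnt' : ∃ i : Fin N, χ i.succ ≠ 1 := by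
      obtain ⟨i, hi⟩ := hnt
      refine Fin.cases (fun h => absurd h0 h) (fun j hj => ⟨j, hj⟩) i hi
    have hsum := sum_S_eq_zero χ hnt'
    have hS0 : S χ 0 = S χ (-1) - (Fintype.card F : R) * S χ (-1) := by
      have h : ∀ s : F, S χ s = (if s = 0 then S χ 0 - S χ (-1) else 0) + S χ (-1) := by
        intro s
        by_cases hs : s = 0
        · subst hs; simp
        · rw [if_neg hs, zero_add, hS3 s hs, h0]
          have : (1 : MulChar F R) (-s) = 1 :=
            MulChar.one_apply_coe (Units.mk0 (-s) (neg_ne_zero.mpr hs))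
          rw [this, one_mul]
      rw [Finset.sum_congr rfl (fun s _ => h s), Finset.sum_add_distrib, Finset.sum_ite_eq'] at hsum
      simp only [Finset.mem_univ, if_true, Finset.sum_const, Finset.card_univ, nsmul_eq_mul] at hsum
      linear_combination hsum
    have hg1 : gaussSum (χ 0)⁻¹ Ψ = -1 := by
      rw [h0, inv_one]; exact gaussSum_one_left hΨ
    have hg2 : gaussSum (χ 0) Ψ = -1 := by
      rw [h0]; exact gaussSum_one_left hΨ
    have hm1 : χ 0 (-1) = 1 := by
      rw [h0]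
      have : (1 : MulChar F R) ((-1 : Fˣ) : F) = 1 := MulChar.one_apply_coe (-1)
      simpa using this
    rw [hg1, hg2, hS0, hm1, ← hsign]
    ring
  · -- `χ₀` nontrivial
    have hS0 : S χ 0 = 0 := by
      obtain ⟨t, ht⟩ := MulChar.ne_one_iff.mp h0
      have h := S_scale χ hprod t 0
      rw [mul_zero] at h
      have h' : (1 - χ 0 (t : F)) * S χ 0 = 0 := by
        rw [sub_mul, one_mul, ← h, sub_self]
      rcases mul_eq_zero.mp h' with h'' | h''
      · exact absurd (sub_eq_zero.mp h'').symm ht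
      · exact h''
    have hcard : gaussSum (χ 0) Ψ * gaussSum (χ 0)⁻¹ Ψ = χ 0 (-1) * (Fintype.card F : R) := by
      have h1 := gaussSum_mul_gaussSum_eq_card h0 (AddChar.IsPrimitive.of_ne_one hΨ)
      have h2 := mul_gaussSum_inv_eq_gaussSum (χ 0)⁻¹ Ψ
      have h3 : (χ 0)⁻¹ (-1) = χ 0 (-1) := by
        rw [MulChar.inv_apply']; norm_num
      rw [← h2, h3, ← h1]; ring
    rw [hS0, zero_add, ← hsign]
    have : -gaussSum (χ 0)⁻¹ Ψ * ((-1) ^ N * (χ 0 (-1) * S χ (-1) * gaussSum (χ 0) Ψ))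
        = (-1) ^ (N + 1) * (χ 0 (-1) * S χ (-1)) * (gaussSum (χ 0) Ψ * gaussSum (χ 0)⁻¹ Ψ) := by
      ring
    rw [this, hcard]
    linear_combination (-(-1 : R) ^ (N + 1) * (Fintype.card F : R) * S χ (-1)) * hneg1

end Groth.Agent.S3129
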