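import Groth.Statements.S3244
import Groth.Agent.Lib.R2H2Kummer
import Groth.Prelude.Def_SixF3

set_option autoImplicit false
universe u
open CategoryTheory AlgebraicGeometry
open Dix

namespace Groth.Agent.S3244

/-- Kummer theory at finite level: let n > 0 be an integer invertible on the scheme X (nonzero in every
residue field). Then for every i ≥ 1 the image of H^i(X_ét, μ_n) → H^i(X_ét, G_m), induced by the
inclusion μ_n → G_m, is exactly the subgroup of elements of H^i(X_ét, G_m) killed by n; in
particular H²(X_ét, μ_n) maps onto the n-torsion of the cohomological Brauer group H²(X_ét, G_m).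
(The published statement gives exact sequences obtained as the colimit of these over the powers n =
ℓ^m of a prime ℓ.) -/
theorem result (X : Scheme.{u}) (n : ℕ) (hn : 0 < n) (hX : Dix.InvertibleOn X n) (i : ℕ) (hi : 1 ≤ i) : Set.range ⇑((EtCoh.HF X i).map (EtCoh.muι X n)) = {ξ : (EtCoh.HF X i).obj (EtCoh.Gm X) | n • ξ = 0} := by
  have hepi : Epi (EtCoh.powMap X n) := Groth.Agent.Lib.R2H2.Kummer.epi_powMap X n hX
  have hS : (EtSix.kummerSC X n).ShortExact := EtSix.kummerShortExact hepi
  have hpow : ∀ ξ : EtCoh.H X (EtCoh.Gm X) i,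
      Sheaf.H.map (EtCoh.powMap X n) i ξ = n • ξ := by
    intro ξ
    have key : ∀ k : ℕ, Sheaf.H.map (k • 𝟙 (EtCoh.Gm X)) i ξ = k • ξ := by
      intro k
      induction k with
      | zero => simp [Sheaf.H.map_apply]
      | succ k ih => rw [succ_nsmul, Sheaf.H.map_add_apply, ih, succ_nsmul, Sheaf.H.map_id_apply]
    exact key n
  ext ξ
  constructor
  · rintro ⟨η, rfl⟩
    change n • (Sheaf.H.map (EtCoh.muι X n) i η) = 0
    rw [← hpow, ← Sheaf.H.map_comp_apply]
    have : EtCoh.muι X n ≫ EtCoh.powMap X n = 0 := (EtSix.kummerSC X n).zero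
    rw [this]
    simp [Sheaf.H.map_apply]
  · intro hξ
    have hξ' : Sheaf.H.map (EtCoh.powMap X n) i ξ = 0 := (hpow ξ).trans hξ
    obtain ⟨η, hη⟩ := Abelian.Ext.covariant_sequence_exact₂ _ hS ξ hξ'
    exact ⟨η, hη⟩

end Groth.Agent.S3244
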