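import Groth.Statements.S3246
import Groth.Agent.Lib.R2H2Kummer

set_option autoImplicit false
universe u
open CategoryTheory AlgebraicGeometry
open Dix

namespace Groth.Agent.S3246

open CategoryTheory.Limits Opposite in
theorem nsmul_id_app_apply {X : Scheme.{u}} (F : EtCoh.Ab X) (m : ℕ) (W : X.Etale)
    (x : F.obj.obj (op W)) : (m • 𝟙 F : F ⟶ F).hom.app (op W) x = m • x := by
  have h1 : (m • 𝟙 F : F ⟶ F).hom = m • 𝟙 F.obj := by
    change ((sheafToPresheaf _ _).map (m • 𝟙 F)) = _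
    rw [Functor.map_nsmul]
    rfl
  rw [h1, NatTrans.app_nsmul]
  simp

open CategoryTheory.Limits Opposite in
theorem isPrimaryTorsion_of_nsmul_id_eq_zero {X : Scheme.{u}} (ℓ k : ℕ) (F : EtCoh.Ab X)
    (h : (ℓ ^ k) • 𝟙 F = 0) : Dix.IsPrimaryTorsion ℓ F := by
  intro U s x
  refine ⟨U, 𝟙 U, ⟨x, rfl⟩, k, ?_⟩
  have h1 : F.obj.map (𝟙 U).op s = s := by
    rw [op_id, F.obj.map_id]
    rfl
  rw [h1, ← nsmul_id_app_apply, h]
  rfl

theorem H_map_nsmul_id {X : Scheme.{u}} (G : EtCoh.Ab X) (i m : ℕ) (ξ : EtCoh.H X G i) :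
    Sheaf.H.map (m • 𝟙 G) i ξ = m • ξ := by
  induction m with
  | zero => simp [Sheaf.H.map_apply]
  | succ k ih => rw [succ_nsmul, Sheaf.H.map_add_apply, ih, succ_nsmul, Sheaf.H.map_id_apply]

section Abstract
open CategoryTheory.Limits Abelian

variable {C : Type*} [Category C] [Abelian C] [HasExt C]

/-- if `Ext^i(X₀, ker f) = 0` and `f` is an epimorphism, `f` is injective on `Ext^i(X₀, G)`. -/
theorem comp_mk₀_injective_of_epi (X₀ : C) {G : C} (f : G ⟶ G) [Epi f] (i : ℕ)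
    (hK : Subsingleton (Ext X₀ (kernel f) i)) (x : Ext X₀ G i)
    (hx : x.comp (Ext.mk₀ f) (add_zero i) = 0) : x = 0 := by
  let S : ShortComplex C := ShortComplex.mk (kernel.ι f) f (kernel.condition f)
  have hS : S.ShortExact :=
    { exact := ShortComplex.exact_of_f_is_kernel _ (kernelIsKernel f)
      mono_f := inferInstanceAs (Mono (kernel.ι f))
      epi_g := inferInstanceAs (Epi f) }
  obtain ⟨x₁, hx₁⟩ := Ext.covariant_sequence_exact₂ X₀ hS x hx
  rw [← hx₁, Subsingleton.elim x₁ 0, Ext.zero_comp]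

/-- if `Ext^i(X₀, ker f) = 0` and `Ext^j(X₀, coker f) = 0` with `j + 1 = i`,
`f` is injective on `Ext^i(X₀, G)`. -/
theorem comp_mk₀_injective (X₀ : C) {G : C} (f : G ⟶ G) (i j : ℕ) (hij : j + 1 = i)
    (hK : Subsingleton (Ext X₀ (kernel f) i)) (hQ : Subsingleton (Ext X₀ (cokernel f) j))
    (x : Ext X₀ G i) (hx : x.comp (Ext.mk₀ f) (add_zero i) = 0) : x = 0 := by
  -- the two short exact sequences
  have hz : kernel.ι f ≫ Abelian.factorThruImage f = 0 := by
    rw [← cancel_mono (Abelian.image.ι f), Category.assoc, Abelian.image.fac, kernel.condition,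
      zero_comp]
  let S₁ : ShortComplex C := ShortComplex.mk (kernel.ι f) (Abelian.factorThruImage f) hz
  have hS₁ : S₁.ShortExact :=
    { exact := ShortComplex.exact_of_f_is_kernel _
        (isKernelOfComp (Abelian.image.ι f) f (kernelIsKernel f) hz (Abelian.image.fac f))
      mono_f := inferInstanceAs (Mono (kernel.ι f))
      epi_g := inferInstanceAs (Epi (Abelian.factorThruImage f)) }
  let S₂ : ShortComplex C := ShortComplex.mk (Abelian.image.ι f) (cokernel.π f)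
    (kernel.condition (cokernel.π f))
  have hS₂ : S₂.ShortExact :=
    { exact := ShortComplex.exact_of_f_is_kernel _ (kernelIsKernel (cokernel.π f))
      mono_f := inferInstanceAs (Mono (Abelian.image.ι f))
      epi_g := inferInstanceAs (Epi (cokernel.π f)) }
  have hfac : Ext.mk₀ f = (Ext.mk₀ (Abelian.factorThruImage f)).comp
      (Ext.mk₀ (Abelian.image.ι f)) (add_zero 0) := by
    rw [Ext.mk₀_comp_mk₀, Abelian.image.fac]
  have hy : (x.comp (Ext.mk₀ (Abelian.factorThruImage f)) (add_zero i)).comp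
      (Ext.mk₀ (Abelian.image.ι f)) (add_zero i) = 0 := by
    rw [Ext.comp_assoc_of_third_deg_zero, ← hfac]
    exact hx
  obtain ⟨x₃, hx₃⟩ := Ext.covariant_sequence_exact₁ X₀ hS₂ _ hy hij
  have hy0 : x.comp (Ext.mk₀ (Abelian.factorThruImage f)) (add_zero i) = 0 := by
    rw [← hx₃, Subsingleton.elim x₃ 0, Ext.zero_comp]
  obtain ⟨x₁, hx₁⟩ := Ext.covariant_sequence_exact₂ X₀ hS₁ x hy0
  rw [← hx₁, Subsingleton.elim x₁ 0, Ext.zero_comp]

end Abstract

/-- Let X be a scheme, ℓ a prime and n an integer with cd_ℓ(X) ≤ n (étale cohomology of ℓ-primary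
torsion sheaves vanishes above degree n). Then the ℓ-primary torsion of H^i(X_ét, G_m) is zero for i
> n + 1; if moreover ℓ is invertible on X, it is zero for i > n. -/
theorem result (X : Scheme.{u}) (ℓ : ℕ) (hℓ : ℓ.Prime) (n : ℕ) (hcd : Dix.CohDimLEAt X ℓ n) : (∀ i : ℕ, n + 1 < i → ∀ ξ : EtCoh.H X (EtCoh.Gm X) i, (∃ k : ℕ, ℓ ^ k • ξ = 0) → ξ = 0) ∧ (Dix.InvertibleOn X ℓ → ∀ i : ℕ, n < i → ∀ ξ : EtCoh.H X (EtCoh.Gm X) i, (∃ k : ℕ, ℓ ^ k • ξ = 0) → ξ = 0) := by
  have hkerT : ∀ k : ℕ, Dix.IsPrimaryTorsion ℓ (Limits.kernel (EtCoh.powMap X (ℓ ^ k))) := by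
    intro k
    apply isPrimaryTorsion_of_nsmul_id_eq_zero ℓ k
    rw [← cancel_mono (Limits.kernel.ι (EtCoh.powMap X (ℓ ^ k))), Preadditive.nsmul_comp,
      Category.id_comp, Limits.zero_comp]
    have : Limits.kernel.ι (EtCoh.powMap X (ℓ ^ k)) ≫ EtCoh.powMap X (ℓ ^ k) = 0 :=
      Limits.kernel.condition _
    rw [EtCoh.powMap, Preadditive.comp_nsmul, Category.comp_id] at this
    exact this
  have hcokT : ∀ k : ℕ, Dix.IsPrimaryTorsion ℓ (Limits.cokernel (EtCoh.powMap X (ℓ ^ k))) := by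
    intro k
    apply isPrimaryTorsion_of_nsmul_id_eq_zero ℓ k
    rw [← cancel_epi (Limits.cokernel.π (EtCoh.powMap X (ℓ ^ k))), Preadditive.comp_nsmul,
      Category.comp_id, Limits.comp_zero]
    have : EtCoh.powMap X (ℓ ^ k) ≫ Limits.cokernel.π (EtCoh.powMap X (ℓ ^ k)) = 0 :=
      Limits.cokernel.condition _
    rw [EtCoh.powMap, Preadditive.nsmul_comp, Category.id_comp] at this
    exact this
  refine ⟨?_, ?_⟩
  · intro i hi ξ ⟨k, hk⟩
    obtain ⟨j, rfl⟩ : ∃ j, i = j + 1 := ⟨i - 1, by omega⟩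
    have hK := hcd _ (hkerT k) (j + 1) (by omega)
    have hQ := hcd _ (hcokT k) j (by omega)
    refine comp_mk₀_injective _ (EtCoh.powMap X (ℓ ^ k)) (j + 1) j rfl hK hQ ξ ?_
    have := H_map_nsmul_id (EtCoh.Gm X) (j + 1) (ℓ ^ k) ξ
    rw [hk] at this
    exact this
  · intro hinv i hi ξ ⟨k, hk⟩
    have hepi : Epi (EtCoh.powMap X (ℓ ^ k)) := by
      apply Groth.Agent.Lib.R2H2.Kummer.epi_powMap
      intro x
      rw [Nat.cast_pow]
      exact pow_ne_zero k (hinv x)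
    have hK := hcd _ (hkerT k) i hi
    refine comp_mk₀_injective_of_epi _ (EtCoh.powMap X (ℓ ^ k)) i hK ξ ?_
    have := H_map_nsmul_id (EtCoh.Gm X) i (ℓ ^ k) ξ
    rw [hk] at this
    exact this

end Groth.Agent.S3246
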