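import Groth.Statements.S3460
import Mathlib

set_option autoImplicit false
open CategoryTheory AlgebraicGeometry
universe u
open EGA43

namespace Groth.Agent.S3460

/-- Let Y be locally Noetherian and f : X ⟶ Y of finite type. Then there exist a scheme Z, a proper
morphism g : X ⟶ Z and an immersion h : Z ⟶ Y with f = g ≫ h if and only if f is proper at every
point of f(X), i.e. every point of f(X) has an open neighbourhood U in Y over which the restriction
of f is proper. -/
theorem result {X Y : Scheme.{u}} [IsLocallyNoetherian Y]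
    (f : X ⟶ Y) [LocallyOfFiniteType f] [QuasiCompact f] :
    (∃ (Z : Scheme.{u}) (g : X ⟶ Z) (h : Z ⟶ Y), IsProper g ∧ IsImmersion h ∧ g ≫ h = f) ↔
      ∀ x : X, ∃ U : Y.Opens, f.base x ∈ U ∧ IsProper (f ∣_ U) := by
  constructor
  · rintro ⟨Z, g, h, hg, hh, rfl⟩ x
    refine ⟨h.coborderRange, ?_, ?_⟩
    · have h1 : Set.range h ⊆ coborder (Set.range h) := subset_coborder
      exact h1 ⟨g x, rfl⟩
    · have hk : IsProper (g ≫ h.liftCoborder) := inferInstance
      have hfac : (g ≫ h) ∣_ h.coborderRange =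
          ((g ≫ h) ⁻¹ᵁ h.coborderRange).ι ≫ (g ≫ h.liftCoborder) := by
        rw [← cancel_mono h.coborderRange.ι, morphismRestrict_ι, Category.assoc, Category.assoc,
          Scheme.Hom.liftCoborder_ι]
      have htop : (g ≫ h) ⁻¹ᵁ h.coborderRange = ⊤ := by
        rw [eq_top_iff]
        intro y _
        have h1 : Set.range h ⊆ coborder (Set.range h) := subset_coborder
        exact h1 ⟨g y, rfl⟩
      have : IsIso ((g ≫ h) ⁻¹ᵁ h.coborderRange).ι := by
        rw [htop]
        exact (Scheme.topIso _).isIso_hom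
      rw [hfac]
      infer_instance
  · intro H
    choose U hxU hU using H
    have hr : Set.range f ⊆ ((⨆ i, U i : Y.Opens) : Set Y) := by
      rintro _ ⟨x, rfl⟩
      exact TopologicalSpace.Opens.mem_iSup.mpr ⟨x, hxU x⟩
    have hr' : Set.range f ⊆ Set.range (⨆ i, U i : Y.Opens).ι := by simpa using hr
    refine ⟨(⨆ i, U i : Y.Opens), IsOpenImmersion.lift (Scheme.Opens.ι _) f hr',
      (⨆ i, U i : Y.Opens).ι, ?_, inferInstance, IsOpenImmersion.lift_fac _ _ _⟩
    rw [IsZariskiLocalAtTarget.iff_of_iSup_eq_top (P := @IsProper)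
      (U := fun i : X ↦ (⨆ i, U i).ι ⁻¹ᵁ U i)]
    · intro i
      have heq : (IsOpenImmersion.lift (Scheme.Opens.ι _) f hr') ⁻¹ᵁ (⨆ i, U i).ι ⁻¹ᵁ U i =
          f ⁻¹ᵁ U i := by
        change (IsOpenImmersion.lift (Scheme.Opens.ι _) f hr' ≫ (⨆ i, U i).ι) ⁻¹ᵁ U i = _
        simp
      let e : Arrow.mk ((IsOpenImmersion.lift (Scheme.Opens.ι _) f hr') ∣_ (⨆ i, U i).ι ⁻¹ᵁ U i) ≅
          Arrow.mk (f ∣_ U i) :=
        Arrow.isoMk (X.isoOfEq heq) (Scheme.Opens.isoOfLE (le_iSup U i)) <| by
          simp [← CategoryTheory.cancel_mono (U i).ι]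
      rw [MorphismProperty.arrow_mk_iso_iff @IsProper e]
      exact hU i
    · apply (⨆ i, U i).ι.image_injective
      dsimp
      rw [Scheme.Hom.image_iSup, Scheme.Hom.image_top_eq_opensRange, Scheme.Opens.opensRange_ι]
      simp [Scheme.Hom.image_preimage_eq_opensRange_inf, le_iSup U]

end Groth.Agent.S3460
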