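import Groth.Statements.S3544
import Mathlib.Algebra.Homology.ShortComplex.ModuleCat
-- import your own Groth.Agent.* helpers here

set_option autoImplicit false
universe u
open HomAlg3

namespace Groth.Agent.S3544

section aux

open CategoryTheory CategoryTheory.Limits

variable (A : Type u) [Ring A]

/-- The length of a module as a natural number (`0` if infinite). -/
noncomputable def len (M : Type u) [AddCommGroup M] [Module A M] : ℕ := (Module.length A M).toNat

variable {A}

theorem len_eq_of_equiv {M N : Type u} [AddCommGroup M] [Module A M] [AddCommGroup N] [Module A N]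
    (e : M ≃ₗ[A] N) : len A M = len A N := by
  unfold len; rw [e.length_eq]

theorem len_eq_zero_of_subsingleton (M : Type u) [AddCommGroup M] [Module A M] [Subsingleton M] :
    len A M = 0 := by
  unfold len; rw [Module.length_eq_zero]; rfl

/-- Additivity of the natural-number length in short exact sequences of finite length modules. -/
theorem len_add {N M P : Type u} [AddCommGroup N] [Module A N] [AddCommGroup M] [Module A M]
    [AddCommGroup P] [Module A P] (f : N →ₗ[A] M) (g : M →ₗ[A] P) (hf : Function.Injective f)
    (hg : Function.Surjective g) (H : Function.Exact f g) (hM : IsFiniteLength A M) :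
    len A M = len A N + len A P := by
  unfold len
  rw [Module.length_eq_add_of_exact f g hf hg H]
  refine ENat.toNat_add ?_ ?_
  · exact Module.length_ne_top_iff.mpr (hM.of_injective hf)
  · exact Module.length_ne_top_iff.mpr (hM.of_surjective hg)

/-- `len M = len (ker g) + len (range g)`. -/
theorem len_ker_add_range {M P : Type u} [AddCommGroup M] [Module A M]
    [AddCommGroup P] [Module A P] (g : M →ₗ[A] P) (hM : IsFiniteLength A M) :
    len A M = len A (LinearMap.ker g) + len A (LinearMap.range g) := by
  refine len_add (LinearMap.ker g).subtype g.rangeRestrict (Submodule.injective_subtype _)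
    g.surjective_rangeRestrict ?_ hM
  intro y
  constructor
  · intro hy
    refine ⟨⟨y, ?_⟩, rfl⟩
    have := congrArg Subtype.val hy
    simpa using this
  · rintro ⟨z, rfl⟩
    apply Subtype.ext
    simp

/-- `len M = len N + len (M ⧸ N)`. -/
theorem len_sub_add_quot {M : Type u} [AddCommGroup M] [Module A M] (N : Submodule A M)
    (hM : IsFiniteLength A M) : len A M = len A N + len A (M ⧸ N) := by
  refine len_add N.subtype N.mkQ (Submodule.injective_subtype _) (Submodule.mkQ_surjective _) ?_ hM
  intro y
  simp [Submodule.Quotient.mk_eq_zero]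

/-- The length of the homology of a short complex of modules of finite length. -/
theorem len_homology (S : ShortComplex (ModuleCat.{u} A)) (h : IsFiniteLength A S.X₂) :
    (len A S.homology : ℤ) =
      len A S.X₂ - len A (LinearMap.range S.g.hom) - len A (LinearMap.range S.f.hom) := by
  have hker : IsFiniteLength A (LinearMap.ker S.g.hom) :=
    h.of_injective (f := (LinearMap.ker S.g.hom).subtype) (Submodule.injective_subtype _)
  have h1 := len_ker_add_range S.g.hom h
  have h2 := len_sub_add_quot (LinearMap.range S.moduleCatToCycles) hker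
  have h3 : len A S.homology = len A (LinearMap.ker S.g.hom ⧸ LinearMap.range S.moduleCatToCycles) :=
    len_eq_of_equiv S.moduleCatHomologyIso.toLinearEquiv
  have hle : LinearMap.range S.f.hom ≤ LinearMap.ker S.g.hom := by
    rintro _ ⟨x, rfl⟩
    exact S.moduleCat_zero_apply x
  have h4 : len A (LinearMap.range S.moduleCatToCycles) = len A (LinearMap.range S.f.hom) := by
    have e : LinearMap.range S.moduleCatToCycles
        = Submodule.comap (LinearMap.ker S.g.hom).subtype (LinearMap.range S.f.hom) :=
      LinearMap.range_codRestrict _ _ _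
    rw [e]
    exact len_eq_of_equiv (Submodule.comapSubtypeEquivOfLe hle)
  rw [h3]
  omega

theorem isFiniteLength_homology (S : ShortComplex (ModuleCat.{u} A)) (h : IsFiniteLength A S.X₂) :
    IsFiniteLength A S.homology := by
  have hker : IsFiniteLength A (LinearMap.ker S.g.hom) :=
    h.of_injective (f := (LinearMap.ker S.g.hom).subtype) (Submodule.injective_subtype _)
  have hq : IsFiniteLength A (LinearMap.ker S.g.hom ⧸ LinearMap.range S.moduleCatToCycles) :=
    hker.of_surjective (f := (LinearMap.range S.moduleCatToCycles).mkQ) (Submodule.mkQ_surjective _)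
  exact hq.of_injective (f := S.moduleCatHomologyIso.toLinearEquiv.toLinearMap)
    S.moduleCatHomologyIso.toLinearEquiv.injective

theorem isZero_homology (S : ShortComplex (ModuleCat.{u} A)) (h : IsZero S.X₂) :
    IsZero S.homology := by
  rw [ModuleCat.isZero_iff_subsingleton] at h ⊢
  have : Subsingleton (LinearMap.ker S.g.hom ⧸ LinearMap.range S.moduleCatToCycles) :=
    (Submodule.mkQ_surjective _).subsingleton
  have : Subsingleton S.moduleCatLeftHomologyData.H := this
  exact S.moduleCatHomologyIso.toLinearEquiv.injective.subsingleton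

end aux


section step

open CategoryTheory CategoryTheory.Limits

variable {A : Type u} [Ring A]

/-- The sign `(-1)^(p+q)`. -/
def eps (pq : ℤ × ℤ) : ℤ := (((pq.1 + pq.2).negOnePow : ℤˣ) : ℤ)

theorem eps_add (a pq : ℤ × ℤ) (ha : a.1 + a.2 = 1) : eps (pq + a) = - eps pq := by
  unfold eps
  have h : (pq + a).1 + (pq + a).2 = (pq.1 + pq.2) + 1 := by
    simp only [Prod.fst_add, Prod.snd_add]; linarith
  rw [h, Int.negOnePow_succ]; simp

theorem len_range_eq_zero_of_src {M P : Type u} [AddCommGroup M] [Module A M]
    [AddCommGroup P] [Module A P] (g : M →ₗ[A] P) [Subsingleton M] :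
    len A (LinearMap.range g) = 0 := by
  have : Subsingleton (LinearMap.range g) := g.surjective_rangeRestrict.subsingleton
  exact len_eq_zero_of_subsingleton _

theorem len_range_eq_zero_of_tgt {M P : Type u} [AddCommGroup M] [Module A M]
    [AddCommGroup P] [Module A P] (g : M →ₗ[A] P) [Subsingleton P] :
    len A (LinearMap.range g) = 0 := by
  have : Subsingleton (LinearMap.range g) := (Submodule.injective_subtype _).subsingleton
  exact len_eq_zero_of_subsingleton _

/-- Passing to homology does not change the Euler characteristic of a page. -/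
theorem euler_step (a : ℤ × ℤ) (ha : a.1 + a.2 = 1)
    (K : HomologicalComplex (ModuleCat.{u} A) (ComplexShape.up' a)) (s : Finset (ℤ × ℤ))
    (hs : ∀ pq, pq ∉ s → IsZero (K.X pq)) (hfl : ∀ pq, IsFiniteLength A (K.X pq)) :
    ∑ pq ∈ s, eps pq * (len A (K.homology pq) : ℤ) = ∑ pq ∈ s, eps pq * (len A (K.X pq) : ℤ) := by
  set B : ℤ × ℤ → ℤ × ℤ → ℤ := fun i j => (len A (LinearMap.range (K.d i j).hom) : ℤ) with hB
  have hnext : ∀ pq, (ComplexShape.up' a).next pq = pq + a :=
    fun pq => (ComplexShape.up' a).next_eq' rfl
  have hprev : ∀ pq, (ComplexShape.up' a).prev pq = pq - a :=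
    fun pq => (ComplexShape.up' a).prev_eq' (sub_add_cancel pq a)
  have hH : ∀ pq, (len A (K.homology pq) : ℤ)
      = len A (K.X pq) - B pq (pq + a) - B (pq - a) pq := by
    intro pq
    have h := len_homology (K.sc pq) (hfl pq)
    rw [← hnext pq, ← hprev pq]
    exact h
  have hB1 : ∀ i j, i ∉ s → B i j = 0 := by
    intro i j hi
    have : Subsingleton (K.X i) := ModuleCat.isZero_iff_subsingleton.mp (hs i hi)
    simp only [hB]
    rw [len_range_eq_zero_of_src]; rfl
  have hB2 : ∀ i j, j ∉ s → B i j = 0 := by
    intro i j hj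
    have : Subsingleton (K.X j) := ModuleCat.isZero_iff_subsingleton.mp (hs j hj)
    simp only [hB]
    rw [len_range_eq_zero_of_tgt]; rfl
  have key : ∑ pq ∈ s, eps pq * B (pq - a) pq = - ∑ pq ∈ s, eps pq * B pq (pq + a) := by
    have e1 : ∑ pq ∈ s, eps pq * B (pq - a) pq = ∑ᶠ pq, eps pq * B (pq - a) pq := by
      refine (finsum_eq_sum_of_support_subset _ ?_).symm
      intro pq hpq
      by_contra h
      exact hpq (by simp [hB2 (pq - a) pq h])
    have e2 : ∑ pq ∈ s, eps pq * B pq (pq + a) = ∑ᶠ pq, eps pq * B pq (pq + a) := by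
      refine (finsum_eq_sum_of_support_subset _ ?_).symm
      intro pq hpq
      by_contra h
      exact hpq (by simp [hB1 pq (pq + a) h])
    rw [e1, e2, ← finsum_comp_equiv (Equiv.addRight a), ← finsum_neg_distrib]
    refine finsum_congr fun pq => ?_
    simp only [Equiv.coe_addRight, add_sub_cancel_right, eps_add a pq ha]
    ring
  calc ∑ pq ∈ s, eps pq * (len A (K.homology pq) : ℤ)
      = ∑ pq ∈ s, (eps pq * (len A (K.X pq) : ℤ) - eps pq * B pq (pq + a)
          - eps pq * B (pq - a) pq) := by
        refine Finset.sum_congr rfl fun pq _ => ?_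
        rw [hH pq]; ring
    _ = ∑ pq ∈ s, eps pq * (len A (K.X pq) : ℤ) - ∑ pq ∈ s, eps pq * B pq (pq + a)
          - ∑ pq ∈ s, eps pq * B (pq - a) pq := by
        rw [Finset.sum_sub_distrib, Finset.sum_sub_distrib]
    _ = ∑ pq ∈ s, eps pq * (len A (K.X pq) : ℤ) := by
        rw [key]; ring

end step

open CategoryTheory CategoryTheory.Limits in
/-- Let E be a cohomological spectral sequence of modules over a ring A, starting at page 2, such that
the E₂ terms have finite length and only finitely many of them (all inside the finite set s of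
bidegrees) are nonzero. Then for every r ≥ 2 the Euler–Poincaré characteristic of page r, the
alternating sum over s of (-1)^{p+q} times the length of E_r^{pq}, equals that of page 2. -/
theorem result {A : Type u} [Ring A]
    (E : E₂CohomologicalSpectralSequence (ModuleCat.{u} A)) (s : Finset (ℤ × ℤ))
    (hs : ∀ pq : ℤ × ℤ, pq ∉ s → IsZero ((E.page 2).X pq))
    (hfl : ∀ pq : ℤ × ℤ, IsFiniteLength A ((E.page 2).X pq)) (r : ℤ) (hr : 2 ≤ r) :
    (s.sum fun pq => (((pq.1 + pq.2).negOnePow : ℤˣ) : ℤ) * ((Module.length A ((E.page r hr).X pq)).toNat : ℤ)) =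
      s.sum fun pq => (((pq.1 + pq.2).negOnePow : ℤˣ) : ℤ) * ((Module.length A ((E.page 2).X pq)).toNat : ℤ) := by
  change ∑ pq ∈ s, eps pq * (len A ((E.page r hr).X pq) : ℤ)
    = ∑ pq ∈ s, eps pq * (len A ((E.page 2).X pq) : ℤ)
  suffices H : (∀ pq : ℤ × ℤ, pq ∉ s → IsZero ((E.page r hr).X pq)) ∧
      (∀ pq : ℤ × ℤ, IsFiniteLength A ((E.page r hr).X pq)) ∧
      ∑ pq ∈ s, eps pq * (len A ((E.page r hr).X pq) : ℤ)
        = ∑ pq ∈ s, eps pq * (len A ((E.page 2).X pq) : ℤ) from H.2.2
  induction r, hr using Int.leInduction with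
  | base => exact ⟨hs, hfl, rfl⟩
  | succ n hn ih =>
    obtain ⟨h1, h2, h3⟩ := ih
    have e : ∀ pq : ℤ × ℤ, ((E.page n hn).homology pq) ≅ (E.page (n + 1) (by lia)).X pq :=
      fun pq => E.iso n (n + 1) pq rfl hn
    refine ⟨?_, ?_, ?_⟩
    · intro pq hpq
      exact (isZero_homology ((E.page n hn).sc pq) (h1 pq hpq)).of_iso (e pq).symm
    · intro pq
      exact (isFiniteLength_homology ((E.page n hn).sc pq) (h2 pq)).of_surjective
        (f := (e pq).toLinearEquiv.toLinearMap) (e pq).toLinearEquiv.surjective
    · rw [← h3, ← euler_step (⟨n, 1 - n⟩ : ℤ × ℤ) (by simp) (E.page n hn) s h1 h2]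
      refine Finset.sum_congr rfl fun pq _ => ?_
      rw [len_eq_of_equiv (e pq).toLinearEquiv]

end Groth.Agent.S3544
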