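import Groth.Statements.S3585
import Groth.Agent.Lib.R2H3AmpleSV
import Groth.Agent.Lib.Helper13ProjQuotIdeal
import Groth.Agent.Lib.Helper13RelProjA
import Groth.Agent.Lib.Helper23Restr
import Groth.Agent.Lib.Helper27PnSections

set_option autoImplicit false
set_option linter.style.haveILetI false
universe u
open CategoryTheory CategoryTheory.Limits AlgebraicGeometry
open EGA2

namespace Groth.Agent.S3585

open Groth.Agent.Helper13ProjQuotIdeal Groth.Agent.Helper13GradedQuot Groth.Agent.Helper13Dehom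
  MvPolynomial in
theorem irrelevant_poly (r : ℕ) (A : Type u) [CommRing A] :
    (HomogeneousIdeal.irrelevant (CohB1.polyGrading r A)).toIdeal =
      Ideal.span (Set.range (fun j : Fin (r + 1) => (X j : MvPolynomial (Fin (r + 1)) A))) := by
  classical
  apply le_antisymm
  · intro p hp
    have h0 : GradedRing.proj (CohB1.polyGrading r A) 0 p = 0 :=
      (HomogeneousIdeal.mem_irrelevant_iff _ p).1 hp
    have h1 : coeff 0 p = 0 := by
      have h2 : (GradedRing.proj (CohB1.polyGrading r A) 0 p : MvPolynomial (Fin (r + 1)) A) =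
          homogeneousComponent 0 p := by
        rw [GradedRing.proj_apply]
        exact MvPolynomial.decomposition.decompose'_apply p 0
      rw [h2, homogeneousComponent_zero] at h0
      simpa using congrArg (coeff 0) h0
    have himg : Set.range (fun j : Fin (r + 1) => (X j : MvPolynomial (Fin (r + 1)) A)) =
        (fun j : Fin (r + 1) => (X j : MvPolynomial (Fin (r + 1)) A)) '' Set.univ := by
      rw [Set.image_univ]
    rw [himg, mem_ideal_span_X_image]
    intro m hm
    have hm0 : m ≠ 0 := by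
      rintro rfl
      exact (mem_support_iff.1 hm) h1
    obtain ⟨j, hj⟩ : ∃ j, m j ≠ 0 := by
      by_contra hcon
      push Not at hcon
      exact hm0 (Finsupp.ext hcon)
    exact ⟨j, Set.mem_univ _, hj⟩
  · rw [Ideal.span_le]
    rintro _ ⟨j, rfl⟩
    exact HomogeneousIdeal.mem_irrelevant_of_mem _ one_pos (MvPolynomial.isHomogeneous_X A j)

open Groth.Agent.Helper13ProjQuotIdeal Groth.Agent.Helper13GradedQuot Groth.Agent.Helper13Dehom
  MvPolynomial in
theorem aux {A : Type u} [CommRing A] {Z : Scheme.{u}} {f : Z ⟶ Spec (CommRingCat.of A)} (r : ℕ)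
    (i : Z ⟶ CohB1.ProjSpace r A) [IsClosedImmersion i] (hif : i ≫ CohB1.ProjSpace.toSpec r A = f) :
    ∃ (S : Type u) (_ : CommRing S) (_ : Algebra A S) (𝒮 : ℕ → Submodule A S) (_ : GradedAlgebra 𝒮) (s : Finset S),
      Function.Surjective (algebraMap A (𝒮 0)) ∧ (∀ g ∈ s, g ∈ 𝒮 1) ∧
      (HomogeneousIdeal.irrelevant 𝒮).toIdeal = Ideal.span (s : Set S) ∧
      ∃ e : Z ≅ Proj 𝒮, e.hom ≫ Proj.toSpecZero 𝒮 ≫ Spec.map (CommRingCat.ofHom (algebraMap A (𝒮 0))) = f := by
  classical
  let g : ULift.{u} (Fin (r + 1)) → MvPolynomial (Fin (r + 1)) A := fun j => X j.down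
  have hg : ∀ j, g j ∈ CohB1.polyGrading r A 1 := fun j => MvPolynomial.isHomogeneous_X A j.down
  have hcov : ⨆ j, Proj.basicOpen (CohB1.polyGrading r A) (g j) = ⊤ := by
    rw [eq_top_iff]
    intro y _
    obtain ⟨j, hj⟩ := Groth.Agent.Lib.Helper27PnSections.exists_X_not_mem r A y
    exact TopologicalSpace.Opens.mem_iSup.mpr
      ⟨⟨j⟩, (ProjectiveSpectrum.mem_basicOpen (CohB1.polyGrading r A) (X j) y).mpr hj⟩
  let i' : Z ⟶ Proj (CohB1.polyGrading r A) := i
  haveI : IsClosedImmersion i' := ‹IsClosedImmersion i›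
  let JJ := J hg i'.ker
  letI : GradedAlgebra (qgr (CohB1.polyGrading r A) JJ.toIdeal) :=
    gradedAlgebraQuot (CohB1.polyGrading r A) JJ.toIdeal JJ.isHomogeneous
  have hsurj := quotHom_surjective (CohB1.polyGrading r A) JJ.toIdeal
  have hφ := irrelevant_le_map (quotHom (CohB1.polyGrading r A) JJ.toIdeal) hsurj
  haveI : IsClosedImmersion (Proj.map (quotHom (CohB1.polyGrading r A) JJ.toIdeal) hφ) :=
    Groth.Agent.Lib.Helper27ProjClosed.isClosedImmersion_map _ hsurj hφ
  have hker : (Proj.map (quotHom (CohB1.polyGrading r A) JJ.toIdeal) hφ).ker = i'.ker := by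
    refine Scheme.IdealSheafData.ext_of_iSup_eq_top (Uaff hg) hcov (fun j => ?_)
    rw [Scheme.Hom.ker_apply]
    ext x
    obtain ⟨k, a, ha, rfl⟩ := exists_dehom_eq hg j x
    refine Iff.trans (RingHom.mem_ker
      (f := ((Proj.map (quotHom (CohB1.polyGrading r A) JJ.toIdeal) hφ).app (Uaff hg j).1).hom)) ?_
    refine (map_app_dehom_eq_zero_iff _ hφ (hg j) ha).trans ?_
    refine Iff.trans ?_ (dehom_mem_iff hg i'.ker j ha).symm
    simp only [quotHom_eq_zero_iff]
    rfl
  haveI := IsClosedImmersion.isIso_lift (Proj.map (quotHom (CohB1.polyGrading r A) JJ.toIdeal) hφ) i' hker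
  let e : Z ≅ Proj (qgr (CohB1.polyGrading r A) JJ.toIdeal) :=
    asIso (IsClosedImmersion.lift (Proj.map (quotHom (CohB1.polyGrading r A) JJ.toIdeal) hφ) i' hker.le)
  have he : e.hom ≫ Proj.map (quotHom (CohB1.polyGrading r A) JJ.toIdeal) hφ = i' :=
    IsClosedImmersion.lift_fac _ _ _
  refine ⟨MvPolynomial (Fin (r + 1)) A ⧸ JJ.toIdeal, inferInstance, inferInstance,
    qgr (CohB1.polyGrading r A) JJ.toIdeal, inferInstance,
    Finset.univ.image (fun j : Fin (r + 1) => quotHom (CohB1.polyGrading r A) JJ.toIdeal (X j)),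
    ?_, ?_, ?_, e, ?_⟩
  · -- degree zero part
    rintro ⟨b, hb⟩
    obtain ⟨a, ha, rfl⟩ := hb
    have ha' : a ∈ (1 : Submodule A (MvPolynomial (Fin (r + 1)) A)) := by
      rw [← homogeneousSubmodule_zero]; exact ha
    obtain ⟨c, rfl⟩ := Submodule.mem_one.1 ha'
    refine ⟨c, Subtype.ext ?_⟩
    rfl
  · intro b hb
    obtain ⟨j, -, rfl⟩ := Finset.mem_image.1 hb
    exact (quotHom (CohB1.polyGrading r A) JJ.toIdeal).map_mem (MvPolynomial.isHomogeneous_X A j)
  · apply le_antisymm
    · have h1 : (HomogeneousIdeal.irrelevant (qgr (CohB1.polyGrading r A) JJ.toIdeal)).toIdeal ≤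
          (HomogeneousIdeal.irrelevant (CohB1.polyGrading r A)).toIdeal.map
            (quotHom (CohB1.polyGrading r A) JJ.toIdeal) := hφ
      refine h1.trans ?_
      rw [irrelevant_poly, Ideal.map_span]
      apply Ideal.span_mono
      rintro _ ⟨_, ⟨j, rfl⟩, rfl⟩
      exact Finset.mem_coe.2 (Finset.mem_image.2 ⟨j, Finset.mem_univ _, rfl⟩)
    · rw [Ideal.span_le]
      intro b hb
      obtain ⟨j, -, rfl⟩ := Finset.mem_image.1 (Finset.mem_coe.1 hb)
      exact HomogeneousIdeal.mem_irrelevant_of_mem _ one_pos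
        ((quotHom (CohB1.polyGrading r A) JJ.toIdeal).map_mem (MvPolynomial.isHomogeneous_X A j))
  · -- compatibility with the structure morphisms
    rw [← hif]
    change _ = i' ≫ Proj.toSpecZero (CohB1.polyGrading r A) ≫
      Spec.map (CommRingCat.ofHom (algebraMap A (CohB1.polyGrading r A 0)))
    rw [← he, Category.assoc,
      Groth.Agent.Helper13RelProj.map_toSpecZero_assoc, ← Spec.map_comp]
    rfl

/-- Let A be a ring and f : X → Spec A a proper morphism, and suppose X carries an invertible O_X-module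
which is ample relative to f (so f is quasi-projective). Then f is projective: X is isomorphic over
Spec A to Proj S for some graded A-algebra S whose degree-zero part is the image of A and whose
irrelevant ideal is generated by finitely many elements of degree one. -/
theorem result {A : Type u} [CommRing A] {X : Scheme.{u}}
    (f : X ⟶ Spec (CommRingCat.of A)) [IsProper f]
    (L : X.Modules) (hL : PicF.IsInvertible L) (hamp : RelAmple.IsRelAmple f L) :
    ∃ (S : Type u) (_ : CommRing S) (_ : Algebra A S) (𝒮 : ℕ → Submodule A S) (_ : GradedAlgebra 𝒮) (s : Finset S),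
      Function.Surjective (algebraMap A (𝒮 0)) ∧ (∀ g ∈ s, g ∈ 𝒮 1) ∧
      (HomogeneousIdeal.irrelevant 𝒮).toIdeal = Ideal.span (s : Set S) ∧
      ∃ e : X ≅ Proj 𝒮, e.hom ≫ Proj.toSpecZero 𝒮 ≫ Spec.map (CommRingCat.ofHom (algebraMap A (𝒮 0))) = f := by
  classical
  -- ampleness on `X`
  have hamp' : CohB1.IsAmple L :=
    Groth.Agent.Lib.Helper23.SecTw.isAmple_of_restrict_top L (f ⁻¹ᵁ ⊤) rfl
      (hamp.2 ⟨⊤, isAffineOpen_top _⟩)
  obtain ⟨d, hd, r, i, hic, hif, -⟩ :=
    Groth.Agent.Lib.R2H3.AmpleSV.exists_closedImmersion_projSpace A f L hamp'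
  exact aux r i hif

end Groth.Agent.S3585
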