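import Groth.Statements.S3700
import Groth.Agent.Lib.R2LeadRegIdC
import Groth.Agent.Lib.R2LeadRegIdD
import Groth.Agent.Lib.H9KoszulH1
import Groth.Agent.S15821

set_option autoImplicit false
universe u
open SGA1

namespace Groth.Agent.S3700

open AlgebraicGeometry CategoryTheory CategoryTheory.Limits in
/-- Let S be locally Noetherian, f : X -> S locally of finite type, Y the closed subscheme of X defined
by a quasi-coherent ideal, and x a point of Y at which Y is smooth over S. Then X is smooth over S
at x if and only if the closed immersion of Y in X is regular at x, that is, the kernel of O_{X,x}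
-> O_{Y,x} is generated by a regular sequence. (Smoothness at a point is membership in Mathlib's
smooth locus, the set of points where the map of local rings is formally smooth.) -/
theorem result {X S : Scheme.{u}} [IsLocallyNoetherian S] (f : X ⟶ S)
    [LocallyOfFiniteType f] [LocallyOfFinitePresentation f] (I : X.IdealSheafData)
    [LocallyOfFinitePresentation (I.subschemeι ≫ f)] (x : ↥I.subscheme) (hY : x ∈ (I.subschemeι ≫ f).smoothLocus) :
    I.subschemeι.base x ∈ f.smoothLocus ↔ CInt.IsRegularIdeal (RingHom.ker (I.subschemeι.stalkMap x).hom) := by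
  constructor
  · intro hX
    exact Groth.Agent.Lib.R2LeadRegIdD.isRegularIdeal_of_mem_smoothLocus f I.subschemeι x hY hX
  · rintro ⟨rs, hreg, hrs⟩
    have hH1 : CAlgX.IsH1Regular rs.get :=
      Groth.Agent.Lib.H9KoszulH1.isH1Regular_of_isKoszulRegularSeq rs
        (Groth.Agent.S15821.result _ rs hreg.toIsWeaklyRegular).1
    refine Groth.Agent.Lib.R2LeadRegIdC.mem_smoothLocus_of_h1Regular f I.subschemeι x hY rs.get
      ?_ hH1
    rw [← hrs, Set.range_list_get]

end Groth.Agent.S3700
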