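import Groth.Statements.S3781
import Groth.Agent.Lib.Helper4LambdaInv
import Groth.Agent.Lib.Helper4LambdaAdamsFil

set_option autoImplicit false
universe v u
open CategoryTheory CategoryTheory.Limits AlgebraicGeometry
attribute [local instance] HasDerivedCategory.standard
open KRR

namespace Groth.Agent.S3781


open LambdaRing Groth.Agent.Lib.Helper4 Finset PowerSeries

section PartA
variable {K : Type v} [CommRing K] [LambdaOps K] (P : PosStructure K)

/-- `D(e) = λ^{ε(e)}(e)`, the determinant of a positive element. -/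
noncomputable def D (e : K) : K := LambdaOps.lam (P.aug e).toNat e

theorem aug_toNat (e : K) (he : e ∈ P.pos) : ((P.aug e).toNat : ℤ) = P.aug e :=
  Int.toNat_of_nonneg (P.aug_pos e he).le

theorem aug_sub_toNat (e : K) (he : e ∈ P.pos) : P.aug (e - ((P.aug e).toNat : K)) = 0 := by
  rw [map_sub, map_natCast, aug_toNat P e he, sub_self]

/-- `Σ_{i ≤ m} γ^i(e - m) = λ^m(e)`. -/
theorem sum_gamma_eq_D (e : K) (he : e ∈ P.pos) :
    ∑ i ∈ range ((P.aug e).toNat + 1), gamma i (e - ((P.aug e).toNat : K)) = D P e := by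
  set m := (P.aug e).toNat with hm
  have h1 := rev_gammaSeries_sub_natCast (lam_one_eq_zero P) e m (lam_eq_zero_of_pos P e he)
  have h2 := congrArg (Polynomial.eval 1) h1
  rw [rev, Polynomial.eval_finsetSum, Polynomial.eval_finsetSum] at h2
  have hL : ∀ i ∈ range (m + 1), Polynomial.eval 1 (Polynomial.C (coeff i (gammaSeries (e - (m : K)))) *
      Polynomial.X ^ (m - i)) = gamma i (e - (m : K)) := by
    intro i _
    simp
  rw [sum_congr rfl hL] at h2
  rw [h2]
  rw [sum_eq_single m]
  · simp [D, hm]
  · intro i hi him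
    rw [mem_range] at hi
    have : m - i ≠ 0 := by omega
    simp [this]
  · intro h
    exact absurd (mem_range.2 (Nat.lt_succ_self m)) h

theorem D_sub_mem (e : K) (he : e ∈ P.pos) :
    D P e - 1 - (e - ((P.aug e).toNat : K)) ∈ gammaFiltration P 2 := by
  have hpos : 0 < (P.aug e).toNat := by
    have := P.aug_pos e he
    omega
  obtain ⟨m', hm'⟩ : ∃ m', (P.aug e).toNat = m' + 1 := ⟨(P.aug e).toNat - 1, by omega⟩
  have h := sum_gamma_eq_D P e he
  rw [hm'] at h
  rw [sum_range_succ', sum_range_succ', gamma_zero', gamma_one, ← hm'] at h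
  rw [← h]
  have : ∑ k ∈ range m', gamma (k + 1 + 1) (e - ((P.aug e).toNat : K)) +
      (e - ((P.aug e).toNat : K)) + 1 - 1 - (e - ((P.aug e).toNat : K)) =
      ∑ k ∈ range m', gamma (k + 1 + 1) (e - ((P.aug e).toNat : K)) := by ring
  rw [this]
  apply AddSubgroup.sum_mem
  intro k _
  exact gammaFiltration_anti P (by omega : 2 ≤ k + 1 + 1)
    (gamma_mem_gammaFiltration P (k + 1 + 1) _ (aug_sub_toNat P e he))

theorem isLine_D (hdet : ∀ e : K, e ∈ P.pos → LambdaOps.lam (P.aug e).toNat e ∈ P.pos)
    (e : K) (he : e ∈ P.pos) : P.IsLine (D P e) := by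
  refine ⟨hdet e he, ?_⟩
  have hu : IsUnit (P.aug (D P e)) := (P.isUnit_lam e he).map P.aug
  have hp := P.aug_pos _ (hdet e he)
  rcases Int.isUnit_iff.1 hu with h | h
  · exact h
  · exfalso
    change 0 < P.aug (D P e) at hp
    omega

theorem list_aux (l : List (ℕ × K)) (hl : ∀ p ∈ l, P.aug p.2 = 0) :
    ((l.map Prod.fst).sum = 0 → (l.map fun p => gamma p.1 p.2).prod = 1) ∧
    ((l.map Prod.fst).sum = 1 → P.aug (l.map fun p => gamma p.1 p.2).prod = 0) := by
  induction l with
  | nil => simp
  | cons p l ih =>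
    have ih' := ih (fun q hq => hl q (List.mem_cons_of_mem _ hq))
    have hp := hl p List.mem_cons_self
    simp only [List.map_cons, List.sum_cons, List.prod_cons]
    constructor
    · intro h
      have h1 : p.1 = 0 := by omega
      have h2 : (l.map Prod.fst).sum = 0 := by omega
      rw [h1, gamma_zero', ih'.1 h2, one_mul]
    · intro h
      rcases Nat.eq_zero_or_pos p.1 with h1 | h1
      · have h2 : (l.map Prod.fst).sum = 1 := by omega
        rw [h1, gamma_zero', one_mul]
        exact ih'.2 h2
      · have h1' : p.1 = 1 := by omega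
        have h2 : (l.map Prod.fst).sum = 0 := by omega
        rw [h1', gamma_one, ih'.1 h2, mul_one]
        exact hp

theorem exists_aug_zero_of_mem_one (x : K) (hx : x ∈ gammaFiltration P 1) :
    ∃ y : K, P.aug y = 0 ∧ x - y ∈ gammaFiltration P 2 := by
  rw [gammaFiltration_of_ne_zero P one_ne_zero] at hx
  induction hx using AddSubgroup.closure_induction with
  | mem x hx =>
    obtain ⟨l, hl, hsum, rfl⟩ := hx
    by_cases h2 : 2 ≤ (l.map Prod.fst).sum
    · refine ⟨0, map_zero _, ?_⟩
      rw [sub_zero]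
      exact gammaGen_subset_gammaFiltration P 2 ⟨l, hl, h2, rfl⟩
    · have h1 : (l.map Prod.fst).sum = 1 := by omega
      refine ⟨_, (list_aux P l hl).2 h1, ?_⟩
      rw [sub_self]
      exact AddSubgroup.zero_mem _
  | zero => exact ⟨0, map_zero _, by rw [sub_zero]; exact AddSubgroup.zero_mem _⟩
  | add a b _ _ ha hb =>
    obtain ⟨ya, hya, ha'⟩ := ha
    obtain ⟨yb, hyb, hb'⟩ := hb
    refine ⟨ya + yb, by rw [map_add, hya, hyb, add_zero], ?_⟩
    have : a + b - (ya + yb) = (a - ya) + (b - yb) := by ring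
    rw [this]
    exact AddSubgroup.add_mem _ ha' hb'
  | neg a _ ha =>
    obtain ⟨ya, hya, ha'⟩ := ha
    refine ⟨-ya, by rw [map_neg, hya, neg_zero], ?_⟩
    have : -a - -ya = -(a - ya) := by ring
    rw [this]
    exact AddSubgroup.neg_mem _ ha'

theorem partA (hLinv : ∀ w : K, P.IsLine w → ∃ w' : K, P.IsLine w' ∧ w * w' = 1)
    (hdet : ∀ e : K, e ∈ P.pos → LambdaOps.lam (P.aug e).toNat e ∈ P.pos)
    (x : K) (hx : x ∈ gammaFiltration P 1) :
    ∃ u : K, P.IsLine u ∧ x - (u - 1) ∈ gammaFiltration P 2 := by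
  obtain ⟨y, hy, hxy⟩ := exists_aug_zero_of_mem_one P x hx
  obtain ⟨e, f, he, hf, hyef⟩ := P.exists_sub y
  have haug : P.aug e = P.aug f := by
    have := congrArg P.aug hyef
    rw [hy, map_sub] at this
    linarith
  have hu := isLine_D P hdet e he
  have hv := isLine_D P hdet f hf
  obtain ⟨v', hv', hvv'⟩ := hLinv _ hv
  refine ⟨D P e * v', isLine_mul P hu hv', ?_⟩
  have h1 := D_sub_mem P e he
  have h2 := D_sub_mem P f hf
  rw [← haug] at h2
  have h3 : (D P e - D P f) * (v' - 1) ∈ gammaFiltration P 2 := by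
    apply mul_mem_gammaFiltration P 1 1
    · apply mem_gammaFiltration_one
      rw [map_sub, hu.2, hv.2, sub_self]
    · apply mem_gammaFiltration_one
      rw [map_sub, hv'.2, map_one, sub_self]
  have key : x - (D P e * v' - 1) =
      (x - y) - (D P e - 1 - (e - ((P.aug e).toNat : K))) +
        (D P f - 1 - (f - ((P.aug e).toNat : K))) - (D P e - D P f) * (v' - 1) := by
    have : (D P e - D P f) * (v' - 1) = D P e * v' - D P e - D P f * v' + D P f := by ring
    rw [this, hvv', hyef]
    ring
  rw [key]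
  exact AddSubgroup.sub_mem _ (AddSubgroup.add_mem _ (AddSubgroup.sub_mem _ hxy h1) h2) h3

end PartA

section Det
variable {K : Type v} [CommRing K] [LambdaOps K] (P : PosStructure K)

theorem D_add (e f : K) (he : e ∈ P.pos) (hf : f ∈ P.pos) : D P (e + f) = D P e * D P f := by
  have hm := aug_toNat P e he
  have hn := aug_toNat P f hf
  have hmn : (P.aug (e + f)).toNat = (P.aug e).toNat + (P.aug f).toNat := by
    rw [map_add]
    have h1 := P.aug_pos e he
    have h2 := P.aug_pos f hf
    omega
  unfold D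
  rw [hmn, LambdaOps.lam_add]
  rw [sum_eq_single (P.aug e).toNat]
  · congr 2; omega
  · intro i hi hne
    rw [mem_range] at hi
    rcases lt_or_gt_of_ne hne with h | h
    · have : LambdaOps.lam ((P.aug e).toNat + (P.aug f).toNat - i) f = 0 :=
        lam_eq_zero_of_pos P f hf _ (by omega)
      rw [this, mul_zero]
    · rw [lam_eq_zero_of_pos P e he _ h, zero_mul]
  · intro h
    exact absurd (mem_range.2 (by omega)) h

theorem isUnit_D (e : K) (he : e ∈ P.pos) : IsUnit (D P e) := P.isUnit_lam e he

theorem one_mem_pos : (1 : K) ∈ P.pos := (isLine_one P).1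

theorem D_of_isLine (u : K) (hu : P.IsLine u) : D P u = u := by
  unfold D
  rw [hu.2]
  exact LambdaOps.lam_one u

/-- the determinant of an arbitrary element (via a chosen representation). -/
noncomputable def det (x : K) : K :=
  D P (Classical.choose (P.exists_sub x)) *
    ((isUnit_D P _ (Classical.choose_spec (Classical.choose_spec (P.exists_sub x))).2.1).unit⁻¹ : Kˣ)

theorem det_mul_D (x e f : K) (he : e ∈ P.pos) (hf : f ∈ P.pos) (hx : x = e - f) :
    det P x * D P f = D P e := by
  obtain ⟨he0, hf0, hx0⟩ := Classical.choose_spec (Classical.choose_spec (P.exists_sub x))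
  set e0 := Classical.choose (P.exists_sub x) with he0'
  set f0 := Classical.choose (Classical.choose_spec (P.exists_sub x)) with hf0'
  have h1 : e0 + f = e + f0 := by
    have : e0 - f0 = e - f := by rw [← hx0, hx]
    linear_combination this
  have h2 : D P e0 * D P f = D P e * D P f0 := by
    rw [← D_add P e0 f he0 hf, ← D_add P e f0 he hf0, h1]
  have hu : IsUnit (D P f0) := isUnit_D P f0 hf0
  have h3 : det P x * D P f0 = D P e0 := by
    unfold det
    rw [mul_assoc]
    have : ((hu.unit⁻¹ : Kˣ) : K) * D P f0 = 1 := by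
      have := hu.unit.inv_mul
      rwa [IsUnit.unit_spec] at this
    rw [this, mul_one]
  apply hu.mul_right_cancel
  calc det P x * D P f * D P f0 = (det P x * D P f0) * D P f := by ring
    _ = D P e0 * D P f := by rw [h3]
    _ = D P e * D P f0 := h2

theorem det_add (x y : K) : det P (x + y) = det P x * det P y := by
  obtain ⟨e, f, he, hf, hx⟩ := P.exists_sub x
  obtain ⟨e', f', he', hf', hy⟩ := P.exists_sub y
  have h1 := det_mul_D P x e f he hf hx
  have h2 := det_mul_D P y e' f' he' hf' hy
  have h3 := det_mul_D P (x + y) (e + e') (f + f') (P.add_mem _ _ he he') (P.add_mem _ _ hf hf')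
    (by rw [hx, hy]; ring)
  rw [D_add P e e' he he', D_add P f f' hf hf', ← h1, ← h2] at h3
  have hu : IsUnit (D P f * D P f') := (isUnit_D P f hf).mul (isUnit_D P f' hf')
  apply hu.mul_right_cancel
  rw [h3]; ring

theorem det_of_isLine (u : K) (hu : P.IsLine u) : det P u = u := by
  have h := det_mul_D P u (u + 1) 1 (P.add_mem _ _ hu.1 (one_mem_pos P)) (one_mem_pos P) (by ring)
  rw [D_add P u 1 hu.1 (one_mem_pos P), D_of_isLine P u hu] at h
  exact (isUnit_D P 1 (one_mem_pos P)).mul_right_cancel h

theorem det_zero : det P (0 : K) = 1 := by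
  have h := det_mul_D P 0 1 1 (one_mem_pos P) (one_mem_pos P) (by ring)
  have h' : det P 0 * D P 1 = 1 * D P 1 := by rw [h, one_mul]
  exact (isUnit_D P 1 (one_mem_pos P)).mul_right_cancel h'

theorem det_neg_mul (x : K) : det P (-x) * det P x = 1 := by
  rw [← det_add, neg_add_cancel, det_zero]

theorem isUnit_of_isLine (u : K) (hu : P.IsLine u) : IsUnit u := by
  have := isUnit_D P u hu.1
  rwa [D_of_isLine P u hu] at this

end Det

section Jfil
variable {K : Type v} [CommRing K] [LambdaOps K] (P : PosStructure K)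

/-- generators of the filtration steps inside the span of line elements -/
def gen0 : Set K := {u | P.IsLine u}
def gen1 : Set K := {z | ∃ c a, P.IsLine c ∧ P.IsLine a ∧ z = c * (a - 1)}
def gen2 : Set K := {z | ∃ c a b, P.IsLine c ∧ P.IsLine a ∧ P.IsLine b ∧ z = c * (a - 1) * (b - 1)}

/-- the filtration `J 0 = lineSpan`, `J 1 = I`, `J n = I²` for `n ≥ 2`. -/
def J (n : ℕ) : AddSubgroup K :=
  if n = 0 then AddSubgroup.closure (gen0 P) else
    if n = 1 then AddSubgroup.closure (gen1 P) else AddSubgroup.closure (gen2 P)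

omit [LambdaOps K] in
theorem closure_mul_mem {S T U : Set K}
    (h : ∀ s ∈ S, ∀ t ∈ T, s * t ∈ AddSubgroup.closure U) {x y : K}
    (hx : x ∈ AddSubgroup.closure S) (hy : y ∈ AddSubgroup.closure T) :
    x * y ∈ AddSubgroup.closure U := by
  induction hx using AddSubgroup.closure_induction with
  | mem x hx =>
    induction hy using AddSubgroup.closure_induction with
    | mem y hy => exact h x hx y hy
    | zero => rw [mul_zero]; exact AddSubgroup.zero_mem _
    | add y z _ _ hy hz => rw [mul_add]; exact AddSubgroup.add_mem _ hy hz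
    | neg y _ hy => rw [mul_neg]; exact AddSubgroup.neg_mem _ hy
  | zero => rw [zero_mul]; exact AddSubgroup.zero_mem _
  | add x z _ _ hx hz => rw [add_mul]; exact AddSubgroup.add_mem _ hx hz
  | neg x _ hx => rw [neg_mul]; exact AddSubgroup.neg_mem _ hx

theorem gen00 : ∀ s ∈ gen0 P, ∀ t ∈ gen0 P, s * t ∈ AddSubgroup.closure (gen0 P) :=
  fun s hs t ht => AddSubgroup.subset_closure (isLine_mul P hs ht)

theorem gen01 : ∀ s ∈ gen0 P, ∀ t ∈ gen1 P, s * t ∈ AddSubgroup.closure (gen1 P) := by
  rintro s hs _ ⟨c, a, hc, ha, rfl⟩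
  exact AddSubgroup.subset_closure ⟨s * c, a, isLine_mul P hs hc, ha, by ring⟩

theorem gen02 : ∀ s ∈ gen0 P, ∀ t ∈ gen2 P, s * t ∈ AddSubgroup.closure (gen2 P) := by
  rintro s hs _ ⟨c, a, b, hc, ha, hb, rfl⟩
  exact AddSubgroup.subset_closure ⟨s * c, a, b, isLine_mul P hs hc, ha, hb, by ring⟩

theorem gen11 : ∀ s ∈ gen1 P, ∀ t ∈ gen1 P, s * t ∈ AddSubgroup.closure (gen2 P) := by
  rintro _ ⟨c, a, hc, ha, rfl⟩ _ ⟨c', b, hc', hb, rfl⟩
  exact AddSubgroup.subset_closure ⟨c * c', a, b, isLine_mul P hc hc', ha, hb, by ring⟩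

theorem gen12 : ∀ s ∈ gen1 P, ∀ t ∈ gen2 P, s * t ∈ AddSubgroup.closure (gen2 P) := by
  rintro _ ⟨c, a, hc, ha, rfl⟩ t ht
  have h1 := gen02 P (c * a) (isLine_mul P hc ha) t ht
  have h2 := gen02 P c hc t ht
  have : c * (a - 1) * t = c * a * t - c * t := by ring
  rw [this]
  exact AddSubgroup.sub_mem _ h1 h2

theorem gen22 : ∀ s ∈ gen2 P, ∀ t ∈ gen2 P, s * t ∈ AddSubgroup.closure (gen2 P) := by
  rintro _ ⟨c, a, b, hc, ha, hb, rfl⟩ t ht
  have h1 := gen12 P (c * a * (b - 1)) ⟨c * a, b, isLine_mul P hc ha, hb, rfl⟩ t ht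
  have h2 := gen12 P (c * (b - 1)) ⟨c, b, hc, hb, rfl⟩ t ht
  have : c * (a - 1) * (b - 1) * t = c * a * (b - 1) * t - c * (b - 1) * t := by ring
  rw [this]
  exact AddSubgroup.sub_mem _ h1 h2

omit [LambdaOps K] in
theorem swap_gen {S T U : Set K} (h : ∀ s ∈ S, ∀ t ∈ T, s * t ∈ AddSubgroup.closure U) :
    ∀ t ∈ T, ∀ s ∈ S, t * s ∈ AddSubgroup.closure U :=
  fun t ht s hs => by rw [mul_comm]; exact h s hs t ht

theorem J_zero : J P 0 = AddSubgroup.closure (gen0 P) := by rw [J, if_pos rfl]
theorem J_one : J P 1 = AddSubgroup.closure (gen1 P) := by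
  rw [J, if_neg one_ne_zero, if_pos rfl]
theorem J_two_le {n : ℕ} (hn : 2 ≤ n) : J P n = AddSubgroup.closure (gen2 P) := by
  rw [J, if_neg (by omega), if_neg (by omega)]

theorem J_mul {m n : ℕ} {x y : K} (hx : x ∈ J P m) (hy : y ∈ J P n) : x * y ∈ J P (m + n) := by
  rcases Nat.lt_or_ge m 2 with hm | hm
  · rcases Nat.lt_or_ge n 2 with hn | hn
    · interval_cases m <;> interval_cases n
      · rw [J_zero] at *; exact closure_mul_mem (gen00 P) hx hy
      · rw [J_zero] at hx; rw [J_one] at hy ⊢; exact closure_mul_mem (gen01 P) hx hy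
      · rw [J_zero] at hy; rw [J_one] at hx ⊢; exact closure_mul_mem (swap_gen (gen01 P)) hx hy
      · rw [J_one] at hx hy; rw [J_two_le P (le_refl 2)]; exact closure_mul_mem (gen11 P) hx hy
    · rw [J_two_le P hn] at hy
      rw [J_two_le P (by omega : 2 ≤ m + n)]
      interval_cases m
      · rw [J_zero] at hx; exact closure_mul_mem (gen02 P) hx hy
      · rw [J_one] at hx; exact closure_mul_mem (gen12 P) hx hy
  · rw [J_two_le P hm] at hx
    rw [J_two_le P (by omega : 2 ≤ m + n)]
    rcases Nat.lt_or_ge n 2 with hn | hn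
    · interval_cases n
      · rw [J_zero] at hy; exact closure_mul_mem (swap_gen (gen02 P)) hx hy
      · rw [J_one] at hy; exact closure_mul_mem (swap_gen (gen12 P)) hx hy
    · rw [J_two_le P hn] at hy
      exact closure_mul_mem (gen22 P) hx hy

/-- series whose `i`-th coefficient lies in `J i` -/
def Good (f : K⟦X⟧) : Prop := ∀ i, coeff i f ∈ J P i

theorem one_mem_J0 : (1 : K) ∈ J P 0 := by
  rw [J_zero]; exact AddSubgroup.subset_closure (isLine_one P)

theorem good_one : Good P (1 : K⟦X⟧) := by
  intro i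
  rw [coeff_one]
  split_ifs with h
  · subst h; exact one_mem_J0 P
  · exact AddSubgroup.zero_mem _

theorem good_mul {f g : K⟦X⟧} (hf : Good P f) (hg : Good P g) : Good P (f * g) := by
  intro i
  rw [coeff_mul]
  apply AddSubgroup.sum_mem
  rintro ⟨p, q⟩ hpq
  have hpq' : p + q = i := by simpa using hpq
  rw [← hpq']
  exact J_mul P (hf p) (hg q)

theorem good_inv {f g : K⟦X⟧} (hf : Good P f) (hf0 : coeff 0 f = 1) (h : g * f = 1) :
    Good P g := by
  intro i
  induction i using Nat.strong_induction_on with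
  | _ i ih =>
    have hc := congrArg (coeff i) h
    rw [coeff_mul, Finset.Nat.sum_antidiagonal_eq_sum_range_succ_mk, Finset.sum_range_succ,
      Nat.sub_self, hf0, mul_one] at hc
    have : coeff i g = coeff i (1 : K⟦X⟧) - ∑ p ∈ range i, coeff p g * coeff (i - p) f := by
      rw [← hc]; ring
    rw [this]
    apply AddSubgroup.sub_mem
    · exact good_one P i
    · apply AddSubgroup.sum_mem
      intro p hp
      rw [Finset.mem_range] at hp
      have := J_mul P (ih p hp) (hf (i - p))
      rwa [Nat.add_sub_cancel' hp.le] at this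

theorem good_gammaSeries (x : K) (hx : x ∈ lineSpan P) :
    Good P (gammaSeries (x - (P.aug x : K))) := by
  unfold lineSpan at hx
  induction hx using AddSubgroup.closure_induction with
  | mem u hu =>
    have h2 : ∀ j : ℕ, 2 ≤ j → LambdaOps.lam j u = 0 := by
      intro j hj
      apply P.lam_eq_zero u hu.1
      rw [hu.2]; exact_mod_cast hj
    rw [hu.2, Int.cast_one, gammaSeries_sub_one (lam_one_eq_zero P) u h2]
    intro i
    rw [map_add, coeff_one, coeff_C_mul, coeff_X]
    rcases Nat.lt_or_ge i 2 with hi | hi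
    · interval_cases i
      · simp only [if_true, if_false, zero_ne_one, mul_zero, add_zero]
        exact one_mem_J0 P
      · simp only [one_ne_zero, if_false, if_true, zero_add, mul_one]
        rw [J_one]
        exact AddSubgroup.subset_closure ⟨1, u, isLine_one P, hu, by ring⟩
    · have h0 : i ≠ 0 := by omega
      have h1 : i ≠ 1 := by omega
      simp only [h0, h1, if_false, mul_zero, add_zero]
      exact AddSubgroup.zero_mem _
  | zero =>
    have : ((0 : K) - ((P.aug (0 : K) : ℤ) : K)) = 0 := by simp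
    rw [this]
    have h0 : gammaSeries (0 : K) = 1 := by
      have h := gammaSeries_add (0 : K) 0
      rw [add_zero] at h
      have hu := isUnit_gammaSeries (0 : K)
      have : gammaSeries (0 : K) * gammaSeries (0 : K) = gammaSeries (0 : K) * 1 := by
        rw [mul_one]; exact h.symm
      exact hu.mul_left_cancel this
    rw [h0]; exact good_one P
  | add a b _ _ ha hb =>
    have : a + b - ((P.aug (a + b) : ℤ) : K) = (a - (P.aug a : K)) + (b - (P.aug b : K)) := by
      rw [map_add]; push_cast; ring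
    rw [this, gammaSeries_add]
    exact good_mul P ha hb
  | neg a _ ha =>
    have : -a - ((P.aug (-a) : ℤ) : K) = -(a - (P.aug a : K)) := by
      rw [map_neg]; push_cast; ring
    rw [this]
    refine good_inv P ha ?_ (gammaSeries_neg_mul _)
    rw [coeff_gammaSeries, gamma_zero']

theorem gamma_mem_J (x : K) (hx : x ∈ lineSpan P) (hx0 : P.aug x = 0) (i : ℕ) :
    gamma i x ∈ J P i := by
  have := good_gammaSeries P x hx i
  rwa [coeff_gammaSeries, hx0, Int.cast_zero, sub_zero] at this

theorem prod_mem_J (l : List (ℕ × K)) (hl : ∀ p ∈ l, P.aug p.2 = 0)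
    (hl' : ∀ p ∈ l, p.2 ∈ lineSpan P) :
    (l.map fun p => gamma p.1 p.2).prod ∈ J P (l.map Prod.fst).sum := by
  induction l with
  | nil => simpa using one_mem_J0 P
  | cons p l ih =>
    simp only [List.map_cons, List.prod_cons, List.sum_cons]
    exact J_mul P (gamma_mem_J P p.2 (hl' p (by simp)) (hl p (by simp)) p.1)
      (ih (fun q hq => hl q (List.mem_cons_of_mem _ hq))
        (fun q hq => hl' q (List.mem_cons_of_mem _ hq)))

theorem det_eq_one_of_mem (z : K) (hz : z ∈ AddSubgroup.closure (gen2 P)) : det P z = 1 := by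
  induction hz using AddSubgroup.closure_induction with
  | mem z hz =>
    obtain ⟨c, a, b, hc, ha, hb, rfl⟩ := hz
    have e : c * (a - 1) * (b - 1) + (c * a + c * b) = c * a * b + c := by ring
    have h := congrArg (det P) e
    rw [det_add, det_add, det_add, det_of_isLine P _ (isLine_mul P hc ha),
      det_of_isLine P _ (isLine_mul P hc hb), det_of_isLine P _ (isLine_mul P (isLine_mul P hc ha) hb),
      det_of_isLine P _ hc] at h
    have hu : IsUnit (c * a * (c * b)) :=
      (isUnit_of_isLine P _ (isLine_mul P hc ha)).mul (isUnit_of_isLine P _ (isLine_mul P hc hb))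
    apply hu.mul_right_cancel
    rw [h]; ring
  | zero => exact det_zero P
  | add x y _ _ hx hy => rw [det_add, hx, hy, mul_one]
  | neg x _ hx =>
    have := det_neg_mul P x
    rwa [hx, mul_one] at this

end Jfil

section PartB
variable {K : Type v} [CommRing K] [LambdaOps K] (P : PosStructure K)

theorem map_gen2_mem {K' : Type v} [CommRing K'] [LambdaOps K'] {P' : PosStructure K'}
    {f : K →+* K'} (hf : IsExtension P P' f) (z : K) (hz : z ∈ AddSubgroup.closure (gen2 P)) :
    f z ∈ AddSubgroup.closure (gen2 P') := by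
  induction hz using AddSubgroup.closure_induction with
  | mem z hz =>
    obtain ⟨c, a, b, hc, ha, hb, rfl⟩ := hz
    refine AddSubgroup.subset_closure ⟨f c, f a, f b, isExtension_isLine hf hc,
      isExtension_isLine hf ha, isExtension_isLine hf hb, ?_⟩
    simp only [map_mul, map_sub, map_one]
  | zero => rw [map_zero]; exact AddSubgroup.zero_mem _
  | add x y _ _ hx hy => rw [map_add]; exact AddSubgroup.add_mem _ hx hy
  | neg x _ hx => rw [map_neg]; exact AddSubgroup.neg_mem _ hx

/-- after a suitable further extension of any given extension, `y` lands in `I²`. -/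
def Q (y : K) : Prop :=
  ∀ (L : PosLambdaRing.{v}) (f : K →+* L.carrier), IsExtension P L.posStr f →
    HasSplitting L.carrier L.posStr →
    ∃ (L' : PosLambdaRing.{v}) (f' : L.carrier →+* L'.carrier),
      IsExtension L.posStr L'.posStr f' ∧ HasSplitting L'.carrier L'.posStr ∧
        f' (f y) ∈ AddSubgroup.closure (gen2 L'.posStr)

theorem map_prod_gamma {K' : Type v} [CommRing K'] [LambdaOps K'] {g : K →+* K'}
    (hg : IsLambdaHom g) (l : List (ℕ × K)) :
    g (l.map fun p => gamma p.1 p.2).prod =
      ((l.map fun p => (p.1, g p.2)).map fun p => gamma p.1 p.2).prod := by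
  induction l with
  | nil => simp
  | cons p l ih =>
    simp only [List.map_cons, List.prod_cons, map_mul, ih, map_gamma hg]

theorem Q_of_mem (y : K) (hy : y ∈ gammaFiltration P 2) : Q P y := by
  rw [gammaFiltration_of_ne_zero P two_ne_zero] at hy
  induction hy using AddSubgroup.closure_induction with
  | mem y hy =>
    obtain ⟨l, hl, hsum, rfl⟩ := hy
    intro L f hf hL
    obtain ⟨L', f', hf', hL', h⟩ := exists_extension_lineSpan hL (l.map fun p => f p.2)
    refine ⟨L', f', hf', hL', ?_⟩
    have hcomp := isExtension_comp hf hf'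
    have hg : IsLambdaHom (f'.comp f) := hcomp.isLambdaHom
    have e := map_prod_gamma hg l
    rw [RingHom.comp_apply] at e
    rw [e]
    have hmem := prod_mem_J L'.posStr (l.map fun p => (p.1, (f'.comp f) p.2)) (by
      intro q hq
      obtain ⟨p, hp, rfl⟩ := List.mem_map.1 hq
      change L'.posStr.aug ((f'.comp f) p.2) = 0
      rw [hcomp.aug_comp]
      exact hl p hp) (by
      intro q hq
      obtain ⟨p, hp, rfl⟩ := List.mem_map.1 hq
      exact h (f p.2) (List.mem_map.2 ⟨p, hp, rfl⟩))
    have hs : ((l.map fun p => (p.1, (f'.comp f) p.2)).map Prod.fst).sum = (l.map Prod.fst).sum := by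
      rw [List.map_map]
      rfl
    rw [hs, J_two_le _ hsum] at hmem
    exact hmem
  | zero =>
    intro L f hf hL
    refine ⟨L, RingHom.id _, isExtension_refl _, hL, ?_⟩
    rw [map_zero, map_zero]
    exact AddSubgroup.zero_mem _
  | add a b _ _ ha hb =>
    intro L f hf hL
    obtain ⟨L1, f1, hf1, hL1, h1⟩ := ha L f hf hL
    obtain ⟨L2, f2, hf2, hL2, h2⟩ := hb L1 (f1.comp f) (isExtension_comp hf hf1) hL1
    refine ⟨L2, f2.comp f1, isExtension_comp hf1 hf2, hL2, ?_⟩
    rw [map_add, map_add]
    exact AddSubgroup.add_mem _ (map_gen2_mem L1.posStr hf2 _ h1) h2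
  | neg a _ ha =>
    intro L f hf hL
    obtain ⟨L1, f1, hf1, hL1, h1⟩ := ha L f hf hL
    refine ⟨L1, f1, hf1, hL1, ?_⟩
    rw [map_neg, map_neg]
    exact AddSubgroup.neg_mem _ h1

theorem partB (hK : HasSplitting K P) (u v : K) (hu : P.IsLine u) (hv : P.IsLine v)
    (h : u - v ∈ gammaFiltration P 2) : u = v := by
  obtain ⟨L', f', hf', -, hmem⟩ := Q_of_mem P (u - v) h ⟨K, P⟩ (RingHom.id K)
    (isExtension_refl P) hK
  rw [RingHom.id_apply] at hmem
  have hd := det_eq_one_of_mem L'.posStr _ hmem
  have e : f' u = f' (u - v) + f' v := by rw [← map_add]; congr 1; ring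
  have h2 := congrArg (det L'.posStr) e
  rw [det_add, hd, one_mul, det_of_isLine _ _ (isExtension_isLine hf' hu),
    det_of_isLine _ _ (isExtension_isLine hf' hv)] at h2
  exact hf'.injective h2

end PartB

/-- Let K be a λ-ring with positive structure having the splitting property, L its group of line
elements and F^n the γ-filtration. Assume moreover that the inverse of a line element is a line
element and that for a positive e with ε(e) = r the element det e = λ^r(e) is positive (hence a line
element); these are part of the published setting but are not implied by the axioms used here, so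
they are hypotheses. Then u ↦ u − 1 induces an isomorphism L ≅ Gr^1 K = F^1/F^2: every x ∈ F^1 is
congruent modulo F^2 to u − 1 for some line element u, and line elements u, v with u − v ∈ F^2 are
equal. -/
theorem result (K : Type v) [CommRing K] [LambdaRing.LambdaOps K] (P : LambdaRing.PosStructure K) (hK : LambdaRing.HasSplitting K P)
    (hLinv : ∀ w : K, P.IsLine w → ∃ w' : K, P.IsLine w' ∧ w * w' = 1)
    (hdet : ∀ e : K, e ∈ P.pos → LambdaRing.LambdaOps.lam (P.aug e).toNat e ∈ P.pos) :
    (∀ x : K, x ∈ LambdaRing.gammaFiltration P 1 → ∃ u : K, P.IsLine u ∧ x - (u - 1) ∈ LambdaRing.gammaFiltration P 2) ∧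
    ∀ u v : K, P.IsLine u → P.IsLine v → u - v ∈ LambdaRing.gammaFiltration P 2 → u = v := by
  exact ⟨fun x hx => partA P hLinv hdet x hx, fun u v hu hv h => partB P hK u v hu hv h⟩

end Groth.Agent.S3781
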