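import Groth.Statements.S3829
import Groth.Agent.Lib.R2LeadRegIdC
import Groth.Agent.Lib.R2LeadRegIdD
import Groth.Agent.Lib.H9KoszulH1
import Groth.Agent.S15821

set_option autoImplicit false
universe u
open CategoryTheory CategoryTheory.Limits AlgebraicGeometry TopologicalSpace
open Unram17

namespace Groth.Agent.S3829

/-- c) implies a) (case of a closed immersion): let f : X → S and h : Y → S be locally of finite
presentation, j : Y → X a closed immersion over S and y a point of Y. If h is smooth on a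
neighbourhood of y and, on some affine open neighbourhood of j(y) in X, the ideal of j is generated
by a regular sequence (j is a regular immersion near y), then f is smooth on an open neighbourhood
of j(y). -/
theorem result {X Y S : Scheme.{u}} (f : X ⟶ S) (h : Y ⟶ S)
    [LocallyOfFinitePresentation f] [LocallyOfFinitePresentation h] (j : Y ⟶ X) [IsClosedImmersion j]
    (hj : j ≫ f = h) (y : ↥Y) (hy : ∃ V : Y.Opens, y ∈ V ∧ Smooth (V.ι ≫ h))
    (hreg : ∃ (U : X.Opens) (hU : IsAffineOpen U), j y ∈ U ∧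
      ∃ rs : List Γ(X, U), RingTheory.Sequence.IsRegular Γ(X, U) rs ∧ j.ker.ideal ⟨U, hU⟩ = Ideal.ofList rs) :
    ∃ U : X.Opens, j y ∈ U ∧ Smooth (U.ι ≫ f) := by
  subst hj
  obtain ⟨V, hyV, hV⟩ := hy
  obtain ⟨U, hU, hzU, rs, hreg, hrs⟩ := hreg
  have hY : y ∈ (j ≫ f).smoothLocus := by
    have h1 : (V.ι ≫ j ≫ f).smoothLocus = ⊤ := Scheme.Hom.smoothLocus_eq_top_iff.mpr hV
    rw [← Scheme.Hom.preimage_smoothLocus_eq] at h1
    have h2 : (⟨y, hyV⟩ : ↥V) ∈ V.ι ⁻¹ᵁ (j ≫ f).smoothLocus := h1 ▸ trivial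
    exact h2
  obtain ⟨rs', hreg', hrs'⟩ :=
    Groth.Agent.Lib.R2LeadRegIdD.isRegularIdeal_ker_stalkMap j y U hU hzU rs hreg hrs
  have hH1 : CAlgX.IsH1Regular rs'.get :=
    Groth.Agent.Lib.H9KoszulH1.isH1Regular_of_isKoszulRegularSeq rs'
      (Groth.Agent.S15821.result _ rs' hreg'.toIsWeaklyRegular).1
  have hX : j y ∈ f.smoothLocus := by
    refine Groth.Agent.Lib.R2LeadRegIdC.mem_smoothLocus_of_h1Regular f j y hY rs'.get ?_ hH1
    rw [← hrs', Set.range_list_get]
  refine ⟨f.smoothLocus, hX, ?_⟩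
  rw [← Scheme.Hom.smoothLocus_eq_top_iff, ← Scheme.Hom.preimage_smoothLocus_eq,
    _root_.eq_top_iff]
  intro t _
  exact t.2

end Groth.Agent.S3829
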