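import Groth.Statements.S3872
import Mathlib
import Groth.Agent.S3869

set_option autoImplicit false
universe u
open FCompl

namespace Groth.Agent.S3872
open Groth.Agent.S3869

theorem complMap_of {S T : Type u} [CommRing S] [CommRing T] (I : Ideal S) (K : Ideal T)
    (g : S →+* T) (h : I.map g ≤ K) (s : S) :
    FSch.complMap I K g h (AdicCompletion.of I S s) = AdicCompletion.of K T (g s) := by
  apply AdicCompletion.ext_evalₐ
  intro n
  rw [evalₐ_complMap, AdicCompletion.evalₐ_of, AdicCompletion.evalₐ_of, Ideal.quotientMap_mk]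


/-- For a ring A, an ideal J and a prime ideal 𝔭 with J ⊆ 𝔭, let A{S⁻¹}, S = A ∖ 𝔭, be the completion of
A_𝔭 for the topology defined by the extension of J, and A_{S} the subring of A{S⁻¹} generated by the
images of the completed localizations A_{f}, f ∉ 𝔭 (the stalk ring of Spf(A) at 𝔭). Given that A_{S}
and A{S⁻¹} are local rings and that the inclusion A_{S} → A{S⁻¹} and the canonical map A_𝔭 → A{S⁻¹}
are local homomorphisms (all four are carried here as instance hypotheses; the two about A_{S} are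
stated separately), both maps induce bijections on residue fields; so the residue field of A_{S} is
the residue field κ(𝔭) of A_𝔭. -/
theorem result (A : Type u) [CommRing A] (J : Ideal A) (𝔭 : Ideal A)
    [𝔭.IsPrime] (hJ : J ≤ 𝔭) [IsLocalRing (FSch.stalkSubring A J 𝔭)] [IsLocalRing (FSch.cAtPrime A J 𝔭)]
    [IsLocalHom (FSch.stalkSubring A J 𝔭).subtype]
    [IsLocalHom (algebraMap (Localization.AtPrime 𝔭) (FSch.cAtPrime A J 𝔭))] :
    Function.Bijective (IsLocalRing.ResidueField.map (FSch.stalkSubring A J 𝔭).subtype) ∧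
      Function.Bijective
        (IsLocalRing.ResidueField.map (algebraMap (Localization.AtPrime 𝔭) (FSch.cAtPrime A J 𝔭))) := by
  have hne : (J.map (algebraMap A (Localization.AtPrime 𝔭))) ^ 1 ≠ ⊤ := by
    rw [pow_one]
    intro h
    have := Jp_le A J 𝔭 hJ
    rw [h, top_le_iff] at this
    exact (IsLocalRing.maximalIdeal.isMaximal _).ne_top this
  haveI : Nontrivial (Localization.AtPrime 𝔭 ⧸ (J.map (algebraMap A (Localization.AtPrime 𝔭))) ^ 1) :=
    Ideal.Quotient.nontrivial_iff.mpr hne
  have key : ∀ x : FSch.cAtPrime A J 𝔭, ∃ b : Localization.AtPrime 𝔭,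
      x - algebraMap (Localization.AtPrime 𝔭) (FSch.cAtPrime A J 𝔭) b ∈
        IsLocalRing.maximalIdeal (FSch.cAtPrime A J 𝔭) := by
    intro x
    obtain ⟨b, hb⟩ := Ideal.Quotient.mk_surjective
      (AdicCompletion.evalₐ (J.map (algebraMap A (Localization.AtPrime 𝔭))) 1 x)
    refine ⟨b, ?_⟩
    rw [IsLocalRing.mem_maximalIdeal, mem_nonunits_iff]
    intro hu
    have h1 : AdicCompletion.evalₐ (J.map (algebraMap A (Localization.AtPrime 𝔭))) 1
        (x - algebraMap (Localization.AtPrime 𝔭) (FSch.cAtPrime A J 𝔭) b) = 0 := by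
      rw [map_sub, AdicCompletion.algebraMap_apply, AdicCompletion.evalₐ_of, ← hb,
        Algebra.algebraMap_self, RingHom.id_apply, sub_self]
    have h2 := hu.map (AdicCompletion.evalₐ (J.map (algebraMap A (Localization.AtPrime 𝔭))) 1)
    rw [h1] at h2
    exact not_isUnit_zero h2
  have hmem : ∀ b : Localization.AtPrime 𝔭,
      algebraMap (Localization.AtPrime 𝔭) (FSch.cAtPrime A J 𝔭) b ∈ FSch.stalkSubring A J 𝔭 := by
    intro b
    obtain ⟨a, s, rfl⟩ := IsLocalization.exists_mk'_eq 𝔭.primeCompl b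
    rw [mem_stalkSubring_iff]
    refine ⟨s.1, s.2, AdicCompletion.of _ _ (IsLocalization.mk' (Localization.Away s.1) a
      (⟨s.1, Submonoid.mem_powers _⟩ : Submonoid.powers s.1)), ?_⟩
    unfold FSch.cAwayToAtPrime
    rw [complMap_of, AdicCompletion.algebraMap_apply, Algebra.algebraMap_self, RingHom.id_apply]
    congr 1
    rw [IsLocalization.eq_mk'_iff_mul_eq, ← awayToAtPrime_algebraMap A 𝔭 s.1 s.2 s.1, ← map_mul,
      IsLocalization.mk'_spec, awayToAtPrime_algebraMap]
  constructor
  · refine ⟨RingHom.injective _, ?_⟩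
    intro y
    obtain ⟨x, rfl⟩ := IsLocalRing.residue_surjective y
    obtain ⟨b, hb⟩ := key x
    refine ⟨IsLocalRing.residue _ ⟨_, hmem b⟩, ?_⟩
    rw [IsLocalRing.ResidueField.map_residue]
    symm
    rw [← sub_eq_zero, ← map_sub, IsLocalRing.residue_eq_zero_iff]
    exact hb
  · refine ⟨RingHom.injective _, ?_⟩
    intro y
    obtain ⟨x, rfl⟩ := IsLocalRing.residue_surjective y
    obtain ⟨b, hb⟩ := key x
    refine ⟨IsLocalRing.residue _ b, ?_⟩
    rw [IsLocalRing.ResidueField.map_residue]
    symm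
    rw [← sub_eq_zero, ← map_sub, IsLocalRing.residue_eq_zero_iff]
    exact hb


end Groth.Agent.S3872
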