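import Groth.Statements.S3874
import Mathlib

set_option autoImplicit false
universe u
open FCompl

namespace Groth.Agent.S3874

/-- The kernel of the projection of the completion to `P/I^n`. -/
lemma ker_evalₐ_eq_map_pow {P : Type u} [CommRing P] (I : Ideal P) (fg : I.FG) (n : ℕ) :
    RingHom.ker (AdicCompletion.evalₐ I n).toRingHom =
      (I.map (algebraMap P (AdicCompletion I P))) ^ n := by
  ext x
  have h : (I ^ n • ⊤ : Ideal P) = I ^ n := by ext y; simp
  have h1 : AdicCompletion.evalₐ I n x = 0 ↔ AdicCompletion.eval I P n x = 0 := by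
    constructor
    · intro hx
      apply (Ideal.quotientEquivAlgOfEq P h).injective
      rw [map_zero]
      exact hx
    · intro hx
      change (Ideal.quotientEquivAlgOfEq P h) (AdicCompletion.eval I P n x) = 0
      rw [hx, map_zero]
  rw [RingHom.mem_ker]
  change AdicCompletion.evalₐ I n x = 0 ↔ _
  rw [h1, ← LinearMap.mem_ker, ← AdicCompletion.pow_smul_top_eq_ker_eval fg, Ideal.smul_top_eq_map,
    Submodule.restrictScalars_mem, Ideal.map_pow]


/-- Let A be a Noetherian ring, J an ideal, f ∈ A and n ≥ 0, and let A_{f} be the completion of the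
localization A_f for the topology defined by the extension of J. There is a ring isomorphism from
the localization of A/J^(n+1) away from the class of f onto A_{f} modulo the (n+1)-st power of the
extension of J to A_{f}, compatible with the canonical maps from A (and hence unique). In terms of
formal spectra: the open D(f) of Spf(A) is Spf(A_{f}), and at level n its ring is the ring
(A/J^(n+1))_f of the open D(f) of Spec(A/J^(n+1)). -/
theorem result (A : Type u) [CommRing A] [IsNoetherianRing A] (J : Ideal A)
    (f : A) (n : ℕ) :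
    ∃ e : Localization.Away (Ideal.Quotient.mk (J ^ (n + 1)) f) ≃+*
        FSch.cAway A J f ⧸ (J.map (algebraMap A (FSch.cAway A J f))) ^ (n + 1),
      ∀ a : A, e (algebraMap (A ⧸ J ^ (n + 1)) _ (Ideal.Quotient.mk (J ^ (n + 1)) a)) =
        Ideal.Quotient.mk _ (algebraMap A (FSch.cAway A J f) a) := by
  have fg : (J.map (algebraMap A (Localization.Away f))).FG :=
    Ideal.FG.map (IsNoetherian.noetherian J) _
  have hker := ker_evalₐ_eq_map_pow (J.map (algebraMap A (Localization.Away f))) fg (n + 1)
  have hideal : (J.map (algebraMap A (FSch.cAway A J f))) ^ (n + 1) =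
      ((J.map (algebraMap A (Localization.Away f))).map
        (algebraMap (Localization.Away f) (FSch.cAway A J f))) ^ (n + 1) := by
    rw [Ideal.map_map]
    rfl
  let e2 : (FSch.cAway A J f ⧸ (J.map (algebraMap A (FSch.cAway A J f))) ^ (n + 1)) ≃+*
      Localization.Away f ⧸ (J.map (algebraMap A (Localization.Away f))) ^ (n + 1) :=
    (Ideal.quotEquivOfEq (hideal.trans hker.symm)).trans
      (RingHom.quotientKerEquivOfSurjective
        (AdicCompletion.surjective_evalₐ (J.map (algebraMap A (Localization.Away f))) (n + 1)))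
  haveI hloc : IsLocalization.Away (Ideal.Quotient.mk (J ^ (n + 1)) f)
      (Localization.Away f ⧸ (J ^ (n + 1)).map (algebraMap A (Localization.Away f))) := by
    have h1 : IsLocalization (Algebra.algebraMapSubmonoid (A ⧸ J ^ (n + 1)) (Submonoid.powers f))
        (Localization.Away f ⧸ (J ^ (n + 1)).map (algebraMap A (Localization.Away f))) :=
      inferInstance
    have h2 : Algebra.algebraMapSubmonoid (A ⧸ J ^ (n + 1)) (Submonoid.powers f) =
        Submonoid.powers (Ideal.Quotient.mk (J ^ (n + 1)) f) := by
      rw [Algebra.algebraMapSubmonoid, Submonoid.map_powers]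
      rfl
    rw [h2] at h1
    exact h1
  let e1 : Localization.Away (Ideal.Quotient.mk (J ^ (n + 1)) f) ≃ₐ[A ⧸ J ^ (n + 1)]
      (Localization.Away f ⧸ (J ^ (n + 1)).map (algebraMap A (Localization.Away f))) :=
    IsLocalization.algEquiv (Submonoid.powers (Ideal.Quotient.mk (J ^ (n + 1)) f)) _ _
  let e3 : (Localization.Away f ⧸ (J ^ (n + 1)).map (algebraMap A (Localization.Away f))) ≃+*
      Localization.Away f ⧸ (J.map (algebraMap A (Localization.Away f))) ^ (n + 1) :=
    Ideal.quotEquivOfEq (Ideal.map_pow _ _ _)
  refine ⟨(e1.toRingEquiv.trans e3).trans e2.symm, ?_⟩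
  intro a
  rw [RingEquiv.trans_apply, RingEquiv.trans_apply, RingEquiv.symm_apply_eq]
  have h1 : e1.toRingEquiv (algebraMap (A ⧸ J ^ (n + 1)) _ (Ideal.Quotient.mk (J ^ (n + 1)) a)) =
      Ideal.Quotient.mk _ (algebraMap A (Localization.Away f) a) := by
    change e1 (algebraMap (A ⧸ J ^ (n + 1)) _ (Ideal.Quotient.mk (J ^ (n + 1)) a)) = _
    rw [e1.commutes]
    rfl
  rw [h1]
  have h2 : e2 (Ideal.Quotient.mk _ (algebraMap A (FSch.cAway A J f) a)) =
      Ideal.Quotient.mk _ (algebraMap A (Localization.Away f) a) := by
    change AdicCompletion.evalₐ (J.map (algebraMap A (Localization.Away f))) (n + 1)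
      (AdicCompletion.of _ _ (algebraMap A (Localization.Away f) a)) = _
    rw [AdicCompletion.evalₐ_of]
  rw [h2]
  rfl


end Groth.Agent.S3874
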