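import Groth.Statements.S3888
import Groth.Agent.Lib.Helper8EtOpenPush
import Groth.Agent.Lib.Helper8EtSetClosed

set_option autoImplicit false
open CategoryTheory CategoryTheory.Limits AlgebraicGeometry Opposite
universe u
open EtDesc

namespace Groth.Agent.S3888

/-- Let f : X -> Y be an immersion of schemes. Then for every sheaf of sets F on the small etale site of
X the counit f^* f_* F -> F of the adjunction between inverse and direct image is an isomorphism. -/
theorem result {X Y : Scheme.{u}} (f : X ⟶ Y) [IsImmersion f] (F : EtDesc.Sh X) :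
    IsIso ((EtDesc.adjSh f).counit.app F) := by
  haveI h1 := Groth.Agent.Lib.Helper8EtSetClosed.full_pushSh f.liftCoborder
  haveI h2 := Groth.Agent.Lib.Helper8EtSetClosed.faithful_pushSh f.liftCoborder
  haveI h3 := Groth.Agent.Lib.Helper8EtOpenPush.full_pushSh f.coborderRange.ι
  haveI h4 := Groth.Agent.Lib.Helper8EtOpenPush.faithful_pushSh f.coborderRange.ι
  have e : EtDesc.pushSh f.liftCoborder ⋙ EtDesc.pushSh f.coborderRange.ι ≅
      EtDesc.pushSh (f.liftCoborder ≫ f.coborderRange.ι) :=
    EtDesc.pushCompSh f.coborderRange.ι f.liftCoborder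
  have hfull : (EtDesc.pushSh (f.liftCoborder ≫ f.coborderRange.ι)).Full := Functor.Full.of_iso e
  have hfaith : (EtDesc.pushSh (f.liftCoborder ≫ f.coborderRange.ι)).Faithful :=
    Functor.Faithful.of_iso e
  rw [f.liftCoborder_ι] at hfull hfaith
  haveI := hfull
  haveI := hfaith
  infer_instance

end Groth.Agent.S3888
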