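import Groth.Statements.S4087
import Mathlib
import Groth.Agent.Lib.H5bQSLift
import Groth.Agent.Lib.H5bGQThm

set_option autoImplicit false
universe u
open CategoryTheory MonoidalCategory CartesianMonoidalCategory MonObj GrpObj AlgebraicGeometry CategoryTheory.Limits
open GrpQ

namespace Groth.Agent.S4087

set_option linter.style.haveILetI false in
open Groth.Agent.Lib.H5bQS Groth.Agent.Lib.H5bRG in
theorem aux {S : Scheme.{u}} (G : Grpd.GroupoidScheme S)
    (U' : Scheme.{u}) (u : U' ⟶ G.U) [Mono u]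
    [IsFinite (σ G u)] [Flat (σ G u)] [LocallyOfFinitePresentation (σ G u)] [Surjective (σ G u)]
    (h2 : ∀ E : Set U', (∀ x ∈ E, ∀ y ∈ E, ∃ r : G.R, G.t.base r = u.base x ∧ G.s.base r = u.base y) →
      ∃ W : U'.Opens, IsAffineOpen W ∧ E ⊆ (W : Set U')) :
    ∃ (Y : Scheme.{u}) (p : G.U ⟶ Y) (w : G.t ≫ p = G.s ≫ p),
      Nonempty (IsColimit (Cofork.ofπ p w)) ∧ Surjective p ∧
      (IsOpenMap G.t.base → IsOpenMap p.base) ∧ (UniversallyClosed G.t → UniversallyClosed p) ∧
      Function.Surjective (pullback.lift G.t G.s w).base ∧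
      (Mono G.j → IsPullback G.t G.s p p ∧ (Flat G.t → Flat p)) := by
  have hcov := Groth.Agent.Lib.H5bGQ.hcov_of_orbit (res G u) (fun (x : U') => by
    obtain ⟨W, hW, hEW⟩ := h2 {y | ∃ r : R' G u, s' G u r = x ∧ t' G u r = y} (by
      rintro y₁ ⟨r₁, hs₁, ht₁⟩ y₂ ⟨r₂, hs₂, ht₂⟩
      have o1 : Orb G (u x) (u y₁) := by
        refine ⟨ιR G u r₁, ?_, ?_⟩
        · rw [← Scheme.Hom.comp_apply, ← hs, Scheme.Hom.comp_apply, hs₁]
        · rw [← Scheme.Hom.comp_apply, ← ht, Scheme.Hom.comp_apply, ht₁]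
      have o2 : Orb G (u x) (u y₂) := by
        refine ⟨ιR G u r₂, ?_, ?_⟩
        · rw [← Scheme.Hom.comp_apply, ← hs, Scheme.Hom.comp_apply, hs₂]
        · rw [← Scheme.Hom.comp_apply, ← ht, Scheme.Hom.comp_apply, ht₂]
      obtain ⟨r, hr1, hr2⟩ := o2.symm.trans o1
      exact ⟨r, hr2, hr1⟩)
    exact ⟨W, hW, fun r hr => hEW ⟨r, hr, rfl⟩⟩)
  obtain ⟨Y, (p' : U' ⟶ Y), (w' : t' G u ≫ p' = s' G u ≫ p'), huniv', (hint' : IsIntegralHom p'),
    (hsurj' : Surjective p'), (hopen' : IsOpenMap p'), -, hlift', -, hmono'⟩ :=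
    Groth.Agent.Lib.H5bGQ.main (res G u) hcov
  haveI := hint'
  haveI := hsurj'
  refine ⟨Y, pQ G u p' w', pQ_w G u p' w',
    Groth.Agent.Lib.H5bGQ.cofork_isColimit G.t G.s _ _
      (exists_unique_desc G u p' w' huniv'),
    surjective_pQ G u p' w', fun ht => isOpenMap_pQ G u p' w' hopen' ht,
    fun ht => by haveI := ht; exact universallyClosed_pQ G u p' w',
    surjective_jQ G u p' w' hlift', fun hj => ?_⟩
  haveI := hj
  haveI := mono_res_j G u
  obtain ⟨-, (hflat' : Flat p'), -, (hpb' : IsPullback (t' G u) (s' G u) p' p')⟩ :=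
    hmono' inferInstance
  exact ⟨isPullback_pQ G u p' w' hpb', fun ht => by
    haveI := ht
    haveI := hflat'
    exact flat_pQ G u p' w'⟩

/-- Let (U, R, s, t, c) be a groupoid scheme over S and u : U' → U an immersion which is a
quasi-section: writing V = R ×_{t, U} U' for the arrows with target in U', the morphism V → U
induced by s is finite locally free and surjective, and every subset of U' whose points are pairwise
equivalent (any two are the target and the source of one arrow) lies in an affine open of U'. Then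
(t, s) has a coequalizer p : U → Y in schemes; p is surjective, open if t is open, universally
closed if t is; R → U ×_Y U is surjective; and if j = (t, s) is a monomorphism, R ≅ U ×_Y U, and p
is flat when t is flat. -/
theorem result (S : Scheme.{u}) (G : Grpd.GroupoidScheme S)
    (U' : Scheme.{u}) (u : U' ⟶ G.U) [IsImmersion u]
    (h1 : Mor2.IsFinLocFree (pullback.fst G.t u ≫ G.s) ∧ Surjective (pullback.fst G.t u ≫ G.s))
    (h2 : ∀ E : Set U', (∀ x ∈ E, ∀ y ∈ E, ∃ r : G.R, G.t.base r = u.base x ∧ G.s.base r = u.base y) →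
      ∃ W : U'.Opens, IsAffineOpen W ∧ E ⊆ (W : Set U')) :
    ∃ (Y : Scheme.{u}) (p : G.U ⟶ Y) (w : G.t ≫ p = G.s ≫ p),
      Nonempty (IsColimit (Cofork.ofπ p w)) ∧ Surjective p ∧
      (IsOpenMap G.t.base → IsOpenMap p.base) ∧ (UniversallyClosed G.t → UniversallyClosed p) ∧
      Function.Surjective (pullback.lift G.t G.s w).base ∧
      (Mono G.j → IsPullback G.t G.s p p ∧ (Flat G.t → Flat p)) := by
  obtain ⟨⟨hfin, hflat, hlofp⟩, hsurj⟩ := h1
  haveI : Mono u := inferInstance
  haveI : IsFinite (Groth.Agent.Lib.H5bQS.σ G u) := hfin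
  haveI : Flat (Groth.Agent.Lib.H5bQS.σ G u) := hflat
  haveI : LocallyOfFinitePresentation (Groth.Agent.Lib.H5bQS.σ G u) := hlofp
  haveI : Surjective (Groth.Agent.Lib.H5bQS.σ G u) := hsurj
  exact aux G U' u h2

end Groth.Agent.S4087
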