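import Groth.Statements.S4363
import Groth.Agent.Lib.Helper23SepCover

set_option autoImplicit false
universe u v
open RedSep

section AuxSec
open CategoryTheory CategoryTheory.Limits AlgebraicGeometry TopologicalSpace Opposite

namespace Groth.Agent.S4363.Aux

/-- In a pushout square of commutative rings, the two legs generate the pushout as a ring. -/
lemma closure_eq_top_of_isPushout {A B C P : CommRingCat.{u}} {f : A ⟶ B} {g : A ⟶ C}
    {inl : B ⟶ P} {inr : C ⟶ P} (h : IsPushout f g inl inr) :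
    Subring.closure (Set.range inl.hom ∪ Set.range inr.hom) = ⊤ := by
  set S : Subring P := Subring.closure (Set.range inl.hom ∪ Set.range inr.hom) with hS
  let inl' : B ⟶ CommRingCat.of S := CommRingCat.ofHom
    (inl.hom.codRestrict S (fun b => Subring.subset_closure (Or.inl ⟨b, rfl⟩)))
  let inr' : C ⟶ CommRingCat.of S := CommRingCat.ofHom
    (inr.hom.codRestrict S (fun c => Subring.subset_closure (Or.inr ⟨c, rfl⟩)))
  let incl : CommRingCat.of S ⟶ P := CommRingCat.ofHom S.subtype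
  have hl : inl' ≫ incl = inl := by ext b; rfl
  have hr : inr' ≫ incl = inr := by ext c; rfl
  have hw : f ≫ inl' = g ≫ inr' := by
    ext a
    have := congrArg (fun φ => φ.hom a) h.w
    exact this
  let d : P ⟶ CommRingCat.of S := h.desc inl' inr' hw
  have hd : d ≫ incl = 𝟙 P := by
    apply h.hom_ext
    · rw [← Category.assoc, h.inl_desc, hl, Category.comp_id]
    · rw [← Category.assoc, h.inr_desc, hr, Category.comp_id]
  rw [eq_top_iff]
  intro z _
  have := congrArg (fun φ => φ.hom z) hd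
  simp only [CommRingCat.hom_comp, CommRingCat.hom_id, RingHom.coe_comp, Function.comp_apply,
    RingHom.id_apply] at this
  rw [← this]
  exact (d.hom z).2

lemma isIso_appLE_of_opensRange {P X : Scheme.{u}} (g : P ⟶ X) [IsOpenImmersion g]
    (W : X.Opens) (hW : W ≤ g.opensRange) (e : ⊤ ≤ g ⁻¹ᵁ W) :
    IsIso (g.appLE W ⊤ e) := by
  have h1 : IsIso (g.app W) := Scheme.Hom.isIso_app g W hW
  have h2 : IsIso (homOfLE e) :=
    ⟨homOfLE le_top, Subsingleton.elim _ _, Subsingleton.elim _ _⟩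
  rw [Scheme.Hom.appLE]
  infer_instance

/-- the image of a restricted section under `g.appLE` is in the range of `h.appTop`, where `g = h ≫ ι`. -/
lemma appLE_res_eq {P V X : Scheme.{u}} (h : P ⟶ V) (ι : V ⟶ X)
    (g : P ⟶ X) (hg : g = h ≫ ι) (U' U'' : X.Opens) (hle : U' ≤ U'')
    (e : ⊤ ≤ g ⁻¹ᵁ U') (e₁ : ⊤ ≤ ι ⁻¹ᵁ U'') (a : Γ(X, U'')) :
    (g.appLE U' ⊤ e).hom ((X.presheaf.map (homOfLE hle).op).hom a) =
      h.appTop.hom ((ι.appLE U'' ⊤ e₁).hom a) := by
  subst hg
  rw [← CommRingCat.comp_apply, ← CommRingCat.comp_apply, Scheme.Hom.map_appLE]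
  have e2 : (⊤ : P.Opens) ≤ h ⁻¹ᵁ ⊤ := le_rfl
  rw [← Scheme.Hom.appLE_comp_appLE h ι U'' ⊤ ⊤ e₁ e2]
  have e3 : Scheme.Hom.appLE h ⊤ ⊤ e2 = Scheme.Hom.appTop h :=
    Scheme.Hom.appLE_eq_app h (U := ⊤)
  rw [e3]

set_option backward.defeqAttrib.useBackward true in
set_option backward.isDefEq.respectTransparency false in
theorem gen_of_isSeparated {X : Scheme.{u}} [X.IsSeparated] (U₁ U₂ : X.Opens)
    (h₁ : IsAffineOpen U₁) (h₂ : IsAffineOpen U₂) :
    Subring.closure (Set.range (X.presheaf.map (homOfLE (inf_le_left : U₁ ⊓ U₂ ≤ U₁)).op).hom ∪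
        Set.range (X.presheaf.map (homOfLE (inf_le_right : U₁ ⊓ U₂ ≤ U₂)).op).hom) = ⊤ := by
  let := HasAffineProperty.isLocal_affineProperty @IsClosedImmersion.{u}
  have hsep : IsSeparated (Limits.terminal.from X) := inferInstance
  rw [IsSeparated.isSeparated_eq_diagonal_isClosedImmersion] at hsep
  rw [HasAffineProperty.iff_of_isAffine (P := MorphismProperty.diagonal @IsClosedImmersion.{u})]
    at hsep
  have : IsAffine U₁.toScheme := h₁
  have : IsAffine U₂.toScheme := h₂
  obtain ⟨-, hsurj⟩ := hsep U₁.ι U₂.ι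
  -- the pushout
  have hpo := isPushout_appTop_of_isPullback
    (IsPullback.of_hasPullback (U₁.ι ≫ Limits.terminal.from X) (U₂.ι ≫ Limits.terminal.from X))
  have hgen := closure_eq_top_of_isPushout hpo
  obtain ⟨g, hg⟩ : ∃ g, g = pullback.fst U₁.ι U₂.ι ≫ U₁.ι := ⟨_, rfl⟩
  have hg' : g = pullback.snd U₁.ι U₂.ι ≫ U₂.ι := by rw [hg, pullback.condition]
  have : IsOpenImmersion g := by rw [hg]; infer_instance
  have hr : g.opensRange = U₁ ⊓ U₂ := by
    ext1
    simp only [Scheme.Hom.coe_opensRange, hg]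
    rw [IsOpenImmersion.range_pullback_to_base_of_left]
    simp
  have e : (⊤ : Scheme.Opens _) ≤ g ⁻¹ᵁ (U₁ ⊓ U₂) := by
    rw [← hr]; simp
  have hiso := isIso_appLE_of_opensRange g (U₁ ⊓ U₂) hr.ge e
  have hinj : Function.Injective (g.appLE (U₁ ⊓ U₂) ⊤ e).hom :=
    (ConcreteCategory.bijective_of_isIso (g.appLE (U₁ ⊓ U₂) ⊤ e)).1
  rw [eq_top_iff]
  intro w _
  obtain ⟨w', hw'⟩ := hsurj ((g.appLE (U₁ ⊓ U₂) ⊤ e).hom w)
  have hw'mem : w' ∈ Subring.closure
      (Set.range (pullback.fst (U₁.ι ≫ Limits.terminal.from X) (U₂.ι ≫ Limits.terminal.from X)).appTop.hom ∪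
        Set.range (pullback.snd (U₁.ι ≫ Limits.terminal.from X) (U₂.ι ≫ Limits.terminal.from X)).appTop.hom) := by
    rw [hgen]; trivial
  have e₁ : (⊤ : U₁.toScheme.Opens) ≤ U₁.ι ⁻¹ᵁ U₁ := by simp
  have e₂ : (⊤ : U₂.toScheme.Opens) ≤ U₂.ι ⁻¹ᵁ U₂ := by simp
  have hs₁ : Function.Surjective (U₁.ι.appLE U₁ ⊤ e₁).hom := by
    have := isIso_appLE_of_opensRange U₁.ι U₁ (by simp) e₁
    exact (ConcreteCategory.bijective_of_isIso (U₁.ι.appLE U₁ ⊤ e₁)).2
  have hs₂ : Function.Surjective (U₂.ι.appLE U₂ ⊤ e₂).hom := by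
    have := isIso_appLE_of_opensRange U₂.ι U₂ (by simp) e₂
    exact (ConcreteCategory.bijective_of_isIso (U₂.ι.appLE U₂ ⊤ e₂)).2
  have hd₁ : pullback.mapDesc U₁.ι U₂.ι (Limits.terminal.from X) ≫
      pullback.fst (U₁.ι ≫ Limits.terminal.from X) (U₂.ι ≫ Limits.terminal.from X) = pullback.fst U₁.ι U₂.ι := by
    simp
  have hd₂ : pullback.mapDesc U₁.ι U₂.ι (Limits.terminal.from X) ≫
      pullback.snd (U₁.ι ≫ Limits.terminal.from X) (U₂.ι ≫ Limits.terminal.from X) = pullback.snd U₁.ι U₂.ι := by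
    simp
  have hle : Subring.closure
      (Set.range (pullback.fst (U₁.ι ≫ Limits.terminal.from X) (U₂.ι ≫ Limits.terminal.from X)).appTop.hom ∪
        Set.range (pullback.snd (U₁.ι ≫ Limits.terminal.from X) (U₂.ι ≫ Limits.terminal.from X)).appTop.hom) ≤
      ((Subring.closure
        (Set.range (X.presheaf.map (homOfLE (inf_le_left : U₁ ⊓ U₂ ≤ U₁)).op).hom ∪
        Set.range (X.presheaf.map (homOfLE (inf_le_right : U₁ ⊓ U₂ ≤ U₂)).op).hom)).map
          (g.appLE (U₁ ⊓ U₂) ⊤ e).hom).comap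
        (pullback.mapDesc U₁.ι U₂.ι (Limits.terminal.from X)).appTop.hom := by
    rw [Subring.closure_le]
    rintro _ (⟨a, rfl⟩ | ⟨a, rfl⟩)
    · obtain ⟨a', rfl⟩ := hs₁ a
      refine Subring.mem_map.mpr ⟨_, Subring.subset_closure (Or.inl ⟨a', rfl⟩), ?_⟩
      rw [appLE_res_eq (pullback.fst U₁.ι U₂.ι) U₁.ι g hg _ _ inf_le_left e e₁ a']
      rw [← hd₁, Scheme.Hom.comp_appTop]
      rfl
    · obtain ⟨a', rfl⟩ := hs₂ a
      refine Subring.mem_map.mpr ⟨_, Subring.subset_closure (Or.inr ⟨a', rfl⟩), ?_⟩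
      rw [appLE_res_eq (pullback.snd U₁.ι U₂.ι) U₂.ι g hg' _ _ inf_le_right e e₂ a']
      rw [← hd₂, Scheme.Hom.comp_appTop]
      rfl
  have hmem := hle hw'mem
  rw [Subring.mem_comap, hw'] at hmem
  obtain ⟨s, hs, hsw⟩ := Subring.mem_map.mp hmem
  rwa [← hinj hsw]

end Groth.Agent.S4363.Aux

end AuxSec

namespace Groth.Agent.S4363

open AlgebraicGeometry in
open CategoryTheory in
/-- Let Y be an affine scheme, f : X -> Y a morphism and (U i) a cover of X by affine open subschemes.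
Then f is separated if and only if, for every pair of indices i, j, the intersection of U i and U j
is an affine open and its ring of sections is generated, as a ring, by the images of the rings of
sections of U i and of U j under the restriction maps. -/
theorem result
    {X Y : Scheme.{u}} [IsAffine Y] (f : X ⟶ Y) {ι : Type v} (U : ι → X.Opens)
    (hU : ∀ i, IsAffineOpen (U i)) (hcov : ⨆ i, U i = ⊤) :
    IsSeparated f ↔ ∀ i j, IsAffineOpen (U i ⊓ U j) ∧
      Subring.closure (Set.range (X.presheaf.map (homOfLE (inf_le_left : U i ⊓ U j ≤ U i)).op).hom ∪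
        Set.range (X.presheaf.map (homOfLE (inf_le_right : U i ⊓ U j ≤ U j)).op).hom) = ⊤ := by
  have hY : IsSeparated (Limits.terminal.from Y) := inferInstance
  have hfac : Limits.terminal.from X = f ≫ Limits.terminal.from Y := Subsingleton.elim _ _
  constructor
  · intro hf
    have hX : X.IsSeparated := by
      rw [Scheme.isSeparated_iff, hfac]
      infer_instance
    have : IsAffineHom (Limits.pullback.diagonal (Limits.terminal.from X)) := inferInstance
    intro i j
    exact ⟨(hU i).inf (hU j), Groth.Agent.S4363.Aux.gen_of_isSeparated (U i) (U j) (hU i) (hU j)⟩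
  · intro h
    have hX : X.IsSeparated :=
      Groth.Agent.Lib.Helper23.SepCover.isSeparated_of_isOpenCover U hcov hU
        (fun i j => (h i j).1) (fun i j => (h i j).2)
    rw [Scheme.isSeparated_iff, hfac] at hX
    exact IsSeparated.of_comp f (Limits.terminal.from Y)

end Groth.Agent.S4363
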