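import Groth.Statements.S4365
import Mathlib

set_option autoImplicit false
universe u
open FinCond

set_option linter.style.haveILetI false

namespace Groth.Agent.S4365.Aux

open Cardinal CategoryTheory CategoryTheory.Limits AlgebraicGeometry IsLocalRing TopologicalSpace

/-- A field extension of finite transcendence degree embeds in any algebraically closed extension
containing an infinite algebraically independent family. -/
theorem nonempty_algHom_of_trdeg_lt_aleph0 (K L Ω : Type u) [Field K] [Field L] [Field Ω]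
    [Algebra K L] [Algebra K Ω] [IsAlgClosed Ω] (t : ℕ → Ω) (ht : AlgebraicIndependent K t)
    (hL : Algebra.trdeg K L < ℵ₀) : Nonempty (L →ₐ[K] Ω) := by
  obtain ⟨s, hs⟩ := exists_isTranscendenceBasis K L
  have hcard : #s < ℵ₀ := by
    rw [hs.cardinalMk_eq_trdeg]; exact hL
  haveI : Finite s := Cardinal.lt_aleph0_iff_finite.mp hcard
  obtain ⟨e, he⟩ := Countable.exists_injective_nat s
  have hy : AlgebraicIndependent K (t ∘ e) := ht.comp e he
  let φ₁ := hs.1.aevalEquivField
  let φ₂ := hy.aevalEquivField
  let φ₀ : IntermediateField.adjoin K (Set.range ((↑) : s → L)) →ₐ[K] Ω :=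
    (IntermediateField.adjoin K (Set.range (t ∘ e))).val.comp (φ₁.symm.trans φ₂).toAlgHom
  haveI := hs.isAlgebraic_field
  letI : Algebra (IntermediateField.adjoin K (Set.range ((↑) : s → L))) Ω := φ₀.toRingHom.toAlgebra
  haveI : IsScalarTower K (IntermediateField.adjoin K (Set.range ((↑) : s → L))) Ω :=
    IsScalarTower.of_algebraMap_eq fun a => (φ₀.commutes a).symm
  let ψ : L →ₐ[IntermediateField.adjoin K (Set.range ((↑) : s → L))] Ω := IsAlgClosed.lift
  exact ⟨ψ.restrictScalars K⟩

/-- a field extension essentially of finite type has finite transcendence degree -/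
theorem trdeg_lt_aleph0_of_essFiniteType (K L : Type u) [Field K] [Field L] [Algebra K L]
    [Algebra.EssFiniteType K L] : Algebra.trdeg K L < ℵ₀ := by
  let S₀ := Algebra.EssFiniteType.subalgebra K L
  have h1 : Algebra.trdeg K S₀ < ℵ₀ := trdeg_lt_aleph0_of_finiteType
  haveI : IsLocalization (Algebra.EssFiniteType.submonoid K L) L := inferInstance
  have halg : Algebra.IsAlgebraic S₀ L := by
    refine ⟨fun x => ?_⟩
    obtain ⟨⟨a, m⟩, ham⟩ := IsLocalization.surj (Algebra.EssFiniteType.submonoid K L) x
    have hm : (m : S₀) ≠ 0 := by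
      intro h0
      have hu : IsUnit (algebraMap S₀ L m) := IsLocalization.map_units L m
      rw [h0, map_zero] at hu
      exact not_isUnit_zero hu
    refine ⟨Polynomial.C (m : S₀) * Polynomial.X - Polynomial.C a, ?_, ?_⟩
    · intro h
      have := congrArg (fun p => Polynomial.coeff p 1) h
      simp at this
      exact hm this
    · simp only [map_sub, map_mul, Polynomial.aeval_C, Polynomial.aeval_X]
      rw [mul_comm, sub_eq_zero]
      exact ham
  have h2 : Algebra.trdeg S₀ L = 0 := trdeg_eq_zero
  have h3 := trdeg_add_eq K S₀ (A := L)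
  rw [h2, add_zero] at h3
  rw [← h3]
  exact h1

lemma fromSpecResidueField_eq {X : Scheme.{u}} {U : X.Opens} (hU : IsAffineOpen U) (ξ : X)
    (hξ : ξ ∈ U) :
    X.fromSpecResidueField ξ = Spec.map (X.evaluation U ξ hξ) ≫ hU.fromSpec := by
  rw [Scheme.fromSpecResidueField, ← hU.fromSpecStalk_eq_fromSpecStalk hξ,
    IsAffineOpen.fromSpecStalk, ← Spec.map_comp_assoc]
  rfl

lemma essFiniteType_evaluation {X : Scheme.{u}} {U : X.Opens} (hU : IsAffineOpen U) (ξ : X)
    (hξ : ξ ∈ U) : (X.evaluation U ξ hξ).hom.EssFiniteType := by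
  have h0 : X.evaluation U ξ hξ = X.presheaf.germ U ξ hξ ≫ X.residue ξ := rfl
  rw [h0, CommRingCat.hom_comp]
  refine RingHom.EssFiniteType.comp ?_
    (RingHom.FiniteType.of_surjective _ (X.residue_surjective ξ)).essFiniteType
  have := hU.isLocalization_stalk ⟨ξ, hξ⟩
  let _ := X.presheaf.algebra_section_stalk (U := U) ⟨ξ, hξ⟩
  have h2 : Algebra.EssFiniteType Γ(X, U) (X.presheaf.stalk ξ) :=
    Algebra.EssFiniteType.of_isLocalization _ (hU.primeIdealOf ⟨ξ, hξ⟩).asIdeal.primeCompl
  exact h2

/-- points with values in an algebraically closed field lift along surjective morphisms locally of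
finite type -/
theorem exists_lift_point {K : Type u} [Field K] [IsAlgClosed K] {G Y : Scheme.{u}} (π : G ⟶ Y)
    [LocallyOfFiniteType π] [Surjective π] (y : Spec (CommRingCat.of K) ⟶ Y) :
    ∃ g : Spec (CommRingCat.of K) ⟶ G, g ≫ π = y := by
  have h1 : LocallyOfFiniteType (pullback.snd π y) := inferInstance
  have h2 : Surjective (pullback.snd π y) := inferInstance
  have := LocallyOfFiniteType.jacobsonSpace (pullback.snd π y)
  have hne : (Set.univ : Set ↥(pullback π y)).Nonempty := by
    obtain ⟨z, -⟩ := (pullback.snd π y).surjective (IsLocalRing.closedPoint K)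
    exact ⟨z, trivial⟩
  obtain ⟨x, -, hxc⟩ := nonempty_inter_closedPoints hne isClosed_univ.isLocallyClosed
  refine ⟨pointOfClosedPoint (pullback.snd π y) x hxc ≫ pullback.fst π y, ?_⟩
  rw [Category.assoc, pullback.condition, pointOfClosedPoint_comp_assoc]

/-- every point of a scheme locally of finite type over `K` is the image of an `Ω`-point over `K` -/
theorem exists_point_through (K Ω : Type u) [Field K] [Field Ω] [IsAlgClosed Ω] [Algebra K Ω]
    (t : ℕ → Ω) (ht : AlgebraicIndependent K t)
    {Y : Scheme.{u}} (pY : Y ⟶ Spec (CommRingCat.of K)) [LocallyOfFiniteType pY] (y₀ : Y) :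
    ∃ y : Spec (CommRingCat.of Ω) ⟶ Y,
      y ≫ pY = Spec.map (CommRingCat.ofHom (algebraMap K Ω)) ∧ ∀ z, y z = y₀ := by
  obtain ⟨_, ⟨W, hW, rfl⟩, hyW, -⟩ :=
    Y.isBasis_affineOpens.exists_subset_of_mem_open (Set.mem_univ y₀) isOpen_univ
  have hWle : W ≤ pY ⁻¹ᵁ ⊤ := le_top
  have hft : (pY.appLE ⊤ W hWle).hom.FiniteType :=
    pY.finiteType_appLE (isAffineOpen_top _) hW hWle
  have hev := essFiniteType_evaluation hW y₀ hyW
  -- the structure map `K → κ(y₀)`
  let ψ : CommRingCat.of K ⟶ Y.residueField y₀ :=
    (Scheme.ΓSpecIso (CommRingCat.of K)).inv ≫ pY.appLE ⊤ W hWle ≫ Y.evaluation W y₀ hyW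
  have hψ : Spec.map ψ = Y.fromSpecResidueField y₀ ≫ pY := by
    rw [fromSpecResidueField_eq hW y₀ hyW, Category.assoc,
      ← IsAffineOpen.SpecMap_appLE_fromSpec pY (isAffineOpen_top _) hW hWle,
      IsAffineOpen.fromSpec_top, Scheme.isoSpec_Spec_inv]
    simp only [ψ, Spec.map_comp, Category.assoc]
  have hψe : ψ.hom.EssFiniteType := by
    simp only [ψ, CommRingCat.hom_comp]
    refine RingHom.EssFiniteType.comp ?_ (RingHom.EssFiniteType.comp hft.essFiniteType hev)
    exact (RingHom.FiniteType.of_surjective _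
      (ConcreteCategory.bijective_of_isIso (Scheme.ΓSpecIso (CommRingCat.of K)).inv).2).essFiniteType
  letI : Algebra K (Y.residueField y₀) := ψ.hom.toAlgebra
  haveI : Algebra.EssFiniteType K (Y.residueField y₀) := hψe
  obtain ⟨σ⟩ := nonempty_algHom_of_trdeg_lt_aleph0 K (Y.residueField y₀) Ω t ht
    (trdeg_lt_aleph0_of_essFiniteType K (Y.residueField y₀))
  refine ⟨Spec.map (CommRingCat.ofHom σ.toRingHom) ≫ Y.fromSpecResidueField y₀, ?_, ?_⟩
  · rw [Category.assoc, ← hψ, ← Spec.map_comp]
    congr 1
    ext a
    exact σ.commutes a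
  · intro z
    rw [Scheme.Hom.comp_apply, Scheme.fromSpecResidueField_apply]

end Groth.Agent.S4365.Aux


namespace Groth.Agent.S4365

open AlgebraicGeometry in
open CategoryTheory in
/-- Let K be a field, X and Y schemes locally of finite type over K, f : X -> Y a K-morphism and Ω an
algebraically closed extension field of K of infinite transcendence degree over K (there is an
algebraically independent sequence in Ω). Then f is surjective if and only if the map it induces
from the K-points of X with values in Ω to those of Y is surjective, i.e. every K-morphism Spec Ω ->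
Y factors through f. (The published proposition assumes X and Y of finite type over K, and a later
remark of the same text extends it to X and Y locally of finite type over K, the form stated here.) -/
theorem result
    (K Ω : Type u) [Field K] [Field Ω] [IsAlgClosed Ω] [Algebra K Ω]
    (t : ℕ → Ω) (ht : AlgebraicIndependent K t)
    {X Y : Scheme.{u}} (pX : X ⟶ Spec (CommRingCat.of K)) (pY : Y ⟶ Spec (CommRingCat.of K))
    [LocallyOfFiniteType pX] [LocallyOfFiniteType pY] (f : X ⟶ Y) (hf : f ≫ pY = pX) :
    Surjective f ↔ ∀ y : Spec (CommRingCat.of Ω) ⟶ Y,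
      y ≫ pY = Spec.map (CommRingCat.ofHom (algebraMap K Ω)) →
        ∃ x : Spec (CommRingCat.of Ω) ⟶ X, x ≫ f = y := by
  constructor
  · intro hsurj y _
    haveI : LocallyOfFiniteType (f ≫ pY) := by rw [hf]; infer_instance
    haveI : LocallyOfFiniteType f := locallyOfFiniteType_of_comp f pY
    exact Groth.Agent.S4365.Aux.exists_lift_point f y
  · intro h
    refine ⟨fun y₀ => ?_⟩
    obtain ⟨y, hy, hy0⟩ := Groth.Agent.S4365.Aux.exists_point_through K Ω t ht pY y₀
    obtain ⟨x, hx⟩ := h y hy
    refine ⟨x (IsLocalRing.closedPoint Ω), ?_⟩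
    rw [← Scheme.Hom.comp_apply, hx]
    exact hy0 _

end Groth.Agent.S4365
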