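import Groth.Statements.S4416
import Groth.Agent.Lib.R2LeadChow2
import Groth.Agent.Lib.R2LeadProjProper

set_option autoImplicit false
universe u
open CategoryTheory CategoryTheory.Limits AlgebraicGeometry
open EGA2

namespace Groth.Agent.S4416

/-- Let r : X → S be separated of finite type, and assume either S Noetherian, or S quasi-compact and
separated with X having finitely many irreducible components. Then r is proper if and only if there
are a scheme X' and a surjective morphism f : X' → X with f ≫ r projective. Moreover, when r is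
proper, f can be chosen so that in addition there is a dense open U of X with f⁻¹(U) dense in X'
over which f is an isomorphism, and with X' irreducible (resp. reduced) if X is. (The published
statement also remarks that f is then projective; that is not stated here.) -/
theorem result {X S : Scheme.{u}} (r : X ⟶ S) [IsSeparated r] [LocallyOfFiniteType r] [QuasiCompact r]
    (h : IsNoetherian S ∨ (CompactSpace S ∧ S.IsSeparated ∧ (irreducibleComponents X).Finite)) :
    (IsProper r ↔ ∃ (X' : Scheme.{u}) (f : X' ⟶ X), Surjective f ∧ RelProj.IsProjective (f ≫ r)) ∧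
    (IsProper r → ∃ (X' : Scheme.{u}) (f : X' ⟶ X), Surjective f ∧ RelProj.IsProjective (f ≫ r) ∧
        (∃ U : X.Opens, Dense (U : Set X) ∧ Dense ((f ⁻¹ᵁ U : X'.Opens) : Set X') ∧ IsIso (f ∣_ U)) ∧
        (IrreducibleSpace X → IrreducibleSpace X') ∧ (IsReduced X → IsReduced X')) := by
  have key : ∀ [CompactSpace S] [QuasiSeparatedSpace S],
      (irreducibleComponents (X : Type u)).Finite → IsProper r →
      ∃ (X' : Scheme.{u}) (f : X' ⟶ X), Surjective f ∧ RelProj.IsProjective (f ≫ r) ∧
        (∃ U : X.Opens, Dense (U : Set X) ∧ Dense ((f ⁻¹ᵁ U : X'.Opens) : Set X') ∧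
          IsIso (f ∣_ U)) ∧
        (IrreducibleSpace X → IrreducibleSpace X') ∧ (IsReduced X → IsReduced X') := by
    intro _ _ hirr hr
    obtain ⟨n, X', f, j, hj, hjf, hf, -, -, hs, hU, hred, hir, -⟩ :=
      Groth.Agent.Lib.R2LeadChow2.chow_projective r hirr
    haveI : IsProper (f ≫ r) := inferInstance
    have hci : IsClosedImmersion j :=
      Groth.Agent.Lib.R2H3.QProj.isClosedImmersion_of_isProper (f ≫ r) n j hjf
    exact ⟨X', f, hs, Groth.Agent.S9717.result (f ≫ r) ⟨n, j, hci, hjf⟩, hU, hir, hred⟩
  have hqcqs : CompactSpace S ∧ QuasiSeparatedSpace S ∧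
      (irreducibleComponents (X : Type u)).Finite := by
    rcases h with h | ⟨h1, h2, h3⟩
    · haveI : IsLocallyNoetherian X := LocallyOfFiniteType.isLocallyNoetherian r
      haveI : CompactSpace X := QuasiCompact.compactSpace_of_compactSpace r
      haveI : IsNoetherian X := {}
      exact ⟨inferInstance, inferInstance,
        TopologicalSpace.NoetherianSpace.finite_irreducibleComponents⟩
    · haveI := h2
      exact ⟨h1, inferInstance, h3⟩
  obtain ⟨hc, hq, hirr⟩ := hqcqs
  have second : IsProper r → ∃ (X' : Scheme.{u}) (f : X' ⟶ X), Surjective f ∧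
      RelProj.IsProjective (f ≫ r) ∧
      (∃ U : X.Opens, Dense (U : Set X) ∧ Dense ((f ⁻¹ᵁ U : X'.Opens) : Set X') ∧
        IsIso (f ∣_ U)) ∧
      (IrreducibleSpace X → IrreducibleSpace X') ∧ (IsReduced X → IsReduced X') :=
    fun hr => key hirr hr
  refine ⟨⟨fun hr => ?_, ?_⟩, second⟩
  · obtain ⟨X', f, hs, hp, -⟩ := second hr
    exact ⟨X', f, hs, hp⟩
  · rintro ⟨X', f, hs, hp⟩
    haveI : IsProper (f ≫ r) := Groth.Agent.Lib.R2LeadProjProper.isProper_of_isProjective _ hp
    haveI : UniversallyClosed r := UniversallyClosed.of_comp_surjective f r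
    exact {}

end Groth.Agent.S4416
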