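import Groth.Statements.S4432
import Mathlib

set_option autoImplicit false
universe u
open EGA2

namespace Groth.Agent.S4432

namespace Aux

open Polynomial

/-- every element of `K ⊗ E` is `(1/s) ⊗ e`. -/
theorem exists_smul_eq_tmul {A : Type u} [CommRing A] {E : Type u} [AddCommGroup E] [Module A E]
    (x : TensorProduct A (FractionRing A) E) :
    ∃ (s : nonZeroDivisors A) (e : E), (s : A) • x = (1 : FractionRing A) ⊗ₜ[A] e := by
  induction x using TensorProduct.induction_on with
  | zero => exact ⟨1, 0, by simp⟩
  | tmul k e =>
    obtain ⟨⟨a, s⟩, h⟩ := IsLocalization.surj (nonZeroDivisors A) k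
    refine ⟨s, a • e, ?_⟩
    have h' : (s : A) • k = a • (1 : FractionRing A) := by
      rw [Algebra.smul_def, mul_comm, h, Algebra.algebraMap_eq_smul_one]
    rw [TensorProduct.smul_tmul', h', TensorProduct.smul_tmul]
  | add x y hx hy =>
    obtain ⟨s, e, h1⟩ := hx
    obtain ⟨t, f, h2⟩ := hy
    refine ⟨s * t, (t : A) • e + (s : A) • f, ?_⟩
    have e1 : ((s * t : nonZeroDivisors A) : A) • x = (t : A) • ((s : A) • x) := by
      rw [smul_smul, mul_comm]; rfl
    have e2 : ((s * t : nonZeroDivisors A) : A) • y = (s : A) • ((t : A) • y) := by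
      rw [smul_smul]; rfl
    rw [smul_add, e1, e2, h1, h2, TensorProduct.tmul_add, TensorProduct.tmul_smul,
      TensorProduct.tmul_smul]

/-- the multilinear expansion of `det (P (X - Nᵀ))`. -/
theorem det_mul_charpoly {R : Type*} [CommRing R] {ι : Type*} [Fintype ι] [DecidableEq ι]
    (a : ι → ι → R) (N : Matrix ι ι R) :
    C (Matrix.det (Matrix.of a)) * N.charpoly =
      ∑ s : Finset ι, X ^ s.card *
        C (Matrix.det (Matrix.of (s.piecewise a (fun i => -(N.mulVec (a i)))))) := by
  have h1 : C (Matrix.det (Matrix.of a)) * N.charpoly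
      = Matrix.det ((C : R →+* R[X]).mapMatrix (Matrix.of a) * (N.transpose).charmatrix) := by
    rw [Matrix.det_mul, Matrix.charmatrix_transpose, Matrix.det_transpose, ← RingHom.map_det]
    rfl
  let ra : ι → ι → R[X] := fun i j => C (a i j)
  let rc : ι → ι → R[X] := fun i j => C ((-(N.mulVec (a i))) j)
  have h2 : (C : R →+* R[X]).mapMatrix (Matrix.of a) * (N.transpose).charmatrix
      = Matrix.of ((fun i => (X : R[X]) • ra i) + rc) := by
    refine Matrix.ext fun i j => ?_
    simp only [Matrix.mul_apply, RingHom.mapMatrix_apply, Matrix.map_apply, Matrix.of_apply,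
      Matrix.charmatrix_apply, Matrix.transpose_apply, Matrix.diagonal_apply, Pi.add_apply,
      Pi.smul_apply, smul_eq_mul, Pi.neg_apply, Matrix.mulVec, dotProduct, ra, rc]
    simp only [mul_sub, Finset.sum_sub_distrib, mul_ite, mul_zero, Finset.sum_ite_eq',
      Finset.mem_univ, if_true, map_neg, map_sum, map_mul]
    rw [sub_eq_add_neg, mul_comm]
    congr 2
    exact Finset.sum_congr rfl fun l _ => mul_comm _ _
  let D : MultilinearMap R[X] (fun _ : ι => ι → R[X]) R[X] :=
    (Matrix.detRowAlternating : (ι → R[X]) [⋀^ι]→ₗ[R[X]] R[X]).toMultilinearMap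
  have hD : ∀ m : ι → ι → R[X], D m = Matrix.det (Matrix.of m) := fun m => rfl
  have h3 : ∀ s : Finset ι, D (s.piecewise (fun i => (X : R[X]) • ra i) rc)
      = X ^ s.card * C (Matrix.det (Matrix.of (s.piecewise a (fun i => -(N.mulVec (a i)))))) := by
    intro s
    have e1 : s.piecewise (fun i => (X : R[X]) • ra i) rc
        = s.piecewise (fun i => (fun _ : ι => (X : R[X])) i • (s.piecewise ra rc) i)
            (s.piecewise ra rc) := by
      funext i
      by_cases hi : i ∈ s
      · simp [Finset.piecewise, hi]
      · simp [Finset.piecewise, hi]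
    rw [e1, D.map_piecewise_smul, Finset.prod_const, smul_eq_mul, hD]
    congr 1
    have e2 : Matrix.of (s.piecewise ra rc)
        = (C : R →+* R[X]).mapMatrix (Matrix.of (s.piecewise a (fun i => -(N.mulVec (a i))))) := by
      ext i j
      by_cases hi : i ∈ s
      · simp [Finset.piecewise, hi, ra]
      · simp [Finset.piecewise, hi, rc]
    rw [e2, ← RingHom.map_det]
  rw [h1, h2, ← hD, D.map_add_univ]
  exact Finset.sum_congr rfl fun s _ => h3 s

end Aux

/-- Let A be a reduced Noetherian ring, K its total ring of fractions, and E a finitely generated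
A-module with K ⊗_A E free over K. The A-subalgebra of K generated by the coefficients of the
characteristic polynomials of v ⊗ 1 (v running through all endomorphisms of E), i.e. by all
elementary symmetric functions of all endomorphisms of E, is a finitely generated A-module. -/
theorem result (A : Type u) [CommRing A] [IsNoetherianRing A] [IsReduced A]
    (E : Type u) [AddCommGroup E] [Module A E] [Module.Finite A E]
    [Module.Free (FractionRing A) (TensorProduct A (FractionRing A) E)] :
    (Algebra.adjoin A {c : FractionRing A | ∃ (v : E →ₗ[A] E) (j : ℕ),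
        c = ((v.baseChange (FractionRing A)).charpoly).coeff j}).toSubmodule.FG := by
  classical
  let b : Module.Basis (Module.Free.ChooseBasisIndex (FractionRing A) (TensorProduct A (FractionRing A) E))
      (FractionRing A) (TensorProduct A (FractionRing A) E) :=
    Module.Free.chooseBasis (FractionRing A) (TensorProduct A (FractionRing A) E)
  let φ : E →ₗ[A] (Module.Free.ChooseBasisIndex (FractionRing A) (TensorProduct A (FractionRing A) E)
      → FractionRing A) :=
    (b.equivFun.toLinearMap.restrictScalars A) ∘ₗ (TensorProduct.mk A (FractionRing A) E 1)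
  have hφ : ∀ e, φ e = ⇑(b.repr ((1 : FractionRing A) ⊗ₜ[A] e)) := fun e => rfl
  let μ : MultilinearMap A (fun _ : Module.Free.ChooseBasisIndex (FractionRing A)
      (TensorProduct A (FractionRing A) E) => E) (FractionRing A) :=
    ((Matrix.detRowAlternating : (_ → FractionRing A) [⋀^_]→ₗ[FractionRing A]
      FractionRing A).toMultilinearMap.restrictScalars A).compLinearMap (fun _ => φ)
  have hμ : ∀ e, μ e = Matrix.det (Matrix.of fun i => φ (e i)) := fun e => rfl
  let L : Submodule A (FractionRing A) := LinearMap.range (PiTensorProduct.lift μ)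
  have hLfg : L.FG := by
    have : Module.Finite A (LinearMap.range (PiTensorProduct.lift μ)) := inferInstance
    exact Module.Finite.iff_fg.1 this
  have hμL : ∀ e, μ e ∈ L := fun e => ⟨PiTensorProduct.tprod A e, PiTensorProduct.lift.tprod e⟩
  -- stability from generators
  have hstab_of : ∀ c : FractionRing A, (∀ e, c * μ e ∈ L) → ∀ x ∈ L, c * x ∈ L := by
    intro c hc x hx
    obtain ⟨t, rfl⟩ := hx
    induction t using PiTensorProduct.induction_on with
    | smul_tprod r f =>
      rw [map_smul, PiTensorProduct.lift.tprod, mul_smul_comm]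
      exact L.smul_mem r (hc f)
    | add x y hx hy =>
      rw [map_add, mul_add]
      exact L.add_mem hx hy
  -- the key stability for charpoly coefficients
  have hkey : ∀ (v : E →ₗ[A] E) (j : ℕ) (e), ((v.baseChange (FractionRing A)).charpoly).coeff j * μ e ∈ L := by
    intro v j e
    set N := LinearMap.toMatrix b b (v.baseChange (FractionRing A)) with hN
    have hchar : (v.baseChange (FractionRing A)).charpoly = N.charpoly := rfl
    have hφv : ∀ x : E, φ (v x) = N.mulVec (φ x) := by
      intro x
      rw [hφ, hφ, hN, LinearMap.toMatrix_mulVec_repr, LinearMap.baseChange_tmul]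
    have hid := Aux.det_mul_charpoly (fun i => φ (e i)) N
    have hcoef := congrArg (fun p => Polynomial.coeff p j) hid
    simp only [Polynomial.coeff_C_mul, Polynomial.finset_sum_coeff] at hcoef
    rw [hchar, mul_comm, hμ, hcoef]
    refine Submodule.sum_mem _ fun s _ => ?_
    have hs : Matrix.det (Matrix.of (s.piecewise (fun i => φ (e i)) (fun i => -(N.mulVec (φ (e i))))))
        = μ (s.piecewise e (fun i => -(v (e i)))) := by
      rw [hμ]
      congr 2
      funext i
      by_cases hi : i ∈ s
      · simp [Finset.piecewise, hi]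
      · simp [Finset.piecewise, hi, hφv]
    rw [hs, Polynomial.coeff_X_pow_mul', Polynomial.coeff_C]
    split_ifs
    · exact hμL _
    · exact L.zero_mem
    · exact L.zero_mem
  -- the stabilizer subalgebra
  let Stab : Subalgebra A (FractionRing A) :=
    { carrier := {c | ∀ x ∈ L, c * x ∈ L}
      mul_mem' := fun {a b} ha hb x hx => by rw [mul_assoc]; exact ha _ (hb x hx)
      one_mem' := fun x hx => by rwa [one_mul]
      add_mem' := fun {a b} ha hb x hx => by rw [add_mul]; exact L.add_mem (ha x hx) (hb x hx)
      zero_mem' := fun x hx => by rw [zero_mul]; exact L.zero_mem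
      algebraMap_mem' := fun r x hx => by rw [← Algebra.smul_def]; exact L.smul_mem r hx }
  have hBstab : Algebra.adjoin A {c : FractionRing A | ∃ (v : E →ₗ[A] E) (j : ℕ),
      c = ((v.baseChange (FractionRing A)).charpoly).coeff j} ≤ Stab := by
    refine Algebra.adjoin_le ?_
    rintro c ⟨v, j, rfl⟩
    exact hstab_of _ (hkey v j)
  -- a unit in L
  choose sden eden hden using fun i => Aux.exists_smul_eq_tmul (b i)
  have hφe : ∀ i, φ (eden i) = (algebraMap A (FractionRing A) (sden i : A)) • (Pi.single i (1 : FractionRing A)) := by
    intro i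
    rw [hφ, ← hden i, ← algebraMap_smul (FractionRing A) ((sden i : A)) (b i), map_smul,
      Module.Basis.repr_self]
    funext j
    simp [Finsupp.single_apply, Pi.single_apply, eq_comm, Algebra.smul_def]
  have hs₀ : μ eden = algebraMap A (FractionRing A) ((∏ i, sden i : nonZeroDivisors A) : A) := by
    rw [hμ]
    have : (Matrix.of fun i => φ (eden i))
        = Matrix.diagonal (fun i => algebraMap A (FractionRing A) (sden i : A)) := by
      ext i j
      rw [Matrix.of_apply, hφe i, Matrix.diagonal_apply]
      simp [Pi.single_apply, eq_comm, Algebra.smul_def]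
    rw [this, Matrix.det_diagonal]
    simp [map_prod]
  have hunit : IsUnit (μ eden) := by
    rw [hs₀]
    exact IsLocalization.map_units (FractionRing A) (∏ i, sden i : nonZeroDivisors A)
  -- the embedding
  let ψ : ↥(Subalgebra.toSubmodule (Algebra.adjoin A {c : FractionRing A | ∃ (v : E →ₗ[A] E) (j : ℕ),
      c = ((v.baseChange (FractionRing A)).charpoly).coeff j})) →ₗ[A] ↥L :=
    LinearMap.codRestrict L ((LinearMap.mulRight A (μ eden)) ∘ₗ (Subalgebra.toSubmodule _).subtype)
      (fun c => hBstab c.2 (μ eden) (hμL eden))
  have hψ : Function.Injective ψ := by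
    intro c c' h
    have h' := congrArg (fun z : ↥L => (z : FractionRing A)) h
    simp only [ψ, LinearMap.codRestrict_apply, LinearMap.comp_apply, Submodule.subtype_apply,
      LinearMap.mulRight_apply] at h'
    exact Subtype.ext (hunit.mul_left_injective h')
  haveI : IsNoetherian A L := isNoetherian_of_fg_of_noetherian L hLfg
  have := Module.Finite.of_injective ψ hψ
  exact Module.Finite.iff_fg.1 this

end Groth.Agent.S4432
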