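import Groth.Statements.S4457
import Groth.Agent.Lib.R2H3LerayDeg
import Groth.Agent.Lib.R2H3RpushQCohGen
import Groth.Agent.Lib.Helper23PushAcyclic
import Groth.Agent.Lib.Helper23AffOpen2
import Groth.Agent.Lib.Helper23LocSS
import Groth.Agent.Lib.Helper16ClosedEmb

set_option linter.style.haveILetI false
set_option linter.unusedVariables false

set_option autoImplicit false
universe u
open Coherent

namespace Groth.Agent.S4457

open AlgebraicGeometry CategoryTheory in
/-- Let f : X → Y be a separated quasi-compact morphism, g : Y → Z an affine morphism and F a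
quasi-coherent O_X-module. Then for every p ≥ 0, R^p (g ∘ f)_* F is isomorphic to g_*(R^p f_* F)
(higher direct images and direct image of the underlying abelian sheaves). The source shows that the
canonical comparison map is an isomorphism; only the existence of an isomorphism is asserted here. -/
theorem result {X Y Z : Scheme.{u}} (f : X ⟶ Y) (g : Y ⟶ Z)
    [IsSeparated f] [QuasiCompact f] [IsAffineHom g] (F : X.Modules) [Coh.IsQCoh F] (p : ℕ) :
    Nonempty ((Coh.RpushAb (f ≫ g) p).obj (Coh.toAb F) ≅
      (Coh.pushAb g).obj ((Coh.RpushAb f p).obj (Coh.toAb F))) := by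
  haveI : F.IsQuasicoherent := ‹Coh.IsQCoh F›
  haveI := Groth.Agent.Lib.R2H3.RpushRestrict.hasInjectiveResolutions_modules X
  haveI := Groth.Agent.Lib.Helper16.ClosedEmb.push_preservesFiniteLimits g.base
  -- `f_*` of an injective is flasque, hence `g_*`-acyclic
  have hI : ∀ I : CohTop.Ab X.carrier, Injective I →
      Groth.Agent.Lib.R2H3.LerayDeg.GAcyc (CohTop.push g.base) ((CohTop.push f.base).obj I) := by
    intro I hI q
    haveI : TopCat.Sheaf.IsFlasque I := Groth.Agent.Lib.Helper16.Flasque.injective_isFlasque I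
    haveI : TopCat.Sheaf.IsFlasque ((CohTop.push f.base).obj I) :=
      TopCat.Sheaf.IsFlasque.pushforward_isFlasque I f.base
    refine Groth.Agent.Lib.Helper23.AffVanish.isZero_Rpush_of_basis g.base Set.univ ?_
      ((CohTop.push f.base).obj I) ?_ q
    · rw [TopologicalSpace.Opens.isBasis_iff_nbhd]
      intro U x hx
      exact ⟨U, trivial, hx, le_rfl⟩
    · intro V _ i
      exact Groth.Agent.Lib.Helper16.Flasque.HU_subsingleton ((CohTop.push f.base).obj I) _ i
  -- the higher direct images are quasi-coherent, hence `g_*`-acyclic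
  have hX : ∀ b : ℕ, Groth.Agent.Lib.R2H3.LerayDeg.GAcyc (CohTop.push g.base)
      (((CohTop.push f.base).rightDerived b).obj (Coh.toAb F)) := by
    intro b q
    obtain ⟨e⟩ := Groth.Agent.Lib.Helper23.ModAbBridge.nonempty_toAb_Rpush_iso f F b
    haveI : ((Coh.Rpush f b).obj F).IsQuasicoherent :=
      Groth.Agent.Lib.R2H3.RpushQCohGen.isQuasicoherent_Rpush_of_qcqs f F b
    refine CategoryTheory.Limits.IsZero.of_iso ?_ (((CohTop.push g.base).rightDerived (q + 1)).mapIso e.symm)
    refine Groth.Agent.Lib.Helper23.AffVanish.isZero_Rpush_of_basis g.base Z.affineOpens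
      Z.isBasis_affineOpens (Groth.Agent.Lib.Helper23.AffVanish.ab' ((Coh.Rpush f b).obj F)) ?_ q
    intro V hV j
    exact Groth.Agent.Lib.Helper23.AffVanish.subsingleton_HE_of_isAffineOpen
      (IsAffineOpen.preimage hV g) ((Coh.Rpush f b).obj F) j
  obtain ⟨e1⟩ := Groth.Agent.Lib.R2H3.LerayDeg.nonempty_rightDerived_comp_iso_of_acyclic
    (G := CohTop.push g.base) (CohTop.push f.base) hI (Coh.toAb F) hX p
  have e0 : CohTop.push f.base ⋙ CohTop.push g.base ≅ CohTop.push (f ≫ g).base :=
    NatIso.ofComponents (fun _ => Iso.refl _)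
  exact ⟨((Groth.Agent.Lib.Helper23LocSS.rightDerivedIso e0 p).app (Coh.toAb F)).symm ≪≫ e1⟩

end Groth.Agent.S4457
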