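import Groth.Statements.S4474
import Mathlib
import Groth.Agent.Lib.Helper23LocGen
import Groth.Agent.Lib.Helper23CounitEpi
import Groth.Agent.Lib.Helper23Restr
import Groth.Agent.Lib.Helper23RestrTensor
import Groth.Agent.Lib.Helper23FinTypeLocal

set_option autoImplicit false
universe u
open Coherent

namespace Groth.Agent.S4474

open AlgebraicGeometry CategoryTheory in
/-- Let Y be a Noetherian scheme, f : X → Y a proper morphism, L an invertible O_X-module which is ample
relative to f, and F a coherent O_X-module. Then there is an integer N such that for every n ≥ N the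
canonical morphism f^* f_* (F(n)) → F(n), the counit of the adjunction between f^* and f_*, is an
epimorphism, where F(n) = F ⊗ L^{⊗ n}. -/
theorem result {X Y : Scheme.{u}} (f : X ⟶ Y) [IsNoetherian Y] [IsProper f]
    (L : X.Modules) (hL : PicF.IsInvertible L) (hamp : RelAmple.IsRelAmple f L) (F : X.Modules)
    (hF : Coh.IsCoh F) :
    ∃ N : ℕ, ∀ n : ℕ, N ≤ n →
      Epi ((Scheme.Modules.pullbackPushforwardAdjunction f).counit.app
        (CohB1.tensorMod F (CohB1.tensorPow L n))) := by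
  haveI : F.IsQuasicoherent := hF.1
  haveI : SheafOfModules.IsFiniteType (R := X.ringCatSheaf) F := hF.2
  have h1 : ∀ V : Y.affineOpens, ∃ N : ℕ, ∀ n, N ≤ n → Curv2.IsGloballyGenerated
      ((CohB1.tensorMod F (CohB1.tensorPow L n)).restrict (f ⁻¹ᵁ V.1).ι) := by
    intro V
    haveI : (F.restrict (f ⁻¹ᵁ V.1).ι).IsQuasicoherent := inferInstance
    haveI : SheafOfModules.IsFiniteType (R := (↑(f ⁻¹ᵁ V.1) : Scheme.{u}).ringCatSheaf)
        (F.restrict (f ⁻¹ᵁ V.1).ι) :=
      Groth.Agent.Lib.Helper23.FinType.isFiniteType_restrict (f ⁻¹ᵁ V.1).ι F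
    obtain ⟨N, hN⟩ := Groth.Agent.Lib.Helper23.LocGen.isGloballyGenerated_twist_eventually
      (L.restrict (f ⁻¹ᵁ V.1).ι) (hamp.2 V) (F.restrict (f ⁻¹ᵁ V.1).ι)
    refine ⟨N, fun n hn => ?_⟩
    obtain ⟨e⟩ := Groth.Agent.Lib.Helper23.SecTw.nonempty_restrict_tensorPow_iso L hL (f ⁻¹ᵁ V.1) n
    exact Groth.Agent.Lib.Helper23.RestrTensor.isGloballyGenerated_of_iso
      ((Groth.Agent.Lib.Helper23.RestrTensor.restrictTensorIso F (CohB1.tensorPow L n)
        (f ⁻¹ᵁ V.1).ι) ≪≫ PicGrp.tensorModIso (Iso.refl _) e).symm (hN n hn)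
  choose N hN using h1
  have hcov : (Set.univ : Set Y) ⊆ ⋃ V : Y.affineOpens, (V.1 : Set Y) := by
    intro y _
    obtain ⟨V, hV, hyV, -⟩ := exists_isAffineOpen_mem_and_subset (x := y) (U := ⊤) trivial
    exact Set.mem_iUnion.2 ⟨⟨V, hV⟩, hyV⟩
  obtain ⟨t, ht⟩ := isCompact_univ.elim_finite_subcover
    (fun V : Y.affineOpens => (V.1 : Set Y)) (fun V => V.1.2) hcov
  refine ⟨t.sup N, fun n hn =>
    Groth.Agent.Lib.Helper23.CounitEpi.epi_counit_of_isGloballyGenerated f _ (fun x => ?_)⟩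
  obtain ⟨V, hVt, hxV⟩ := Set.mem_iUnion₂.1 (ht (Set.mem_univ (f x)))
  exact ⟨V.1, hxV, hN V n ((Finset.le_sup hVt).trans hn)⟩

end Groth.Agent.S4474
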