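import Groth.Statements.S4482
import Groth.Agent.Lib.R2H2GrSecLen

set_option autoImplicit false
universe u
open Coherent

namespace Groth.Agent.S4482

open AlgebraicGeometry CategoryTheory in
/-- Let A be an Artinian local ring, S a graded A-algebra with S_0 the image of A, generated by r+1
elements of degree one spanning S_1, M a finitely generated graded S-module (graded in nonnegative
degrees) and X = Proj S. Then there is N such that for every n ≥ N the Euler characteristic of the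
module M(n)~, namely the alternating sum over 0 ≤ j ≤ r of the lengths of the A-modules H^j(X,
M(n)~), equals the length of the A-module M_n. -/
theorem result {A S : Type u} [CommRing A] [IsArtinianRing A]
    [IsLocalRing A] [CommRing S] [Algebra A S] (𝒜 : ℕ → Submodule A S) [GradedAlgebra 𝒜]
    (h0 : ∀ s ∈ 𝒜 0, s ∈ Set.range (algebraMap A S)) (r : ℕ) (g : Fin (r + 1) → S)
    (hg1 : ∀ i, g i ∈ 𝒜 1) (hspan : Submodule.span A (Set.range g) = 𝒜 1)
    (hgen : Algebra.adjoin A (Set.range g) = ⊤) {M : Type u} [AddCommGroup M] [Module A M] [Module S M]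
    [IsScalarTower A S M] [Module.Finite S M] (ℳ : ℕ → Submodule A M) [DirectSum.Decomposition ℳ]
    [SetLike.GradedSMul 𝒜 ℳ] :
    ∃ N : ℕ, ∀ n : ℕ, N ≤ n →
      ((Finset.range (r + 1)).sum fun j => (-1 : ℤ) ^ j *
          ((Module.length A (Coh.HH (Proj 𝒜) (GrTilde.tilde 𝒜 ℳ (n : ℤ)) j)).toNat : ℤ)) =
        ((Module.length A ↥(ℳ n)).toNat : ℤ) := by
  classical
  haveI : IsNoetherianRing A := inferInstance
  obtain ⟨N1, hN1⟩ := Groth.Agent.Lib.R2H2.GrSecProj.exists_bijective 𝒜 h0 r g hg1 hgen ℳ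
  obtain ⟨d₀, hd₀⟩ := Groth.Agent.Lib.R2H2.GrSecLen.exists_vanishing 𝒜 h0 r g hg1 hgen ℳ
  refine ⟨max N1 d₀.toNat, fun n hn => ?_⟩
  have hn1 : N1 ≤ n := le_of_max_le_left hn
  have hn2 : d₀ ≤ (n : ℤ) := by
    have := le_of_max_le_right hn
    omega
  have hv : ∀ j : ℕ, 0 < j →
      Subsingleton (Coh.HH (Proj 𝒜) (GrTilde.tilde 𝒜 ℳ (n : ℤ)) j) :=
    fun j hj => hd₀ n hn2 j hj
  obtain ⟨e⟩ := Groth.Agent.Lib.R2H2.GrSecLen.nonempty_linearEquiv 𝒜 h0 r g hg1 hgen ℳ n
    (hN1 n hn1)
  rw [Finset.sum_eq_single 0]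
  · simp only [pow_zero, one_mul]
    rw [e.length_eq]
  · intro j _ hj
    haveI := hv j (Nat.pos_of_ne_zero hj)
    rw [Module.length_eq_zero]
    simp
  · intro h
    exact absurd (Finset.mem_range.2 (Nat.succ_pos r)) h

end Groth.Agent.S4482
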