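import Groth.Statements.S4487
import Groth.Agent.Lib.Helper3FlatCxBT
import Groth.Agent.Lib.Helper13FlatCx
import Groth.Agent.S4486
import Groth.Agent.S4485
import Groth.Agent.S2440
import Mathlib

set_option autoImplicit false
universe u
open FlatCx

namespace Groth.Agent.S4487

section PartI
open CategoryTheory CategoryTheory.Limits TensorProduct Groth.Agent.Lib.Helper3

variable {A : Type u} [CommRing A]

theorem finite_mid_of_exact [IsNoetherianRing A]
    (S : ShortComplex (ModuleCat.{u} A)) (hS : S.Exact)
    (h1 : Module.Finite A S.X₁) (h3 : Module.Finite A S.X₃) : Module.Finite A S.X₂ := by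
  have h := (ShortComplex.moduleCat_exact_iff_range_eq_ker S).mp hS
  have : IsNoetherian A S.X₁ := isNoetherian_of_isNoetherianRing_of_finite A _
  have : IsNoetherian A S.X₃ := isNoetherian_of_isNoetherianRing_of_finite A _
  have := isNoetherian_of_range_eq_ker S.f.hom S.g.hom h
  infer_instance

theorem shortExact_mk {X Y Z : ModuleCat.{u} A} (f : X ⟶ Y) (g : Y ⟶ Z)
    (hf : Function.Injective f.hom) (hg : Function.Surjective g.hom)
    (h : LinearMap.range f.hom = LinearMap.ker g.hom) :
    ∃ w : f ≫ g = 0, (ShortComplex.mk f g w).ShortExact := by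
  have w : f ≫ g = 0 := by
    ext x
    have : f.hom x ∈ LinearMap.ker g.hom := h ▸ LinearMap.mem_range_self _ x
    simpa using this
  refine ⟨w, ?_⟩
  have hex : (ShortComplex.mk f g w).Exact :=
    (ShortComplex.moduleCat_exact_iff_range_eq_ker _).mpr h
  have : Mono f := (ModuleCat.mono_iff_injective f).mpr hf
  have : Epi g := (ModuleCat.epi_iff_surjective g).mpr hg
  exact ⟨hex⟩

theorem finite_T_mid [IsNoetherianRing A] (P : ChainComplex (ModuleCat.{u} A) ℤ)
    (hP : ∀ i, Module.Flat A (P.X i)) (S : ShortComplex (ModuleCat.{u} A)) (hS : S.ShortExact)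
    (n : ℤ) (h1 : Module.Finite A (CohIII.T P n S.X₁)) (h3 : Module.Finite A (CohIII.T P n S.X₃)) :
    Module.Finite A (CohIII.T P n S.X₂) := by
  have hT := tensorSC_shortExact P hP S hS
  exact finite_mid_of_exact _ (hT.homology_exact₂ n) h1 h3

theorem finite_T_right [IsNoetherianRing A] (P : ChainComplex (ModuleCat.{u} A) ℤ)
    (hP : ∀ i, Module.Flat A (P.X i)) (S : ShortComplex (ModuleCat.{u} A)) (hS : S.ShortExact)
    (n : ℤ) (h2 : Module.Finite A (CohIII.T P n S.X₂))
    (h1 : Module.Finite A (CohIII.T P (n - 1) S.X₁)) :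
    Module.Finite A (CohIII.T P n S.X₃) := by
  have hT := tensorSC_shortExact P hP S hS
  exact finite_mid_of_exact _ (hT.homology_exact₃ n (n - 1) (by simp)) h2 h1

theorem finite_T_of_iso (P : ChainComplex (ModuleCat.{u} A) ℤ) (n : ℤ) {M M' : ModuleCat.{u} A}
    (e : M ≅ M') (h : Module.Finite A (CohIII.T P n M)) : Module.Finite A (CohIII.T P n M') := by
  have : Module.Finite A ((CohIII.TFun P n).obj M) := h
  exact Module.Finite.equiv ((CohIII.TFun P n).mapIso e).toLinearEquiv

theorem subsingleton_T_of_subsingleton (P : ChainComplex (ModuleCat.{u} A) ℤ) (n : ℤ)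
    (M : ModuleCat.{u} A) [Subsingleton M] : Subsingleton (CohIII.T P n M) := by
  have hz : IsZero ((CohIII.tensorObj P M).X n) := by
    have h0 : ∀ z : TensorProduct A (P.X n) M, z = 0 := by
      intro z
      induction z using TensorProduct.induction_on with
      | zero => rfl
      | tmul x y => rw [Subsingleton.elim y 0, TensorProduct.tmul_zero]
      | add x y hx hy => rw [hx, hy, add_zero]
    have : Subsingleton ((CohIII.tensorObj P M).X n) := ⟨fun a b => (h0 a).trans (h0 b).symm⟩
    exact ModuleCat.isZero_of_subsingleton _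
  exact ModuleCat.subsingleton_of_isZero (ShortComplex.isZero_homology_of_isZero_X₂ _ hz)

theorem subsingleton_T_of_isZero (P : ChainComplex (ModuleCat.{u} A) ℤ) (n : ℤ)
    (hz : IsZero (P.X n)) (M : ModuleCat.{u} A) : Subsingleton (CohIII.T P n M) := by
  have hz' : IsZero ((CohIII.tensorObj P M).X n) := by
    have := ModuleCat.subsingleton_of_isZero hz
    have h0 : ∀ z : TensorProduct A (P.X n) M, z = 0 := by
      intro z
      induction z using TensorProduct.induction_on with
      | zero => rfl
      | tmul x y => rw [Subsingleton.elim x 0, TensorProduct.zero_tmul]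
      | add x y hx hy => rw [hx, hy, add_zero]
    have : Subsingleton ((CohIII.tensorObj P M).X n) := ⟨fun a b => (h0 a).trans (h0 b).symm⟩
    exact ModuleCat.isZero_of_subsingleton _
  exact ModuleCat.subsingleton_of_isZero (ShortComplex.isZero_homology_of_isZero_X₂ _ hz')

/-- generator induction -/
theorem finite_T_of_span [IsNoetherianRing A] (P : ChainComplex (ModuleCat.{u} A) ℤ)
    (hP : ∀ i, Module.Flat A (P.X i)) (n : ℤ)
    (hA : Module.Finite A (CohIII.T P n (ModuleCat.of A A)))
    (hprev : ∀ M : ModuleCat.{u} A, Module.Finite A M → Module.Finite A (CohIII.T P (n - 1) M)) :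
    ∀ (m : ℕ) (M : ModuleCat.{u} A) (g : Fin m → M), Submodule.span A (Set.range g) = ⊤ →
      Module.Finite A (CohIII.T P n M) := by
  intro m
  induction m with
  | zero =>
    intro M g hg
    have hsub : Subsingleton M := by
      have : (⊤ : Submodule A M) = ⊥ := by
        rw [← hg, Submodule.span_eq_bot]
        rintro x ⟨i, _⟩
        exact i.elim0
      exact (Submodule.subsingleton_iff A).mp (subsingleton_of_bot_eq_top this.symm)
    have := subsingleton_T_of_subsingleton P n M
    infer_instance
  | succ m ih =>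
    intro M g hg
    let φ₀ : A →ₗ[A] M := LinearMap.toSpanSingleton A M (g 0)
    let M' : Submodule A M := LinearMap.range φ₀
    -- the cyclic submodule
    have hM' : Module.Finite A (CohIII.T P n (ModuleCat.of A M')) := by
      let φ : ModuleCat.of A A ⟶ ModuleCat.of A M' := ModuleCat.ofHom φ₀.rangeRestrict
      let ι : ModuleCat.of A (LinearMap.ker φ₀.rangeRestrict) ⟶ ModuleCat.of A A :=
        ModuleCat.ofHom (LinearMap.ker φ₀.rangeRestrict).subtype
      obtain ⟨w, hS⟩ := shortExact_mk ι φ (Submodule.injective_subtype _)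
        (LinearMap.surjective_rangeRestrict φ₀) (Submodule.range_subtype _)
      exact finite_T_right P hP _ hS n hA (hprev _ inferInstance)
    -- the quotient
    have hQ : Module.Finite A (CohIII.T P n (ModuleCat.of A (M ⧸ M'))) := by
      refine ih (ModuleCat.of A (M ⧸ M')) (fun i => M'.mkQ (g i.succ)) ?_
      rw [eq_top_iff]
      rintro y -
      obtain ⟨z, rfl⟩ := M'.mkQ_surjective y
      have hz : z ∈ Submodule.span A (Set.range g) := hg ▸ Submodule.mem_top
      induction hz using Submodule.span_induction with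
      | mem x hx =>
        obtain ⟨i, rfl⟩ := hx
        refine Fin.cases ?_ (fun j => ?_) i
        · have : M'.mkQ (g 0) = 0 := by
            rw [Submodule.mkQ_apply, Submodule.Quotient.mk_eq_zero]
            exact ⟨1, by simp [φ₀]⟩
          rw [this]
          exact Submodule.zero_mem _
        · exact Submodule.subset_span ⟨j, rfl⟩
      | zero => rw [map_zero]; exact Submodule.zero_mem _
      | add x y _ _ hx hy => rw [map_add]; exact Submodule.add_mem _ hx hy
      | smul a x _ hx => rw [map_smul]; exact Submodule.smul_mem _ a hx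
    obtain ⟨w, hS⟩ := shortExact_mk (ModuleCat.ofHom M'.subtype) (ModuleCat.ofHom M'.mkQ)
      (Submodule.injective_subtype _) M'.mkQ_surjective
      (by rw [ModuleCat.hom_ofHom, ModuleCat.hom_ofHom, Submodule.range_subtype, Submodule.ker_mkQ])
    exact finite_T_mid P hP _ hS n hM' hQ

/-- Part I: all `T_n(M)` are finite for finite `M`. -/
theorem finite_T_of_finite [IsNoetherianRing A] (P : ChainComplex (ModuleCat.{u} A) ℤ)
    (hP : ∀ i, Module.Flat A (P.X i)) (i₀ : ℤ) (hb : ∀ i < i₀, IsZero (P.X i))
    (hfg : ∀ n : ℤ, Module.Finite A (CohIII.T P n (ModuleCat.of A A))) :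
    ∀ (k : ℕ) (n : ℤ), n < i₀ + k → ∀ M : ModuleCat.{u} A, Module.Finite A M →
      Module.Finite A (CohIII.T P n M) := by
  intro k
  induction k with
  | zero =>
    intro n hn M _
    have := subsingleton_T_of_isZero P n (hb n (by simpa using hn)) M
    infer_instance
  | succ k ih =>
    intro n hn M hM
    obtain ⟨s, hs⟩ := hM.1
    obtain ⟨m, g, hg⟩ : ∃ (m : ℕ) (g : Fin m → M), Set.range g = (s : Set M) := by
      refine ⟨s.card, fun i => (s.equivFin.symm i : M), ?_⟩
      ext x
      constructor
      · rintro ⟨i, rfl⟩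
        exact (s.equivFin.symm i).2
      · intro hx
        exact ⟨s.equivFin ⟨x, hx⟩, by simp⟩
    exact finite_T_of_span P hP n (hfg n)
      (fun M' hM' => ih (n - 1) (by push_cast at hn; omega) M' hM') m M g (by rw [hg, hs])

end PartI

section PartII
open CategoryTheory CategoryTheory.Limits TensorProduct Groth.Agent.Lib.Helper3 Groth.Agent.S2380

variable {B : Type u} [CommRing B]

theorem minimal_mem_freeLocus [IsReduced B] (q : PrimeSpectrum B)
    (hq : q.asIdeal ∈ minimalPrimes B) (M : Type u) [AddCommGroup M] [Module B M] :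
    q ∈ Module.freeLocus B M := by
  rw [Module.mem_freeLocus]
  have : Ring.KrullDimLE 0 (Localization.AtPrime q.asIdeal) := .of_isLocalization _ hq _
  let : Field (Localization.AtPrime q.asIdeal) := Ring.KrullDimLE.isField_of_isReduced.toField
  exact Module.Free.of_divisionRing _ _

theorem dense_of_minimal_mem (U : Set (PrimeSpectrum B))
    (hU : ∀ q : PrimeSpectrum B, q.asIdeal ∈ minimalPrimes B → q ∈ U) : Dense U := by
  rw [dense_iff_inter_open]
  rintro V hV ⟨x, hx⟩
  obtain ⟨p, hp, hpx⟩ := Ideal.exists_minimalPrimes_le (I := ⊥) (J := x.asIdeal) bot_le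
  have hp' : p ∈ minimalPrimes B := hp
  let q : PrimeSpectrum B := ⟨p, hp'.1.1⟩
  have hspec : q ⤳ x := (PrimeSpectrum.le_iff_specializes q x).mp hpx
  exact ⟨q, hspec.mem_open hV hx, hU q hp'⟩

theorem exists_open_dRank_const [IsNoetherianRing B] (K : ChainComplex (ModuleCat.{u} B) ℤ)
    (hK : ∀ i, Module.Flat B (K.X i)) (i₀ N : ℤ) (hb : ∀ i < i₀, IsZero (K.X i))
    (hfin : ∀ n, Module.Finite B (K.homology n)) (y : PrimeSpectrum B)
    (hy : ∀ q ∈ Finset.Icc i₀ N, y ∈ Module.freeLocus B (K.homology q)) :
    ∀ p ≤ N, ∃ W : Set (PrimeSpectrum B), IsOpen W ∧ y ∈ W ∧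
      ∀ z ∈ W, CohIII.dRank K p z = CohIII.dRank K p y := by
  let U : Set (PrimeSpectrum B) := ⋂ q ∈ Finset.Icc i₀ N, Module.freeLocus B (K.homology q)
  have hfp : ∀ n, Module.FinitePresentation B (K.homology n) := fun n =>
    have := hfin n
    Module.finitePresentation_of_finite B _
  have hU : IsOpen U := isOpen_biInter_finset (fun q _ => Module.isOpen_freeLocus)
  have hyU : y ∈ U := by
    simp only [U, Set.mem_iInter]
    exact hy
  obtain ⟨v, ⟨f, rfl⟩, hfv, hvU⟩ :=
    PrimeSpectrum.isTopologicalBasis_basic_opens.exists_subset_of_mem_open hyU hU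
  let C := Localization.Away f
  let KC := CohIII.bcCx (algebraMap B C) K
  have hKC : ∀ i, Module.Flat C (KC.X i) := flat_bcCx_X C K hK
  have hbKC : ∀ i < i₀, IsZero (KC.X i) := fun i hi =>
    (ModuleCat.extendScalars (algebraMap B C)).map_isZero (hb i hi)
  have hH : ∀ q, i₀ ≤ q → q ≤ N → Module.Flat C (KC.homology q) := by
    intro q h1 h2
    have hsub : (PrimeSpectrum.basicOpen f : Set (PrimeSpectrum B)) ⊆
        Module.freeLocus B (K.homology q) := by
      intro x hx
      have := hvU hx
      simp only [U, Set.mem_iInter] at this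
      exact this q (Finset.mem_Icc.mpr ⟨h1, h2⟩)
    have hproj : Module.Projective C (LocalizedModule.Away f (K.homology q)) :=
      Module.basicOpen_subset_freeLocus_iff.mp hsub
    obtain ⟨e⟩ := Groth.Agent.S4486.nonempty_bcHomologyEquiv_of_flat C K q
    have hfl : Module.Flat C (LocalizedModule.Away f (K.homology q)) :=
      Module.Flat.of_projective
    exact Module.Flat.of_linearEquiv
      (e ≪≫ₗ (LocalizedModule.equivTensorProduct (Submonoid.powers f) (K.homology q)).symm)
  have hall := Groth.Agent.S4486.flat_opcycles_bc KC hKC i₀ N hbKC hH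
  have hW : ∀ q ≤ N, Module.Flat C (KC.opcycles q) := by
    intro q hq
    exact hall (q - i₀ + 1).toNat q hq (by omega)
  intro p hp
  have hex : (CohIII.TFun KC p).PreservesMonomorphisms ∧
      (CohIII.TFun KC p).PreservesEpimorphisms :=
    ⟨(Groth.Agent.S2375.result KC hKC p).mpr (hW p hp),
      (Groth.Agent.S2410.preservesEpi_iff_flat_opcycles KC hKC p (p - 1) (by ring)).mpr
        (hW (p - 1) (by omega))⟩
  have hfpC : Module.FinitePresentation C (CohIII.T KC p (ModuleCat.of C C)) := by
    obtain ⟨e⟩ := Groth.Agent.S4486.nonempty_bcHomologyEquiv_of_flat C K p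
    have := hfin p
    have h1 : Module.Finite C (C ⊗[B] K.homology p) := inferInstance
    have h2 : Module.Finite C (KC.homology p) := Module.Finite.equiv e.symm
    have h3 : Module.Finite C (CohIII.T KC p (ModuleCat.of C C)) :=
      Module.Finite.equiv (TUnitIso KC p).toLinearEquiv.symm
    exact Module.finitePresentation_of_finite C _
  have hlc := Groth.Agent.S4485.result KC hKC p hex hfpC
  have hrange : Set.range (PrimeSpectrum.comap (algebraMap B C)) = PrimeSpectrum.basicOpen f :=
    PrimeSpectrum.localization_away_comap_range C f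
  obtain ⟨y', hy'⟩ : y ∈ Set.range (PrimeSpectrum.comap (algebraMap B C)) := by
    rw [hrange]
    exact hfv
  have hemb := PrimeSpectrum.localization_away_isOpenEmbedding C f
  refine ⟨PrimeSpectrum.comap (algebraMap B C) ''
      {z' | CohIII.dRank KC p z' = CohIII.dRank KC p y'},
    hemb.isOpenMap _ (hlc.isOpen_fiber _), ⟨y', rfl, hy'⟩, ?_⟩
  rintro z ⟨z', hz', rfl⟩
  rw [← hy', ← Groth.Agent.S2440.result K hK p z', ← Groth.Agent.S2440.result K hK p y']
  exact hz'

/-- Part II: the reduced Noetherian case. -/
theorem exists_dense_open_of_isReduced [IsNoetherianRing B] [IsReduced B]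
    (K : ChainComplex (ModuleCat.{u} B) ℤ)
    (hK : ∀ i, Module.Flat B (K.X i)) (i₀ N : ℤ) (hb : ∀ i < i₀, IsZero (K.X i))
    (hfin : ∀ n, Module.Finite B (K.homology n)) :
    ∃ U : Set (PrimeSpectrum B), IsOpen U ∧ Dense U ∧ ∀ p ≤ N, ∀ y ∈ U,
      ∃ W : Set (PrimeSpectrum B), IsOpen W ∧ y ∈ W ∧
        ∀ z ∈ W, CohIII.dRank K p z = CohIII.dRank K p y := by
  have hfp : ∀ n, Module.FinitePresentation B (K.homology n) := fun n =>
    have := hfin n
    Module.finitePresentation_of_finite B _
  refine ⟨⋂ q ∈ Finset.Icc i₀ N, Module.freeLocus B (K.homology q),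
    isOpen_biInter_finset (fun q _ => Module.isOpen_freeLocus), ?_, ?_⟩
  · apply dense_of_minimal_mem
    intro q hq
    simp only [Set.mem_iInter]
    intro n _
    exact minimal_mem_freeLocus q hq _
  · intro p hp y hy
    simp only [Set.mem_iInter] at hy
    exact exists_open_dRank_const K hK i₀ N hb hfin y hy p hp

end PartII

section PartIII
open CategoryTheory CategoryTheory.Limits TensorProduct Groth.Agent.Lib.Helper3

theorem finite_of_restrictScalars {A B : Type u} [CommRing A] [CommRing B] [Algebra A B]
    (X : ModuleCat.{u} B)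
    (h : Module.Finite A ((ModuleCat.restrictScalars (algebraMap A B)).obj X)) :
    Module.Finite B X := by
  let : Module A X := Module.compHom X (algebraMap A B)
  have : IsScalarTower A B X := ⟨fun a b x => by
    show (a • b) • x = algebraMap A B a • (b • x)
    rw [Algebra.smul_def, mul_smul]⟩
  have : Module.Finite A X := h
  exact Module.Finite.of_restrictScalars_finite A B X

end PartIII

open CategoryTheory CategoryTheory.Limits in
/-- The case of the homological functor T_p(M) = H_p(P ⊗_A M) of a chain complex P of flat modules over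
a commutative ring A. Let A be Noetherian and suppose P_i = 0 for i < i₀ and that every T_n(A) is a
finitely generated A-module. Then for every integer N there is a dense open subset U of Spec A such
that, for every p ≤ N, the function x ↦ dim_{k(x)} H_p(P ⊗_A k(x)) is locally constant on U. (The
published statement says constant on U; over the product of two fields, with P the projective module
supported on one factor placed in degree 0, the only dense open set is the whole two-point spectrum
and the ranks there are 1 and 0, so locally constant on U is what holds; the argument produces U as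
a disjoint union of opens, one dense in each irreducible component, on each of which the functions
are constant.) -/
theorem result {A : Type u} [CommRing A] [IsNoetherianRing A]
    (P : ChainComplex (ModuleCat.{u} A) ℤ) (hP : ∀ i, Module.Flat A (P.X i)) (i₀ : ℤ)
    (hb : ∀ i < i₀, IsZero (P.X i))
    (hfg : ∀ n : ℤ, Module.Finite A (CohIII.T P n (ModuleCat.of A A))) (N : ℤ) :
    ∃ U : Set (PrimeSpectrum A), IsOpen U ∧ Dense U ∧
      ∀ p ≤ N, IsLocallyConstant (fun x : U => CohIII.dRank P p x) := by
  open Groth.Agent.Lib.Helper3 in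
  let B := A ⧸ nilradical A
  let K := CohIII.bcCx (algebraMap A B) P
  have hredu : IsReduced B :=
    (Ideal.isRadical_iff_quotient_reduced _).mp (Ideal.radical_isRadical _)
  have hK : ∀ i, Module.Flat B (K.X i) := flat_bcCx_X B P hP
  have hbK : ∀ i < i₀, IsZero (K.X i) := fun i hi =>
    (ModuleCat.extendScalars (algebraMap A B)).map_isZero (hb i hi)
  have hfinK : ∀ n, Module.Finite B (K.homology n) := by
    intro n
    obtain ⟨e⟩ := Groth.Agent.Helper13FlatCx.nonempty_restrict_homology_iso A B P n
    have hT : Module.Finite A (CohIII.T P n (ModuleCat.of A B)) :=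
      finite_T_of_finite P hP i₀ hb hfg (n - i₀ + 1).toNat n (by omega) _
        (inferInstanceAs (Module.Finite A (A ⧸ nilradical A)))
    apply finite_of_restrictScalars (A := A)
    exact Module.Finite.equiv e.toLinearEquiv.symm
  obtain ⟨UB, hUBo, hUBd, hUB⟩ := exists_dense_open_of_isReduced K hK i₀ N hbK hfinK
  have hhomeo : IsHomeomorph (PrimeSpectrum.comap (algebraMap A B)) := by
    refine PrimeSpectrum.isHomeomorph_comap _ (fun x => ⟨1, one_pos, ?_⟩) ?_
    · obtain ⟨a, rfl⟩ := Ideal.Quotient.mk_surjective x
      exact ⟨a, (pow_one _).symm⟩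
    · intro a ha
      have : Ideal.Quotient.mk (nilradical A) a = 0 := ha
      exact Ideal.Quotient.eq_zero_iff_mem.mp this
  refine ⟨PrimeSpectrum.comap (algebraMap A B) '' UB, hhomeo.isOpenMap _ hUBo, ?_, ?_⟩
  · exact hhomeo.surjective.denseRange.dense_image hhomeo.continuous hUBd
  · intro p hp
    rw [IsLocallyConstant.iff_exists_open]
    rintro ⟨x, y, hy, rfl⟩
    obtain ⟨W, hWo, hyW, hW⟩ := hUB p hp y hy
    refine ⟨Subtype.val ⁻¹' (PrimeSpectrum.comap (algebraMap A B) '' W),
      (hhomeo.isOpenMap _ hWo).preimage continuous_subtype_val, ⟨y, hyW, rfl⟩, ?_⟩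
    rintro ⟨x', hx'U⟩ ⟨z, hzW, hz⟩
    show CohIII.dRank P p x' = CohIII.dRank P p (PrimeSpectrum.comap (algebraMap A B) y)
    have hz' : PrimeSpectrum.comap (algebraMap A B) z = x' := hz
    rw [← hz', ← Groth.Agent.S2440.result P hP p z, ← Groth.Agent.S2440.result P hP p y]
    exact hW z hzW

end Groth.Agent.S4487
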