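import Groth.Statements.S4498
import Groth.Agent.Lib.R2H2GammaRep

set_option autoImplicit false
universe u
attribute [local instance] HasDerivedCategory.standard
open Coherent

namespace Groth.Agent.S4498

open AlgebraicGeometry CategoryTheory Opposite in
/-- The global form over an affine base. Let A be a Noetherian ring, X a proper A-scheme with structure
morphism f, and F, F' coherent O_X-modules flat over Spec A. Let η be a natural transformation from
the functor M ↦ Γ(X, f^*(M~) ⊗ F) to the functor M ↦ Γ(X, f^*(M~) ⊗ F') of the A-module M (the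
published statement takes η induced by a homomorphism F → F'; this row allows any natural
transformation, which is all the argument uses). Then the kernel functor M ↦ Ker(η_M) is
corepresentable by a finitely generated A-module R: there are such an R and a natural transformation
ι : Hom_A(R, −) → Γ(X, f^*(−~) ⊗ F) with injective components whose image at every M is exactly the
kernel of η_M. (R is then unique up to unique isomorphism.) -/
theorem result (A : Type u) [CommRing A]
    [IsNoetherianRing A] (X : Scheme.{u}) [X.Over (Spec (CommRingCat.of A))]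
    [IsProper (X ↘ Spec (CommRingCat.of A))] (F F' : X.Modules) (hF : Coh.IsCoh F) (hF' : Coh.IsCoh F')
    (hfl : FlatMod.IsFlatOver (X ↘ Spec (CommRingCat.of A)) F)
    (hfl' : FlatMod.IsFlatOver (X ↘ Spec (CommRingCat.of A)) F')
    (η : CohIII.tensorAFunctor A F ⋙ CohIII.globalSectionsA A ⟶ CohIII.tensorAFunctor A F' ⋙ CohIII.globalSectionsA A) :
    ∃ (R : ModuleCat.{u} A) (ι : (linearCoyoneda A (ModuleCat.{u} A)).obj (op R) ⟶
        CohIII.tensorAFunctor A F ⋙ CohIII.globalSectionsA A),
      Module.Finite A R ∧ (∀ M : ModuleCat.{u} A, Function.Injective (ι.app M).hom) ∧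
        ∀ (M : ModuleCat.{u} A) (x : (CohIII.tensorAFunctor A F ⋙ CohIII.globalSectionsA A).obj M),
          (η.app M).hom x = 0 ↔ ∃ y, (ι.app M).hom y = x := by
  obtain ⟨Q, hQ, ⟨e⟩⟩ := Groth.Agent.Lib.R2H2.GammaRep.exists_corep_Γ A X F hF hfl
  obtain ⟨Q', hQ', ⟨e'⟩⟩ := Groth.Agent.Lib.R2H2.GammaRep.exists_corep_Γ A X F' hF' hfl'
  -- the transported transformation
  let η' : (linearCoyoneda A (ModuleCat.{u} A)).obj (op Q) ⟶
      (linearCoyoneda A (ModuleCat.{u} A)).obj (op Q') := e.inv ≫ η ≫ e'.hom
  let f : op Q ⟶ op Q' := (linearCoyoneda A (ModuleCat.{u} A)).preimage η'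
  have hf : (linearCoyoneda A (ModuleCat.{u} A)).map f = η' :=
    (linearCoyoneda A (ModuleCat.{u} A)).map_preimage η'
  let v : Q' ⟶ Q := f.unop
  have hη' : ∀ (M : ModuleCat.{u} A) (z : Q ⟶ M), (η'.app M).hom z = v ≫ z := by
    intro M z
    rw [← hf]
    rfl
  -- the cokernel of `v`
  let R : ModuleCat.{u} A := ModuleCat.of A (Q ⧸ LinearMap.range v.hom)
  let π : Q ⟶ R := ModuleCat.ofHom (LinearMap.range v.hom).mkQ
  have hπ : Function.Surjective π.hom := Submodule.mkQ_surjective _
  haveI : Epi π := (ModuleCat.epi_iff_surjective π).2 hπ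
  have hvπ : v ≫ π = 0 := by
    ext z
    show (LinearMap.range v.hom).mkQ (v.hom z) = 0
    rw [Submodule.mkQ_apply, Submodule.Quotient.mk_eq_zero]
    exact ⟨z, rfl⟩
  have hfac : ∀ (M : ModuleCat.{u} A) (z : Q ⟶ M), v ≫ z = 0 → ∃ y : R ⟶ M, π ≫ y = z := by
    intro M z hz
    refine ⟨ModuleCat.ofHom ((LinearMap.range v.hom).liftQ z.hom ?_), ?_⟩
    · rintro _ ⟨w, rfl⟩
      rw [LinearMap.mem_ker]
      exact congrArg (fun g => g.hom w) hz
    · ext w
      rfl
  let ι : (linearCoyoneda A (ModuleCat.{u} A)).obj (op R) ⟶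
      CohIII.tensorAFunctor A F ⋙ CohIII.globalSectionsA A :=
    (linearCoyoneda A (ModuleCat.{u} A)).map π.op ≫ e.inv
  have hι : ∀ (M : ModuleCat.{u} A) (y : R ⟶ M), (ι.app M).hom y = (e.inv.app M).hom (π ≫ y) := by
    intro M y
    rfl
  have heinj : ∀ M : ModuleCat.{u} A, Function.Injective (e.inv.app M).hom := by
    intro M a b hab
    have := congrArg (e.hom.app M).hom hab
    have h1 : ∀ c, (e.hom.app M).hom ((e.inv.app M).hom c) = c := fun c => by
      have h2 : e.inv.app M ≫ e.hom.app M = 𝟙 _ := by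
        rw [← NatTrans.comp_app, e.inv_hom_id]
        rfl
      exact congrArg (fun g => g.hom c) h2
    rwa [h1, h1] at this
  have h2 : ∀ (M : ModuleCat.{u} A) (c : (CohIII.tensorAFunctor A F ⋙ CohIII.globalSectionsA A).obj M),
      (e.inv.app M).hom ((e.hom.app M).hom c) = c := fun M c => by
    have h3 : e.hom.app M ≫ e.inv.app M = 𝟙 _ := by
      rw [← NatTrans.comp_app, e.hom_inv_id]
      rfl
    exact congrArg (fun g => g.hom c) h3
  have he'inj : ∀ M : ModuleCat.{u} A, Function.Injective (e'.hom.app M).hom := by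
    intro M a b hab
    have := congrArg (e'.inv.app M).hom hab
    have h1 : ∀ c, (e'.inv.app M).hom ((e'.hom.app M).hom c) = c := fun c => by
      have h3 : e'.hom.app M ≫ e'.inv.app M = 𝟙 _ := by
        rw [← NatTrans.comp_app, e'.hom_inv_id]
        rfl
      exact congrArg (fun g => g.hom c) h3
    rwa [h1, h1] at this
  refine ⟨R, ι, ?_, ?_, ?_⟩
  · show Module.Finite A (Q ⧸ LinearMap.range v.hom)
    infer_instance
  · intro M a b hab
    rw [hι, hι] at hab
    exact (cancel_epi π).1 (heinj M hab)
  · intro M x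
    have key : (e'.hom.app M).hom ((η.app M).hom x) = v ≫ ((e.hom.app M).hom x) := by
      rw [← hη']
      show _ = ((e.inv ≫ η ≫ e'.hom).app M).hom ((e.hom.app M).hom x)
      rw [NatTrans.comp_app, NatTrans.comp_app]
      show _ = (e'.hom.app M).hom ((η.app M).hom ((e.inv.app M).hom ((e.hom.app M).hom x)))
      rw [h2]
    constructor
    · intro hx
      have hz : v ≫ ((e.hom.app M).hom x) = 0 := by
        rw [← key, hx, map_zero]
        rfl
      obtain ⟨y, hy⟩ := hfac M _ hz
      refine ⟨y, ?_⟩
      rw [hι, hy, h2]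
    · rintro ⟨y, rfl⟩
      apply he'inj M
      rw [key, map_zero, hι]
      have h1 : (e.hom.app M).hom ((e.inv.app M).hom (π ≫ y)) = π ≫ y := by
        have h3 : e.inv.app M ≫ e.hom.app M = 𝟙 _ := by
          rw [← NatTrans.comp_app, e.inv_hom_id]
          rfl
        exact congrArg (fun g => g.hom (π ≫ y)) h3
      rw [h1, ← Category.assoc, hvπ, Limits.zero_comp]
      rfl

end Groth.Agent.S4498
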