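import Groth.Statements.S4499
import Groth.Agent.Lib.Helper15TorBridge

set_option autoImplicit false
universe u
open FlatCx

namespace Groth.Agent.S4499

section general

open CategoryTheory CategoryTheory.Limits MonoidalCategory Groth.Agent.Helper13Tor
  Groth.Agent.Lib.Helper15

variable {R : Type u} [CommRing R]
  {X₁ X₂ X₃ : Type u} [AddCommGroup X₁] [Module R X₁] [AddCommGroup X₂] [Module R X₂]
  [AddCommGroup X₃] [Module R X₃]

/-- For a short exact sequence `0 → X₁ → X₂ → X₃ → 0` with `X₂` flat,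
`Tor₁(X₃, Y) ≃ ker (X₁ ⊗ Y → X₂ ⊗ Y)`. -/
theorem nonempty_ker_equiv_tor_one [Module.Flat R X₂] (i : X₁ →ₗ[R] X₂) (p : X₂ →ₗ[R] X₃)
    (hi : Function.Injective i) (hp : Function.Surjective p) (hex : Function.Exact i p)
    (Y : Type u) [AddCommGroup Y] [Module R Y] :
    Nonempty (LinearMap.ker (i.rTensor Y) ≃ₗ[R] DRing.Tor R 1 X₃ Y) := by
  have hS := shortExact_mk_of_exact i p hi hp hex
  obtain ⟨δ, w₁, w₂, hex1, hex2⟩ := exists_δ _ hS (ModuleCat.of R Y) 0
  have hF : IsZero (((Tor (ModuleCat.{u} R) 1).obj (ModuleCat.of R X₂)).obj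
      (ModuleCat.of R Y)) := by
    have : Module.Flat R (ModuleCat.of R X₂) := inferInstanceAs (Module.Flat R X₂)
    exact isZero_tor_of_flat (ModuleCat.of R Y) (ModuleCat.of R X₂) 1 (by omega)
  have hδmono : Mono δ := hex1.mono_g (hF.eq_of_src _ _)
  have hδinj : Function.Injective δ.hom := (ModuleCat.mono_iff_injective δ).mp hδmono
  let e₁ := (torLZeroIso (ModuleCat.of R Y)).app (ModuleCat.of R X₁)
  let e₂ := (torLZeroIso (ModuleCat.of R Y)).app (ModuleCat.of R X₂)
  have hn : (torL (ModuleCat.of R Y) 0).map (ModuleCat.ofHom i) ≫ e₂.hom =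
      e₁.hom ≫ (tensorRight (ModuleCat.of R Y)).map (ModuleCat.ofHom i) :=
    (torLZeroIso (ModuleCat.of R Y)).hom.naturality (ModuleCat.ofHom i)
  have h2 : (tensorRight (ModuleCat.of R Y)).map (ModuleCat.ofHom i) =
      ModuleCat.ofHom (LinearMap.rTensor Y i) := rfl
  have hn' : ∀ z, e₂.hom.hom ((((Tor (ModuleCat.{u} R) 0).map (ModuleCat.ofHom i)).app
      (ModuleCat.of R Y)).hom z) = (LinearMap.rTensor Y i) (e₁.hom.hom z) := by
    intro z
    have := congrArg (fun φ => φ.hom z) hn
    simp only [ModuleCat.hom_comp, LinearMap.comp_apply] at this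
    exact this
  have hex2' := (ShortComplex.ShortExact.moduleCat_exact_iff_function_exact _).mp hex2
  have he₁inj : Function.Injective e₁.hom.hom :=
    (ModuleCat.mono_iff_injective e₁.hom).mp inferInstance
  have he₂inj : Function.Injective e₂.hom.hom :=
    (ModuleCat.mono_iff_injective e₂.hom).mp inferInstance
  have he₁surj : Function.Surjective e₁.hom.hom :=
    (ModuleCat.epi_iff_surjective e₁.hom).mp inferInstance
  -- the map
  let Φ : DRing.Tor R 1 X₃ Y →ₗ[R] LinearMap.ker (i.rTensor Y) :=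
    LinearMap.codRestrict _ (e₁.hom.hom ∘ₗ δ.hom) (fun x => by
      rw [LinearMap.mem_ker, LinearMap.comp_apply, ← hn']
      have : (((Tor (ModuleCat.{u} R) 0).map (ModuleCat.ofHom i)).app (ModuleCat.of R Y)).hom
          (δ.hom x) = 0 := hex2'.apply_apply_eq_zero x
      rw [this, map_zero])
  have hΦinj : Function.Injective Φ := by
    intro x y hxy
    have h3 := congrArg Subtype.val hxy
    exact hδinj (he₁inj h3)
  have hΦsurj : Function.Surjective Φ := by
    rintro ⟨y, hy⟩
    obtain ⟨z, rfl⟩ := he₁surj y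
    have hz : (((Tor (ModuleCat.{u} R) 0).map (ModuleCat.ofHom i)).app (ModuleCat.of R Y)).hom
        z = 0 := by
      apply he₂inj
      rw [hn', map_zero]
      exact hy
    obtain ⟨x, rfl⟩ := (hex2' z).mp hz
    exact ⟨x, Subtype.ext rfl⟩
  exact ⟨(LinearEquiv.ofBijective Φ ⟨hΦinj, hΦsurj⟩).symm⟩

/-- For a short exact sequence `0 → X₁ → X₂ → X₃ → 0` with `X₂` flat,
`Tor_{n+2}(X₃, Y) ≃ Tor_{n+1}(X₁, Y)`. -/
theorem nonempty_tor_succ_equiv [Module.Flat R X₂] (i : X₁ →ₗ[R] X₂) (p : X₂ →ₗ[R] X₃)
    (hi : Function.Injective i) (hp : Function.Surjective p) (hex : Function.Exact i p)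
    (Y : Type u) [AddCommGroup Y] [Module R Y] (n : ℕ) :
    Nonempty (DRing.Tor R (n + 1) X₁ Y ≃ₗ[R] DRing.Tor R (n + 2) X₃ Y) := by
  have hS := shortExact_mk_of_exact i p hi hp hex
  obtain ⟨δ, w₁, w₂, hex1, hex2⟩ := exists_δ _ hS (ModuleCat.of R Y) (n + 1)
  have hF : ∀ m, 0 < m → IsZero (((Tor (ModuleCat.{u} R) m).obj (ModuleCat.of R X₂)).obj
      (ModuleCat.of R Y)) := by
    intro m hm
    have : Module.Flat R (ModuleCat.of R X₂) := inferInstanceAs (Module.Flat R X₂)
    exact isZero_tor_of_flat (ModuleCat.of R Y) (ModuleCat.of R X₂) m hm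
  have hδmono : Mono δ := hex1.mono_g ((hF _ (by omega)).eq_of_src _ _)
  have hδepi : Epi δ := hex2.epi_f ((hF _ (by omega)).eq_of_tgt _ _)
  have hiso : IsIso δ := isIso_of_mono_of_epi δ
  exact ⟨((asIso δ).toLinearEquiv).symm⟩

/-- linear algebra: if `g = ι ∘ q` with `q` surjective and `ker q = range α`, then
`ker g / range α ≃ ker ι`. -/
theorem nonempty_quot_ker_equiv {M N Q K' : Type*} [AddCommGroup M] [Module R M] [AddCommGroup N]
    [Module R N] [AddCommGroup Q] [Module R Q] [AddCommGroup K'] [Module R K']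
    (g : M →ₗ[R] N) (q : M →ₗ[R] Q) (ι : Q →ₗ[R] N) (α : K' →ₗ[R] M)
    (hcomp : g = ι ∘ₗ q) (hexq : Function.Exact α q) (hqsurj : Function.Surjective q) :
    Nonempty ((↥(LinearMap.ker g) ⧸ Submodule.comap (LinearMap.ker g).subtype (LinearMap.range α))
      ≃ₗ[R] LinearMap.ker ι) := by
  obtain ⟨ψ, hψ⟩ : ∃ ψ : LinearMap.ker g →ₗ[R] LinearMap.ker ι, ∀ x, (ψ x).1 = q x.1 :=
    ⟨LinearMap.codRestrict _ (q ∘ₗ (LinearMap.ker g).subtype)
      (fun x => by
        have hx : g x.1 = 0 := x.2
        have h3 : ι (q x.1) = 0 := by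
          rw [← LinearMap.comp_apply, ← hcomp]
          exact hx
        exact h3), fun x => rfl⟩
  have hψsurj : Function.Surjective ψ := by
    rintro ⟨y, hy⟩
    obtain ⟨x, rfl⟩ := hqsurj y
    refine ⟨⟨x, ?_⟩, Subtype.ext (hψ _)⟩
    rw [LinearMap.mem_ker, hcomp, LinearMap.comp_apply]
    exact hy
  have hψker : LinearMap.ker ψ = Submodule.comap (LinearMap.ker g).subtype (LinearMap.range α) := by
    ext x
    rw [LinearMap.mem_ker, Submodule.mem_comap]
    constructor
    · intro h
      have h' := congrArg Subtype.val h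
      rw [hψ] at h'
      exact (hexq _).mp h'
    · intro h
      apply Subtype.ext
      rw [hψ]
      exact (hexq _).mpr h
  exact ⟨(Submodule.quotEquivOfEq _ _ hψker.symm).trans (ψ.quotKerEquivOfSurjective hψsurj)⟩

end general

/-- Let A be a Noetherian local ring with residue field k, and d : P₁ → P₀ an A-linear map between flat
A-modules, viewed as a two-term chain complex, so that H₁ = Ker d, H₀ = Coker d and H₁ of the
complex tensored with k is Ker(d ⊗ 1_k). Let α : (Ker d) ⊗_A k → P₁ ⊗_A k be the map induced by the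
inclusion Ker d → P₁; its image lies in Ker(d ⊗ 1_k). Then there is an exact sequence 0 →
Tor₂^A(Coker d, k) → (Ker d) ⊗_A k → Ker(d ⊗ 1_k) → Tor₁^A(Coker d, k) → 0 with middle map α, stated
here as: Ker α is isomorphic to Tor₂^A(Coker d, k), and the quotient of Ker(d ⊗ 1_k) by the image of
α is isomorphic to Tor₁^A(Coker d, k) (existence of A-linear isomorphisms only; Tor is Mathlib's,
left derived in the second variable). (In the published statement the cokernel is printed without
its prime, as the module of 0-cycles; the proof is about the cokernel of d.) -/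
theorem result {A : Type u} [CommRing A] [IsNoetherianRing A]
    [IsLocalRing A] {P₁ P₀ : Type u} [AddCommGroup P₁] [Module A P₁] [AddCommGroup P₀] [Module A P₀]
    [Module.Flat A P₁] [Module.Flat A P₀] (d : P₁ →ₗ[A] P₀) :
    Nonempty (LinearMap.ker ((LinearMap.ker d).subtype.rTensor (IsLocalRing.ResidueField A)) ≃ₗ[A]
        DRing.Tor A 2 (P₀ ⧸ LinearMap.range d) (IsLocalRing.ResidueField A)) ∧
      LinearMap.range ((LinearMap.ker d).subtype.rTensor (IsLocalRing.ResidueField A)) ≤
        LinearMap.ker (d.rTensor (IsLocalRing.ResidueField A)) ∧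
      Nonempty ((↥(LinearMap.ker (d.rTensor (IsLocalRing.ResidueField A))) ⧸
          Submodule.comap (LinearMap.ker (d.rTensor (IsLocalRing.ResidueField A))).subtype
            (LinearMap.range ((LinearMap.ker d).subtype.rTensor (IsLocalRing.ResidueField A)))) ≃ₗ[A]
        DRing.Tor A 1 (P₀ ⧸ LinearMap.range d) (IsLocalRing.ResidueField A)) := by
  -- the two short exact sequences
  have hex2 : Function.Exact (LinearMap.ker d).subtype d.rangeRestrict := by
    intro x
    constructor
    · intro h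
      exact ⟨⟨x, congrArg Subtype.val h⟩, rfl⟩
    · rintro ⟨y, rfl⟩
      exact Subtype.ext y.2
  have hsurj2 : Function.Surjective d.rangeRestrict := d.surjective_rangeRestrict
  have hex1 : Function.Exact (LinearMap.range d).subtype (LinearMap.range d).mkQ :=
    LinearMap.exact_subtype_mkQ _
  have hsurj1 : Function.Surjective (LinearMap.range d).mkQ := Submodule.mkQ_surjective _
  obtain ⟨E1⟩ := nonempty_ker_equiv_tor_one (LinearMap.ker d).subtype d.rangeRestrict
    (Submodule.injective_subtype _) hsurj2 hex2 (IsLocalRing.ResidueField A)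
  obtain ⟨E2⟩ := nonempty_tor_succ_equiv (LinearMap.range d).subtype (LinearMap.range d).mkQ
    (Submodule.injective_subtype _) hsurj1 hex1 (IsLocalRing.ResidueField A) 0
  obtain ⟨E3⟩ := nonempty_ker_equiv_tor_one (LinearMap.range d).subtype (LinearMap.range d).mkQ
    (Submodule.injective_subtype _) hsurj1 hex1 (IsLocalRing.ResidueField A)
  have hcomp : d.rTensor (IsLocalRing.ResidueField A) = ((LinearMap.range d).subtype.rTensor (IsLocalRing.ResidueField A)) ∘ₗ (d.rangeRestrict.rTensor (IsLocalRing.ResidueField A)) := by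
    rw [← LinearMap.rTensor_comp]
    rfl
  have hexq : Function.Exact ((LinearMap.ker d).subtype.rTensor (IsLocalRing.ResidueField A)) (d.rangeRestrict.rTensor (IsLocalRing.ResidueField A)) :=
    rTensor_exact (IsLocalRing.ResidueField A) hex2 hsurj2
  have hqsurj : Function.Surjective (d.rangeRestrict.rTensor (IsLocalRing.ResidueField A)) :=
    LinearMap.rTensor_surjective (IsLocalRing.ResidueField A) hsurj2
  refine ⟨⟨E1.trans E2⟩, ?_, ?_⟩
  · rintro _ ⟨x, rfl⟩
    rw [LinearMap.mem_ker, hcomp, LinearMap.comp_apply, hexq.apply_apply_eq_zero, map_zero]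
  · obtain ⟨E4⟩ := nonempty_quot_ker_equiv (d.rTensor (IsLocalRing.ResidueField A))
      (d.rangeRestrict.rTensor (IsLocalRing.ResidueField A))
      ((LinearMap.range d).subtype.rTensor (IsLocalRing.ResidueField A))
      ((LinearMap.ker d).subtype.rTensor (IsLocalRing.ResidueField A)) hcomp hexq hqsurj
    exact ⟨E4.trans E3⟩

end Groth.Agent.S4499
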