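import Groth.Statements.S4539
import Mathlib
import Groth.Agent.Lib.Helper25NilHopf

set_option autoImplicit false
set_option linter.style.haveILetI false
universe u
open EGA41

namespace Groth.Agent.S4539

section Helpers
open IsLocalRing

/-- In a Noetherian local ring whose maximal ideal is generated by a non-zero-divisor, every
nonzero element is a unit times a power of the generator. -/
theorem exists_unit_mul_pow {A : Type*} [CommRing A] [IsLocalRing A] [IsNoetherianRing A]
    (π : A) (hπ : maximalIdeal A = Ideal.span {π}) (x : A) (hx : x ≠ 0) :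
    ∃ (n : ℕ) (u : A), IsUnit u ∧ x = u * π ^ n := by
  have hK : ⨅ i : ℕ, (maximalIdeal A) ^ i = ⊥ :=
    Ideal.iInf_pow_eq_bot_of_isLocalRing _ (Ideal.IsPrime.ne_top inferInstance)
  have hex : ∃ n : ℕ, x ∉ (maximalIdeal A) ^ n := by
    by_contra hcon
    push Not at hcon
    have : x ∈ ⨅ i : ℕ, (maximalIdeal A) ^ i := by
      rw [Ideal.mem_iInf]; exact hcon
    rw [hK] at this
    exact hx (by simpa using this)
  classical
  let n := Nat.find hex
  have hn : x ∉ (maximalIdeal A) ^ n := Nat.find_spec hex
  have hn0 : n ≠ 0 := by
    intro h0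
    rw [h0, pow_zero, Ideal.one_eq_top] at hn
    exact hn trivial
  obtain ⟨m, hm⟩ := Nat.exists_eq_succ_of_ne_zero hn0
  have hmem : x ∈ (maximalIdeal A) ^ m := by
    by_contra hcon
    have := Nat.find_min' hex hcon
    omega
  rw [hπ, Ideal.span_singleton_pow, Ideal.mem_span_singleton'] at hmem
  obtain ⟨u, hu⟩ := hmem
  refine ⟨m, u, ?_, hu.symm⟩
  by_contra hnu
  have hum : u ∈ maximalIdeal A := (IsLocalRing.mem_maximalIdeal u).mpr hnu
  rw [hπ, Ideal.mem_span_singleton'] at hum
  obtain ⟨v, hv⟩ := hum
  apply hn
  rw [hm, hπ, Ideal.span_singleton_pow, Ideal.mem_span_singleton']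
  exact ⟨v, by rw [← hu, ← hv, pow_succ]; ring⟩

theorem isDomain_of_principal {A : Type*} [CommRing A] [IsLocalRing A] [IsNoetherianRing A]
    (π : A) (hπ : maximalIdeal A = Ideal.span {π}) (hreg : IsSMulRegular A π) : IsDomain A := by
  have hpow : ∀ n : ℕ, IsSMulRegular A (π ^ n) := fun n => hreg.pow n
  haveI : NoZeroDivisors A := by
    refine ⟨fun {a b} hab => ?_⟩
    by_contra hcon
    push Not at hcon
    obtain ⟨n, u, hu, rfl⟩ := exists_unit_mul_pow π hπ a hcon.1
    obtain ⟨m, v, hv, rfl⟩ := exists_unit_mul_pow π hπ b hcon.2
    have h1 : (u * v) * π ^ (n + m) = 0 := by rw [← hab, pow_add]; ring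
    have h2 : π ^ (n + m) = 0 := by
      have := (hu.mul hv).mul_right_eq_zero.mp (by rw [mul_comm] at h1; rw [mul_comm]; exact h1)
      exact this
    have h3 : (π ^ (n + m)) • (1 : A) = (π ^ (n + m)) • (0 : A) := by simp [h2]
    exact one_ne_zero (hpow (n + m) h3)
  exact NoZeroDivisors.to_isDomain A

abbrev P (p : ℕ) [hp : (Ideal.span {(p : ℤ)}).IsPrime] : Type :=
  Localization.AtPrime (Ideal.span {(p : ℤ)})

theorem maximalIdeal_P (p : ℕ) [hp : (Ideal.span {(p : ℤ)}).IsPrime] :
    maximalIdeal (P p) = Ideal.span {(p : P p)} := by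
  rw [← Localization.AtPrime.map_eq_maximalIdeal, Ideal.map_span, Set.image_singleton]
  simp

theorem map_maximalIdeal_P (p : ℕ) [hp : (Ideal.span {(p : ℤ)}).IsPrime]
    {A : Type} [CommRing A] [Algebra (P p) A] :
    (maximalIdeal (P p)).map (algebraMap (P p) A) = Ideal.span {(p : A)} := by
  rw [maximalIdeal_P, Ideal.map_span, Set.image_singleton]
  simp

theorem prime_of_ne_zero (p : ℕ) [hp : (Ideal.span {(p : ℤ)}).IsPrime] (h0 : p ≠ 0) : p.Prime := by
  have h1 : (p : ℤ) ≠ 0 := by exact_mod_cast h0
  have := (Ideal.span_singleton_prime h1).mp hp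
  exact Nat.prime_iff_prime_int.mpr this

theorem finite_residueField_P (p : ℕ) [hp : (Ideal.span {(p : ℤ)}).IsPrime] (h0 : p ≠ 0) :
    Finite (ResidueField (P p)) := by
  have h1 : (p : ℤ) ≠ 0 := by exact_mod_cast h0
  have hpr := prime_of_ne_zero p h0
  haveI : (Ideal.span {(p : ℤ)}).IsMaximal := by
    have := (Ideal.span_singleton_prime h1).mp hp
    exact PrincipalIdealRing.isMaximal_of_irreducible this.irreducible
  let e := IsLocalization.AtPrime.equivQuotMaximalIdeal (Ideal.span {(p : ℤ)}) (P p)
  haveI : Finite (ℤ ⧸ Ideal.span {(p : ℤ)}) := by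
    haveI : NeZero p := ⟨h0⟩
    exact Finite.of_equiv _ (Int.quotientSpanNatEquivZMod p).symm.toEquiv
  exact Finite.of_equiv _ e.toEquiv

/-- the residue field of `ℤ_(p)` is perfect -/
theorem perfectField_residueField_P (p : ℕ) [hp : (Ideal.span {(p : ℤ)}).IsPrime]
    {A : Type} [CommRing A] [IsLocalRing A] [CharP (ResidueField A) p]
    [Algebra (P p) A] [IsLocalHom (algebraMap (P p) A)] :
    PerfectField (ResidueField (P p)) := by
  by_cases h0 : p = 0
  · subst h0
    haveI : CharZero (ResidueField A) := CharP.charP_to_charZero _
    haveI : CharZero (ResidueField (P 0)) :=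
      (ResidueField.map (algebraMap (P 0) A)).charZero
    infer_instance
  · haveI := finite_residueField_P p h0
    infer_instance

theorem flat_P (p : ℕ) [hp : (Ideal.span {(p : ℤ)}).IsPrime]
    {A : Type} [CommRing A] [IsDomain A] [CharZero A] [Algebra (P p) A] : Module.Flat (P p) A := by
  have tower : @IsScalarTower ℤ (P p) A Algebra.toSMul Algebra.toSMul Algebra.toSMul :=
    IsScalarTower.of_algebraMap_eq' (RingHom.ext_int _ _)
  have h := @Module.flat_iff_of_isLocalization ℤ (P p) _ _ _ (Ideal.span {(p : ℤ)}).primeCompl _ A _ _ _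
    tower
  rw [h]
  infer_instance



end Helpers

open IsLocalRing in
/-- Let A be a local ring with residue characteristic p (p = 0 or a prime), P the prime local ring ℤ_(p)
(ℚ if p = 0) and P → A its unique local homomorphism. Then A is a Cohen ring, i.e. a Cohen P-algebra
— Noetherian and complete, flat over P, with pA its maximal ideal (and residue field separable over
the prime field) — if and only if A is a field of characteristic 0 or a complete discrete valuation
ring of residue characteristic > 0 whose maximal ideal is generated by p·1. -/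
theorem result (p : ℕ) [hp : (Ideal.span {(p : ℤ)}).IsPrime]
    {A : Type} [CommRing A] [IsLocalRing A] [CharP (ResidueField A) p]
    [Algebra (Localization.AtPrime (Ideal.span {(p : ℤ)})) A]
    [IsLocalHom (algebraMap (Localization.AtPrime (Ideal.span {(p : ℤ)})) A)] :
    EGA41.IsCohenAlgebra (Localization.AtPrime (Ideal.span {(p : ℤ)})) A ↔ EGA41.IsCohenRingEGA A := by
  have hmapmax := map_maximalIdeal_P p (A := A)
  have hperf : PerfectField (ResidueField (P p)) := perfectField_residueField_P p (A := A)
  have hgr : Algebra.IsGeometricallyReduced (ResidueField (P p)) (ResidueField A) :=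
    Groth.Agent.Lib.Helper25.NilHopf.isGeometricallyReduced_of_perfectField _ _
  have hNP : IsNoetherianRing (P p) :=
    IsLocalization.isNoetherianRing (Ideal.span {(p : ℤ)}).primeCompl _ inferInstance
  constructor
  · rintro ⟨-, hNA, hcompl, hflat, hmax, -⟩
    rw [hmapmax] at hmax
    by_cases h0 : p = 0
    · left
      subst h0
      have hbot : maximalIdeal A = ⊥ := by
        rw [← hmax]; simp
      refine ⟨(IsLocalRing.isField_iff_maximalIdeal_eq).mpr hbot, ?_⟩
      haveI : CharZero (ResidueField A) := CharP.charP_to_charZero _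
      exact (IsLocalRing.residue A).charZero
    · right
      have hpr := prime_of_ne_zero p h0
      have hregP : IsSMulRegular (P p) (p : P p) := by
        have hne : (p : P p) ≠ 0 := by
          have : (algebraMap ℤ (P p)) (p : ℤ) ≠ 0 := by
            rw [Ne, IsLocalization.to_map_eq_zero_iff (P p)
              (Ideal.primeCompl_le_nonZeroDivisors (Ideal.span {(p : ℤ)}))]
            exact_mod_cast h0
          simpa using this
        exact (IsRegular.of_ne_zero hne).left.isSMulRegular
      have hreg : IsSMulRegular A (p : A) := by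
        have := hregP.of_flat (S := A)
        simpa using this
      have hdom : IsDomain A := isDomain_of_principal (p : A) hmax.symm hreg
      have hne : (p : A) ≠ 0 := by
        intro h
        have h3 : (p : A) • (1 : A) = (p : A) • (0 : A) := by simp [h]
        exact one_ne_zero (hreg h3)
      have hnf : ¬ IsField A := by
        rw [IsLocalRing.isField_iff_maximalIdeal_eq, ← hmax]
        intro h
        rw [Ideal.span_singleton_eq_bot] at h
        exact hne h
      have hdvr : IsDiscreteValuationRing A := by
        have := ((IsDiscreteValuationRing.TFAE A hnf).out 0 4).mpr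
        exact this ⟨⟨(p : A), hmax.symm⟩⟩
      exact ⟨hdom, hdvr, hcompl, p, hpr, hmax.symm⟩
  · rintro (⟨hfield, hchar⟩ | ⟨hdom, hdvr, hcompl, q, hq, hmax⟩)
    · have hbot : maximalIdeal A = ⊥ := (IsLocalRing.isField_iff_maximalIdeal_eq).mp hfield
      have hp0 : p = 0 := by
        haveI : CharZero (ResidueField A) := by
          have hinj : Function.Injective (IsLocalRing.residue A) := by
            rw [RingHom.injective_iff_ker_eq_bot, IsLocalRing.ker_residue, hbot]
          exact charZero_of_injective_ringHom hinj
        exact CharP.eq (ResidueField A) inferInstance (CharP.ofCharZero _)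
      letI := hfield.toField
      refine ⟨hNP, inferInstance, ?_, ?_, ?_, hgr⟩
      · rw [hbot]; infer_instance
      · haveI : IsDomain A := hfield.isDomain
        exact flat_P p
      · rw [hmapmax, hbot, hp0]; simp
    · have hpq : p = q := by
        have hqm : (q : A) ∈ maximalIdeal A := by rw [hmax]; exact Ideal.subset_span rfl
        have h1 : ((q : ℕ) : ResidueField A) = 0 := by
          have := (IsLocalRing.residue_eq_zero_iff (q : A)).mpr hqm
          simpa using this
        have h2 : p ∣ q := (CharP.cast_eq_zero_iff (ResidueField A) p q).mp h1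
        rcases (Nat.dvd_prime hq).mp h2 with h | h
        · exact absurd h (CharP.char_ne_one (ResidueField A) p)
        · exact h
      subst hpq
      have hnf : ¬ IsField A := IsDiscreteValuationRing.not_isField A
      have hne : (p : A) ≠ 0 := by
        intro h
        apply hnf
        rw [IsLocalRing.isField_iff_maximalIdeal_eq, hmax, h]
        simp
      haveI : CharZero A := by
        obtain ⟨c, hc⟩ := CharP.exists A
        rcases CharP.char_is_prime_or_zero A c with hcp | hc0
        · exfalso
          have h1 : ((c : ℕ) : ResidueField A) = 0 := by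
            have h0 : ((c : ℕ) : A) = 0 := CharP.cast_eq_zero A c
            have h00 := congrArg (IsLocalRing.residue A) h0
            rw [map_natCast, map_zero] at h00
            exact h00
          have h2 : p ∣ c := (CharP.cast_eq_zero_iff (ResidueField A) p c).mp h1
          rcases (Nat.dvd_prime hcp).mp h2 with h | h
          · exact absurd h (CharP.char_ne_one (ResidueField A) p)
          · subst h
            exact hne (CharP.cast_eq_zero A p)
        · subst hc0
          exact CharP.charP_to_charZero A
      refine ⟨hNP, inferInstance, hcompl, flat_P p, ?_, hgr⟩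
      rw [hmapmax, hmax]


end Groth.Agent.S4539
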