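import Groth.Statements.S4647
import Mathlib.AlgebraicGeometry.Properties
import Mathlib.AlgebraicGeometry.Stalk
import Mathlib.Topology.Sober
import Mathlib.RingTheory.Flat.FaithfullyFlat.Algebra

set_option autoImplicit false
open CategoryTheory AlgebraicGeometry
universe u
open FDesc

namespace Groth.Agent.S4647

/-- the stalk maps of a flat morphism are injective -/
theorem stalkMap_injective_of_flat {X Y : Scheme.{u}} (f : X ⟶ Y) [Flat f] (x : X) :
    Function.Injective (f.stalkMap x).hom := by
  algebraize [(f.stalkMap x).hom]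
  have : Module.FaithfullyFlat (Y.presheaf.stalk (f x)) (X.presheaf.stalk x) :=
    @Module.FaithfullyFlat.of_flat_of_isLocalHom _ _ _ _ _ _ _
      (Flat.stalkMap f x) (f.toLRSHom.prop x)
  exact (FaithfulSMul.algebraMap_injective _ _)

/-- if the local ring at `y` is a domain, there is a generization of `y` which generizes every
generization of `y`. -/
theorem exists_least_generization {Y : Scheme.{u}} (y : Y) [IsDomain (Y.presheaf.stalk y)] :
    ∃ η₀ : Y, η₀ ⤳ y ∧ ∀ η : Y, η ⤳ y → η₀ ⤳ η := by
  let φ := Y.fromSpecStalk y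
  let b : PrimeSpectrum (Y.presheaf.stalk y) := ⟨⊥, Ideal.isPrime_bot⟩
  have hrange : Set.range φ = {x | x ⤳ y} := Scheme.range_fromSpecStalk
  refine ⟨φ b, ?_, fun η hη => ?_⟩
  · have : φ b ∈ Set.range φ := ⟨b, rfl⟩
    rw [hrange] at this
    exact this
  · have : η ∈ Set.range φ := by rw [hrange]; exact hη
    obtain ⟨q, rfl⟩ := this
    have hbq : @Specializes (Spec (Y.presheaf.stalk y)) _ b q :=
      (PrimeSpectrum.le_iff_specializes (R := Y.presheaf.stalk y) b q).mp bot_le
    exact hbq.map φ.continuous

/-- topological step: a point of a locally Noetherian quasi-sober space with a least generization has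
an open neighbourhood contained in the closure of that generization. -/
theorem exists_open_subset_closure {T : Type*} [TopologicalSpace T] [QuasiSober T]
    (U₀ : Set T) (hU₀ : IsOpen U₀) [TopologicalSpace.NoetherianSpace U₀] (y : T) (hy : y ∈ U₀)
    (η₀ : T) (hη₀ : ∀ η : T, η ⤳ y → η₀ ⤳ η) :
    ∃ V : Set T, IsOpen V ∧ y ∈ V ∧ V ⊆ closure {η₀} := by
  have : QuasiSober U₀ := hU₀.isOpenEmbedding_subtypeVal.quasiSober
  let y' : U₀ := ⟨y, hy⟩
  let 𝒞 : Set (Set U₀) := {C ∈ irreducibleComponents U₀ | y' ∉ C}
  have hfin : 𝒞.Finite :=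
    (TopologicalSpace.NoetherianSpace.finite_irreducibleComponents).subset (Set.sep_subset _ _)
  let C' : Set U₀ := ⋃₀ 𝒞
  have hC'closed : IsClosed C' := by
    rw [show C' = ⋃ C ∈ 𝒞, (C : Set U₀) from Set.sUnion_eq_biUnion]
    exact hfin.isClosed_biUnion (fun C hC => isClosed_of_mem_irreducibleComponents C hC.1)
  refine ⟨Subtype.val '' C'ᶜ, hU₀.isOpenMap_subtype_val _ hC'closed.isOpen_compl, ⟨y', ?_, rfl⟩, ?_⟩
  · rintro ⟨C, ⟨_, hyC⟩, hy'⟩
    exact hyC hy'
  · rintro _ ⟨v, hv, rfl⟩
    have hvC : irreducibleComponent v ∈ irreducibleComponents U₀ :=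
      irreducibleComponent_mem_irreducibleComponents v
    have hyC : y' ∈ irreducibleComponent v := by
      by_contra h
      exact hv ⟨_, ⟨hvC, h⟩, mem_irreducibleComponent⟩
    have hirr : IsIrreducible (irreducibleComponent v) := isIrreducible_irreducibleComponent
    have hcl : IsClosed (irreducibleComponent v) := isClosed_irreducibleComponent
    have hη : IsGenericPoint hirr.genericPoint (irreducibleComponent v) :=
      hirr.isGenericPoint_genericPoint hcl
    have h1 : hirr.genericPoint ⤳ y' := hη.specializes hyC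
    have h2 : hirr.genericPoint ⤳ v := hη.specializes mem_irreducibleComponent
    have h1' : (hirr.genericPoint : T) ⤳ y := h1.map continuous_subtype_val
    have h2' : (hirr.genericPoint : T) ⤳ v := h2.map continuous_subtype_val
    exact ((hη₀ _ h1').trans h2').mem_closure


/-- Let f : X → Y be a faithfully flat (flat and surjective) morphism. If all local rings of X are
domains (in particular if X is locally integral) and the underlying space of Y is locally
Noetherian, then Y is locally integral: every point of Y has an open neighbourhood which is an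
integral scheme. -/
theorem result {X Y : Scheme.{u}} (f : X ⟶ Y) [Flat f] [Surjective f]
    (hX : ∀ x : X, IsDomain ↑(X.presheaf.stalk x))
    (hY : ∀ y : Y, ∃ U : Y.Opens, y ∈ U ∧ TopologicalSpace.NoetherianSpace ↥U) (y : Y) :
    ∃ U : Y.Opens, y ∈ U ∧ IsIntegral (U : Scheme.{u}) := by
  -- all stalks of Y are domains
  have hdom : ∀ y : Y, IsDomain (Y.presheaf.stalk y) := by
    intro y
    obtain ⟨x, rfl⟩ := f.surjective y
    have := hX x
    exact (stalkMap_injective_of_flat f x).isDomain _
  have := hdom y
  obtain ⟨η₀, -, hη₀⟩ := exists_least_generization y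
  obtain ⟨U₀, hyU₀, hN⟩ := hY y
  obtain ⟨V, hVo, hyV, hVsub⟩ :=
    exists_open_subset_closure (U₀ : Set Y) U₀.isOpen y hyU₀ η₀ hη₀
  let W : Y.Opens := ⟨V, hVo⟩
  refine ⟨W, hyV, ?_⟩
  have hirr : IsIrreducible (V : Set Y) :=
    ⟨⟨y, hyV⟩, (isIrreducible_singleton.closure).isPreirreducible.open_subset hVo hVsub⟩
  have h1 : IrreducibleSpace ↥(W : Scheme.{u}) := Subtype.irreducibleSpace hirr
  have h2 : IsReduced (W : Scheme.{u}) := by
    have : ∀ x : (W : Scheme.{u}), _root_.IsReduced ((W : Scheme.{u}).presheaf.stalk x) := by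
      intro x
      have := hdom x.1
      have hinj : Function.Injective (W.stalkIso x).hom.hom :=
        ((ConcreteCategory.isIso_iff_bijective (W.stalkIso x).hom).mp inferInstance).1
      exact isReduced_of_injective (W.stalkIso x).hom.hom hinj
    exact isReduced_of_isReduced_stalk _
  exact isIntegral_of_irreducibleSpace_of_isReduced _

end Groth.Agent.S4647
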