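import Groth.Statements.S4648
-- import your own Groth.Agent.* helpers here
import Mathlib
import Groth.Agent.S4586
import Groth.Agent.Lib.Helper2QuasiFlat
import Groth.Agent.Lib.Helper5Closure

set_option autoImplicit false
open CategoryTheory AlgebraicGeometry
universe u
open FDesc

namespace Groth.Agent.S4648

/-- Let f : X → Y be a quasi-flat, surjective and quasi-compact morphism and Z a subset of Y. Then Z is
a locally closed pro-constructible subset of Y if and only if f⁻¹(Z) is a locally closed
pro-constructible subset of X. -/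
theorem result {X Y : Scheme.{u}} (f : X ⟶ Y)
    (hf : FDesc.IsQuasiFlat f) [Surjective f] [QuasiCompact f] (Z : Set ↥Y) :
    (IsLocallyClosed Z ∧ ProCons.IsProConstructible Z) ↔
      (IsLocallyClosed (⇑f ⁻¹' Z) ∧ ProCons.IsProConstructible (⇑f ⁻¹' Z)) := by
  have hgen : GeneralizingMap f.base :=
    Groth.Agent.Lib.Helper2.QuasiFlat.generalizingMap_of_isQuasiFlat f hf
  have hquot : Topology.IsQuotientMap f.base :=
    Groth.Agent.Lib.Helper2.QuasiFlat.isQuotientMap_of_generalizingMap f hgen
  have hpc := (Groth.Agent.S4586.result f (Or.inl inferInstance) Z).2.1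
  constructor
  · rintro ⟨h1, h2⟩
    exact ⟨h1.preimage f.continuous, hpc.mp h2⟩
  · rintro ⟨h1, h2⟩
    have hZ : ProCons.IsProConstructible Z := hpc.mpr h2
    refine ⟨?_, hZ⟩
    -- preimage commutes with closure
    have hcl : (⇑f ⁻¹' closure Z : Set X) = closure (⇑f ⁻¹' Z) := by
      apply subset_antisymm
      · intro x hx
        obtain ⟨z, hzZ, hz⟩ :=
          Groth.Agent.Lib.Helper5.exists_specializes_of_mem_closure Y Z hZ (f x) hx
        obtain ⟨x', hx', hfx'⟩ := hgen hz
        have h3 : x' ∈ (⇑f ⁻¹' Z : Set X) := by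
          change f x' ∈ Z
          rw [show f x' = z from hfx']
          exact hzZ
        exact closure_mono (Set.singleton_subset_iff.2 h3) (specializes_iff_mem_closure.1 hx')
      · exact f.continuous.closure_preimage_subset _
    rw [isLocallyClosed_iff_isOpen_coborder] at h1 ⊢
    rw [← hquot.isOpen_preimage]
    have hco : (⇑f ⁻¹' coborder Z : Set X) = coborder (⇑f ⁻¹' Z) := by
      simp only [coborder, Set.preimage_compl, Set.preimage_sdiff, hcl]
    change IsOpen (⇑f ⁻¹' coborder Z)
    rw [hco]
    exact h1

end Groth.Agent.S4648
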