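import Groth.Statements.S4681
import Mathlib

set_option autoImplicit false
open CategoryTheory AlgebraicGeometry
universe u
open FDesc

namespace Groth.Agent.S4681

section alg
open TensorProduct

/-- If `M` is faithfully flat over `S` and flat over `R` then `S` is flat over `R`
(copied from `Helper5LocalFlat`). -/
theorem flat_of_faithfullyFlat_of_flat {R S M : Type*} [CommRing R] [CommRing S] [Algebra R S]
    [AddCommGroup M] [Module R M] [Module S M] [IsScalarTower R S M]
    [Module.FaithfullyFlat S M] [Module.Flat R M] :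
    Module.Flat R S := by
  rw [Module.Flat.iff_lTensor_preserves_injective_linearMap]
  intro N N' _ _ _ _ f hf
  let g : S ⊗[R] N →ₗ[S] S ⊗[R] N' :=
    TensorProduct.AlgebraTensorModule.map (LinearMap.id : S →ₗ[S] S) f
  suffices h : Function.Injective g from h
  rw [← Module.FaithfullyFlat.lTensor_injective_iff_injective S M]
  let c := TensorProduct.AlgebraTensorModule.cancelBaseChange R S S M N
  let c' := TensorProduct.AlgebraTensorModule.cancelBaseChange R S S M N'
  have hsq : ∀ w, c' (g.lTensor M w) = f.lTensor M (c w) := by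
    intro w
    induction w with
    | zero => simp
    | add a b ha hb => simp only [map_add, ha, hb]
    | tmul m t =>
      induction t with
      | zero => simp
      | add a b ha hb => simp only [tmul_add, map_add, ha, hb]
      | tmul s n =>
        simp only [c, c', g, LinearMap.lTensor_tmul, TensorProduct.AlgebraTensorModule.map_tmul,
          TensorProduct.AlgebraTensorModule.cancelBaseChange_tmul, LinearMap.id_apply]
  intro w₁ w₂ h
  have h1 : f.lTensor M (c w₁) = f.lTensor M (c w₂) := by rw [← hsq, ← hsq, h]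
  have h2 : c w₁ = c w₂ :=
    Module.Flat.lTensor_preserves_injective_linearMap (M := M) f hf h1
  exact c.injective h2

variable {C B A M : Type u} [CommRing C] [CommRing B] [CommRing A] [AddCommGroup M] [Module A M]

theorem flat_comp (φ : C →+* B) (ψ : B →+* A) (χ : C →+* A) (h : χ = ψ.comp φ) (hφ : φ.Flat)
    (hM : @Module.Flat B M _ _ (Module.compHom M ψ)) :
    @Module.Flat C M _ _ (Module.compHom M χ) := by
  subst h
  letI := φ.toAlgebra
  letI : Module B M := Module.compHom M ψ
  letI : Module C M := Module.compHom M (ψ.comp φ)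
  haveI : IsScalarTower C B M := ⟨fun c b m => by
    change ψ (φ c * b) • m = ψ (φ c) • (ψ b • m)
    rw [map_mul, mul_smul]⟩
  haveI : Module.Flat C B := hφ
  exact Module.Flat.trans C B M

theorem flat_of_comp [IsLocalRing B] (φ : C →+* B) (ψ : B →+* A) (χ : C →+* A)
    (h : χ = ψ.comp φ)
    (hM : @Module.Flat B M _ _ (Module.compHom M ψ))
    (hne : letI := Module.compHom M ψ
      IsLocalRing.maximalIdeal B • (⊤ : Submodule B M) ≠ ⊤)
    (hC : @Module.Flat C M _ _ (Module.compHom M χ)) : φ.Flat := by
  subst h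
  letI := φ.toAlgebra
  letI : Module B M := Module.compHom M ψ
  letI : Module C M := Module.compHom M (ψ.comp φ)
  haveI : IsScalarTower C B M := ⟨fun c b m => by
    change ψ (φ c * b) • m = ψ (φ c) • (ψ b • m)
    rw [map_mul, mul_smul]⟩
  haveI : Module.Flat B M := hM
  haveI : Module.Flat C M := hC
  haveI : Module.FaithfullyFlat B M := ⟨fun m hm => by
    rw [IsLocalRing.eq_maximalIdeal hm]; exact hne⟩
  exact flat_of_faithfullyFlat_of_flat (R := C) (S := B) (M := M)

theorem smul_top_ne_top_of_comp [IsLocalRing B] [IsLocalRing C] (φ : C →+* B) [IsLocalHom φ]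
    (ψ : B →+* A) (χ : C →+* A) (h : χ = ψ.comp φ)
    (hne : letI := Module.compHom M ψ
      IsLocalRing.maximalIdeal B • (⊤ : Submodule B M) ≠ ⊤) :
    letI := Module.compHom M χ
    IsLocalRing.maximalIdeal C • (⊤ : Submodule C M) ≠ ⊤ := by
  subst h
  letI : Module B M := Module.compHom M ψ
  letI : Module C M := Module.compHom M (ψ.comp φ)
  intro htop
  apply hne
  rw [eq_top_iff]
  intro m _
  have hm : m ∈ IsLocalRing.maximalIdeal C • (⊤ : Submodule C M) := by rw [htop]; trivial
  refine Submodule.smul_induction_on hm (fun c hc n _ => ?_) (fun a b ha hb => Submodule.add_mem _ ha hb)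
  have hφc : φ c ∈ IsLocalRing.maximalIdeal B := by
    rw [IsLocalRing.mem_maximalIdeal] at hc ⊢
    exact fun hu => hc (isUnit_of_map_unit φ c hu)
  have : c • n = φ c • n := rfl
  rw [this]
  exact Submodule.smul_mem_smul hφc trivial

end alg

/-- Let f : X → Y and g : Y → Z be morphisms of schemes and F a quasi-coherent O_X-module which is
faithfully flat relative to Y: flat over Y, and for every point y of Y there is a point x over y
with F_x ⊗ κ(y) ≠ 0. Then g is flat and surjective (faithfully flat) if and only if F is faithfully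
flat relative to Z for the morphism f followed by g: flat over Z, and for every point z of Z there
is a point x of X over z with F_x ⊗ κ(z) ≠ 0. -/
theorem result {X Y Z : Scheme.{u}} (f : X ⟶ Y) (g : Y ⟶ Z)
    (F : X.Modules) (hF : Coh.IsQCoh F) (hFfl : FlatMod.IsFlatOver f F)
    (hFff : (∀ y : ↥Y, ∃ x : ↥X, f x = y ∧
      letI := FlatMod.moduleStalkOver f F x
      IsLocalRing.maximalIdeal (Y.presheaf.stalk (f x)) • (⊤ : Submodule (Y.presheaf.stalk (f x)) (F.presheaf.stalk x)) ≠ ⊤)) :
    (Flat g ∧ Surjective g) ↔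
      (FlatMod.IsFlatOver (f ≫ g) F ∧
        (∀ z : ↥Z, ∃ x : ↥X, (f ≫ g) x = z ∧
      letI := FlatMod.moduleStalkOver (f ≫ g) F x
      IsLocalRing.maximalIdeal (Z.presheaf.stalk ((f ≫ g) x)) • (⊤ : Submodule (Z.presheaf.stalk ((f ≫ g) x)) (F.presheaf.stalk x)) ≠ ⊤)) := by
  have hcomp : ∀ x : X, ((f ≫ g).stalkMap x).hom =
      (f.stalkMap x).hom.comp (g.stalkMap (f x)).hom := by
    intro x
    rw [Scheme.Hom.stalkMap_comp]; rfl
  constructor
  · rintro ⟨hg, hs⟩
    refine ⟨fun x => ?_, fun z => ?_⟩
    · exact flat_comp (g.stalkMap (f x)).hom (f.stalkMap x).hom ((f ≫ g).stalkMap x).hom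
        (hcomp x) (Flat.stalkMap g (f x)) (hFfl x)
    · obtain ⟨y, rfl⟩ := hs.surj z
      obtain ⟨x, rfl, hne⟩ := hFff y
      refine ⟨x, rfl, ?_⟩
      exact smul_top_ne_top_of_comp (g.stalkMap (f x)).hom (f.stalkMap x).hom
        ((f ≫ g).stalkMap x).hom (hcomp x) hne
  · rintro ⟨hfl, hff⟩
    refine ⟨?_, ⟨fun z => ?_⟩⟩
    · rw [Flat.iff_flat_stalkMap]
      intro y
      obtain ⟨x, rfl, hne⟩ := hFff y
      exact flat_of_comp (g.stalkMap (f x)).hom (f.stalkMap x).hom ((f ≫ g).stalkMap x).hom
        (hcomp x) (hFfl x) hne (hfl x)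
    · obtain ⟨x, hx, -⟩ := hff z
      exact ⟨f x, hx⟩

end Groth.Agent.S4681
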