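import Groth.Statements.S4682
import Mathlib
import Groth.Agent.Lib.Helper11RedCl
import Groth.Agent.Lib.Helper12GeomReduced

set_option autoImplicit false
open CategoryTheory AlgebraicGeometry
universe u
open FBase

namespace Groth.Agent.S4682

/-- Let Y be a scheme over a field K', let K be an extension field of K' which is separable over K'
(Spec K → Spec K' is geometrically reduced), let g : Y ⊗_{K'} K → Y be the projection and T a closed
subset of Y ⊗_{K'} K. Then T is defined over K' as a closed subset, that is T = g⁻¹(T') for some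
closed subset T' of Y, if and only if the reduced closed subscheme of Y ⊗_{K'} K with support T is
defined over K', that is, there is a quasi-coherent ideal sheaf of O_Y whose inverse image in Y
⊗_{K'} K is the vanishing ideal sheaf of T. -/
theorem result {K' K : Type u} [Field K'] [Field K] [Algebra K' K]
    {Y : Scheme.{u}} (fY : Y ⟶ Spec (CommRingCat.of K'))
    [GeometricallyReduced (Spec.map (CommRingCat.ofHom (algebraMap K' K)))]
    (T : TopologicalSpace.Closeds ↥(FBase.bc fY K)) :
    (∃ T' : TopologicalSpace.Closeds ↥Y, (T : Set ↥(FBase.bc fY K)) = ⇑(FBase.bcπ fY K) ⁻¹' (T' : Set ↥Y)) ↔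
      ∃ J : Y.IdealSheafData, J.comap (FBase.bcπ fY K) = Scheme.IdealSheafData.vanishingIdeal T := by
  open CategoryTheory.Limits Scheme.IdealSheafData in
  constructor
  · rintro ⟨T', hT'⟩
    let g : Spec (CommRingCat.of K) ⟶ Spec (CommRingCat.of K') :=
      Spec.map (CommRingCat.ofHom (algebraMap K' K))
    let J : Y.IdealSheafData := vanishingIdeal T'
    refine ⟨J, ?_⟩
    haveI : AlgebraicGeometry.IsReduced J.subscheme :=
      Groth.Agent.Lib.Helper11RedCl.isReduced_subscheme_vanishingIdeal T'
    haveI : AlgebraicGeometry.IsReduced (pullback g (J.subschemeι ≫ fY)) :=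
      Groth.Agent.Lib.Helper12.GR.isReduced_pullback g (J.subschemeι ≫ fY)
    let e : pullback (FBase.bcπ fY K) J.subschemeι ≅ pullback g (J.subschemeι ≫ fY) :=
      pullbackSymmetry _ _ ≪≫ pullbackRightPullbackFstIso fY g J.subschemeι ≪≫ pullbackSymmetry _ _
    haveI : AlgebraicGeometry.IsReduced (pullback (FBase.bcπ fY K) J.subschemeι) :=
      isReduced_of_isOpenImmersion e.hom
    haveI : AlgebraicGeometry.IsReduced (J.comap (FBase.bcπ fY K)).subscheme :=
      isReduced_of_isOpenImmersion (J.comapIso (FBase.bcπ fY K)).hom
    have h1 := Groth.Agent.Lib.Helper11RedCl.ker_eq_of_isReduced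
      (J.comap (FBase.bcπ fY K)).subschemeι
    rw [ker_subschemeι] at h1
    rw [h1]
    congr 1
    ext1
    rw [TopologicalSpace.Closeds.coe_closure, range_subschemeι, support_comap,
      TopologicalSpace.Closeds.coe_preimage, coe_support_vanishingIdeal, hT']
    exact ((T'.isClosed.preimage (FBase.bcπ fY K).continuous)).closure_eq
  · rintro ⟨J, hJ⟩
    refine ⟨J.support, ?_⟩
    have h1 : (T : Set ↥(FBase.bc fY K)) =
        ((vanishingIdeal T).support : Set ↥(FBase.bc fY K)) := by
      rw [coe_support_vanishingIdeal]
    rw [h1, ← hJ, support_comap]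
    rfl

end Groth.Agent.S4682
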