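import Groth.Statements.S4732
import Mathlib

set_option autoImplicit false
set_option linter.style.haveILetI false
universe u
open EGA4

namespace Groth.Agent.S4732

open AlgebraicGeometry CategoryTheory in
/-- Let k be a field, X a scheme locally of finite type over k and x a point of X. Then there are an
open neighbourhood U of x, a k-scheme Y all of whose local rings are regular, and an immersion U → Y
compatible with the structure morphisms to Spec k. -/
theorem result (k : Type u) [Field k] {X : Scheme.{u}}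
    (f : X ⟶ Spec (CommRingCat.of k)) [LocallyOfFiniteType f] (x : X) :
    ∃ (U : X.Opens) (_ : x ∈ U) (Y : Scheme.{u}) (g : Y ⟶ Spec (CommRingCat.of k)) (i : (U : Scheme.{u}) ⟶ Y),
      IsImmersion i ∧ i ≫ g = U.ι ≫ f ∧ ∀ y : Y, IsRegularLocalRing (Y.presheaf.stalk y) := by
  -- affine open neighbourhood
  obtain ⟨U, hU, hxU, -⟩ := exists_isAffineOpen_mem_and_subset (x := x) (U := ⊤) trivial
  haveI : IsAffine (U : Scheme.{u}) := hU
  let h : (U : Scheme.{u}) ⟶ Spec (CommRingCat.of k) := U.ι ≫ f
  haveI : LocallyOfFiniteType h := inferInstanceAs (LocallyOfFiniteType (U.ι ≫ f))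
  let ψ : CommRingCat.of k ⟶ Γ((U : Scheme.{u}), ⊤) := (Scheme.ΓSpecIso (CommRingCat.of k)).inv ≫ h.appTop
  have hh : h = (U : Scheme.{u}).isoSpec.hom ≫ Spec.map ψ := by
    have := Scheme.isoSpec_hom_naturality h
    rw [Spec.map_comp, ← Scheme.isoSpec_Spec_inv, ← Category.assoc, this, Category.assoc,
      Iso.hom_inv_id, Category.comp_id]
  have hft : ψ.hom.FiniteType := by
    have h1 : h.appTop.hom.FiniteType :=
      (HasRingHomProperty.iff_of_isAffine (P := @LocallyOfFiniteType)).mp inferInstance
    have h2 : ((Scheme.ΓSpecIso (CommRingCat.of k)).inv).hom.FiniteType :=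
      RingHom.FiniteType.of_surjective _
        ((Scheme.ΓSpecIso (CommRingCat.of k)).symm.commRingCatIsoToRingEquiv.surjective)
    exact h1.comp h2
  letI : Algebra k Γ((U : Scheme.{u}), ⊤) := ψ.hom.toAlgebra
  haveI : Algebra.FiniteType k Γ((U : Scheme.{u}), ⊤) := hft
  obtain ⟨n, φ, hφ⟩ := Algebra.FiniteType.iff_quotient_mvPolynomial''.mp
    (inferInstance : Algebra.FiniteType k Γ((U : Scheme.{u}), ⊤))
  let Y : Scheme.{u} := Spec (CommRingCat.of (MvPolynomial (Fin n) k))
  let g : Y ⟶ Spec (CommRingCat.of k) :=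
    Spec.map (CommRingCat.ofHom (MvPolynomial.C : k →+* MvPolynomial (Fin n) k))
  let φ' : CommRingCat.of (MvPolynomial (Fin n) k) ⟶ Γ((U : Scheme.{u}), ⊤) :=
    CommRingCat.ofHom φ.toRingHom
  haveI : IsClosedImmersion (Spec.map φ') := IsClosedImmersion.spec_of_surjective φ' hφ
  let i : (U : Scheme.{u}) ⟶ Y := (U : Scheme.{u}).isoSpec.hom ≫ Spec.map φ'
  refine ⟨U, hxU, Y, g, i, inferInstance, ?_, ?_⟩
  · change ((U : Scheme.{u}).isoSpec.hom ≫ Spec.map φ') ≫ Spec.map _ = h
    rw [hh, Category.assoc, ← Spec.map_comp]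
    congr 2
    ext a
    exact φ.commutes a
  · intro y
    letI : Algebra (MvPolynomial (Fin n) k) ((Spec (CommRingCat.of (MvPolynomial (Fin n) k))).presheaf.stalk y) :=
      StructureSheaf.stalkAlgebra (MvPolynomial (Fin n) k) y
    haveI : IsLocalization.AtPrime
        ((Spec (CommRingCat.of (MvPolynomial (Fin n) k))).presheaf.stalk y) y.asIdeal :=
      StructureSheaf.IsLocalization.to_stalk (MvPolynomial (Fin n) k) y
    haveI : IsRegularRing (MvPolynomial (Fin n) k) := inferInstance
    haveI : IsRegularLocalRing (Localization.AtPrime y.asIdeal) :=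
      IsRegularRing.isRegularLocalRing_localization y.asIdeal
    exact IsRegularLocalRing.of_ringEquiv
      (IsLocalization.algEquiv y.asIdeal.primeCompl (Localization.AtPrime y.asIdeal)
        ((Spec (CommRingCat.of (MvPolynomial (Fin n) k))).presheaf.stalk y)).toRingEquiv

end Groth.Agent.S4732
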