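import Groth.Statements.S4790
import Groth.Agent.S4811
import Groth.Agent.Lib.Helper26ModLim2

set_option autoImplicit false
universe u
open CategoryTheory AlgebraicGeometry
open Lim8

namespace Groth.Agent.S4790

/-- Let S = lim S_i be a cofiltered limit of schemes with affine transition maps and S_{i₀} a
quasi-compact quasi-separated stage; let F₀ and G₀ be quasi-coherent O-modules of finite
presentation on S_{i₀}. Then the pullbacks of F₀ and G₀ along S ⟶ S_{i₀} are isomorphic if and only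
if, for some index j over i₀, their pullbacks along S_j ⟶ S_{i₀} are isomorphic. -/
theorem result {I : Type u} [SmallCategory I] [IsCofiltered I]
    (D : I ⥤ Scheme.{u}) (c : Limits.Cone D) (hc : Limits.IsLimit c)
    [∀ (i j : I) (f : i ⟶ j), IsAffineHom (D.map f)] (i₀ : I) [CompactSpace (D.obj i₀)]
    [QuasiSeparatedSpace (D.obj i₀)] (F₀ G₀ : (D.obj i₀).Modules)
    [Coh.IsQCoh F₀] (hF₀fp : CohB1.IsFP F₀)
    [Coh.IsQCoh G₀] (hG₀fp : CohB1.IsFP G₀) :
    Nonempty ((Scheme.Modules.pullback (c.π.app i₀)).obj F₀ ≅ (Scheme.Modules.pullback (c.π.app i₀)).obj G₀) ↔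
      ∃ (j : I) (φ : j ⟶ i₀),
        Nonempty ((Scheme.Modules.pullback (D.map φ)).obj F₀ ≅ (Scheme.Modules.pullback (D.map φ)).obj G₀) := by
  have : F₀.IsQuasicoherent := ‹Coh.IsQCoh F₀›
  have : G₀.IsQuasicoherent := ‹Coh.IsQCoh G₀›
  constructor
  · rintro ⟨h⟩
    obtain ⟨j, φ, hj, hhj⟩ := Groth.Agent.S4811.result D c hc i₀ F₀ G₀ hF₀fp h.hom
    have hiso : IsIso ((Scheme.Modules.pullback (c.π.app j)).map hj) := by
      have h1 : (Scheme.Modules.pullback (c.π.app j)).map hj =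
          ((Scheme.Modules.pullbackComp (c.π.app j) (D.map φ) ≪≫
            Scheme.Modules.pullbackCongr (c.w φ)).app F₀).hom ≫ h.hom ≫
          ((Scheme.Modules.pullbackComp (c.π.app j) (D.map φ) ≪≫
            Scheme.Modules.pullbackCongr (c.w φ)).app G₀).inv := by
        rw [← hhj]
        simp only [Category.assoc, Iso.hom_inv_id, Category.comp_id, Iso.hom_inv_id_assoc]
      rw [h1]
      infer_instance
    have := Groth.Agent.Lib.Helper26.ModLim2.compactSpace_of_hom D i₀ φ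
    have : ((Scheme.Modules.pullback (D.map φ)).obj F₀).IsQuasicoherent :=
      Groth.Agent.Lib.Helper2.PullbackSec.isQuasicoherent_pullback _ F₀
    have : ((Scheme.Modules.pullback (D.map φ)).obj G₀).IsQuasicoherent :=
      Groth.Agent.Lib.Helper2.PullbackSec.isQuasicoherent_pullback _ G₀
    obtain ⟨k, ψ, hk⟩ := Groth.Agent.Lib.Helper26.ModLim2.exists_isIso_pullback_map D c hc j
      (Groth.Agent.Helper18Strict.isFT_of_isFP _
        (Groth.Agent.Helper18Strict.isFP_pullback (D.map φ) F₀ hF₀fp))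
      (Groth.Agent.Helper18Strict.isFP_pullback (D.map φ) G₀ hG₀fp) hj hiso
    refine ⟨k, ψ ≫ φ, ⟨?_⟩⟩
    exact ((Groth.Agent.Lib.Helper26.ModLim2.compIso (D.map ψ) (D.map φ) (D.map (ψ ≫ φ))
        (D.map_comp _ _).symm).app F₀).symm ≪≫
      asIso ((Scheme.Modules.pullback (D.map ψ)).map hj) ≪≫
      (Groth.Agent.Lib.Helper26.ModLim2.compIso (D.map ψ) (D.map φ) (D.map (ψ ≫ φ))
        (D.map_comp _ _).symm).app G₀
  · rintro ⟨j, φ, ⟨e⟩⟩
    exact ⟨((Groth.Agent.Lib.Helper26.ModLim2.compIso (c.π.app j) (D.map φ) (c.π.app i₀)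
        (c.w φ)).app F₀).symm ≪≫ (Scheme.Modules.pullback (c.π.app j)).mapIso e ≪≫
      (Groth.Agent.Lib.Helper26.ModLim2.compIso (c.π.app j) (D.map φ) (c.π.app i₀)
        (c.w φ)).app G₀⟩

end Groth.Agent.S4790
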