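import Groth.Statements.S4833
import Groth.Agent.Lib.H9FCM11
import Groth.Agent.Lib.Helper2FlatOver3
import Groth.Agent.Lib.Helper6ConsNhd
import Groth.Agent.Lib.Helper5LocusGeneric

set_option autoImplicit false
open CategoryTheory AlgebraicGeometry
universe u
open Topology
open Cons9

namespace Groth.Agent.S4833

open CategoryTheory.Limits in
/-- Let S be an integral Noetherian scheme with generic point η, let g : X ⟶ Y be an S-morphism between
schemes of finite type over S (structure morphisms h : Y ⟶ S and g ≫ h), and let F be a coherent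
O_X-module. For s in S write g_s : X_s ⟶ Y_s for the morphism induced on the fibres over s and F_s
for the pullback of F to X_s. If F_η is not flat relative to g_η (not flat over O_{Y_η, g_η(x)} at
some point x of X_η), then there is an open neighbourhood U of η such that for every s in U the
module F_s is not flat relative to g_s. -/
theorem result {X Y S : Scheme.{u}} [IsIntegral S] [IsNoetherian S]
    (g : X ⟶ Y) (h : Y ⟶ S) [LocallyOfFiniteType h] [QuasiCompact h]
    [LocallyOfFiniteType (g ≫ h)] [QuasiCompact (g ≫ h)]
    (F : X.Modules) [Coh.IsQCoh F] (hF : CohB1.IsFP F)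
    (hη : ¬ FlatMod.IsFlatOver
      (pullback.lift (pullback.fst (g ≫ h) (S.fromSpecResidueField (genericPoint S)) ≫ g)
          (pullback.snd (g ≫ h) (S.fromSpecResidueField (genericPoint S)))
          ((Category.assoc _ _ _).trans pullback.condition) :
        pullback (g ≫ h) (S.fromSpecResidueField (genericPoint S)) ⟶ pullback h (S.fromSpecResidueField (genericPoint S)))
      ((Scheme.Modules.pullback (pullback.fst (g ≫ h) (S.fromSpecResidueField (genericPoint S)))).obj F)) :
    ∃ U : S.Opens, genericPoint S ∈ U ∧ ∀ s ∈ U, ¬ FlatMod.IsFlatOver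
      (pullback.lift (pullback.fst (g ≫ h) (S.fromSpecResidueField s) ≫ g) (pullback.snd (g ≫ h) (S.fromSpecResidueField s))
          ((Category.assoc _ _ _).trans pullback.condition) :
        pullback (g ≫ h) (S.fromSpecResidueField s) ⟶ pullback h (S.fromSpecResidueField s))
      ((Scheme.Modules.pullback (pullback.fst (g ≫ h) (S.fromSpecResidueField s))).obj F) := by
  haveI : F.IsQuasicoherent := ‹Coh.IsQCoh F›
  haveI hfpF : SheafOfModules.IsFinitePresentation (R := X.ringCatSheaf) F := hF
  haveI : IsLocallyNoetherian Y := LocallyOfFiniteType.isLocallyNoetherian h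
  haveI : IsLocallyNoetherian X := LocallyOfFiniteType.isLocallyNoetherian (g ≫ h)
  haveI : LocallyOfFiniteType g := locallyOfFiniteType_of_comp g h
  haveI : LocallyOfFinitePresentation g :=
    LocallyOfFinitePresentation.iff_locallyOfFiniteType.mpr inferInstance
  haveI : LocallyOfFinitePresentation (g ≫ h) :=
    LocallyOfFinitePresentation.iff_locallyOfFiniteType.mpr inferInstance
  haveI : CompactSpace X := QuasiCompact.compactSpace_of_compactSpace (g ≫ h)
  haveI : IsNoetherian X := {}
  -- the general facts about the fibre squares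
  have key : ∀ s : S, ∀ x' : ↥(pullback (g ≫ h) (S.fromSpecResidueField s)),
      FlatMod.IsFlatOverAt (g ≫ h) F ((pullback.fst (g ≫ h) (S.fromSpecResidueField s)) x') →
      (FlatMod.IsFlatOverAt g F ((pullback.fst (g ≫ h) (S.fromSpecResidueField s)) x') ↔
        FlatMod.IsFlatOverAt
          (pullback.lift (pullback.fst (g ≫ h) (S.fromSpecResidueField s) ≫ g)
            (pullback.snd (g ≫ h) (S.fromSpecResidueField s))
            ((Category.assoc _ _ _).trans pullback.condition) :
          pullback (g ≫ h) (S.fromSpecResidueField s) ⟶ pullback h (S.fromSpecResidueField s))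
          ((Scheme.Modules.pullback (pullback.fst (g ≫ h) (S.fromSpecResidueField s))).obj F) x') := by
    intro s x' h1
    set f' : pullback (g ≫ h) (S.fromSpecResidueField s) ⟶ pullback h (S.fromSpecResidueField s) :=
      pullback.lift (pullback.fst (g ≫ h) (S.fromSpecResidueField s) ≫ g)
        (pullback.snd (g ≫ h) (S.fromSpecResidueField s))
        ((Category.assoc _ _ _).trans pullback.condition) with hf'
    have hY : IsPullback (pullback.fst h (S.fromSpecResidueField s))
        (pullback.snd h (S.fromSpecResidueField s)) h (S.fromSpecResidueField s) :=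
      IsPullback.of_hasPullback _ _
    have e1 : f' ≫ pullback.snd h (S.fromSpecResidueField s) =
        pullback.snd (g ≫ h) (S.fromSpecResidueField s) := pullback.lift_snd _ _ _
    have w : pullback.fst (g ≫ h) (S.fromSpecResidueField s) ≫ g =
        f' ≫ pullback.fst h (S.fromSpecResidueField s) := (pullback.lift_fst _ _ _).symm
    have hX : IsPullback (pullback.fst (g ≫ h) (S.fromSpecResidueField s))
        (f' ≫ pullback.snd h (S.fromSpecResidueField s)) (g ≫ h) (S.fromSpecResidueField s) := by
      rw [e1]
      exact IsPullback.of_hasPullback _ _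
    have hc : IsPullback (pullback.fst (g ≫ h) (S.fromSpecResidueField s)) f' g
        (pullback.fst h (S.fromSpecResidueField s)) :=
      (IsPullback.of_right hX.flip w.symm hY.flip).flip
    constructor
    · intro h2
      exact Groth.Agent.Lib.Helper2.PullbackSec.isFlatOverAt_pullback_of_isPullback hc F x' h2
    · intro h2
      exact Groth.Agent.Lib.H9FCM11.isFlatOverAt_of_pullback_of_flat g h F
        (S.fromSpecResidueField s) _ _ hY _ f' hX w x' h1 h2
  have hpt : ∀ (s : S) (x' : ↥(pullback (g ≫ h) (S.fromSpecResidueField s))),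
      (g ≫ h) ((pullback.fst (g ≫ h) (S.fromSpecResidueField s)) x') = s := by
    intro s x'
    have := congrArg (fun φ => φ.base x')
      (pullback.condition (f := g ≫ h) (g := S.fromSpecResidueField s))
    have e2 : (S.fromSpecResidueField s) ((pullback.snd (g ≫ h) (S.fromSpecResidueField s)) x') = s :=
      Scheme.fromSpecResidueField_apply _ _
    refine Eq.trans ?_ e2
    simpa using this
  -- generic flatness
  obtain ⟨U₀, hU₀ne, hU₀⟩ := Groth.Agent.Lib.Helper2.FlatOver.exists_open_isFlatOverAt (g ≫ h) F
  have hηU₀ : genericPoint S ∈ U₀ :=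
    ((genericPoint_spec S).mem_open_set_iff U₀.isOpen).mpr (by
      rw [Set.univ_inter]; exact hU₀ne)
  -- the non-flat locus
  have hZ : IsClosed {x : X | ¬ FlatMod.IsFlatOverAt g F x} :=
    (Groth.Agent.Lib.Helper2.FinPres.isOpen_setOf_isFlatOverAt g F).isClosed_compl
  have hZc : IsConstructible {x : X | ¬ FlatMod.IsFlatOverAt g F x} := by
    have := Groth.Agent.Lib.Helper5.LocusGeneric.IsOpen.isConstructible_of_noetherianSpace
      hZ.isOpen_compl
    simpa using this.of_compl
  have hC : IsConstructible ((g ≫ h) '' {x : X | ¬ FlatMod.IsFlatOverAt g F x}) :=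
    Scheme.Hom.isConstructible_image (g ≫ h) hZc
  -- the generic point lies in the image
  have hηC : genericPoint S ∈ (g ≫ h) '' {x : X | ¬ FlatMod.IsFlatOverAt g F x} := by
    unfold FlatMod.IsFlatOver at hη
    push Not at hη
    obtain ⟨x', hx'⟩ := hη
    refine ⟨(pullback.fst (g ≫ h) (S.fromSpecResidueField (genericPoint S))) x', ?_, hpt _ x'⟩
    intro hfl
    exact hx' ((key _ x' (hU₀ _ (by rw [hpt]; exact hηU₀))).mp hfl)
  have hnhds := Groth.Agent.Lib.Helper6.ConsNhd.mem_nhds_of_isConstructible hC (genericPoint S)
    (fun y' hy' => by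
      have : y' = genericPoint S :=
        (((genericPoint_spec S).specializes (Set.mem_univ y')).antisymm hy').eq.symm
      rw [this]; exact hηC)
  obtain ⟨U₁, hU₁sub, hU₁open, hηU₁⟩ := mem_nhds_iff.mp hnhds
  refine ⟨⟨U₁, hU₁open⟩ ⊓ U₀, ⟨hηU₁, hηU₀⟩, ?_⟩
  rintro s ⟨hs1, hs0⟩ hfl
  obtain ⟨x, hxZ, hxs⟩ := hU₁sub hs1
  -- a point of the fibre over `x`
  obtain ⟨z, hz⟩ : ∃ z : ↥(Spec (S.residueField s)), (S.fromSpecResidueField s) z = s :=
    ⟨IsLocalRing.closedPoint _, Scheme.fromSpecResidueField_apply _ _⟩
  obtain ⟨x', hx'1, -⟩ := Scheme.Pullback.exists_preimage_pullback (f := g ≫ h)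
    (g := S.fromSpecResidueField s) x z (by rw [hz]; exact hxs)
  have h1 : FlatMod.IsFlatOverAt (g ≫ h) F
      ((pullback.fst (g ≫ h) (S.fromSpecResidueField s)) x') := by
    rw [hx'1]
    exact hU₀ x (by rw [hxs]; exact hs0)
  have := (key s x' h1).mpr (hfl x')
  rw [hx'1] at this
  exact hxZ this

end Groth.Agent.S4833
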