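import Groth.Statements.S4867
import Groth.Agent.Lib.R2H3LocusMod
import Groth.Agent.Lib.Helper26FlatLimD

set_option autoImplicit false
universe u
open CategoryTheory AlgebraicGeometry
open EGA43

namespace Groth.Agent.S4867

/-- Let A be a commutative ring, f : X ⟶ Spec A a morphism of finite presentation, F a quasi-coherent
O_X-module of finite presentation and x a point of X. If F is f-flat at x, then there are a finitely
generated subring A₀ of A, a morphism of finite type f₀ : X₀ ⟶ Spec A₀, a coherent O_{X₀}-module F₀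
and a cartesian square q : X ⟶ X₀ over Spec A ⟶ Spec A₀ together with an isomorphism q^*F₀ ≅ F, such
that F₀ is f₀-flat at q x; and if F is f-flat, F₀ can be chosen f₀-flat. -/
theorem result {A : Type u} [CommRing A] {X : Scheme.{u}}
    (f : X ⟶ Spec (CommRingCat.of A)) [LocallyOfFinitePresentation f] [QuasiCompact f] [QuasiSeparated f]
    (F : X.Modules) [Coh.IsQCoh F] (hF : CohB1.IsFP F) (x : X) :
    (FlatMod.IsFlatOverAt f F x →
      ∃ (A₀ : Subalgebra ℤ A) (_ : A₀.FG) (X₀ : Scheme.{u}) (f₀ : X₀ ⟶ Spec (CommRingCat.of ↥A₀))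
        (_ : LocallyOfFiniteType f₀) (_ : QuasiCompact f₀) (F₀ : X₀.Modules) (_ : Coh.IsCoh F₀) (q : X ⟶ X₀)
        (_ : IsPullback q f f₀ (Spec.map (CommRingCat.ofHom A₀.val.toRingHom)))
        (_ : (Scheme.Modules.pullback q).obj F₀ ≅ F),
        FlatMod.IsFlatOverAt f₀ F₀ (q x)) ∧
    (FlatMod.IsFlatOver f F →
      ∃ (A₀ : Subalgebra ℤ A) (_ : A₀.FG) (X₀ : Scheme.{u}) (f₀ : X₀ ⟶ Spec (CommRingCat.of ↥A₀))
        (_ : LocallyOfFiniteType f₀) (_ : QuasiCompact f₀) (F₀ : X₀.Modules) (_ : Coh.IsCoh F₀) (q : X ⟶ X₀)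
        (_ : IsPullback q f f₀ (Spec.map (CommRingCat.ofHom A₀.val.toRingHom)))
        (_ : (Scheme.Modules.pullback q).obj F₀ ≅ F),
        FlatMod.IsFlatOver f₀ F₀) := by
  have hFq : F.IsQuasicoherent := ‹Coh.IsQCoh F›
  obtain ⟨j, Xj, uj, sX, Fj, c1, c2, c3, hX, c4, c5, ⟨e⟩⟩ :=
    @Groth.Agent.Lib.R2H3.LocusMod.exists_model_mod _ _ _ (Groth.Agent.Lib.Helper26.FGZ.specDiagram A)
      (Groth.Agent.Lib.Helper26.FGZ.specCone A) (Groth.Agent.Lib.Helper26.FGZ.specIsLimit A) _ _ _ X f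
      ‹LocallyOfFinitePresentation f› ‹QuasiCompact f› ‹QuasiSeparated f› F hFq hF
  have := c1
  have := c2
  have := c3
  have := c4
  have hFjfp : SheafOfModules.IsFinitePresentation (R := Xj.ringCatSheaf) Fj := c5
  have hcpt : CompactSpace Xj := QuasiCompact.compactSpace_of_compactSpace uj
  -- the data at a later stage
  have key : ∀ j' : Over j,
      ∃ (A₀ : Subalgebra ℤ A) (_ : A₀.FG) (X₀ : Scheme.{u}) (f₀ : X₀ ⟶ Spec (CommRingCat.of ↥A₀))
        (_ : LocallyOfFiniteType f₀) (_ : QuasiCompact f₀) (F₀ : X₀.Modules) (_ : Coh.IsCoh F₀) (q : X ⟶ X₀)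
        (_ : IsPullback q f f₀ (Spec.map (CommRingCat.ofHom A₀.val.toRingHom)))
        (_ : (Scheme.Modules.pullback q).obj F₀ ≅ F),
        (FlatMod.IsFlatOverAt (Groth.Agent.Lib.Helper22.LimBC.dSnd (Groth.Agent.Lib.Helper26.FGZ.specDiagram A) j uj j')
          ((Scheme.Modules.pullback (Groth.Agent.Lib.Helper22.LimBC.dFst (Groth.Agent.Lib.Helper26.FGZ.specDiagram A) j uj j')).obj Fj)
          (Groth.Agent.Lib.Helper22.LimBC.bcπ (D := Groth.Agent.Lib.Helper26.FGZ.specDiagram A) (c := Groth.Agent.Lib.Helper26.FGZ.specCone A) j hX j' x) → FlatMod.IsFlatOverAt f₀ F₀ (q x)) ∧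
        (FlatMod.IsFlatOver (Groth.Agent.Lib.Helper22.LimBC.dSnd (Groth.Agent.Lib.Helper26.FGZ.specDiagram A) j uj j')
          ((Scheme.Modules.pullback (Groth.Agent.Lib.Helper22.LimBC.dFst (Groth.Agent.Lib.Helper26.FGZ.specDiagram A) j uj j')).obj Fj) →
          FlatMod.IsFlatOver f₀ F₀) := by
    intro j'
    have hpb := Groth.Agent.Lib.Helper22.LimBC.isPullback_d (Groth.Agent.Lib.Helper26.FGZ.specDiagram A) j uj j'
    have d1 : LocallyOfFinitePresentation
        (Groth.Agent.Lib.Helper22.LimBC.dSnd (Groth.Agent.Lib.Helper26.FGZ.specDiagram A) j uj j') :=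
      MorphismProperty.of_isPullback (P := @LocallyOfFinitePresentation) hpb c1
    have d1' : LocallyOfFiniteType
        (Groth.Agent.Lib.Helper22.LimBC.dSnd (Groth.Agent.Lib.Helper26.FGZ.specDiagram A) j uj j') := inferInstance
    have d2 : QuasiCompact
        (Groth.Agent.Lib.Helper22.LimBC.dSnd (Groth.Agent.Lib.Helper26.FGZ.specDiagram A) j uj j') :=
      MorphismProperty.of_isPullback (P := @QuasiCompact) hpb c2
    have hF₀q : ((Scheme.Modules.pullback (Groth.Agent.Lib.Helper22.LimBC.dFst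
        (Groth.Agent.Lib.Helper26.FGZ.specDiagram A) j uj j')).obj Fj).IsQuasicoherent :=
      Groth.Agent.Lib.Helper2.PullbackSec.isQuasicoherent_pullback _ Fj
    have hF₀ft : CohB1.IsFT ((Scheme.Modules.pullback (Groth.Agent.Lib.Helper22.LimBC.dFst
        (Groth.Agent.Lib.Helper26.FGZ.specDiagram A) j uj j')).obj Fj) :=
      Groth.Agent.Helper18Strict.isFT_of_isFP _ (Groth.Agent.Helper18Strict.isFP_pullback _ Fj c5)
    let iso : (Scheme.Modules.pullback (Groth.Agent.Lib.Helper22.LimBC.bcπ (D := Groth.Agent.Lib.Helper26.FGZ.specDiagram A) (c := Groth.Agent.Lib.Helper26.FGZ.specCone A) j hX j')).obj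
        ((Scheme.Modules.pullback (Groth.Agent.Lib.Helper22.LimBC.dFst
          (Groth.Agent.Lib.Helper26.FGZ.specDiagram A) j uj j')).obj Fj) ≅ F :=
      (Scheme.Modules.pullbackComp _ _).app Fj ≪≫
        (Scheme.Modules.pullbackCongr (Groth.Agent.Lib.Helper22.LimBC.bcπ_fst (D := Groth.Agent.Lib.Helper26.FGZ.specDiagram A) (c := Groth.Agent.Lib.Helper26.FGZ.specCone A) j hX j')).app Fj ≪≫ e.symm
    exact ⟨j'.left.unop.1, j'.left.unop.2, _,
      Groth.Agent.Lib.Helper22.LimBC.dSnd (Groth.Agent.Lib.Helper26.FGZ.specDiagram A) j uj j',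
      d1', d2, _, ⟨hF₀q, hF₀ft⟩, Groth.Agent.Lib.Helper22.LimBC.bcπ (D := Groth.Agent.Lib.Helper26.FGZ.specDiagram A) (c := Groth.Agent.Lib.Helper26.FGZ.specCone A) j hX j',
      Groth.Agent.Lib.Helper22.LimBC.isPullback_bcπ (D := Groth.Agent.Lib.Helper26.FGZ.specDiagram A) (c := Groth.Agent.Lib.Helper26.FGZ.specCone A) j hX j', iso, fun h => h, fun h => h⟩
  constructor
  · intro hflat
    have H : FlatMod.IsFlatOverAt f ((Scheme.Modules.pullback sX).obj Fj) x :=
      Groth.Agent.Lib.Helper26.FlatLim.isFlatOverAt_of_iso f e x hflat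
    obtain ⟨j', hj'⟩ := Groth.Agent.Lib.Helper26.FlatLim.exists_stage_isFlatOverAt
      (Groth.Agent.Lib.Helper26.FGZ.specDiagram A) (Groth.Agent.Lib.Helper26.FGZ.specCone A)
      (Groth.Agent.Lib.Helper26.FGZ.specIsLimit A) j uj Fj hX x H
    obtain ⟨A₀, hA₀, X₀, f₀, h1, h2, F₀, h3, q, h4, h5, h6, -⟩ := key j'
    refine ⟨A₀, hA₀, X₀, f₀, h1, h2, F₀, h3, q, h4, h5, h6 ?_⟩
    exact hj' j' (𝟙 j') _ _
      (Groth.Agent.Lib.Helper22.LimBC.isPullback_d (Groth.Agent.Lib.Helper26.FGZ.specDiagram A) j uj j')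
      (Groth.Agent.Lib.Helper22.LimBC.bcπ (D := Groth.Agent.Lib.Helper26.FGZ.specDiagram A) (c := Groth.Agent.Lib.Helper26.FGZ.specCone A) j hX j') (Groth.Agent.Lib.Helper22.LimBC.bcπ_fst (D := Groth.Agent.Lib.Helper26.FGZ.specDiagram A) (c := Groth.Agent.Lib.Helper26.FGZ.specCone A) j hX j')
      (Groth.Agent.Lib.Helper22.LimBC.bcπ_snd (D := Groth.Agent.Lib.Helper26.FGZ.specDiagram A) (c := Groth.Agent.Lib.Helper26.FGZ.specCone A) j hX j')
  · intro hflat
    have H : FlatMod.IsFlatOver f ((Scheme.Modules.pullback sX).obj Fj) :=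
      Groth.Agent.Lib.Helper26.FlatLim.isFlatOver_of_iso f e hflat
    obtain ⟨j', hj'⟩ := Groth.Agent.Lib.Helper26.FlatLim.exists_stage_isFlatOver
      (Groth.Agent.Lib.Helper26.FGZ.specDiagram A) (Groth.Agent.Lib.Helper26.FGZ.specCone A)
      (Groth.Agent.Lib.Helper26.FGZ.specIsLimit A) j uj Fj hX H
    obtain ⟨A₀, hA₀, X₀, f₀, h1, h2, F₀, h3, q, h4, h5, -, h6⟩ := key j'
    refine ⟨A₀, hA₀, X₀, f₀, h1, h2, F₀, h3, q, h4, h5, h6 ?_⟩
    exact hj' j' (𝟙 j') _ _
      (Groth.Agent.Lib.Helper22.LimBC.isPullback_d (Groth.Agent.Lib.Helper26.FGZ.specDiagram A) j uj j')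

end Groth.Agent.S4867
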