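import Groth.Statements.S4871
import Groth.Agent.Lib.R2H3SchemDense

set_option linter.style.haveILetI false
set_option linter.unusedVariables false

set_option autoImplicit false
universe u
open CategoryTheory AlgebraicGeometry
open EGA43

namespace Groth.Agent.S4871

open CategoryTheory.Limits in
/-- Let f : X ⟶ S be flat and locally of finite presentation and U an open subscheme of X. Then U is
universally schematically dense in X relative to S, i.e. for every base change S' ⟶ S the preimage
of U in X ×_S S' is schematically dense, if and only if for every point s of S the trace U_s of U on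
the fibre X_s is schematically dense in X_s. -/
theorem result {X S : Scheme.{u}} (f : X ⟶ S) [Flat f]
    [LocallyOfFinitePresentation f] (U : X.Opens) :
    (∀ (S' : Scheme.{u}) (g : S' ⟶ S), CInt.IsSchematicallyDense ((pullback.fst f g) ⁻¹ᵁ U)) ↔
      ∀ s : S, CInt.IsSchematicallyDense ((f.fiberι s) ⁻¹ᵁ U) := by
  haveI hq : (Coh.structureModule X).IsQuasicoherent :=
    Groth.Agent.Lib.Helper23.Serre.isQuasicoherent_structureModule' X
  haveI hfp : SheafOfModules.IsFinitePresentation (R := X.ringCatSheaf) (Coh.structureModule X) :=
    Groth.Agent.Helper18FinFlat.isFinitePresentation_structureModule X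
  have hflat : FlatMod.IsFlatOver f (Coh.structureModule X) :=
    Groth.Agent.Lib.R2H3.SchemDense.isFlatOver_structureModule f
  constructor
  · intro h s
    exact h (Spec (S.residueField s)) (S.fromSpecResidueField s)
  · intro h S' g V
    rw [← Groth.Agent.Lib.R2H3.SchemDense.injective_pullback_structureModule_iff (pullback.fst f g)]
    refine Groth.Agent.Lib.R2H3.UnivInj.injective_of_fibrewise f (Coh.structureModule X) hflat U
      (fun s V' => ?_) S' g V
    rw [Groth.Agent.Lib.R2H3.SchemDense.injective_pullback_structureModule_iff (f.fiberι s)]
    exact h s V'

end Groth.Agent.S4871
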