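import Groth.Statements.S4872
import Mathlib

set_option autoImplicit false
universe u
open CategoryTheory AlgebraicGeometry
open EGA43

namespace Groth.Agent.S4872

open CategoryTheory.Limits

/-- b) ⇒ c) -/
theorem b_imp_c {X : Scheme.{u}} {ι : Type u} (Z : ι → Scheme.{u}) (f : ∀ i, Z i ⟶ X)
    (hb : ∀ (V : (X).Opens) (t : Γ(X, V)), (∀ i, (f i).app V t = 0) → t = 0)
    (U : X.Opens) (Y : Scheme.{u}) (j : Y ⟶ (U : Scheme.{u})) [IsClosedImmersion j]
    (hg : ∀ i, ∃ g : ((f i) ⁻¹ᵁ U : Scheme.{u}) ⟶ Y, g ≫ j = (f i) ∣_ U) : IsIso j := by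
  rw [IsClosedImmersion.isIso_iff_ker_eq_bot]
  ext W : 2
  rw [j.ker_apply W]
  simp only [Scheme.IdealSheafData.ideal_bot, Pi.bot_apply]
  rw [eq_bot_iff]
  intro x hx
  rw [RingHom.mem_ker] at hx
  rw [Ideal.mem_bot]
  have hx' : (j.app W.1) x = 0 := hx
  refine hb (U.ι ''ᵁ W.1) x (fun i => ?_)
  obtain ⟨g, hgj⟩ := hg i
  have h1 : ((f i) ∣_ U).app W.1 x = 0 := by
    have h2 : ((g ≫ j).app W.1) x = 0 := by
      change (g.app (j ⁻¹ᵁ W.1)) ((j.app W.1) x) = 0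
      rw [hx', map_zero]
    have h3 := Scheme.Hom.congr_app hgj.symm W.1
    rw [h3, CommRingCat.comp_apply, h2, map_zero]
  have h1' := (ConcreteCategory.congr_hom (morphismRestrict_app (f i) U W.1) x).symm.trans h1
  have hinj : Function.Injective
      ((Z i).presheaf.map (eqToHom (image_morphismRestrict_preimage (f i) U W.1)).op) := by
    have : IsIso ((Z i).presheaf.map (eqToHom (image_morphismRestrict_preimage (f i) U W.1)).op) :=
      inferInstance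
    exact ((ConcreteCategory.isIso_iff_bijective _).mp this).1
  apply hinj
  rw [map_zero]
  exact h1'

/-- c) ⇒ d) -/
theorem c_imp_d {X S : Scheme.{u}} (p : X ⟶ S) {ι : Type u} (Z : ι → Scheme.{u}) (f : ∀ i, Z i ⟶ X)
    (hc : ∀ (U : X.Opens) (Y : Scheme.{u}) (j : Y ⟶ (U : Scheme.{u})), IsClosedImmersion j →
        (∀ i, ∃ g : ((f i) ⁻¹ᵁ U : Scheme.{u}) ⟶ Y, g ≫ j = (f i) ∣_ U) → IsIso j)
    (X' : Scheme.{u}) (q : X' ⟶ S) [IsSeparated q] (U : X.Opens) (u v : (U : Scheme.{u}) ⟶ X')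
    (hu : u ≫ q = U.ι ≫ p) (hv : v ≫ q = U.ι ≫ p)
    (huv : ∀ i, ((f i) ∣_ U) ≫ u = ((f i) ∣_ U) ≫ v) : u = v := by
  let XO : Over S := Over.mk (U.ι ≫ p)
  let YO : Over S := Over.mk q
  let f' : XO ⟶ YO := Over.homMk u hu
  let g' : XO ⟶ YO := Over.homMk v hv
  have : IsSeparated YO.hom := ‹_›
  have hiso : IsIso (equalizer.ι f' g').left := by
    refine hc U _ (equalizer.ι f' g').left inferInstance (fun i => ?_)
    let ZO : Over S := Over.mk (((f i) ∣_ U) ≫ U.ι ≫ p)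
    let ι' : ZO ⟶ XO := Over.homMk ((f i) ∣_ U) rfl
    have hι' : ι' ≫ f' = ι' ≫ g' := by ext1; exact huv i
    refine ⟨(equalizer.lift ι' hι').left, ?_⟩
    rw [← Over.comp_left, equalizer.lift_ι]
    rfl
  rw [← cancel_epi (equalizer.ι f' g').left]
  exact congr($(equalizer.condition f' g').left)

/-- d) ⇒ b) -/
theorem d_imp_b {X S : Scheme.{u}} (p : X ⟶ S) {ι : Type u} (Z : ι → Scheme.{u}) (f : ∀ i, Z i ⟶ X)
    (hd : ∀ (X' : Scheme.{u}) (q : X' ⟶ S), IsSeparated q → ∀ (U : X.Opens)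
      (u v : (U : Scheme.{u}) ⟶ X'), u ≫ q = U.ι ≫ p → v ≫ q = U.ι ≫ p →
      (∀ i, ((f i) ∣_ U) ≫ u = ((f i) ∣_ U) ≫ v) → u = v)
    (V : X.Opens) (t : Γ(X, V)) (ht : ∀ i, (f i).app V t = 0) : t = 0 := by
  let t' : Γ((V : Scheme.{u}), ⊤) := V.topIso.inv t
  let u := AffineSpace.homOfVector (n := PUnit.{u + 1}) (V.ι ≫ p) (fun _ => t')
  let v := AffineSpace.homOfVector (n := PUnit.{u + 1}) (V.ι ≫ p) (fun _ => 0)
  have huv : u = v := by
    refine hd (AffineSpace PUnit.{u + 1} S) (AffineSpace PUnit.{u + 1} S ↘ S) inferInstance V u v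
      (AffineSpace.homOfVector_over _ _) (AffineSpace.homOfVector_over _ _) (fun i => ?_)
    rw [AffineSpace.comp_homOfVector, AffineSpace.comp_homOfVector]
    congr 1
    ext x
    change ((f i) ∣_ V).appTop t' = ((f i) ∣_ V).appTop 0
    rw [map_zero]
    have e := ConcreteCategory.congr_hom (morphismRestrict_appTop (f i) V) t'
    refine e.trans ?_
    have hnat := (f i).naturality (eqToHom V.ι_image_top).op
    have h3 : (f i).app (V.ι ''ᵁ ⊤) t' = 0 := by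
      have h4 := ConcreteCategory.congr_hom hnat t
      change (f i).app (V.ι ''ᵁ ⊤) (X.presheaf.map (eqToHom V.ι_image_top).op t) = 0
      refine h4.trans ?_
      change ((Z i).presheaf.map _) ((f i).app V t) = 0
      rw [ht i, map_zero]
    change ((Z i).presheaf.map _) ((f i).app (V.ι ''ᵁ ⊤) t') = 0
    rw [h3, map_zero]
  have h1 := congr($(huv).appTop (AffineSpace.coord S PUnit.unit))
  rw [AffineSpace.homOfVector_appTop_coord, AffineSpace.homOfVector_appTop_coord] at h1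
  have h2 : t = V.topIso.hom t' := (Iso.inv_hom_id_apply V.topIso t).symm
  rw [h2, h1, map_zero]

theorem result {X S : Scheme.{u}} (p : X ⟶ S) {ι : Type u} (Z : ι → Scheme.{u})
    (f : ∀ i, Z i ⟶ X) :
    [(∀ (V : (X).Opens) (t : Γ(X, V)), (∀ i, (f i).app V t = 0) → t = 0),
      ∀ (U : X.Opens) (Y : Scheme.{u}) (j : Y ⟶ (U : Scheme.{u})), IsClosedImmersion j →
        (∀ i, ∃ g : ((f i) ⁻¹ᵁ U : Scheme.{u}) ⟶ Y, g ≫ j = (f i) ∣_ U) → IsIso j,
      ∀ (X' : Scheme.{u}) (q : X' ⟶ S), IsSeparated q → ∀ (U : X.Opens) (u v : (U : Scheme.{u}) ⟶ X'),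
        u ≫ q = U.ι ≫ p → v ≫ q = U.ι ≫ p → (∀ i, ((f i) ∣_ U) ≫ u = ((f i) ∣_ U) ≫ v) → u = v].TFAE := by
  tfae_have 1 → 2 := fun hb U Y j hj hg => by
    have := hj
    exact b_imp_c Z f hb U Y j hg
  tfae_have 2 → 3 := fun hc X' q hq U u v hu hv huv => by
    have := hq
    exact c_imp_d p Z f hc X' q U u v hu hv huv
  tfae_have 3 → 1 := fun hd V t ht => d_imp_b p Z f hd V t ht
  tfae_finish

end Groth.Agent.S4872
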