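import Groth.Statements.S4875
import Groth.Agent.Lib.R2H3SchDom

set_option autoImplicit false
set_option linter.style.haveILetI false
universe u
open CategoryTheory AlgebraicGeometry
open EGA43

namespace Groth.Agent.S4875

/-- Let (f_i : Z_i ⟶ X) be a schematically dominant family of morphisms and g : X' ⟶ X a flat morphism
locally of finite presentation. Then the family of base changes f'_i : Z_i ×_X X' ⟶ X' is
schematically dominant. (No quasi-compactness of the f_i and no finiteness of the family is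
assumed.) -/
theorem result {X X' : Scheme.{u}} {ι : Type u} (Z : ι → Scheme.{u})
    (f : ∀ i, Z i ⟶ X) (g : X' ⟶ X) [Flat g] [LocallyOfFinitePresentation g]
    (h : (∀ (V : (X).Opens) (t : Γ(X, V)), (∀ i, (f i).app V t = 0) → t = 0)) :
    (∀ (V : (X').Opens) (t : Γ(X', V)), (∀ i, (Limits.pullback.snd (f i) g).app V t = 0) → t = 0) := by
  intro V' t ht
  apply Groth.Agent.Lib.R2H3.SchDom.eq_zero_of_locally
  intro x' hx'
  obtain ⟨U, hU, hxU, -⟩ := exists_isAffineOpen_mem_and_subset (x := g x') (U := ⊤) trivial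
  obtain ⟨U', hU', hxU', hU'le0⟩ := exists_isAffineOpen_mem_and_subset (x := x')
    (U := g ⁻¹ᵁ U ⊓ V') ⟨hxU, hx'⟩
  have hU'le : U' ≤ g ⁻¹ᵁ U ⊓ V' := hU'le0
  refine ⟨U', hU'le.trans inf_le_right, hxU', ?_⟩
  have hle : U' ≤ g ⁻¹ᵁ U := hU'le.trans inf_le_left
  letI := (g.appLE U U' hle).hom.toAlgebra
  haveI : Module.Flat Γ(X, U) Γ(X', U') := Flat.flat_appLE g hU hU' hle
  haveI : Algebra.FinitePresentation Γ(X, U) Γ(X', U') :=
    LocallyOfFinitePresentation.finitePresentation_appLE g hU hU' hle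
  letI : ∀ j : (Σ i, {T : (Z i).Opens // IsAffineOpen T ∧ T ≤ (f i) ⁻¹ᵁ U}),
      Algebra Γ(X, U) Γ(Z j.1, j.2.1) :=
    fun j => ((f j.1).appLE U j.2.1 j.2.2.2).hom.toAlgebra
  refine Groth.Agent.Lib.R2H3.SchDom.ring_core2 (A := Γ(X, U)) (B := Γ(X', U'))
    (fun j : (Σ i, {T : (Z i).Opens // IsAffineOpen T ∧ T ≤ (f i) ⁻¹ᵁ U}) => Γ(Z j.1, j.2.1))
    ?_ _ (fun j => ?_)
  · intro g₀ m hm
    have H : X.presheaf.map (homOfLE (X.basicOpen_le g₀)).op m = 0 := by
      apply h (X.basicOpen g₀)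
      intro i
      apply Groth.Agent.Lib.R2H3.SchDom.eq_zero_of_locally
      intro z hz
      have hzU : z ∈ (f i) ⁻¹ᵁ U := X.basicOpen_le g₀ hz
      obtain ⟨T, hT, hzT, hTle0⟩ := exists_isAffineOpen_mem_and_subset (x := z)
        (U := (f i) ⁻¹ᵁ U) hzU
      have hTle : T ≤ (f i) ⁻¹ᵁ U := hTle0
      obtain ⟨n, hn⟩ := hm ⟨i, T, hT, hTle⟩
      refine ⟨T ⊓ (f i) ⁻¹ᵁ (X.basicOpen g₀), inf_le_right, ⟨hzT, hz⟩, ?_⟩
      have e1 : (Z i).presheaf.map (homOfLE (inf_le_right :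
          T ⊓ (f i) ⁻¹ᵁ (X.basicOpen g₀) ≤ (f i) ⁻¹ᵁ (X.basicOpen g₀))).op
          ((f i).app (X.basicOpen g₀) (X.presheaf.map (homOfLE (X.basicOpen_le g₀)).op m)) =
          (f i).appLE U (T ⊓ (f i) ⁻¹ᵁ (X.basicOpen g₀)) (inf_le_left.trans hTle) m := by
        have h1 : (f i).appLE (X.basicOpen g₀) (T ⊓ (f i) ⁻¹ᵁ (X.basicOpen g₀)) inf_le_right =
            (f i).app (X.basicOpen g₀) ≫ (Z i).presheaf.map (homOfLE inf_le_right).op := rfl
        rw [← CommRingCat.comp_apply, ← CommRingCat.comp_apply, ← h1, Scheme.Hom.map_appLE]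
      rw [e1]
      have hn' : (f i).appLE U T hTle g₀ ^ n * (f i).appLE U T hTle m = 0 := by
        rw [Algebra.smul_def, map_pow] at hn
        exact hn
      have h1 := congrArg ((Z i).presheaf.map (homOfLE (inf_le_left :
        T ⊓ (f i) ⁻¹ᵁ (X.basicOpen g₀) ≤ T)).op) hn'
      rw [map_mul, map_pow, map_zero] at h1
      have e2 : ∀ x, (Z i).presheaf.map (homOfLE (inf_le_left :
          T ⊓ (f i) ⁻¹ᵁ (X.basicOpen g₀) ≤ T)).op ((f i).appLE U T hTle x) =
          (f i).appLE U (T ⊓ (f i) ⁻¹ᵁ (X.basicOpen g₀)) (inf_le_left.trans hTle) x := fun x => by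
        rw [← CommRingCat.comp_apply, Scheme.Hom.appLE_map]
      rw [e2, e2] at h1
      have hu : IsUnit ((f i).appLE U (T ⊓ (f i) ⁻¹ᵁ (X.basicOpen g₀))
          (inf_le_left.trans hTle) g₀) := by
        have e3 : (f i).appLE U (T ⊓ (f i) ⁻¹ᵁ (X.basicOpen g₀)) (inf_le_left.trans hTle) g₀ =
            (f i).appLE (X.basicOpen g₀) (T ⊓ (f i) ⁻¹ᵁ (X.basicOpen g₀)) inf_le_right
              (X.presheaf.map (homOfLE (X.basicOpen_le g₀)).op g₀) := by
          rw [← CommRingCat.comp_apply, Scheme.Hom.map_appLE]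
        rw [e3]
        exact (RingedSpace.isUnit_res_basicOpen X.toRingedSpace g₀).map _
      exact (hu.pow n).mul_right_eq_zero.mp h1
    exact exists_pow_mul_eq_zero_of_res_basicOpen_eq_zero_of_isAffineOpen X hU m g₀ H
  · obtain ⟨i, T, hT, hTle⟩ := j
    have H := Groth.Agent.Lib.R2H3.ProdChart.isPushout_appLE
      (IsPullback.of_hasPullback (f i) g) hU hT hU' hTle hle
    refine Groth.Agent.Lib.R2H3.SchDom.tmul_one_eq_zero_of_isPushout _ _ _ _ H _ ?_
    rw [← CommRingCat.comp_apply, Scheme.Hom.map_appLE, Scheme.Hom.appLE, CommRingCat.comp_apply,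
      ht i, map_zero]

end Groth.Agent.S4875
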