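import Groth.Statements.S4877
import Groth.Agent.Lib.R2H3SepFieldGeo

set_option autoImplicit false
universe u
open CategoryTheory AlgebraicGeometry
open EGA43

namespace Groth.Agent.S4877

/-- Let k be a field, X a k-scheme, (f_i : Z_i ⟶ X) a schematically dominant family of morphisms and S'
an arbitrary k-scheme. Then the family of base changes Z_i ×_k S' ⟶ X ×_k S' is schematically
dominant. (Schematically dominant: a section of the structure sheaf over an open whose pullback
along every member vanishes is zero.) -/
theorem result {k : Type u} [Field k] {X S' : Scheme.{u}}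
    (p : X ⟶ Spec (CommRingCat.of k)) (q : S' ⟶ Spec (CommRingCat.of k))
    {ι : Type u} (Z : ι → Scheme.{u}) (f : ∀ i, Z i ⟶ X)
    (h : (∀ (V : (X).Opens) (t : Γ(X, V)), (∀ i, (f i).app V t = 0) → t = 0)) :
    (∀ (V : (Limits.pullback p q).Opens) (t : Γ(Limits.pullback p q, V)), (∀ i, (Limits.pullback.map (f i ≫ p) q p q (f i) (𝟙 S') (𝟙 _) (Category.comp_id _) ((Category.comp_id _).trans (Category.id_comp _).symm)).app V t = 0) → t = 0) := by
  intro V t ht
  refine Groth.Agent.Lib.R2H3.SepFieldGeo.schDominant_of_hasSepCharts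
    (Groth.Agent.Lib.R2H3.SepFieldGeo.hasSepCharts_fst_field p q) Z
    (fun i => Limits.pullback (f i ≫ p) q) f (fun i => Limits.pullback.fst (f i ≫ p) q)
    (fun i => Limits.pullback.map (f i ≫ p) q p q (f i) (𝟙 S') (𝟙 _) (Category.comp_id _)
      ((Category.comp_id _).trans (Category.id_comp _).symm)) (fun i => ?_) h V t ht
  have A := (IsPullback.of_hasPullback (f i ≫ p) q).flip
  have B := (IsPullback.of_hasPullback p q).flip
  have e1 : Limits.pullback.map (f i ≫ p) q p q (f i) (𝟙 S') (𝟙 _) (Category.comp_id _)
      ((Category.comp_id _).trans (Category.id_comp _).symm) ≫ Limits.pullback.snd p q =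
      Limits.pullback.snd (f i ≫ p) q :=
    (Limits.pullback.lift_snd _ _ _).trans (Category.comp_id _)
  have e2 : Limits.pullback.map (f i ≫ p) q p q (f i) (𝟙 S') (𝟙 _) (Category.comp_id _)
      ((Category.comp_id _).trans (Category.id_comp _).symm) ≫ Limits.pullback.fst p q =
      Limits.pullback.fst (f i ≫ p) q ≫ f i :=
    Limits.pullback.lift_fst _ _ _
  rw [← e1] at A
  exact (IsPullback.of_right A e2 B).flip

end Groth.Agent.S4877
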