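import Groth.Statements.S4908
import Groth.Agent.Lib.R2H3SepPull

set_option autoImplicit false
universe u
open CategoryTheory AlgebraicGeometry
open EGA43

namespace Groth.Agent.S4908

open TensorProduct in
theorem exists_not_mem_smul_eq_zero {A B M : Type u} [CommRing A] [CommRing B] [Algebra A B]
    [Module.Flat A B] [AddCommGroup M] [Module A M]
    (q : Ideal B) [q.IsPrime] (m : M) (h : (1 : B) ⊗ₜ[A] m = 0) :
    ∃ f : A, f ∉ q.comap (algebraMap A B) ∧ f • m = 0 := by
  by_contra hcon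
  push Not at hcon
  let I : Submodule A A := LinearMap.ker (LinearMap.toSpanSingleton A M m)
  have hI : ∀ f ∈ I, algebraMap A B f ∈ q := by
    intro f hf
    by_contra hfq
    exact hcon f hfq (by simpa [I, LinearMap.toSpanSingleton_apply] using hf)
  let ι : (A ⧸ I) →ₗ[A] M := I.liftQ (LinearMap.toSpanSingleton A M m) le_rfl
  have hι : Function.Injective ι := by
    rw [← LinearMap.ker_eq_bot]
    exact Submodule.ker_liftQ_eq_bot _ _ _ le_rfl
  have h1 := Module.Flat.lTensor_preserves_injective_linearMap (M := B) ι hι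
  have h2 : (1 : B) ⊗ₜ[A] (I.mkQ 1) = 0 := by
    apply h1
    rw [LinearMap.lTensor_tmul, map_zero]
    change (1 : B) ⊗ₜ[A] (I.liftQ (LinearMap.toSpanSingleton A M m) le_rfl (I.mkQ 1)) = 0
    rw [Submodule.mkQ_apply, Submodule.liftQ_apply, LinearMap.toSpanSingleton_apply, one_smul]
    exact h
  let φ : (A ⧸ I) →ₗ[A] (B ⧸ q) :=
    I.liftQ ((Ideal.Quotient.mkₐ A q).toLinearMap ∘ₗ Algebra.linearMap A B) (by
      intro f hf
      rw [LinearMap.mem_ker, LinearMap.comp_apply, Algebra.linearMap_apply]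
      exact Ideal.Quotient.eq_zero_iff_mem.mpr (hI f hf))
  let ψ : B ⊗[A] (A ⧸ I) →ₗ[A] (B ⧸ q) :=
    TensorProduct.lift (LinearMap.mk₂ A (fun (b : B) (x : A ⧸ I) => b • φ x)
      (fun b b' x => add_smul b b' _) (fun a b x => by rw [smul_assoc])
      (fun b x x' => by rw [map_add, smul_add]) (fun a b x => by rw [map_smul, smul_comm]))
  have h3 : ψ ((1 : B) ⊗ₜ[A] (I.mkQ 1)) = 1 := by
    simp only [ψ, TensorProduct.lift.tmul, LinearMap.mk₂_apply, one_smul]
    change I.liftQ _ _ (I.mkQ 1) = 1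
    rw [Submodule.mkQ_apply, Submodule.liftQ_apply]
    simp
  rw [h2, map_zero] at h3
  have : (1 : B) ∈ q := Ideal.Quotient.eq_zero_iff_mem.mp h3.symm
  exact (Ideal.IsPrime.ne_top ‹_›) ((Ideal.eq_top_iff_one q).mpr this)

theorem mem_basicOpen_iff_notMem_primeIdealOf {X : Scheme.{u}} {U : X.Opens} (hU : IsAffineOpen U)
    (y : X) (hy : y ∈ U) (r : Γ(X, U)) :
    y ∈ X.basicOpen r ↔ r ∉ (hU.primeIdealOf ⟨y, hy⟩).asIdeal := by
  have h := hU.fromSpec_primeIdealOf ⟨y, hy⟩
  have h2 : (hU.fromSpec.base (hU.primeIdealOf ⟨y, hy⟩) ∈ X.basicOpen r) ↔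
      r ∉ (hU.primeIdealOf ⟨y, hy⟩).asIdeal := by
    change hU.primeIdealOf ⟨y, hy⟩ ∈ (hU.fromSpec ⁻¹ᵁ X.basicOpen r) ↔ _
    rw [hU.fromSpec_preimage_basicOpen]
    rfl
  rw [h] at h2
  exact h2

/-- Case Z_λ = X: let X be a scheme, u_i : F ⟶ G_i a family of homomorphisms of quasi-coherent
O_X-modules and g : X' ⟶ X a faithfully flat morphism. If the family (g^*u_i : g^*F ⟶ g^*G_i) is
separating — a section of g^*F over an open subset killed by every g^*u_i is zero — then the family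
(u_i) is separating. (The published statement allows homomorphisms into direct images (f_λ)_*G_λ
along morphisms f_λ : Z_λ ⟶ X; this row is the case Z_λ = X, to which the general case reduces.) -/
theorem result {X X' : Scheme.{u}} (F : X.Modules) [Coh.IsQCoh F] {ι : Type u}
    (G : ι → X.Modules) [∀ i, Coh.IsQCoh (G i)] (u : ∀ i, F ⟶ G i) (g : X' ⟶ X) [Flat g] [Surjective g]
    (h : (∀ (V : (X').Opens) (t : ↑(((Scheme.Modules.pullback g).obj F).presheaf.obj (Opposite.op V))), (∀ i, (Scheme.Modules.Hom.mapPresheaf ((Scheme.Modules.pullback g).map (u i))).app (Opposite.op V) t = 0) → t = 0)) :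
    (∀ (V : (X).Opens) (t : ↑((F).presheaf.obj (Opposite.op V))), (∀ i, (Scheme.Modules.Hom.mapPresheaf (u i)).app (Opposite.op V) t = 0) → t = 0) := by
  haveI : F.IsQuasicoherent := ‹Coh.IsQCoh F›
  intro V t ht
  have hs0 : ((Scheme.Modules.pullbackPushforwardAdjunction g).unit.app F).app V t = 0 := by
    refine h (g ⁻¹ᵁ V) _ (fun i => ?_)
    change ((Scheme.Modules.pullback g).map (u i)).app (g ⁻¹ᵁ V)
        (((Scheme.Modules.pullbackPushforwardAdjunction g).unit.app F).app V t) = 0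
    have h2 := (Scheme.Modules.pullbackPushforwardAdjunction g).unit.naturality (u i)
    have h3 : ((Scheme.Modules.pullback g).map (u i)).app (g ⁻¹ᵁ V)
        (((Scheme.Modules.pullbackPushforwardAdjunction g).unit.app F).app V t) =
        ((Scheme.Modules.pullbackPushforwardAdjunction g).unit.app (G i)).app V ((u i).app V t) :=
      (congr($(congrArg (fun θ => Scheme.Modules.Hom.app θ V) h2) t)).symm
    refine h3.trans ?_
    have h4 : (u i).app V t = 0 := ht i
    rw [h4, map_zero]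
    rfl
  refine F.isSheaf.section_ext (U := Opposite.op V) fun x hx => ?_
  obtain ⟨x', rfl⟩ := g.surjective x
  obtain ⟨V', hV', hxV', hV'V0⟩ := exists_isAffineOpen_mem_and_subset (x := g x') (U := V) hx
  obtain ⟨U', hU', hxU', hU'le0⟩ := exists_isAffineOpen_mem_and_subset (x := x') (U := g ⁻¹ᵁ V') hxV'
  have hV'V : V' ≤ V := hV'V0
  have hU'le : U' ≤ g ⁻¹ᵁ V' := hU'le0
  letI := (g.appLE V' U' hU'le).hom.toAlgebra
  haveI : Module.Flat Γ(X, V') Γ(X', U') := Flat.flat_appLE g hV' hU' hU'le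
  have hm : Groth.Agent.Helper13PullbackUnit.unitSec g F hU'le
      (F.presheaf.map (homOfLE hV'V).op t) = 0 := by
    rw [Groth.Agent.Helper18OmLS.unitSec_res g F hV'V hU'le t,
      Groth.Agent.Helper13PullbackUnit.unitSec_apply]
    exact (congrArg (fun z : Γ((Scheme.Modules.pullback g).obj F, g ⁻¹ᵁ V) =>
      ((Scheme.Modules.pullback g).obj F).presheaf.map
        (homOfLE (hU'le.trans (g.preimage_mono hV'V))).op z) hs0).trans (map_zero _)
  obtain ⟨e, he⟩ := Groth.Agent.Helper18OmLS.exists_pullback_equiv g F hU'le hV' hU' rfl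
  have h1 : (1 : Γ(X', U')) ⊗ₜ[Γ(X, V')] (F.presheaf.map (homOfLE hV'V).op t) = 0 := by
    apply e.injective
    rw [he, one_smul, hm, map_zero]
  obtain ⟨f, hfq, hfm⟩ := exists_not_mem_smul_eq_zero (hU'.primeIdealOf ⟨x', hxU'⟩).asIdeal _ h1
  have hx'f : x' ∈ X'.basicOpen (g.appLE V' U' hU'le f) :=
    (mem_basicOpen_iff_notMem_primeIdealOf hU' x' hxU' _).mpr hfq
  have hxf : g x' ∈ X.basicOpen f := by
    rw [Scheme.basicOpen_appLE] at hx'f
    exact hx'f.2
  refine ⟨X.basicOpen f, (X.basicOpen_le f).trans hV'V, hxf, ?_⟩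
  rw [map_zero]
  have h5 : F.presheaf.map (homOfLE ((X.basicOpen_le f).trans hV'V)).op t =
      F.presheaf.map (homOfLE (X.basicOpen_le f)).op (F.presheaf.map (homOfLE hV'V).op t) := by
    rw [← ConcreteCategory.comp_apply, ← Functor.map_comp]
    rfl
  refine h5.trans ?_
  have h6 := congrArg (F.presheaf.map (homOfLE (X.basicOpen_le f)).op) hfm
  rw [Scheme.Modules.map_smul, map_zero] at h6
  have hu : IsUnit (X.presheaf.map (homOfLE (X.basicOpen_le f)).op f) :=
    RingedSpace.isUnit_res_basicOpen _ f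
  obtain ⟨w, hw⟩ := hu
  have h7 := congrArg (fun z => (↑w⁻¹ : Γ(X, X.basicOpen f)) • z) h6
  simp only [smul_zero] at h7
  rw [← hw, smul_smul, Units.inv_mul, one_smul] at h7
  exact h7

end Groth.Agent.S4908
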