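import Groth.Statements.S4909
import Groth.Agent.Lib.R2H3SepPull
import Groth.Agent.Lib.R2H3SepFlat
import Groth.Agent.Lib.R2H3ConormalH1

set_option autoImplicit false
universe u
open CategoryTheory AlgebraicGeometry
open EGA43

namespace Groth.Agent.S4909

/-- Case Z_λ = X: let X be a scheme, u_i : F ⟶ G_i a separating family of homomorphisms of
quasi-coherent O_X-modules (a section of F over an open subset killed by every u_i is zero) and g :
X' ⟶ X a flat morphism locally of finite presentation. Then the family (g^*u_i : g^*F ⟶ g^*G_i) is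
separating. (The published statement allows homomorphisms into direct images (f_λ)_*G_λ; this row is
the case Z_λ = X, to which the general case reduces.) -/
theorem result {X X' : Scheme.{u}} (F : X.Modules) [Coh.IsQCoh F] {ι : Type u}
    (G : ι → X.Modules) [∀ i, Coh.IsQCoh (G i)] (u : ∀ i, F ⟶ G i) (g : X' ⟶ X) [Flat g] [LocallyOfFinitePresentation g]
    (h : (∀ (V : (X).Opens) (t : ↑((F).presheaf.obj (Opposite.op V))), (∀ i, (Scheme.Modules.Hom.mapPresheaf (u i)).app (Opposite.op V) t = 0) → t = 0)) :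
    (∀ (V : (X').Opens) (t : ↑(((Scheme.Modules.pullback g).obj F).presheaf.obj (Opposite.op V))), (∀ i, (Scheme.Modules.Hom.mapPresheaf ((Scheme.Modules.pullback g).map (u i))).app (Opposite.op V) t = 0) → t = 0) := by
  haveI : F.IsQuasicoherent := ‹Coh.IsQCoh F›
  haveI : ∀ i, (G i).IsQuasicoherent := fun i => ‹∀ i, Coh.IsQCoh (G i)› i
  intro W t ht
  refine Groth.Agent.Lib.R2H3.SepPull.separating_pullback_of_charts g F G u ?_ W t ht
  intro V U hV hU hle
  letI := (g.appLE V U hle).hom.toAlgebra
  haveI : Module.Flat Γ(X, V) Γ(X', U) := Flat.flat_appLE g hV hU hle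
  haveI : Algebra.FinitePresentation Γ(X, V) Γ(X', U) :=
    LocallyOfFinitePresentation.finitePresentation_appLE g hV hU hle
  intro t' ht'
  refine Groth.Agent.Lib.R2H3.SepFlat.eq_zero_of_flat_finitePresentation
    (fun i => Groth.Agent.Lib.R2H3.SepPull.appL (u i) V) ?_ t' ht'
  intro a m hm
  letI := Groth.Agent.Lib.R2H3.ConormalH1.basicModule F a
  letI := fun i => Groth.Agent.Lib.R2H3.ConormalH1.basicModule (G i) a
  have hlocF := Groth.Agent.Lib.R2H3.ConormalH1.isLocalizedModule_basicRes F hV a
  have hm' : Groth.Agent.Lib.R2H3.ConormalH1.basicRes F a m = 0 := by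
    apply h (X.basicOpen a)
    intro i
    obtain ⟨n, hn⟩ := hm i
    have hlocG := Groth.Agent.Lib.R2H3.ConormalH1.isLocalizedModule_basicRes (G i) hV a
    have hnat : (Scheme.Modules.Hom.mapPresheaf (u i)).app (Opposite.op (X.basicOpen a))
        (Groth.Agent.Lib.R2H3.ConormalH1.basicRes F a m) =
        Groth.Agent.Lib.R2H3.ConormalH1.basicRes (G i) a
          (Groth.Agent.Lib.R2H3.SepPull.appL (u i) V m) := by
      have := (Scheme.Modules.Hom.mapPresheaf (u i)).naturality (homOfLE (X.basicOpen_le a)).op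
      exact congr($this m)
    rw [hnat]
    exact (IsLocalizedModule.eq_zero_iff (Submonoid.powers a)
      (Groth.Agent.Lib.R2H3.ConormalH1.basicRes (G i) a)).mpr ⟨⟨a ^ n, n, rfl⟩, hn⟩
  obtain ⟨⟨_, n, rfl⟩, hn⟩ := (IsLocalizedModule.eq_zero_iff (Submonoid.powers a)
    (Groth.Agent.Lib.R2H3.ConormalH1.basicRes F a)).mp hm'
  exact ⟨n, hn⟩

end Groth.Agent.S4909
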