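import Groth.Statements.S5909
import Groth.Agent.Lib.R2H3SepPull

set_option autoImplicit false
universe u
open CategoryTheory AlgebraicGeometry
open EGA43

namespace Groth.Agent.S5909

open TensorProduct in
theorem lTensor_sep_of_finite {A B : Type u} [CommRing A] [CommRing B] [Algebra A B] [Module.Flat A B]
    {ι : Type*} [Finite ι] {M : Type u} [AddCommGroup M] [Module A M] {N : ι → Type u}
    [∀ i, AddCommGroup (N i)] [∀ i, Module A (N i)]
    (f : ∀ i, M →ₗ[A] N i) (hf : ∀ m, (∀ i, f i m = 0) → m = 0) (t : B ⊗[A] M)
    (ht : ∀ i, (f i).lTensor B t = 0) : t = 0 := by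
  classical
  have := Fintype.ofFinite ι
  have hφ : Function.Injective (LinearMap.pi f) := by
    rw [injective_iff_map_eq_zero]
    intro m hm
    exact hf m fun i => congrFun hm i
  have h1 := Module.Flat.lTensor_preserves_injective_linearMap (M := B) (LinearMap.pi f) hφ
  apply h1
  rw [map_zero]
  apply (TensorProduct.piRight A A B N).injective
  rw [map_zero]
  funext i
  rw [Pi.zero_apply, ← ht i]
  clear ht
  induction t using TensorProduct.induction_on with
  | zero => simp
  | tmul b m =>
    rw [LinearMap.lTensor_tmul, LinearMap.lTensor_tmul, TensorProduct.piRight_apply,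
      TensorProduct.piRightHom_tmul]
    rfl
  | add x y hx hy => simp only [map_add, Pi.add_apply, hx, hy]

/-- Case Z_λ = X: let X be a scheme, (u_i : F ⟶ G_i) a finite family (finite index set) of homomorphisms
of quasi-coherent O_X-modules which is separating (a section of F over an open subset killed by
every u_i is zero), and g : X' ⟶ X a flat morphism. Then the family (g^*u_i : g^*F ⟶ g^*G_i) is
separating. (The published statement allows a finite family of homomorphisms into direct images
(f_λ)_*G_λ along quasi-compact morphisms f_λ; this row is the case Z_λ = X, to which the general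
case reduces.) -/
theorem result {X X' : Scheme.{u}} (F : X.Modules) [Coh.IsQCoh F] {ι : Type u} [Finite ι]
    (G : ι → X.Modules) [∀ i, Coh.IsQCoh (G i)] (u : ∀ i, F ⟶ G i) (g : X' ⟶ X) [Flat g]
    (h : ∀ (V : (X).Opens) (t : ↑((F).presheaf.obj (Opposite.op V))), (∀ i, (Scheme.Modules.Hom.mapPresheaf (u i)).app (Opposite.op V) t = 0) → t = 0) :
    ∀ (V : (X').Opens) (t : ↑(((Scheme.Modules.pullback g).obj F).presheaf.obj (Opposite.op V))), (∀ i, (Scheme.Modules.Hom.mapPresheaf ((Scheme.Modules.pullback g).map (u i))).app (Opposite.op V) t = 0) → t = 0 := by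
  haveI : F.IsQuasicoherent := ‹Coh.IsQCoh F›
  haveI : ∀ i, (G i).IsQuasicoherent := fun i => ‹∀ i, Coh.IsQCoh (G i)› i
  intro W t ht
  refine Groth.Agent.Lib.R2H3.SepPull.separating_pullback_of_charts g F G u ?_ W t ht
  intro V U hV hU hle
  letI := (g.appLE V U hle).hom.toAlgebra
  haveI : Module.Flat Γ(X, V) Γ(X', U) := Flat.flat_appLE g hV hU hle
  intro t' ht'
  exact lTensor_sep_of_finite (fun i => Groth.Agent.Lib.R2H3.SepPull.appL (u i) V)
    (fun m hm => h V m hm) t' ht'

end Groth.Agent.S5909
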