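import Groth.Statements.S4912
import Groth.Agent.Lib.R2H3SepPull
import Groth.Agent.S5909

set_option autoImplicit false
universe u
open CategoryTheory AlgebraicGeometry
open EGA43

namespace Groth.Agent.S4912

theorem exists_finset_iInf_eq_bot {A M : Type*} [Ring A] [AddCommGroup M] [Module A M] [IsArtinian A M]
    {ι : Type*} (K : ι → Submodule A M) (hK : ⨅ i, K i = ⊥) :
    ∃ s : Finset ι, ⨅ i ∈ s, K i = ⊥ := by
  classical
  obtain ⟨N, ⟨s₀, rfl⟩, hmin⟩ := IsArtinian.set_has_minimal
    (Set.range fun s : Finset ι => ⨅ i ∈ s, K i) ⟨_, ⟨∅, rfl⟩⟩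
  refine ⟨s₀, ?_⟩
  rw [eq_bot_iff, ← hK]
  refine le_iInf fun j => ?_
  have h1 : (⨅ i ∈ insert j s₀, K i) ≤ ⨅ i ∈ s₀, K i := by
    rw [Finset.iInf_insert]
    exact inf_le_right
  have h2 : ¬ (⨅ i ∈ insert j s₀, K i) < ⨅ i ∈ s₀, K i := hmin _ ⟨insert j s₀, rfl⟩
  have h3 : (⨅ i ∈ insert j s₀, K i) = ⨅ i ∈ s₀, K i := by
    rcases h1.lt_or_eq with h | h
    · exact absurd h h2
    · exact h
  rw [← h3, Finset.iInf_insert]
  exact inf_le_left

open TensorProduct in
theorem lTensor_sep_of_artinian {A B : Type u} [CommRing A] [IsArtinianRing A] [CommRing B] [Algebra A B]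
    [Module.Flat A B]
    {ι : Type*} {M : Type u} [AddCommGroup M] [Module A M] {N : ι → Type u}
    [∀ i, AddCommGroup (N i)] [∀ i, Module A (N i)]
    (f : ∀ i, M →ₗ[A] N i) (hf : ∀ m, (∀ i, f i m = 0) → m = 0) (t : B ⊗[A] M)
    (ht : ∀ i, (f i).lTensor B t = 0) : t = 0 := by
  obtain ⟨M₀, hfin, hsub⟩ := TensorProduct.exists_finite_submodule_right_of_setFinite (M := B) {t}
    (Set.finite_singleton t)
  obtain ⟨t₀, rfl⟩ := hsub (Set.mem_singleton t)
  have := hfin
  have : IsArtinian A M₀ := inferInstance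
  have hK : ⨅ i, LinearMap.ker ((f i).comp M₀.subtype) = ⊥ := by
    rw [eq_bot_iff]
    intro m hm
    rw [Submodule.mem_iInf] at hm
    have : (m : M) = 0 := hf m fun i => hm i
    rw [Submodule.mem_bot]
    exact Subtype.ext this
  obtain ⟨s, hs⟩ := exists_finset_iInf_eq_bot _ hK
  have h0 : t₀ = 0 := by
    refine Groth.Agent.S5909.lTensor_sep_of_finite (ι := s) (fun i => (f i.1).comp M₀.subtype) ?_ t₀ ?_
    · intro m hm
      have : m ∈ ⨅ i ∈ s, LinearMap.ker ((f i).comp M₀.subtype) := by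
        rw [Submodule.mem_iInf]
        intro i
        rw [Submodule.mem_iInf]
        intro hi
        exact hm ⟨i, hi⟩
      rw [hs] at this
      exact this
    · intro i
      rw [LinearMap.lTensor_comp, LinearMap.comp_apply]
      exact ht i.1
  rw [h0, map_zero]

/-- Case Z_λ = X: let X be an Artinian scheme (Noetherian of dimension ≤ 0), u_i : F ⟶ G_i a separating
family of homomorphisms of quasi-coherent O_X-modules (a section of F over an open subset killed by
every u_i is zero) and g : X' ⟶ X a flat morphism; for instance X the spectrum of a field and g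
arbitrary. Then the family (g^*u_i) on X' is separating. (The published statement allows
homomorphisms into direct images (f_λ)_*G_λ; this row is the case Z_λ = X, to which the general case
reduces.) -/
theorem result {X X' : Scheme.{u}} [IsNoetherian X]
    (hX : topologicalKrullDim X ≤ 0) (F : X.Modules) [Coh.IsQCoh F] {ι : Type u}
    (G : ι → X.Modules) [∀ i, Coh.IsQCoh (G i)] (u : ∀ i, F ⟶ G i) (g : X' ⟶ X) [Flat g]
    (h : (∀ (V : (X).Opens) (t : ↑((F).presheaf.obj (Opposite.op V))), (∀ i, (Scheme.Modules.Hom.mapPresheaf (u i)).app (Opposite.op V) t = 0) → t = 0)) :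
    (∀ (V : (X').Opens) (t : ↑(((Scheme.Modules.pullback g).obj F).presheaf.obj (Opposite.op V))), (∀ i, (Scheme.Modules.Hom.mapPresheaf ((Scheme.Modules.pullback g).map (u i))).app (Opposite.op V) t = 0) → t = 0) := by
  haveI : F.IsQuasicoherent := ‹Coh.IsQCoh F›
  haveI : ∀ i, (G i).IsQuasicoherent := fun i => ‹∀ i, Coh.IsQCoh (G i)› i
  haveI : IsLocallyArtinian X := IsLocallyArtinian.of_topologicalKrullDim_le_zero hX
  intro W t ht
  refine Groth.Agent.Lib.R2H3.SepPull.separating_pullback_of_charts g F G u ?_ W t ht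
  intro V U hV hU hle
  letI := (g.appLE V U hle).hom.toAlgebra
  haveI : Module.Flat Γ(X, V) Γ(X', U) := Flat.flat_appLE g hV hU hle
  haveI : IsArtinianRing Γ(X, V) := IsLocallyArtinian.isArtinianRing_presheaf_obj ⟨V, hV⟩
  intro t' ht'
  exact lTensor_sep_of_artinian (fun i => Groth.Agent.Lib.R2H3.SepPull.appL (u i) V)
    (fun m hm => h V m hm) t' ht'

end Groth.Agent.S4912
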