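import Groth.Statements.S4993
import Groth.Agent.Lib.Helper6Tower
import Groth.Agent.Lib.Helper3SmDim
import Groth.Agent.Lib.R2H3SmChart

set_option autoImplicit false
set_option linter.style.haveILetI false
universe u
open CategoryTheory CategoryTheory.Limits AlgebraicGeometry TopologicalSpace
open Unram17 TensorProduct

namespace Groth.Agent.S4993

/-- a basis of the Kähler differentials of a standard smooth algebra of relative dimension `n`. -/
theorem exists_basis_kaehler (A B : Type u) [CommRing A] [CommRing B] [Algebra A B] [Nontrivial B] (n : ℕ)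
    [Algebra.IsStandardSmoothOfRelativeDimension n A B] :
    Nonempty (Module.Basis (Fin n) B Ω[B⁄A]) := by
  have hrank : Module.rank B Ω[B⁄A] = n :=
    Algebra.IsStandardSmoothOfRelativeDimension.rank_kaehlerDifferential n
  haveI : Algebra.IsStandardSmooth A B :=
    Algebra.IsStandardSmoothOfRelativeDimension.isStandardSmooth n
  haveI : Module.Free B Ω[B⁄A] := inferInstance
  haveI : Module.Finite B Ω[B⁄A] := Module.finite_of_rank_eq_nat hrank
  exact ⟨Module.finBasisOfFinrankEq _ _ (Module.finrank_eq_of_rank_eq hrank)⟩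

/-- a surjective linear map between free modules of the same finite rank is bijective. -/
theorem bijective_of_surjective_of_bases {C M N : Type u} [CommRing C] [AddCommGroup M] [Module C M]
    [AddCommGroup N] [Module C N] {n : ℕ} (b₁ : Module.Basis (Fin n) C M) (b₂ : Module.Basis (Fin n) C N)
    (m : M →ₗ[C] N) (hm : Function.Surjective m) : Function.Bijective m := by
  let φ : (Fin n → C) →ₗ[C] (Fin n → C) :=
    b₂.equivFun.toLinearMap ∘ₗ m ∘ₗ b₁.equivFun.symm.toLinearMap
  have hφs : Function.Surjective φ :=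
    b₂.equivFun.surjective.comp (hm.comp b₁.equivFun.symm.surjective)
  have hφi : Function.Injective φ := OrzechProperty.injective_of_surjective_endomorphism φ hφs
  refine ⟨?_, hm⟩
  intro a b hab
  have : φ (b₁.equivFun a) = φ (b₁.equivFun b) := by
    simp only [φ, LinearMap.coe_comp, LinearEquiv.coe_coe, Function.comp_apply,
      LinearEquiv.symm_apply_apply, hab]
  exact b₁.equivFun.injective (hφi this)

/-- the ring-level criterion: `A → B → C` with `B`, `C` standard smooth over `A` of the same relative dimension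
and `C` formally unramified over `B`; then `C` is étale over `B`. -/
theorem etale_of_isStandardSmooth_of_formallyUnramified (A B C : Type u) [CommRing A] [CommRing B] [CommRing C]
    [Algebra A B] [Algebra B C] [Algebra A C] [IsScalarTower A B C] (n : ℕ)
    [Algebra.IsStandardSmoothOfRelativeDimension n A B]
    [Algebra.IsStandardSmoothOfRelativeDimension n A C] [Algebra.FormallyUnramified B C] :
    Algebra.Etale B C := by
  rcases subsingleton_or_nontrivial C with hC | hC
  · haveI : Algebra.IsStandardSmooth A C := Algebra.IsStandardSmoothOfRelativeDimension.isStandardSmooth n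
    haveI : Algebra.IsStandardSmooth A B := Algebra.IsStandardSmoothOfRelativeDimension.isStandardSmooth n
    haveI : Algebra.FinitePresentation B C :=
      Algebra.FinitePresentation.of_restrict_scalars_finitePresentation A B C
    refine ⟨?_, inferInstance⟩
    rw [Algebra.FormallyEtale.iff_formallyUnramified_and_formallySmooth]
    refine ⟨inferInstance, ?_⟩
    rw [Algebra.formallySmooth_iff]
    exact ⟨inferInstance, inferInstance⟩
  · haveI : Nontrivial B := (algebraMap B C).domain_nontrivial
    haveI : Algebra.IsStandardSmooth A C := Algebra.IsStandardSmoothOfRelativeDimension.isStandardSmooth n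
    haveI : Algebra.IsStandardSmooth A B := Algebra.IsStandardSmoothOfRelativeDimension.isStandardSmooth n
    haveI : Algebra.FinitePresentation B C :=
      Algebra.FinitePresentation.of_restrict_scalars_finitePresentation A B C
    obtain ⟨bB⟩ := exists_basis_kaehler A B n
    obtain ⟨bC⟩ := exists_basis_kaehler A C n
    have hsurj : Function.Surjective (KaehlerDifferential.mapBaseChange A B C) := by
      intro y
      exact (KaehlerDifferential.exact_mapBaseChange_map A B C y).mp (Subsingleton.elim _ _)
    have hbij := bijective_of_surjective_of_bases (bB.baseChange C) bC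
      (KaehlerDifferential.mapBaseChange A B C) hsurj
    exact ⟨(Groth.Agent.Lib.Helper6.Tower.formallyEtale_iff_bijective A B C).mpr hbij, inferInstance⟩

theorem etale_stableUnderCompositionWithLocalizationAwaySource :
    RingHom.StableUnderCompositionWithLocalizationAwaySource RingHom.Etale := by
  intro R S T _ _ _ _ r _ f hf
  refine RingHom.Etale.stableUnderComposition _ _ ?_ hf
  change (algebraMap R S).Etale
  rw [RingHom.etale_algebraMap]
  exact Algebra.Etale.of_isLocalizationAway r

/-- Let f : Y ⟶ S and h : X ⟶ S be smooth and let g : X ⟶ Y satisfy g ≫ f = h. Then g is an open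
immersion if and only if g is a monomorphism and, for every point x of X, the local dimension at
g(x) of the fibre of f through g(x) equals the local dimension at x of the fibre of h through x. -/
theorem result {X Y S : Scheme.{u}} (f : Y ⟶ S) (h : X ⟶ S)
    [Smooth f] [Smooth h] (g : X ⟶ Y) (w : g ≫ f = h) :
    IsOpenImmersion g ↔ Mono g ∧ ∀ x : ↥X, FlatMor.fibreDimAt f (g.base x) = FlatMor.fibreDimAt h x := by
  subst w
  constructor
  · intro hg
    refine ⟨inferInstance, fun x => ?_⟩
    rw [Groth.Agent.Lib.Helper3.SmDim.fibreDimAt_comp_of_smooth g f x,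
      Groth.Agent.Lib.Helper3.SmDim.fibreDimAt_eq_of_smoothOfRelativeDimension 0 g x]
    simp
  · rintro ⟨hmono, hdim⟩
    haveI : FormallyUnramified g := inferInstance
    suffices hEt : Etale g by
      exact IsOpenImmersion.of_flat_of_mono g
    rw [HasRingHomProperty.iff_exists_appLE (P := @Etale)
      etale_stableUnderCompositionWithLocalizationAwaySource]
    intro x
    -- an affine chart of `f` around `g x`
    obtain ⟨W, hW, hxW, -⟩ := exists_isAffineOpen_mem_and_subset (x := f (g x)) (U := ⊤) trivial
    have hx0 : g x ∈ f ⁻¹ᵁ W := hxW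
    obtain ⟨V₀, hV₀, hxV₀, hV₀le⟩ := exists_isAffineOpen_mem_and_subset (x := g x) hx0
    have e₀ : V₀ ≤ f ⁻¹ᵁ W := hV₀le
    obtain ⟨t, d, hxt, hstd⟩ :=
      Groth.Agent.Lib.R2H3.SmChart.exists_basicOpen_isStandardSmooth f hW hV₀ e₀ (g x) hxV₀
    have hV : IsAffineOpen (Y.basicOpen t) := hV₀.basicOpen t
    have eV : Y.basicOpen t ≤ f ⁻¹ᵁ W := (Y.basicOpen_le t).trans e₀
    -- an affine chart of `g ≫ f` around `x` inside
    have hx1 : x ∈ g ⁻¹ᵁ Y.basicOpen t := hxt
    obtain ⟨U₀, hU₀, hxU₀, hU₀le⟩ := exists_isAffineOpen_mem_and_subset (x := x) hx1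
    have eU₀ : U₀ ≤ g ⁻¹ᵁ Y.basicOpen t := hU₀le
    have eU₀' : U₀ ≤ (g ≫ f) ⁻¹ᵁ W := fun y hy => eV (eU₀ hy)
    obtain ⟨r, d', hxr, hstd'⟩ :=
      Groth.Agent.Lib.R2H3.SmChart.exists_basicOpen_isStandardSmooth (g ≫ f) hW hU₀ eU₀' x hxU₀
    have hU : IsAffineOpen (X.basicOpen r) := hU₀.basicOpen r
    have eU : X.basicOpen r ≤ g ⁻¹ᵁ Y.basicOpen t := (X.basicOpen_le r).trans eU₀
    have eU' : X.basicOpen r ≤ (g ≫ f) ⁻¹ᵁ W := (X.basicOpen_le r).trans eU₀'
    -- fibre dimensions
    have hdim1 : FlatMor.fibreDimAt f (g x) = (d : WithBot ℕ∞) :=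
      Groth.Agent.Lib.Helper3.SmDim.fibreDimAt_eq_of_chart f d (g x) hW hV hxt eV hstd
    have hdim2 : FlatMor.fibreDimAt (g ≫ f) x = (d' : WithBot ℕ∞) :=
      Groth.Agent.Lib.Helper3.SmDim.fibreDimAt_eq_of_chart (g ≫ f) d' x hW hU hxr eU' hstd'
    have hdd : d = d' := by
      have h3 := hdim x
      rw [hdim2] at h3
      have h4 : (d : WithBot ℕ∞) = (d' : WithBot ℕ∞) := hdim1.symm.trans h3
      exact_mod_cast h4
    subst hdd
    refine ⟨⟨Y.basicOpen t, hV⟩, ⟨X.basicOpen r, hU⟩, hxr, eU, ?_⟩
    -- ring level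
    letI algAB : Algebra Γ(S, W) Γ(Y, Y.basicOpen t) := (f.appLE W (Y.basicOpen t) eV).hom.toAlgebra
    letI algBC : Algebra Γ(Y, Y.basicOpen t) Γ(X, X.basicOpen r) :=
      (g.appLE (Y.basicOpen t) (X.basicOpen r) eU).hom.toAlgebra
    letI algAC : Algebra Γ(S, W) Γ(X, X.basicOpen r) := ((g ≫ f).appLE W (X.basicOpen r) eU').hom.toAlgebra
    haveI : IsScalarTower Γ(S, W) Γ(Y, Y.basicOpen t) Γ(X, X.basicOpen r) := by
      refine IsScalarTower.of_algebraMap_eq fun a => ?_
      have h1 : f.appLE W (Y.basicOpen t) eV ≫ g.appLE (Y.basicOpen t) (X.basicOpen r) eU =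
          (g ≫ f).appLE W (X.basicOpen r) eU' :=
        Scheme.Hom.appLE_comp_appLE _ _ _ _ _ _ _
      exact congr($h1.symm a)
    haveI : Algebra.IsStandardSmoothOfRelativeDimension d Γ(S, W) Γ(Y, Y.basicOpen t) := hstd
    haveI : Algebra.IsStandardSmoothOfRelativeDimension d Γ(S, W) Γ(X, X.basicOpen r) := hstd'
    haveI : Algebra.FormallyUnramified Γ(Y, Y.basicOpen t) Γ(X, X.basicOpen r) :=
      g.formallyUnramified_appLE hV hU eU
    exact etale_of_isStandardSmooth_of_formallyUnramified Γ(S, W) Γ(Y, Y.basicOpen t)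
      Γ(X, X.basicOpen r) d

end Groth.Agent.S4993
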