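import Groth.Statements.S5016
import Groth.Agent.Lib.Helper18OmLS15
import Groth.Agent.Lib.R2H3FSmChart

set_option autoImplicit false
universe u
open CategoryTheory CategoryTheory.Limits AlgebraicGeometry TopologicalSpace
open Unram17

namespace Groth.Agent.S5016

/-- Let g : Y ⟶ S, h : X ⟶ S and f : X ⟶ Y with f ≫ g = h, and suppose f is formally smooth. Given
sheaves of differentials of Y over S and of X over S (universal derivations) and the canonical
compatible map c from the pullback of the former to the latter, c is a monomorphism of O_X-modules.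
(The published statement also identifies the cokernel of this map with the sheaf of differentials of
X over Y and splits the sequence locally; this row states only that the map is injective.) -/
theorem result {X Y S : Scheme.{u}} (g : Y ⟶ S) (h : X ⟶ S)
    (f : X ⟶ Y) (w : f ≫ g = h) (hf : MoreMor.IsFormallySmoothHom f)
    (ΩY : Y.Modules) (dY : OmegaSh.Der g ΩY) (hY : OmegaSh.IsUniversal dY)
    (ΩX : X.Modules) (dX : OmegaSh.Der h ΩX) (hX : OmegaSh.IsUniversal dX)
    (c : (Scheme.Modules.pullback f).obj ΩY ⟶ ΩX) (hc : OmegaSh.IsDiffCompat f dY dX c) :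
    Mono c := by
  subst w
  let ι : Type u := {T : S.Opens × Y.Opens × X.Opens // IsAffineOpen T.1 ∧ IsAffineOpen T.2.1 ∧
    IsAffineOpen T.2.2 ∧ T.2.1 ≤ g ⁻¹ᵁ T.1 ∧ T.2.2 ≤ f ⁻¹ᵁ T.2.1}
  refine Groth.Agent.Helper18OmLS.mono_of_injective_app_basis c {U | ∃ T : ι, T.1.2.2 = U} ?_ ?_
  · refine TopologicalSpace.Opens.isBasis_iff_nbhd.mpr ?_
    intro O x hx
    obtain ⟨W, hW, hxW, -⟩ := exists_isAffineOpen_mem_and_subset (x := g (f x)) (U := ⊤) trivial
    obtain ⟨V, hV, hxV, hVW⟩ := exists_isAffineOpen_mem_and_subset (x := f x) (U := g ⁻¹ᵁ W) hxW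
    obtain ⟨U, hU, hxU, hUV⟩ := exists_isAffineOpen_mem_and_subset (x := x) (U := f ⁻¹ᵁ V ⊓ O)
      ⟨hxV, hx⟩
    exact ⟨U, ⟨⟨⟨W, V, U⟩, hW, hV, hU, hVW, hUV.trans inf_le_left⟩, rfl⟩, hxU,
      hUV.trans inf_le_right⟩
  · rintro _ ⟨⟨⟨W, V, U⟩, hW, hV, hU, hVW, hUV⟩, rfl⟩
    change Function.Injective (c.app U)
    have hUW : U ≤ (f ≫ g) ⁻¹ᵁ W := fun y hy => hVW (hUV hy)
    letI algCA : Algebra Γ(S, W) Γ(Y, V) := (g.appLE W V hVW).hom.toAlgebra
    letI algCB : Algebra Γ(S, W) Γ(X, U) := ((f ≫ g).appLE W U hUW).hom.toAlgebra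
    letI algAB : Algebra Γ(Y, V) Γ(X, U) := (f.appLE V U hUV).hom.toAlgebra
    haveI : IsScalarTower Γ(S, W) Γ(Y, V) Γ(X, U) := by
      refine IsScalarTower.of_algebraMap_eq fun r => ?_
      have h1 : g.appLE W V hVW ≫ f.appLE V U hUV = (f ≫ g).appLE W U hUW :=
        Scheme.Hom.appLE_comp_appLE _ _ _ _ _ _ _
      exact congr($h1.symm r)
    haveI : Algebra.FormallySmooth Γ(Y, V) Γ(X, U) :=
      Groth.Agent.Lib.R2H3.FSmChart.formallySmooth_appLE f hf hU hV hUV
    obtain ⟨e₁, e₂, κ, hκ1, hκ2⟩ := Groth.Agent.Helper18OmLS.exists_chart_model f g (f ≫ g) dY dX c hc hUV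
      hY hX hU hV hW hVW hW hUW rfl rfl rfl
    have h1 : κ = KaehlerDifferential.mapBaseChange Γ(S, W) Γ(Y, V) Γ(X, U) := by
      apply Groth.Agent.Helper18OmLS.tensor_kaehler_ext
      intro a
      rw [hκ2, KaehlerDifferential.mapBaseChange_tmul, KaehlerDifferential.map_D]
    have hinj : Function.Injective κ := by
      rw [h1]
      exact Groth.Agent.Lib.R2H3.FSmChart.mapBaseChange_injective_of_formallySmooth _ _ _
    intro s t hst
    have h2 : κ (e₁.symm s) = κ (e₁.symm t) := by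
      rw [hκ1, hκ1, e₁.apply_symm_apply, e₁.apply_symm_apply, hst]
    exact e₁.symm.injective (hinj h2)

end Groth.Agent.S5016
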