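import Groth.Statements.S5018
import Groth.Agent.Lib.Helper18OmLS15
import Groth.Agent.Lib.Helper20LocFree
import Groth.Agent.Lib.R2H3FSmChart

set_option autoImplicit false
universe u
open CategoryTheory CategoryTheory.Limits AlgebraicGeometry TopologicalSpace
open Unram17

namespace Groth.Agent.S5018

/-- Let f : X ⟶ Y be formally smooth and locally of finite type, and let (Ω', d) be a sheaf of
differentials of X over Y, i.e. d a universal Y-derivation of O_X into Ω'. Then Ω' is finite locally
free. (The published statement also shows that the sheaf of differentials is locally projective for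
every formally smooth f; this row states only the case of f locally of finite type.) -/
theorem result {X Y : Scheme.{u}} (f : X ⟶ Y)
    (hf : MoreMor.IsFormallySmoothHom f) [LocallyOfFiniteType f]
    (Ω' : X.Modules) (d : OmegaSh.Der f Ω') (hd : OmegaSh.IsUniversal d) :
    FlatMod.IsFinLocFree Ω' := by
  haveI := Groth.Agent.Helper18OmLS.isQuasicoherent_of_isUniversal f d hd
  intro x
  obtain ⟨V, hV, hxV, -⟩ := exists_isAffineOpen_mem_and_subset (x := f x) (U := ⊤) trivial
  obtain ⟨U, hU, hxU, hUV⟩ := exists_isAffineOpen_mem_and_subset (x := x) (U := f ⁻¹ᵁ V) hxV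
  letI alg : Algebra Γ(Y, V) Γ(X, U) := (f.appLE V U hUV).hom.toAlgebra
  haveI : Algebra.FormallySmooth Γ(Y, V) Γ(X, U) :=
    Groth.Agent.Lib.R2H3.FSmChart.formallySmooth_appLE f hf hU hV hUV
  haveI : Algebra.FiniteType Γ(Y, V) Γ(X, U) := f.finiteType_appLE hV hU hUV
  let e : ((Groth.Agent.Lib.Helper20.Thickening.ΓUF hU).obj Ω') ≃ₗ[Γ(X, U)] Ω[Γ(X, U)⁄Γ(Y, V)] :=
    (Groth.Agent.Helper18OmLS.ΓUFIso f d hd hU hV hUV rfl).toLinearEquiv
  haveI : Module.FinitePresentation Γ(X, U) ((Groth.Agent.Lib.Helper20.Thickening.ΓUF hU).obj Ω') :=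
    Module.FinitePresentation.of_equiv e.symm
  haveI : Module.Flat Γ(X, U) ((Groth.Agent.Lib.Helper20.Thickening.ΓUF hU).obj Ω') :=
    Module.Flat.of_linearEquiv e
  obtain ⟨D, m, hxD, -, hiso⟩ :=
    Groth.Agent.Lib.Helper20.LocFree.exists_restrict_iso_freeMod Ω' hU x hxU
  exact ⟨D, m, hxD, hiso⟩

end Groth.Agent.S5018
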