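import Groth.Statements.S5019
import Groth.Agent.Lib.Helper18OmLS15
import Groth.Agent.Lib.Helper20LocFree
import Groth.Agent.Lib.Helper3SmDim

set_option autoImplicit false
universe u
open CategoryTheory CategoryTheory.Limits AlgebraicGeometry TopologicalSpace
open Unram17

namespace Groth.Agent.S5019

/-- Let f : X ⟶ Y be smooth and let (Ω', d) be a sheaf of differentials of X over Y (d a universal
Y-derivation). Then for every point x of X there are an open neighbourhood U of x and an integer n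
such that Ω' restricted to U is free of rank n and n is the local dimension at x of the fibre of f
through x. -/
theorem result {X Y : Scheme.{u}} (f : X ⟶ Y) [Smooth f]
    (Ω' : X.Modules) (d : OmegaSh.Der f Ω') (hd : OmegaSh.IsUniversal d) (x : ↥X) :
    ∃ (U : X.Opens) (n : ℕ), x ∈ U ∧ Nonempty (Ω'.restrict U.ι ≅ FlatMod.freeMod (↑U) n) ∧
      FlatMor.fibreDimAt f x = (n : WithBot ℕ∞) := by
  haveI := Groth.Agent.Helper18OmLS.isQuasicoherent_of_isUniversal f d hd
  obtain ⟨V, hV, U, hU, hxU, e, hst⟩ := Smooth.exists_isStandardSmooth f x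
  obtain ⟨n, hn⟩ := Groth.Agent.Lib.Helper3.SmDim.exists_relDim_of_isStandardSmooth _ hst
  refine ⟨U, n, hxU, ?_, Groth.Agent.Lib.Helper3.SmDim.fibreDimAt_eq_of_chart f n x hV hU hxU e hn⟩
  letI alg : Algebra Γ(Y, V) Γ(X, U) := (f.appLE V U e).hom.toAlgebra
  haveI hn' : Algebra.IsStandardSmoothOfRelativeDimension n Γ(Y, V) Γ(X, U) := hn
  haveI : Nonempty U := ⟨⟨x, hxU⟩⟩
  haveI : Nontrivial Γ(X, U) := inferInstance
  have hrank : Module.rank Γ(X, U) Ω[Γ(X, U)⁄Γ(Y, V)] = n :=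
    Algebra.IsStandardSmoothOfRelativeDimension.rank_kaehlerDifferential n
  haveI : Algebra.IsStandardSmooth Γ(Y, V) Γ(X, U) :=
    Algebra.IsStandardSmoothOfRelativeDimension.isStandardSmooth n
  haveI : Module.Free Γ(X, U) Ω[Γ(X, U)⁄Γ(Y, V)] := inferInstance
  haveI : Module.Finite Γ(X, U) Ω[Γ(X, U)⁄Γ(Y, V)] := Module.finite_of_rank_eq_nat hrank
  let b : Module.Basis (Fin n) Γ(X, U) Ω[Γ(X, U)⁄Γ(Y, V)] :=
    Module.finBasisOfFinrankEq _ _ (Module.finrank_eq_of_rank_eq hrank)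
  let eΩ : ((Groth.Agent.Lib.Helper20.Thickening.ΓUF hU).obj Ω') ≃ₗ[Γ(X, U)] Ω[Γ(X, U)⁄Γ(Y, V)] :=
    (Groth.Agent.Helper18OmLS.ΓUFIso f d hd hU hV e rfl).toLinearEquiv
  exact ⟨Groth.Agent.Lib.Helper20.LocFree.restrictIsoFreeMod' Ω' hU (b.map eΩ.symm)⟩

end Groth.Agent.S5019
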