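import Groth.Statements.S5020
import Groth.Agent.Lib.Helper18OmLS15
import Groth.Agent.Lib.R2H3FSmChart
import Groth.Agent.Lib.R2H3FSmConormal

set_option autoImplicit false
universe u
open CategoryTheory CategoryTheory.Limits AlgebraicGeometry TopologicalSpace
open Unram17

namespace Groth.Agent.S5020

/-- Let j : X' ⟶ X be a quasi-compact immersion and f : X ⟶ Y a morphism with j ≫ f formally smooth. Let
(Ω', d) be a sheaf of differentials of X over Y (d universal) and φ the canonical map from the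
conormal sheaf of j to the pullback of Ω' along j (the O_{X'}-linear map sending the class of a
local section s of the ideal of j to the pullback of d s). Then φ is a monomorphism. (The published
statement allows any immersion j and also asserts that the sequence conormal sheaf → pullback of Ω'
→ differentials of X' over Y is short exact and locally split; this row assumes j quasi-compact, the
case in which the conormal sheaf used here is known to be the conormal sheaf of j, and states only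
that the first map is injective.) -/
theorem result {X' X Y : Scheme.{u}} (j : X' ⟶ X)
    [IsImmersion j] [QuasiCompact j] (f : X ⟶ Y) (hf : MoreMor.IsFormallySmoothHom (j ≫ f))
    (Ω' : X.Modules) (d : OmegaSh.Der f Ω') (hd : OmegaSh.IsUniversal d)
    (φ : Omega.conormal j ⟶ (Scheme.Modules.pullback j).obj Ω') (hφ : OmegaSh.IsConormalDiff j d φ) :
    Mono φ := by
  haveI := Groth.Agent.Helper18OmLS.isQuasicoherent_of_isUniversal f d hd
  let ι : Type u := {T : Y.Opens × X.Opens // IsAffineOpen T.1 ∧ IsAffineOpen T.2 ∧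
    T.2 ≤ f ⁻¹ᵁ T.1 ∧ T.2 ≤ j.coborderRange}
  refine Groth.Agent.Helper18OmLS.mono_of_injective_app_basis φ {U | ∃ T : ι, j ⁻¹ᵁ T.1.2 = U} ?_ ?_
  · refine TopologicalSpace.Opens.isBasis_iff_nbhd.mpr ?_
    intro O x hx
    obtain ⟨O'set, hO'open, hO'eq⟩ := j.isEmbedding.isInducing.isOpen_iff.mp O.isOpen
    let O' : X.Opens := ⟨O'set, hO'open⟩
    have hO' : ∀ z' : X', j z' ∈ O' ↔ z' ∈ O := by
      intro z'
      have : z' ∈ (j ⁻¹' O'set) ↔ z' ∈ (O : Set X') := by rw [hO'eq]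
      exact this
    obtain ⟨W, hW, hxW, -⟩ := exists_isAffineOpen_mem_and_subset (x := f (j x)) (U := ⊤) trivial
    have hx2 : j x ∈ (f ⁻¹ᵁ W ⊓ j.coborderRange) ⊓ O' :=
      ⟨⟨hxW, subset_coborder ⟨x, rfl⟩⟩, (hO' x).mpr hx⟩
    obtain ⟨V, hV, hxV, hVle⟩ := exists_isAffineOpen_mem_and_subset (x := j x) hx2
    refine ⟨j ⁻¹ᵁ V, ⟨⟨⟨W, V⟩, hW, hV, hVle.trans (inf_le_left.trans inf_le_left),
      hVle.trans (inf_le_left.trans inf_le_right)⟩, rfl⟩, hxV, ?_⟩
    intro z hz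
    exact (hO' z).mp ((hVle.trans inf_le_right) hz)
  · rintro _ ⟨⟨⟨W, V⟩, hW, hV, hVW, hVj⟩, rfl⟩
    change Function.Injective (φ.app (j ⁻¹ᵁ V))
    have hT : IsAffineOpen (j ⁻¹ᵁ V) :=
      Groth.Agent.Lib.Helper20.ConormalStalk.isAffineOpen_preimage j hV hVj
    have hTV : j ⁻¹ᵁ V ≤ j ⁻¹ᵁ V := le_refl _
    have hTW : j ⁻¹ᵁ V ≤ (j ≫ f) ⁻¹ᵁ W := fun y hy => hVW hy
    letI algAB : Algebra Γ(Y, W) Γ(X, V) := (f.appLE W V hVW).hom.toAlgebra
    letI algBR : Algebra Γ(X, V) Γ(X', j ⁻¹ᵁ V) := (j.appLE V (j ⁻¹ᵁ V) hTV).hom.toAlgebra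
    letI algAR : Algebra Γ(Y, W) Γ(X', j ⁻¹ᵁ V) := ((j ≫ f).appLE W (j ⁻¹ᵁ V) hTW).hom.toAlgebra
    haveI : IsScalarTower Γ(Y, W) Γ(X, V) Γ(X', j ⁻¹ᵁ V) := by
      refine IsScalarTower.of_algebraMap_eq fun r => ?_
      have h1 : f.appLE W V hVW ≫ j.appLE V (j ⁻¹ᵁ V) hTV = (j ≫ f).appLE W (j ⁻¹ᵁ V) hTW :=
        Scheme.Hom.appLE_comp_appLE _ _ _ _ _ _ _
      exact congr($h1.symm r)
    haveI : Algebra.FormallySmooth Γ(Y, W) Γ(X', j ⁻¹ᵁ V) :=
      Groth.Agent.Lib.R2H3.FSmChart.formallySmooth_appLE (j ≫ f) hf hT hW hTW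
    have hBR : Function.Surjective (algebraMap Γ(X, V) Γ(X', j ⁻¹ᵁ V)) := by
      intro b
      obtain ⟨a, ha⟩ := Groth.Agent.Lib.Helper20.ConormalStalk.app_surjective j hV hVj b
      refine ⟨a, ?_⟩
      rw [← ha]
      change (j.appLE V (j ⁻¹ᵁ V) hTV) a = _
      rw [← Scheme.Hom.app_eq_appLE]
    have hkerEq : RingHom.ker (algebraMap Γ(X, V) Γ(X', j ⁻¹ᵁ V)) = RingHom.ker (j.app V).hom := by
      ext b
      rw [RingHom.mem_ker, RingHom.mem_ker]
      change (j.appLE V (j ⁻¹ᵁ V) hTV) b = 0 ↔ _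
      rw [← Scheme.Hom.app_eq_appLE]
    rw [injective_iff_map_eq_zero]
    intro n hn
    obtain ⟨s, rfl⟩ := Groth.Agent.Helper18OmLS.exists_unitSec_eq j (ClSub.idealMod j.ker) hTV hV hT rfl
      hBR n
    rw [Groth.Agent.Helper18OmLS.phi_unitSec j d φ hφ hTV s] at hn
    set x := OmegaSh.idealSect j.ker V s with hx_def
    have hxker : x ∈ RingHom.ker (algebraMap Γ(X, V) Γ(X', j ⁻¹ᵁ V)) := by
      rw [hkerEq, RingHom.mem_ker]
      exact Groth.Agent.Helper18OmLS.app_idealSect_eq_zero j V s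
    obtain ⟨e, he⟩ := Groth.Agent.Helper18OmLS.exists_pullback_equiv j Ω' hTV hV hT rfl
    have h1 : (1 : Γ(X', j ⁻¹ᵁ V)) ⊗ₜ[Γ(X, V)] (d.app V x) = 0 := by
      apply e.injective
      rw [he, one_smul, hn, map_zero]
    let sE := Groth.Agent.Helper18OmLS.sectionsEquiv f d hd hV hW hVW rfl
    have h2 : (1 : Γ(X', j ⁻¹ᵁ V)) ⊗ₜ[Γ(X, V)] (KaehlerDifferential.D Γ(Y, W) Γ(X, V) x) = 0 := by
      have := congrArg (LinearMap.lTensor Γ(X', j ⁻¹ᵁ V) sE.toLinearMap) h1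
      rw [LinearMap.lTensor_tmul, map_zero] at this
      rw [← Groth.Agent.Helper18OmLS.sectionsEquiv_d f d hd hV hW hVW rfl x]
      exact this
    have h3 := Groth.Agent.Lib.R2H3.FSmConormal.mem_sq_of_one_tmul_D_eq_zero
      Γ(Y, W) Γ(X, V) Γ(X', j ⁻¹ᵁ V) hBR x hxker h2
    rw [hkerEq] at h3
    have h4 := Groth.Agent.Helper18OmLS.mem_smul_top_of_idealSect_mem_sq j V s h3
    rw [← hkerEq] at h4
    exact Groth.Agent.Helper18OmLS.unitSec_eq_zero_of_mem_smul_top j (ClSub.idealMod j.ker) hTV rfl h4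

end Groth.Agent.S5020
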