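import Groth.Statements.S5021
import Groth.Agent.Lib.Helper18OmLS15
import Groth.Agent.Lib.Helper20LocFree
import Groth.Agent.Lib.Helper3SmDim
import Groth.Agent.Lib.R2H3SmChart
import Groth.Agent.Lib.R2H3ConormalSplit
import Groth.Agent.Lib.R2H3LocFreeRank

set_option autoImplicit false
universe u
open CategoryTheory CategoryTheory.Limits AlgebraicGeometry TopologicalSpace
open Unram17 TensorProduct

namespace Groth.Agent.S5021

open TensorProduct in
/-- a basis of the Kähler differentials of a standard smooth algebra of relative dimension `n`. -/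
theorem exists_basis_kaehler (A B : Type u) [CommRing A] [CommRing B] [Algebra A B] [Nontrivial B] (n : ℕ)
    [Algebra.IsStandardSmoothOfRelativeDimension n A B] :
    Nonempty (Module.Basis (Fin n) B Ω[B⁄A]) := by
  have hrank : Module.rank B Ω[B⁄A] = n :=
    Algebra.IsStandardSmoothOfRelativeDimension.rank_kaehlerDifferential n
  haveI : Algebra.IsStandardSmooth A B :=
    Algebra.IsStandardSmoothOfRelativeDimension.isStandardSmooth n
  haveI : Module.Free B Ω[B⁄A] := inferInstance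
  haveI : Module.Finite B Ω[B⁄A] := Module.finite_of_rank_eq_nat hrank
  exact ⟨Module.finBasisOfFinrankEq _ _ (Module.finrank_eq_of_rank_eq hrank)⟩

/-- transport of a standard smooth chart along an equality of source opens. -/
theorem isStd_of_eq {X Y : Scheme.{u}} (g : X ⟶ Y) (n : ℕ) {W : Y.Opens} {T T' : X.Opens} (h : T' = T)
    (e : T ≤ g ⁻¹ᵁ W) (hs : (g.appLE W T e).hom.IsStandardSmoothOfRelativeDimension n) :
    (g.appLE W T' (h ▸ e)).hom.IsStandardSmoothOfRelativeDimension n := by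
  subst h
  exact hs

/-- Let f : X ⟶ Y be smooth and j : X' ⟶ X a quasi-compact immersion such that j ≫ f is smooth. Then for
every point x of X' there are an open neighbourhood U of x and an integer n with the conormal sheaf
of j free of rank n on U, and the local dimension at j(x) of the fibre of f through j(x) equals the
local dimension at x of the fibre of j ≫ f through x plus n. (The published statement allows any
immersion j; this row assumes j quasi-compact, the case in which the conormal sheaf used here is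
known to be the conormal sheaf of j.) -/
theorem result {X' X Y : Scheme.{u}} (f : X ⟶ Y) [Smooth f]
    (j : X' ⟶ X) [IsImmersion j] [QuasiCompact j] [Smooth (j ≫ f)] (x : ↥X') :
    ∃ (U : X'.Opens) (n : ℕ), x ∈ U ∧ Nonempty ((Omega.conormal j).restrict U.ι ≅ FlatMod.freeMod (↑U) n) ∧
      FlatMor.fibreDimAt f (j.base x) = FlatMor.fibreDimAt (j ≫ f) x + (n : WithBot ℕ∞) := by
  -- Step A: an affine pair around `j x`
  obtain ⟨W, hW, hxW, -⟩ := exists_isAffineOpen_mem_and_subset (x := f (j x)) (U := ⊤) trivial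
  have hx0 : j x ∈ f ⁻¹ᵁ W ⊓ j.coborderRange := ⟨hxW, subset_coborder ⟨x, rfl⟩⟩
  obtain ⟨V₀, hV₀, hxV₀, hV₀le⟩ := exists_isAffineOpen_mem_and_subset (x := j x) hx0
  have hV₀le' : V₀ ≤ f ⁻¹ᵁ W ⊓ j.coborderRange := hV₀le
  have e₀ : V₀ ≤ f ⁻¹ᵁ W := hV₀le'.trans inf_le_left
  -- Step B: shrink to a standard smooth chart for `f`
  obtain ⟨t, d, hxt, hstd⟩ :=
    Groth.Agent.Lib.R2H3.SmChart.exists_basicOpen_isStandardSmooth f hW hV₀ e₀ (j x) hxV₀
  have hV₁ : IsAffineOpen (X.basicOpen t) := hV₀.basicOpen t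
  have e₁ : X.basicOpen t ≤ f ⁻¹ᵁ W := (X.basicOpen_le t).trans e₀
  have hV₁j : X.basicOpen t ≤ j.coborderRange := (X.basicOpen_le t).trans (hV₀le'.trans inf_le_right)
  have hT₁ : IsAffineOpen (j ⁻¹ᵁ X.basicOpen t) :=
    Groth.Agent.Lib.Helper20.ConormalStalk.isAffineOpen_preimage j hV₁ hV₁j
  have eT₁ : j ⁻¹ᵁ X.basicOpen t ≤ (j ≫ f) ⁻¹ᵁ W := fun y hy => e₁ hy
  -- Step C: shrink to a standard smooth chart for `j ≫ f`
  obtain ⟨r, d', hxr, hstd'⟩ :=
    Groth.Agent.Lib.R2H3.SmChart.exists_basicOpen_isStandardSmooth (j ≫ f) hW hT₁ eT₁ x hxt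
  obtain ⟨b, hb⟩ := Groth.Agent.Lib.Helper20.ConormalStalk.app_surjective j hV₁ hV₁j r
  have hV : IsAffineOpen (X.basicOpen b) := hV₁.basicOpen b
  have hVle : X.basicOpen b ≤ X.basicOpen t := X.basicOpen_le b
  have eV : X.basicOpen b ≤ f ⁻¹ᵁ W := hVle.trans e₁
  have hVj : X.basicOpen b ≤ j.coborderRange := hVle.trans hV₁j
  have hTeq : j ⁻¹ᵁ X.basicOpen b = X'.basicOpen r := by
    rw [Scheme.preimage_basicOpen, hb]
  have hxV : x ∈ j ⁻¹ᵁ X.basicOpen b := by rw [hTeq]; exact hxr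
  have hT : IsAffineOpen (j ⁻¹ᵁ X.basicOpen b) :=
    Groth.Agent.Lib.Helper20.ConormalStalk.isAffineOpen_preimage j hV hVj
  have eT : j ⁻¹ᵁ X.basicOpen b ≤ (j ≫ f) ⁻¹ᵁ W := fun y hy => eV hy
  have hstdB : (f.appLE W (X.basicOpen b) eV).hom.IsStandardSmoothOfRelativeDimension d :=
    Groth.Agent.Lib.R2H3.SmChart.isStandardSmoothOfRelativeDimension_basicOpen f d hV₁ e₁ hstd b
  have hstdR : ((j ≫ f).appLE W (j ⁻¹ᵁ X.basicOpen b) eT).hom.IsStandardSmoothOfRelativeDimension d' :=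
    isStd_of_eq (j ≫ f) d' hTeq _ hstd'
  -- fibre dimensions
  have hdim : FlatMor.fibreDimAt f (j x) = (d : WithBot ℕ∞) :=
    Groth.Agent.Lib.Helper3.SmDim.fibreDimAt_eq_of_chart f d (j x) hW hV hxV eV hstdB
  have hdim' : FlatMor.fibreDimAt (j ≫ f) x = (d' : WithBot ℕ∞) :=
    Groth.Agent.Lib.Helper3.SmDim.fibreDimAt_eq_of_chart (j ≫ f) d' x hW hT hxV eT hstdR
  -- Step D: ring level
  set V := X.basicOpen b with hVdef
  have hTV : j ⁻¹ᵁ V ≤ j ⁻¹ᵁ V := le_refl _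
  letI algAB : Algebra Γ(Y, W) Γ(X, V) := (f.appLE W V eV).hom.toAlgebra
  letI algBR : Algebra Γ(X, V) Γ(X', j ⁻¹ᵁ V) := (j.appLE V (j ⁻¹ᵁ V) hTV).hom.toAlgebra
  letI algAR : Algebra Γ(Y, W) Γ(X', j ⁻¹ᵁ V) := ((j ≫ f).appLE W (j ⁻¹ᵁ V) eT).hom.toAlgebra
  haveI : IsScalarTower Γ(Y, W) Γ(X, V) Γ(X', j ⁻¹ᵁ V) := by
    refine IsScalarTower.of_algebraMap_eq fun r => ?_
    have h1 : f.appLE W V eV ≫ j.appLE V (j ⁻¹ᵁ V) hTV = (j ≫ f).appLE W (j ⁻¹ᵁ V) eT :=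
      Scheme.Hom.appLE_comp_appLE _ _ _ _ _ _ _
    exact congr($h1.symm r)
  haveI : Algebra.IsStandardSmoothOfRelativeDimension d Γ(Y, W) Γ(X, V) := hstdB
  haveI : Algebra.IsStandardSmoothOfRelativeDimension d' Γ(Y, W) Γ(X', j ⁻¹ᵁ V) := hstdR
  haveI : Algebra.IsStandardSmooth Γ(Y, W) Γ(X', j ⁻¹ᵁ V) :=
    Algebra.IsStandardSmoothOfRelativeDimension.isStandardSmooth d'
  haveI : Algebra.FormallySmooth Γ(Y, W) Γ(X', j ⁻¹ᵁ V) := inferInstance
  haveI : Nonempty (j ⁻¹ᵁ V : X'.Opens) := ⟨⟨x, hxV⟩⟩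
  haveI : Nonempty V := ⟨⟨j x, hxV⟩⟩
  haveI : Nontrivial Γ(X', j ⁻¹ᵁ V) := inferInstance
  haveI : Nontrivial Γ(X, V) := inferInstance
  obtain ⟨bB⟩ := exists_basis_kaehler Γ(Y, W) Γ(X, V) d
  obtain ⟨bR⟩ := exists_basis_kaehler Γ(Y, W) Γ(X', j ⁻¹ᵁ V) d'
  have hBR : Function.Surjective (algebraMap Γ(X, V) Γ(X', j ⁻¹ᵁ V)) := by
    intro c
    obtain ⟨a, ha⟩ := Groth.Agent.Lib.Helper20.ConormalStalk.app_surjective j hV hVj c
    refine ⟨a, ?_⟩
    rw [← ha]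
    change (j.appLE V (j ⁻¹ᵁ V) hTV) a = _
    rw [← Scheme.Hom.app_eq_appLE]
  have hkerEq : RingHom.ker (algebraMap Γ(X, V) Γ(X', j ⁻¹ᵁ V)) = RingHom.ker (j.app V).hom := by
    ext c
    rw [RingHom.mem_ker, RingHom.mem_ker]
    change (j.appLE V (j ⁻¹ᵁ V) hTV) c = 0 ↔ _
    rw [← Scheme.Hom.app_eq_appLE]
  obtain ⟨eSF⟩ := Groth.Agent.Lib.R2H3.ConormalSplit.exists_stablyFree_conormal
    Γ(Y, W) Γ(X, V) Γ(X', j ⁻¹ᵁ V) hBR bB bR
  -- sections of the ideal sheaf over `V`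
  let φ : Γ(ClSub.idealMod j.ker, V) →ₗ[Γ(X, V)] RingHom.ker (algebraMap Γ(X, V) Γ(X', j ⁻¹ᵁ V)) :=
    { toFun := fun s => ⟨OmegaSh.idealSect j.ker V s, by
        rw [hkerEq, RingHom.mem_ker]
        exact Groth.Agent.Helper18OmLS.app_idealSect_eq_zero j V s⟩
      map_add' := fun s s' => Subtype.ext (map_add _ s s')
      map_smul' := fun c s => Subtype.ext (Groth.Agent.Helper18OmLS.idealSect_smul j.ker V c s) }
  have hφ : Function.Bijective φ := by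
    constructor
    · intro s s' h
      exact Groth.Agent.Helper18OmLS.idealSect_injective j.ker V (congrArg Subtype.val h)
    · rintro ⟨c, hc⟩
      rw [hkerEq, RingHom.mem_ker] at hc
      obtain ⟨s, hs⟩ := Groth.Agent.Helper18OmLS.exists_idealSect_eq j V c hc
      exact ⟨s, Subtype.ext hs⟩
  let eφ := LinearEquiv.ofBijective φ hφ
  obtain ⟨ep, -⟩ := Groth.Agent.Helper18OmLS.exists_pullback_equiv j (ClSub.idealMod j.ker) hTV hV hT rfl
  haveI : (Omega.conormal j).IsQuasicoherent := by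
    unfold Omega.conormal
    infer_instance
  let eΓ : Γ(Omega.conormal j, j ⁻¹ᵁ V) ≃ₗ[Γ(X', j ⁻¹ᵁ V)]
      (Groth.Agent.Lib.Helper20.Thickening.ΓUF hT).obj (Omega.conormal j) :=
    Groth.Agent.Lib.Helper20.PullbackAff.ΓUEquiv hT (Omega.conormal j)
  let e1 : (Γ(X', j ⁻¹ᵁ V) ⊗[Γ(X, V)] RingHom.ker (algebraMap Γ(X, V) Γ(X', j ⁻¹ᵁ V)))
      ≃ₗ[Γ(X', j ⁻¹ᵁ V)] (Groth.Agent.Lib.Helper20.Thickening.ΓUF hT).obj (Omega.conormal j) :=
    ((TensorProduct.AlgebraTensorModule.congr (LinearEquiv.refl Γ(X', j ⁻¹ᵁ V) Γ(X', j ⁻¹ᵁ V))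
      eφ.symm).trans ep).trans eΓ
  let eTot : ((Groth.Agent.Lib.Helper20.Thickening.ΓUF hT).obj (Omega.conormal j) ×
      (Fin d' → Γ(X', j ⁻¹ᵁ V))) ≃ₗ[Γ(X', j ⁻¹ᵁ V)] (Fin d → Γ(X', j ⁻¹ᵁ V)) :=
    (LinearEquiv.prodCongr e1.symm (LinearEquiv.refl _ _)).trans eSF
  -- Step E
  obtain ⟨D, m, hxD, -, hiso, hm⟩ :=
    Groth.Agent.Lib.R2H3.LocFreeRank.exists_restrict_iso_freeMod_of_stablyFree (Omega.conormal j) hT eTot x hxV
  refine ⟨D, m, hxD, hiso, ?_⟩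
  rw [hdim, hdim', ← hm]
  push_cast
  rw [add_comm]

end Groth.Agent.S5021
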