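import Groth.Statements.S5023
import Groth.Agent.Lib.Helper18OmLS15
import Groth.Agent.Lib.Helper13ModGlue
import Groth.Agent.Lib.Helper23QCohAbelian
import Groth.Agent.Lib.R2H3ProdChart
import Groth.Agent.Lib.R2H3KaehlerPushout

set_option autoImplicit false
universe u
open CategoryTheory CategoryTheory.Limits AlgebraicGeometry TopologicalSpace Opposite
open Nrm16 TensorProduct KaehlerDifferential

namespace Groth.Agent.S5023

section coprodSections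
variable {Z : Scheme.{u}} {M N F : Z.Modules} (c₁ : M ⟶ F) (c₂ : N ⟶ F) (T : Z.Opens)

theorem coprod_decomp (s : Γ(M ⨿ N, T)) :
    s = (coprod.inl : M ⟶ M ⨿ N).app T ((coprod.desc (𝟙 M) 0 : M ⨿ N ⟶ M).app T s) +
      (coprod.inr : N ⟶ M ⨿ N).app T ((coprod.desc 0 (𝟙 N) : M ⨿ N ⟶ N).app T s) := by
  have h : (coprod.desc (𝟙 M) 0 : M ⨿ N ⟶ M) ≫ coprod.inl + (coprod.desc 0 (𝟙 N) : M ⨿ N ⟶ N) ≫ coprod.inr
      = 𝟙 (M ⨿ N) := by
    apply coprod.hom_ext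
    · rw [Preadditive.comp_add, ← Category.assoc, ← Category.assoc, coprod.inl_desc, coprod.inl_desc,
        Category.id_comp, zero_comp, add_zero, Category.comp_id]
    · rw [Preadditive.comp_add, ← Category.assoc, ← Category.assoc, coprod.inr_desc, coprod.inr_desc,
        Category.id_comp, zero_comp, zero_add, Category.comp_id]
  have h2 := congrArg (fun φ : M ⨿ N ⟶ M ⨿ N => φ.app T s) h
  simp only [Scheme.Modules.Hom.add_app, Scheme.Modules.Hom.comp_app, Scheme.Modules.Hom.id_app] at h2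
  exact h2.symm

theorem desc_inl_add_inr (x : Γ(M, T)) (y : Γ(N, T)) :
    (coprod.desc c₁ c₂).app T ((coprod.inl : M ⟶ M ⨿ N).app T x + (coprod.inr : N ⟶ M ⨿ N).app T y) =
      c₁.app T x + c₂.app T y := by
  rw [map_add]
  have h1 : (coprod.inl : M ⟶ M ⨿ N) ≫ coprod.desc c₁ c₂ = c₁ := coprod.inl_desc _ _
  have h2 : (coprod.inr : N ⟶ M ⨿ N) ≫ coprod.desc c₁ c₂ = c₂ := coprod.inr_desc _ _
  have h1' := congrArg (fun φ : M ⟶ F => φ.app T x) h1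
  have h2' := congrArg (fun φ : N ⟶ F => φ.app T y) h2
  simp only [Scheme.Modules.Hom.comp_app] at h1' h2'
  rw [← h1', ← h2']
  rfl

end coprodSections

/-- Let a : X ⟶ S and b : Y ⟶ S be morphisms and Z a fibre product of X and Y over S with projections p,
q and structure morphism h. Given sheaves of differentials (universal derivations) of X, Y and Z
over S and the canonical compatible maps c₁ : p^*Ω_X ⟶ Ω_Z and c₂ : q^*Ω_Y ⟶ Ω_Z, the induced map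
from the coproduct p^*Ω_X ⨿ q^*Ω_Y to Ω_Z is an isomorphism. -/
theorem result {X Y S Z : Scheme.{u}} (a : X ⟶ S) (b : Y ⟶ S)
    (p : Z ⟶ X) (q : Z ⟶ Y) (h : Z ⟶ S) (wp : p ≫ a = h) (wq : q ≫ b = h) (hZ : IsPullback p q a b)
    (ΩX : X.Modules) (dX : OmegaSh.Der a ΩX) (hX : OmegaSh.IsUniversal dX)
    (ΩY : Y.Modules) (dY : OmegaSh.Der b ΩY) (hY : OmegaSh.IsUniversal dY)
    (ΩZ : Z.Modules) (dZ : OmegaSh.Der h ΩZ) (hZu : OmegaSh.IsUniversal dZ)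
    (c₁ : (Scheme.Modules.pullback p).obj ΩX ⟶ ΩZ) (hc₁ : OmegaSh.IsDiffCompat p dX dZ c₁)
    (c₂ : (Scheme.Modules.pullback q).obj ΩY ⟶ ΩZ) (hc₂ : OmegaSh.IsDiffCompat q dY dZ c₂) :
    IsIso (coprod.desc c₁ c₂) := by
  haveI := Groth.Agent.Helper18OmLS.isQuasicoherent_of_isUniversal a dX hX
  haveI := Groth.Agent.Helper18OmLS.isQuasicoherent_of_isUniversal b dY hY
  haveI := Groth.Agent.Helper18OmLS.isQuasicoherent_of_isUniversal h dZ hZu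
  haveI : ((Scheme.Modules.pullback p).obj ΩX ⨿ (Scheme.Modules.pullback q).obj ΩY).IsQuasicoherent := by
    haveI := Groth.Agent.Lib.Helper23.QCohLocal.isQuasicoherent_biprod
      ((Scheme.Modules.pullback p).obj ΩX) ((Scheme.Modules.pullback q).obj ΩY)
    exact (SheafOfModules.isQuasicoherent Z.ringCatSheaf).prop_of_iso
      (biprod.isoCoprod ((Scheme.Modules.pullback p).obj ΩX) ((Scheme.Modules.pullback q).obj ΩY))
      inferInstance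
  subst wp
  let κ : Type u := {k : S.Opens × X.Opens × Y.Opens // IsAffineOpen k.1 ∧ IsAffineOpen k.2.1 ∧
    IsAffineOpen k.2.2 ∧ k.2.1 ≤ a ⁻¹ᵁ k.1 ∧ k.2.2 ≤ b ⁻¹ᵁ k.1}
  let Tc : κ → Z.Opens := fun k => p ⁻¹ᵁ k.1.2.1 ⊓ q ⁻¹ᵁ k.1.2.2
  have hcov : ⨆ k, Tc k = ⊤ := by
    rw [eq_top_iff]
    intro z _
    obtain ⟨W, hW, hzW, -⟩ := exists_isAffineOpen_mem_and_subset (x := (p ≫ a) z) (U := ⊤) trivial
    have hpz : p z ∈ a ⁻¹ᵁ W := hzW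
    have hqz : q z ∈ b ⁻¹ᵁ W := by
      change b (q z) ∈ W
      rw [← Scheme.Hom.comp_apply, wq]
      exact hzW
    obtain ⟨U, hU, hzU, hUW⟩ := exists_isAffineOpen_mem_and_subset (x := p z) hpz
    obtain ⟨V, hV, hzV, hVW⟩ := exists_isAffineOpen_mem_and_subset (x := q z) hqz
    exact Opens.mem_iSup.mpr ⟨⟨(W, U, V), hW, hU, hV, hUW, hVW⟩, hzU, hzV⟩
  refine Groth.Agent.Helper13ModGlue.isIso_of_bijective_cover Tc hcov _ _ (coprod.desc c₁ c₂)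
    (fun k => ?_) (fun k => ?_)
  · obtain ⟨⟨W, U, V⟩, hW, hU, hV, hUW, hVW⟩ := k
    exact Groth.Agent.Lib.R2H3.ProdChart.isAffineOpen_inf hZ hW hU hV hUW hVW
  · obtain ⟨⟨W, U, V⟩, hW, hU, hV, hUW, hVW⟩ := k
    change Function.Bijective ((coprod.desc c₁ c₂).app (p ⁻¹ᵁ U ⊓ q ⁻¹ᵁ V))
    have hUW' : U ≤ a ⁻¹ᵁ W := hUW
    have hVW' : V ≤ b ⁻¹ᵁ W := hVW
    have hT : IsAffineOpen (p ⁻¹ᵁ U ⊓ q ⁻¹ᵁ V) :=
      Groth.Agent.Lib.R2H3.ProdChart.isAffineOpen_inf hZ hW hU hV hUW' hVW'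
    have hTU : p ⁻¹ᵁ U ⊓ q ⁻¹ᵁ V ≤ p ⁻¹ᵁ U := inf_le_left
    have hTV : p ⁻¹ᵁ U ⊓ q ⁻¹ᵁ V ≤ q ⁻¹ᵁ V := inf_le_right
    have hTW : p ⁻¹ᵁ U ⊓ q ⁻¹ᵁ V ≤ (p ≫ a) ⁻¹ᵁ W := fun z hz => hUW' hz.1
    have hpo := Groth.Agent.Lib.R2H3.ProdChart.isPushout_appLE hZ hW hU hV hUW' hVW'
    letI algAB : Algebra Γ(S, W) Γ(X, U) := (a.appLE W U hUW').hom.toAlgebra
    letI algAC : Algebra Γ(S, W) Γ(Y, V) := (b.appLE W V hVW').hom.toAlgebra
    letI algBR : Algebra Γ(X, U) Γ(Z, p ⁻¹ᵁ U ⊓ q ⁻¹ᵁ V) := (p.appLE U _ hTU).hom.toAlgebra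
    letI algCR : Algebra Γ(Y, V) Γ(Z, p ⁻¹ᵁ U ⊓ q ⁻¹ᵁ V) := (q.appLE V _ hTV).hom.toAlgebra
    letI algAR : Algebra Γ(S, W) Γ(Z, p ⁻¹ᵁ U ⊓ q ⁻¹ᵁ V) := ((p ≫ a).appLE W _ hTW).hom.toAlgebra
    haveI : IsScalarTower Γ(S, W) Γ(X, U) Γ(Z, p ⁻¹ᵁ U ⊓ q ⁻¹ᵁ V) := by
      refine IsScalarTower.of_algebraMap_eq fun r => ?_
      have h1 : a.appLE W U hUW' ≫ p.appLE U _ hTU = (p ≫ a).appLE W _ hTW :=
        Scheme.Hom.appLE_comp_appLE _ _ _ _ _ _ _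
      exact congr($h1.symm r)
    haveI : IsScalarTower Γ(S, W) Γ(Y, V) Γ(Z, p ⁻¹ᵁ U ⊓ q ⁻¹ᵁ V) := by
      refine IsScalarTower.of_algebraMap_eq fun r => ?_
      have h1 : b.appLE W V hVW' ≫ q.appLE V _ hTV = (p ≫ a).appLE W _ hTW := by
        rw [Scheme.Hom.appLE_comp_appLE]
        have key : ∀ (g : Z ⟶ S) (hg : g = p ≫ a) (e : p ⁻¹ᵁ U ⊓ q ⁻¹ᵁ V ≤ g ⁻¹ᵁ W),
            g.appLE W _ e = (p ≫ a).appLE W _ hTW := by
          rintro g rfl e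
          rfl
        exact key _ wq _
      exact congr($h1.symm r)
    haveI : Algebra.IsPushout Γ(S, W) Γ(X, U) Γ(Y, V) Γ(Z, p ⁻¹ᵁ U ⊓ q ⁻¹ᵁ V) :=
      CommRingCat.isPushout_iff_isPushout.mp hpo
    obtain ⟨e₁, κ₁, hκ₁, hκ₁D, -⟩ := Groth.Agent.Helper18OmLS.exists_chart_model'' p a (p ≫ a) dX dZ c₁ hc₁
      hTU hX hZu hT hU hW hUW' hW hTW rfl rfl rfl
    obtain ⟨e₂, κ₂, hκ₂, hκ₂D, -⟩ := Groth.Agent.Helper18OmLS.exists_chart_model'' q b (p ≫ a) dY dZ c₂ hc₂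
      hTV hY hZu hT hV hW hVW' hW hTW rfl rfl rfl
    have hκ₁eq : κ₁ = (KaehlerDifferential.mapBaseChange Γ(S, W) Γ(X, U) Γ(Z, p ⁻¹ᵁ U ⊓ q ⁻¹ᵁ V)) := by
      refine Groth.Agent.Helper18OmLS.tensor_kaehler_ext _ _ fun x => ?_
      rw [hκ₁D]
      simp
    have hκ₂eq : κ₂ = (KaehlerDifferential.mapBaseChange Γ(S, W) Γ(Y, V) Γ(Z, p ⁻¹ᵁ U ⊓ q ⁻¹ᵁ V)) := by
      refine Groth.Agent.Helper18OmLS.tensor_kaehler_ext _ _ fun x => ?_
      rw [hκ₂D]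
      simp
    have hΦ := Groth.Agent.Lib.R2H3.KaehlerPushout.bijective_coprod_mapBaseChange
      Γ(S, W) Γ(X, U) Γ(Y, V) Γ(Z, p ⁻¹ᵁ U ⊓ q ⁻¹ᵁ V)
    rw [← hκ₁eq, ← hκ₂eq] at hΦ
    constructor
    · rw [injective_iff_map_eq_zero]
      intro s hs
      obtain ⟨x, y, rfl⟩ : ∃ x y, s = (coprod.inl : (Scheme.Modules.pullback p).obj ΩX ⟶ (Scheme.Modules.pullback p).obj ΩX ⨿
          (Scheme.Modules.pullback q).obj ΩY).app _ x + (coprod.inr : (Scheme.Modules.pullback q).obj ΩY ⟶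
          (Scheme.Modules.pullback p).obj ΩX ⨿ (Scheme.Modules.pullback q).obj ΩY).app _ y :=
        ⟨_, _, coprod_decomp _ s⟩
      rw [desc_inl_add_inr] at hs
      obtain ⟨u, rfl⟩ := e₁.surjective x
      obtain ⟨t, rfl⟩ := e₂.surjective y
      have h0 : κ₁ u + κ₂ t = κ₁ 0 + κ₂ 0 := by
        rw [hκ₁, hκ₂, ← map_add, hs, map_zero, map_zero, map_zero, add_zero]
      have h1 := hΦ.1 (a₁ := (u, t)) (a₂ := (0, 0)) h0
      rw [Prod.mk.injEq] at h1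
      rw [h1.1, h1.2, map_zero, map_zero, map_zero, map_zero, add_zero]
    · intro ω
      obtain ⟨⟨u, t⟩, hut⟩ := hΦ.2 (Groth.Agent.Helper18OmLS.sectionsEquiv (p ≫ a) dZ hZu hT hW hTW rfl ω)
      refine ⟨(coprod.inl : (Scheme.Modules.pullback p).obj ΩX ⟶ (Scheme.Modules.pullback p).obj ΩX ⨿
          (Scheme.Modules.pullback q).obj ΩY).app _ (e₁ u) + (coprod.inr : (Scheme.Modules.pullback q).obj ΩY ⟶
          (Scheme.Modules.pullback p).obj ΩX ⨿ (Scheme.Modules.pullback q).obj ΩY).app _ (e₂ t), ?_⟩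
      rw [desc_inl_add_inr]
      apply (Groth.Agent.Helper18OmLS.sectionsEquiv (p ≫ a) dZ hZu hT hW hTW rfl).injective
      rw [map_add, ← hκ₁, ← hκ₂]
      exact hut

end Groth.Agent.S5023
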