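import Groth.Statements.S5037
import Groth.Agent.Lib.R2H3IdemRepGeo
import Groth.Agent.Lib.R2H3IdemTheta

set_option autoImplicit false
open CategoryTheory CategoryTheory.Limits AlgebraicGeometry
universe u
open Hensel

open Groth.Agent.Lib.Helper8MorS Groth.Agent.Lib.R2H3.IdemClass Groth.Agent.Lib.R2H3.IdemTheta
  Groth.Agent.Lib.R2H3.IdemRepGeo Opposite

namespace Groth.Agent.S5037

/-- b) implies a'): let i : S₀ ⟶ S be a closed immersion. Suppose that for every étale separated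
morphism g : S' ⟶ S and every section u₀ of S' ×_S S₀ ⟶ S₀ there is exactly one section u of g with
i ≫ u = u₀ followed by the first projection. Then for every finite locally free morphism g : S' ⟶ S
(finite, flat and locally of finite presentation), every open-closed subset of S' ×_S S₀ is the
inverse image under the first projection of exactly one open-closed subset of S'. -/
theorem result {S S₀ : Scheme.{u}} (i : S₀ ⟶ S) [IsClosedImmersion i]
    (hb : ∀ (S' : Scheme.{u}) (g : S' ⟶ S), Etale g → IsSeparated g →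
      ∀ u₀ : S₀ ⟶ pullback g i, u₀ ≫ pullback.snd g i = 𝟙 S₀ →
        ∃! u : S ⟶ S', u ≫ g = 𝟙 S ∧ i ≫ u = u₀ ≫ pullback.fst g i)
    {S' : Scheme.{u}} (g : S' ⟶ S) [IsFinite g] [Flat g] [LocallyOfFinitePresentation g]
    (V : Set ↥(pullback g i)) (hV : IsClopen V) :
    ∃! U : Set ↥S', IsClopen U ∧ (pullback.fst g i).base ⁻¹' U = V := by
  obtain ⟨X, f, εX, hfaff, hX⟩ := exists_classifier S
  have := hfaff
  obtain ⟨W, hWet, hWaff, ⟨r⟩⟩ := exists_etale_rep g f εX hX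
  have := hWaff
  have hWsep : IsSeparated W.hom := inferInstance
  -- the two test objects
  let T₁ : Over S := Over.mk (𝟙 S)
  let T₀ : Over S := Over.mk i
  let ι : T₀ ⟶ T₁ := Over.homMk i (Category.comp_id i)
  let σ₁ : pullback (𝟙 S) g ⟶ S' := pullback.snd (𝟙 S) g
  have : IsIso σ₁ := inferInstanceAs (IsIso (pullback.snd (𝟙 S) g))
  let σ₀ : pullback i g ⟶ S' := pullback.snd i g
  have hσ : PTl g ι ≫ σ₁ = σ₀ := PTl_snd g ι
  let sym : pullback g i ≅ pullback i g := pullbackSymmetry g i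
  have hsym : sym.hom ≫ σ₀ = pullback.fst g i := pullbackSymmetry_hom_comp_snd g i
  have key : ∀ (b₁ : (Flatn.morS g f).obj (op T₁)) (U : Set ↥S'),
      theta g f εX b₁ = σ₁.base ⁻¹' U →
      theta g f εX ((Flatn.morS g f).map ι.op b₁) = σ₀.base ⁻¹' U := by
    intro b₁ U h
    rw [theta_map, h, ← hσ]
    rfl
  have hfst : ∀ U : Set ↥S',
      (pullback.fst g i).base ⁻¹' U = sym.hom.base ⁻¹' (σ₀.base ⁻¹' U) := by
    intro U
    rw [← hsym]
    rfl
  -- the section over `S₀`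
  let V' : Set ↥(pullback i g) := sym.inv.base ⁻¹' V
  have hV' : IsClopen V' := hV.preimage sym.inv.continuous
  obtain ⟨b₀, hb₀⟩ := exists_theta_eq hX (T := T₀) V' hV'
  let a₀ : T₀ ⟶ W := r.homEquiv.symm b₀
  have ha₀ : a₀.left ≫ W.hom = i := Over.w a₀
  let u₀ : S₀ ⟶ pullback W.hom i :=
    pullback.lift a₀.left (𝟙 S₀) (by rw [ha₀, Category.id_comp])
  have hu₀ : u₀ ≫ pullback.snd W.hom i = 𝟙 S₀ := pullback.lift_snd _ _ _
  have hu₀' : u₀ ≫ pullback.fst W.hom i = a₀.left := pullback.lift_fst _ _ _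
  obtain ⟨u, ⟨hu1, hu2⟩, huu⟩ := hb W.left W.hom hWet hWsep u₀ hu₀
  rw [hu₀'] at hu2
  let a₁ : T₁ ⟶ W := Over.homMk u hu1
  have hιa : ι ≫ a₁ = a₀ := Over.OverMorphism.ext hu2
  let b₁ : (Flatn.morS g f).obj (op T₁) := r.homEquiv a₁
  have hb₁ : (Flatn.morS g f).map ι.op b₁ = b₀ := by
    have h1 := r.homEquiv_comp ι a₁
    rw [hιa] at h1
    rw [← h1]
    exact r.homEquiv.apply_symm_apply b₀
  let U : Set ↥S' := (inv σ₁).base ⁻¹' (theta g f εX b₁)
  have hUc : IsClopen U := (isClopen_theta hX b₁).preimage (inv σ₁).continuous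
  have hΘ : theta g f εX b₁ = σ₁.base ⁻¹' U :=
    (preimage_preimage_eq σ₁ (inv σ₁) (IsIso.hom_inv_id σ₁) _).symm
  refine ⟨U, ⟨hUc, ?_⟩, ?_⟩
  · rw [hfst, ← key b₁ U hΘ, hb₁, hb₀]
    exact preimage_preimage_eq sym.hom sym.inv sym.hom_inv_id V
  · rintro U₂ ⟨hU₂c, hU₂⟩
    obtain ⟨b₂, hb₂⟩ := exists_theta_eq hX (T := T₁) (σ₁.base ⁻¹' U₂)
      (hU₂c.preimage σ₁.continuous)
    have h20 : (Flatn.morS g f).map ι.op b₂ = b₀ := by
      apply theta_injective hX
      rw [key b₂ U₂ hb₂, hb₀]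
      change σ₀.base ⁻¹' U₂ = sym.inv.base ⁻¹' V
      rw [← hU₂, hfst]
      exact (preimage_preimage_eq sym.inv sym.hom sym.inv_hom_id _).symm
    let a₂ : T₁ ⟶ W := r.homEquiv.symm b₂
    have hιa₂ : ι ≫ a₂ = a₀ := by
      apply r.homEquiv.injective
      rw [r.homEquiv_comp]
      change (Flatn.morS g f).map ι.op (r.homEquiv (r.homEquiv.symm b₂)) =
        r.homEquiv (r.homEquiv.symm b₀)
      rw [Equiv.apply_symm_apply, Equiv.apply_symm_apply, h20]
    have hu₂ : a₂.left = u := by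
      apply huu
      refine ⟨Over.w a₂, ?_⟩
      rw [hu₀']
      exact congrArg (fun k : T₀ ⟶ W => k.left) hιa₂
    have ha₂ : a₂ = a₁ := Over.OverMorphism.ext hu₂
    have hb₂₁ : b₂ = b₁ := by
      change b₂ = r.homEquiv a₁
      rw [← ha₂]
      exact (r.homEquiv.apply_symm_apply b₂).symm
    have h3 : σ₁.base ⁻¹' U₂ = σ₁.base ⁻¹' U := by rw [← hb₂, hb₂₁, hΘ]
    have h4 := congrArg (fun s => (inv σ₁).base ⁻¹' s) h3
    simp only [preimage_preimage_eq (inv σ₁) σ₁ (IsIso.inv_hom_id σ₁)] at h4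
    exact h4

end Groth.Agent.S5037
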