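import Groth.Statements.S5058
import Groth.Agent.S0591
import Groth.Agent.Lib.Helper26FGZ
import Groth.Agent.Lib.Helper3HzN

set_option linter.style.haveILetI false
set_option linter.unusedVariables false

set_option autoImplicit false
open CategoryTheory CategoryTheory.Limits AlgebraicGeometry
universe u
open Hensel

namespace Groth.Agent.S5058

/-- Let A be a henselian local ring and f : X ⟶ Spec A a morphism of finite presentation. Then there
exist a Noetherian henselian local ring A₀, a local ring homomorphism φ : A₀ → A, a morphism of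
finite type f₀ : X₀ ⟶ Spec A₀ and a cartesian square exhibiting X as the base change of X₀ along
Spec φ. -/
theorem result (A : Type u) [CommRing A] [HenselianLocalRing A]
    {X : Scheme.{u}} (f : X ⟶ Spec (CommRingCat.of A)) [LocallyOfFinitePresentation f] [QuasiCompact f] [QuasiSeparated f] :
    ∃ (A₀ : Type u) (_ : CommRing A₀) (_ : HenselianLocalRing A₀) (_ : IsNoetherianRing A₀) (φ : A₀ →+* A) (_ : IsLocalHom φ)
      (X₀ : Scheme.{u}) (f₀ : X₀ ⟶ Spec (CommRingCat.of A₀)) (g : X ⟶ X₀),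
      LocallyOfFiniteType f₀ ∧ QuasiCompact f₀ ∧ IsPullback g f f₀ (Spec.map (CommRingCat.ofHom φ)) := by
  classical
  obtain ⟨i, Xi, fi, g, hfp, hqc, hqs, hpb⟩ :=
    @Groth.Agent.S0591.result _ _ _ (Groth.Agent.Lib.Helper26.FGZ.specDiagram A)
      (Groth.Agent.Lib.Helper26.FGZ.specCone A) (Groth.Agent.Lib.Helper26.FGZ.specIsLimit A)
      _ _ _ X f ‹LocallyOfFinitePresentation f› ‹QuasiCompact f› ‹QuasiSeparated f›
  obtain ⟨A1⟩ := i
  have hπ : (Groth.Agent.Lib.Helper26.FGZ.specCone A).π.app (Opposite.op A1) =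
      Spec.map (CommRingCat.ofHom (algebraMap A1.1 A)) := Groth.Agent.Lib.Helper26.FGZ.specCone_π_app A A1
  rw [hπ] at hpb
  obtain ⟨Xi, fi, g, hfp, hqc, hqs, hpb⟩ : ∃ (Xi : Scheme.{u})
      (fi : Xi ⟶ Spec (CommRingCat.of A1.1)) (g : X ⟶ Xi), LocallyOfFinitePresentation fi ∧
      QuasiCompact fi ∧ QuasiSeparated fi ∧
      IsPullback g f fi (Spec.map (CommRingCat.ofHom (algebraMap A1.1 A))) :=
    ⟨Xi, fi, g, hfp, hqc, hqs, hpb⟩
  -- the local ring of the stage at the contraction of the maximal ideal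
  let p : Ideal A1.1 := (IsLocalRing.maximalIdeal A).comap (algebraMap A1.1 A)
  haveI : p.IsPrime := Ideal.comap_isPrime _ _
  let B := Localization.AtPrime p
  haveI : Algebra.FiniteType ℤ A1.1 := (Subalgebra.fg_iff_finiteType _).mp A1.2
  haveI : IsNoetherianRing A1.1 := Algebra.FiniteType.isNoetherianRing ℤ A1.1
  haveI : IsNoetherianRing B := IsLocalization.isNoetherianRing p.primeCompl B inferInstance
  have hunits : ∀ y : p.primeCompl, IsUnit (algebraMap A1.1 A y) := by
    intro y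
    by_contra hy
    exact y.2 ((IsLocalRing.mem_maximalIdeal _).mpr hy)
  let ψ : B →+* A := IsLocalization.lift hunits
  have hψ : ψ.comp (algebraMap A1.1 B) = algebraMap A1.1 A := IsLocalization.lift_comp hunits
  haveI hψloc : IsLocalHom ψ := by
    refine ((IsLocalRing.local_hom_TFAE ψ).out 0 2 rfl rfl).mpr ?_
    rw [← Localization.AtPrime.map_eq_maximalIdeal (I := p), Ideal.map_map, hψ]
    exact Ideal.map_comap_le
  -- the henselization
  obtain ⟨φ, hφ, -⟩ := (Groth.Agent.Lib.Helper3.Hz.isHenselization (R := B)).universal A ψ hψloc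
  have hφloc : IsLocalHom φ := by
    refine ((IsLocalRing.local_hom_TFAE φ).out 0 2 rfl rfl).mpr ?_
    rw [Groth.Agent.Lib.Helper3.Hz.maximalIdeal_eq_map, Ideal.map_map, hφ]
    exact ((IsLocalRing.local_hom_TFAE ψ).out 0 2 rfl rfl).mp hψloc
  let ι₀ : A1.1 →+* Groth.Agent.Lib.Helper3.Hz.Rh B := (algebraMap B (Groth.Agent.Lib.Helper3.Hz.Rh B)).comp (algebraMap A1.1 B)
  have hι₀ : φ.comp ι₀ = algebraMap A1.1 A := by
    rw [← RingHom.comp_assoc, hφ, hψ]
  haveI := hfp
  haveI := hqc
  haveI := hqs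
  let X₀ := pullback fi (Spec.map (CommRingCat.ofHom ι₀))
  let f₀ : X₀ ⟶ Spec (CommRingCat.of (Groth.Agent.Lib.Helper3.Hz.Rh B)) := pullback.snd _ _
  have hfac : Spec.map (CommRingCat.ofHom φ) ≫ Spec.map (CommRingCat.ofHom ι₀) =
      Spec.map (CommRingCat.ofHom (algebraMap A1.1 A)) := by
    rw [← Spec.map_comp, ← CommRingCat.ofHom_comp, hι₀]
  let g' : X ⟶ X₀ := pullback.lift g (f ≫ Spec.map (CommRingCat.ofHom φ)) (by
    rw [Category.assoc, hfac]; exact hpb.w)
  refine ⟨Groth.Agent.Lib.Helper3.Hz.Rh B, inferInstance, inferInstance, inferInstance, φ, hφloc, X₀, f₀, g',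
    inferInstance, inferInstance, ?_⟩
  have hright : IsPullback (pullback.fst fi (Spec.map (CommRingCat.ofHom ι₀))) f₀ fi
      (Spec.map (CommRingCat.ofHom ι₀)) := IsPullback.of_hasPullback _ _
  refine IsPullback.of_right ?_ (pullback.lift_snd _ _ _) hright
  rw [pullback.lift_fst, hfac]
  exact hpb

end Groth.Agent.S5058
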