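import Groth.Statements.S5071
import Mathlib
import Groth.Agent.S5802
import Groth.Agent.Lib.H6xQRegBC
import Groth.Agent.Lib.Helper1Tor
import Groth.Agent.Lib.H3FlatLocBC

set_option autoImplicit false
universe u
open CInt

namespace Groth.Agent.S5071

namespace Aux

variable {A B : Type u} [CommRing A] [CommRing B] [Algebra A B]

/-- `RestrictScalars A B X ≃ₗ[A] X` when `X` already carries a compatible `A`-structure. -/
noncomputable def rsEquiv (X : Type*) [AddCommGroup X] [Module B X] [Module A X]
    [IsScalarTower A B X] : RestrictScalars A B X ≃ₗ[A] X :=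
  { RestrictScalars.addEquiv A B X with
    map_smul' := fun a x => by
      show RestrictScalars.addEquiv A B X (a • x) = a • RestrictScalars.addEquiv A B X x
      rw [RestrictScalars.addEquiv_map_smul, algebraMap_smul] }

theorem flat_all (rs : List B) (hrs : RegImm.IsTransRegularSeq A B rs) :
    Module.Flat A B ∧ ∀ n, Module.Flat A (B ⧸ Ideal.ofList rs ^ n) := by
  obtain ⟨hwr, hfl⟩ := hrs
  set f : Fin rs.length → B := fun i => rs[i] with hf
  have hof : List.ofFn f = rs := by
    rw [hf]; exact List.ofFn_getElem
  have hspan : Ideal.span (Set.range f) = Ideal.ofList rs := by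
    unfold Ideal.ofList
    congr 1
    ext x
    constructor
    · rintro ⟨i, rfl⟩
      exact List.getElem_mem _
    · intro hx
      obtain ⟨i, hi, rfl⟩ := List.mem_iff_getElem.1 hx
      exact ⟨⟨i, hi⟩, rfl⟩
  have hqr : CAlgX.IsQuasiRegular f :=
    Groth.Agent.S5802.result B rs.length f (by rw [hof]; exact hwr)
  have hQR := Groth.Agent.Lib.H6xQRegBC.qr_of_isQuasiRegular f hqr
  have hJ : Module.Flat A (B ⧸ Ideal.span (Set.range f)) := by
    have := hfl rs.length le_rfl
    rw [List.take_length] at this
    rwa [hspan]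
  have hB : Module.Flat A B := by
    have h0 := hfl 0 (Nat.zero_le _)
    have e : Ideal.ofList (rs.take 0) = ⊥ := by simp
    haveI := h0
    exact Module.Flat.of_linearEquiv
      (((AlgEquiv.quotientBot A B).symm.trans (Ideal.quotientEquivAlgOfEq A e.symm)).toLinearEquiv)
  refine ⟨hB, fun n => ?_⟩
  have := Groth.Agent.Lib.H6xQRegBC.flat_quot_pow (A := A) f hJ hQR n
  rwa [hspan] at this

theorem main (rs : List B) (hrs : RegImm.IsTransRegularSeq A B rs) (n m : ℕ) (hnm : n < m) :
    Module.Flat A (RestrictScalars A B
      (↥(Ideal.ofList rs ^ n) ⧸ (Submodule.comap (Ideal.ofList rs ^ n).subtype (Ideal.ofList rs ^ m)))) ∧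
      ∀ (q : Ideal B) [q.IsPrime], Ideal.ofList rs ≤ q →
        Module.Flat A (RestrictScalars A B (LocalizedModule q.primeCompl ↥(Ideal.ofList rs ^ n))) := by
  obtain ⟨hB, hquot⟩ := flat_all rs hrs
  set J := Ideal.ofList rs with hJ
  have hle : J ^ m ≤ J ^ n := Ideal.pow_le_pow_right hnm.le
  constructor
  · haveI := hquot m
    haveI := hquot n
    let ι : (↥(J ^ n) ⧸ (Submodule.comap (J ^ n).subtype (J ^ m))) →ₗ[B] (B ⧸ J ^ m) :=
      Submodule.mapQ _ (J ^ m) (J ^ n).subtype le_rfl
    let δ : (B ⧸ J ^ m) →ₗ[B] (B ⧸ J ^ n) :=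
      Submodule.mapQ (J ^ m) (J ^ n) LinearMap.id (by simpa using hle)
    have hι : Function.Injective (ι.restrictScalars A) := by
      intro x y hxy
      obtain ⟨x, rfl⟩ := Submodule.Quotient.mk_surjective _ x
      obtain ⟨y, rfl⟩ := Submodule.Quotient.mk_surjective _ y
      have h1 : Submodule.Quotient.mk (p := (J ^ m : Submodule B B)) (x : B)
          = Submodule.Quotient.mk (p := (J ^ m : Submodule B B)) (y : B) := hxy
      rw [Submodule.Quotient.eq] at h1 ⊢
      exact h1
    have hδ : Function.Surjective (δ.restrictScalars A) := by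
      intro y
      obtain ⟨y, rfl⟩ := Submodule.Quotient.mk_surjective _ y
      exact ⟨Submodule.Quotient.mk y, rfl⟩
    have hex : Function.Exact (ι.restrictScalars A) (δ.restrictScalars A) := by
      intro y
      obtain ⟨b, rfl⟩ := Submodule.Quotient.mk_surjective _ y
      constructor
      · intro hb
        have hb' : Submodule.Quotient.mk (p := (J ^ n : Submodule B B)) b = 0 := hb
        rw [Submodule.Quotient.mk_eq_zero] at hb'
        exact ⟨Submodule.Quotient.mk ⟨b, hb'⟩, rfl⟩
      · rintro ⟨x, hx⟩
        obtain ⟨x, rfl⟩ := Submodule.Quotient.mk_surjective _ x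
        have h1 : Submodule.Quotient.mk (p := (J ^ m : Submodule B B)) (x : B)
            = Submodule.Quotient.mk (p := (J ^ m : Submodule B B)) b := hx
        rw [Submodule.Quotient.eq] at h1
        show Submodule.Quotient.mk (p := (J ^ n : Submodule B B)) b = 0
        rw [Submodule.Quotient.mk_eq_zero]
        have : b = (x : B) - ((x : B) - b) := by ring
        rw [this]
        exact sub_mem x.2 (hle h1)
    haveI : Module.Flat A (↥(J ^ n) ⧸ (Submodule.comap (J ^ n).subtype (J ^ m))) :=
      Groth.Agent.Lib.Helper1.Tor.flat_ker (ι.restrictScalars A) (δ.restrictScalars A) hι hδ hex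
    exact Module.Flat.of_linearEquiv (rsEquiv (A := A) (B := B) _)
  · intro q _ _
    haveI := hquot n
    haveI hJn : Module.Flat A ↥(J ^ n) := by
      refine Groth.Agent.Lib.Helper1.Tor.flat_ker ((J ^ n).subtype.restrictScalars A)
        ((Submodule.mkQ (J ^ n)).restrictScalars A) (Subtype.val_injective)
        (Submodule.mkQ_surjective _) ?_
      intro b
      constructor
      · intro hb
        have hb' : Submodule.Quotient.mk (p := (J ^ n : Submodule B B)) b = 0 := hb
        rw [Submodule.Quotient.mk_eq_zero] at hb'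
        exact ⟨⟨b, hb'⟩, rfl⟩
      · rintro ⟨x, rfl⟩
        show Submodule.Quotient.mk (p := (J ^ n : Submodule B B)) (x : B) = 0
        rw [Submodule.Quotient.mk_eq_zero]
        exact x.2
    haveI : Module.Flat A (LocalizedModule q.primeCompl ↥(J ^ n)) :=
      Groth.Agent.H3.FlatLocBC.flat_of_isLocalizedModule_tower (R := A) (B := B) q.primeCompl
        (LocalizedModule.mkLinearMap q.primeCompl ↥(J ^ n))
    exact Module.Flat.of_linearEquiv (rsEquiv (A := A) (B := B) _)

end Aux

/-- Let B be an A-algebra and J an ideal of B generated by a sequence which is transversally regular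
relative to A. Then for n < m the module J^n/J^m is flat over A, and for every prime q of B
containing J the localisation (J^n)_q is flat over A (modules regarded as A-modules by restriction
of scalars). -/
theorem result (A B : Type u) [CommRing A] [CommRing B] [Algebra A B]
    (rs : List B) (hrs : RegImm.IsTransRegularSeq A B rs) (n m : ℕ) (hnm : n < m) :
    Module.Flat A (RestrictScalars A B
      (↥(Ideal.ofList rs ^ n) ⧸ (Submodule.comap (Ideal.ofList rs ^ n).subtype (Ideal.ofList rs ^ m)))) ∧
      ∀ (q : Ideal B) [q.IsPrime], Ideal.ofList rs ≤ q →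
        Module.Flat A (RestrictScalars A B (LocalizedModule q.primeCompl ↥(Ideal.ofList rs ^ n))) := by
  exact Aux.main rs hrs n m hnm

end Groth.Agent.S5071
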