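import Groth.Statements.S5115
import Mathlib
import Groth.Agent.Lib.H5bEtRadB

set_option autoImplicit false
universe u
open EtBase

namespace Groth.Agent.S5115

set_option linter.style.haveILetI false
open Groth.Agent.Lib.H5bEtRad

open AlgebraicGeometry CategoryTheory CategoryTheory.Limits in
/-- Let g : S' ⟶ S be faithfully flat (flat and surjective), quasi-compact and radicial (universally
injective). Then base change along g is an equivalence from the category of schemes etale over S to
the category of schemes etale over S'. -/
theorem result {S S' : Scheme.{u}} (g : S' ⟶ S)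
    [Flat g] [Surjective g] [QuasiCompact g] [UniversallyInjective g] :
    (EtCoh.bc g).IsEquivalence := by
  have hmap : ∀ {A B : S.Etale} (f : A ⟶ B),
      (Scheme.Etale.forget S').map ((EtCoh.bc g).map f) =
        (Over.pullback g).map ((Scheme.Etale.forget S).map f) := fun f => rfl
  haveI : (EtCoh.bc g).Faithful := ⟨fun {A B} f₁ f₂ h => by
    apply (Scheme.Etale.forget S).map_injective
    apply (Over.pullback g).map_injective
    rw [← hmap, ← hmap, h]⟩
  haveI : (EtCoh.bc g).Full := ⟨fun {A B} ψ => by
    haveI : Etale ((Scheme.Etale.forget S).obj B).hom := B.prop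
    obtain ⟨φ, hφ⟩ := pb_map_surjective g ((Scheme.Etale.forget S).obj B)
      ((Scheme.Etale.forget S).obj A) ((Scheme.Etale.forget S').map ψ)
    refine ⟨(Scheme.Etale.forget S).preimage φ, ?_⟩
    apply (Scheme.Etale.forget S').map_injective
    rw [hmap, Functor.map_preimage]
    exact hφ⟩
  haveI : (EtCoh.bc g).EssSurj := ⟨fun V' => by
    haveI : Etale ((Scheme.Etale.forget S').obj V').hom := V'.prop
    obtain ⟨V, hV, ⟨ε⟩⟩ := exists_descent g ((Scheme.Etale.forget S').obj V')
    haveI := hV
    exact ⟨Scheme.Etale.mk V.hom, ⟨(Scheme.Etale.forget S').preimageIso ε⟩⟩⟩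
  exact {}

end Groth.Agent.S5115
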