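import Groth.Statements.S5178
import Mathlib
import Groth.Agent.Lib.H6xCIE
import Groth.Agent.Lib.Helper19ComplDim

set_option autoImplicit false
universe u
open CInt

namespace Groth.Agent.S5178

/-- Let A be a Noetherian local ring of dimension d, and let the completion of A be presented as B/I
with B a regular local ring of dimension e and I an ideal whose minimal number of generators is q,
so that e − q is the geometric depth of A (this number does not depend on the presentation). Then e
− q ≤ d, and equality holds if and only if A is a complete intersection, i.e. its completion is a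
regular local ring modulo an ideal generated by a regular sequence. -/
theorem result (A : Type u) [CommRing A] [IsLocalRing A] [IsNoetherianRing A] (B : Type u) [CommRing B] [IsRegularLocalRing B] (I : Ideal B) (hpres : Nonempty (AdicCompletion (IsLocalRing.maximalIdeal A) A ≃+* B ⧸ I)) (d e : ℕ) (hd : ringKrullDim A = (d : WithBot ℕ∞)) (he : ringKrullDim B = (e : WithBot ℕ∞)) : (e : ℤ) - (I.spanFinrank : ℤ) ≤ (d : ℤ) ∧ ((e : ℤ) - (I.spanFinrank : ℤ) = (d : ℤ) ↔ Pi1.IsCompleteIntersection A) := by
  obtain ⟨eq⟩ := hpres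
  have hdim : ringKrullDim (AdicCompletion (IsLocalRing.maximalIdeal A) A) = d := by
    rw [Groth.Agent.Lib.Helper19.ringKrullDim_adicCompletion_maximalIdeal, hd]
  let φ : B →+* AdicCompletion (IsLocalRing.maximalIdeal A) A :=
    (eq.symm : B ⧸ I →+* AdicCompletion (IsLocalRing.maximalIdeal A) A).comp (Ideal.Quotient.mk I)
  have hφ : Function.Surjective φ := eq.symm.surjective.comp Ideal.Quotient.mk_surjective
  have hker : RingHom.ker φ = I := by
    ext b
    rw [RingHom.mem_ker]
    show eq.symm (Ideal.Quotient.mk I b) = 0 ↔ _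
    rw [map_eq_zero_iff _ eq.symm.injective, Ideal.Quotient.eq_zero_iff_mem]
  have hle := Groth.Agent.Lib.H6xCI.dim_le φ hφ d e hdim he
  rw [hker] at hle
  refine ⟨by omega, ?_, ?_⟩
  · intro h
    have h' : e = d + (RingHom.ker φ).spanFinrank := by rw [hker]; omega
    obtain ⟨rs, hrs, hreg⟩ := Groth.Agent.Lib.H6xCI.exists_isRegular_of_dim_eq φ hφ d e hdim he h'
    refine ⟨B, inferInstance, inferInstance, rs, ?_, hreg, ?_⟩
    · intro r hr
      refine Groth.Agent.Lib.H6xCI.ker_le_maximalIdeal φ ?_
      rw [← hrs]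
      exact Ideal.subset_span hr
    · rw [hker] at hrs
      exact ⟨eq.trans (Ideal.quotEquivOfEq hrs.symm)⟩
  · rintro ⟨B', _, _, rs, hmem, hreg, ⟨eq'⟩⟩
    let φ' : B' →+* AdicCompletion (IsLocalRing.maximalIdeal A) A :=
      (eq'.symm : B' ⧸ Ideal.span {r | r ∈ rs} →+* AdicCompletion (IsLocalRing.maximalIdeal A) A).comp
        (Ideal.Quotient.mk _)
    have hφ' : Function.Surjective φ' := eq'.symm.surjective.comp Ideal.Quotient.mk_surjective
    have hker' : RingHom.ker φ' = Ideal.ofList rs := by
      ext b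
      rw [RingHom.mem_ker]
      show eq'.symm (Ideal.Quotient.mk _ b) = 0 ↔ _
      rw [map_eq_zero_iff _ eq'.symm.injective, Ideal.Quotient.eq_zero_iff_mem]
    have hfin : ringKrullDim B' ≠ ⊤ := ringKrullDim_ne_top
    have hbot : ringKrullDim B' ≠ ⊥ := ringKrullDim_ne_bot
    obtain ⟨e', he'⟩ : ∃ e' : ℕ, ringKrullDim B' = e' := by
      obtain ⟨x, hx⟩ := WithBot.ne_bot_iff_exists.mp hbot
      rw [← hx] at hfin ⊢
      have hx' : x ≠ ⊤ := fun h => hfin (by rw [h]; rfl)
      obtain ⟨n, hn⟩ := ENat.ne_top_iff_exists.mp hx'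
      exact ⟨n, by rw [← hn]; rfl⟩
    have hinv := Groth.Agent.Lib.H6xCI.invariance φ hφ φ' hφ' e e' he he'
    have heq := Groth.Agent.Lib.H6xCI.dim_eq_of_isRegular φ' hφ' d e' hdim he' rs hker'.symm hreg
    rw [hker] at hinv
    omega

end Groth.Agent.S5178
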