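import Groth.Statements.S5182
import Mathlib

set_option autoImplicit false
universe u
open CInt

namespace Groth.Agent.S5182

namespace Aux

open RingTheory.Sequence

variable {A : Type u} [CommRing A]

/-- a weakly regular sequence on `A/J` is weakly regular on every flat `A/J`-module. -/
lemma wr_of_flat (J : Ideal A) (G : Type*) [AddCommGroup G] [Module A G] [Module (A ⧸ J) G]
    [IsScalarTower A (A ⧸ J) G] [Module.Flat (A ⧸ J) G] (fs : List A)
    (hreg : IsWeaklyRegular (A ⧸ J) fs) : IsWeaklyRegular G fs := by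
  have h1 : IsWeaklyRegular (A ⧸ J) (fs.map (algebraMap A (A ⧸ J))) :=
    (isWeaklyRegular_map_algebraMap_iff (A ⧸ J) (A ⧸ J) fs).mpr hreg
  have h2 : IsWeaklyRegular (TensorProduct (A ⧸ J) (A ⧸ J) G) (fs.map (algebraMap A (A ⧸ J))) :=
    h1.isWeaklyRegular_rTensor
  have h3 : IsWeaklyRegular G (fs.map (algebraMap A (A ⧸ J))) :=
    ((TensorProduct.lid (A ⧸ J) G).isWeaklyRegular_congr _).mp h2
  exact (isWeaklyRegular_map_algebraMap_iff (A ⧸ J) G fs).mp h3

lemma mem_smul_top_quot_iff (J I : Ideal A) (m : ℕ) (a : A) (ha : a ∈ J ^ m) :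
    (Submodule.Quotient.mk (p := (J • (⊤ : Submodule A ↥(J ^ m)))) ⟨a, ha⟩ ∈
        I • (⊤ : Submodule A (↥(J ^ m) ⧸ (J • (⊤ : Submodule A ↥(J ^ m))))))
      ↔ a ∈ I * J ^ m ⊔ J ^ (m + 1) := by
  have h1 : (I • (⊤ : Submodule A (↥(J ^ m) ⧸ (J • (⊤ : Submodule A ↥(J ^ m))))))
      = (I • (⊤ : Submodule A ↥(J ^ m))).map (J • (⊤ : Submodule A ↥(J ^ m))).mkQ := by
    rw [Submodule.map_smul'', Submodule.map_top, Submodule.range_mkQ]
  rw [h1]
  have h2 : (Submodule.Quotient.mk (p := (J • (⊤ : Submodule A ↥(J ^ m)))) ⟨a, ha⟩ ∈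
        (I • (⊤ : Submodule A ↥(J ^ m))).map (J • (⊤ : Submodule A ↥(J ^ m))).mkQ) ↔
      (⟨a, ha⟩ : ↥(J ^ m)) ∈ (J • (⊤ : Submodule A ↥(J ^ m))) ⊔ I • (⊤ : Submodule A ↥(J ^ m)) := by
    rw [← Submodule.comap_map_mkQ, Submodule.mem_comap, Submodule.mkQ_apply]
  rw [h2]
  have h3 : ∀ (S : Submodule A ↥(J ^ m)),
      (⟨a, ha⟩ : ↥(J ^ m)) ∈ S ↔ a ∈ S.map (J ^ m).subtype := by
    intro S
    constructor
    · intro h; exact ⟨_, h, rfl⟩
    · rintro ⟨y, hy, hya⟩
      have : y = ⟨a, ha⟩ := Subtype.ext hya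
      rwa [← this]
  rw [h3, Submodule.map_sup, Submodule.map_smul'', Submodule.map_smul'', Submodule.map_subtype_top]
  rw [sup_comm, smul_eq_mul, smul_eq_mul, pow_succ']

lemma elementwise_G (J : Ideal A) (m : ℕ) (fs : List A)
    (h : IsWeaklyRegular (↥(J ^ m) ⧸ (J • (⊤ : Submodule A ↥(J ^ m)))) fs) (i : ℕ)
    (hi : i < fs.length) (a : A) (ha : a ∈ J ^ m)
    (hfa : fs[i] * a ∈ Ideal.ofList (fs.take i) * J ^ m ⊔ J ^ (m + 1)) :
    a ∈ Ideal.ofList (fs.take i) * J ^ m ⊔ J ^ (m + 1) := by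
  have hreg := h.regular_mod_prev i hi
  rw [isSMulRegular_quotient_iff_mem_of_smul_mem] at hreg
  have hfa' : fs[i] * a ∈ J ^ m := Ideal.mul_mem_left _ _ ha
  rw [← mem_smul_top_quot_iff J _ m a ha]
  apply hreg
  have : fs[i] • (Submodule.Quotient.mk (p := (J • (⊤ : Submodule A ↥(J ^ m)))) ⟨a, ha⟩)
      = Submodule.Quotient.mk (p := (J • (⊤ : Submodule A ↥(J ^ m)))) ⟨fs[i] * a, hfa'⟩ := rfl
  rw [this, mem_smul_top_quot_iff J _ m _ hfa']
  exact hfa

section abstract

variable (U : ℕ → Ideal A)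

lemma U_le_zero (hU : ∀ j, U (j + 1) ≤ U j) (j : ℕ) : U j ≤ U 0 := by
  induction j with
  | zero => exact le_rfl
  | succ j ih => exact (hU j).trans ih

theorem abstract_T_A (hU : ∀ j, U (j + 1) ≤ U j) (fs : List A)
    (H : ∀ j i (hi : i < fs.length), ∀ x ∈ U j,
      fs[i] * x ∈ Ideal.ofList (fs.take i) * U j ⊔ U (j + 1) →
      x ∈ Ideal.ofList (fs.take i) * U j ⊔ U (j + 1)) :
    ∀ i (hi : i < fs.length), ∀ j, ∀ x ∈ U 0,
      fs[i] * x ∈ Ideal.ofList (fs.take i) * U 0 ⊔ U j →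
        x ∈ Ideal.ofList (fs.take i) * U 0 ⊔ U j := by
  have AofT : ∀ i (hi : i < fs.length),
      (∀ j, Ideal.ofList (fs.take i) * U 0 ⊓ U j ≤ Ideal.ofList (fs.take i) * U j ⊔ U (j + 1)) →
      ∀ j, ∀ x ∈ U 0, fs[i] * x ∈ Ideal.ofList (fs.take i) * U 0 ⊔ U j →
        x ∈ Ideal.ofList (fs.take i) * U 0 ⊔ U j := by
    intro i hi T j
    induction j with
    | zero => intro x hx _; exact Ideal.mem_sup_right hx
    | succ j ih =>
      intro x hx hfx
      have hfx' : fs[i] * x ∈ Ideal.ofList (fs.take i) * U 0 ⊔ U j :=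
        (sup_le_sup_left (hU j) _) hfx
      obtain ⟨y, hy, u, hu, hyu0⟩ := Submodule.mem_sup.1 (ih x hx hfx')
      obtain ⟨y₁, hy₁, u₁, hu₁, hyu⟩ := Submodule.mem_sup.1 hfx
      have e : fs[i] * u - u₁ = y₁ - fs[i] * y := by
        have h1 : fs[i] * x = y₁ + u₁ := hyu.symm
        have h2 : x = y + u := hyu0.symm
        rw [h2] at h1
        linear_combination h1
      have m1 : fs[i] * u - u₁ ∈ Ideal.ofList (fs.take i) * U 0 := by
        rw [e]; exact sub_mem hy₁ (Ideal.mul_mem_left _ _ hy)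
      have m2 : fs[i] * u - u₁ ∈ U j := sub_mem (Ideal.mul_mem_left _ _ hu) (hU j hu₁)
      have m3 : fs[i] * u - u₁ ∈ Ideal.ofList (fs.take i) * U j ⊔ U (j + 1) :=
        T j (Submodule.mem_inf.2 ⟨m1, m2⟩)
      have m4 : fs[i] * u ∈ Ideal.ofList (fs.take i) * U j ⊔ U (j + 1) := by
        have := add_mem m3
          (Ideal.mem_sup_right hu₁ : u₁ ∈ Ideal.ofList (fs.take i) * U j ⊔ U (j + 1))
        simpa using this
      have m5 : u ∈ Ideal.ofList (fs.take i) * U j ⊔ U (j + 1) := H j i hi u hu m4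
      have hle : Ideal.ofList (fs.take i) * U j ⊔ U (j + 1)
          ≤ Ideal.ofList (fs.take i) * U 0 ⊔ U (j + 1) :=
        sup_le_sup_right (Ideal.mul_mono_right (U_le_zero U hU j)) _
      rw [← hyu0]
      exact add_mem (Ideal.mem_sup_left hy) (hle m5)
  have Tall : ∀ i, i ≤ fs.length →
      ∀ j, Ideal.ofList (fs.take i) * U 0 ⊓ U j ≤ Ideal.ofList (fs.take i) * U j ⊔ U (j + 1) := by
    intro i
    induction i with
    | zero =>
      intro _ j
      simp
    | succ i ih =>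
      intro hi j
      have hi' : i < fs.length := hi
      have Ti := ih hi'.le
      have Ai := AofT i hi' Ti
      rw [List.take_succ_eq_append_getElem hi', Ideal.ofList_append, Ideal.ofList_singleton]
      intro z hz
      obtain ⟨hz1, hz2⟩ := Submodule.mem_inf.1 hz
      rw [Ideal.sup_mul] at hz1
      obtain ⟨y, hy, w, hw, hyw⟩ := Submodule.mem_sup.1 hz1
      obtain ⟨n, hn, hnw⟩ := Ideal.mem_span_singleton_mul.1 hw
      have h1 : fs[i] * n ∈ Ideal.ofList (fs.take i) * U 0 ⊔ U j := by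
        have : fs[i] * n = (-y) + z := by rw [← hyw, ← hnw]; ring
        rw [this]
        exact add_mem (Ideal.mem_sup_left (neg_mem hy)) (Ideal.mem_sup_right hz2)
      obtain ⟨y', hy', u, hu, hyu⟩ := Submodule.mem_sup.1 (Ai j n hn h1)
      have m1 : y + fs[i] * y' ∈ Ideal.ofList (fs.take i) * U 0 ⊓ U j := by
        refine Submodule.mem_inf.2 ⟨add_mem hy (Ideal.mul_mem_left _ _ hy'), ?_⟩
        have : y + fs[i] * y' = z - fs[i] * u := by
          rw [← hyw, ← hnw, ← hyu]; ring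
        rw [this]
        exact sub_mem hz2 (Ideal.mul_mem_left _ _ hu)
      have m2 := Ti j m1
      have hle : Ideal.ofList (fs.take i) * U j ⊔ U (j + 1)
          ≤ (Ideal.ofList (fs.take i) ⊔ Ideal.span {fs[i]}) * U j ⊔ U (j + 1) :=
        sup_le_sup_right (Ideal.mul_mono_left le_sup_left) _
      have m3 : fs[i] * u ∈ (Ideal.ofList (fs.take i) ⊔ Ideal.span {fs[i]}) * U j ⊔ U (j + 1) :=
        Ideal.mem_sup_left (Ideal.mul_mem_mul
          (Ideal.mem_sup_right (Ideal.mem_span_singleton_self _)) hu)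
      have : z = (y + fs[i] * y') + fs[i] * u := by
        rw [← hyw, ← hnw, ← hyu]; ring
      rw [this]
      exact add_mem (hle m2) m3
  exact fun i hi => AofT i hi (Tall i hi.le)

end abstract

lemma krull_closed [IsLocalRing A] [IsNoetherianRing A] (J : Ideal A) (hJ : J ≠ ⊤) (K : Ideal A)
    (x : A) (h : ∀ j : ℕ, x ∈ K ⊔ J ^ j) : x ∈ K := by
  have hk := Ideal.iInf_pow_smul_eq_bot_of_isLocalRing (I := J) (M := A ⧸ K) hJ
  have hx : (Ideal.Quotient.mk K x) ∈ (⨅ i : ℕ, J ^ i • ⊤ : Submodule A (A ⧸ K)) := by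
    rw [Submodule.mem_iInf]
    intro j
    obtain ⟨y, hy, z, hz, hyz⟩ := Submodule.mem_sup.1 (h j)
    have : Ideal.Quotient.mk K x = z • (1 : A ⧸ K) := by
      rw [← hyz, map_add, Ideal.Quotient.eq_zero_iff_mem.2 hy, zero_add, Algebra.smul_def, mul_one,
        Ideal.Quotient.algebraMap_eq]
    rw [this]
    exact Submodule.smul_mem_smul hz Submodule.mem_top
  rw [hk] at hx
  exact Ideal.Quotient.eq_zero_iff_mem.1 ((Submodule.mem_bot _).1 hx)

theorem main (A : Type u) [CommRing A] [IsLocalRing A] [IsNoetherianRing A] (J : Ideal A)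
    (hJ : J ≠ ⊤)
    (hflat : ∀ k : ℕ, Module.Flat (A ⧸ J) (↥(J ^ k) ⧸ (J • (⊤ : Submodule A ↥(J ^ k)))))
    (fs : List A) (hreg : IsWeaklyRegular (A ⧸ J) fs) (k : ℕ) :
    IsWeaklyRegular (↥(J ^ k)) fs ∧
      IsWeaklyRegular (↥(J ^ k) ⧸ (J • (⊤ : Submodule A ↥(J ^ k)))) fs := by
  have hG : ∀ m, IsWeaklyRegular (↥(J ^ m) ⧸ (J • (⊤ : Submodule A ↥(J ^ m)))) fs := fun m =>
    haveI := hflat m
    wr_of_flat J _ fs hreg
  refine ⟨?_, hG k⟩
  have key := abstract_T_A (fun j => J ^ (k + j)) (fun j => Ideal.pow_le_pow_right (by omega)) fs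
    (fun j i hi x hx hfx => elementwise_G J (k + j) fs (hG (k + j)) i hi x hx hfx)
  refine ⟨fun i hi => ?_⟩
  rw [isSMulRegular_quotient_iff_mem_of_smul_mem]
  intro x hx
  rw [Submodule.mem_smul_top_iff] at hx ⊢
  have hx' : fs[i] * (x : A) ∈ Ideal.ofList (fs.take i) * J ^ k := by simpa using hx
  have hfin : (x : A) ∈ Ideal.ofList (fs.take i) * J ^ k := by
    apply krull_closed J hJ
    intro j
    have h0 : (x : A) ∈ J ^ (k + 0) := by simpa using x.2
    have h1 : fs[i] * (x : A) ∈ Ideal.ofList (fs.take i) * J ^ (k + 0) ⊔ J ^ (k + j) := by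
      simpa using Ideal.mem_sup_left hx'
    have h2 := key i hi j (x : A) h0 h1
    have h3 : (x : A) ∈ Ideal.ofList (fs.take i) * J ^ k ⊔ J ^ (k + j) := by simpa using h2
    have hle : Ideal.ofList (fs.take i) * J ^ k ⊔ J ^ (k + j)
        ≤ Ideal.ofList (fs.take i) * J ^ k ⊔ J ^ j :=
      sup_le_sup_left (Ideal.pow_le_pow_right (by omega)) _
    exact hle h3
  simpa using hfin

end Aux

/-- In the local algebraic form to which its proof reduces. Let A be a Noetherian local ring, J a proper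
ideal such that A is normally flat along J, i.e. every J^k/J^{k+1} is a flat (equivalently free)
A/J-module, and f_1, …, f_r elements of A whose images form a weakly regular sequence on A/J (each
f_i a non-zero-divisor on A/J modulo the preceding ones). Then for every k ≥ 0 the f_i form a weakly
regular sequence on the A-module J^k and on the A-module J^k/J^{k+1}; in particular (k = 0) on A
itself, so that they are regular on the Rees algebra ⊕ J^k and on the associated graded ring ⊕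
J^k/J^{k+1}. -/
theorem result (A : Type u) [CommRing A] [IsLocalRing A] [IsNoetherianRing A] (J : Ideal A) (hJ : J ≠ ⊤) (hflat : ∀ k : ℕ, Module.Flat (A ⧸ J) (↥(J ^ k) ⧸ (J • (⊤ : Submodule A ↥(J ^ k))))) (fs : List A) (hreg : RingTheory.Sequence.IsWeaklyRegular (A ⧸ J) fs) (k : ℕ) : RingTheory.Sequence.IsWeaklyRegular (↥(J ^ k)) fs ∧ RingTheory.Sequence.IsWeaklyRegular (↥(J ^ k) ⧸ (J • (⊤ : Submodule A ↥(J ^ k)))) fs := by
  exact Aux.main A J hJ hflat fs hreg k

end Groth.Agent.S5182
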