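import Groth.Statements.S5266
import Groth.Agent.Lib.R2H3TwConst
import Groth.Agent.Lib.R2H3LocDesc
import Groth.Agent.Lib.Helper12Descent

set_option autoImplicit false
set_option linter.style.haveILetI false
set_option linter.unusedVariables false
open CategoryTheory MonoidalCategory CartesianMonoidalCategory MonObj GrpObj AlgebraicGeometry
universe u
open SGA3x

namespace Groth.Agent.S5266

/-- Let R be a twisted constant S-scheme (fpqc-locally on S isomorphic to a constant scheme, the index
set being allowed to vary) and Z a closed subscheme of R which is quasi-compact over S. Then Z is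
finite over S. -/
theorem result {S : Scheme.{u}} (R : Over S) (hR : TwC.IsTwConst TwC.Topology.fpqc R)
    {Z : Scheme.{u}} (z : Z ⟶ R.left) [IsClosedImmersion z] [QuasiCompact (z ≫ R.hom)] :
    IsFinite (z ≫ R.hom) := by
  haveI := Groth.Agent.Lib.Helper12.descendsAlong_isFinite.{u}
  obtain ⟨S', f, hfl, hsurj, hqc, hloc⟩ := hR
  refine Groth.Agent.Lib.R2H3.LocDesc.of_locally_fpqc (P := @IsFinite) (z ≫ R.hom) f hqc
    fun s' => ?_
  obtain ⟨U, hsU, I, ⟨e⟩⟩ := hloc s'
  exact ⟨U, hsU, Groth.Agent.Lib.R2H3.TwConst.isFinite_pullback_snd_of_iso_const R (U.ι ≫ f) I e z⟩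

end Groth.Agent.S5266
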