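import Groth.Statements.S5267
import Groth.Agent.Lib.R2H3TwConstD

set_option autoImplicit false
set_option linter.style.haveILetI false
set_option linter.unusedVariables false
open CategoryTheory MonoidalCategory CartesianMonoidalCategory MonObj GrpObj AlgebraicGeometry
universe u
open SGA3x

namespace Groth.Agent.S5267

/-- Let S be a locally Noetherian connected scheme, P a quasi-isotrivial twisted constant S-scheme
(etale-locally on S isomorphic to a constant scheme) and Z an open and closed subscheme of P such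
that for some s ∈ S the fibre Z_s is finite. Then Z is finite over S. -/
theorem result {S : Scheme.{u}} [IsLocallyNoetherian S] [ConnectedSpace S]
    (P : Over S) (hP : TwC.IsTwConst TwC.Topology.etale P)
    {Z : Scheme.{u}} (z : Z ⟶ P.left) [IsOpenImmersion z] [IsClosedImmersion z]
    (hs : ∃ s : S, Set.Finite ((z ≫ P.hom).base ⁻¹' {s})) :
    IsFinite (z ≫ P.hom) := by
  have hP' : ∀ s : S, ∃ (S' : Scheme.{u}) (f : S' ⟶ S), Etale f ∧ s ∈ Set.range f.base ∧
      ∃ I : Type u, Nonempty ((Over.pullback f).obj P ≅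
        Over.mk (Groth.Agent.Lib.R2H3.TwConst.fold S' I)) := hP
  have hcl := Groth.Agent.Lib.R2H3.TwConst.isClopen_setOf_finite_fibre P z hP'
  obtain ⟨s₀, hs₀⟩ := hs
  have huniv : {s : S | ((z ≫ P.hom) ⁻¹' {s}).Finite} = Set.univ :=
    (isClopen_iff.mp hcl).resolve_left (Set.nonempty_iff_ne_empty.mp ⟨s₀, hs₀⟩)
  refine Groth.Agent.Lib.R2H3.TwConst.isFinite_of_forall_finite_fibre P z hP' fun s => ?_
  have : s ∈ {s : S | ((z ≫ P.hom) ⁻¹' {s}).Finite} := by rw [huniv]; trivial
  exact this

end Groth.Agent.S5267
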