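import Groth.Statements.S5268
import Groth.Agent.Lib.R2H3TwConstD
import Groth.Agent.Lib.Helper3EtGUSchF
import Groth.Agent.Lib.Helper3IrrTopB
import Groth.Agent.S2279

set_option autoImplicit false
set_option linter.style.haveILetI false
set_option linter.unusedVariables false
open CategoryTheory MonoidalCategory CartesianMonoidalCategory MonObj GrpObj AlgebraicGeometry
universe u
open SGA3x

namespace Groth.Agent.S5268

/-- Let S be a locally Noetherian scheme all of whose local rings are geometrically unibranch, and P a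
quasi-isotrivial twisted constant S-scheme (etale-locally on S isomorphic to a constant scheme).
Then every connected component of P is open, and as an open subscheme of P it is finite over S. -/
theorem result {S : Scheme.{u}} [IsLocallyNoetherian S]
    (hS : ∀ s : S, CAlg2.IsGeomUnibranch (S.presheaf.stalk s))
    (P : Over S) (hP : TwC.IsTwConst TwC.Topology.etale P) (x : P.left) :
    ∃ U : P.left.Opens, (U : Set P.left) = connectedComponent x ∧ IsFinite (U.ι ≫ P.hom) := by
  classical
  have hP' : ∀ s : S, ∃ (S' : Scheme.{u}) (f : S' ⟶ S), Etale f ∧ s ∈ Set.range f.base ∧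
      ∃ I : Type u, Nonempty ((Over.pullback f).obj P ≅
        Over.mk (Groth.Agent.Lib.R2H3.TwConst.fold S' I)) := hP
  -- `P ⟶ S` is etale
  haveI het : Etale P.hom := by
    refine Groth.Agent.Lib.R2H3.LocDesc.of_locally_etale (P := @Etale) P.hom fun s => ?_
    obtain ⟨S', f, hf, hs, I, ⟨e⟩⟩ := hP' s
    refine ⟨S', f, hf, hs, ?_⟩
    have h1 : e.hom.left ≫ Groth.Agent.Lib.R2H3.TwConst.fold S' I =
        Limits.pullback.snd P.hom f := Over.w e.hom
    rw [← h1]
    haveI : Etale (Groth.Agent.Lib.R2H3.TwConst.fold S' I) :=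
      IsZariskiLocalAtSource.sigmaDesc (P := @Etale) fun _ => inferInstance
    infer_instance
  haveI : IsLocallyNoetherian P.left := LocallyOfFiniteType.isLocallyNoetherian P.hom
  haveI : LocallyConnectedSpace P.left :=
    Groth.Agent.Lib.R2H3.TwConst.locallyConnectedSpace_of_isLocallyNoetherian P.left
  haveI : LocallyQuasiFinite P.hom :=
    Groth.Agent.Lib.Helper3.IrrTop.locallyQuasiFinite_of_unramified P.hom
  -- local rings of `P` have prime nilradical
  have hnil : ∀ y : P.left, (nilradical (P.left.presheaf.stalk y)).IsPrime := fun y =>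
    Groth.Agent.Lib.Helper3.EtGUSch.nilradical_isPrime_stalk_of_etale_nhd P.hom y (hS _)
      ⟨⊤, trivial, inferInstance⟩
  have hdisj := (Groth.Agent.S2279.result P.left).mpr hnil
  have hlocN : ∀ y : P.left, ∃ W ∈ nhds y, TopologicalSpace.NoetherianSpace W := by
    intro y
    obtain ⟨_, ⟨W, hW, rfl⟩, hyW, -⟩ := P.left.isBasis_affineOpens.exists_subset_of_mem_open
      (Set.mem_univ y) isOpen_univ
    replace hW : IsAffineOpen W := hW
    haveI : IsNoetherianRing Γ(P.left, W) := IsLocallyNoetherian.component_noetherian ⟨W, hW⟩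
    exact ⟨W, W.isOpen.mem_nhds hyW, noetherianSpace_of_isAffineOpen W hW⟩
  have hirr' : ∀ y : P.left, IsIrreducible (connectedComponent y) :=
    ((Groth.Agent.Lib.Helper14.irreducibleComponents_tfae P.left hlocN).out 3 2).mp hdisj
  have hirr : IsIrreducible (connectedComponent x) := hirr' x
  -- the open subscheme
  let U : P.left.Opens := ⟨connectedComponent x, isOpen_connectedComponent⟩
  have hUcl : IsClosed (U : Set P.left) := isClosed_connectedComponent
  haveI : IsClosedImmersion U.ι :=
    Groth.Agent.Lib.R2H3.TwConst.isClosedImmersion_ι_of_isClosed U hUcl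
  refine ⟨U, rfl, ?_⟩
  have hcl := Groth.Agent.Lib.R2H3.TwConst.isClopen_setOf_finite_fibre P U.ι hP'
  -- the generic point
  obtain ⟨ξ, hξ⟩ := QuasiSober.sober hirr isClosed_connectedComponent
  have hξU : ξ ∈ U := hξ.mem
  have hfibξ : ((U.ι ≫ P.hom) ⁻¹' {P.hom ξ}).Finite := by
    refine Set.Finite.subset (Set.finite_singleton (⟨ξ, hξU⟩ : U)) ?_
    intro u hu
    have hu' : P.hom (U.ι u) = P.hom ξ := hu
    have hsp : ξ ⤳ U.ι u := by
      rw [specializes_iff_mem_closure, hξ.def]
      exact u.2
    have := Groth.Agent.Lib.Helper3.IrrTop.eq_of_specializes_of_fiber P.hom hsp hu'.symm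
    exact Subtype.ext this.symm
  -- all fibres are finite
  haveI : ConnectedSpace U :=
    isConnected_iff_connectedSpace.mp (isConnected_connectedComponent (x := x))
  have hpre : IsClopen ((U.ι ≫ P.hom) ⁻¹' {s : S | ((U.ι ≫ P.hom) ⁻¹' {s}).Finite}) :=
    hcl.preimage (U.ι ≫ P.hom).continuous
  have huniv : (U.ι ≫ P.hom) ⁻¹' {s : S | ((U.ι ≫ P.hom) ⁻¹' {s}).Finite} = Set.univ :=
    (isClopen_iff.mp hpre).resolve_left (Set.nonempty_iff_ne_empty.mp ⟨⟨ξ, hξU⟩, hfibξ⟩)
  refine Groth.Agent.Lib.R2H3.TwConst.isFinite_of_forall_finite_fibre P U.ι hP' fun s => ?_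
  by_cases hs : ∃ u : U, (U.ι ≫ P.hom) u = s
  · obtain ⟨u, rfl⟩ := hs
    have : u ∈ (U.ι ≫ P.hom) ⁻¹' {s : S | ((U.ι ≫ P.hom) ⁻¹' {s}).Finite} := by
      rw [huniv]; trivial
    exact this
  · have : (U.ι ≫ P.hom) ⁻¹' {s} = ∅ := by
      ext u
      simp only [Set.mem_preimage, Set.mem_singleton_iff, Set.mem_empty_iff_false, iff_false]
      exact fun h => hs ⟨u, h⟩
    rw [this]
    exact Set.finite_empty

end Groth.Agent.S5268
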