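import Groth.Statements.S5274
import Groth.Agent.Lib.R2H3MultHomMain
import Groth.Agent.Lib.R2H3ActPt

set_option autoImplicit false
set_option linter.style.haveILetI false
set_option linter.unusedVariables false
open CategoryTheory MonoidalCategory CartesianMonoidalCategory MonObj GrpObj AlgebraicGeometry
universe u
open SGA3x

namespace Groth.Agent.S5274

/-- Let u : G ⟶ H be a homomorphism of S-groups of multiplicative type and of finite type. Then the set
U of points s ∈ S such that u_s : G_s ⟶ H_s is a monomorphism is open and closed in S, and the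
homomorphism G|_U ⟶ H|_U induced above U is a monomorphism. -/
theorem result {S : Scheme.{u}} (G H : Over S) [GrpObj G] [GrpObj H]
    (hG : SGA3x.IsMultTypeFT G) (hH : SGA3x.IsMultTypeFT H) (u : G ⟶ H) [IsMonHom u] :
    ∃ U : S.Opens, IsClosed (U : Set S) ∧
      (∀ s : S, s ∈ U ↔ Mono ((Over.pullback (S.fromSpecResidueField s)).map u).left) ∧
      Mono ((Over.pullback U.ι).map u).left := by
  haveI : (MorphismProperty.monomorphisms Scheme.{u}).DescendsAlong
      Groth.Agent.Lib.R2H3.FpqcLocal.Qfpqc :=
    (MorphismProperty.diagonal_isomorphisms (C := Scheme.{u})) ▸ inferInstance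
  exact Groth.Agent.Lib.R2H3.MultHom.exists_clopen_locus G H
    (Groth.Agent.Lib.R2H3.MultAct.locally_of_isMultTypeFT hG) hH u
    (MorphismProperty.monomorphisms Scheme.{u})
    (fun M N _ _ φ => Function.Surjective φ)
    (fun W M N _ _ φ hφ => Groth.Agent.Lib.R2H3.MultHom.mono_DSmap_left φ hφ)
    (fun W K _ a M N _ _ φ h => Groth.Agent.Lib.R2H3.MultHom.surjective_of_mono a φ h)

end Groth.Agent.S5274
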