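import Groth.Statements.S5286
import Groth.Agent.Lib.R2H3UnitLocus
import Groth.Agent.Lib.Helper8FixedPt
import Groth.Agent.Lib.R2H3MonoFib

set_option autoImplicit false
open CategoryTheory MonoidalCategory CartesianMonoidalCategory MonObj GrpObj AlgebraicGeometry
universe u
open SGA3x

namespace Groth.Agent.S5286

/-- Let u : H ⟶ G be a homomorphism of S-groups, with H of multiplicative type and of finite type and G
separated over S; suppose S locally Noetherian or G of finite presentation over S. Then the set U of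
points s ∈ S such that u_s : H_s ⟶ G_s is the unit homomorphism is open and closed in S, and the
homomorphism H|_U ⟶ G|_U induced above U is the unit homomorphism. -/
theorem result {S : Scheme.{u}} (H G : Over S) [GrpObj H] [GrpObj G]
    (hH : SGA3x.IsMultTypeFT H) [IsSeparated G.hom]
    (hG : IsLocallyNoetherian S ∨ (LocallyOfFinitePresentation G.hom ∧ QuasiCompact G.hom ∧ QuasiSeparated G.hom))
    (u : H ⟶ G) [IsMonHom u] :
    ∃ U : S.Opens, IsClosed (U : Set S) ∧
      (∀ s : S, s ∈ U ↔ (Over.pullback (S.fromSpecResidueField s)).map u = 1) ∧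
      (Over.pullback U.ι).map u = 1 := by
  -- the kernel of `u`, as a subscheme of `H`
  have hsec : Groth.Agent.Lib.R2H3.MultAct.unitSec G ≫ G.hom = 𝟙 S :=
    Groth.Agent.Lib.R2H3.MultAct.unitSec_hom
  haveI : IsClosedImmersion (Groth.Agent.Lib.R2H3.MultAct.unitSec G) := by
    haveI : IsClosedImmersion (Groth.Agent.Lib.R2H3.MultAct.unitSec G ≫ G.hom) := by
      rw [hsec]; infer_instance
    exact IsClosedImmersion.of_comp (Groth.Agent.Lib.R2H3.MultAct.unitSec G) G.hom
  haveI hlft : LocallyOfFiniteType H.hom := Groth.Agent.Lib.R2H3.MonoFib.lft_of_isMultTypeFT H hH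
  haveI hkfp : LocallyOfFinitePresentation
      (Limits.pullback.fst u.left (Groth.Agent.Lib.R2H3.MultAct.unitSec G)) := by
    rcases hG with hN | ⟨h1, h2, h3⟩
    · haveI := hN
      haveI : IsLocallyNoetherian H.left := LocallyOfFiniteType.isLocallyNoetherian H.hom
      haveI : LocallyOfFiniteType
          (Limits.pullback.fst u.left (Groth.Agent.Lib.R2H3.MultAct.unitSec G)) := inferInstance
      infer_instance
    · haveI : LocallyOfFinitePresentation (Groth.Agent.Lib.R2H3.MultAct.unitSec G) := by
        apply Groth.Agent.Lib.Helper8FixedPt.lfp_of_comp_of_lft _ G.hom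
        · rw [hsec]; infer_instance
        · infer_instance
      infer_instance
  have hK : ∀ (Y : Over S) (y : Y ⟶ H), y ≫ u = 1 ↔
      ∃ z : Y.left ⟶ Limits.pullback u.left (Groth.Agent.Lib.R2H3.MultAct.unitSec G),
        z ≫ Limits.pullback.fst u.left (Groth.Agent.Lib.R2H3.MultAct.unitSec G) = y.left := by
    intro Y y
    have hone : (1 : Y ⟶ G).left = Y.hom ≫ Groth.Agent.Lib.R2H3.MultAct.unitSec G := by
      rw [Hom.one_def, Over.comp_left, Over.toUnit_left]
      rfl
    constructor
    · intro h
      refine ⟨Limits.pullback.lift y.left Y.hom ?_, Limits.pullback.lift_fst _ _ _⟩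
      rw [← Over.comp_left, h, hone]
    · rintro ⟨z, hz⟩
      apply Over.OverMorphism.ext
      rw [Over.comp_left, hone, ← hz, Category.assoc, Limits.pullback.condition]
      have h1 : z ≫ Limits.pullback.snd u.left (Groth.Agent.Lib.R2H3.MultAct.unitSec G) = Y.hom := by
        have h2 : z ≫ Limits.pullback.snd u.left (Groth.Agent.Lib.R2H3.MultAct.unitSec G) =
            (z ≫ Limits.pullback.snd u.left (Groth.Agent.Lib.R2H3.MultAct.unitSec G) ≫
              Groth.Agent.Lib.R2H3.MultAct.unitSec G) ≫ G.hom := by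
          rw [Category.assoc, Category.assoc, hsec, Category.comp_id]
        rw [h2, ← Limits.pullback.condition, ← Category.assoc, hz, Category.assoc, Over.w u, Over.w y]
      rw [← Category.assoc, h1]
  have hloc : TwC.Locally S TwC.Topology.fpqc (fun S' f => ∃ (M : Type) (_ : AddCommGroup M),
      Nonempty (Grp.mk (Red.bc f H) ≅ Grp.mk (Red.DS S' M))) := by
    obtain ⟨S', f, h1, h2, h3, h4⟩ := hH
    refine ⟨S', f, h1, h2, h3, fun s' => ?_⟩
    obtain ⟨U, hU, M, inst, -, he⟩ := h4 s'
    exact ⟨U, hU, M, inst, he⟩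
  obtain ⟨U, hU, h1, h2⟩ := Groth.Agent.Lib.R2H3.UnitLocus.exists_clopen_unit_locus u
    (Limits.pullback.fst u.left (Groth.Agent.Lib.R2H3.MultAct.unitSec G)) hK hloc
  refine ⟨U, hU, fun s => ?_, ?_⟩
  · rw [h1 s, Groth.Agent.Lib.R2H3.UnitLocus.trivS_iff]
  · rw [← Groth.Agent.Lib.R2H3.UnitLocus.trivS_iff]
    exact h2

end Groth.Agent.S5286
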