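import Groth.Statements.S5296
import Mathlib
import Groth.Agent.Lib.R2H7KillB
import Groth.Agent.Lib.R2H7FinMult

set_option autoImplicit false
universe u
open TensorProduct SGA3b
open SGA3b

namespace Groth.Agent.S5296

/-- Over a local base, where an open neighbourhood of the closed point is the whole base: Let R be a
local ring with maximal ideal 𝔪 and residue field k, H = Spec A an R-group of multiplicative type
and of finite type, and K = Spec (A/J) a closed subgroup scheme of H (J a Hopf ideal) with A/J of
finite presentation over R, whose closed fibre Spec (k ⊗ A/J) is finite over k. Then K ⊆ ₙH for some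
integer n > 0: the ideal of the kernel of the n-th power map (generated by the image of the
augmentation ideal under the n-th power endomorphism) is contained in J. (K is then finite over R,
ₙH being finite; this row states only the containment.) (Affine group schemes over an affine base
are taken in Hopf-algebra form; base change is the tensor product; a homomorphism of groups Spec A ⟶
Spec C is a bialgebra map C → A.) -/
theorem result (R : Type u) [CommRing R] [IsLocalRing R]
    (A : Type u) [CommRing A] [HopfAlgebra R A] (hft : Algebra.FiniteType R A) (hH : IsMultType R A)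
    (J : Ideal A) [J.IsHopfIdeal R] (hK : Algebra.FinitePresentation R (A ⧸ J))
    (hs : Module.Finite (IsLocalRing.ResidueField R) (IsLocalRing.ResidueField R ⊗[R] (A ⧸ J))) :
    ∃ n : ℕ, 0 < n ∧ torsionIdeal R A n ≤ J := by
  haveI : Coalgebra.IsCocomm R A := Groth.Agent.Lib.R2H7.FinMult.isCocomm_of_isMultType R A hH
  haveI : Coalgebra.IsCocomm R (A ⧸ J) := Groth.Agent.Lib.R2H7.Kill.isCocomm_quotient J
  haveI : Algebra.FiniteType R (A ⧸ J) := inferInstance
  haveI : Algebra.QuasiFinite R (A ⧸ J) :=
    Groth.Agent.Lib.R2H7.Kill.quasiFinite_of_fibre_finite R (A ⧸ J) inferInstance hs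
  obtain ⟨n, hn, hk⟩ := Groth.Agent.Lib.R2H7.Kill.exists_isKilled R (A ⧸ J) inferInstance
  exact ⟨n, hn, Groth.Agent.Lib.R2H7.Kill.torsionIdeal_le_of_isKilled_quotient J hk⟩

end Groth.Agent.S5296
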