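import Groth.Statements.S5304
import Groth.Agent.Lib.R2H3EqLocus
import Groth.Agent.Lib.R2H3MonoFib

set_option autoImplicit false
open CategoryTheory MonoidalCategory CartesianMonoidalCategory MonObj GrpObj AlgebraicGeometry
universe u
open SGA3x

namespace Groth.Agent.S5304

/-- Let G be an S-group separated over S, suppose S locally Noetherian or G of finite presentation over
S, and let i₁ : H₁ ⟶ G, i₂ : H₂ ⟶ G be two sub-group-schemes (homomorphisms which are immersions) of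
multiplicative type and of finite type, with H₁ central in G. Then the set U of points s ∈ S such
that (H₁)_s = (H₂)_s as subgroups of G_s (an isomorphism of the fibres compatible with the
inclusions) is open and closed, and H₁|_U = H₂|_U as subgroups of G|_U. (The published statement
asks only that the fibres of H₁ be central; this row assumes H₁ central in G.) -/
theorem result {S : Scheme.{u}} (G H₁ H₂ : Over S) [GrpObj G] [GrpObj H₁] [GrpObj H₂]
    [IsSeparated G.hom] (hG : IsLocallyNoetherian S ∨ (LocallyOfFinitePresentation G.hom ∧ QuasiCompact G.hom ∧ QuasiSeparated G.hom))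
    (h₁ : SGA3x.IsMultTypeFT H₁) (h₂ : SGA3x.IsMultTypeFT H₂)
    (i₁ : H₁ ⟶ G) [IsMonHom i₁] [IsImmersion i₁.left] (i₂ : H₂ ⟶ G) [IsMonHom i₂] [IsImmersion i₂.left]
    (hc : ∀ (X : Over S) (g : X ⟶ G) (h : X ⟶ H₁), g * (h ≫ i₁) = (h ≫ i₁) * g) :
    ∃ U : S.Opens, IsClosed (U : Set S) ∧
      (∀ s : S, s ∈ U ↔ ∃ ψ : Red.bc (S.fromSpecResidueField s) H₁ ≅ Red.bc (S.fromSpecResidueField s) H₂,
        ψ.hom ≫ (Over.pullback (S.fromSpecResidueField s)).map i₂ = (Over.pullback (S.fromSpecResidueField s)).map i₁) ∧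
      ∃ ψ : Red.bc U.ι H₁ ≅ Red.bc U.ι H₂, ψ.hom ≫ (Over.pullback U.ι).map i₂ = (Over.pullback U.ι).map i₁ := by
  have : Mono i₁.left := inferInstance
  have : Mono i₂.left := inferInstance
  haveI : Mono i₁ := Over.mono_of_mono_left i₁
  haveI : Mono i₂ := Over.mono_of_mono_left i₂
  haveI hlft₁ : LocallyOfFiniteType H₁.hom := Groth.Agent.Lib.R2H3.MonoFib.lft_of_isMultTypeFT H₁ h₁
  haveI hlft₂ : LocallyOfFiniteType H₂.hom := Groth.Agent.Lib.R2H3.MonoFib.lft_of_isMultTypeFT H₂ h₂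
  haveI hkfp : LocallyOfFinitePresentation (Groth.Agent.Lib.R2H3.EqLocus.eqK i₁ i₂) := by
    rcases hG with hN | ⟨hfp, -, -⟩
    · haveI := hN
      haveI : LocallyOfFiniteType (Limits.pullback.fst H₁.hom H₂.hom ≫ H₁.hom) := inferInstance
      haveI : IsLocallyNoetherian (Limits.pullback H₁.hom H₂.hom) :=
        LocallyOfFiniteType.isLocallyNoetherian (Limits.pullback.fst H₁.hom H₂.hom ≫ H₁.hom)
      haveI : LocallyOfFiniteType (Groth.Agent.Lib.R2H3.EqLocus.eqK i₁ i₂) := inferInstance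
      infer_instance
    · haveI := hfp
      exact Groth.Agent.Lib.R2H3.EqLocus.eqK_prop i₁ i₂ @LocallyOfFinitePresentation
        (Groth.Agent.Lib.Helper8FixedPt.lfp_diagonal G.hom)
  have hloc₁ : TwC.Locally S TwC.Topology.fpqc (fun S' f => ∃ (M : Type) (_ : AddCommGroup M),
      Nonempty (Grp.mk (Red.bc f H₁) ≅ Grp.mk (Red.DS S' M))) := by
    obtain ⟨S', f, a1, a2, a3, a4⟩ := h₁
    refine ⟨S', f, a1, a2, a3, fun s' => ?_⟩
    obtain ⟨U, hU, M, inst, -, he⟩ := a4 s'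
    exact ⟨U, hU, M, inst, he⟩
  have hloc₂ : TwC.Locally S TwC.Topology.fpqc (fun S' f => ∃ (M : Type) (_ : AddCommGroup M),
      Nonempty (Grp.mk (Red.bc f H₂) ≅ Grp.mk (Red.DS S' M))) := by
    obtain ⟨S', f, a1, a2, a3, a4⟩ := h₂
    refine ⟨S', f, a1, a2, a3, fun s' => ?_⟩
    obtain ⟨U, hU, M, inst, -, he⟩ := a4 s'
    exact ⟨U, hU, M, inst, he⟩
  obtain ⟨U, hU, b1, b2⟩ := Groth.Agent.Lib.R2H3.EqLocus.exists_clopen_eq_locus i₁ i₂ hc
    (Groth.Agent.Lib.R2H3.EqLocus.eqK i₁ i₂) (Groth.Agent.Lib.R2H3.EqLocus.eqK_spec i₁ i₂)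
    hloc₁ hloc₂
  refine ⟨U, hU, fun s => ?_, ?_⟩
  · rw [b1 s]
    exact Groth.Agent.Lib.R2H3.EqLocus.fac_and_fac_iff i₁ i₂ _
  · exact (Groth.Agent.Lib.R2H3.EqLocus.fac_and_fac_iff i₁ i₂ _).mp b2

end Groth.Agent.S5304
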