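import Groth.Statements.S5308
import Groth.Agent.Lib.R2H3TwConstB

set_option autoImplicit false
set_option linter.style.haveILetI false
set_option linter.unusedVariables false
open CategoryTheory MonoidalCategory CartesianMonoidalCategory MonObj GrpObj AlgebraicGeometry
universe u
open SGA3x

namespace Groth.Agent.S5308

/-- (i) ⇒ (ii). Let R be a commutative twisted constant S-group which is isotrivial (it becomes a
constant group over the open and closed pieces of one finite etale surjective S' ⟶ S). Then R is a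
union of open and closed subschemes which are quasi-compact, indeed finite, over S: every point of R
has an open and closed neighbourhood U in R with U ⟶ S finite. -/
theorem result {S : Scheme.{u}} (R : Over S) [GrpObj R]
    (hcomm : ∀ (X : Over S) (a b : X ⟶ R), a * b = b * a) (hR : TwC.IsTwConstGrp TwC.Topology.finiteEtale R) (x : R.left) :
    ∃ U : R.left.Opens, x ∈ U ∧ IsClosed (U : Set R.left) ∧ IsFinite (U.ι ≫ R.hom) := by
  classical
  obtain ⟨S', f, hfin, het, hsurj, hloc⟩ := hR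
  -- a point of the cover over the image of `x`
  obtain ⟨s', hs'⟩ := f.surjective (R.hom x)
  obtain ⟨U, hs'U, hUcl, M, _, e, -⟩ := hloc s'
  haveI : IsClosedImmersion U.ι :=
    Groth.Agent.Lib.R2H3.TwConst.isClosedImmersion_ι_of_isClosed U hUcl
  let c : (U : Scheme.{u}) ⟶ S := U.ι ≫ f
  haveI : IsFinite c := inferInstance
  haveI : Etale c := inferInstance
  let pU : Limits.pullback R.hom c ⟶ R.left := Limits.pullback.fst R.hom c
  haveI : IsFinite pU := inferInstance
  haveI : Etale pU := inferInstance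
  obtain ⟨xU, hxU1, hxU2⟩ := Scheme.Pullback.exists_preimage_pullback (f := R.hom) (g := c) x
    ⟨s', hs'U⟩ (by rw [Scheme.Hom.comp_apply]; exact hs'.symm)
  -- the copy of `U` containing `xU`
  obtain ⟨⟨m₀, t⟩, ht⟩ := (sigmaMk (fun _ : M => (U : Scheme.{u}))).surjective (e.hom.left xU)
  rw [sigmaMk_mk] at ht
  let ι₀ : (U : Scheme.{u}) ⟶ ∐ (fun _ : M => (U : Scheme.{u})) :=
    Limits.Sigma.ι (fun _ : M => (U : Scheme.{u})) m₀
  let C : (Limits.pullback R.hom c).Opens := e.hom.left ⁻¹ᵁ ι₀.opensRange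
  have hxC : xU ∈ C := ⟨t, ht⟩
  have hCcl : IsClosed (C : Set ↥(Limits.pullback R.hom c)) :=
    (Groth.Agent.Lib.R2H3.TwConst.isClosed_range_sigmaι (fun _ : M => (U : Scheme.{u})) m₀).preimage
      e.hom.left.continuous
  -- `C ≅ U`
  have hrange : Set.range (C.ι ≫ e.hom.left) ⊆ Set.range ι₀ := by
    rintro _ ⟨y, rfl⟩
    exact y.2
  let r : (C : Scheme.{u}) ⟶ (U : Scheme.{u}) := IsOpenImmersion.lift ι₀ (C.ι ≫ e.hom.left) hrange
  have hr : r ≫ ι₀ = C.ι ≫ e.hom.left := IsOpenImmersion.lift_fac _ _ _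
  have hrsnd : C.ι ≫ Limits.pullback.snd R.hom c = r := by
    have h1 : e.hom.left ≫ Limits.Sigma.desc (fun _ : M => 𝟙 (U : Scheme.{u})) =
        Limits.pullback.snd R.hom c := Over.w e.hom
    rw [← h1, ← Category.assoc, ← hr, Category.assoc]
    simp [ι₀]
  haveI : IsOpenImmersion r := by
    have : IsOpenImmersion (r ≫ ι₀) := by rw [hr]; infer_instance
    exact IsOpenImmersion.of_comp r ι₀
  haveI : IsIso r := by
    refine isIso_of_isOpenImmersion_of_opensRange_eq_top r ?_
    rw [eq_top_iff]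
    intro u _
    have hu : ι₀ u ∈ Set.range e.hom.left := ⟨e.inv.left (ι₀ u), by
      rw [← Scheme.Hom.comp_apply, ← Over.comp_left, e.inv_hom_id]; rfl⟩
    obtain ⟨y, hy⟩ := hu
    have hyC : y ∈ C := ⟨u, hy.symm⟩
    refine ⟨⟨y, hyC⟩, ?_⟩
    apply ι₀.injective
    rw [← Scheme.Hom.comp_apply, hr]
    exact hy
  have hcomp : C.ι ≫ pU ≫ R.hom = r ≫ c := by
    rw [← hrsnd, Category.assoc]
    congr 1
    exact Limits.pullback.condition
  haveI hqcC : QuasiCompact (C.ι ≫ pU ≫ R.hom) := by rw [hcomp]; infer_instance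
  -- the image of `C` in `R`
  let D : R.left.Opens := ⟨pU '' (C : Set ↥(Limits.pullback R.hom c)), pU.isOpenMap _ C.2⟩
  have hDcl : IsClosed (D : Set R.left) := pU.isClosedMap _ hCcl
  have hxD : x ∈ D := ⟨xU, hxC, hxU1⟩
  haveI : IsClosedImmersion D.ι :=
    Groth.Agent.Lib.R2H3.TwConst.isClosedImmersion_ι_of_isClosed D hDcl
  haveI : QuasiCompact (D.ι ≫ R.hom) := by
    refine ⟨fun V hV hVc => ?_⟩
    have h1 : IsCompact ((C.ι ≫ pU ≫ R.hom) ⁻¹' V) := hqcC.isCompact_preimage V hV hVc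
    have h2 : D.ι ⁻¹' (pU '' (C.ι '' ((C.ι ≫ pU ≫ R.hom) ⁻¹' V))) = (D.ι ≫ R.hom) ⁻¹' V := by
      ext d
      constructor
      · rintro ⟨_, ⟨y, hy, rfl⟩, hd⟩
        change R.hom (D.ι d) ∈ V
        rw [← hd]
        exact hy
      · intro hd
        obtain ⟨y, hyC, hyd⟩ := d.2
        refine ⟨y, ⟨⟨y, hyC⟩, ?_, rfl⟩, hyd⟩
        change R.hom (pU y) ∈ V
        rw [hyd]
        exact hd
    rw [← h2]
    exact D.ι.isEmbedding.isCompact_preimage (by rw [Scheme.Opens.range_ι]; exact hDcl)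
      ((h1.image C.ι.continuous).image pU.continuous)
  refine ⟨D, hxD, hDcl, ?_⟩
  refine Groth.Agent.Lib.R2H3.TwConst.isFinite_of_locally_const_fpqc R f
    (Groth.Agent.Lib.R2H3.TwConst.exists_compact_image_eq f) (fun t' => ?_) D.ι
  obtain ⟨U', ht'U', -, M', _, e', -⟩ := hloc t'
  exact ⟨U', ht'U', M', ⟨e'⟩⟩

end Groth.Agent.S5308
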