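import Groth.Statements.S5313
import Groth.Agent.Lib.R2H3GrpHomLocus
import Groth.Agent.Lib.Helper3FibSmSchB
import Groth.Agent.Lib.Helper6LfpComp
import Mathlib

set_option autoImplicit false
universe u
open CategoryTheory CategoryTheory.Limits MonoidalCategory CartesianMonoidalCategory MonObj GrpObj AlgebraicGeometry
open SGA3

namespace Groth.Agent.S5313

/-- Let u : G → H be a homomorphism of S-group schemes, with G flat and locally of finite presentation
over S and H locally of finite type over S. Then the set U of points s of S such that the fibre u_s
: G_s → H_s over κ(s) is smooth is open in S, and the set of points of G at which u is smooth (u is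
smooth on some open neighbourhood) is the inverse image of U in G. (The published statement assumes
the finiteness and flatness conditions only at the points of the unit sections for the openness of
U; this row assumes them on all of G and H, the case in which the second assertion is stated.) -/
theorem result (S : Scheme.{u}) (G H : Over S) [GrpObj G] [GrpObj H] (u : G ⟶ H) [IsMonHom u]
    [Flat G.hom] [LocallyOfFinitePresentation G.hom] [LocallyOfFiniteType H.hom] :
    IsOpen {s : S | Smooth ((Over.pullback (S.fromSpecResidueField s)).map u).left} ∧
    {x : G.left | ∃ W : G.left.Opens, x ∈ W ∧ Smooth (W.ι ≫ u.left)} = G.hom.base ⁻¹' {s : S | Smooth ((Over.pullback (S.fromSpecResidueField s)).map u).left} := by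
  have hlfp : LocallyOfFinitePresentation u.left :=
    Groth.Agent.Lib.Helper6.locallyOfFinitePresentation_of_comp (g := H.hom) inferInstance
      (by rw [Over.w u]; infer_instance)
  refine Groth.Agent.Lib.R2H3.GrpHomLocus.isOpen_and_locus_eq (P := @Smooth) G H u
    (fun s => inferInstanceAs (LocallyOfFiniteType (pullback.snd G.hom (S.fromSpecResidueField s))))
    (fun x hsm => ?_)
  -- fibre criterion
  have hw : u.left ≫ H.hom = G.hom := Over.w u
  have hfs : (u.left.stalkMap x).hom.FormallySmooth := by
    refine Groth.Agent.Lib.Helper3.FibSmSch.formallySmooth_stalkMap_of_flat_of_fibre' u.left H.hom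
      G.hom hw x (G.hom x) rfl (Flat.stalkMap G.hom x) ⊤ trivial ?_
    have he : CohIII.fiberMapOver u.left G.hom H.hom hw (G.hom x) =
        ((Over.pullback (S.fromSpecResidueField (G.hom x))).map u).left := by
      apply pullback.hom_ext
      · exact (pullback.lift_fst _ _ _).trans (pullback.lift_fst _ _ _).symm
      · exact (pullback.lift_snd _ _ _).trans
          ((Category.comp_id _).trans (pullback.lift_snd _ _ _).symm)
    have h1 : Smooth (CohIII.fiberMapOver u.left G.hom H.hom hw (G.hom x)) := by
      rw [he]
      exact hsm
    infer_instance
  refine ⟨u.left.smoothLocus, hfs, ?_⟩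
  rw [← Scheme.Hom.smoothLocus_eq_top_iff, ← Scheme.Hom.preimage_smoothLocus_eq, ← top_le_iff]
  rintro z -
  exact z.2

end Groth.Agent.S5313
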