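import Groth.Statements.S5314
import Groth.Agent.Lib.R2H3GrpHomLocus
import Groth.Agent.Lib.Helper3FibEtSchB
import Mathlib

set_option autoImplicit false
universe u
open CategoryTheory CategoryTheory.Limits MonoidalCategory CartesianMonoidalCategory MonObj GrpObj AlgebraicGeometry
open SGA3

namespace Groth.Agent.S5314

/-- variant of the étale fibre criterion with a named composite. -/
theorem exists_etale_nhd' {X Y S : Scheme.{u}} (f : X ⟶ Y) (g : Y ⟶ S) (h : X ⟶ S)
    (w : f ≫ g = h) [LocallyOfFinitePresentation h] [LocallyOfFiniteType g]
    (x : X) (s : S) (hxs : h x = s) (hflat : (h.stalkMap x).hom.Flat)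
    (U' : X.Opens) (hxU' : x ∈ U')
    (hfib : Etale (((h.fiberι s) ⁻¹ᵁ U').ι ≫ CohIII.fiberMapOver f h g w s)) :
    ∃ U : X.Opens, x ∈ U ∧ Etale (U.ι ≫ f) := by
  subst w
  exact Groth.Agent.Lib.Helper3.FibEtSch.exists_etale_nhd_of_flat_of_fibre f g x s hxs hflat U'
    hxU' hfib

/-- Let u : G → H be a homomorphism of S-group schemes, with G flat and locally of finite presentation
over S and H locally of finite type over S. Then the set U of points s of S such that the fibre u_s
: G_s → H_s over κ(s) is etale is open in S, and the set of points of G at which u is etale (u is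
etale on some open neighbourhood) is the inverse image of U in G. (The published statement assumes
the finiteness and flatness conditions only at the points of the unit sections for the openness of
U; this row assumes them on all of G and H, the case in which the second assertion is stated.) -/
theorem result (S : Scheme.{u}) (G H : Over S) [GrpObj G] [GrpObj H] (u : G ⟶ H) [IsMonHom u]
    [Flat G.hom] [LocallyOfFinitePresentation G.hom] [LocallyOfFiniteType H.hom] :
    IsOpen {s : S | Etale ((Over.pullback (S.fromSpecResidueField s)).map u).left} ∧
    {x : G.left | ∃ W : G.left.Opens, x ∈ W ∧ Etale (W.ι ≫ u.left)} = G.hom.base ⁻¹' {s : S | Etale ((Over.pullback (S.fromSpecResidueField s)).map u).left} := by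
  refine Groth.Agent.Lib.R2H3.GrpHomLocus.isOpen_and_locus_eq (P := @Etale) G H u
    (fun s => inferInstanceAs (LocallyOfFiniteType (pullback.snd G.hom (S.fromSpecResidueField s))))
    (fun x hsm => ?_)
  -- fibre criterion
  have hw : u.left ≫ H.hom = G.hom := Over.w u
  refine exists_etale_nhd' u.left H.hom G.hom hw x (G.hom x) rfl (Flat.stalkMap G.hom x) ⊤
    trivial ?_
  have he : CohIII.fiberMapOver u.left G.hom H.hom hw (G.hom x) =
      ((Over.pullback (S.fromSpecResidueField (G.hom x))).map u).left := by
    apply pullback.hom_ext
    · exact (pullback.lift_fst _ _ _).trans (pullback.lift_fst _ _ _).symm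
    · exact (pullback.lift_snd _ _ _).trans
        ((Category.comp_id _).trans (pullback.lift_snd _ _ _).symm)
  have h1 : Etale (CohIII.fiberMapOver u.left G.hom H.hom hw (G.hom x)) := by
    rw [he]
    exact hsm
  infer_instance

end Groth.Agent.S5314
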