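import Groth.Statements.S5316
import Groth.Agent.Lib.R2H3GrpHomLocus
import Groth.Agent.Lib.Helper3FibUnr
import Mathlib

set_option autoImplicit false
universe u
open CategoryTheory CategoryTheory.Limits MonoidalCategory CartesianMonoidalCategory MonObj GrpObj AlgebraicGeometry
open SGA3

namespace Groth.Agent.S5316

/-- variant of the unramified fibre criterion with a named composite. -/
theorem formallyUnramified_stalkMap_of_fibre' {X Y S : Scheme.{u}} (f : X ⟶ Y) (g : Y ⟶ S)
    (h : X ⟶ S) (w : f ≫ g = h) [LocallyOfFiniteType f]
    (x : X) (s : S) (hxs : h x = s) (U' : X.Opens) (hxU' : x ∈ U')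
    (hfib : FormallyUnramified (((h.fiberι s) ⁻¹ᵁ U').ι ≫ CohIII.fiberMapOver f h g w s)) :
    (f.stalkMap x).hom.FormallyUnramified := by
  subst w
  exact Groth.Agent.Lib.Helper3.FibUnr.formallyUnramified_stalkMap_of_fibre f g x s hxs U'
    hxU' hfib

/-- Let u : G → H be a homomorphism of S-group schemes which is locally of finite presentation, and
suppose every fibre G_s is locally of finite type over κ(s). Then the set U of points s of S such
that u_s : G_s → H_s is unramified (formally unramified; it is locally of finite presentation) is
open in S, and the set of points of G at which u is unramified (formally unramified on some open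
neighbourhood) is the inverse image of U in G. (The published statement assumes u locally of finite
presentation only near the unit section for the openness of U; this row assumes it on all of G, the
case in which the second assertion is stated.) -/
theorem result (S : Scheme.{u}) (G H : Over S) [GrpObj G] [GrpObj H] (u : G ⟶ H)
    [IsMonHom u] [LocallyOfFinitePresentation u.left] (hG : ∀ s : S, LocallyOfFiniteType (G.hom.fiberToSpecResidueField s)) :
    IsOpen {s : S | FormallyUnramified ((Over.pullback (S.fromSpecResidueField s)).map u).left} ∧
    {x : G.left | ∃ W : G.left.Opens, x ∈ W ∧ FormallyUnramified (W.ι ≫ u.left)} =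
      G.hom.base ⁻¹' {s : S | FormallyUnramified ((Over.pullback (S.fromSpecResidueField s)).map u).left} := by
  refine Groth.Agent.Lib.R2H3.GrpHomLocus.isOpen_and_locus_eq (P := @FormallyUnramified) G H u hG
    (fun x hsm => ?_)
  -- fibre criterion
  have hw : u.left ≫ H.hom = G.hom := Over.w u
  refine Groth.Agent.Lib.Helper20.EtLocal.exists_formallyUnramified_nbhd u.left x ?_
  refine formallyUnramified_stalkMap_of_fibre' u.left H.hom G.hom hw x (G.hom x) rfl ⊤
    trivial ?_
  have he : CohIII.fiberMapOver u.left G.hom H.hom hw (G.hom x) =
      ((Over.pullback (S.fromSpecResidueField (G.hom x))).map u).left := by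
    apply pullback.hom_ext
    · exact (pullback.lift_fst _ _ _).trans (pullback.lift_fst _ _ _).symm
    · exact (pullback.lift_snd _ _ _).trans
        ((Category.comp_id _).trans (pullback.lift_snd _ _ _).symm)
  have h1 : FormallyUnramified (CohIII.fiberMapOver u.left G.hom H.hom hw (G.hom x)) := by
    rw [he]
    exact hsm
  exact IsZariskiLocalAtSource.comp h1 _

end Groth.Agent.S5316
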