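import Groth.Statements.S5317
import Groth.Agent.S5314
import Mathlib

set_option autoImplicit false
universe u
open CategoryTheory CategoryTheory.Limits MonoidalCategory CartesianMonoidalCategory MonObj GrpObj AlgebraicGeometry
open SGA3

namespace Groth.Agent.S5317

open Groth.Agent.Lib.R2H3.GrpHomLocus Groth.Agent.Lib.Helper3.GrpHomQF

/-- an étale universally injective morphism is an open immersion. -/
theorem isOpenImmersion_of_etale_of_universallyInjective {X Y : Scheme.{u}} (f : X ⟶ Y)
    [Etale f] [UniversallyInjective f] : IsOpenImmersion f := by
  have : Surjective (pullback.diagonal f) := (UniversallyInjective.iff_diagonal f).mp inferInstance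
  have : IsOpenImmersion (pullback.diagonal f) := inferInstance
  have : IsIso (pullback.diagonal f) := by
    apply isIso_of_isOpenImmersion_of_opensRange_eq_top
    rw [eq_top_iff]
    intro x _
    exact (pullback.diagonal f).surjective x
  have : Mono f := (pullback.isIso_diagonal_iff f).mp inferInstance
  exact IsOpenImmersion.of_flat_of_mono f

/-- the `P`-locus of the restriction to an open. -/
theorem mem_locus_of_isOpenImmersion_comp {P : MorphismProperty Scheme.{u}}
    [IsZariskiLocalAtSource P] {V X Y : Scheme.{u}} (j : V ⟶ X) [IsOpenImmersion j] (f : X ⟶ Y)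
    (z : V) (hz : j z ∈ locus P f) : z ∈ locus P (j ≫ f) := by
  obtain ⟨W, hzW, hW⟩ := hz
  refine ⟨j ⁻¹ᵁ W, hzW, ?_⟩
  have : (j ⁻¹ᵁ W).ι ≫ j ≫ f = (j ∣_ W) ≫ W.ι ≫ f := by
    rw [← Category.assoc, ← Category.assoc, morphismRestrict_ι]
  rw [this]
  exact IsZariskiLocalAtSource.comp hW _

/-- Let u : G → H be a homomorphism of S-group schemes which is universally injective (for instance a
monomorphism), with G flat and locally of finite presentation over S and H locally of finite type
over S. Then the set U of points s of S such that u_s : G_s → H_s is an open immersion is open in S,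
and the restriction of u over every open of S contained in U is an open immersion. -/
theorem result (S : Scheme.{u}) (G H : Over S) [GrpObj G] [GrpObj H]
    (u : G ⟶ H) [IsMonHom u] [UniversallyInjective u.left]
    [Flat G.hom] [LocallyOfFinitePresentation G.hom] [LocallyOfFiniteType H.hom] :
    IsOpen {s : S | IsOpenImmersion ((Over.pullback (S.fromSpecResidueField s)).map u).left} ∧
    ∀ W : S.Opens, (W : Set S) ⊆ {s : S | IsOpenImmersion ((Over.pullback (S.fromSpecResidueField s)).map u).left} → IsOpenImmersion ((G.hom ⁻¹ᵁ W).ι ≫ u.left) := by
  obtain ⟨hO, hL⟩ := Groth.Agent.S5314.result S G H u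
  have hiff : ∀ s : S, IsOpenImmersion ((Over.pullback (S.fromSpecResidueField s)).map u).left ↔
      Etale ((Over.pullback (S.fromSpecResidueField s)).map u).left := by
    intro s
    constructor
    · intro h
      infer_instance
    · intro h
      have hpb := isPullback_overPullback_map G H u (S.fromSpecResidueField s)
      have : UniversallyInjective ((Over.pullback (S.fromSpecResidueField s)).map u).left :=
        MorphismProperty.of_isPullback (P := @UniversallyInjective) hpb inferInstance
      exact isOpenImmersion_of_etale_of_universallyInjective _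
  have hset : {s : S | IsOpenImmersion ((Over.pullback (S.fromSpecResidueField s)).map u).left} =
      {s : S | Etale ((Over.pullback (S.fromSpecResidueField s)).map u).left} := by
    ext s
    exact hiff s
  rw [hset]
  refine ⟨hO, fun W hW => ?_⟩
  have : Etale ((G.hom ⁻¹ᵁ W).ι ≫ u.left) := by
    apply of_locus_eq_univ (P := @Etale)
    rw [Set.eq_univ_iff_forall]
    intro z
    apply mem_locus_of_isOpenImmersion_comp
    have hz : (G.hom ⁻¹ᵁ W).ι z ∈ G.hom.base ⁻¹' {s : S |
        Etale ((Over.pullback (S.fromSpecResidueField s)).map u).left} := hW z.2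
    rw [← hL] at hz
    exact hz
  have : UniversallyInjective ((G.hom ⁻¹ᵁ W).ι ≫ u.left) :=
    MorphismProperty.comp_mem _ _ _ inferInstance inferInstance
  exact isOpenImmersion_of_etale_of_universallyInjective _

end Groth.Agent.S5317
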