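import Groth.Statements.S5337
import Mathlib
import Groth.Agent.S5336
import Groth.Agent.Lib.R2H3NilFibre
import Groth.Agent.Lib.R2H3GrpHomLocus
import Groth.Agent.Lib.Helper25LocFTArtin
import Groth.Agent.Lib.Helper3ThickDeform

set_option autoImplicit false
set_option linter.style.haveILetI false
set_option linter.unusedVariables false
universe u
open CategoryTheory CategoryTheory.Limits MonoidalCategory CartesianMonoidalCategory MonObj GrpObj AlgebraicGeometry
open SGA3

namespace Groth.Agent.S5337

/-- Quasi-finite, unramified, smooth and etale cases: let A be a local artinian ring, G an A-group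
scheme which is flat and locally of finite type over A, and u : G → H a homomorphism of A-group
schemes. If u is locally quasi-finite (resp. unramified, that is formally unramified and locally of
finite presentation, resp. smooth, resp. etale) on some nonempty open subscheme of G, then u is
locally quasi-finite (resp. unramified, resp. smooth, resp. etale). (Here u is automatically locally
of finite type.) -/
theorem result (A : Type u) [CommRing A] [IsArtinianRing A] [IsLocalRing A] (G H : Over (Spec (CommRingCat.of A))) [GrpObj G] [GrpObj H]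
    [Flat G.hom] [LocallyOfFiniteType G.hom] (u : G ⟶ H) [IsMonHom u] (W : G.left.Opens) (hW : (W : Set G.left).Nonempty) :
    (LocallyQuasiFinite (W.ι ≫ u.left) → LocallyQuasiFinite u.left) ∧
    (FormallyUnramified (W.ι ≫ u.left) → LocallyOfFinitePresentation (W.ι ≫ u.left) →
      FormallyUnramified u.left ∧ LocallyOfFinitePresentation u.left) ∧
    (Smooth (W.ι ≫ u.left) → Smooth u.left) ∧ (Etale (W.ι ≫ u.left) → Etale u.left) := by
  classical
  have hsub : ∀ a b : ↥(Spec (CommRingCat.of A)), a = b :=
    Groth.Agent.Lib.Helper11Homog.spec_subsingleton_of_artinian_local A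
  haveI hlftu : LocallyOfFiniteType u.left := by
    haveI : LocallyOfFiniteType (u.left ≫ H.hom) := by rw [Over.w u]; infer_instance
    exact locallyOfFiniteType_of_comp u.left H.hom
  obtain ⟨w, hw⟩ := hW
  haveI : IsNoetherianRing A := inferInstance
  -- base change to the residue field
  let t := Groth.Agent.Lib.Helper25.LocFT.resMap A
  haveI : IsClosedImmersion t := inferInstanceAs (IsClosedImmersion (Groth.Agent.Lib.Helper25.LocFT.resMap A))
  haveI : Surjective t := inferInstanceAs (Surjective (Groth.Agent.Lib.Helper25.LocFT.resMap A))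
  let Gs : Over (Spec (CommRingCat.of (IsLocalRing.ResidueField A))) := (Over.pullback t).obj G
  let Hs : Over (Spec (CommRingCat.of (IsLocalRing.ResidueField A))) := (Over.pullback t).obj H
  let us : Gs ⟶ Hs := (Over.pullback t).map u
  haveI : IsMonHom us := inferInstanceAs (IsMonHom ((Over.pullback t).map u))
  haveI : LocallyOfFiniteType Gs.hom :=
    inferInstanceAs (LocallyOfFiniteType (pullback.snd G.hom t))
  have hpbX : IsPullback (pullback.fst G.hom t) us.left u.left (pullback.fst H.hom t) :=
    Groth.Agent.Lib.Helper3.GrpHomQF.isPullback_overPullback_map G H u t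
  have hpbY : IsPullback (pullback.fst H.hom t) (pullback.snd H.hom t) H.hom t :=
    IsPullback.of_hasPullback H.hom t
  haveI : IsClosedImmersion (pullback.fst H.hom t) :=
    MorphismProperty.of_isPullback (P := @IsClosedImmersion) hpbY.flip inferInstance
  haveI : Surjective (pullback.fst H.hom t) :=
    MorphismProperty.of_isPullback (P := @Surjective) hpbY.flip inferInstance
  haveI : Surjective (pullback.fst G.hom t) :=
    MorphismProperty.of_isPullback (P := @Surjective) hpbX.flip inferInstance
  have hthick : MoreMor.IsThickening (pullback.fst H.hom t) := ⟨inferInstance, inferInstance⟩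
  -- transfer to the closed fibre
  have hfib : ∀ (P : MorphismProperty Scheme.{u}) [P.IsStableUnderBaseChange]
      [IsZariskiLocalAtSource P] [P.DescendsAlong (@Surjective ⊓ @Flat ⊓ @QuasiCompact)],
      P (W.ι ≫ u.left) → P us.left := by
    intro P _ _ _ hP
    obtain ⟨z, hz⟩ := (pullback.fst G.hom t).surjective w
    have hz' : z ∈ Groth.Agent.Lib.R2H3.GrpHomLocus.locus P us.left :=
      Groth.Agent.Lib.R2H3.GrpHomLocus.locus_of_isPullback hpbX z (by rw [hz]; exact ⟨W, hw, hP⟩)
    exact Groth.Agent.Lib.R2H3.GrpHomLocus.of_locus_nonempty Gs Hs us ⟨z, hz'⟩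
  -- local finite presentation
  have hlfp : LocallyOfFinitePresentation (W.ι ≫ u.left) → LocallyOfFinitePresentation u.left := by
    intro h
    have h₀ := hfib @LocallyOfFinitePresentation h
    haveI : Flat (u.left ≫ H.hom) := by rw [Over.w u]; infer_instance
    exact Groth.Agent.Lib.R2H3.NilFibre.lfp_of_isPullback_thickening hpbX hpbY h₀
  -- flatness
  have hflat : Flat (W.ι ≫ u.left) → Flat u.left := by
    intro h
    refine Groth.Agent.S5336.result A G H u ⟨w, ?_⟩
    let w' : (W : Scheme.{u}) := ⟨w, hw⟩
    have h1 := Flat.stalkMap (W.ι ≫ u.left) w'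
    rw [Scheme.Hom.stalkMap_comp] at h1
    exact (RingHom.Flat.respectsIso.cancel_right_isIso (u.left.stalkMap (W.ι w'))
      (W.ι.stalkMap w')).mp h1
  -- formally unramified
  have hunr : FormallyUnramified (W.ι ≫ u.left) → FormallyUnramified u.left := by
    intro h
    haveI := hfib @FormallyUnramified h
    exact Groth.Agent.Lib.Helper2.Thick.fu_of_thick (pullback.fst G.hom t) (pullback.fst H.hom t)
      us.left u.left hthick hpbX
  refine ⟨?_, ?_, ?_, ?_⟩
  · -- locally quasi-finite
    intro hq
    rw [Groth.Agent.Lib.Helper3.GrpHomQF.locallyQuasiFinite_iff_forall_fibreDimAt_le_zero]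
    intro x
    rw [Groth.Agent.Lib.Helper3.GrpHomQF.fibreDimAt_hom_eq_unitSec G H u x, hsub (G.hom x) (G.hom w),
      ← Groth.Agent.Lib.Helper3.GrpHomQF.fibreDimAt_hom_eq_unitSec G H u w]
    haveI : LocallyOfFiniteType (W.ι ≫ u.left) := inferInstance
    have h1 := (Groth.Agent.Lib.Helper3.GrpHomQF.locallyQuasiFinite_iff_forall_fibreDimAt_le_zero
      (W.ι ≫ u.left)).mp hq ⟨w, hw⟩
    rwa [Groth.Agent.Lib.Helper3.FlatFibDim.fibreDimAt_comp_of_isOpenImmersion] at h1
  · intro h1 h2
    exact ⟨hunr h1, hlfp h2⟩
  · intro h
    haveI := hflat inferInstance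
    haveI := hlfp inferInstance
    exact Groth.Agent.Lib.R2H3.NilFibre.smooth_of_isPullback_thickening hpbX (hfib @Smooth h)
  · intro h
    haveI := hflat inferInstance
    haveI := hlfp inferInstance
    haveI := hunr inferInstance
    exact Etale.of_formallyUnramified_of_flat u.left

end Groth.Agent.S5337
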