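import Groth.Statements.S5339
import Mathlib
import Groth.Agent.S5337
import Groth.Agent.Lib.R2H3LftDesc
import Groth.Agent.Lib.Helper25LocFTArtin

set_option autoImplicit false
set_option linter.style.haveILetI false
set_option linter.unusedVariables false
universe u
open CategoryTheory CategoryTheory.Limits MonoidalCategory CartesianMonoidalCategory MonObj GrpObj AlgebraicGeometry
open SGA3

namespace Groth.Agent.S5339

/-- Let A be a local artinian ring and G a flat A-group scheme (not assumed locally of finite type). If
G is locally quasi-finite and locally of finite type (resp. unramified, resp. smooth, resp. etale)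
over A on some nonempty open subscheme, then G is locally quasi-finite and locally of finite type
(resp. unramified, resp. smooth, resp. etale) over A. -/
theorem result (A : Type u) [CommRing A] [IsArtinianRing A] [IsLocalRing A] (G : Over (Spec (CommRingCat.of A))) [GrpObj G] [Flat G.hom]
    (W : G.left.Opens) (hW : (W : Set G.left).Nonempty) :
    (LocallyQuasiFinite (W.ι ≫ G.hom) → LocallyOfFiniteType (W.ι ≫ G.hom) → LocallyQuasiFinite G.hom ∧ LocallyOfFiniteType G.hom) ∧
    (FormallyUnramified (W.ι ≫ G.hom) → LocallyOfFinitePresentation (W.ι ≫ G.hom) →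
      FormallyUnramified G.hom ∧ LocallyOfFinitePresentation G.hom) ∧
    (Smooth (W.ι ≫ G.hom) → Smooth G.hom) ∧ (Etale (W.ι ≫ G.hom) → Etale G.hom) := by
  haveI : IsNoetherianRing A := inferInstance
  -- local finite type spreads out
  have hlft : LocallyOfFiniteType (W.ι ≫ G.hom) → LocallyOfFiniteType G.hom := by
    intro hWl
    let t := Groth.Agent.Lib.Helper25.LocFT.resMap A
    haveI : IsClosedImmersion t :=
      inferInstanceAs (IsClosedImmersion (Groth.Agent.Lib.Helper25.LocFT.resMap A))
    haveI : Surjective t := inferInstanceAs (Surjective (Groth.Agent.Lib.Helper25.LocFT.resMap A))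
    let Gs : Over (Spec (CommRingCat.of (IsLocalRing.ResidueField A))) := (Over.pullback t).obj G
    let p : Gs.left ⟶ G.left := pullback.fst G.hom t
    have hpb : IsPullback p Gs.hom G.hom t := IsPullback.of_hasPullback G.hom t
    haveI : Surjective p :=
      MorphismProperty.of_isPullback (P := @Surjective) hpb.flip inferInstance
    let Ws : Gs.left.Opens := p ⁻¹ᵁ W
    have hbigW : IsPullback (p ∣_ W) (Ws.ι ≫ Gs.hom) (W.ι ≫ G.hom) t :=
      (isPullback_morphismRestrict p W).paste_vert hpb
    haveI : LocallyOfFiniteType (Ws.ι ≫ Gs.hom) :=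
      MorphismProperty.of_isPullback (P := @LocallyOfFiniteType) hbigW hWl
    obtain ⟨w, hw⟩ := hW
    obtain ⟨w₁, hw₁⟩ := p.surjective w
    have hWs : (Ws : Set Gs.left).Nonempty := ⟨w₁, by show p w₁ ∈ W; rw [hw₁]; exact hw⟩
    have hs : LocallyOfFiniteType Gs.hom :=
      Groth.Agent.Lib.R2H3.LftDesc.lft_of_open_field Gs Ws hWs
    exact Groth.Agent.Lib.R2H3.LftDesc.lft_of_isPullback_thickening hpb hs
  have hu : (toUnit G).left = G.hom := by
    have h1 := Over.w (toUnit G)
    simpa using h1
  have key : LocallyOfFiniteType G.hom →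
      (LocallyQuasiFinite (W.ι ≫ G.hom) → LocallyQuasiFinite G.hom) ∧
      (FormallyUnramified (W.ι ≫ G.hom) → LocallyOfFinitePresentation (W.ι ≫ G.hom) →
        FormallyUnramified G.hom ∧ LocallyOfFinitePresentation G.hom) ∧
      (Smooth (W.ι ≫ G.hom) → Smooth G.hom) ∧ (Etale (W.ι ≫ G.hom) → Etale G.hom) := by
    intro hl
    haveI := hl
    have r := Groth.Agent.S5337.result A G (𝟙_ (Over (Spec (CommRingCat.of A)))) (toUnit G) W hW
    rw [hu] at r
    exact r
  refine ⟨?_, ?_, ?_, ?_⟩
  · intro h1 h2
    have hl := hlft h2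
    exact ⟨(key hl).1 h1, hl⟩
  · intro h1 h2
    have hl := hlft inferInstance
    exact (key hl).2.1 h1 h2
  · intro h
    have hl := hlft inferInstance
    exact (key hl).2.2.1 h
  · intro h
    have hl := hlft inferInstance
    exact (key hl).2.2.2 h

end Groth.Agent.S5339
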