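import Groth.Statements.S5318
import Mathlib
import Groth.Agent.S5339
import Groth.Agent.S5316
import Groth.Agent.S18811
import Groth.Agent.Lib.Helper20EtLocalSch
import Groth.Agent.Lib.Helper3GrpHomQF


set_option autoImplicit false
set_option linter.style.haveILetI false
set_option linter.unusedVariables false
universe u
open CategoryTheory CategoryTheory.Limits MonoidalCategory CartesianMonoidalCategory MonObj GrpObj AlgebraicGeometry
open SGA3

namespace Groth.Agent.S5318


open scoped Obj

/-- fibrewise criterion: a morphism locally of finite type with formally unramified fibres is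
formally unramified. -/
theorem fu_of_fibres {X S : Scheme.{u}} (h : X ⟶ S) [LocallyOfFiniteType h]
    (hf : ∀ s : S, FormallyUnramified (h.fiberToSpecResidueField s)) : FormallyUnramified h := by
  have hst : ∀ x : X, (h.stalkMap x).hom.FormallyUnramified := by
    intro x
    refine Groth.Agent.S5316.formallyUnramified_stalkMap_of_fibre' h (𝟙 S) h (Category.comp_id h) x
      (h x) rfl ⊤ trivial ?_
    have h1 : CohIII.fiberMapOver h h (𝟙 S) (Category.comp_id h) (h x) ≫
        pullback.snd (𝟙 S) (S.fromSpecResidueField (h x)) = h.fiberToSpecResidueField (h x) := by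
      exact (pullback.lift_snd _ _ _).trans (Category.comp_id _)
    have h2 : FormallyUnramified (CohIII.fiberMapOver h h (𝟙 S) (Category.comp_id h) (h x)) := by
      haveI : FormallyUnramified (CohIII.fiberMapOver h h (𝟙 S) (Category.comp_id h) (h x) ≫
          pullback.snd (𝟙 S) (S.fromSpecResidueField (h x))) := by
        rw [h1]; exact hf _
      exact FormallyUnramified.of_comp _ (pullback.snd (𝟙 S) (S.fromSpecResidueField (h x)))
    exact IsZariskiLocalAtSource.comp h2 _
  choose U hxU hU using fun x =>
    Groth.Agent.Lib.Helper20.EtLocal.exists_formallyUnramified_nbhd h x (hst x)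
  refine IsZariskiLocalAtSource.of_iSup_eq_top U ?_ hU
  exact top_le_iff.mp fun x _ => TopologicalSpace.Opens.mem_iSup.mpr ⟨x, hxU x⟩

/-- if `e ≫ h` is an open immersion and `h` is unramified then `e` is an open immersion. -/
theorem isOpenImmersion_of_comp {T X S : Scheme.{u}} (e : T ⟶ X) (h : X ⟶ S)
    [LocallyOfFiniteType h] [FormallyUnramified h] [IsOpenImmersion (e ≫ h)] :
    IsOpenImmersion e := by
  haveI : MorphismProperty.HasOfPostcompProperty @IsOpenImmersion
      (@LocallyOfFiniteType ⊓ @FormallyUnramified) := by
    rw [MorphismProperty.hasOfPostcompProperty_iff_le_diagonal]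
    intro X Y f ⟨hft, hfu⟩
    exact inferInstanceAs <| IsOpenImmersion (pullback.diagonal f)
  exact MorphismProperty.of_postcomp (W := @IsOpenImmersion)
    (W' := @LocallyOfFiniteType ⊓ @FormallyUnramified) e h ⟨‹_›, ‹_›⟩ ‹_›

/-- (ii) ⟺ (iii) and, for G locally of finite presentation over S, (ii) ⟺ (iv): let G be an S-group
scheme. The unit section of G is an open immersion if and only if G is locally of finite
presentation over S on some open containing the unit section and every fibre G_s is unramified
(formally unramified and locally of finite presentation) over κ(s). If G is locally of finite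
presentation over S, the unit section is an open immersion if and only if G is unramified over S. -/
theorem result (S : Scheme.{u}) (G : Over S) [GrpObj G] :
    (IsOpenImmersion η[G].left ↔
      ((∃ W : G.left.Opens, (∀ p : ↥(𝟙_ (Over S)).left, η[G].left.base p ∈ W) ∧ LocallyOfFinitePresentation (W.ι ≫ G.hom)) ∧
        ∀ s : S, FormallyUnramified (G.hom.fiberToSpecResidueField s) ∧ LocallyOfFinitePresentation (G.hom.fiberToSpecResidueField s))) ∧
    (LocallyOfFinitePresentation G.hom → (IsOpenImmersion η[G].left ↔ FormallyUnramified G.hom)) := by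
  have hε : η[G].left ≫ G.hom = (𝟙_ (Over S)).hom := Over.w η[G]
  haveI hiso : IsIso (𝟙_ (Over S)).hom := (inferInstance : IsIso (𝟙 S))
  -- fibres from open immersion
  have hfib : IsOpenImmersion η[G].left → ∀ s : S,
      FormallyUnramified (G.hom.fiberToSpecResidueField s) ∧
        LocallyOfFinitePresentation (G.hom.fiberToSpecResidueField s) := by
    intro hoi s
    let t := S.fromSpecResidueField s
    let Gs : Over (Spec (CommRingCat.of (S.residueField s))) := (Over.pullback t).obj G
    have hpb := Groth.Agent.Lib.Helper3.GrpHomQF.isPullback_overPullback_map (𝟙_ (Over S)) G η[G] t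
    haveI h1 : IsOpenImmersion ((Over.pullback t).map η[G]).left :=
      MorphismProperty.of_isPullback (P := @IsOpenImmersion) hpb hoi
    haveI hεi : IsIso (Functor.LaxMonoidal.ε (Over.pullback t)).left :=
      inferInstanceAs (IsIso ((Over.forget _).map (Functor.LaxMonoidal.ε (Over.pullback t))))
    haveI h2 : IsOpenImmersion η[Gs].left := by
      have h3 : η[Gs] = Functor.LaxMonoidal.ε (Over.pullback t) ≫ (Over.pullback t).map η[G] := rfl
      rw [h3, Over.comp_left]
      infer_instance
    let W' : Gs.left.Opens := η[Gs].left.opensRange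
    let pt : ↥(𝟙_ (Over (Spec (CommRingCat.of (S.residueField s))))).left :=
      (show ↥(Spec (CommRingCat.of (S.residueField s))) from IsLocalRing.closedPoint _)
    have hW' : (W' : Set Gs.left).Nonempty := ⟨η[Gs].left pt, ⟨pt, rfl⟩⟩
    let e := IsOpenImmersion.isoOfRangeEq η[Gs].left W'.ι (by simp [W'])
    have he : e.hom ≫ W'.ι = η[Gs].left := IsOpenImmersion.isoOfRangeEq_hom_fac _ _ _
    have hεs : η[Gs].left ≫ Gs.hom = (𝟙_ (Over (Spec (CommRingCat.of (S.residueField s))))).hom :=
      Over.w η[Gs]
    have h4 : W'.ι ≫ Gs.hom = e.inv ≫ (𝟙_ (Over (Spec (CommRingCat.of (S.residueField s))))).hom := by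
      rw [Iso.eq_inv_comp]
      calc e.hom ≫ W'.ι ≫ Gs.hom = (e.hom ≫ W'.ι) ≫ Gs.hom := (Category.assoc _ _ _).symm
        _ = η[Gs].left ≫ Gs.hom := by rw [he]
        _ = _ := hεs
    haveI : IsIso (𝟙_ (Over (Spec (CommRingCat.of (S.residueField s))))).hom :=
      (inferInstance : IsIso (𝟙 (Spec (CommRingCat.of (S.residueField s)))))
    haveI h5 : Etale (W'.ι ≫ Gs.hom) := by
      rw [h4]; infer_instance
    haveI : Flat Gs.hom := Groth.Agent.S18811.flat_of_field _ _ _
    exact (Groth.Agent.S5339.result (S.residueField s) Gs W' hW').2.1 inferInstance inferInstance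
  have part1 : IsOpenImmersion η[G].left ↔
      ((∃ W : G.left.Opens, (∀ p : ↥(𝟙_ (Over S)).left, η[G].left.base p ∈ W) ∧
          LocallyOfFinitePresentation (W.ι ≫ G.hom)) ∧
        ∀ s : S, FormallyUnramified (G.hom.fiberToSpecResidueField s) ∧
          LocallyOfFinitePresentation (G.hom.fiberToSpecResidueField s)) := by
    constructor
    · intro hoi
      refine ⟨⟨η[G].left.opensRange, fun p => ⟨p, rfl⟩, ?_⟩, hfib hoi⟩
      let e := IsOpenImmersion.isoOfRangeEq η[G].left (η[G].left.opensRange).ι (by simp)
      have he : e.hom ≫ (η[G].left.opensRange).ι = η[G].left :=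
        IsOpenImmersion.isoOfRangeEq_hom_fac _ _ _
      have h4 : (η[G].left.opensRange).ι ≫ G.hom = e.inv ≫ (𝟙_ (Over S)).hom := by
        rw [Iso.eq_inv_comp]
        calc e.hom ≫ (η[G].left.opensRange).ι ≫ G.hom
            = (e.hom ≫ (η[G].left.opensRange).ι) ≫ G.hom := (Category.assoc _ _ _).symm
          _ = η[G].left ≫ G.hom := by rw [he]
          _ = _ := hε
      rw [h4]
      infer_instance
    · rintro ⟨⟨W, hW, hWl⟩, hf⟩
      haveI := hWl
      have hfW : ∀ s, FormallyUnramified ((W.ι ≫ G.hom).fiberToSpecResidueField s) := by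
        intro s
        let t := S.fromSpecResidueField s
        haveI : FormallyUnramified (pullback.snd G.hom t) := (hf s).1
        have key : pullback.snd (W.ι ≫ G.hom) t =
            (pullbackRightPullbackFstIso G.hom t W.ι).inv ≫
              pullback.snd W.ι (pullback.fst G.hom t) ≫ pullback.snd G.hom t := by
          rw [Iso.eq_inv_comp]
          exact pullbackRightPullbackFstIso_hom_snd _ _ _
        show FormallyUnramified (pullback.snd (W.ι ≫ G.hom) t)
        rw [key]
        haveI h1 : FormallyUnramified (pullback.snd W.ι (pullback.fst G.hom t)) :=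
          IsZariskiLocalAtSource.of_isOpenImmersion (P := @FormallyUnramified) _
        haveI h2 : FormallyUnramified (pullbackRightPullbackFstIso G.hom t W.ι).inv :=
          IsZariskiLocalAtSource.of_isOpenImmersion (P := @FormallyUnramified) _
        exact MorphismProperty.comp_mem (@FormallyUnramified) _ _ h2
          (MorphismProperty.comp_mem (@FormallyUnramified) _ _ h1 ‹_›)
      haveI : FormallyUnramified (W.ι ≫ G.hom) := fu_of_fibres _ hfW
      let ε' := IsOpenImmersion.lift W.ι η[G].left (by
        rintro _ ⟨p, rfl⟩
        simpa using hW p)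
      have hε' : ε' ≫ W.ι = η[G].left := IsOpenImmersion.lift_fac _ _ _
      haveI : IsOpenImmersion (ε' ≫ W.ι ≫ G.hom) := by
        rw [← Category.assoc, hε', hε]; infer_instance
      haveI : IsOpenImmersion ε' := isOpenImmersion_of_comp ε' (W.ι ≫ G.hom)
      rw [← hε']
      infer_instance
  refine ⟨part1, fun hl => ⟨fun hoi => ?_, fun hfu => ?_⟩⟩
  · haveI := hl
    exact fu_of_fibres G.hom (fun s => (hfib hoi s).1)
  · haveI := hl
    haveI := hfu
    haveI : IsOpenImmersion (η[G].left ≫ G.hom) := by rw [hε]; infer_instance
    exact isOpenImmersion_of_comp η[G].left G.hom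

end Groth.Agent.S5318
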