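import Groth.Statements.S5320
import Groth.Agent.S5316
import Groth.Agent.Lib.Helper20BCDescSch
import Mathlib

set_option autoImplicit false
universe u
open CategoryTheory CategoryTheory.Limits MonoidalCategory CartesianMonoidalCategory MonObj GrpObj AlgebraicGeometry
open SGA3

namespace Groth.Agent.S5320

open Groth.Agent.Lib.R2H3.GrpHomLocus Groth.Agent.Lib.Helper3.GrpHomQF
  Groth.Agent.Lib.Helper3.GrpFibDim

/-- a homomorphism of group schemes (l.f.p., fibres of the source l.f.t.) that is unramified near
the points of the unit section is unramified. -/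
theorem unr_of_unitSec_mem_locus (S : Scheme.{u}) (G H : Over S) [GrpObj G] [GrpObj H] (u : G ⟶ H)
    [IsMonHom u] [LocallyOfFinitePresentation u.left]
    (hG : ∀ s : S, LocallyOfFiniteType (G.hom.fiberToSpecResidueField s))
    (h : ∀ s : S, unitSec G s ∈ locus @FormallyUnramified u.left) : FormallyUnramified u.left := by
  obtain ⟨-, hL⟩ := Groth.Agent.S5316.result S G H u hG
  have hL' : locus @FormallyUnramified u.left = G.hom.base ⁻¹' {s : S | FormallyUnramified
      ((Over.pullback (S.fromSpecResidueField s)).map u).left} := hL
  apply of_locus_eq_univ (P := @FormallyUnramified)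
  rw [Set.eq_univ_iff_forall]
  intro x
  have h1 := h (G.hom x)
  rw [hL'] at h1 ⊢
  have h2 : G.hom (unitSec G (G.hom x)) ∈ {s : S | FormallyUnramified
      ((Over.pullback (S.fromSpecResidueField s)).map u).left} := h1
  rw [hom_unitSec'] at h2
  exact h2

instance : MorphismProperty.HasOfPostcompProperty
    @IsOpenImmersion (@LocallyOfFiniteType ⊓ @FormallyUnramified) := by
  rw [MorphismProperty.hasOfPostcompProperty_iff_le_diagonal]
  intro X Y f ⟨hft, hfu⟩
  exact inferInstanceAs <| IsOpenImmersion (pullback.diagonal f)

/-- Let u : G → H be a homomorphism of S-group schemes which is locally of finite presentation, with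
every fibre G_s locally of finite type over κ(s), and let i : K → G be the kernel of u (the square
i, u, unit of H is cartesian, K with the group structure making i a homomorphism). The following are
equivalent: u is unramified (formally unramified); every fibre u_s : G_s → H_s is unramified; K is
unramified over S; the unit section of K is an open immersion. -/
theorem result (S : Scheme.{u}) (G H : Over S) [GrpObj G] [GrpObj H] (u : G ⟶ H) [IsMonHom u]
    [LocallyOfFinitePresentation u.left] (hG : ∀ s : S, LocallyOfFiniteType (G.hom.fiberToSpecResidueField s)) (K : Over S) [GrpObj K] (i : K ⟶ G) [IsMonHom i] (hK : AlgGrp.IsKernel i u) :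
    (FormallyUnramified u.left ↔ ∀ s : S, FormallyUnramified ((Over.pullback (S.fromSpecResidueField s)).map u).left) ∧
    (FormallyUnramified u.left ↔ FormallyUnramified K.hom) ∧
    (FormallyUnramified u.left ↔ IsOpenImmersion η[K].left) := by
  have hpb : IsPullback i.left K.hom u.left (η[H] : 𝟙_ (Over S) ⟶ H).left := by
    have := IsPullback.map (Over.forget S) hK
    simpa using this
  have hKlfp : LocallyOfFinitePresentation K.hom := MorphismProperty.of_isPullback hpb ‹_›
  obtain ⟨-, hL⟩ := Groth.Agent.S5316.result S G H u hG
  have hL' : locus @FormallyUnramified u.left = G.hom.base ⁻¹' {s : S | FormallyUnramified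
      ((Over.pullback (S.fromSpecResidueField s)).map u).left} := hL
  -- (a)
  have ha : FormallyUnramified u.left ↔ ∀ s : S,
      FormallyUnramified ((Over.pullback (S.fromSpecResidueField s)).map u).left := by
    constructor
    · intro h s
      exact MorphismProperty.of_isPullback
        (isPullback_overPullback_map G H u (S.fromSpecResidueField s)) h
    · intro h
      apply of_locus_eq_univ (P := @FormallyUnramified)
      rw [hL', Set.eq_univ_iff_forall]
      intro x
      exact h _
  -- (b)
  have hb : FormallyUnramified u.left ↔ FormallyUnramified K.hom := by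
    constructor
    · intro h
      exact MorphismProperty.of_isPullback hpb h
    · intro h
      apply unr_of_unitSec_mem_locus S G H u hG
      intro s
      have hsnd : FormallyUnramified (pullback.snd u.left (η[H] : 𝟙_ (Over S) ⟶ H).left) := by
        have : pullback.snd u.left (η[H] : 𝟙_ (Over S) ⟶ H).left = hpb.isoPullback.inv ≫ K.hom := by
          simp
        rw [this]
        exact (MorphismProperty.cancel_left_of_respectsIso @FormallyUnramified _ _).mpr h
      have hpt : u.left (unitSec G s) = (η[H] : 𝟙_ (Over S) ⟶ H).left s := by
        show (η[G].left ≫ u.left) s = η[H].left s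
        rw [← Over.comp_left, IsMonHom.one_hom]
      obtain ⟨w, hw1, -⟩ := Scheme.Pullback.exists_preimage_pullback (f := u.left)
        (g := (η[H] : 𝟙_ (Over S) ⟶ H).left) (unitSec G s) s hpt
      have h3 := Groth.Agent.Lib.Helper20.FlatDesc.formallyUnramified_stalkMap_of_baseChange u.left
        (η[H] : 𝟙_ (Over S) ⟶ H).left w (FormallyUnramified.stalkMap _ w)
      rw [hw1] at h3
      exact Groth.Agent.Lib.Helper20.EtLocal.exists_formallyUnramified_nbhd u.left _ h3
  refine ⟨ha, hb, ?_⟩
  -- (c)
  rw [hb]
  have hηK : η[K].left ≫ K.hom = 𝟙 _ := by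
    simp
  constructor
  · intro h
    have h1 : IsOpenImmersion (η[K].left ≫ K.hom) := by
      rw [hηK]
      infer_instance
    exact MorphismProperty.of_postcomp (W := @IsOpenImmersion)
      (W' := @LocallyOfFiniteType ⊓ @FormallyUnramified) η[K].left K.hom
      ⟨inferInstance, h⟩ h1
  · intro h
    have htu : (toUnit K).left = K.hom := by
      simp
    haveI : LocallyOfFinitePresentation (toUnit K).left := by
      rw [htu]
      exact hKlfp
    have hres := unr_of_unitSec_mem_locus S K (𝟙_ (Over S)) (toUnit K)
      (fun s => inferInstanceAs (LocallyOfFiniteType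
        (pullback.snd K.hom (S.fromSpecResidueField s)))) ?_
    · rw [htu] at hres
      exact hres
    · intro s
      rw [htu]
      refine ⟨η[K].left.opensRange, ⟨s, rfl⟩, ?_⟩
      have h2 : η[K].left.opensRange.ι ≫ K.hom = (η[K].left.isoOpensRange).inv := by
        rw [← cancel_epi (η[K].left.isoOpensRange).hom, Iso.hom_inv_id, ← Category.assoc,
          Scheme.Hom.isoOpensRange_hom_ι, hηK]
      rw [h2]
      infer_instance

end Groth.Agent.S5320
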