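import Groth.Statements.S5327
import Mathlib
import Groth.Agent.S5322
import Groth.Prelude.Def_AutSch
import Groth.Agent.Lib.Helper25TopGrp

set_option linter.style.haveILetI false
set_option linter.unusedVariables false

set_option autoImplicit false
universe u
open CategoryTheory CategoryTheory.Limits MonoidalCategory CartesianMonoidalCategory MonObj GrpObj AlgebraicGeometry
open SGA3

namespace Groth.Agent.S5327

open Groth.Agent.Lib.Helper25.TopGrp

/-- over a field, an open subgroup contains the connected component of the unit. -/
theorem conn_subset_range {k : Type u} [Field k] {G H : Over (Spec (CommRingCat.of k))}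
    [GrpObj G] [GrpObj H] (i : H ⟶ G) [IsMonHom i] (hopen : IsOpen (Set.range i.left)) :
    connectedComponent (AutSch.unitPt G) ⊆ Set.range i.left := by
  have hcl : IsClosed (Set.range i.left) :=
    isClosed_range_of_isLocallyClosed i hopen.isLocallyClosed
  have hmem : AutSch.unitPt G ∈ Set.range i.left := by
    refine ⟨AutSch.unitPt H, ?_⟩
    unfold AutSch.unitPt
    rw [← Scheme.Hom.comp_apply, ← Over.comp_left, IsMonHom.one_hom]
  exact IsClopen.connectedComponent_subset ⟨hcl, hopen⟩ hmem

lemma mem_neutralSet_iff {S : Scheme.{u}} (G : Over S) [GrpObj G] (x : G.left) :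
    x ∈ SGA3x.neutralSet G ↔
      x ∈ connectedComponentIn (G.hom ⁻¹' {G.hom x}) (η[G].left (G.hom x)) := by
  simp only [SGA3x.neutralSet, Set.mem_iUnion]
  constructor
  · rintro ⟨p, hp⟩
    have hx : x ∈ G.hom ⁻¹' {(𝟙_ (Over S)).hom p} := connectedComponentIn_subset _ _ hp
    have hx' : G.hom x = p := hx
    rw [hx']
    exact hp
  · intro h
    exact ⟨G.hom x, h⟩

lemma subset_neutralSet {S : Scheme.{u}} (G : Over S) [GrpObj G] (s : S) :
    connectedComponentIn (G.hom ⁻¹' {s}) (η[G].left s) ⊆ SGA3x.neutralSet G := by
  intro z hz
  have hz1 : z ∈ G.hom ⁻¹' {s} := connectedComponentIn_subset _ _ hz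
  have hz2 : G.hom z = s := hz1
  rw [mem_neutralSet_iff, hz2]
  exact hz

/-- Let G be an S-group scheme whose fibres are locally of finite type over κ(s), and let i : H → G be a
homomorphism of S-group schemes which is an open immersion (an open subgroup scheme). Then the union
G⁰ of the neutral components of the fibres of G is contained in the image of i, and G⁰ is the image
under i of the union H⁰ of the neutral components of the fibres of H. -/
theorem result (S : Scheme.{u}) (G H : Over S) [GrpObj G] [GrpObj H]
    (hG : ∀ s : S, LocallyOfFiniteType (G.hom.fiberToSpecResidueField s)) (i : H ⟶ G) [IsMonHom i]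
    [IsOpenImmersion i.left] :
    SGA3x.neutralSet G ⊆ Set.range i.left.base ∧ i.left.base '' SGA3x.neutralSet H = SGA3x.neutralSet G := by
  have hw : ∀ z : H.left, G.hom (i.left z) = H.hom z := fun z => by
    rw [← Scheme.Hom.comp_apply, Over.w]
  have hη : ∀ p : S, i.left (η[H].left p) = η[G].left p := fun p => by
    rw [← Scheme.Hom.comp_apply, ← Over.comp_left, IsMonHom.one_hom]
  have hηG : ∀ p : S, G.hom (η[G].left p) = p := fun p => by
    rw [← Scheme.Hom.comp_apply, Over.w]
    rfl
  have hηH : ∀ p : S, H.hom (η[H].left p) = p := fun p => by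
    rw [← Scheme.Hom.comp_apply, Over.w]
    rfl
  have part1 : SGA3x.neutralSet G ⊆ Set.range i.left := by
    intro x hx
    let s : S := G.hom x
    let f : Spec (CommRingCat.of (S.residueField s)) ⟶ S := S.fromSpecResidueField s
    let i' : Red.bc f H ⟶ Red.bc f G := (Over.pullback f).map i
    haveI : IsMonHom i' := inferInstance
    have hxr : x ∈ Set.range (pullback.fst G.hom f) := by
      rw [Scheme.Pullback.range_fst]
      show G.hom x ∈ Set.range (S.fromSpecResidueField s)
      rw [Scheme.range_fromSpecResidueField]
      rfl
    obtain ⟨x', hx'⟩ := hxr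
    have h1 : x' ∈ SGA3x.neutralSet (Red.bc f G) := by
      rw [Groth.Agent.S5322.result]
      show pullback.fst G.hom f x' ∈ SGA3x.neutralSet G
      rw [hx']
      exact hx
    rw [AutSch.neutralSet_eq_connectedComponent] at h1
    have hfst : i'.left ≫ pullback.fst G.hom f = pullback.fst H.hom f ≫ i.left := by
      simp only [i', Over.pullback_map_left]
      exact pullback.lift_fst _ _ _
    have hsnd : i'.left ≫ pullback.snd G.hom f = pullback.snd H.hom f := by
      simp only [i', Over.pullback_map_left]
      exact pullback.lift_snd _ _ _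
    have hopen : IsOpen (Set.range i'.left) := by
      have e : i'.left = pullback.map H.hom f G.hom f i.left (𝟙 _) (𝟙 _) (by simp) (by simp) := by
        apply pullback.hom_ext
        · rw [hfst]; simp only [pullback.map, Category.comp_id]
          exact (pullback.lift_fst _ _ _).symm
        · rw [hsnd]; simp only [pullback.map, Category.comp_id]
          exact (pullback.lift_snd _ _ _).symm
      rw [e, Scheme.Pullback.range_map]
      refine IsOpen.inter ?_ ?_
      · exact i.left.isOpenEmbedding.isOpen_range.preimage (pullback.fst G.hom f).continuous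
      · simp
    obtain ⟨y', hy'⟩ := conn_subset_range i' hopen h1
    refine ⟨pullback.fst H.hom f y', ?_⟩
    show i.left (pullback.fst H.hom f y') = x
    rw [← hx', ← hy', ← Scheme.Hom.comp_apply, ← Scheme.Hom.comp_apply, hfst]
  refine ⟨part1, ?_⟩
  apply Set.Subset.antisymm
  · rintro _ ⟨y, hy, rfl⟩
    rw [mem_neutralSet_iff] at hy
    set s : S := H.hom y with hs
    have hpre : _root_.IsPreconnected
        (i.left '' connectedComponentIn (H.hom ⁻¹' {s}) (η[H].left s)) :=
      isPreconnected_connectedComponentIn.image _ i.left.continuous.continuousOn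
    have hsub : i.left '' connectedComponentIn (H.hom ⁻¹' {s}) (η[H].left s) ⊆
        connectedComponentIn (G.hom ⁻¹' {s}) (η[G].left s) := by
      refine hpre.subset_connectedComponentIn ?_ ?_
      · refine ⟨η[H].left s, mem_connectedComponentIn (hηH s), hη s⟩
      · rintro _ ⟨z, hz, rfl⟩
        have hz1 : z ∈ H.hom ⁻¹' {s} := connectedComponentIn_subset _ _ hz
        show G.hom (i.left z) = s
        rw [hw]
        exact hz1
    exact subset_neutralSet G s (hsub ⟨y, hy, rfl⟩)
  · intro x hx
    obtain ⟨y, rfl⟩ := part1 hx
    refine ⟨y, ?_, rfl⟩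
    rw [mem_neutralSet_iff] at hx ⊢
    rw [hw] at hx
    set s : S := H.hom y with hs
    have hCsub : connectedComponentIn (G.hom ⁻¹' {s}) (η[G].left s) ⊆ Set.range i.left :=
      (subset_neutralSet G s).trans part1
    have hpre : _root_.IsPreconnected
        (i.left ⁻¹' connectedComponentIn (G.hom ⁻¹' {s}) (η[G].left s)) :=
      isPreconnected_connectedComponentIn.preimage_of_isOpenMap
        i.left.isOpenEmbedding.injective i.left.isOpenEmbedding.isOpenMap hCsub
    have hsub : i.left ⁻¹' connectedComponentIn (G.hom ⁻¹' {s}) (η[G].left s) ⊆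
        connectedComponentIn (H.hom ⁻¹' {s}) (η[H].left s) := by
      refine hpre.subset_connectedComponentIn ?_ ?_
      · rw [Set.mem_preimage, hη]
        exact mem_connectedComponentIn (hηG s)
      · intro z hz
        have hz1 : i.left z ∈ G.hom ⁻¹' {s} := connectedComponentIn_subset _ _ hz
        show H.hom z = s
        rw [← hw]
        exact hz1
    exact hsub hx

end Groth.Agent.S5327
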