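import Groth.Statements.S5340
import Mathlib
import Groth.Agent.Lib.R2H3LftDesc
import Groth.Agent.Lib.Helper25LocFTArtin

set_option autoImplicit false
set_option linter.style.haveILetI false
set_option linter.unusedVariables false
universe u
open CategoryTheory CategoryTheory.Limits MonoidalCategory CartesianMonoidalCategory MonObj GrpObj AlgebraicGeometry
open SGA3

namespace Groth.Agent.S5340

/-- Let A be a local artinian ring and G an A-group scheme. If some nonempty open subscheme of G is of
finite type over A, then G is locally of finite type over A. -/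
theorem result (A : Type u) [CommRing A] [IsArtinianRing A] [IsLocalRing A] (G : Over (Spec (CommRingCat.of A))) [GrpObj G]
    (W : G.left.Opens) (hW : (W : Set G.left).Nonempty) [LocallyOfFiniteType (W.ι ≫ G.hom)] [QuasiCompact (W.ι ≫ G.hom)] :
    LocallyOfFiniteType G.hom := by
  haveI : IsNoetherianRing A := inferInstance
  let t := Groth.Agent.Lib.Helper25.LocFT.resMap A
  haveI : IsClosedImmersion t :=
    inferInstanceAs (IsClosedImmersion (Groth.Agent.Lib.Helper25.LocFT.resMap A))
  haveI : Surjective t := inferInstanceAs (Surjective (Groth.Agent.Lib.Helper25.LocFT.resMap A))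
  let Gs : Over (Spec (CommRingCat.of (IsLocalRing.ResidueField A))) := (Over.pullback t).obj G
  let p : Gs.left ⟶ G.left := pullback.fst G.hom t
  have hpb : IsPullback p Gs.hom G.hom t := IsPullback.of_hasPullback G.hom t
  haveI : Surjective p := MorphismProperty.of_isPullback (P := @Surjective) hpb.flip inferInstance
  let Ws : Gs.left.Opens := p ⁻¹ᵁ W
  have hbigW : IsPullback (p ∣_ W) (Ws.ι ≫ Gs.hom) (W.ι ≫ G.hom) t :=
    (isPullback_morphismRestrict p W).paste_vert hpb
  haveI : LocallyOfFiniteType (Ws.ι ≫ Gs.hom) :=
    MorphismProperty.of_isPullback (P := @LocallyOfFiniteType) hbigW inferInstance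
  obtain ⟨w, hw⟩ := hW
  obtain ⟨w₁, hw₁⟩ := p.surjective w
  have hWs : (Ws : Set Gs.left).Nonempty := ⟨w₁, by show p w₁ ∈ W; rw [hw₁]; exact hw⟩
  have hs : LocallyOfFiniteType Gs.hom :=
    Groth.Agent.Lib.R2H3.LftDesc.lft_of_open_field Gs Ws hWs
  exact Groth.Agent.Lib.R2H3.LftDesc.lft_of_isPullback_thickening hpb hs

end Groth.Agent.S5340
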