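import Groth.Statements.S5344
import Mathlib
import Groth.Agent.S5342
import Groth.Agent.Lib.Helper25LocFTArtin
import Groth.Agent.Lib.Helper14LocNoeth
import Groth.Agent.Lib.Helper11Homog

set_option linter.style.haveILetI false
set_option linter.unusedVariables false

set_option autoImplicit false
universe u
open CategoryTheory CategoryTheory.Limits MonoidalCategory CartesianMonoidalCategory MonObj GrpObj AlgebraicGeometry
open SGA3

namespace Groth.Agent.S5344

open Groth.Agent.Lib.Helper25.LocFT

section aux
variable (A : Type u) [CommRing A] [IsArtinianRing A] [IsLocalRing A]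

/-- base change to the residue field is a homeomorphism, so preserves connectedness. -/
theorem connectedSpace_pullback_res (W : Over (Spec (CommRingCat.of A))) [ConnectedSpace W.left] :
    ConnectedSpace ↥(pullback W.hom (resMap A)) := by
  let j : pullback W.hom (resMap A) ⟶ W.left := pullback.fst W.hom (resMap A)
  have hj1 : IsClosedImmersion j :=
    inferInstanceAs (IsClosedImmersion (pullback.fst W.hom (resMap A)))
  have hj2 : Surjective j := inferInstanceAs (Surjective (pullback.fst W.hom (resMap A)))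
  let h : ↥(pullback W.hom (resMap A)) ≃ₜ W.left :=
    j.isEmbedding.toHomeomorphOfSurjective hj2.surj
  exact h.symm.surjective.connectedSpace h.symm.continuous

/-- the product of two connected `A`-schemes, one of which has a section, is connected. -/
theorem connectedSpace_tensor (U V : Over (Spec (CommRingCat.of A))) [ConnectedSpace U.left]
    [ConnectedSpace V.left] (e : 𝟙_ (Over (Spec (CommRingCat.of A))) ⟶ U) :
    ConnectedSpace ↥(U ⊗ V).left := by
  let F := Over.pullback (resMap A)
  let Uk := F.obj U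
  let Vk := F.obj V
  haveI : ConnectedSpace ↥Uk.left := connectedSpace_pullback_res A U
  haveI : ConnectedSpace ↥Vk.left := connectedSpace_pullback_res A V
  let xk : 𝟙_ (Over (Spec (CommRingCat.of (IsLocalRing.ResidueField A)))) ⟶ Uk :=
    Functor.LaxMonoidal.ε F ≫ F.map e
  have hxk : xk.left ≫ Uk.hom = 𝟙 _ := Over.w xk
  haveI hconn : ConnectedSpace ↥(pullback Uk.hom Vk.hom) :=
    Groth.Agent.S5342.result (IsLocalRing.ResidueField A) Uk.left Vk.left Uk.hom Vk.hom xk.left hxk
  haveI hconn' : ConnectedSpace ↥(Uk ⊗ Vk).left := hconn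
  let p : (F.obj (U ⊗ V)).left ⟶ (U ⊗ V).left := pullback.fst (U ⊗ V).hom (resMap A)
  have hp : Surjective p := inferInstanceAs (Surjective (pullback.fst (U ⊗ V).hom (resMap A)))
  let m : (Uk ⊗ Vk).left ⟶ (U ⊗ V).left := (Functor.LaxMonoidal.μ F U V).left ≫ p
  haveI : IsIso (Functor.LaxMonoidal.μ F U V) := inferInstance
  haveI : IsIso (Functor.LaxMonoidal.μ F U V).left :=
    (Over.forget _).map_isIso (Functor.LaxMonoidal.μ F U V)
  have hm : Function.Surjective m := by
    intro z
    obtain ⟨y, hy⟩ := hp.surj z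
    obtain ⟨x, hx⟩ := (Functor.LaxMonoidal.μ F U V).left.surjective y
    exact ⟨x, by rw [Scheme.Hom.comp_apply, hx, hy]⟩
  exact hm.connectedSpace m.continuous

variable {A}

/-- an open subscheme of an `A`-scheme, as an `A`-scheme. -/
noncomputable abbrev opn (G : Over (Spec (CommRingCat.of A))) (W : G.left.Opens) :
    Over (Spec (CommRingCat.of A)) :=
  Over.mk (W.ι ≫ G.hom)

/-- the inclusion of an open subscheme. -/
noncomputable abbrev jn (G : Over (Spec (CommRingCat.of A))) (W : G.left.Opens) : opn G W ⟶ G :=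
  Over.homMk W.ι rfl

theorem image_subset (G : Over (Spec (CommRingCat.of A))) (φ : G ⊗ G ⟶ G) (x₀ : G.left)
    (W₁ W₂ : G.left.Opens) [ConnectedSpace ↥(opn G W₁).left] [ConnectedSpace ↥(opn G W₂).left]
    (e : 𝟙_ (Over (Spec (CommRingCat.of A))) ⟶ opn G W₁)
    (w : ↥(opn G W₁ ⊗ opn G W₂).left)
    (hw : φ.left ((jn G W₁ ⊗ₘ jn G W₂).left w) ∈ connectedComponent x₀)
    (z : ↥(G ⊗ G).left) (hz1 : (fst G G).left z ∈ W₁) (hz2 : (snd G G).left z ∈ W₂) :
    φ.left z ∈ connectedComponent x₀ := by
  haveI := connectedSpace_tensor A (opn G W₁) (opn G W₂) e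
  have hrange : z ∈ Set.range (jn G W₁ ⊗ₘ jn G W₂).left := by
    rw [Over.tensorHom_left, Scheme.Pullback.range_map]
    refine ⟨?_, ?_⟩
    · show (pullback.fst G.hom G.hom) z ∈ Set.range W₁.ι
      rw [Scheme.Opens.range_ι]
      exact hz1
    · show (pullback.snd G.hom G.hom) z ∈ Set.range W₂.ι
      rw [Scheme.Opens.range_ι]
      exact hz2
  obtain ⟨w', rfl⟩ := hrange
  have hpre : _root_.IsPreconnected (Set.range fun v : ↥(opn G W₁ ⊗ opn G W₂).left =>
      φ.left ((jn G W₁ ⊗ₘ jn G W₂).left v)) :=
    isPreconnected_range (φ.left.continuous.comp (jn G W₁ ⊗ₘ jn G W₂).left.continuous)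
  have hsub := hpre.subset_connectedComponent (x := φ.left ((jn G W₁ ⊗ₘ jn G W₂).left w)) ⟨w, rfl⟩
  rw [connectedComponent_eq hw]
  exact hsub ⟨w', rfl⟩

end aux

/-- Let A be a local artinian ring and G an A-group scheme locally of finite type, and let G⁰ be the
connected component of the unit point. Then G⁰ is open in G; it is stable under the group law: for
every A-scheme T and all points g, h : T → G whose images lie in G⁰, the image of g h⁻¹ lies in G⁰
(so G⁰ carries an open subgroup scheme, the neutral component); and it is normal: for every A-scheme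
T, every point g : T → G and every point n : T → G whose image lies in G⁰, the image of g n g⁻¹ lies
in G⁰. -/
theorem result (A : Type u) [CommRing A] [IsArtinianRing A] [IsLocalRing A] (G : Over (Spec (CommRingCat.of A))) [GrpObj G] [LocallyOfFiniteType G.hom]
    (pt : ↥(𝟙_ (Over (Spec (CommRingCat.of A)))).left) :
    IsOpen (connectedComponent (η[G].left.base pt)) ∧
    (∀ (T : Over (Spec (CommRingCat.of A))) (g h : T ⟶ G), Set.range g.left.base ⊆ connectedComponent (η[G].left.base pt) →
      Set.range h.left.base ⊆ connectedComponent (η[G].left.base pt) →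
      Set.range (g * h⁻¹).left.base ⊆ connectedComponent (η[G].left.base pt)) ∧
    ∀ (T : Over (Spec (CommRingCat.of A))) (g n : T ⟶ G), Set.range n.left.base ⊆ connectedComponent (η[G].left.base pt) →
      Set.range (g * n * g⁻¹).left.base ⊆ connectedComponent (η[G].left.base pt) := by
  classical
  have hsub : ∀ s t : ↥(𝟙_ (Over (Spec (CommRingCat.of A)))).left, s = t := fun s t =>
    Groth.Agent.Lib.Helper11Homog.spec_subsingleton_of_artinian_local A s t
  set e₀ : G.left := η[G].left.base pt with he₀
  haveI : IsLocallyNoetherian G.left := LocallyOfFiniteType.isLocallyNoetherian G.hom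
  haveI : LocallyConnectedSpace G.left := by
    apply Groth.Agent.Lib.Helper14.locallyConnectedSpace_of_locally_noetherian
    intro x
    obtain ⟨_, ⟨W, hW, rfl⟩, hxW, -⟩ := G.left.isBasis_affineOpens.exists_subset_of_mem_open
      (Set.mem_univ x) isOpen_univ
    replace hW : IsAffineOpen W := hW
    haveI : IsNoetherianRing Γ(G.left, W) := IsLocallyNoetherian.component_noetherian ⟨W, hW⟩
    exact ⟨W, W.isOpen.mem_nhds hxW, noetherianSpace_of_isAffineOpen W hW⟩
  have hopen : ∀ x : G.left, IsOpen (connectedComponent x) := fun x => isOpen_connectedComponent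
  -- the opens
  let Cx : G.left → G.left.Opens := fun x => ⟨connectedComponent x, hopen x⟩
  have hCconn : ∀ x : G.left, ConnectedSpace ↥(opn G (Cx x)).left := fun x =>
    isConnected_iff_connectedSpace.mp (isConnected_connectedComponent (x := x))
  let C : G.left.Opens := Cx e₀
  haveI : ConnectedSpace ↥(opn G C).left := hCconn e₀
  have hη : ∀ s : ↥(𝟙_ (Over (Spec (CommRingCat.of A)))).left, η[G].left s = e₀ := fun s => by
    rw [hsub s pt]
  have hr : Set.range η[G].left ⊆ Set.range C.ι := by
    rw [Scheme.Opens.range_ι]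
    rintro _ ⟨s, rfl⟩
    rw [hη s]
    exact mem_connectedComponent
  have h1 : IsOpenImmersion.lift C.ι η[G].left hr ≫ (opn G C).hom =
      (𝟙_ (Over (Spec (CommRingCat.of A)))).hom := by
    show IsOpenImmersion.lift C.ι η[G].left hr ≫ (C.ι ≫ G.hom) = _
    rw [← Category.assoc, IsOpenImmersion.lift_fac]
    exact Over.w η[G]
  let eC : 𝟙_ (Over (Spec (CommRingCat.of A))) ⟶ opn G C :=
    Over.homMk (IsOpenImmersion.lift C.ι η[G].left hr) h1
  have heC : eC ≫ jn G C = η[G] := by
    ext1
    exact IsOpenImmersion.lift_fac _ _ _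
  have hone : ∀ (T : Over (Spec (CommRingCat.of A))) (t : T.left), (1 : T ⟶ G).left t = e₀ := by
    intro T t
    rw [Hom.one_def, Over.comp_left, Scheme.Hom.comp_apply]
    exact hη _
  have hone' : (1 : 𝟙_ (Over (Spec (CommRingCat.of A))) ⟶ G) = η[G] := by
    rw [Hom.one_def]
    have : toUnit (𝟙_ (Over (Spec (CommRingCat.of A)))) = 𝟙 _ := Subsingleton.elim _ _
    rw [this, Category.id_comp]
  refine ⟨hopen e₀, ?_, ?_⟩
  · intro T g h hg hh
    let d : G ⊗ G ⟶ G := lift (fst G G) (snd G G ≫ ι[G]) ≫ μ[G]
    have hd : ∀ {T' : Over (Spec (CommRingCat.of A))} (a b : T' ⟶ G), a * b⁻¹ = lift a b ≫ d := by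
      intro T' a b
      simp only [d, Hom.mul_def, Hom.inv_def, ← Category.assoc, comp_lift, lift_fst, lift_snd]
    rintro _ ⟨t, rfl⟩
    rw [hd g h, Over.comp_left, Scheme.Hom.comp_apply]
    refine image_subset G d e₀ C C eC ((lift eC eC).left pt) ?_ _ ?_ ?_
    · rw [← Scheme.Hom.comp_apply, ← Scheme.Hom.comp_apply, ← Over.comp_left, ← Over.comp_left,
        ← Category.assoc, lift_map, heC, ← hd, mul_inv_cancel, hone]
      exact mem_connectedComponent
    · rw [← Scheme.Hom.comp_apply, ← Over.comp_left, lift_fst]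
      exact hg ⟨t, rfl⟩
    · rw [← Scheme.Hom.comp_apply, ← Over.comp_left, lift_snd]
      exact hh ⟨t, rfl⟩
  · intro T g n hn
    let c : G ⊗ G ⟶ G := lift (lift (snd G G) (fst G G) ≫ μ[G]) (snd G G ≫ ι[G]) ≫ μ[G]
    have hc : ∀ {T' : Over (Spec (CommRingCat.of A))} (a b : T' ⟶ G),
        b * a * b⁻¹ = lift a b ≫ c := by
      intro T' a b
      simp only [c, Hom.mul_def, Hom.inv_def, ← Category.assoc, comp_lift, lift_fst, lift_snd]
    rintro _ ⟨t, rfl⟩
    rw [hc n g, Over.comp_left, Scheme.Hom.comp_apply]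
    let D : G.left.Opens := Cx (g.left t)
    haveI : ConnectedSpace ↥(opn G D).left := hCconn (g.left t)
    let s : opn G D ⟶ opn G C ⊗ opn G D := lift (toUnit _ ≫ eC) (𝟙 _)
    let y : ↥(opn G D).left := ⟨g.left t, mem_connectedComponent⟩
    refine image_subset G c e₀ C D eC (s.left y) ?_ _ ?_ ?_
    · rw [← Scheme.Hom.comp_apply, ← Scheme.Hom.comp_apply, ← Over.comp_left, ← Over.comp_left,
        ← Category.assoc, lift_map, Category.assoc, heC, Category.id_comp, ← Hom.one_def, ← hc,
        _root_.mul_one, mul_inv_cancel, hone]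
      exact mem_connectedComponent
    · rw [← Scheme.Hom.comp_apply, ← Over.comp_left, lift_fst]
      exact hn ⟨t, rfl⟩
    · rw [← Scheme.Hom.comp_apply, ← Over.comp_left, lift_snd]
      exact mem_connectedComponent

end Groth.Agent.S5344
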