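import Groth.Statements.S5353
import Mathlib
import Groth.Agent.S5339
import Groth.Agent.Lib.Helper12Flat

set_option autoImplicit false
set_option linter.style.haveILetI false
set_option linter.unusedVariables false
universe u
open CategoryTheory CategoryTheory.Limits MonoidalCategory CartesianMonoidalCategory MonObj GrpObj AlgebraicGeometry
open SGA3

namespace Groth.Agent.S5353

/-- Let A be a local artinian ring, G an A-group scheme which is flat and locally of finite type, i : G⁰
→ G an open subgroup scheme whose image is the connected component of the unit (the neutral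
component), and p : G → Q a homomorphism of A-group schemes which is surjective, flat and locally of
finite presentation with kernel G⁰ (Q is the quotient of G by G⁰). Then Q is etale over A. -/
theorem result (A : Type u) [CommRing A] [IsArtinianRing A] [IsLocalRing A] (G0 G Q : Over (Spec (CommRingCat.of A))) [GrpObj G0] [GrpObj G] [GrpObj Q]
    [Flat G.hom] [LocallyOfFiniteType G.hom] (i : G0 ⟶ G) [IsMonHom i] [IsOpenImmersion i.left]
    (pt : ↥(𝟙_ (Over (Spec (CommRingCat.of A)))).left) (hi : Set.range i.left.base = connectedComponent (η[G].left.base pt))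
    (p : G ⟶ Q) [IsMonHom p] [Surjective p.left] [Flat p.left] [LocallyOfFinitePresentation p.left]
    (hK : AlgGrp.IsKernel i p) : Etale Q.hom := by
  -- `Q` is flat over `A`
  haveI : Flat (p.left ≫ Q.hom) := by rw [Over.w p]; infer_instance
  haveI : Flat Q.hom := Groth.Agent.Lib.Helper12.flat_of_comp_of_flat_of_surjective p.left Q.hom
  -- the unit section of `Q` is an open immersion, by fppf descent along `p`
  have hsq : IsPullback i.left (toUnit G0).left p.left η[Q].left :=
    IsPullback.map (Over.forget _) hK
  haveI : IsOpenImmersion η[Q].left :=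
    MorphismProperty.of_isPullback_of_descendsAlong (P := @IsOpenImmersion)
      (Q := @Surjective ⊓ @Flat ⊓ @LocallyOfFinitePresentation) hsq
      ⟨⟨inferInstance, inferInstance⟩, inferInstance⟩ inferInstance
  let W : Q.left.Opens := η[Q].left.opensRange
  have hW : (W : Set Q.left).Nonempty := ⟨η[Q].left pt, ⟨pt, rfl⟩⟩
  have hWe : Etale (W.ι ≫ Q.hom) := by
    let e := IsOpenImmersion.isoOfRangeEq W.ι η[Q].left (by simp [W])
    have he : e.hom ≫ η[Q].left = W.ι := IsOpenImmersion.isoOfRangeEq_hom_fac _ _ _
    rw [← he, Category.assoc, Over.w η[Q]]
    haveI : IsIso (𝟙_ (Over (Spec (CommRingCat.of A)))).hom := by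
      change IsIso (𝟙 _)
      infer_instance
    infer_instance
  exact (Groth.Agent.S5339.result A Q W hW).2.2.2 hWe

end Groth.Agent.S5353
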