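import Groth.Statements.S5430
import Groth.Agent.Lib.R2H3MultAutQuot
import Groth.Agent.Lib.R2H3ActPt

set_option autoImplicit false
set_option linter.style.haveILetI false
set_option linter.unusedVariables false
universe u
open CategoryTheory MonoidalCategory CartesianMonoidalCategory MonObj GrpObj AlgebraicGeometry CategoryTheory.Limits
open SGA3x

namespace Groth.Agent.S5430

/-- Let S be a scheme and E an S-group scheme which is an extension of an S-group scheme U with
connected fibres by an S-group H of multiplicative type and of finite type: p : E → U is a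
homomorphism which is surjective, flat and quasi-compact (U is the fpqc quotient E/H) and i : H → E
is its kernel. Then the extension is central: every point of H commutes with every point of E. -/
theorem result (S : Scheme.{u}) (E H U : Over S) [GrpObj E] [GrpObj H] [GrpObj U]
    (p : E ⟶ U) [IsMonHom p] [Surjective p.left] [Flat p.left] [QuasiCompact p.left]
    (i : H ⟶ E) [IsMonHom i] (hker : AlgGrp.IsKernel i p) (hH : SGA3x.IsMultTypeFT H)
    (hU : ∀ s : S, _root_.IsConnected (U.hom.base ⁻¹' {s})) :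
    ∀ (X : Over S) (h : X ⟶ H) (e : X ⟶ E), (h ≫ i) * e = e * (h ≫ i) := by
  intro X h e
  have hH' := Groth.Agent.Lib.R2H3.MultAct.locally_of_isMultTypeFT hH
  haveI : Mono i := ⟨fun a b hab => hker.hom_ext hab (toUnit_unique _ _)⟩
  -- `U` has geometrically connected fibres
  haveI : GeometricallyConnected U.hom := by
    apply Groth.Agent.Lib.R2H3.MultAct.geometricallyConnected_of_connected_fibres
    intro s
    haveI : ConnectedSpace ↥(U.hom ⁻¹' {s}) := isConnected_iff_connectedSpace.mp (hU s)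
    exact (U.hom.fiberHomeo s).symm.surjective.connectedSpace (U.hom.fiberHomeo s).symm.continuous
  -- points killed by `p` come from `H`
  have hlift : ∀ {Y : Over S} (n : Y ⟶ E), n ≫ p = 1 → ∃ n' : Y ⟶ H, n' ≫ i = n := by
    intro Y n hn
    refine ⟨hker.lift n (toUnit Y) ?_, hker.lift_fst _ _ _⟩
    rw [hn]
    rfl
  have hip : ∀ {Y : Over S} (n : Y ⟶ H), (n ≫ i) ≫ p = 1 := by
    intro Y n
    rw [Category.assoc, hker.w, ← Category.assoc, toUnit_unique (n ≫ toUnit H) (toUnit Y)]
    rfl
  -- normality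
  have hn : ∀ (T : Over S) (g : T ⟶ E) (n : T ⟶ H), ∃ n' : T ⟶ H, g * (n ≫ i) * g⁻¹ = n' ≫ i := by
    intro T g n
    have h1 : (g * (n ≫ i) * g⁻¹) ≫ p = 1 := by
      rw [MonObj.mul_comp _ _ p, MonObj.mul_comp _ _ p, hip]
      have : (g⁻¹ : T ⟶ E) ≫ p = (g ≫ p)⁻¹ := by
        rw [eq_inv_iff_mul_eq_one, ← MonObj.mul_comp _ _ p, inv_mul_cancel, MonObj.one_comp]
      rw [this]
      group
    obtain ⟨n', hn'⟩ := hlift _ h1
    exact ⟨n', hn'.symm⟩
  have key := Groth.Agent.Lib.R2H3.MultAct.PtAction.trivial_of_multType_target_quot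
    (Groth.Agent.Lib.R2H3.MultAct.conjAction i hn)
    (Groth.Agent.Lib.R2H3.MultAct.conjAction_hmul i hn) p (by
      intro Y n hn1 x
      obtain ⟨n', hn'⟩ := hlift n hn1
      rw [← cancel_mono i, Groth.Agent.Lib.R2H3.MultAct.conjAction_smul_comp, ← hn']
      have hc := Groth.Agent.Lib.R2H3.MultAct.comm_of_multType hH' Y n' x
      have : (n' ≫ i) * (x ≫ i) = (x ≫ i) * (n' ≫ i) := by
        rw [← MonObj.mul_comp _ _ i, ← MonObj.mul_comp _ _ i, hc]
      calc (n' ≫ i) * (x ≫ i) * (n' ≫ i)⁻¹ = (x ≫ i) * (n' ≫ i) * (n' ≫ i)⁻¹ := by rw [this]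
        _ = x ≫ i := by group) hH' X e h
  have h2 := Groth.Agent.Lib.R2H3.MultAct.conjAction_smul_comp i hn e h
  rw [key] at h2
  calc (h ≫ i) * e = (e * (h ≫ i) * e⁻¹) * e := by rw [← h2]
    _ = e * (h ≫ i) := by group

end Groth.Agent.S5430
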