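import Groth.Statements.S5434
import Groth.Agent.Lib.R2H3SchDense

set_option autoImplicit false
set_option linter.style.haveILetI false
set_option linter.unusedVariables false
universe u
open CategoryTheory MonoidalCategory CartesianMonoidalCategory MonObj GrpObj AlgebraicGeometry CategoryTheory.Limits
open SGA3x

namespace Groth.Agent.S5434

/-- Let X be an S-scheme and U an open subscheme of X which is schematically dense in X relative to S:
for every S′ → S the preimage of U in X ×_S S′ is schematically dense (restriction of functions to
it is injective on every open). Let Y be an S-scheme whose fibres Y_s are separated (over κ(s)). If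
two S-morphisms f, g : X → Y agree on U, then f = g. -/
theorem result (S : Scheme.{u}) (X Y : Over S) (U : X.left.Opens) (hU : (∀ (S' : Scheme.{u}) (g : S' ⟶ S), CInt.IsSchematicallyDense ((pullback.fst X.hom g) ⁻¹ᵁ U)))
    (hY : ∀ s : S, IsSeparated (pullback.snd Y.hom (S.fromSpecResidueField s)))
    (f g : X ⟶ Y) (h : U.ι ≫ f.left = U.ι ≫ g.left) : f = g := by
  have hdense : CInt.IsSchematicallyDense U :=
    Groth.Agent.Lib.R2H3.SchDense.of_iso (Limits.pullback.fst X.hom (𝟙 S)) (hU S (𝟙 S))
  apply Over.OverMorphism.ext
  exact Groth.Agent.Lib.R2H3.SchDense.hom_ext_of_apply_eq hdense f.left g.left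
    (Groth.Agent.Lib.R2H3.SchDense.apply_eq_of_separated_fibres X Y U hU hY f g h) h

end Groth.Agent.S5434
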