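import Groth.Statements.S5435
import Groth.Agent.Lib.R2H3SchDense
import Groth.Agent.Lib.Helper11HomogA

set_option autoImplicit false
set_option linter.style.haveILetI false
set_option linter.unusedVariables false
universe u
open CategoryTheory MonoidalCategory CartesianMonoidalCategory MonObj GrpObj AlgebraicGeometry CategoryTheory.Limits
open SGA3x

namespace Groth.Agent.S5435

/-- Let G be an S-group scheme, flat and locally of finite presentation over S, U an open subscheme of G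
schematically dense in G relative to S (after every base change), and H an S-group scheme. Then a
homomorphism G → H is determined by its restriction to U: two homomorphisms f, g : G → H with the
same restriction to U are equal. (No separatedness of H is needed. The published statement allows H
to be any sheaf of groups for the fppf topology; this row takes H a group scheme.) -/
theorem result (S : Scheme.{u}) (G H : Over S) [GrpObj G] [GrpObj H] [Flat G.hom] [LocallyOfFinitePresentation G.hom]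
    (U : G.left.Opens) (hU : (∀ (S' : Scheme.{u}) (g : S' ⟶ S), CInt.IsSchematicallyDense ((pullback.fst G.hom g) ⁻¹ᵁ U)))
    (f g : G ⟶ H) [IsMonHom f] [IsMonHom g] (h : U.ι ≫ f.left = U.ι ≫ g.left) : f = g := by
  -- the open `V = U × U` of `G × G`
  obtain ⟨V, hV⟩ : ∃ V : (G ⊗ G).left.Opens,
      V = (fst G G).left ⁻¹ᵁ U ⊓ (snd G G).left ⁻¹ᵁ U := ⟨_, rfl⟩
  have hV1 : V ≤ (fst G G).left ⁻¹ᵁ U := by rw [hV]; exact inf_le_left
  have hV2 : V ≤ (snd G G).left ⁻¹ᵁ U := by rw [hV]; exact inf_le_right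
  haveI : Flat μ[G].left := Groth.Agent.Lib.Helper11Homog.flat_mul_left G
  -- surjectivity of the multiplication `U × U → G`
  have hsurj : Function.Surjective (V.ι ≫ μ[G].left) := by
    intro g₀
    obtain ⟨t, ht⟩ : ∃ t : Spec (G.left.residueField g₀) ⟶ G.left,
        t = G.left.fromSpecResidueField g₀ := ⟨_, rfl⟩
    have htpt : ∀ q, t q = g₀ := by
      intro q
      rw [ht]
      exact Scheme.fromSpecResidueField_apply _ q
    obtain ⟨gT, hgT⟩ : ∃ gT : Over.mk (t ≫ G.hom) ⟶ G, gT.left = t := ⟨Over.homMk t rfl, rfl⟩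
    obtain ⟨a, ha⟩ : ∃ a : G ⊗ Over.mk (t ≫ G.hom) ⟶ G, a = fst G _ := ⟨_, rfl⟩
    obtain ⟨b, hb⟩ : ∃ b : G ⊗ Over.mk (t ≫ G.hom) ⟶ G, b = snd G _ ≫ gT := ⟨_, rfl⟩
    obtain ⟨φ, hφ⟩ : ∃ φ : G ⊗ Over.mk (t ≫ G.hom) ⟶ G, φ = b * a⁻¹ := ⟨_, rfl⟩
    obtain ⟨ψ, hψ⟩ : ∃ ψ : G ⊗ Over.mk (t ≫ G.hom) ⟶ G, ψ = a⁻¹ * b := ⟨_, rfl⟩
    obtain ⟨ψT, hψT⟩ : ∃ ψT : G ⊗ Over.mk (t ≫ G.hom) ⟶ G ⊗ Over.mk (t ≫ G.hom),
        ψT = lift ψ (snd G _) := ⟨_, rfl⟩
    have h1 : ψT ≫ a = ψ := by rw [hψT, ha, lift_fst]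
    have h2 : ψT ≫ b = b := by rw [hψT, hb, ← Category.assoc, lift_snd]
    have h3 : ψT ≫ φ = a := by
      rw [hφ, MonObj.comp_mul, GrpObj.comp_inv, h1, h2, hψ]
      group
    have h4 : φ * a = b := by
      rw [hφ]
      group
    have hdense : Dense ((a.left ⁻¹ᵁ U : (G ⊗ Over.mk (t ≫ G.hom)).left.Opens) :
        Set ↥(G ⊗ Over.mk (t ≫ G.hom)).left) := by
      rw [ha]
      exact Groth.Agent.Lib.R2H3.SchDense.dense_of_isSchematicallyDense (hU _ (t ≫ G.hom))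
    haveI hne : Nonempty ↥(G ⊗ Over.mk (t ≫ G.hom)).left := by
      obtain ⟨pt⟩ : Nonempty ↥(Spec (G.left.residueField g₀)) := inferInstance
      exact ⟨(lift gT (𝟙 _)).left pt⟩
    obtain ⟨u, hu⟩ := hdense.nonempty
    have hne2 : ((φ.left ⁻¹ᵁ U : (G ⊗ Over.mk (t ≫ G.hom)).left.Opens) :
        Set ↥(G ⊗ Over.mk (t ≫ G.hom)).left).Nonempty := by
      refine ⟨ψT.left u, ?_⟩
      change φ.left (ψT.left u) ∈ U
      rw [← Scheme.Hom.comp_apply, ← Over.comp_left, h3]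
      exact hu
    obtain ⟨w, hw1, hw2⟩ := hdense.inter_open_nonempty _ (φ.left ⁻¹ᵁ U).isOpen hne2
    have hz1 : (fst G G).left ((lift φ a).left w) ∈ U := by
      rw [← Scheme.Hom.comp_apply, ← Over.comp_left, lift_fst]
      exact hw1
    have hz2 : (snd G G).left ((lift φ a).left w) ∈ U := by
      rw [← Scheme.Hom.comp_apply, ← Over.comp_left, lift_snd]
      exact hw2
    have hz : (lift φ a).left w ∈ V := by
      rw [hV]
      exact ⟨hz1, hz2⟩
    refine ⟨⟨(lift φ a).left w, hz⟩, ?_⟩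
    rw [Scheme.Hom.comp_apply]
    change μ[G].left ((lift φ a).left w) = g₀
    rw [← Scheme.Hom.comp_apply, ← Over.comp_left, ← Hom.mul_def, h4, hb, Over.comp_left,
      Scheme.Hom.comp_apply, hgT]
    exact htpt _
  haveI : Surjective (V.ι ≫ μ[G].left) := ⟨hsurj⟩
  haveI : Epi (V.ι ≫ μ[G].left) := Flat.epi_of_flat_of_surjective _
  -- the points of `U × U`
  obtain ⟨jU, hjU⟩ : ∃ jU : Over.mk (U.ι ≫ G.hom) ⟶ G, jU.left = U.ι := ⟨Over.homMk U.ι rfl, rfl⟩
  have hjfg : jU ≫ f = jU ≫ g := by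
    apply Over.OverMorphism.ext
    rw [Over.comp_left, Over.comp_left, hjU]
    exact h
  obtain ⟨jV, hjV⟩ : ∃ jV : Over.mk (V.ι ≫ (G ⊗ G).hom) ⟶ G ⊗ G, jV.left = V.ι :=
    ⟨Over.homMk V.ι rfl, rfl⟩
  have hfac : ∀ (p : G ⊗ G ⟶ G), V ≤ p.left ⁻¹ᵁ U →
      ∃ x' : Over.mk (V.ι ≫ (G ⊗ G).hom) ⟶ Over.mk (U.ι ≫ G.hom), x' ≫ jU = jV ≫ p := by
    intro p hp
    have hrange : Set.range (V.ι ≫ p.left) ⊆ Set.range U.ι := by
      rintro _ ⟨z, rfl⟩
      rw [Scheme.Opens.range_ι, Scheme.Hom.comp_apply]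
      exact hp z.2
    refine ⟨Over.homMk (IsOpenImmersion.lift U.ι (V.ι ≫ p.left) hrange) ?_, ?_⟩
    · simp only [Over.mk_left, Over.mk_hom]
      rw [← Category.assoc, IsOpenImmersion.lift_fac, Category.assoc, Over.w p]
    · apply Over.OverMorphism.ext
      rw [Over.comp_left, Over.comp_left, hjU, hjV]
      exact IsOpenImmersion.lift_fac _ _ _
  obtain ⟨x', hx'⟩ := hfac (fst G G) hV1
  obtain ⟨y', hy'⟩ := hfac (snd G G) hV2
  have hxf : (jV ≫ fst G G) ≫ f = (jV ≫ fst G G) ≫ g := by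
    rw [← hx', Category.assoc, Category.assoc, hjfg]
  have hyf : (jV ≫ snd G G) ≫ f = (jV ≫ snd G G) ≫ g := by
    rw [← hy', Category.assoc, Category.assoc, hjfg]
  have hmul : jV ≫ μ[G] = (jV ≫ fst G G) * (jV ≫ snd G G) := by
    rw [Hom.mul_def, ← comp_lift, lift_fst_snd, Category.comp_id]
  have hfin : (jV ≫ μ[G]) ≫ f = (jV ≫ μ[G]) ≫ g := by
    rw [hmul, MonObj.mul_comp _ _ f, MonObj.mul_comp _ _ g, hxf, hyf]
  apply Over.OverMorphism.ext
  have h5 := congrArg (fun k => k.left) hfin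
  simp only [Over.comp_left] at h5
  rw [hjV] at h5
  exact (cancel_epi (V.ι ≫ μ[G].left)).mp h5

end Groth.Agent.S5435
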