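import Groth.Statements.S5625
import Groth.Agent.Lib.Helper23QCohLocal
import Groth.Agent.Lib.Helper2PullbackSec
import Mathlib

set_option autoImplicit false
universe u
open CategoryTheory AlgebraicGeometry
open QCohCat

namespace Groth.Agent.S5625

/-- Let f : X ⟶ Y be a morphism of quasi-compact quasi-separated schemes and Q_X, Q_Y coherators (right
adjoints of the inclusions QCoh ⥤ Mod) on X and Y. Then Q_Y ∘ f_* and f_* ∘ Q_X agree: the two
composite functors Mod(O_X) ⥤ Mod(O_Y) are naturally isomorphic (existence of a natural isomorphism;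
the source's isomorphism is the canonical one between two right adjoints of the same functor). -/
theorem result {X Y : Scheme.{u}} [CompactSpace X] [QuasiSeparatedSpace X]
    [CompactSpace Y] [QuasiSeparatedSpace Y] (f : X ⟶ Y)
    (QX : X.Modules ⥤ QCohCat.QCoh X) (adjX : (QCohCat.isQCoh X).ι ⊣ QX)
    (QY : Y.Modules ⥤ QCohCat.QCoh Y) (adjY : (QCohCat.isQCoh Y).ι ⊣ QY) :
    Nonempty ((QX ⋙ (QCohCat.isQCoh X).ι ⋙ Scheme.Modules.pushforward f) ≅
      (Scheme.Modules.pushforward f ⋙ QY ⋙ (QCohCat.isQCoh Y).ι)) := by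
  have : QuasiCompact f := inferInstance
  have : QuasiSeparated f := inferInstance
  let PX := QCohCat.isQCoh X
  let PY := QCohCat.isQCoh Y
  let fpush : QCohCat.QCoh X ⥤ QCohCat.QCoh Y :=
    PY.lift (PX.ι ⋙ Scheme.Modules.pushforward f) (fun M => by
      have : M.obj.IsQuasicoherent := M.property
      exact Groth.Agent.Lib.Helper23.QCohLocal.isQuasicoherent_pushforward f M.obj)
  let fpull : QCohCat.QCoh Y ⥤ QCohCat.QCoh X :=
    PX.lift (PY.ι ⋙ Scheme.Modules.pullback f) (fun M => by
      have : M.obj.IsQuasicoherent := M.property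
      exact Groth.Agent.Lib.Helper2.PullbackSec.isQuasicoherent_pullback f M.obj)
  have adjq : fpull ⊣ fpush :=
    (Scheme.Modules.pullbackPushforwardAdjunction f).restrictFullyFaithful PY.fullyFaithfulι
      PX.fullyFaithfulι (Iso.refl _) (Iso.refl _)
  -- two adjunctions with isomorphic left adjoints
  have adjA : PY.ι ⋙ Scheme.Modules.pullback f ⊣ Scheme.Modules.pushforward f ⋙ QY :=
    adjY.comp (Scheme.Modules.pullbackPushforwardAdjunction f)
  have adjB : fpull ⋙ PX.ι ⊣ QX ⋙ fpush := adjq.comp adjX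
  have eL : fpull ⋙ PX.ι ≅ PY.ι ⋙ Scheme.Modules.pullback f := Iso.refl _
  have eR : QX ⋙ fpush ≅ Scheme.Modules.pushforward f ⋙ QY :=
    (adjB.ofNatIsoLeft eL).rightAdjointUniq adjA
  exact ⟨Functor.isoWhiskerRight eR PY.ι⟩

end Groth.Agent.S5625
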