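import Groth.Statements.S5669
import Groth.Agent.Lib.R2H3ExtStalkDual
import Groth.Agent.Lib.R2H3ExtShVanish
import Groth.Agent.Lib.R2H2QProjK0
import Groth.Agent.Lib.Helper23SecTw
import Groth.Agent.Lib.R2LeadKRR
import Groth.Agent.Lib.Helper18Epi1
set_option backward.isDefEq.respectTransparency.types false
set_option linter.style.haveILetI false

set_option autoImplicit false
universe u
open CategoryTheory AlgebraicGeometry
open ProjDual

namespace Groth.Agent.S5669

/-- Let `k` be an algebraically closed field, `P = P^r_k`, `F` a coherent `O_P`-module and `i + j = r`.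
Then `H^i(P, F(-m)) = 0` for all sufficiently large `m` if and only if `Ext^j_{O_{P,x}}(F_x,
O_{P,x}) = 0` for every point `x` of `P`. (The published criterion concerns a closed subset `X` of
`P` and a coherent sheaf on `X`, and is phrased as the vanishing of the sheaf `Ext^(r-i)_{O_P}(F,
ω_P)`; this row states it for every coherent `O_P`-module, with the condition read at the stalks.) -/
theorem result (k : Type u) [Field k] [IsAlgClosed k] (r : ℕ) (F : (CohB1.ProjSpace r k).Modules) (hF : Coh.IsCoh F) (i j : ℕ) (hij : i + j = r) : (∃ m₀ : ℤ, ∀ m : ℤ, m₀ ≤ m → Subsingleton (Coh.HH (CohB1.ProjSpace r k) (Twist.twistBy (CohB1.polyGrading r k) F (-m)) i)) ↔ ∀ x : (CohB1.ProjSpace r k), Subsingleton (Abelian.Ext (ModuleCat.of ((CohB1.ProjSpace r k).presheaf.stalk x) (F.presheaf.stalk x)) (ModuleCat.of ((CohB1.ProjSpace r k).presheaf.stalk x) ((CohB1.ProjSpace r k).presheaf.stalk x)) j) := by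
  haveI : IsNoetherian (CohB1.ProjSpace r k) :=
    Groth.Agent.Lib.R2H2.QProjK0.isNoetherian_projSpace r k
  letI : HasInjectiveResolutions (ModSite.Mod (CohB1.ProjSpace r k).sheaf) :=
    Groth.Agent.Lib.R2H3.RpushRestrict.hasInjectiveResolutions_modules (CohB1.ProjSpace r k)
  haveI : ModSite.HasSheafHom (O := (CohB1.ProjSpace r k).sheaf) F :=
    Groth.Agent.Lib.Helper21.ExtShDelta.hasSheafHom _ _
  haveI : EnoughInjectives (CohB1.ProjSpace r k).Modules :=
    Groth.Agent.S0485.result (Opens.grothendieckTopology (CohB1.ProjSpace r k))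
      (CohB1.ProjSpace r k).ringCatSheaf
  haveI : HasExt.{u} (CohB1.ProjSpace r k).Modules := hasExt_of_enoughInjectives.{u} _
  have hj : j ≤ r := by omega
  have h1 := Groth.Agent.Lib.R2H3.ExtShVanish.isZero_extSh_iff k r F hF j hj
  have hri : r - j = i := by omega
  rw [hri] at h1
  refine h1.symm.trans ?_
  have hω : FlatMod.IsFinLocFreeOfRank 1 (Twist.twistProjSpace r k (-((r : ℤ) + 1))) :=
    Groth.Agent.Lib.Helper23.SecTw.isFinLocFreeOfRank_one_of_isInvertible _
      (Groth.Agent.Lib.R2Lead.KRR.isInvertible_twistProjSpace r k _)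
  haveI : SheafOfModules.IsFinitePresentation (R := (CohB1.ProjSpace r k).ringCatSheaf)
      (Twist.twistProjSpace r k (-((r : ℤ) + 1))) :=
    Groth.Agent.Lib.Helper2.LocFree.isFP_of_isFinLocFree _
      (Groth.Agent.Lib.R2H4DegAdd.isFinLocFree_of_rank hω)
  haveI : (Twist.twistProjSpace r k (-((r : ℤ) + 1))).IsQuasicoherent := inferInstance
  -- stalks
  have key : ∀ x : (CohB1.ProjSpace r k),
      Subsingleton ((show (CohB1.ProjSpace r k).Modules from
        (ModSite.extSh (O := (CohB1.ProjSpace r k).sheaf) F j).obj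
          (Twist.twistProjSpace r k (-((r : ℤ) + 1)))).presheaf.stalk x) ↔
      Subsingleton (Abelian.Ext
        (ModuleCat.of ((CohB1.ProjSpace r k).presheaf.stalk x) (F.presheaf.stalk x))
        (ModuleCat.of ((CohB1.ProjSpace r k).presheaf.stalk x)
          ((CohB1.ProjSpace r k).presheaf.stalk x)) j) := by
    intro x
    obtain ⟨e⟩ := Groth.Agent.Lib.R2H3.ExtStalk.nonempty_stalk_extSh_linearEquiv F
      (Twist.twistProjSpace r k (-((r : ℤ) + 1))) hF x j
    obtain ⟨hfree, hfin, hrk⟩ := Groth.Agent.Lib.R2H4DegAdd.stalk_facts hω x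
    haveI := hfree
    haveI := hfin
    have eL : (Twist.twistProjSpace r k (-((r : ℤ) + 1))).presheaf.stalk x
        ≃ₗ[(CohB1.ProjSpace r k).presheaf.stalk x] (CohB1.ProjSpace r k).presheaf.stalk x :=
      LinearEquiv.ofFinrankEq _ _ (by rw [hrk, Module.finrank_self])
    let e2 := Groth.Agent.Lib.R2H3.ExtAffSec.extCongrRight ((CohB1.ProjSpace r k).presheaf.stalk x)
      (ModuleCat.of ((CohB1.ProjSpace r k).presheaf.stalk x) (F.presheaf.stalk x))
      eL.toModuleIso j
    exact (e.trans e2).toEquiv.subsingleton_congr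
  constructor
  · intro hz x
    rw [← key x]
    exact Groth.Agent.Helper18Epi.subsingleton_stalk_of_isZero hz x
  · intro h
    apply Groth.Agent.Helper18Epi.isZero_of_subsingleton_stalk
    intro x
    rw [key x]
    exact h x

end Groth.Agent.S5669
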