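import Groth.Statements.S5674
import Groth.Agent.Lib.R2H3SmPure
import Groth.Agent.Lib.R2H3PureDim
import Groth.Agent.Lib.R2H3ExtCodimVan
import Groth.Agent.Lib.R2H3ExtLocGlob
import Groth.Agent.Lib.Helper6SmRegSch
import Groth.Agent.S0020
set_option backward.isDefEq.respectTransparency.types false
set_option linter.style.haveILetI false

set_option autoImplicit false
universe u
open CategoryTheory CategoryTheory.Limits AlgebraicGeometry
open ProjDual

namespace Groth.Agent.S5674

/-- Let `k` be an algebraically closed field, `X` a nonsingular algebraic set of dimension `n` over `k`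
— here: a quasi-compact `k`-scheme smooth of relative dimension `n` over `k` — `F` a coherent
`O_X`-module whose support has dimension at most `n - p`, and `L` a finite locally free
`O_X`-module. Then the (global) groups `Ext^i_{O_X}(F, L)` vanish for `i < p`. (All components of
`X` have dimension `n`; for a nonsingular algebraic set with a component of smaller dimension the
conclusion fails. The Ext instance on the category of `O_X`-modules is taken as a hypothesis; it
holds since that category is Grothendieck abelian.) -/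
theorem result (k : Type u) [Field k] [IsAlgClosed k] (n : ℕ) (X : Scheme.{u}) [X.Over (Spec (CommRingCat.of k))] [SmoothOfRelativeDimension n (X ↘ Spec (CommRingCat.of k))] [CompactSpace X] [HasExt.{u} X.Modules] (F : X.Modules) (hF : Coh.IsCoh F) (L : X.Modules) (hL : FlatMod.IsFinLocFree L) (p : ℕ) (hsupp : topologicalKrullDim ↥(CohB1.support F) + p ≤ n) (i : ℕ) (hi : i < p) : Subsingleton (Abelian.Ext F L i) := by
  haveI : Smooth (X ↘ Spec (CommRingCat.of k)) :=
    SmoothOfRelativeDimension.smooth n (X ↘ Spec (CommRingCat.of k))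
  haveI : LocallyOfFiniteType (X ↘ Spec (CommRingCat.of k)) := inferInstance
  haveI : IsLocallyNoetherian X :=
    LocallyOfFiniteType.isLocallyNoetherian (X ↘ Spec (CommRingCat.of k))
  letI : HasInjectiveResolutions (ModSite.Mod X.sheaf) :=
    Groth.Agent.Lib.R2H3.RpushRestrict.hasInjectiveResolutions_modules X
  haveI : ModSite.HasSheafHom (O := X.sheaf) F :=
    Groth.Agent.Lib.Helper21.ExtShDelta.hasSheafHom _ _
  have hX := Groth.Agent.Lib.R2H3.SmPure.pure_of_smoothOfRelativeDimension k n X
  have hcl : IsClosed (CohB1.support F) := Groth.Agent.S0020.result X F hF.2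
  -- codimension of the points of the support
  have hdim : ∀ x ∈ CohB1.support F, (p : WithBot ℕ∞) ≤ ringKrullDim (X.presheaf.stalk x) := by
    intro x hx
    obtain ⟨b, hb, hbn⟩ := Groth.Agent.Lib.R2H3.PureDim.ringKrullDim_stalk_add_trdegNat k X n hX x
    have hsub : closure ({x} : Set X) ⊆ CohB1.support F :=
      hcl.closure_subset_iff.2 (Set.singleton_subset_iff.2 hx)
    have h1 : topologicalKrullDim ↥(closure ({x} : Set X)) ≤
        topologicalKrullDim ↥(CohB1.support F) :=
      (Topology.IsEmbedding.inclusion hsub).isInducing.topologicalKrullDim_le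
    rw [Groth.Agent.Lib.Helper4.VarDim.topologicalKrullDim_closure_singleton k X x] at h1
    have h2 : ((Groth.Agent.Lib.Helper4.VarDim.trdegNat k X x : ℕ) : WithBot ℕ∞) + (p : WithBot ℕ∞) ≤
        (n : WithBot ℕ∞) := (add_le_add_left h1 _).trans hsupp
    have h3 : Groth.Agent.Lib.Helper4.VarDim.trdegNat k X x + p ≤ n := by exact_mod_cast h2
    rw [hb]
    exact_mod_cast (by omega : p ≤ b)
  have hreg : ∀ x ∈ CohB1.support F, IsRegularLocalRing (X.presheaf.stalk x) := fun x _ =>
    Groth.Agent.Lib.Helper6.SmRegSch.isRegularLocalRing_stalk_of_smooth_over_field k X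
      (X ↘ Spec (CommRingCat.of k)) x
  have hz : ∀ b : ℕ, b < p → IsZero ((ModSite.extSh (O := X.sheaf) F b).obj L) := fun b hb =>
    Groth.Agent.Lib.R2H3.ExtCodimVan.isZero_extSh_of_codim F L hF hL p hreg hdim b hb
  have hH : ∀ (M : X.Modules), IsZero M → ∀ q : ℕ, Subsingleton (Coh.HH X M q) := by
    intro M hM q
    have hx : ∀ x : Coh.HH X M q, x = 0 := fun x => by
      rw [← Groth.Agent.Lib.R2H2.HHLin.HmapL_id M q x, hM.eq_of_src (𝟙 M) 0,
        Groth.Agent.Lib.R2H2.HHLin.HmapL_zero]
    exact ⟨fun x y => by rw [hx x, hx y]⟩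
  obtain ⟨e⟩ := Groth.Agent.Lib.R2H3.ExtLocGlob.main (A := k) F L i
    (fun b hb q => hH _ (hz b (hb.trans hi)) (q + 1))
  haveI := hH _ (hz i hi) 0
  exact e.toEquiv.subsingleton

end Groth.Agent.S5674
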