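import Groth.Statements.S5712
import Groth.Agent.Lib.Helper8EtH90Vanish

set_option autoImplicit false
universe u
open CategoryTheory AlgebraicGeometry
open Dix

namespace Groth.Agent.S5712

/-- Let X be a quasi-compact quasi-separated scheme and x a point of X, with i_x : Spec κ(x) → X. Then
H¹(X_et, i_{x*} G_m) = 0, and the canonical map H²(X_et, i_{x*} G_m) → H²(Spec κ(x)_et, G_m) is
injective. (The published statement is about the sheaf of invertible rational functions, which for X
reduced with finitely many irreducible components is the finite product of the sheaves i_{x*} G_m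
over the maximal points x; the argument is the present one at each point.) The second map is
EtLim.HofPush, whose exactness hypothesis on the inverse image is carried as an instance binder. -/
theorem result (X : Scheme.{u}) [CompactSpace X] [QuasiSeparatedSpace X] (x : X) [Limits.PreservesFiniteLimits (EtCoh.pull (X.fromSpecResidueField x))] : Subsingleton (EtCoh.H X ((Dix.skyPush X x).obj (EtCoh.Gm (Spec (X.residueField x)))) 1) ∧ Function.Injective (EtLim.HofPush (X.fromSpecResidueField x) (EtCoh.Gm (Spec (X.residueField x))) 2) := by
  constructor
  · have hinj := Groth.Agent.Lib.Helper8EtHofPushInj.HofPush_one_injective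
      (X.fromSpecResidueField x) (EtCoh.Gm (Spec (X.residueField x)))
    haveI : Subsingleton (EtCoh.H (Spec (X.residueField x))
        (EtCoh.Gm (Spec (X.residueField x))) 1) :=
      Groth.Agent.Lib.Helper8EtH90Vanish.subsingleton_H1_Gm (X.residueField x)
    exact hinj.subsingleton
  · apply Groth.Agent.Lib.Helper8EtHofPushInj.HofPush_two_injective
    apply Groth.Agent.Lib.Helper8EtH90Vanish.isZero_Rpush_one
    intro W _ y
    exact Groth.Agent.Lib.Helper8EtH90Vanish.ext_one_Zh_Gm_eq_zero (X.residueField x) _ y

end Groth.Agent.S5712
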