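import Groth.Statements.S5722
import Groth.Agent.Lib.R2H3VeryAmpleData

set_option autoImplicit false
universe u
open CategoryTheory CategoryTheory.Limits AlgebraicGeometry TopologicalSpace Opposite
open scoped HomogeneousIdeal
open EGA2

namespace Groth.Agent.S5722

/-- Let f : X → Y be a quasi-compact morphism, E a quasi-coherent O_Y-module, 𝒮 its graded symmetric
algebra, p : P → Y the projective bundle P(E) = Proj(𝒮) with its charts over affine opens, and
O_P(1) its fundamental sheaf, given with its chart identifications. If g : X → P is a Y-morphism (g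
≫ p = f) whose underlying map is a homeomorphism of X onto a subspace of P, then the inverse image
g^*O_P(1) is ample relative to f. -/
theorem result {X Y : Scheme.{u}} (f : X ⟶ Y) [QuasiCompact f]
    (E : Y.Modules) (hE : Coh.IsQCoh E) (𝒮 : RelProj.QCGrAlg Y) (j : E ⟶ 𝒮.toModule)
    (hj : RelProj.IsGrSymAlg E 𝒮 j) (P : Scheme.{u}) (p : P ⟶ Y)
    (chart : ∀ (U : Y.Opens) (hU : IsAffineOpen U), ((p ⁻¹ᵁ U : P.Opens) : Scheme.{u}) ≅ Proj (𝒮.deg U hU))
    (hP : RelProj.IsRelProj 𝒮 p chart) (O1 : P.Modules)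
    (lam : ∀ (U : Y.Opens) (hU : IsAffineOpen U),
      O1 ⟶ (Scheme.Modules.pushforward (RelProj.emb p chart U hU)).obj (GrTwist.twist (𝒮.deg U hU) 1))
    (hO1 : RelProj.IsRelTwist 𝒮 p chart 1 O1 lam)
    (g : X ⟶ P) (hg : g ≫ p = f) (hemb : Topology.IsEmbedding g.base) :
    RelAmple.IsRelAmple f ((Scheme.Modules.pullback g).obj O1) := by
  subst hg
  refine ⟨inferInstance, fun V => ?_⟩
  obtain ⟨Q, N, j', hj', hN, ⟨e⟩, hloc⟩ :=
    Groth.Agent.Lib.R2H3.VeryAmpleData.exists_chart_data' E hE 𝒮 j hj P p chart hP O1 lam hO1 g V.1 V.2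
  have hc : IsCompact (((g ≫ p) ⁻¹ᵁ V.1 : X.Opens) : Set X) :=
    QuasiCompact.isCompact_preimage (f := g ≫ p) _ V.1.isOpen V.2.isCompact
  have : CompactSpace ↥((g ⁻¹ᵁ (p ⁻¹ᵁ V.1) : X.Opens) : Scheme.{u}) := isCompact_iff_compactSpace.1 hc
  exact Groth.Agent.Lib.Helper23.AmpleIso.isAmple_of_iso e.symm
    (Groth.Agent.Lib.R2H3.VeryAmpleData.isAmple_pullback_of_locallyAmple j' (hj' hemb) N hN hloc)

end Groth.Agent.S5722
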