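import Groth.Statements.S5725
import Groth.Agent.Lib.R2H3VeryAmpleData
import Groth.Agent.Lib.Helper23CounitEpi
import Groth.Agent.Lib.Helper23SecTw10

set_option autoImplicit false
universe u
open CategoryTheory CategoryTheory.Limits AlgebraicGeometry TopologicalSpace Opposite
open scoped HomogeneousIdeal
open EGA2

namespace Groth.Agent.S5725

/-- Let q : X → Y be a quasi-compact morphism and L an invertible O_X-module. If L is very ample
relative to q (isomorphic to i^*O_{P(E)}(1) for a Y-immersion i : X → P(E) into the projective
bundle of a quasi-coherent O_Y-module E), then the canonical morphism q^*(q_*L) → L, the counit of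
the adjunction between inverse and direct image, is an epimorphism. (The published statement also
records that q_*L is quasi-coherent, which holds because q is then quasi-compact and separated, and
lists a further property, that the morphism into the projective bundle of q_*L attached to this
epimorphism is an immersion; with that property the converse holds. Those parts are not stated
here.) -/
theorem result {X Y : Scheme.{u}} (q : X ⟶ Y) [QuasiCompact q] (L : X.Modules)
    (hL : PicF.IsInvertible L) (h : RelProj.IsRelVeryAmple q L) :
    Epi ((Scheme.Modules.pullbackPushforwardAdjunction q).counit.app L) := by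
  refine Groth.Agent.Lib.Helper23.CounitEpi.epi_counit_of_isGloballyGenerated q L (fun x => ?_)
  obtain ⟨V, hV, hxV, -⟩ := TopologicalSpace.Opens.isBasis_iff_nbhd.1 Y.isBasis_affineOpens
    (show q x ∈ (⊤ : Y.Opens) from trivial)
  refine ⟨V, hxV, ?_⟩
  obtain ⟨Q, N, j, hj, hN, ⟨e⟩, hloc⟩ :=
    Groth.Agent.Lib.R2H3.VeryAmpleData.exists_chart_data q L h V hV
  have hgg : Curv2.IsGloballyGenerated ((Scheme.Modules.pullback j).obj N) := by
    refine Groth.Agent.Lib.Helper23.SecTw.isGloballyGenerated_of_forall_mem_genLocus _ (fun z => ?_)
    obtain ⟨σ, hzσ, -⟩ := hloc (j z)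
    refine ⟨(Groth.Agent.Lib.Helper23.PB.pullbackUnitIso j).symm.hom ≫ (Scheme.Modules.pullback j).map σ, ?_⟩
    rw [Groth.Agent.Lib.Helper23.PB.genLocus_pullback j N hN σ (Groth.Agent.Lib.Helper23.PB.pullbackUnitIso j).symm]
    exact hzσ
  obtain ⟨I, π, hπ⟩ := hgg
  exact ⟨I, π ≫ e.inv, @epi_comp ((q ⁻¹ᵁ V : X.Opens) : Scheme.{u}).Modules _ _ _ _ π hπ e.inv inferInstance⟩

end Groth.Agent.S5725
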