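import Groth.Statements.S5749
import Groth.Agent.Lib.R2H2ClosedPn
import Groth.Agent.Lib.R2H2PnSerre

set_option autoImplicit false
universe u
open Coherent

namespace Groth.Agent.S5749

open AlgebraicGeometry CategoryTheory in
/-- Let A be an Artinian local ring, i : X → P^r_A a closed immersion compatible with the structure
morphisms to Spec A (X projective over A with the very ample module i^* O(1)), F a coherent
O_X-module and F(n) = F ⊗ i^* O(n). Then for all sufficiently large n the Euler characteristic
χ_A(F(n)) = Σ_{j ≤ r} (-1)^j length_A H^j(X, F(n)) equals the length of H^0(X, F(n)), the A-module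
of global sections of F(n). -/
theorem result (A : Type u) [CommRing A]
    [IsArtinianRing A] [IsLocalRing A] (r : ℕ) (X : Scheme.{u}) [X.Over (Spec (CommRingCat.of A))]
    (i : X ⟶ CohB1.ProjSpace r A) [IsClosedImmersion i]
    (hi : i ≫ CohB1.ProjSpace.toSpec r A = X ↘ Spec (CommRingCat.of A)) (F : X.Modules) (hF : Coh.IsCoh F) :
    ∃ N : ℤ, ∀ n : ℤ, N ≤ n →
      ((Finset.range (r + 1)).sum fun j => (-1 : ℤ) ^ j *
        ((Module.length A (Coh.HH X (CohB1.tensorMod F
          ((Scheme.Modules.pullback i).obj (Twist.twistProjSpace r A n))) j)).toNat : ℤ)) =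
      ((Module.length A (Coh.HH X (CohB1.tensorMod F
          ((Scheme.Modules.pullback i).obj (Twist.twistProjSpace r A n))) 0)).toNat : ℤ) := by
  classical
  haveI : IsNoetherianRing A := inferInstance
  have hG : Coh.IsCoh ((Scheme.Modules.pushforward i).obj F) :=
    Groth.Agent.Lib.R2H2.ClosedPn.isCoh_push i F hF
  obtain ⟨d₀, hd₀⟩ := Groth.Agent.Lib.R2H2.PnSerre.serre_vanishing_all r A _ hG
  refine ⟨d₀, fun n hn => ?_⟩
  have hv : ∀ j : ℕ, 0 < j → Subsingleton (Coh.HH X (CohB1.tensorMod F
      ((Scheme.Modules.pullback i).obj (Twist.twistProjSpace r A n))) j) := fun j hj =>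
    (Groth.Agent.Lib.R2H2.ClosedPn.subsingleton_HH_twistOn_iff r A i F hF.1 n j).2
      (hd₀ n hn j hj)
  rw [Finset.sum_eq_single 0]
  · simp
  · intro j _ hj
    haveI := hv j (Nat.pos_of_ne_zero hj)
    rw [Module.length_eq_zero]
    simp
  · intro h
    exact absurd (Finset.mem_range.2 (Nat.succ_pos r)) h

end Groth.Agent.S5749
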