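import Groth.Statements.S5750
import Groth.Agent.Lib.R2H2ClosedPn
import Groth.Agent.Lib.R2H2PnSerre

set_option autoImplicit false
universe u
open Coherent

namespace Groth.Agent.S5750

open AlgebraicGeometry CategoryTheory in
/-- Let A be an Artinian local ring, i : X → P^r_A a closed immersion compatible with the structure
morphisms to Spec A, F a coherent O_X-module and F(n) = F ⊗ i^* O(n). If a polynomial P over ℚ
satisfies P(n) = χ_A(F(n)) = Σ_{j ≤ r} (-1)^j length_A H^j(X, F(n)) for every integer n (the Hilbert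
polynomial of F), then the leading coefficient of P is non-negative. -/
theorem result (A : Type u) [CommRing A]
    [IsArtinianRing A] [IsLocalRing A] (r : ℕ) (X : Scheme.{u}) [X.Over (Spec (CommRingCat.of A))]
    (i : X ⟶ CohB1.ProjSpace r A) [IsClosedImmersion i]
    (hi : i ≫ CohB1.ProjSpace.toSpec r A = X ↘ Spec (CommRingCat.of A)) (F : X.Modules) (hF : Coh.IsCoh F)
    (P : Polynomial ℚ)
    (hP : ∀ n : ℤ, ((Finset.range (r + 1)).sum fun j => (-1 : ℚ) ^ j *
        ((Module.length A (Coh.HH X (CohB1.tensorMod F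
          ((Scheme.Modules.pullback i).obj (Twist.twistProjSpace r A n))) j)).toNat : ℚ)) = P.eval (n : ℚ)) :
    0 ≤ P.leadingCoeff := by
  classical
  haveI : IsNoetherianRing A := inferInstance
  have hG : Coh.IsCoh ((Scheme.Modules.pushforward i).obj F) :=
    Groth.Agent.Lib.R2H2.ClosedPn.isCoh_push i F hF
  obtain ⟨d₀, hd₀⟩ := Groth.Agent.Lib.R2H2.PnSerre.serre_vanishing_all r A _ hG
  have hpos : ∀ n : ℤ, d₀ ≤ n → 0 ≤ P.eval (n : ℚ) := by
    intro n hn
    have hv : ∀ j : ℕ, 0 < j → Subsingleton (Coh.HH X (CohB1.tensorMod F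
        ((Scheme.Modules.pullback i).obj (Twist.twistProjSpace r A n))) j) := fun j hj =>
      (Groth.Agent.Lib.R2H2.ClosedPn.subsingleton_HH_twistOn_iff r A i F hF.1 n j).2
        (hd₀ n hn j hj)
    rw [← hP n, Finset.sum_eq_single 0]
    · simp
    · intro j _ hj
      haveI := hv j (Nat.pos_of_ne_zero hj)
      rw [Module.length_eq_zero]
      simp
    · intro h
      exact absurd (Finset.mem_range.2 (Nat.succ_pos r)) h
  by_contra hneg
  push Not at hneg
  have hdeg : 0 < P.degree := by
    by_contra hd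
    push Not at hd
    have hc := Polynomial.eq_C_of_degree_le_zero hd
    have h1 := hpos d₀ le_rfl
    rw [hc, Polynomial.eval_C] at h1
    rw [hc, Polynomial.leadingCoeff_C] at hneg
    exact absurd h1 (not_le.2 hneg)
  have ht := Polynomial.tendsto_atBot_of_leadingCoeff_nonpos P hdeg hneg.le
  have ht2 : Filter.Tendsto (fun n : ℤ => P.eval (n : ℚ)) Filter.atTop Filter.atBot :=
    ht.comp tendsto_intCast_atTop_atTop
  have h3 := (ht2.eventually (Filter.eventually_lt_atBot (0 : ℚ))).and
    (Filter.eventually_ge_atTop d₀)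
  obtain ⟨n, hn1, hn2⟩ := h3.exists
  exact absurd (hpos n hn2) (not_le.2 hn1)

end Groth.Agent.S5750
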