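import Groth.Statements.S5832
import Mathlib.Tactic.LinearCombination
import Mathlib.Tactic.Abel
import Mathlib.Tactic.Ring
-- import your own Groth.Agent.* helpers here

set_option autoImplicit false
universe u u' v
open EGA41

namespace Groth.Agent.S5832

attribute [local instance] Exal.opModule Exal.isCentralScalar_opModule

section Aux

variable {A : Type u'} {B L : Type v} [CommRing A] [CommRing B] [Algebra A B] [AddCommGroup L]
  [Module B L]

lemma proj_incl (X : Exal.Ext A B L) (m : L) : X.proj (X.incl m) = 0 :=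
  (X.isExtension.exact _).2 ⟨m, rfl⟩

lemma incl_mul_incl (X : Exal.Ext A B L) (m m' : L) : X.incl m * X.incl m' = 0 := by
  rw [X.isExtension.mul_incl, proj_incl, zero_smul, map_zero]

/-- The ring map `B ⊕ L → E`, `(b, z) ↦ σ b + i z`, attached to a ring-theoretic section `σ`. -/
noncomputable def psi (Y : Exal.Ext A B L) (σ : B →+* Y.E) (hσ : ∀ b, Y.proj (σ b) = b) :
    TrivSqZeroExt B L →+* Y.E where
  toFun t := σ t.fst + Y.incl t.snd
  map_one' := by
    rw [TrivSqZeroExt.fst_one, TrivSqZeroExt.snd_one, map_one, map_zero, add_zero]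
  map_mul' x y := by
    rw [TrivSqZeroExt.fst_mul, TrivSqZeroExt.snd_mul, map_mul, map_add, op_smul_eq_smul]
    have h1 : Y.incl (x.fst • y.snd) = σ x.fst * Y.incl y.snd := by
      rw [Y.isExtension.mul_incl, hσ]
    have h2 : Y.incl (y.fst • x.snd) = σ y.fst * Y.incl x.snd := by
      rw [Y.isExtension.mul_incl, hσ]
    have h3 := incl_mul_incl Y x.snd y.snd
    rw [h1, h2]
    linear_combination (-1 : Y.E) * h3
  map_zero' := by
    rw [TrivSqZeroExt.fst_zero, TrivSqZeroExt.snd_zero, map_zero, map_zero, add_zero]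
  map_add' x y := by
    rw [TrivSqZeroExt.fst_add, TrivSqZeroExt.snd_add, map_add, map_add]
    abel

lemma psi_apply (Y : Exal.Ext A B L) (σ : B →+* Y.E) (hσ : ∀ b, Y.proj (σ b) = b)
    (t : TrivSqZeroExt B L) : psi Y σ hσ t = σ t.fst + Y.incl t.snd := rfl

lemma proj_psi (Y : Exal.Ext A B L) (σ : B →+* Y.E) (hσ : ∀ b, Y.proj (σ b) = b)
    (t : TrivSqZeroExt B L) : Y.proj (psi Y σ hσ t) = t.fst := by
  rw [psi_apply, map_add, hσ, proj_incl, add_zero]

lemma psi_bijective (Y : Exal.Ext A B L) (σ : B →+* Y.E) (hσ : ∀ b, Y.proj (σ b) = b) :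
    Function.Bijective (psi Y σ hσ) := by
  constructor
  · rw [injective_iff_map_eq_zero]
    intro t ht
    have h1 : t.fst = 0 := by
      rw [← proj_psi Y σ hσ t, ht, map_zero]
    have h2 : Y.incl t.snd = 0 := by
      have h := psi_apply Y σ hσ t
      rw [ht, h1, map_zero, zero_add] at h
      exact h.symm
    have h3 : t.snd = 0 := Y.isExtension.incl_injective (by rw [h2, map_zero])
    exact TrivSqZeroExt.ext h1 h3
  · intro y
    have h : Y.proj (y - σ (Y.proj y)) = 0 := by rw [map_sub, hσ, sub_self]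
    obtain ⟨z, hz⟩ := (Y.isExtension.exact _).1 h
    refine ⟨TrivSqZeroExt.inl (Y.proj y) + TrivSqZeroExt.inr z, ?_⟩
    rw [psi_apply, TrivSqZeroExt.fst_add, TrivSqZeroExt.snd_add, TrivSqZeroExt.fst_inl,
      TrivSqZeroExt.fst_inr, TrivSqZeroExt.snd_inl, TrivSqZeroExt.snd_inr, add_zero, zero_add, hz]
    ring

end Aux

section BaseChange

variable {B C L : Type v} [CommRing B] [CommRing C] [Algebra B C] [AddCommGroup L]
  [Module C L] [Module B L] [IsScalarTower B C L]

/-- The ring map `B ⊕ L → C ⊕ L`, `(b, z) ↦ (b, z)`. -/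
noncomputable def bc : TrivSqZeroExt B L →+* TrivSqZeroExt C L where
  toFun t := TrivSqZeroExt.inl (algebraMap B C t.fst) + TrivSqZeroExt.inr t.snd
  map_one' := by
    rw [TrivSqZeroExt.fst_one, TrivSqZeroExt.snd_one, map_one, TrivSqZeroExt.inr_zero, add_zero,
      TrivSqZeroExt.inl_one]
  map_mul' x y := by
    apply TrivSqZeroExt.ext
    · simp
    · simp only [TrivSqZeroExt.snd_add, TrivSqZeroExt.snd_inl, TrivSqZeroExt.snd_inr, zero_add,
        TrivSqZeroExt.snd_mul, TrivSqZeroExt.fst_add, TrivSqZeroExt.fst_inl, TrivSqZeroExt.fst_inr,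
        add_zero, op_smul_eq_smul]
      rw [algebraMap_smul, algebraMap_smul]
  map_zero' := by
    rw [TrivSqZeroExt.fst_zero, TrivSqZeroExt.snd_zero, map_zero, TrivSqZeroExt.inr_zero, add_zero,
      TrivSqZeroExt.inl_zero]
  map_add' x y := by
    rw [TrivSqZeroExt.fst_add, TrivSqZeroExt.snd_add, map_add, TrivSqZeroExt.inl_add,
      TrivSqZeroExt.inr_add]
    abel

lemma fst_bc (t : TrivSqZeroExt B L) : (bc (C := C) t).fst = algebraMap B C t.fst := by
  change (TrivSqZeroExt.inl (algebraMap B C t.fst) + TrivSqZeroExt.inr t.snd :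
    TrivSqZeroExt C L).fst = _
  rw [TrivSqZeroExt.fst_add, TrivSqZeroExt.fst_inl, TrivSqZeroExt.fst_inr, add_zero]

lemma snd_bc (t : TrivSqZeroExt B L) : (bc (C := C) t).snd = t.snd := by
  change (TrivSqZeroExt.inl (algebraMap B C t.fst) + TrivSqZeroExt.inr t.snd :
    TrivSqZeroExt C L).snd = _
  rw [TrivSqZeroExt.snd_add, TrivSqZeroExt.snd_inl, TrivSqZeroExt.snd_inr, zero_add]

end BaseChange

section ExtOfHom

variable {A : Type u'} {C L : Type v} [CommRing A] [CommRing C] [Algebra A C] [AddCommGroup L]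
  [Module C L]

/-- The `A`-extension of `C` by `L` on `C ⊕ L`, made an `A`-algebra through a ring map
`g : A → C ⊕ L` lifting the structure map of `C`. -/
noncomputable def extOfHom (g : A →+* TrivSqZeroExt C L) (hg : ∀ a, (g a).fst = algebraMap A C a) :
    Exal.Ext A C L :=
  letI : Algebra A (TrivSqZeroExt C L) := g.toAlgebra
  { E := TrivSqZeroExt C L
    proj :=
      { toFun := fun x => TrivSqZeroExt.fst x
        map_one' := TrivSqZeroExt.fst_one
        map_mul' := TrivSqZeroExt.fst_mul
        map_zero' := TrivSqZeroExt.fst_zero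
        map_add' := TrivSqZeroExt.fst_add
        commutes' := hg }
    incl := (TrivSqZeroExt.inrHom C L).toAddMonoidHom
    isExtension :=
      { proj_surjective := fun c => ⟨TrivSqZeroExt.inl c, rfl⟩
        incl_injective := TrivSqZeroExt.inr_injective
        exact := fun x => by
          constructor
          · intro hx
            exact ⟨TrivSqZeroExt.snd x, TrivSqZeroExt.ext hx.symm rfl⟩
          · rintro ⟨z, rfl⟩
            rfl
        mul_incl := fun x z => by
          refine TrivSqZeroExt.ext ?_ ?_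
          · change TrivSqZeroExt.fst x * 0 = 0
            exact mul_zero _
          · change TrivSqZeroExt.fst x • z + MulOpposite.op (0 : C) • TrivSqZeroExt.snd x =
              TrivSqZeroExt.fst x • z
            rw [MulOpposite.op_zero, zero_smul, add_zero] } }

end ExtOfHom

section Theta

variable {A : Type u'} {B C L : Type v} [CommRing A] [CommRing B] [CommRing C] [Algebra A B]
  [Algebra B C] [Algebra A C] [IsScalarTower A B C] [AddCommGroup L] [Module C L] [Module B L]
  [IsScalarTower B C L]
variable (g : A →+* TrivSqZeroExt C L) (hg : ∀ a, (g a).fst = algebraMap A C a)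

/-- First component of an element of the fibre product. -/
def pfst (p : ((extOfHom g hg).pullback B).E) : TrivSqZeroExt C L := p.1.1

/-- Second component of an element of the fibre product. -/
def psnd (p : ((extOfHom g hg).pullback B).E) : B := p.1.2

lemma pfst_one : pfst g hg (1 : ((extOfHom g hg).pullback B).E) = 1 := rfl
lemma pfst_zero : pfst g hg (0 : ((extOfHom g hg).pullback B).E) = 0 := rfl
lemma pfst_mul (p q : ((extOfHom g hg).pullback B).E) :
    pfst g hg (p * q) = pfst g hg p * pfst g hg q := rfl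
lemma pfst_add (p q : ((extOfHom g hg).pullback B).E) :
    pfst g hg (p + q) = pfst g hg p + pfst g hg q := rfl
lemma psnd_one : psnd g hg (1 : ((extOfHom g hg).pullback B).E) = 1 := rfl
lemma psnd_zero : psnd g hg (0 : ((extOfHom g hg).pullback B).E) = 0 := rfl
lemma psnd_mul (p q : ((extOfHom g hg).pullback B).E) :
    psnd g hg (p * q) = psnd g hg p * psnd g hg q := rfl
lemma psnd_add (p q : ((extOfHom g hg).pullback B).E) :
    psnd g hg (p + q) = psnd g hg p + psnd g hg q := rfl
lemma fst_pfst (p : ((extOfHom g hg).pullback B).E) :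
    (pfst g hg p).fst = algebraMap B C (psnd g hg p) := p.2
lemma pfst_algebraMap (a : A) :
    pfst g hg (algebraMap A ((extOfHom g hg).pullback B).E a) = g a := rfl
lemma psnd_algebraMap (a : A) :
    psnd g hg (algebraMap A ((extOfHom g hg).pullback B).E a) = algebraMap A B a := rfl
lemma pfst_incl (z : L) :
    pfst g hg (((extOfHom g hg).pullback B).incl z) = TrivSqZeroExt.inr z := rfl
lemma psnd_incl (z : L) :
    psnd g hg (((extOfHom g hg).pullback B).incl z) = 0 := rfl
lemma proj_eq (p : ((extOfHom g hg).pullback B).E) :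
    ((extOfHom g hg).pullback B).proj p = psnd g hg p := rfl
lemma p_ext {p q : ((extOfHom g hg).pullback B).E} (h1 : pfst g hg p = pfst g hg q)
    (h2 : psnd g hg p = psnd g hg q) : p = q := Subtype.ext (Prod.ext h1 h2)

/-- Constructor for elements of the fibre product. -/
def mkp (x : TrivSqZeroExt C L) (b : B) (h : x.fst = algebraMap B C b) :
    ((extOfHom g hg).pullback B).E := ⟨(x, b), h⟩

lemma pfst_mkp (x : TrivSqZeroExt C L) (b : B) (h : x.fst = algebraMap B C b) :
    pfst g hg (mkp g hg x b h) = x := rfl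
lemma psnd_mkp (x : TrivSqZeroExt C L) (b : B) (h : x.fst = algebraMap B C b) :
    psnd g hg (mkp g hg x b h) = b := rfl

/-- The ring map from the fibre product `(C ⊕ L) ×_C B` to `B ⊕ L`. -/
noncomputable def theta : ((extOfHom g hg).pullback B).E →+* TrivSqZeroExt B L where
  toFun p := TrivSqZeroExt.inl (psnd g hg p) + TrivSqZeroExt.inr (pfst g hg p).snd
  map_one' := by
    rw [pfst_one, psnd_one, TrivSqZeroExt.snd_one, TrivSqZeroExt.inr_zero, add_zero,
      TrivSqZeroExt.inl_one]
  map_mul' p q := by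
    rw [pfst_mul, psnd_mul]
    apply TrivSqZeroExt.ext
    · simp
    · simp only [TrivSqZeroExt.snd_add, TrivSqZeroExt.snd_inl, TrivSqZeroExt.snd_inr, zero_add,
        TrivSqZeroExt.snd_mul, TrivSqZeroExt.fst_add, TrivSqZeroExt.fst_inl, TrivSqZeroExt.fst_inr,
        add_zero, op_smul_eq_smul]
      rw [fst_pfst g hg p, fst_pfst g hg q, algebraMap_smul, algebraMap_smul]
  map_zero' := by
    rw [pfst_zero, psnd_zero, TrivSqZeroExt.snd_zero, TrivSqZeroExt.inr_zero, add_zero,
      TrivSqZeroExt.inl_zero]
  map_add' p q := by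
    rw [pfst_add, psnd_add, TrivSqZeroExt.snd_add, TrivSqZeroExt.inl_add, TrivSqZeroExt.inr_add]
    abel

lemma theta_apply (p : ((extOfHom g hg).pullback B).E) :
    theta g hg p = TrivSqZeroExt.inl (psnd g hg p) + TrivSqZeroExt.inr (pfst g hg p).snd :=
  rfl

lemma fst_theta (p : ((extOfHom g hg).pullback B).E) : (theta g hg p).fst = psnd g hg p := by
  rw [theta_apply, TrivSqZeroExt.fst_add, TrivSqZeroExt.fst_inl, TrivSqZeroExt.fst_inr, add_zero]

lemma snd_theta (p : ((extOfHom g hg).pullback B).E) :
    (theta g hg p).snd = (pfst g hg p).snd := by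
  rw [theta_apply, TrivSqZeroExt.snd_add, TrivSqZeroExt.snd_inl, TrivSqZeroExt.snd_inr, zero_add]

lemma theta_bijective : Function.Bijective (theta (B := B) g hg) := by
  constructor
  · rw [injective_iff_map_eq_zero]
    intro p hp
    have h1 : psnd g hg p = 0 := by
      rw [← fst_theta, hp, TrivSqZeroExt.fst_zero]
    have h2 : (pfst g hg p).snd = 0 := by
      rw [← snd_theta, hp, TrivSqZeroExt.snd_zero]
    have h3 : (pfst g hg p).fst = 0 := by
      rw [fst_pfst g hg p, h1, map_zero]
    apply p_ext g hg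
    · rw [pfst_zero]
      exact TrivSqZeroExt.ext h3 h2
    · rw [psnd_zero]
      exact h1
  · intro t
    refine ⟨mkp g hg (bc (C := C) t) t.fst (fst_bc t), ?_⟩
    rw [theta_apply, pfst_mkp, psnd_mkp, snd_bc, TrivSqZeroExt.inl_fst_add_inr_snd_eq]

end Theta

/-- Surjectivity at the end of the sequence. For ring maps Λ → A → B → C and a C-module L, every
Λ-trivial A-extension of B by L is equivalent to the inverse image along B → C of a Λ-trivial
A-extension of C by L. (Exactness at the other places is that of the six-term derivation-extension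
sequence restricted to Λ-trivial classes.) -/
theorem result {Λ : Type u} {A : Type u'} {B C L : Type v}
    [CommRing Λ] [CommRing A] [CommRing B] [CommRing C] [Algebra Λ A] [Algebra Λ B] [Algebra Λ C]
    [Algebra A B] [Algebra B C] [Algebra A C] [IsScalarTower Λ A B] [IsScalarTower Λ A C] [IsScalarTower A B C]
    [AddCommGroup L] [Module C L] [Module B L] [IsScalarTower B C L]
    (Y : Exal.Ext A B L) (hY : Y.IsTrivialOver Λ) :
    ∃ X : Exal.Ext A C L, X.IsTrivialOver Λ ∧ Nonempty ((X.pullback B).Equiv Y) := by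
  obtain ⟨s, hs⟩ := hY
  let σ : B →+* Y.E :=
    { toFun := fun b => s b
      map_one' := map_one s
      map_mul' := map_mul s
      map_zero' := map_zero s
      map_add' := map_add s }
  have hσ : ∀ b, Y.proj (σ b) = b := hs
  have hσΛ : ∀ l : Λ, σ (algebraMap Λ B l) = algebraMap A Y.E (algebraMap Λ A l) :=
    fun l => s.commutes l
  let ψ : TrivSqZeroExt B L ≃+* Y.E := RingEquiv.ofBijective (psi Y σ hσ) (psi_bijective Y σ hσ)
  have hψ : ∀ t, ψ t = σ t.fst + Y.incl t.snd := fun t => rfl
  have hfst : ∀ y, (ψ.symm y).fst = Y.proj y := by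
    intro y
    obtain ⟨t, rfl⟩ := ψ.surjective y
    rw [RingEquiv.symm_apply_apply]
    exact (proj_psi Y σ hσ t).symm
  let g : A →+* TrivSqZeroExt C L :=
    (bc (C := C)).comp ((ψ.symm : Y.E →+* TrivSqZeroExt B L).comp (algebraMap A Y.E))
  have hg_apply : ∀ a, g a = bc (ψ.symm (algebraMap A Y.E a)) := fun a => rfl
  have hg : ∀ a, (g a).fst = algebraMap A C a := by
    intro a
    rw [hg_apply, fst_bc, hfst, AlgHom.commutes, ← IsScalarTower.algebraMap_apply]
  refine ⟨extOfHom g hg, ?_, ⟨?_⟩⟩
  · refine ⟨{ toFun := fun c => (TrivSqZeroExt.inl c : TrivSqZeroExt C L)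
              map_one' := TrivSqZeroExt.inl_one L
              map_mul' := TrivSqZeroExt.inl_mul L
              map_zero' := TrivSqZeroExt.inl_zero L
              map_add' := TrivSqZeroExt.inl_add L
              commutes' := fun l => ?_ }, fun c => rfl⟩
    change (TrivSqZeroExt.inl (algebraMap Λ C l) : TrivSqZeroExt C L) = g (algebraMap Λ A l)
    rw [hg_apply, ← hσΛ]
    have h1 : ψ.symm (σ (algebraMap Λ B l)) = TrivSqZeroExt.inl (algebraMap Λ B l) := by
      rw [RingEquiv.symm_apply_eq, hψ, TrivSqZeroExt.fst_inl, TrivSqZeroExt.snd_inl, map_zero,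
        add_zero]
    rw [h1]
    apply TrivSqZeroExt.ext
    · rw [fst_bc, TrivSqZeroExt.fst_inl, TrivSqZeroExt.fst_inl,
        IsScalarTower.algebraMap_apply Λ A B, ← IsScalarTower.algebraMap_apply A B C,
        ← IsScalarTower.algebraMap_apply Λ A C]
    · rw [snd_bc, TrivSqZeroExt.snd_inl, TrivSqZeroExt.snd_inl]
  · let f0 : ((extOfHom g hg).pullback B).E →+* Y.E :=
      (ψ : TrivSqZeroExt B L →+* Y.E).comp (theta g hg)
    have hf0 : ∀ p, f0 p = ψ (theta g hg p) := fun p => rfl
    have hbij : Function.Bijective f0 := ψ.bijective.comp (theta_bijective g hg)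
    let f : ((extOfHom g hg).pullback B).E →ₐ[A] Y.E :=
      { toFun := fun p => f0 p
        map_one' := map_one f0
        map_mul' := map_mul f0
        map_zero' := map_zero f0
        map_add' := map_add f0
        commutes' := fun a => by
          rw [hf0, theta_apply, pfst_algebraMap, psnd_algebraMap, hg_apply, snd_bc,
            ← Y.proj.commutes a, ← hfst, TrivSqZeroExt.inl_fst_add_inr_snd_eq,
            RingEquiv.apply_symm_apply] }
    refine ⟨AlgEquiv.ofBijective f hbij, fun p => ?_, fun z => ?_⟩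
    · change Y.proj (ψ (theta g hg p)) = _
      rw [← hfst, RingEquiv.symm_apply_apply, fst_theta, proj_eq]
    · change ψ (theta g hg _) = Y.incl z
      rw [hψ, fst_theta, snd_theta, pfst_incl, psnd_incl, map_zero, TrivSqZeroExt.snd_inr, zero_add]

end Groth.Agent.S5832
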