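import Groth.Statements.S5930
import Groth.Agent.Lib.R2H3FibrePd

set_option linter.style.haveILetI false
set_option linter.unusedVariables false

set_option autoImplicit false
universe u
open TensorProduct CategoryTheory
open EGA43

namespace Groth.Agent.S5930

/-- Let A be a commutative ring, B a finitely presented A-algebra which is flat as an A-module, and M a
finitely presented B-module which is flat as an A-module. Then the projective dimension of M as a
B-module equals the supremum, over the prime ideals p of A with residue fields κ(p), of the
projective dimensions of the modules (B ⊗_A κ(p)) ⊗_B M over the rings B ⊗_A κ(p). (Projective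
dimensions are taken in the respective module categories, with values in WithBot ℕ∞ and the zero
module of dimension ⊥. The published formula also equates these with the Tor-dimension of M over B;
that equality is not stated here.) -/
theorem result (A B M : Type u) [CommRing A] [CommRing B] [Algebra A B]
    [Algebra.FinitePresentation A B] [Module.Flat A B] [AddCommGroup M] [Module B M] [Module A M]
    [IsScalarTower A B M] [Module.FinitePresentation B M] [Module.Flat A M] :
    projectiveDimension (ModuleCat.of B M) =
      ⨆ p : PrimeSpectrum A, projectiveDimension
        (ModuleCat.of (B ⊗[A] p.asIdeal.ResidueField) ((B ⊗[A] p.asIdeal.ResidueField) ⊗[B] M)) := by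
  have key : ∀ a b : WithBot ℕ∞, (∀ n : ℕ, b < n → a < n) → a ≤ b := by
    intro a b h
    induction b using WithBot.recBotCoe with
    | bot =>
      have h0 := h 0 (WithBot.bot_lt_coe _)
      have : a = ⊥ := by
        rw [← WithBot.lt_coe_bot]
        simpa using h0
      rw [this]
    | coe b =>
      induction b using ENat.recTopCoe with
      | top => exact le_top
      | coe m =>
        have h1 := h (m + 1) (by exact_mod_cast Nat.lt_succ_self m)
        have h2 : a < ((m : ℕ) : WithBot ℕ∞) + 1 := by exact_mod_cast h1
        exact ENat.WithBot.lt_add_one_iff.1 h2
  apply le_antisymm
  · apply key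
    intro n hn
    rw [projectiveDimension_lt_iff]
    apply Groth.Agent.Lib.R2H3.FibrePd.pdLT_of_fibres A B n M
    intro p
    rw [← projectiveDimension_lt_iff]
    exact lt_of_le_of_lt (le_iSup (fun p : PrimeSpectrum A => projectiveDimension
        (ModuleCat.of (B ⊗[A] p.asIdeal.ResidueField)
          ((B ⊗[A] p.asIdeal.ResidueField) ⊗[B] M))) p) hn
  · apply iSup_le
    intro p
    apply key
    intro n hn
    rw [projectiveDimension_lt_iff] at hn ⊢
    exact Groth.Agent.Lib.R2H3.FibrePd.pdLT_baseChange A B _ n M hn

end Groth.Agent.S5930
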