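import Groth.Statements.S5936
import Groth.Agent.Lib.R2H3FlatSyz

set_option linter.style.haveILetI false
set_option linter.unusedVariables false

set_option autoImplicit false
universe u
open TensorProduct CategoryTheory
open EGA43

namespace Groth.Agent.S5936

/-- Let A be a commutative ring, B a finitely presented A-algebra which is flat as an A-module, and M a
finitely presented B-module which is flat as an A-module. Then the projective dimension of M as a
B-module equals its Tor-dimension, the least n such that Tor_i^B(M, N) = 0 for every i > n and every
B-module N. (Both sides are valued in WithBot ℕ∞, with the zero module of dimension ⊥; Tor_i^B(M, −)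
is the i-th left derived functor of M ⊗_B −. In general only Tor-dimension ≤ projective dimension
holds.) -/
theorem result (A B M : Type u) [CommRing A] [CommRing B] [Algebra A B]
    [Algebra.FinitePresentation A B] [Module.Flat A B] [AddCommGroup M] [Module B M] [Module A M]
    [IsScalarTower A B M] [Module.FinitePresentation B M] [Module.Flat A M] :
    projectiveDimension (ModuleCat.of B M) =
      sInf {n : WithBot ℕ∞ | ∀ i : ℕ, n < i → ∀ N : ModuleCat.{u} B,
        Limits.IsZero (((Tor (ModuleCat.{u} B) i).obj (ModuleCat.of B M)).obj N)} := by
  apply le_antisymm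
  · -- `pd ≤ sInf`
    refine le_sInf ?_
    intro n hn
    induction n using WithBot.recBotCoe with
    | bot =>
      -- all `Tor_i(M, B)` vanish, in particular `M ≅ Tor_0(M, B)`
      have h0 := hn 0 (WithBot.bot_lt_coe _) (ModuleCat.of B B)
      have e1 : ((Tor (ModuleCat.{u} B) 0).obj (ModuleCat.of B M)).obj (ModuleCat.of B B) ≅
          MonoidalCategory.tensorObj (ModuleCat.of B M) (ModuleCat.of B B) :=
        (Groth.Agent.Helper13Tor.torZeroIso.app (ModuleCat.of B M)).app (ModuleCat.of B B)
      have h1 : Limits.IsZero (MonoidalCategory.tensorObj (ModuleCat.of B M) (ModuleCat.of B B)) :=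
        h0.of_iso e1.symm
      have hsub : Subsingleton (TensorProduct B M B) := ModuleCat.subsingleton_of_isZero h1
      have hsubM : Subsingleton M := (TensorProduct.rid B M).symm.injective.subsingleton
      have : Limits.IsZero (ModuleCat.of B M) := ModuleCat.isZero_of_subsingleton _
      rw [(projectiveDimension_eq_bot_iff _).2 this]
    | coe n =>
      induction n using ENat.recTopCoe with
      | top => exact le_top
      | coe m =>
        have : projectiveDimension (ModuleCat.of B M) ≤ (m : ℕ) := by
          rw [projectiveDimension_le_iff]
          refine Groth.Agent.Lib.R2H3.FlatSyz.pdLT_of_isZero_tor A B m M ?_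
          intro i hi N
          exact hn i (by exact_mod_cast hi) N
        exact this
  · -- `sInf ≤ pd`
    refine sInf_le ?_
    intro i hi N
    have hLT : HasProjectiveDimensionLT (ModuleCat.of B M) i := projectiveDimension_lt_iff.1 hi
    rcases Nat.eq_zero_or_pos i with rfl | hpos
    · have hz : Limits.IsZero (ModuleCat.of B M) := (hasProjectiveDimensionLT_zero_iff_isZero _).1 hLT
      haveI : Subsingleton M := ModuleCat.subsingleton_of_isZero hz
      exact Groth.Agent.Lib.R2H3.FlatSyz.isZero_tor_of_subsingleton M 0 N
    · obtain ⟨j, rfl⟩ : ∃ j, i = j + 1 := ⟨i - 1, by omega⟩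
      exact Groth.Agent.Helper13ABLocal.isZero_tor_of_pdLT₁ N j (ModuleCat.of B M) hLT (j + 1)
        (by omega)

end Groth.Agent.S5936
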