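import Groth.Statements.S5953
import Mathlib
import Groth.Agent.S5952
import Groth.Agent.Lib.R2H3PullGen
import Groth.Agent.Lib.R2H3ComapPow
import Groth.Agent.Lib.R2H3IdealModFin
import Groth.Agent.Lib.R2H3PnChart
import Groth.Agent.Lib.Helper20EffCartier
import Groth.Agent.Lib.Helper20PullbackAff
import Groth.Agent.Lib.Helper20OmegaAff
import Groth.Agent.Lib.Helper18OmLS13
import Groth.Agent.Lib.Helper18OmLS15
import Groth.Agent.Lib.R2H3ConormalH1

set_option autoImplicit false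
universe u
open CategoryTheory CategoryTheory.Limits AlgebraicGeometry TopologicalSpace Opposite
open Nrm16

namespace Groth.Agent.S5953

open Groth.Agent.Lib.R2H3 Groth.Agent.Helper18OmLS Groth.Agent.Helper13PullbackUnit
open TensorProduct

namespace Aux

theorem lift_bijective_of_flat {B B' : Type u} [CommRing B] [CommRing B'] [Algebra B B']
    [Module.Flat B B']
    {P P' : Type u} [AddCommGroup P] [Module B P] [AddCommGroup P'] [Module B' P']
    (ι : P →ₗ[B] B) (hι : Function.Injective ι)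
    (ι' : P' →ₗ[B'] B') (hι' : Function.Injective ι')
    (ρ : P →+ P') (hρ : ∀ s, ι' (ρ s) = algebraMap B B' (ι s))
    (hrange : ∀ p', ι' p' ∈ Ideal.map (algebraMap B B') (LinearMap.range ι)) :
    ∃ L : B' ⊗[B] P →+ P', (∀ b' s, L (b' ⊗ₜ s) = b' • ρ s) ∧ (∀ (c : B') z, L (c • z) = c • L z) ∧
      Function.Bijective L := by
  have hρs : ∀ (b : B) (s : P), ρ (b • s) = algebraMap B B' b • ρ s := by
    intro b s
    apply hι'
    rw [hρ, LinearMap.map_smul, LinearMap.map_smul, hρ, smul_eq_mul, smul_eq_mul, map_mul]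
  let L : B' ⊗[B] P →+ P' := TensorProduct.liftAddHom
    { toFun := fun b' => (DistribSMul.toAddMonoidHom P' b').comp ρ
      map_zero' := by
        ext s
        simp
      map_add' := fun a b => by
        ext s
        simp [add_smul] }
    (fun b b' s => by
      change (b • b') • ρ s = b' • ρ (b • s)
      rw [hρs, Algebra.smul_def, mul_smul, smul_comm])
  have hL : ∀ b' s, L (b' ⊗ₜ s) = b' • ρ s := fun b' s => rfl
  have hcomp : ∀ z, ι' (L z) = TensorProduct.rid B B' (LinearMap.lTensor B' ι z) := by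
    intro z
    induction z using TensorProduct.induction_on with
    | zero => simp
    | tmul b' s =>
      rw [hL, map_smul, hρ, LinearMap.lTensor_tmul, TensorProduct.rid_tmul, smul_eq_mul,
        Algebra.smul_def, mul_comm]
    | add x y hx hy => rw [map_add, map_add, hx, hy, map_add, map_add]
  have hinj : Function.Injective (LinearMap.lTensor B' ι) :=
    Module.Flat.lTensor_preserves_injective_linearMap ι hι
  have hsm : ∀ (c : B') z, L (c • z) = c • L z := by
    intro c z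
    induction z using TensorProduct.induction_on with
    | zero => simp
    | tmul b' s => rw [TensorProduct.smul_tmul', hL, hL, smul_eq_mul, mul_smul]
    | add x y hx hy => rw [smul_add, map_add, hx, hy, map_add, smul_add]
  refine ⟨L, hL, hsm, ?_, ?_⟩
  · rw [injective_iff_map_eq_zero]
    intro z hz
    have h1 := hcomp z
    rw [hz, map_zero] at h1
    have h2 : LinearMap.lTensor B' ι z = 0 := by
      apply (TensorProduct.rid B B').injective
      rw [← h1, map_zero]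
    exact (injective_iff_map_eq_zero _).1 hinj z h2
  · intro p'
    have key : ∀ x ∈ Ideal.map (algebraMap B B') (LinearMap.range ι), ∃ z, ι' (L z) = x := by
      intro x hx
      unfold Ideal.map at hx
      induction hx using Submodule.span_induction with
      | mem y hy =>
        obtain ⟨a, ⟨s, rfl⟩, rfl⟩ := hy
        exact ⟨1 ⊗ₜ s, by rw [hL, one_smul, hρ]⟩
      | zero => exact ⟨0, by rw [map_zero, map_zero]⟩
      | add a b _ _ iha ihb =>
        obtain ⟨za, hza⟩ := iha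
        obtain ⟨zb, hzb⟩ := ihb
        exact ⟨za + zb, by rw [map_add, map_add, hza, hzb]⟩
      | smul c a _ iha =>
        obtain ⟨za, hza⟩ := iha
        refine ⟨c • za, ?_⟩
        rw [hsm, map_smul, hza]
    obtain ⟨z, hz⟩ := key _ (hrange p')
    exact ⟨z, hι' hz⟩


section chart

variable {Y X Y' X' : Scheme.{u}} (f : Y ⟶ X) [IsClosedImmersion f]
    (v : X' ⟶ X) [Flat v] (u : Y' ⟶ Y) (f' : Y' ⟶ X') (hsq : IsPullback u f' f v) (n : ℕ)
    (φ : (Scheme.Modules.pullback u).obj (PrinPart.grMod f n) ⟶ PrinPart.grMod f' n)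
    (hφ : PrinPart.IsGrMap f' f v u n φ)
    {W : X'.Opens} {U' : X.Opens} (hW : IsAffineOpen W) (hU' : IsAffineOpen U')
    (hWU : W ≤ v ⁻¹ᵁ U')

include hsq hφ hW hU' hWU in
theorem injective_chart : Function.Injective (φ.app (f' ⁻¹ᵁ W)) := by
  obtain ⟨hw, hφ⟩ := hφ
  haveI : IsClosedImmersion f' := MorphismProperty.of_isPullback hsq inferInstance
  have hK : f'.ker ^ n = (f.ker ^ n).comap v := by
    rw [ComapPow.comap_pow, ComapPow.ker_eq_comap_of_isPullback f v u f' hsq]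
  set K := f.ker ^ n with hKdef
  set K' := f'.ker ^ n with hK'def
  have hideal : K'.ideal ⟨W, hW⟩ = (K.ideal ⟨U', hU'⟩).map (v.appLE U' W hWU).hom := by
    rw [hK]
    exact Groth.Agent.Lib.Helper20.EffCartier.ideal_comap_eq_map v K hW hU' hWU
  letI algBB' : Algebra Γ(X, U') Γ(X', W) := (v.appLE U' W hWU).hom.toAlgebra
  haveI hflat : Module.Flat Γ(X, U') Γ(X', W) := Scheme.Hom.flat_appLE v hU' hW hWU
  let ι : Γ(ClSub.idealMod K, U') →ₗ[Γ(X, U')] Γ(X, U') :=
    { toFun := fun s => OmegaSh.idealSect K U' s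
      map_add' := fun s t => map_add _ s t
      map_smul' := fun r s => idealSect_smul K U' r s }
  let ι' : Γ(ClSub.idealMod K', W) →ₗ[Γ(X', W)] Γ(X', W) :=
    { toFun := fun s => OmegaSh.idealSect K' W s
      map_add' := fun s t => map_add _ s t
      map_smul' := fun r s => idealSect_smul K' W r s }
  have hι : Function.Injective ι := idealSect_injective K U'
  have hι' : Function.Injective ι' := idealSect_injective K' W
  have hmem : ∀ s : Γ(ClSub.idealMod K, U'),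
      (v.appLE U' W hWU).hom (OmegaSh.idealSect K U' s) ∈ K'.ideal ⟨W, hW⟩ := by
    intro s
    rw [hideal]
    exact Ideal.mem_map_of_mem _ (IdealModFin.idealSect_mem K ⟨U', hU'⟩ s)
  let ρ : Γ(ClSub.idealMod K, U') →+ Γ(ClSub.idealMod K', W) :=
    { toFun := fun s => (IdealModFin.idealModEquiv K' ⟨W, hW⟩).symm ⟨_, hmem s⟩
      map_zero' := by
        rw [← map_zero (IdealModFin.idealModEquiv K' ⟨W, hW⟩).symm]
        congr 1
        apply Subtype.ext
        change (v.appLE U' W hWU).hom (OmegaSh.idealSect K U' 0) = 0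
        rw [map_zero, map_zero]
      map_add' := fun s t => by
        rw [← map_add (IdealModFin.idealModEquiv K' ⟨W, hW⟩).symm]
        congr 1
        apply Subtype.ext
        change (v.appLE U' W hWU).hom (OmegaSh.idealSect K U' (s + t)) =
          (v.appLE U' W hWU).hom (OmegaSh.idealSect K U' s) +
          (v.appLE U' W hWU).hom (OmegaSh.idealSect K U' t)
        rw [map_add, map_add] }
  have hρ : ∀ s, ι' (ρ s) = algebraMap Γ(X, U') Γ(X', W) (ι s) := by
    intro s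
    have h1 := (IdealModFin.idealModEquiv K' ⟨W, hW⟩).apply_symm_apply ⟨_, hmem s⟩
    exact congrArg Subtype.val h1
  have hrange : ∀ p', ι' p' ∈ Ideal.map (algebraMap Γ(X, U') Γ(X', W)) (LinearMap.range ι) := by
    intro p'
    have h1 : OmegaSh.idealSect K' W p' ∈ K'.ideal ⟨W, hW⟩ :=
      IdealModFin.idealSect_mem K' ⟨W, hW⟩ p'
    rw [hideal] at h1
    refine Ideal.map_mono ?_ h1
    intro a ha
    obtain ⟨s, hs⟩ := IdealModFin.exists_idealSect_eq K ⟨U', hU'⟩ a ha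
    exact ⟨s, hs⟩
  obtain ⟨L, hL, hLsm, hLinj, hLsurj⟩ := lift_bijective_of_flat ι hι ι' hι' ρ hρ hrange
  have hVa : IsAffineOpen (f ⁻¹ᵁ U') := hU'.preimage f
  have hVa' : IsAffineOpen (f' ⁻¹ᵁ W) := hW.preimage f'
  have e : u ⁻¹ᵁ (f ⁻¹ᵁ U') = f' ⁻¹ᵁ (v ⁻¹ᵁ U') := by
    change (u ≫ f) ⁻¹ᵁ U' = (f' ≫ v) ⁻¹ᵁ U'
    rw [hw]
  have h₂ : f' ⁻¹ᵁ W ≤ f' ⁻¹ᵁ (v ⁻¹ᵁ U') := f'.preimage_mono hWU
  have h₁ : f' ⁻¹ᵁ W ≤ u ⁻¹ᵁ (f ⁻¹ᵁ U') := h₂.trans e.ge
  have hring : ∀ b : Γ(X, U'), u.appLE (f ⁻¹ᵁ U') (f' ⁻¹ᵁ W) h₁ (f.appLE U' (f ⁻¹ᵁ U') le_rfl b) =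
      f'.app W (v.appLE U' W hWU b) := by
    intro b
    have h1 := Scheme.Hom.appLE_comp_appLE u f U' (f ⁻¹ᵁ U') (f' ⁻¹ᵁ W) le_rfl h₁
    have h2 := Scheme.Hom.appLE_comp_appLE f' v U' W (f' ⁻¹ᵁ W) hWU le_rfl
    have h3 : ∀ (k k' : Y' ⟶ X) (_ : k = k') (h : f' ⁻¹ᵁ W ≤ k ⁻¹ᵁ U') (h' : f' ⁻¹ᵁ W ≤ k' ⁻¹ᵁ U'),
        k.appLE U' (f' ⁻¹ᵁ W) h = k'.appLE U' (f' ⁻¹ᵁ W) h' := by
      rintro k _ rfl h h'
      rfl
    have h4 := (h1.trans (h3 _ _ hw _ _)).trans h2.symm
    have h5 := congr($h4 b)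
    rw [CommRingCat.comp_apply, CommRingCat.comp_apply] at h5
    refine h5.trans ?_
    rw [Scheme.Hom.appLE_eq_app]
  let G := PrinPart.grMod f n
  let Xs : Γ(ClSub.idealMod K, U') → Γ((Scheme.Modules.pullback u).obj G, f' ⁻¹ᵁ W) := fun s =>
    unitSec u G h₁ (show Γ(G, f ⁻¹ᵁ U') from unitSec f (ClSub.idealMod K) (le_refl (f ⁻¹ᵁ U')) s)
  have hXs_add : ∀ s t, Xs (s + t) = Xs s + Xs t := by
    intro s t
    change unitSec u G h₁ (show Γ(G, f ⁻¹ᵁ U') from
      unitSec f (ClSub.idealMod K) (le_refl (f ⁻¹ᵁ U')) (s + t)) = _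
    rw [map_add]
    exact map_add (unitSec u G h₁) _ _
  have hXs_zero : Xs 0 = 0 := by
    change unitSec u G h₁ (show Γ(G, f ⁻¹ᵁ U') from
      unitSec f (ClSub.idealMod K) (le_refl (f ⁻¹ᵁ U')) 0) = _
    rw [map_zero]
    exact map_zero (unitSec u G h₁)
  have hXs_smul : ∀ (b : Γ(X, U')) s, Xs (b • s) = f'.app W (v.appLE U' W hWU b) • Xs s := by
    intro b s
    change unitSec u G h₁ (show Γ(G, f ⁻¹ᵁ U') from
      unitSec f (ClSub.idealMod K) (le_refl (f ⁻¹ᵁ U')) (b • s)) = _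
    rw [unitSec_smul]
    refine (unitSec_smul u G h₁ _ _).trans ?_
    rw [hring]
  let XsHom : Γ(ClSub.idealMod K, U') →+ Γ((Scheme.Modules.pullback u).obj G, f' ⁻¹ᵁ W) :=
    { toFun := Xs, map_zero' := hXs_zero, map_add' := hXs_add }
  let Λ : Γ(X', W) ⊗[Γ(X, U')] Γ(ClSub.idealMod K, U') →+
      Γ((Scheme.Modules.pullback u).obj G, f' ⁻¹ᵁ W) := TensorProduct.liftAddHom
    { toFun := fun b' => (DistribSMul.toAddMonoidHom _ (f'.app W b')).comp XsHom
      map_zero' := by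
        ext s
        simp
      map_add' := fun a b => by
        ext s
        simp [add_smul] }
    (fun b b' s => by
      change f'.app W (b • b') • Xs s = f'.app W b' • Xs (b • s)
      rw [hXs_smul, Algebra.smul_def, map_mul, mul_comm, mul_smul]
      rfl)
  have hΛ : ∀ b' s, Λ (b' ⊗ₜ s) = f'.app W b' • Xs s := fun b' s => rfl
  have hΛsm : ∀ (c : Γ(X', W)) z, Λ (c • z) = f'.app W c • Λ z := by
    intro c z
    induction z using TensorProduct.induction_on with
    | zero => simp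
    | tmul b' s => rw [TensorProduct.smul_tmul', hΛ, hΛ, smul_eq_mul, map_mul, mul_smul]
    | add x y hx hy => rw [smul_add, map_add, hx, hy, map_add, smul_add]
  -- pure tensors: φ (Xs s) = unitSec (ρ s)
  have hφXs : ∀ s, φ.app (f' ⁻¹ᵁ W) (Xs s) =
      unitSec f' (ClSub.idealMod K') (le_refl (f' ⁻¹ᵁ W)) (ρ s) := by
    intro s
    obtain ⟨s0, hs0⟩ := Groth.Agent.S5952.exists_idealSect_pull v K K' hK U' s
    have hk := hφ U' s s0 hs0 (f' ⁻¹ᵁ W) h₁ h₂
    have hρs : ρ s = (ClSub.idealMod K').presheaf.map (homOfLE hWU).op s0 := by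
      apply idealSect_injective
      refine (hρ s).trans ?_
      rw [idealSect_res, hs0]
      rfl
    rw [hρs, unitSec_res]
    change φ.app (f' ⁻¹ᵁ W) (((Scheme.Modules.pullback u).obj G).presheaf.map (homOfLE h₁).op
      (OmegaSh.pullSect u G (f ⁻¹ᵁ U')
        (((Scheme.Modules.pullback f).obj (ClSub.idealMod K)).presheaf.map
          (homOfLE (le_refl (f ⁻¹ᵁ U'))).op (OmegaSh.pullSect f (ClSub.idealMod K) U' s)))) = _
    rw [Groth.Agent.Lib.R2H3.ConormalH1.presheaf_map_homOfLE_refl, PnChart.app_naturality]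
    exact hk
  have hφΛ : ∀ z, φ.app (f' ⁻¹ᵁ W) (Λ z) =
      unitSec f' (ClSub.idealMod K') (le_refl (f' ⁻¹ᵁ W)) (L z) := by
    intro z
    induction z using TensorProduct.induction_on with
    | zero =>
      rw [map_zero, map_zero, map_zero, map_zero]
      rfl
    | tmul b' s =>
      rw [hΛ, hL, Scheme.Modules.Hom.app_smul, hφXs, unitSec_smul, Scheme.Hom.appLE_eq_app]
      rfl
    | add x y hx hy =>
      rw [map_add, map_add, hx, hy, map_add, map_add]
      rfl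
  -- surjectivity of Λ
  letI algCC' : Algebra Γ(Y, f ⁻¹ᵁ U') Γ(Y', f' ⁻¹ᵁ W) :=
    (u.appLE (f ⁻¹ᵁ U') (f' ⁻¹ᵁ W) h₁).hom.toAlgebra
  letI algBC : Algebra Γ(X, U') Γ(Y, f ⁻¹ᵁ U') :=
    (f.appLE U' (f ⁻¹ᵁ U') (le_refl _)).hom.toAlgebra
  letI algBC' : Algebra Γ(X', W) Γ(Y', f' ⁻¹ᵁ W) :=
    (f'.appLE W (f' ⁻¹ᵁ W) (le_refl _)).hom.toAlgebra
  have hsurjf : Function.Surjective (algebraMap Γ(X, U') Γ(Y, f ⁻¹ᵁ U')) := by
    change Function.Surjective (f.appLE U' (f ⁻¹ᵁ U') (le_refl _)).hom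
    rw [Scheme.Hom.appLE_eq_app]
    exact f.app_surjective U' hU'
  have hsurjf' : Function.Surjective (algebraMap Γ(X', W) Γ(Y', f' ⁻¹ᵁ W)) := by
    change Function.Surjective (f'.appLE W (f' ⁻¹ᵁ W) (le_refl _)).hom
    rw [Scheme.Hom.appLE_eq_app]
    exact f'.app_surjective W hW
  have halgf' : ∀ b' : Γ(X', W), algebraMap Γ(X', W) Γ(Y', f' ⁻¹ᵁ W) b' = f'.app W b' := by
    intro b'
    change (f'.appLE W (f' ⁻¹ᵁ W) (le_refl _)).hom b' = _
    rw [Scheme.Hom.appLE_eq_app]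
  haveI : (ClSub.idealMod K).IsQuasicoherent := inferInstance
  haveI : G.IsQuasicoherent :=
    Groth.Agent.Lib.Helper20.PullbackAff.isQuasicoherent_pullback f (ClSub.idealMod K)
  have hΛsurj : Function.Surjective Λ := by
    intro ξ
    obtain ⟨eu, heu⟩ := exists_pullback_equiv u G h₁ hVa hVa' rfl
    obtain ⟨t, rfl⟩ := eu.surjective ξ
    induction t using TensorProduct.induction_on with
    | zero => exact ⟨0, by rw [map_zero, map_zero]⟩
    | tmul c' m =>
      obtain ⟨b', rfl⟩ := hsurjf' c'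
      obtain ⟨s, hs⟩ := exists_unitSec_eq f (ClSub.idealMod K) (le_refl (f ⁻¹ᵁ U')) hU' hVa rfl
        hsurjf m
      refine ⟨b' ⊗ₜ s, ?_⟩
      rw [hΛ, heu, halgf', ← hs]
    | add x y hx hy =>
      obtain ⟨zx, hzx⟩ := hx
      obtain ⟨zy, hzy⟩ := hy
      exact ⟨zx + zy, by rw [map_add, map_add, hzx, hzy]⟩
  -- kernel of unitSec f'
  have hker : ∀ p' : Γ(ClSub.idealMod K', W),
      unitSec f' (ClSub.idealMod K') (le_refl (f' ⁻¹ᵁ W)) p' = 0 →
      p' ∈ (RingHom.ker (algebraMap Γ(X', W) Γ(Y', f' ⁻¹ᵁ W)) • ⊤ :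
        Submodule Γ(X', W) Γ(ClSub.idealMod K', W)) := by
    intro p' hp'
    obtain ⟨e', he'⟩ := exists_pullback_equiv f' (ClSub.idealMod K') (le_refl (f' ⁻¹ᵁ W)) hW hVa' rfl
    have h1 : e' ((1 : Γ(Y', f' ⁻¹ᵁ W)) ⊗ₜ p') = 0 := by rw [he', hp', smul_zero]
    have h2 : (1 : Γ(Y', f' ⁻¹ᵁ W)) ⊗ₜ[Γ(X', W)] p' = 0 := by
      apply e'.injective
      rw [h1, map_zero]
    exact mem_smul_top_of_one_tmul_eq_zero' hsurjf' p' h2
  have hkill : ∀ p' ∈ (RingHom.ker (algebraMap Γ(X', W) Γ(Y', f' ⁻¹ᵁ W)) • ⊤ :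
      Submodule Γ(X', W) Γ(ClSub.idealMod K', W)), ∀ z, L z = p' → Λ z = 0 := by
    intro p' hp'
    refine Submodule.smul_induction_on hp' ?_ ?_
    · intro i hi q _ z hz
      obtain ⟨z0, rfl⟩ := hLsurj q
      have hz' : z = i • z0 := hLinj (by rw [hz, hLsm])
      rw [hz', hΛsm, ← halgf', (show algebraMap Γ(X', W) Γ(Y', f' ⁻¹ᵁ W) i = 0 from hi), zero_smul]
    · intro p1 p2 h1 h2 z hz
      obtain ⟨z1, hz1⟩ := hLsurj p1
      obtain ⟨z2, hz2⟩ := hLsurj p2
      have hz' : z = z1 + z2 := hLinj (by rw [hz, map_add, hz1, hz2])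
      rw [hz', map_add, h1 z1 hz1, h2 z2 hz2, add_zero]
  rw [injective_iff_map_eq_zero]
  intro ξ hξ
  obtain ⟨z, rfl⟩ := hΛsurj ξ
  rw [hφΛ] at hξ
  exact hkill _ (hker _ hξ) z rfl

end chart

end Aux


/-- Let f : Y ⟶ X be a closed immersion, v : X' ⟶ X a flat morphism, Y' a fibre product of Y and X' over
X with projections u : Y' ⟶ Y and f' : Y' ⟶ X', and n a natural number. Let φ : u^* Gr_n(f) ⟶
Gr_n(f') be the canonical O_{Y'}-linear map between the n-th graded pieces of the ideals of f and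
f'. Then φ is an isomorphism. (The published statement assumes only that v is flat and that f is a
morphism of schemes with surjective comorphism; this row also assumes f a closed immersion, the case
in which the graded pieces are formed here.) -/
theorem result {Y X Y' X' : Scheme.{u}} (f : Y ⟶ X) [IsClosedImmersion f]
    (v : X' ⟶ X) [Flat v] (u : Y' ⟶ Y) (f' : Y' ⟶ X') (hsq : IsPullback u f' f v) (n : ℕ)
    (φ : (Scheme.Modules.pullback u).obj (PrinPart.grMod f n) ⟶ PrinPart.grMod f' n)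
    (hφ : PrinPart.IsGrMap f' f v u n φ) :
    IsIso φ := by
  have hepi : Epi φ := Groth.Agent.S5952.result f v u f' hsq n φ hφ
  have hmono : Mono φ := by
    let B : Set Y'.Opens := {V | ∃ (W : X'.Opens) (U' : X.Opens), IsAffineOpen W ∧ IsAffineOpen U' ∧
      W ≤ v ⁻¹ᵁ U' ∧ V = f' ⁻¹ᵁ W}
    haveI : IsClosedImmersion f' := MorphismProperty.of_isPullback hsq inferInstance
    have hB : Opens.IsBasis B := by
      rw [Opens.isBasis_iff_nbhd]
      intro V y hy
      obtain ⟨V0, hV0o, hV0⟩ := (f'.isEmbedding.isInducing.isOpen_iff).mp V.isOpen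
      let V1 : X'.Opens := ⟨V0, hV0o⟩
      have hyV1 : f' y ∈ V1 := by
        change y ∈ f' ⁻¹' V0
        rw [hV0]
        exact hy
      obtain ⟨_, ⟨U', hU', rfl⟩, hxU', -⟩ :=
        X.isBasis_affineOpens.exists_subset_of_mem_open (Set.mem_univ (v (f' y))) isOpen_univ
      have hx2 : f' y ∈ V1 ⊓ v ⁻¹ᵁ U' := ⟨hyV1, hxU'⟩
      obtain ⟨_, ⟨W, hW, rfl⟩, hxW, hWle⟩ :=
        X'.isBasis_affineOpens.exists_subset_of_mem_open hx2 (V1 ⊓ v ⁻¹ᵁ U').isOpen
      refine ⟨f' ⁻¹ᵁ W, ⟨W, U', hW, hU', fun z hz => (hWle hz).2, rfl⟩, hxW, ?_⟩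
      intro z hz
      have h1 : f' z ∈ V1 := (hWle hz).1
      have h2 : z ∈ f' ⁻¹' V0 := h1
      rw [hV0] at h2
      exact h2
    refine Groth.Agent.Helper18OmLS.mono_of_injective_app_basis _ B hB ?_
    rintro _ ⟨W, U', hW, hU', hWU, rfl⟩
    exact Aux.injective_chart f v u f' hsq n φ hφ hW hU' hWU
  exact isIso_of_mono_of_epi _

end Groth.Agent.S5953
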