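import Groth.Statements.S5954
import Mathlib
import Groth.Agent.Lib.R2H3PnBCGeo
import Groth.Agent.Lib.Helper18OmLS9
import Groth.Agent.Lib.Helper20PullbackAff


set_option autoImplicit false
set_option linter.style.haveILetI false
universe u
open CategoryTheory CategoryTheory.Limits AlgebraicGeometry TopologicalSpace Opposite
open Nrm16

namespace Groth.Agent.S5954

/-- Let f : X ⟶ S and g : S' ⟶ S be morphisms and X' a fibre product of X and S' over S with projections
u : X' ⟶ X and f' : X' ⟶ S'. For every n let φ : u^* P^n_{X/S} ⟶ P^n_{X'/S'} be the canonical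
O_{X'}-linear map of sheaves of principal parts of order n, the one sending the pullback of d^n b to
d^n (u♯ b) for every local function b on X. Then φ is an isomorphism. (The published statement also
asserts that the canonical map u^*Ω_{X/S} ⟶ Ω_{X'/S'} of sheaves of differentials compatible with
the universal derivations is bijective; this row states only the assertion on sheaves of principal
parts.) -/
theorem result {X S X' S' : Scheme.{u}} (f : X ⟶ S) (g : S' ⟶ S)
    (u : X' ⟶ X) (f' : X' ⟶ S') (hsq : IsPullback u f' f g) (n : ℕ)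
    (φ : (Scheme.Modules.pullback u).obj (PrinPart.P f n) ⟶ PrinPart.P f' n)
    (hφ : PrinPart.IsPMap f f' u n φ) :
    IsIso φ := by
  haveI : (PrinPart.P f' n).IsQuasicoherent := Groth.Agent.Lib.R2H3.PnBCGeo.isQuasicoherent_P f' n
  haveI : (PrinPart.P f n).IsQuasicoherent := Groth.Agent.Lib.R2H3.PnBCGeo.isQuasicoherent_P f n
  haveI : ((Scheme.Modules.pullback u).obj (PrinPart.P f n)).IsQuasicoherent :=
    Groth.Agent.Lib.Helper20.PullbackAff.isQuasicoherent_pullback u _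
  let ι := {p : S.Opens × S'.Opens × X.Opens // IsAffineOpen p.1 ∧ IsAffineOpen p.2.1 ∧
    IsAffineOpen p.2.2 ∧ p.2.1 ≤ g ⁻¹ᵁ p.1 ∧ p.2.2 ≤ f ⁻¹ᵁ p.1}
  refine Groth.Agent.Helper18OmLS.isIso_of_bijective_app_cover φ
    (fun i : ι => Groth.Agent.Lib.R2H3.PnBCGeo.Uc u f' i.1.2.2 i.1.2.1) ?_ ?_ ?_
  · apply IsOpenCover.mk
    rw [eq_top_iff]
    rintro x' -
    obtain ⟨_, ⟨T, hT, rfl⟩, hxT, -⟩ :=
      S.isBasis_affineOpens.exists_subset_of_mem_open (Set.mem_univ (f (u x'))) isOpen_univ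
    have hx1 : f' x' ∈ g ⁻¹ᵁ T := by
      change g (f' x') ∈ T
      rw [← Scheme.Hom.comp_apply, ← hsq.w, Scheme.Hom.comp_apply]
      exact hxT
    obtain ⟨_, ⟨T', hT', rfl⟩, hxT', hT'T⟩ :=
      S'.isBasis_affineOpens.exists_subset_of_mem_open hx1 (g ⁻¹ᵁ T).isOpen
    have hx2 : u x' ∈ f ⁻¹ᵁ T := hxT
    obtain ⟨_, ⟨U, hU, rfl⟩, hxU, hUT⟩ :=
      X.isBasis_affineOpens.exists_subset_of_mem_open hx2 (f ⁻¹ᵁ T).isOpen
    rw [Opens.mem_iSup]
    exact ⟨⟨(T, T', U), hT, hT', hU, hT'T, hUT⟩, hxU, hxT'⟩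
  · intro i
    exact Groth.Agent.Lib.R2H3.PnBCGeo.isAffineOpen_Uc f g u f' hsq i.2.1 i.2.2.1 i.2.2.2.1
      i.2.2.2.2.1 i.2.2.2.2.2
  · intro i
    exact Groth.Agent.Lib.R2H3.PnBCGeo.bijective_app_chart f g u f' hsq n φ hφ i.2.1 i.2.2.1
      i.2.2.2.1 i.2.2.2.2.1 i.2.2.2.2.2

end Groth.Agent.S5954
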