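import Groth.Statements.S5956
import Groth.Prelude.Def_Omega4

set_option autoImplicit false
universe u
open CategoryTheory CategoryTheory.Limits AlgebraicGeometry TopologicalSpace Opposite
open Nrm16

namespace Groth.Agent.S5956

theorem homEquiv_app {X X' : Scheme.{u}} (h : X' ⟶ X) {Ω : X.Modules} {Ω' : X'.Modules}
    (c : (Scheme.Modules.pullback h).obj Ω ⟶ Ω') (U : X.Opens) (x : Γ(Ω, U)) :
    ((Scheme.Modules.pullbackPushforwardAdjunction h).homEquiv Ω Ω' c).app U x =
      c.app (h ⁻¹ᵁ U) (OmegaSh.pullSect h Ω U x) := by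
  rw [Adjunction.homEquiv_unit]
  rfl

theorem app_naturality {X : Scheme.{u}} {M N : X.Modules} (φ : M ⟶ N) {U V : X.Opens} (e : V ≤ U)
    (m : Γ(M, U)) :
    φ.app V (M.presheaf.map (homOfLE e).op m) = N.presheaf.map (homOfLE e).op (φ.app U m) :=
  congr($((Scheme.Modules.Hom.mapPresheaf φ).naturality (homOfLE e).op) m)

theorem res3 {X : Scheme.{u}} (M : X.Modules) {A B C D : X.Opens} (a : B ⟶ A) (b : C ⟶ B)
    (c : D ⟶ C) (d : D ⟶ A) (x : Γ(M, A)) :
    M.presheaf.map c.op (M.presheaf.map b.op (M.presheaf.map a.op x)) = M.presheaf.map d.op x := by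
  rw [OmegaSh.resM_resM, OmegaSh.resM_resM]
  rfl

section general

variable {X N N' : Scheme.{u}} (p1 p2 : N ⟶ X) (p1' p2' : N' ⟶ X) (j : N' ⟶ N)
  (e1 : j ≫ p1 = p1') (e2 : j ≫ p2 = p2') (F : X.Modules)

/-- the map `F ⟶ p2_* j_* p2'^* F` -/
noncomputable def gam : F ⟶ (Scheme.Modules.pushforward p2).obj
    ((Scheme.Modules.pushforward j).obj ((Scheme.Modules.pullback p2').obj F)) :=
  (Scheme.Modules.pullbackPushforwardAdjunction p2').unit.app F ≫
    (Scheme.Modules.pushforwardCongr e2.symm).hom.app _ ≫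
    (Scheme.Modules.pushforwardComp j p2).inv.app _

theorem gam_app (U : X.Opens) (t : Γ(F, U)) :
    (gam p2 p2' j e2 F).app U t =
      ((Scheme.Modules.pullback p2').obj F).presheaf.map
        (eqToHom (show j ⁻¹ᵁ (p2 ⁻¹ᵁ U) = p2' ⁻¹ᵁ U by rw [← e2]; rfl)).op
        (OmegaSh.pullSect p2' F U t) := by
  unfold gam
  rw [Scheme.Modules.Hom.comp_app, Scheme.Modules.Hom.comp_app,
    Scheme.Modules.pushforwardComp_inv_app_app, Scheme.Modules.pushforwardCongr_hom_app_app]
  rfl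

/-- its transpose `p2^* F ⟶ j_* p2'^* F` -/
noncomputable def bet : (Scheme.Modules.pullback p2).obj F ⟶
    (Scheme.Modules.pushforward j).obj ((Scheme.Modules.pullback p2').obj F) :=
  ((Scheme.Modules.pullbackPushforwardAdjunction p2).homEquiv F _).symm (gam p2 p2' j e2 F)

theorem bet_app (U : X.Opens) (t : Γ(F, U)) :
    (bet p2 p2' j e2 F).app (p2 ⁻¹ᵁ U) (OmegaSh.pullSect p2 F U t) = (gam p2 p2' j e2 F).app U t := by
  rw [← homEquiv_app]
  unfold bet
  rw [Equiv.apply_symm_apply]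

/-- the transition map -/
noncomputable def rho : (Scheme.Modules.pushforward p1).obj ((Scheme.Modules.pullback p2).obj F) ⟶
    (Scheme.Modules.pushforward p1').obj ((Scheme.Modules.pullback p2').obj F) :=
  (Scheme.Modules.pushforward p1).map (bet p2 p2' j e2 F) ≫
    (Scheme.Modules.pushforwardComp j p1).hom.app _ ≫
    (Scheme.Modules.pushforwardCongr e1).hom.app _

theorem rho_app (U : X.Opens) (s : Γ((Scheme.Modules.pullback p2).obj F, p1 ⁻¹ᵁ U)) :
    (rho p1 p2 p1' p2' j e1 e2 F).app U s =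
      ((Scheme.Modules.pullback p2').obj F).presheaf.map
        (eqToHom (show p1' ⁻¹ᵁ U = j ⁻¹ᵁ (p1 ⁻¹ᵁ U) by rw [← e1]; rfl)).op
        ((bet p2 p2' j e2 F).app (p1 ⁻¹ᵁ U) s) := by
  unfold rho
  rw [Scheme.Modules.Hom.comp_app, Scheme.Modules.Hom.comp_app,
    Scheme.Modules.pushforwardComp_hom_app_app, Scheme.Modules.pushforwardCongr_hom_app_app,
    Scheme.Modules.pushforward_map_app]
  rfl

theorem rho_spec (U : X.Opens) (hp : p1 ⁻¹ᵁ U = p2 ⁻¹ᵁ U) (hp' : p1' ⁻¹ᵁ U = p2' ⁻¹ᵁ U)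
    (t : Γ(F, U)) :
    (rho p1 p2 p1' p2' j e1 e2 F).app U
        (((Scheme.Modules.pullback p2).obj F).presheaf.map (homOfLE hp.le).op
          (OmegaSh.pullSect p2 F U t)) =
      ((Scheme.Modules.pullback p2').obj F).presheaf.map (homOfLE hp'.le).op
        (OmegaSh.pullSect p2' F U t) := by
  rw [rho_app, app_naturality, bet_app, gam_app]
  rw [Scheme.Modules.pushforward_obj_presheaf_map]
  exact res3 _ _ _ _ _ _

end general

/-- Let f : X ⟶ S be a morphism of schemes, F and G two O_X-modules and D : F ⟶ G a differential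
operator of order at most n relative to S. Then D is a differential operator of order at most m for
every m ≥ n. -/
theorem result {X S : Scheme.{u}} (f : X ⟶ S) (F G : X.Modules) {n m : ℕ} (h : n ≤ m)
    (D : F.presheaf ⟶ G.presheaf) (hD : PrinPart.IsDiffOpLE f F G n D) :
    PrinPart.IsDiffOpLE f F G m D := by
  obtain ⟨u, hu⟩ := hD
  have e1 : PrinPart.infNbhdMap (PrinPart.diagCl f) h ≫ PrinPart.pr1 f m = PrinPart.pr1 f n := by
    simp only [PrinPart.pr1, PrinPart.nbhdι, Category.assoc, PrinPart.infNbhdMap_ι_assoc]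
  have e2 : PrinPart.infNbhdMap (PrinPart.diagCl f) h ≫ PrinPart.pr2 f m = PrinPart.pr2 f n := by
    simp only [PrinPart.pr2, PrinPart.nbhdι, Category.assoc, PrinPart.infNbhdMap_ι_assoc]
  let ρ : PrinPart.PMod f m F ⟶ PrinPart.PMod f n F :=
    rho (PrinPart.pr1 f m) (PrinPart.pr2 f m) (PrinPart.pr1 f n) (PrinPart.pr2 f n)
      (PrinPart.infNbhdMap (PrinPart.diagCl f) h) e1 e2 F
  refine ⟨ρ ≫ u, fun U t => ?_⟩
  rw [hu, Scheme.Modules.Hom.comp_app]
  have := rho_spec (PrinPart.pr1 f m) (PrinPart.pr2 f m) (PrinPart.pr1 f n) (PrinPart.pr2 f n)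
      (PrinPart.infNbhdMap (PrinPart.diagCl f) h) e1 e2 F U (PrinPart.preimage_pr1 f m U)
      (PrinPart.preimage_pr1 f n U) t
  change u.app U (PrinPart.dP f n F U t) = u.app U (ρ.app U (PrinPart.dP f m F U t))
  rw [PrinPart.dP_apply, PrinPart.dP_apply]
  exact congrArg _ this.symm

end Groth.Agent.S5956
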