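import Groth.Statements.S5957
import Groth.Agent.Lib.Helper4PPSch
import Groth.Prelude.Def_Omega4

set_option autoImplicit false
universe u
open CategoryTheory CategoryTheory.Limits AlgebraicGeometry TopologicalSpace Opposite
open Nrm16

namespace Groth.Agent.S5957

theorem pr1_zero_eq_pr2_zero {X S : Scheme.{u}} (f : X ⟶ S) :
    PrinPart.pr1 f 0 = PrinPart.pr2 f 0 := by
  haveI := Groth.Agent.Lib.Helper4.PPSch.isIso_toNbhd_zero f
  rw [← cancel_epi (PrinPart.toNbhd f 0), PrinPart.toNbhd_pr1, PrinPart.toNbhd_pr2]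

/-- for `n = 0`, `d^0` is linear for the left structure -/
theorem dP_zero_smul {X S : Scheme.{u}} (f : X ⟶ S) (F : X.Modules) (U : X.Opens)
    (a : Γ(X, U)) (t : Γ(F, U)) :
    PrinPart.dP f 0 F U (a • t) = a • PrinPart.dP f 0 F U t := by
  have key : ∀ (y : Γ(PrinPart.PMod f 0 F, U)), a • y =
      ((PrinPart.pr1 f 0).app U a •
        (show Γ((Scheme.Modules.pullback (PrinPart.pr2 f 0)).obj F, PrinPart.pr1 f 0 ⁻¹ᵁ U) from y) :
        Γ((Scheme.Modules.pullback (PrinPart.pr2 f 0)).obj F, PrinPart.pr1 f 0 ⁻¹ᵁ U)) :=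
    fun y => rfl
  rw [key, PrinPart.dP_apply, PrinPart.dP_apply, OmegaSh.pullSect_smul, Scheme.Modules.map_smul]
  congr 1
  have h := Scheme.Hom.congr_app (pr1_zero_eq_pr2_zero f) U
  rw [h]
  rfl

/-- Let f : X ⟶ S be a morphism of schemes, F and G two O_X-modules and D : F ⟶ G a homomorphism of
sheaves of abelian groups. Then D is a differential operator of order at most 0 relative to S if and
only if D is O_X-linear: D(a·t) = a·D(t) for every open U, every function a on U and every section t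
of F over U. -/
theorem result {X S : Scheme.{u}} (f : X ⟶ S) (F G : X.Modules)
    (D : F.presheaf ⟶ G.presheaf) :
    PrinPart.IsDiffOpLE f F G 0 D ↔
      ∀ (U : X.Opens) (a : Γ(X, U)) (t : Γ(F, U)), D.app (op U) (a • t) = a • D.app (op U) t := by
  constructor
  · rintro ⟨u, hu⟩ U a t
    rw [hu, hu, dP_zero_smul, Scheme.Modules.Hom.app_smul]
  · intro hlin
    -- the module morphism underlying `D`
    let D' : F ⟶ G := ⟨PresheafOfModules.homMk D (fun U r m => hlin U.unop r m)⟩
    have hD' : ∀ (U : X.Opens) (t : Γ(F, U)), D'.app U t = D.app (op U) t := fun U t => rfl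
    -- the isomorphism `F ≅ P^0(F)`
    haveI := Groth.Agent.Lib.Helper4.PPSch.isIso_pr2_zero f
    have h1 := Groth.Agent.Lib.Helper4.PPSch.isIso_unit_app (PrinPart.pr2 f 0) F
    let θ : F ⟶ PrinPart.PMod f 0 F :=
      (Scheme.Modules.pullbackPushforwardAdjunction (PrinPart.pr2 f 0)).unit.app F ≫
        (Scheme.Modules.pushforwardCongr (pr1_zero_eq_pr2_zero f).symm).hom.app _
    haveI : IsIso θ := by
      dsimp only [θ]
      haveI h2 : IsIso ((Scheme.Modules.pushforwardCongr (pr1_zero_eq_pr2_zero f).symm).hom.app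
          ((Scheme.Modules.pullback (PrinPart.pr2 f 0)).obj F)) :=
        ((Scheme.Modules.pushforwardCongr (pr1_zero_eq_pr2_zero f).symm).app
          ((Scheme.Modules.pullback (PrinPart.pr2 f 0)).obj F)).isIso_hom
      exact @IsIso.comp_isIso _ _ _ _ _ _ _ h1 h2
    have hθ : ∀ (U : X.Opens) (t : Γ(F, U)), θ.app U t = PrinPart.dP f 0 F U t := by
      intro U t
      rfl
    refine ⟨inv θ ≫ D', fun U t => ?_⟩
    rw [← hθ, ← hD']
    change _ = (θ ≫ inv θ ≫ D').app U t
    rw [IsIso.hom_inv_id_assoc]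

end Groth.Agent.S5957
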