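import Groth.Statements.S5961
import Groth.Agent.Lib.R2H3PnOne

set_option autoImplicit false
universe u
open CategoryTheory CategoryTheory.Limits AlgebraicGeometry TopologicalSpace Opposite
open Nrm16

namespace Groth.Agent.S5961

/-- Let f : X ⟶ S be a morphism of schemes, G an O_X-module and D : O_X ⟶ G a differential operator of
order at most 1 relative to S. Then D can be written in exactly one way as v + d with v : O_X ⟶ G an
O_X-linear map and d an S-derivation of O_X into G. -/
theorem result {X S : Scheme.{u}} (f : X ⟶ S) (G : X.Modules)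
    (D : (Coh.structureModule X).presheaf ⟶ G.presheaf)
    (hD : PrinPart.IsDiffOpLE f (Coh.structureModule X) G 1 D) :
    ∃! p : (Coh.structureModule X ⟶ G) × OmegaSh.Der f G,
      ∀ (U : X.Opens) (a : Γ(X, U)),
        D.app (op U) (OmegaSh.strSect X U a) = p.1.app U (OmegaSh.strSect X U a) + p.2.app U a := by
  obtain ⟨u, hu⟩ := hD
  have hDn : ∀ (U : X.Opens) (a : Γ(X, U)),
      D.app (op U) (OmegaSh.strSect X U a) = u.app U (PrinPart.dn f 1 U a) :=
    fun U a => hu U (OmegaSh.strSect X U a)
  -- the section `D(1)`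
  have hnat : ∀ {U V : X.Opens} (i : V ≤ U) (a : Γ(X, U)),
      G.presheaf.map (homOfLE i).op (D.app (op U) (OmegaSh.strSect X U a)) =
        D.app (op V) (OmegaSh.strSect X V (X.presheaf.map (homOfLE i).op a)) := by
    intro U V i a
    have := congr($(D.naturality (homOfLE i).op) (OmegaSh.strSect X U a))
    exact this.symm
  let s1 : G.val.sections := PresheafOfModules.sectionsMk
    (fun W => D.app W (OmegaSh.strSect X W.unop 1)) (by
      intro W W' i
      have h1 := hnat (leOfHom i.unop) (1 : Γ(X, W.unop))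
      have h1' : X.presheaf.map (homOfLE (leOfHom i.unop)).op (1 : Γ(X, W.unop)) = 1 := map_one _
      rw [h1'] at h1
      exact h1)
  let v : Coh.structureModule X ⟶ G := (SheafOfModules.unitHomEquiv G).symm s1
  have hv1 : ∀ U : X.Opens, v.app U (OmegaSh.strSect X U 1) =
      D.app (op U) (OmegaSh.strSect X U 1) := by
    intro U
    have h1 := SheafOfModules.unitHomEquiv_apply_coe G v (op U)
    have h2 : SheafOfModules.unitHomEquiv G v = s1 := (SheafOfModules.unitHomEquiv G).apply_symm_apply s1
    rw [h2] at h1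
    exact h1.symm
  have hv : ∀ (U : X.Opens) (a : Γ(X, U)), v.app U (OmegaSh.strSect X U a) =
      a • D.app (op U) (OmegaSh.strSect X U 1) := by
    intro U a
    have h1 : OmegaSh.strSect X U a = a • OmegaSh.strSect X U 1 := by
      rw [← OmegaSh.strSect_mul, mul_one]
    rw [h1, Scheme.Modules.Hom.app_smul, hv1]
  -- the derivation
  have hmul : ∀ (U : X.Opens) (a b : Γ(X, U)),
      D.app (op U) (OmegaSh.strSect X U (a * b)) =
        a • D.app (op U) (OmegaSh.strSect X U b) + b • D.app (op U) (OmegaSh.strSect X U a) -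
          (a * b) • D.app (op U) (OmegaSh.strSect X U 1) := by
    intro U a b
    rw [hDn, hDn, hDn, hDn, Groth.Agent.Lib.R2H3.PnOne.dn_mul, map_sub, map_add,
      Scheme.Modules.Hom.app_smul, Scheme.Modules.Hom.app_smul, Scheme.Modules.Hom.app_smul]
  have happ : ∀ (V : S.Opens) (s : Γ(S, V)),
      D.app (op (f ⁻¹ᵁ V)) (OmegaSh.strSect X (f ⁻¹ᵁ V) (f.app V s)) =
        (f.app V s) • D.app (op (f ⁻¹ᵁ V)) (OmegaSh.strSect X (f ⁻¹ᵁ V) 1) := by
    intro V s
    rw [hDn, hDn, Groth.Agent.Lib.R2H3.PnOne.dn_app, Scheme.Modules.Hom.app_smul]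
  let dfun : ∀ U : X.Opens, Γ(X, U) →+ Γ(G, U) := fun U =>
    (D.app (op U)).hom.comp (OmegaSh.strSect X U) - (v.app U).hom.comp (OmegaSh.strSect X U)
  have hdfun : ∀ (U : X.Opens) (a : Γ(X, U)), dfun U a =
      D.app (op U) (OmegaSh.strSect X U a) - a • D.app (op U) (OmegaSh.strSect X U 1) := by
    intro U a
    change D.app (op U) (OmegaSh.strSect X U a) - v.app U (OmegaSh.strSect X U a) = _
    rw [hv]
  have hd_mul : ∀ (U : X.Opens) (a b : Γ(X, U)),
      dfun U (a * b) = a • dfun U b + b • dfun U a := by
    intro U a b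
    rw [hdfun, hdfun, hdfun, hmul, smul_sub, smul_sub, smul_smul, smul_smul, mul_comm b a]
    abel
  have hd_map : ∀ {U V : X.Opens} (i : V ≤ U) (a : Γ(X, U)),
      dfun V (X.presheaf.map (homOfLE i).op a) = G.presheaf.map (homOfLE i).op (dfun U a) := by
    intro U V i a
    rw [hdfun, hdfun, map_sub, hnat, Scheme.Modules.map_smul, hnat i 1]
    have h1' : X.presheaf.map (homOfLE i).op (1 : Γ(X, U)) = 1 := map_one _
    rw [h1']
  have hd_app : ∀ (V : S.Opens) (s : Γ(S, V)), dfun (f ⁻¹ᵁ V) (f.app V s) = 0 := by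
    intro V s
    rw [hdfun, happ, sub_self]
  let d : OmegaSh.Der f G :=
    { d := fun {W} => dfun W.unop
      d_mul := fun {W} a b => hd_mul W.unop a b
      d_map := fun {W W'} i a => hd_map (leOfHom i.unop) a
      d_app := fun {V} s => hd_app V.unop s }
  refine ⟨(v, d), ?_, ?_⟩
  · intro U a
    change D.app (op U) (OmegaSh.strSect X U a) = v.app U (OmegaSh.strSect X U a) + dfun U a
    rw [hdfun, hv]
    abel
  · rintro ⟨v', d'⟩ h'
    have hv'1 : ∀ U : X.Opens, v'.app U (OmegaSh.strSect X U 1) =
        D.app (op U) (OmegaSh.strSect X U 1) := by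
      intro U
      have h1 := h' U 1
      have hd1 : d'.app U 1 = 0 := by
        rw [OmegaSh.Der.app_apply]
        exact PresheafOfModules.Derivation.d_one d' (op U)
      rw [hd1, add_zero] at h1
      exact h1.symm
    have hvv : v' = v := by
      apply (SheafOfModules.unitHomEquiv G).injective
      have h2 : SheafOfModules.unitHomEquiv G v = s1 :=
        (SheafOfModules.unitHomEquiv G).apply_symm_apply s1
      rw [h2]
      apply PresheafOfModules.sections_ext
      intro W
      exact hv'1 W.unop
    have hdd : d' = d := by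
      apply PresheafOfModules.Derivation.ext
      funext W
      apply AddMonoidHom.ext
      intro a
      have h1 := h' W.unop a
      change d'.app W.unop a = dfun W.unop a
      rw [hdfun, h1, hvv, hv]
      abel
    rw [hvv, hdd]

end Groth.Agent.S5961
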