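import Groth.Statements.S5963
import Mathlib
import Groth.Agent.S5952
import Groth.Agent.Lib.R2H3GrChart
import Groth.Agent.Lib.R2H3ProdChart
import Groth.Agent.Lib.R2H3PnKer

set_option autoImplicit false
set_option linter.style.haveILetI false
set_option linter.unusedSectionVars false
universe u
open CategoryTheory CategoryTheory.Limits AlgebraicGeometry TopologicalSpace Opposite
open Nrm16

namespace Groth.Agent.S5963

open Groth.Agent.Lib.R2H3 Groth.Agent.Helper18OmLS Groth.Agent.Helper13PullbackUnit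
open TensorProduct

namespace Aux

theorem lTensor_injective_of_pushout_retraction {C B C' B' : Type u} [CommRing C] [CommRing B]
    [CommRing C'] [CommRing B'] [Algebra C B] [Algebra C C'] [Algebra B B'] [Algebra C' B']
    [Algebra C B'] [IsScalarTower C B B'] [IsScalarTower C C' B'] [Algebra.IsPushout C C' B B']
    {P : Type u} [AddCommGroup P] [Module B P] [Module C P] [IsScalarTower C B P]
    (ι : P →ₗ[B] B) (r : B →ₗ[C] P) (hr : ∀ s, r (ι s) = s) :
    Function.Injective (LinearMap.lTensor B' ι) := by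
  let eP := Algebra.IsPushout.cancelBaseChange C C' B B' P
  let eB := Algebra.IsPushout.cancelBaseChange C C' B B' B
  let ιC : P →ₗ[C] B := ι.restrictScalars C
  have hsq : ∀ z : C' ⊗[C] P, LinearMap.lTensor B' ι (eP.symm z) =
      eB.symm (LinearMap.lTensor C' ιC z) := by
    intro z
    induction z using TensorProduct.induction_on with
    | zero => simp
    | tmul c' p =>
      rw [Algebra.IsPushout.cancelBaseChange_symm_tmul, LinearMap.lTensor_tmul,
        LinearMap.lTensor_tmul, Algebra.IsPushout.cancelBaseChange_symm_tmul]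
      rfl
    | add x y hx hy => rw [map_add, map_add, hx, hy, map_add, map_add]
  have hinjC : Function.Injective (LinearMap.lTensor C' ιC) := by
    have hcomp : (LinearMap.lTensor C' r).comp (LinearMap.lTensor C' ιC) = LinearMap.id := by
      rw [← LinearMap.lTensor_comp]
      have : r.comp ιC = LinearMap.id := by
        ext s
        exact hr s
      rw [this, LinearMap.lTensor_id]
    intro a b hab
    have := congrArg (LinearMap.lTensor C' r) hab
    rw [← LinearMap.comp_apply, ← LinearMap.comp_apply, hcomp] at this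
    exact this
  intro a b hab
  obtain ⟨a', rfl⟩ := eP.symm.surjective a
  obtain ⟨b', rfl⟩ := eP.symm.surjective b
  rw [hsq, hsq] at hab
  rw [hinjC (eB.symm.injective hab)]


section chart

variable {X Y X' Y' : Scheme.{u}} (g : X ⟶ Y) (f : Y ⟶ X)
    [IsClosedImmersion f] (hf : f ≫ g = 𝟙 Y) (u : Y' ⟶ Y) (v : X' ⟶ X) (g' : X' ⟶ Y')
    (hsq : IsPullback v g' g u) (f' : Y' ⟶ X') (hf' : f' ≫ g' = 𝟙 Y') (hf'v : f' ≫ v = u ≫ f)
    (φ : (Scheme.Modules.pullback u).obj (PrinPart.grMod f 1) ⟶ PrinPart.grMod f' 1)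
    (hφ : PrinPart.IsGrMap f' f v u 1 φ)

include hf hf' hf'v hsq in
theorem isPullback_section : IsPullback u f' f v := by
  have hrect : IsPullback (f' ≫ g') u u (f ≫ g) := by
    rw [hf', hf]
    exact IsPullback.of_horiz_isIso ⟨by rw [Category.id_comp, Category.comp_id]⟩
  exact (IsPullback.of_right hrect hf'v hsq.flip).flip

variable {U' : X.Opens} {Vy : Y.Opens} {Vy' : Y'.Opens}
    (hU' : IsAffineOpen U') (hVa : IsAffineOpen Vy) (hVa' : IsAffineOpen Vy')
    (hUV : U' ≤ g ⁻¹ᵁ Vy) (hVV : Vy' ≤ u ⁻¹ᵁ Vy) (hfU : f ⁻¹ᵁ U' = Vy)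

include hf hf' hf'v hsq hφ hU' hVa hVa' hUV hVV hfU in
theorem injective_chart : Function.Injective (φ.app Vy') := by
  have hsq' := isPullback_section g f hf u v g' hsq f' hf' hf'v
  haveI : IsClosedImmersion f' := MorphismProperty.of_isPullback hsq' inferInstance
  have hK : f'.ker ^ 1 = (f.ker ^ 1).comap v := by
    rw [ComapPow.comap_pow, ComapPow.ker_eq_comap_of_isPullback f v u f' hsq']
  set W : X'.Opens := g' ⁻¹ᵁ Vy' ⊓ v ⁻¹ᵁ U' with hWdef
  have hW : IsAffineOpen W := ProdChart.isAffineOpen_inf hsq.flip hVa hVa' hU' hVV hUV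
  have hWU : W ≤ v ⁻¹ᵁ U' := inf_le_right
  have hWV : W ≤ g' ⁻¹ᵁ Vy' := inf_le_left
  have hVU : Vy ≤ f ⁻¹ᵁ U' := hfU.ge
  have hVW : Vy' ≤ f' ⁻¹ᵁ W := by
    intro z hz
    refine ⟨?_, ?_⟩
    · change (f' ≫ g') z ∈ Vy'
      rw [hf']
      exact hz
    · change (f' ≫ v) z ∈ U'
      rw [hf'v]
      have h1 : u z ∈ Vy := hVV hz
      rw [← hfU] at h1
      exact h1
  -- sections
  have hπσ : g.appLE Vy U' hUV ≫ f.appLE U' Vy hVU = 𝟙 _ := by
    rw [Scheme.Hom.appLE_comp_appLE]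
    exact OmegaSh.id_appLE_eq_id hf _
  have hπσ' : g'.appLE Vy' W hWV ≫ f'.appLE W Vy' hVW = 𝟙 _ := by
    rw [Scheme.Hom.appLE_comp_appLE]
    exact OmegaSh.id_appLE_eq_id hf' _
  have hsurjf : Function.Surjective (f.appLE U' Vy hVU).hom := fun c =>
    ⟨(g.appLE Vy U' hUV).hom c, congr($hπσ c)⟩
  have hsurjf' : Function.Surjective (f'.appLE W Vy' hVW).hom := fun c =>
    ⟨(g'.appLE Vy' W hWV).hom c, congr($hπσ' c)⟩
  -- algebra structures
  letI algCB : Algebra Γ(Y, Vy) Γ(X, U') := (g.appLE Vy U' hUV).hom.toAlgebra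
  letI algCC' : Algebra Γ(Y, Vy) Γ(Y', Vy') := (u.appLE Vy Vy' hVV).hom.toAlgebra
  letI algBB' : Algebra Γ(X, U') Γ(X', W) := (v.appLE U' W hWU).hom.toAlgebra
  letI algC'B' : Algebra Γ(Y', Vy') Γ(X', W) := (g'.appLE Vy' W hWV).hom.toAlgebra
  letI algCB' : Algebra Γ(Y, Vy) Γ(X', W) :=
    ((v.appLE U' W hWU).hom.comp (g.appLE Vy U' hUV).hom).toAlgebra
  haveI tw1 : IsScalarTower Γ(Y, Vy) Γ(X, U') Γ(X', W) :=
    IsScalarTower.of_algebraMap_eq (fun _ => rfl)
  have hpo := ProdChart.isPushout_appLE hsq.flip hVa hVa' hU' hVV hUV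
  haveI tw2 : IsScalarTower Γ(Y, Vy) Γ(Y', Vy') Γ(X', W) :=
    IsScalarTower.of_algebraMap_eq (fun x => (congr($(hpo.w) x)).symm)
  haveI hAP : Algebra.IsPushout Γ(Y, Vy) Γ(Y', Vy') Γ(X, U') Γ(X', W) :=
    (CommRingCat.isPushout_iff_isPushout (R := Γ(Y, Vy)) (R' := Γ(Y', Vy')) (S := Γ(X, U'))
      (S' := Γ(X', W))).mp hpo
  set K := f.ker ^ 1 with hKdef
  letI modCP : Module Γ(Y, Vy) Γ(ClSub.idealMod K, U') :=
    Module.compHom _ (g.appLE Vy U' hUV).hom
  haveI twP : IsScalarTower Γ(Y, Vy) Γ(X, U') Γ(ClSub.idealMod K, U') :=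
    ⟨fun c b p => by
      change ((g.appLE Vy U' hUV).hom c * b) • p = (g.appLE Vy U' hUV).hom c • (b • p)
      rw [mul_smul]⟩
  have hKid : K.ideal ⟨U', hU'⟩ = RingHom.ker (f.app U').hom := by
    rw [hKdef, pow_one, Scheme.Hom.ker_apply]
  have hresinj : Function.Injective (Y.presheaf.map (homOfLE hVU).op).hom :=
    Groth.Agent.Lib.R2H3.PnKer.presheaf_map_injective_of_eq hfU.symm hVU
  have hπ0 : ∀ b : Γ(X, U'), (f.appLE U' Vy hVU).hom b = 0 → b ∈ K.ideal ⟨U', hU'⟩ := by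
    intro b hb
    rw [hKid, RingHom.mem_ker]
    apply hresinj
    rw [map_zero]
    exact hb
  have hπ0' : ∀ b : Γ(X, U'), b ∈ K.ideal ⟨U', hU'⟩ → (f.appLE U' Vy hVU).hom b = 0 := by
    intro b hb
    rw [hKid, RingHom.mem_ker] at hb
    change (Y.presheaf.map (homOfLE hVU).op).hom ((f.app U').hom b) = 0
    rw [hb, map_zero]
  have hπσc : ∀ c : Γ(Y, Vy), (f.appLE U' Vy hVU).hom ((g.appLE Vy U' hUV).hom c) = c :=
    fun c => congr($hπσ c)
  have hmem : ∀ b : Γ(X, U'),
      b - (g.appLE Vy U' hUV).hom ((f.appLE U' Vy hVU).hom b) ∈ K.ideal ⟨U', hU'⟩ := by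
    intro b
    apply hπ0
    rw [map_sub, hπσc, sub_self]
  let r : Γ(X, U') →ₗ[Γ(Y, Vy)] Γ(ClSub.idealMod K, U') :=
    { toFun := fun b => (IdealModFin.idealModEquiv K ⟨U', hU'⟩).symm ⟨_, hmem b⟩
      map_add' := fun a b => by
        rw [← map_add (IdealModFin.idealModEquiv K ⟨U', hU'⟩).symm]
        congr 1
        apply Subtype.ext
        change a + b - (g.appLE Vy U' hUV).hom ((f.appLE U' Vy hVU).hom (a + b)) =
          (a - (g.appLE Vy U' hUV).hom ((f.appLE U' Vy hVU).hom a)) +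
          (b - (g.appLE Vy U' hUV).hom ((f.appLE U' Vy hVU).hom b))
        rw [map_add, map_add]
        ring
      map_smul' := fun c b => by
        change (IdealModFin.idealModEquiv K ⟨U', hU'⟩).symm ⟨_, hmem ((g.appLE Vy U' hUV).hom c * b)⟩ =
          (g.appLE Vy U' hUV).hom c • (IdealModFin.idealModEquiv K ⟨U', hU'⟩).symm ⟨_, hmem b⟩
        rw [← map_smul (IdealModFin.idealModEquiv K ⟨U', hU'⟩).symm]
        congr 1
        apply Subtype.ext
        change (g.appLE Vy U' hUV).hom c * b -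
            (g.appLE Vy U' hUV).hom ((f.appLE U' Vy hVU).hom ((g.appLE Vy U' hUV).hom c * b)) =
          (g.appLE Vy U' hUV).hom c * (b - (g.appLE Vy U' hUV).hom ((f.appLE U' Vy hVU).hom b))
        rw [map_mul, hπσc, map_mul]
        ring }
  have hr : ∀ s, r (GrChart.idealSectₗ K U' s) = s := by
    intro s
    apply idealSect_injective
    have h1 := (IdealModFin.idealModEquiv K ⟨U', hU'⟩).apply_symm_apply
      ⟨_, hmem (GrChart.idealSectₗ K U' s)⟩
    refine (congrArg Subtype.val h1).trans ?_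
    change GrChart.idealSectₗ K U' s - (g.appLE Vy U' hUV).hom
      ((f.appLE U' Vy hVU).hom (GrChart.idealSectₗ K U' s)) = _
    have h2 : (f.appLE U' Vy hVU).hom (GrChart.idealSectₗ K U' s) = 0 :=
      hπ0' _ (IdealModFin.idealSect_mem K ⟨U', hU'⟩ s)
    rw [h2, map_zero, sub_zero]
    rfl
  have hinj : Function.Injective (LinearMap.lTensor Γ(X', W) (GrChart.idealSectₗ K U')) :=
    lTensor_injective_of_pushout_retraction (C := Γ(Y, Vy)) (C' := Γ(Y', Vy'))
      (GrChart.idealSectₗ K U') r hr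
  exact GrChart.injective_app_chart f v u f' 1 hK φ hφ hW hU' hVa hVa' hWU hVU hVW hVV hsurjf
    hsurjf' rfl hinj

end chart

end Aux


/-- Let g : X ⟶ Y be a morphism with a section f : Y ⟶ X which is a closed immersion, u : Y' ⟶ Y a
morphism, X' a fibre product of X and Y' over Y with projections v : X' ⟶ X and g' : X' ⟶ Y', and f'
: Y' ⟶ X' the induced section of g' (so f' ≫ g' = 𝟙 and f' ≫ v = u ≫ f). Let φ : u^* Gr_1(f) ⟶
Gr_1(f') be the canonical O_{Y'}-linear map between the conormal sheaves I/I² and I'/I'² of f and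
f'. Then φ is an isomorphism. (The published statement allows any section f, and also identifies,
for every n, the n-th infinitesimal neighbourhood of f', as a scheme over X' and as a scheme affine
over Y', with the base change of the n-th infinitesimal neighbourhood of f along v and along u; this
row assumes f a closed immersion, the case in which the conormal sheaves are formed here, and states
only the assertion on conormal sheaves.) -/
theorem result {X Y X' Y' : Scheme.{u}} (g : X ⟶ Y) (f : Y ⟶ X)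
    [IsClosedImmersion f] (hf : f ≫ g = 𝟙 Y) (u : Y' ⟶ Y) (v : X' ⟶ X) (g' : X' ⟶ Y')
    (hsq : IsPullback v g' g u) (f' : Y' ⟶ X') (hf' : f' ≫ g' = 𝟙 Y') (hf'v : f' ≫ v = u ≫ f)
    (φ : (Scheme.Modules.pullback u).obj (PrinPart.grMod f 1) ⟶ PrinPart.grMod f' 1)
    (hφ : PrinPart.IsGrMap f' f v u 1 φ) :
    IsIso φ := by
  have hsq' := Aux.isPullback_section g f hf u v g' hsq f' hf' hf'v
  have hepi : Epi φ := Groth.Agent.S5952.result f v u f' hsq' 1 φ hφ
  have hmono : Mono φ := by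
    let B : Set Y'.Opens := {V' | IsAffineOpen V' ∧ ∃ (U' : X.Opens) (Vy : Y.Opens),
      IsAffineOpen U' ∧ IsAffineOpen Vy ∧ U' ≤ g ⁻¹ᵁ Vy ∧ V' ≤ u ⁻¹ᵁ Vy ∧ f ⁻¹ᵁ U' = Vy}
    have hB : Opens.IsBasis B := by
      rw [Opens.isBasis_iff_nbhd]
      intro V y' hy'
      have hfg : ∀ z : Y, g (f z) = z := by
        intro z
        rw [← Scheme.Hom.comp_apply, hf]
        rfl
      -- step 1
      obtain ⟨_, ⟨U0, hU0, rfl⟩, hxU0, -⟩ :=
        X.isBasis_affineOpens.exists_subset_of_mem_open (Set.mem_univ (f (u y'))) isOpen_univ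
      let V0 : Y.Opens := f ⁻¹ᵁ U0
      have hV0 : IsAffineOpen V0 := hU0.preimage f
      have hyV0 : u y' ∈ V0 := hxU0
      -- step 3
      have hxN : f (u y') ∈ U0 ⊓ g ⁻¹ᵁ V0 := by
        refine ⟨hxU0, ?_⟩
        change g (f (u y')) ∈ V0
        rw [hfg]
        exact hyV0
      obtain ⟨b, hbN, hxb⟩ := hU0.exists_basicOpen_le (V := U0 ⊓ g ⁻¹ᵁ V0) ⟨f (u y'), hxN⟩ hxU0
      let U1 : X.Opens := X.basicOpen b
      have hU1 : IsAffineOpen U1 := hU0.basicOpen b
      let V1 : Y.Opens := f ⁻¹ᵁ U1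
      have hV1 : IsAffineOpen V1 := hU1.preimage f
      have hU1V0 : U1 ≤ g ⁻¹ᵁ V0 := hbN.trans inf_le_right
      have hV1V0 : V1 ≤ V0 := f.preimage_mono (X.basicOpen_le b)
      -- step 5
      let U2 : X.Opens := (𝟙 X) ⁻¹ᵁ U1 ⊓ g ⁻¹ᵁ V1
      have hU2 : IsAffineOpen U2 :=
        ProdChart.isAffineOpen_inf (p := 𝟙 X) (q := g) (a := g) (b := 𝟙 Y)
          (IsPullback.of_horiz_isIso ⟨by rw [Category.id_comp, Category.comp_id]⟩)
          hV0 hU1 hV1 hU1V0 hV1V0
      have hfU2 : f ⁻¹ᵁ U2 = V1 := by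
        ext z
        constructor
        · intro hz
          exact hz.1
        · intro hz
          refine ⟨hz, ?_⟩
          change g (f z) ∈ V1
          rw [hfg]
          exact hz
      have hy'V1 : u y' ∈ V1 := hxb
      -- step 7
      have hy'2 : y' ∈ V ⊓ u ⁻¹ᵁ V1 := ⟨hy', hy'V1⟩
      obtain ⟨_, ⟨Vy', hVy', rfl⟩, hyVy', hVy'le⟩ :=
        Y'.isBasis_affineOpens.exists_subset_of_mem_open hy'2 (V ⊓ u ⁻¹ᵁ V1).isOpen
      refine ⟨Vy', ⟨hVy', U2, V1, hU2, hV1, inf_le_right, fun z hz => (hVy'le hz).2, hfU2⟩, hyVy',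
        fun z hz => (hVy'le hz).1⟩
    refine Groth.Agent.Helper18OmLS.mono_of_injective_app_basis _ B hB ?_
    rintro V' ⟨hV', U', Vy, hU', hVy, hUV, hVV, hfU⟩
    exact Aux.injective_chart g f hf u v g' hsq f' hf' hf'v φ hφ hU' hVy hV' hUV hVV hfU
  exact isIso_of_mono_of_epi _

end Groth.Agent.S5963
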