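import Groth.Statements.S5964
import Mathlib
import Groth.Agent.S5952
import Groth.Agent.S5963
import Groth.Agent.Lib.R2H3GrChart
import Groth.Agent.Lib.R2H3ProdChart
import Groth.Agent.Lib.R2H3PnKer
import Groth.Agent.Lib.R2H3FlatGr
import Groth.Agent.Lib.Helper2LocFree


set_option autoImplicit false
set_option linter.style.haveILetI false
set_option linter.unusedSectionVars false
universe u
open CategoryTheory CategoryTheory.Limits AlgebraicGeometry TopologicalSpace Opposite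
open Nrm16

namespace Groth.Agent.S5964

open Groth.Agent.Lib.R2H3 Groth.Agent.Helper18OmLS Groth.Agent.Helper13PullbackUnit
open TensorProduct

namespace Aux

section chart

variable {X Y X' Y' : Scheme.{u}} (g : X ⟶ Y) (f : Y ⟶ X)
    [IsClosedImmersion f] (hf : f ≫ g = 𝟙 Y) (u : Y' ⟶ Y) (v : X' ⟶ X) (g' : X' ⟶ Y')
    (hsq : IsPullback v g' g u) (f' : Y' ⟶ X') (hf' : f' ≫ g' = 𝟙 Y') (hf'v : f' ≫ v = u ≫ f)
    (m : ℕ) (hflat : ∀ k ≤ m, FlatMod.IsFlat (PrinPart.grMod f k)) {n : ℕ} (hn : n ≤ m)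
    (φ : (Scheme.Modules.pullback u).obj (PrinPart.grMod f n) ⟶ PrinPart.grMod f' n)
    (hφ : PrinPart.IsGrMap f' f v u n φ)

variable {U' : X.Opens} {Vy : Y.Opens} {Vy' : Y'.Opens}
    (hU' : IsAffineOpen U') (hVa : IsAffineOpen Vy) (hVa' : IsAffineOpen Vy')
    (hUV : U' ≤ g ⁻¹ᵁ Vy) (hVV : Vy' ≤ u ⁻¹ᵁ Vy) (hfU : f ⁻¹ᵁ U' = Vy)

include hf hf' hf'v hsq hφ hU' hVa hVa' hUV hVV hfU hflat hn in
theorem injective_chart : Function.Injective (φ.app Vy') := by
  have hsq' := Groth.Agent.S5963.Aux.isPullback_section g f hf u v g' hsq f' hf' hf'v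
  haveI : IsClosedImmersion f' := MorphismProperty.of_isPullback hsq' inferInstance
  have hK : f'.ker ^ n = (f.ker ^ n).comap v := by
    rw [ComapPow.comap_pow, ComapPow.ker_eq_comap_of_isPullback f v u f' hsq']
  set W : X'.Opens := g' ⁻¹ᵁ Vy' ⊓ v ⁻¹ᵁ U' with hWdef
  have hW : IsAffineOpen W := ProdChart.isAffineOpen_inf hsq.flip hVa hVa' hU' hVV hUV
  have hWU : W ≤ v ⁻¹ᵁ U' := inf_le_right
  have hWV : W ≤ g' ⁻¹ᵁ Vy' := inf_le_left
  have hVU : Vy ≤ f ⁻¹ᵁ U' := hfU.ge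
  have hVW : Vy' ≤ f' ⁻¹ᵁ W := by
    intro z hz
    refine ⟨?_, ?_⟩
    · change (f' ≫ g') z ∈ Vy'
      rw [hf']
      exact hz
    · change (f' ≫ v) z ∈ U'
      rw [hf'v]
      have h1 : u z ∈ Vy := hVV hz
      rw [← hfU] at h1
      exact h1
  -- sections
  have hπσ : g.appLE Vy U' hUV ≫ f.appLE U' Vy hVU = 𝟙 _ := by
    rw [Scheme.Hom.appLE_comp_appLE]
    exact OmegaSh.id_appLE_eq_id hf _
  have hπσ' : g'.appLE Vy' W hWV ≫ f'.appLE W Vy' hVW = 𝟙 _ := by
    rw [Scheme.Hom.appLE_comp_appLE]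
    exact OmegaSh.id_appLE_eq_id hf' _
  have hsurjf : Function.Surjective (f.appLE U' Vy hVU).hom := fun c =>
    ⟨(g.appLE Vy U' hUV).hom c, congr($hπσ c)⟩
  have hsurjf' : Function.Surjective (f'.appLE W Vy' hVW).hom := fun c =>
    ⟨(g'.appLE Vy' W hWV).hom c, congr($hπσ' c)⟩
  -- algebra structures
  letI algCB : Algebra Γ(Y, Vy) Γ(X, U') := (g.appLE Vy U' hUV).hom.toAlgebra
  letI algCC' : Algebra Γ(Y, Vy) Γ(Y', Vy') := (u.appLE Vy Vy' hVV).hom.toAlgebra
  letI algBB' : Algebra Γ(X, U') Γ(X', W) := (v.appLE U' W hWU).hom.toAlgebra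
  letI algC'B' : Algebra Γ(Y', Vy') Γ(X', W) := (g'.appLE Vy' W hWV).hom.toAlgebra
  letI algCB' : Algebra Γ(Y, Vy) Γ(X', W) :=
    ((v.appLE U' W hWU).hom.comp (g.appLE Vy U' hUV).hom).toAlgebra
  haveI tw1 : IsScalarTower Γ(Y, Vy) Γ(X, U') Γ(X', W) :=
    IsScalarTower.of_algebraMap_eq (fun _ => rfl)
  have hpo := ProdChart.isPushout_appLE hsq.flip hVa hVa' hU' hVV hUV
  haveI tw2 : IsScalarTower Γ(Y, Vy) Γ(Y', Vy') Γ(X', W) :=
    IsScalarTower.of_algebraMap_eq (fun x => (congr($(hpo.w) x)).symm)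
  haveI hAP : Algebra.IsPushout Γ(Y, Vy) Γ(Y', Vy') Γ(X, U') Γ(X', W) :=
    (CommRingCat.isPushout_iff_isPushout (R := Γ(Y, Vy)) (R' := Γ(Y', Vy')) (S := Γ(X, U'))
      (S' := Γ(X', W))).mp hpo
  set K := f.ker ^ n with hKdef
  letI modCP : Module Γ(Y, Vy) Γ(ClSub.idealMod K, U') :=
    Module.compHom _ (g.appLE Vy U' hUV).hom
  haveI twP : IsScalarTower Γ(Y, Vy) Γ(X, U') Γ(ClSub.idealMod K, U') :=
    ⟨fun c b p => by
      change ((g.appLE Vy U' hUV).hom c * b) • p = (g.appLE Vy U' hUV).hom c • (b • p)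
      rw [mul_smul]⟩
  have hresinj : Function.Injective (Y.presheaf.map (homOfLE hVU).op).hom :=
    Groth.Agent.Lib.R2H3.PnKer.presheaf_map_injective_of_eq hfU.symm hVU
  letI algBC : Algebra Γ(X, U') Γ(Y, Vy) := (f.appLE U' Vy hVU).hom.toAlgebra
  have hπσc : ∀ c : Γ(Y, Vy), algebraMap Γ(X, U') Γ(Y, Vy) (algebraMap Γ(Y, Vy) Γ(X, U') c) = c :=
    fun c => congr($hπσ c)
  let I : ℕ → Ideal Γ(X, U') := fun k => (f.ker ^ k).ideal ⟨U', hU'⟩
  have hIk : ∀ k, I k = (RingHom.ker (f.app U').hom) ^ k := by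
    intro k
    change (f.ker ^ k).ideal ⟨U', hU'⟩ = _
    rw [Scheme.IdealSheafData.ideal_pow, Pi.pow_apply, Scheme.Hom.ker_apply]
  have hJ : RingHom.ker (algebraMap Γ(X, U') Γ(Y, Vy)) = RingHom.ker (f.app U').hom := by
    ext b
    rw [RingHom.mem_ker, RingHom.mem_ker]
    constructor
    · intro hb
      apply hresinj
      rw [map_zero]
      exact hb
    · intro hb
      change (Y.presheaf.map (homOfLE hVU).op).hom ((f.app U').hom b) = 0
      rw [hb, map_zero]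
  have h0 : I 0 = ⊤ := by rw [hIk, pow_zero, Ideal.one_eq_top]
  have hs : ∀ k, I (k + 1) = RingHom.ker (algebraMap Γ(X, U') Γ(Y, Vy)) * I k := by
    intro k
    rw [hIk, hIk, hJ, pow_succ']
  have hfl : ∀ k < n, Module.Flat Γ(Y, Vy) (Γ(Y, Vy) ⊗[Γ(X, U')] ↥(I k)) := by
    intro k hk
    have hkm : k ≤ m := (Nat.le_of_lt hk).trans hn
    haveI : (ClSub.idealMod (f.ker ^ k)).IsQuasicoherent := inferInstance
    haveI : (PrinPart.grMod f k).IsQuasicoherent :=
      Groth.Agent.Lib.Helper20.PullbackAff.isQuasicoherent_pullback f (ClSub.idealMod (f.ker ^ k))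
    haveI h1 : Module.Flat Γ(Y, Vy)
        Γ((Scheme.Modules.pullback f).obj (ClSub.idealMod (f.ker ^ k)), Vy) :=
      Groth.Agent.Lib.Helper2.LocFree.flat_sections_of_isFlatAt (PrinPart.grMod f k) hVa
        (fun x _ => hflat k hkm x)
    obtain ⟨e, -⟩ := exists_pullback_equiv f (ClSub.idealMod (f.ker ^ k)) hVU hU' hVa rfl
    let e2 := TensorProduct.AlgebraTensorModule.congr (LinearEquiv.refl Γ(Y, Vy) Γ(Y, Vy))
      (IdealModFin.idealModEquiv (f.ker ^ k) ⟨U', hU'⟩)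
    exact Module.Flat.of_linearEquiv (e2.symm.trans e)
  have hinjC := FlatGr.lTensor_injective_of_flat_gr hπσc I h0 hs n hfl Γ(Y', Vy')
  have hinj : Function.Injective (LinearMap.lTensor Γ(X', W) (GrChart.idealSectₗ K U')) := by
    apply FlatGr.lTensor_injective_of_pushout (C := Γ(Y, Vy)) (C' := Γ(Y', Vy'))
    let e := (IdealModFin.idealModEquiv K ⟨U', hU'⟩).restrictScalars Γ(Y, Vy)
    have hcomp : (GrChart.idealSectₗ K U').restrictScalars Γ(Y, Vy) =
        ((I n).subtype.restrictScalars Γ(Y, Vy)).comp e.toLinearMap := rfl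
    rw [hcomp, LinearMap.lTensor_comp]
    refine hinjC.comp ?_
    exact (LinearEquiv.lTensor Γ(Y', Vy') e).injective
  exact GrChart.injective_app_chart f v u f' n hK φ hφ hW hU' hVa hVa' hWU hVU hVW hVV hsurjf
    hsurjf' rfl hinj

end chart

end Aux

/-- Let g : X ⟶ Y be a morphism with a section f : Y ⟶ X which is a closed immersion, u : Y' ⟶ Y a
morphism, X' a fibre product of X and Y' over Y with projections v : X' ⟶ X and g' : X' ⟶ Y', and f'
: Y' ⟶ X' the induced section of g'. Let m be such that the graded pieces Gr_k(f) = I^k/I^(k+1) of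
the ideal of f are flat O_Y-modules for every k ≤ m. Then for every n ≤ m the canonical
O_{Y'}-linear map φ : u^* Gr_n(f) ⟶ Gr_n(f') is an isomorphism. (The published statement allows any
section f, and also covers the case u flat, in which the conclusion holds for every n with no
flatness hypothesis on the graded pieces; this row assumes f a closed immersion, the case in which
the graded pieces are formed here, and states only the case of flat graded pieces.) -/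
theorem result {X Y X' Y' : Scheme.{u}} (g : X ⟶ Y) (f : Y ⟶ X)
    [IsClosedImmersion f] (hf : f ≫ g = 𝟙 Y) (u : Y' ⟶ Y) (v : X' ⟶ X) (g' : X' ⟶ Y')
    (hsq : IsPullback v g' g u) (f' : Y' ⟶ X') (hf' : f' ≫ g' = 𝟙 Y') (hf'v : f' ≫ v = u ≫ f)
    (m : ℕ) (hflat : ∀ k ≤ m, FlatMod.IsFlat (PrinPart.grMod f k)) {n : ℕ} (hn : n ≤ m)
    (φ : (Scheme.Modules.pullback u).obj (PrinPart.grMod f n) ⟶ PrinPart.grMod f' n)
    (hφ : PrinPart.IsGrMap f' f v u n φ) :
    IsIso φ := by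
  have hsq' := Groth.Agent.S5963.Aux.isPullback_section g f hf u v g' hsq f' hf' hf'v
  have hepi : Epi φ := Groth.Agent.S5952.result f v u f' hsq' n φ hφ
  have hmono : Mono φ := by
    let B : Set Y'.Opens := {V' | IsAffineOpen V' ∧ ∃ (U' : X.Opens) (Vy : Y.Opens),
      IsAffineOpen U' ∧ IsAffineOpen Vy ∧ U' ≤ g ⁻¹ᵁ Vy ∧ V' ≤ u ⁻¹ᵁ Vy ∧ f ⁻¹ᵁ U' = Vy}
    have hB : Opens.IsBasis B := by
      rw [Opens.isBasis_iff_nbhd]
      intro V y' hy'
      have hfg : ∀ z : Y, g (f z) = z := by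
        intro z
        rw [← Scheme.Hom.comp_apply, hf]
        rfl
      -- step 1
      obtain ⟨_, ⟨U0, hU0, rfl⟩, hxU0, -⟩ :=
        X.isBasis_affineOpens.exists_subset_of_mem_open (Set.mem_univ (f (u y'))) isOpen_univ
      let V0 : Y.Opens := f ⁻¹ᵁ U0
      have hV0 : IsAffineOpen V0 := hU0.preimage f
      have hyV0 : u y' ∈ V0 := hxU0
      -- step 3
      have hxN : f (u y') ∈ U0 ⊓ g ⁻¹ᵁ V0 := by
        refine ⟨hxU0, ?_⟩
        change g (f (u y')) ∈ V0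
        rw [hfg]
        exact hyV0
      obtain ⟨b, hbN, hxb⟩ := hU0.exists_basicOpen_le (V := U0 ⊓ g ⁻¹ᵁ V0) ⟨f (u y'), hxN⟩ hxU0
      let U1 : X.Opens := X.basicOpen b
      have hU1 : IsAffineOpen U1 := hU0.basicOpen b
      let V1 : Y.Opens := f ⁻¹ᵁ U1
      have hV1 : IsAffineOpen V1 := hU1.preimage f
      have hU1V0 : U1 ≤ g ⁻¹ᵁ V0 := hbN.trans inf_le_right
      have hV1V0 : V1 ≤ V0 := f.preimage_mono (X.basicOpen_le b)
      -- step 5
      let U2 : X.Opens := (𝟙 X) ⁻¹ᵁ U1 ⊓ g ⁻¹ᵁ V1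
      have hU2 : IsAffineOpen U2 :=
        ProdChart.isAffineOpen_inf (p := 𝟙 X) (q := g) (a := g) (b := 𝟙 Y)
          (IsPullback.of_horiz_isIso ⟨by rw [Category.id_comp, Category.comp_id]⟩)
          hV0 hU1 hV1 hU1V0 hV1V0
      have hfU2 : f ⁻¹ᵁ U2 = V1 := by
        ext z
        constructor
        · intro hz
          exact hz.1
        · intro hz
          refine ⟨hz, ?_⟩
          change g (f z) ∈ V1
          rw [hfg]
          exact hz
      have hy'V1 : u y' ∈ V1 := hxb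
      -- step 7
      have hy'2 : y' ∈ V ⊓ u ⁻¹ᵁ V1 := ⟨hy', hy'V1⟩
      obtain ⟨_, ⟨Vy', hVy', rfl⟩, hyVy', hVy'le⟩ :=
        Y'.isBasis_affineOpens.exists_subset_of_mem_open hy'2 (V ⊓ u ⁻¹ᵁ V1).isOpen
      refine ⟨Vy', ⟨hVy', U2, V1, hU2, hV1, inf_le_right, fun z hz => (hVy'le hz).2, hfU2⟩, hyVy',
        fun z hz => (hVy'le hz).1⟩
    refine Groth.Agent.Helper18OmLS.mono_of_injective_app_basis _ B hB ?_
    rintro V' ⟨hV', U', Vy, hU', hVy, hUV, hVV, hfU⟩
    exact Aux.injective_chart g f hf u v g' hsq f' hf' hf'v m hflat hn φ hφ hU' hVy hV' hUV hVV hfU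
  exact isIso_of_mono_of_epi _

end Groth.Agent.S5964
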