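import Groth.Statements.S5966
import Mathlib
-- import your own Groth.Agent.* helpers here

set_option autoImplicit false
universe u
open CategoryTheory CategoryTheory.Limits AlgebraicGeometry TopologicalSpace Opposite
open Nrm16

namespace Groth.Agent.S5966

namespace Aux

section general

variable {C : Type u} [SmallCategory C] (J : GrothendieckTopology C) (R : Sheaf J RingCat.{u})

/-- the forgetful functor from sheaves of modules to sheaves of abelian groups preserves colimits -/
theorem preservesColimitsOfShape_toSheaf (K : Type u) [SmallCategory K] :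
    PreservesColimitsOfShape K (SheafOfModules.toSheaf.{u} R) := by
  constructor
  intro F
  let a := PresheafOfModules.sheafification.{u} (𝟙 R.obj)
  let e : F ≅ (F ⋙ SheafOfModules.forget R) ⋙ a :=
    Functor.isoWhiskerLeft F
      (asIso (PresheafOfModules.sheafificationAdjunction (𝟙 R.obj)).counit).symm
  have h1 : PreservesColimit ((F ⋙ SheafOfModules.forget R) ⋙ a) (SheafOfModules.toSheaf.{u} R) := by
    have hc := isColimitOfPreserves a (colimit.isColimit (F ⋙ SheafOfModules.forget R))
    apply preservesColimit_of_preserves_colimit_cocone hc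
    have : PreservesColimitsOfShape K (a ⋙ SheafOfModules.toSheaf.{u} R) :=
      preservesColimitsOfShape_of_natIso
        (PresheafOfModules.sheafificationCompToSheaf.{u} (𝟙 R.obj)).symm
    exact isColimitOfPreserves (a ⋙ SheafOfModules.toSheaf.{u} R)
      (colimit.isColimit (F ⋙ SheafOfModules.forget R))
  exact preservesColimit_of_iso_diagram _ e.symm

end general

section top

variable {Y Z : TopCat.{u}} (H : Y ≅ Z)

/-- pushforward of abelian sheaves along a homeomorphism is a left adjoint -/
noncomputable def sheafPushforwardAdj :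
    TopCat.Sheaf.pushforward Ab.{u} H.hom ⊣ TopCat.Sheaf.pushforward Ab.{u} H.inv :=
  Adjunction.restrictFullyFaithful (iC := TopCat.Sheaf.forget Ab.{u} Y)
    (iD := TopCat.Sheaf.forget Ab.{u} Z)
    (TopCat.Presheaf.presheafEquivOfIso Ab.{u} H).toAdjunction
    (fullyFaithfulSheafToPresheaf _ _) (fullyFaithfulSheafToPresheaf _ _)
    (Iso.refl _) (Iso.refl _)

end top

variable {X S : Scheme.{u}} (f : X ⟶ S) (n : ℕ)

theorem pr1_toNbhd (x : X) : PrinPart.pr1 f n (PrinPart.toNbhd f n x) = x := by
  rw [← Scheme.Hom.comp_apply, PrinPart.toNbhd_pr1]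
  rfl

theorem toNbhd_pr1_apply (z : PrinPart.nbhd f n) :
    PrinPart.toNbhd f n (PrinPart.pr1 f n z) = z := by
  obtain ⟨y, rfl⟩ := PrinPart.toInfNbhd_surjective (PrinPart.diagCl f) n z
  rw [pr1_toNbhd]

/-- the first projection is a homeomorphism -/
noncomputable def pr1Iso : (PrinPart.nbhd f n).toTopCat ≅ X.toTopCat where
  hom := (PrinPart.pr1 f n).base
  inv := (PrinPart.toNbhd f n).base
  hom_inv_id := by
    ext z
    exact toNbhd_pr1_apply f n z
  inv_hom_id := by
    ext x
    exact pr1_toNbhd f n x

end Aux

/-- Let f : X ⟶ S be a morphism of schemes and n a natural number. The functor F ↦ P^n_{X/S}(F),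
pullback along the second projection of the n-th infinitesimal neighbourhood of the diagonal
followed by pushforward along the first, from O_X-modules to O_X-modules, commutes with all small
colimits (in particular it is right exact). -/
theorem result {X S : Scheme.{u}} (f : X ⟶ S) (n : ℕ) :
    PreservesColimitsOfSize.{u, u}
      ((Scheme.Modules.pullback (PrinPart.pr2 f n)) ⋙ (Scheme.Modules.pushforward (PrinPart.pr1 f n))) := by
  have h1 : PreservesColimitsOfSize.{u, u} (Scheme.Modules.pullback (PrinPart.pr2 f n)) :=
    (Scheme.Modules.pullbackPushforwardAdjunction (PrinPart.pr2 f n)).leftAdjoint_preservesColimits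
  have h2 : PreservesColimitsOfSize.{u, u} (Scheme.Modules.pushforward (PrinPart.pr1 f n)) := by
    refine ⟨fun {K} _ => ?_⟩
    have e : Scheme.Modules.pushforward (PrinPart.pr1 f n) ⋙
        SheafOfModules.toSheaf X.ringCatSheaf =
        SheafOfModules.toSheaf (PrinPart.nbhd f n).ringCatSheaf ⋙
          TopCat.Sheaf.pushforward Ab (PrinPart.pr1 f n).base := rfl
    have hX : PreservesColimitsOfShape K (SheafOfModules.toSheaf X.ringCatSheaf) :=
      Aux.preservesColimitsOfShape_toSheaf _ _ K
    have hZ : PreservesColimitsOfShape K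
        (SheafOfModules.toSheaf (PrinPart.nbhd f n).ringCatSheaf) :=
      Aux.preservesColimitsOfShape_toSheaf _ _ K
    have hR : ReflectsColimitsOfShape K (SheafOfModules.toSheaf X.ringCatSheaf) :=
      reflectsColimitsOfShape_of_reflectsIsomorphisms
    have h3 : PreservesColimitsOfSize.{u, u}
        (TopCat.Sheaf.pushforward Ab (PrinPart.pr1 f n).base) :=
      (Aux.sheafPushforwardAdj (Aux.pr1Iso f n)).leftAdjoint_preservesColimits
    have h4 : PreservesColimitsOfShape K
        (TopCat.Sheaf.pushforward Ab (PrinPart.pr1 f n).base) := h3.preservesColimitsOfShape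
    have h5 : PreservesColimitsOfShape K (Scheme.Modules.pushforward (PrinPart.pr1 f n) ⋙
        SheafOfModules.toSheaf X.ringCatSheaf) := by
      rw [e]
      exact @comp_preservesColimitsOfShape _ _ _ _ _ _ _ _ _ _ hZ h4
    exact @preservesColimitsOfShape_of_reflects_of_preserves _ _ _ _ _ _ _ _
      (Scheme.Modules.pushforward (PrinPart.pr1 f n))
      (SheafOfModules.toSheaf X.ringCatSheaf) h5 hR
  infer_instance

end Groth.Agent.S5966
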