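import Groth.Statements.S5969
import Groth.Agent.Lib.R2H3ComapPow

set_option autoImplicit false
universe u
open CategoryTheory CategoryTheory.Limits AlgebraicGeometry TopologicalSpace Opposite
open Nrm16

namespace Groth.Agent.S5969

theorem diagonal_symm {X S : Scheme.{u}} (f : X ⟶ S) :
    pullback.diagonal f ≫ (pullbackSymmetry f f).hom = pullback.diagonal f := by
  apply pullback.hom_ext
  · rw [Category.assoc, pullbackSymmetry_hom_comp_fst, pullback.diagonal_snd, pullback.diagonal_fst]
  · rw [Category.assoc, pullbackSymmetry_hom_comp_snd, pullback.diagonal_snd, pullback.diagonal_fst]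

theorem symm_symm {X S : Scheme.{u}} (f : X ⟶ S) :
    (pullbackSymmetry f f).hom ≫ (pullbackSymmetry f f).hom = 𝟙 _ := by
  apply pullback.hom_ext
  · rw [Category.assoc, pullbackSymmetry_hom_comp_fst, pullbackSymmetry_hom_comp_snd,
      Category.id_comp]
  · rw [Category.assoc, pullbackSymmetry_hom_comp_snd, pullbackSymmetry_hom_comp_fst,
      Category.id_comp]

theorem symm_apply_apply {X S : Scheme.{u}} (f : X ⟶ S) (x : ↥(pullback f f)) :
    (pullbackSymmetry f f).hom ((pullbackSymmetry f f).hom x) = x := by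
  rw [← Scheme.Hom.comp_apply, symm_symm]
  rfl

theorem symm_preimage_range {X S : Scheme.{u}} (f : X ⟶ S) :
    (pullbackSymmetry f f).hom ⁻¹' Set.range (pullback.diagonal f) =
      Set.range (pullback.diagonal f) := by
  ext x
  constructor
  · rintro ⟨y, hy⟩
    refine ⟨y, ?_⟩
    have h1 := congrArg (fun z => (pullbackSymmetry f f).hom z) hy
    simp only [symm_apply_apply] at h1
    rw [← h1, ← Scheme.Hom.comp_apply, diagonal_symm]
  · rintro ⟨y, rfl⟩
    refine ⟨y, ?_⟩
    rw [← Scheme.Hom.comp_apply, diagonal_symm]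

theorem symm_mem_coborderRange {X S : Scheme.{u}} (f : X ⟶ S) (x : ↥(pullback f f))
    (hx : x ∈ (pullback.diagonal f).coborderRange) :
    (pullbackSymmetry f f).hom x ∈ (pullback.diagonal f).coborderRange := by
  have h1 : coborder ((pullbackSymmetry f f).hom ⁻¹' Set.range (pullback.diagonal f)) =
      (pullbackSymmetry f f).hom ⁻¹' coborder (Set.range (pullback.diagonal f)) :=
    coborder_preimage (Scheme.homeoOfIso (pullbackSymmetry f f)).isOpenMap
      (pullbackSymmetry f f).hom.continuous _
  rw [symm_preimage_range] at h1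
  have h2 : x ∈ coborder (Set.range (pullback.diagonal f)) := hx
  rw [h1] at h2
  exact h2

/-- Let f : X ⟶ S be a morphism of schemes and n a natural number. On the order-n infinitesimal
thickening of the diagonal of f there is an endomorphism σ which is compatible, under the immersion
into X ×_S X, with the symmetry exchanging the two factors; σ is an involution, it exchanges the two
projections to X (so it exchanges the two O_X-algebra structures of P^n_{X/S}) and it fixes the
diagonal section. -/
theorem result {X S : Scheme.{u}} (f : X ⟶ S) (n : ℕ) :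
    ∃ σ : PrinPart.nbhd f n ⟶ PrinPart.nbhd f n,
      σ ≫ PrinPart.nbhdι f n = PrinPart.nbhdι f n ≫ (pullbackSymmetry f f).hom ∧
      σ ≫ σ = 𝟙 (PrinPart.nbhd f n) ∧
      σ ≫ PrinPart.pr1 f n = PrinPart.pr2 f n ∧ σ ≫ PrinPart.pr2 f n = PrinPart.pr1 f n ∧
      PrinPart.toNbhd f n ≫ σ = PrinPart.toNbhd f n := by
  have hrange : Set.range ((pullback.diagonal f).coborderRange.ι ≫ (pullbackSymmetry f f).hom) ⊆
      Set.range (pullback.diagonal f).coborderRange.ι := by
    rintro _ ⟨x, rfl⟩
    rw [Scheme.Opens.range_ι]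
    rw [Scheme.Hom.comp_apply]
    exact symm_mem_coborderRange f _ x.2
  let sC := IsOpenImmersion.lift (pullback.diagonal f).coborderRange.ι
    ((pullback.diagonal f).coborderRange.ι ≫ (pullbackSymmetry f f).hom) hrange
  have hsC : sC ≫ (pullback.diagonal f).coborderRange.ι =
      (pullback.diagonal f).coborderRange.ι ≫ (pullbackSymmetry f f).hom :=
    IsOpenImmersion.lift_fac _ _ _
  have hsCsC : sC ≫ sC = 𝟙 _ := by
    rw [← cancel_mono (pullback.diagonal f).coborderRange.ι, Category.assoc, hsC, ← Category.assoc,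
      hsC, Category.assoc, symm_symm, Category.comp_id, Category.id_comp]
  have hdiag : PrinPart.diagCl f ≫ sC = PrinPart.diagCl f := by
    rw [← cancel_mono (pullback.diagonal f).coborderRange.ι, Category.assoc, hsC, ← Category.assoc,
      Scheme.Hom.liftCoborder_ι, diagonal_symm]
  have hK : (PrinPart.diagCl f).ker ≤
      ((PrinPart.diagCl f).ker.subschemeι ≫ sC).ker := by
    have h1 : (PrinPart.diagCl f).toImage ≫ (PrinPart.diagCl f).ker.subschemeι ≫ sC =
        PrinPart.diagCl f := by
      rw [← Category.assoc]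
      have := (PrinPart.diagCl f).toImage_imageι
      rw [Scheme.Hom.imageι] at this
      rw [this, hdiag]
    have h2 := Scheme.Hom.ker_comp_of_isIso (PrinPart.diagCl f).toImage
      ((PrinPart.diagCl f).ker.subschemeι ≫ sC)
    rw [h1] at h2
    rw [← h2]
  have hK' : (PrinPart.diagCl f).ker.comap sC ≤ (PrinPart.diagCl f).ker :=
    Scheme.IdealSheafData.le_map_iff_comap_le.mp hK
  have H : (PrinPart.infNbhdι (PrinPart.diagCl f) n).ker ≤
      (PrinPart.infNbhdι (PrinPart.diagCl f) n ≫ sC).ker := by
    rw [Groth.Agent.Lib.R2H3.ComapPow.ker_infNbhdι]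
    change _ ≤ ((PrinPart.diagCl f).ker ^ (n + 1)).map sC
    rw [Scheme.IdealSheafData.le_map_iff_comap_le, Groth.Agent.Lib.R2H3.ComapPow.comap_pow]
    intro U
    exact Ideal.pow_right_mono (hK' U) _
  let σ := IsClosedImmersion.lift (PrinPart.infNbhdι (PrinPart.diagCl f) n)
    (PrinPart.infNbhdι (PrinPart.diagCl f) n ≫ sC) H
  have hσ : σ ≫ PrinPart.infNbhdι (PrinPart.diagCl f) n =
      PrinPart.infNbhdι (PrinPart.diagCl f) n ≫ sC := IsClosedImmersion.lift_fac _ _ _
  have hσι : σ ≫ PrinPart.nbhdι f n = PrinPart.nbhdι f n ≫ (pullbackSymmetry f f).hom := by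
    unfold PrinPart.nbhdι
    rw [← Category.assoc, hσ, Category.assoc, hsC, Category.assoc]
  refine ⟨σ, hσι, ?_, ?_, ?_, ?_⟩
  · rw [← cancel_mono (PrinPart.infNbhdι (PrinPart.diagCl f) n), Category.assoc, hσ,
      ← Category.assoc, hσ, Category.assoc, hsCsC, Category.comp_id, Category.id_comp]
  · unfold PrinPart.pr1 PrinPart.pr2
    rw [← Category.assoc, hσι, Category.assoc, pullbackSymmetry_hom_comp_fst]
  · unfold PrinPart.pr1 PrinPart.pr2
    rw [← Category.assoc, hσι, Category.assoc, pullbackSymmetry_hom_comp_snd]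
  · rw [← cancel_mono (PrinPart.infNbhdι (PrinPart.diagCl f) n), Category.assoc, hσ,
      ← Category.assoc, PrinPart.toInfNbhd_ι, hdiag]

end Groth.Agent.S5969
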