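import Groth.Statements.S5967
import Mathlib
import Groth.Agent.S5969
import Groth.Agent.Lib.R2H3PnBCGeo
import Groth.Agent.Lib.Helper2LocFree
import Groth.Agent.Lib.Helper1Sky3
import Groth.Agent.Lib.R2LeadTensorExact


set_option autoImplicit false
set_option linter.style.haveILetI false
set_option linter.unusedSectionVars false
universe u
open CategoryTheory CategoryTheory.Limits AlgebraicGeometry TopologicalSpace Opposite
open Nrm16

namespace Groth.Agent.S5967

open Groth.Agent.Lib.R2H3 Groth.Agent.Lib.R2H3.PnChart Groth.Agent.Lib.R2H3.PnKer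

namespace Aux

section

variable {X S : Scheme.{u}} (f : X ⟶ S) (n : ℕ)

theorem isAffineOpen_pr1_preimage {U : X.Opens} {T : S.Opens} (hU : IsAffineOpen U)
    (hT : IsAffineOpen T) (hUT : U ≤ f ⁻¹ᵁ T) : IsAffineOpen (PrinPart.pr1 f n ⁻¹ᵁ U) := by
  rw [pr1_preimage_eq]
  have hle : W0 f U ≤ (pullback.diagonal f).coborderRange := W0_le_coborderRange f hU hT hUT
  have hle' : W0 f U ≤ (pullback.diagonal f).coborderRange.ι.opensRange := by
    rw [Scheme.Opens.opensRange_ι]; exact hle
  have hV : IsAffineOpen ((pullback.diagonal f).coborderRange.ι ⁻¹ᵁ W0 f U) :=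
    (isAffineOpen_W0 f hU hT hUT).preimage_of_isOpenImmersion _ hle'
  exact hV.preimage (PrinPart.infNbhdι (PrinPart.diagCl f) n)

theorem thetaU_surjective (U : X.Opens) : Function.Surjective (thetaU f n U) := by
  have hsurj : Function.Surjective
      ((pullbackUnitHom (PrinPart.pr2 f n)).app (PrinPart.pr1 f n ⁻¹ᵁ U)) :=
    (ConcreteCategory.bijective_of_isIso
      ((pullbackUnitHom (PrinPart.pr2 f n)).app (PrinPart.pr1 f n ⁻¹ᵁ U))).2
  intro y
  obtain ⟨x, hx⟩ := hsurj y
  exact ⟨x, hx⟩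

theorem flat_pr1_app (hP : FlatMod.IsFlat (PrinPart.P f n)) {U : X.Opens} (hU : IsAffineOpen U) :
    ((PrinPart.pr1 f n).app U).hom.Flat := by
  haveI : (PrinPart.P f n).IsQuasicoherent := PnBCGeo.isQuasicoherent_P f n
  haveI h1 : Module.Flat Γ(X, U) Γ(PrinPart.P f n, U) :=
    Groth.Agent.Lib.Helper2.LocFree.flat_sections_of_isFlatAt (PrinPart.P f n) hU
      (fun x _ => hP x)
  letI := ((PrinPart.pr1 f n).app U).hom.toAlgebra
  let e : Γ(PrinPart.P f n, U) ≃ₗ[Γ(X, U)] Γ(PrinPart.nbhd f n, PrinPart.pr1 f n ⁻¹ᵁ U) :=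
    LinearEquiv.ofBijective
      { toFun := thetaU f n U
        map_add' := map_add _
        map_smul' := fun b y => thetaU_smul f n U b y }
      ⟨thetaU_injective f n U, thetaU_surjective f n U⟩
  change Module.Flat Γ(X, U) Γ(PrinPart.nbhd f n, PrinPart.pr1 f n ⁻¹ᵁ U)
  exact Module.Flat.of_linearEquiv e.symm

theorem flat_pr1 (hP : FlatMod.IsFlat (PrinPart.P f n)) : Flat (PrinPart.pr1 f n) := by
  rw [HasRingHomProperty.iff_exists_appLE (P := @Flat)
    (RingHom.Flat.stableUnderComposition.stableUnderCompositionWithLocalizationAway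
      RingHom.Flat.holdsForLocalizationAway).1]
  intro z
  obtain ⟨_, ⟨T, hT, rfl⟩, hzT, -⟩ :=
    S.isBasis_affineOpens.exists_subset_of_mem_open (Set.mem_univ (f (PrinPart.pr1 f n z)))
      isOpen_univ
  have hz' : PrinPart.pr1 f n z ∈ f ⁻¹ᵁ T := hzT
  obtain ⟨_, ⟨U, hU, rfl⟩, hzU, hUT⟩ :=
    X.isBasis_affineOpens.exists_subset_of_mem_open hz' (f ⁻¹ᵁ T).isOpen
  refine ⟨⟨U, hU⟩, ⟨PrinPart.pr1 f n ⁻¹ᵁ U, isAffineOpen_pr1_preimage f n hU hT hUT⟩, hzU, le_rfl,
    ?_⟩
  have := flat_pr1_app f n hP hU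
  rwa [Scheme.Hom.app_eq_appLE] at this

theorem flat_pr2 (hP : FlatMod.IsFlat (PrinPart.P f n)) : Flat (PrinPart.pr2 f n) := by
  obtain ⟨σ, -, hσσ, hσ1, -, -⟩ := Groth.Agent.S5969.result f n
  haveI : IsIso σ := ⟨σ, hσσ, hσσ⟩
  haveI := flat_pr1 f n hP
  rw [← hσ1]
  infer_instance

end

end Aux

/-- Let f : X ⟶ S be a morphism of schemes and n a natural number, and assume that P^n_{X/S} is a flat
O_X-module for its left structure. Then the functor F ↦ P^n_{X/S}(F) on O_X-modules preserves finite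
limits (so it is exact). -/
theorem result {X S : Scheme.{u}} (f : X ⟶ S) (n : ℕ)
    (hP : FlatMod.IsFlat (PrinPart.P f n)) :
    PreservesFiniteLimits
      ((Scheme.Modules.pullback (PrinPart.pr2 f n)) ⋙ (Scheme.Modules.pushforward (PrinPart.pr1 f n))) := by
  haveI : Flat (PrinPart.pr2 f n) := Aux.flat_pr2 f n hP
  haveI : PreservesFiniteLimits (Scheme.Modules.pullback (PrinPart.pr2 f n)) := by
    rw [Functor.preservesFiniteLimits_iff_forall_exact_map_and_mono]
    intro S hS
    have h : (S.map (Scheme.Modules.pullback (PrinPart.pr2 f n))).ShortExact := by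
      apply Groth.Agent.Lib.R2Lead.TensorExact.shortExact_of_forall_stalk
      intro z
      have e := Groth.Agent.Lib.Helper1.Sky.stalkPullbackIso (PrinPart.pr2 f n) z
      haveI : PreservesFiniteLimits
          (ModuleCat.extendScalars.{u, u, u} ((PrinPart.pr2 f n).stalkMap z).hom) :=
        ModuleCat.preservesFiniteLimits_extendScalars_of_flat
          (Flat.stalkMap (PrinPart.pr2 f n) z)
      have h1 : (S.map (Groth.Agent.Lib.Helper1.Sky.stalkFun (PrinPart.pr2 f n z) ⋙
          ModuleCat.extendScalars.{u, u, u} ((PrinPart.pr2 f n).stalkMap z).hom)).ShortExact :=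
        (hS.map_of_exact (Groth.Agent.Lib.Helper1.Sky.stalkFun (PrinPart.pr2 f n z))).map_of_exact
          (ModuleCat.extendScalars.{u, u, u} ((PrinPart.pr2 f n).stalkMap z).hom)
      exact ShortComplex.shortExact_of_iso (S.mapNatIso e.symm) h1
    exact ⟨h.exact, h.mono_f⟩
  exact comp_preservesFiniteLimits _ _

end Groth.Agent.S5967
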