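import Groth.Statements.S5972
import Groth.Agent.Lib.R2H3PnKer

set_option autoImplicit false
universe u
open CategoryTheory CategoryTheory.Limits AlgebraicGeometry TopologicalSpace Opposite
open Nrm16

namespace Groth.Agent.S5972

/-- Let A → B be a ring homomorphism, X = Spec B, S = Spec A with f : X ⟶ S the induced morphism, and n
a natural number; identify B with the ring of global functions on X through the canonical
isomorphism. If ψ : B ⊗_A B → Γ(X, P^n_{X/S}) is the additive map with ψ(b ⊗ b') = b · d^n(b') for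
all b, b' in B, then ψ is surjective with kernel the (n+1)-st power of the kernel I of the
multiplication map B ⊗_A B → B. -/
theorem result (A B : Type u) [CommRing A] [CommRing B] [Algebra A B] (n : ℕ)
    (ψ : TensorProduct A B B →+
      Γ(PrinPart.P (Spec.map (CommRingCat.ofHom (algebraMap A B))) n, (⊤ : (Spec (CommRingCat.of B)).Opens)))
    (hψ : ∀ b b' : B, ψ (b ⊗ₜ[A] b') =
      (Scheme.ΓSpecIso (CommRingCat.of B)).inv b •
        PrinPart.dn (Spec.map (CommRingCat.ofHom (algebraMap A B))) n ⊤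
          ((Scheme.ΓSpecIso (CommRingCat.of B)).inv b')) :
    Function.Surjective ψ ∧ ψ.ker = (KaehlerDifferential.ideal A B ^ (n + 1)).toAddSubgroup := by
  have hU : IsAffineOpen (⊤ : (Spec (CommRingCat.of B)).Opens) := isAffineOpen_top _
  have hT : IsAffineOpen (⊤ : (Spec (CommRingCat.of A)).Opens) := isAffineOpen_top _
  have hUT : (⊤ : (Spec (CommRingCat.of B)).Opens) ≤
      Spec.map (CommRingCat.ofHom (algebraMap A B)) ⁻¹ᵁ ⊤ := le_top
  obtain ⟨τ, hτ, hτJ⟩ := Groth.Agent.Lib.R2H3.PnKer.affine_case A B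
  have hν := Groth.Agent.Lib.R2H3.PnChart.nbhdι_appLE_surjective
    (Spec.map (CommRingCat.ofHom (algebraMap A B))) hU hT hUT n
  have hker := Groth.Agent.Lib.R2H3.PnKer.ker_nbhdι_appLE
    (Spec.map (CommRingCat.ofHom (algebraMap A B))) hU hT hUT n
  have comm : ∀ x : TensorProduct A B B,
      Groth.Agent.Lib.R2H3.PnChart.thetaU (Spec.map (CommRingCat.ofHom (algebraMap A B))) n ⊤ (ψ x) =
      ((PrinPart.nbhdι (Spec.map (CommRingCat.ofHom (algebraMap A B))) n).appLE
        (Groth.Agent.Lib.R2H3.PnChart.W0 _ ⊤) (PrinPart.pr1 _ n ⁻¹ᵁ ⊤)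
        (Groth.Agent.Lib.R2H3.PnChart.pr1_preimage_eq _ n ⊤).le).hom (τ x) := by
    intro x
    induction x using TensorProduct.induction_on with
    | zero => rw [map_zero, map_zero, map_zero, map_zero]
    | tmul b b' =>
      rw [hψ, hτ, Groth.Agent.Lib.R2H3.PnChart.thetaU_smul,
        Groth.Agent.Lib.R2H3.PnChart.thetaU_dn, map_mul]
      have e1 := congr($(Groth.Agent.Lib.R2H3.PnKer.fst_comp_nbhdι
        (Spec.map (CommRingCat.ofHom (algebraMap A B))) n ⊤)
        ((Scheme.ΓSpecIso (CommRingCat.of B)).inv b))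
      have e2 := congr($(Groth.Agent.Lib.R2H3.PnKer.snd_comp_nbhdι
        (Spec.map (CommRingCat.ofHom (algebraMap A B))) n ⊤)
        ((Scheme.ΓSpecIso (CommRingCat.of B)).inv b'))
      rw [CommRingCat.comp_apply] at e1 e2
      exact congr($e1.symm * $e2.symm)
    | add x y hx hy => rw [map_add, map_add, hx, hy, map_add, map_add]
  constructor
  · intro y
    obtain ⟨r, hr⟩ := hν (Groth.Agent.Lib.R2H3.PnChart.thetaU _ n ⊤ y)
    obtain ⟨x, rfl⟩ := τ.surjective r
    exact ⟨x, Groth.Agent.Lib.R2H3.PnChart.thetaU_injective _ n ⊤ ((comm x).trans hr)⟩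
  · ext x
    rw [AddMonoidHom.mem_ker, Submodule.mem_toAddSubgroup]
    have h1 : ψ x = 0 ↔ τ x ∈ RingHom.ker ((PrinPart.nbhdι
        (Spec.map (CommRingCat.ofHom (algebraMap A B))) n).appLE
        (Groth.Agent.Lib.R2H3.PnChart.W0 _ ⊤) (PrinPart.pr1 _ n ⁻¹ᵁ ⊤)
        (Groth.Agent.Lib.R2H3.PnChart.pr1_preimage_eq _ n ⊤).le).hom := by
      rw [RingHom.mem_ker, ← comm x]
      constructor
      · intro h; rw [h, map_zero]
      · intro h
        apply Groth.Agent.Lib.R2H3.PnChart.thetaU_injective _ n ⊤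
        rw [h, map_zero]
    rw [h1, hker, ← hτJ, ← Groth.Agent.Lib.R2H3.PnKer.comap_pow_of_bijective _ τ.bijective]
    rfl

end Groth.Agent.S5972
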