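import Groth.Statements.S5973
import Groth.Agent.Lib.R2H3IdealModFin
import Groth.Agent.Lib.Helper20FormalPull
import Groth.Agent.Lib.Helper20PullbackAff

set_option autoImplicit false
set_option linter.style.haveILetI false
universe u
open CategoryTheory CategoryTheory.Limits AlgebraicGeometry TopologicalSpace Opposite
open Nrm16

namespace Groth.Agent.S5973

theorem ker_ideal_fg {Y X : Scheme.{u}} (f : Y ⟶ X) [IsClosedImmersion f]
    [LocallyOfFinitePresentation f] (V : X.affineOpens) : (f.ker.ideal V).FG := by
  rw [Scheme.Hom.ker_apply]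
  have hU : IsAffineOpen (f ⁻¹ᵁ (V : X.Opens)) := V.2.preimage f
  have hfp : (f.app (V : X.Opens)).hom.FinitePresentation := by
    rw [Scheme.Hom.app_eq_appLE]
    exact HasRingHomProperty.appLE @LocallyOfFinitePresentation f inferInstance V ⟨_, hU⟩ le_rfl
  have hsurj : Function.Surjective (f.app (V : X.Opens)).hom :=
    f.app_surjective (V : X.Opens) V.2
  letI := (f.app (V : X.Opens)).hom.toAlgebra
  haveI : Algebra.FinitePresentation Γ(X, (V : X.Opens)) Γ(Y, f ⁻¹ᵁ (V : X.Opens)) := hfp
  exact Algebra.FinitePresentation.ker_fG_of_surjective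
    (Algebra.ofId Γ(X, (V : X.Opens)) Γ(Y, f ⁻¹ᵁ (V : X.Opens))) hsurj

/-- Let f : Y ⟶ X be a closed immersion which is locally of finite presentation. Then for every n the
n-th graded piece Gr_n(f) = I^n/I^(n+1) of the ideal of f, as an O_Y-module, is quasi-coherent of
finite type. (The published statement allows any immersion locally of finite presentation; this row
states the case of a closed immersion.) -/
theorem result {Y X : Scheme.{u}} (f : Y ⟶ X) [IsClosedImmersion f]
    [LocallyOfFinitePresentation f] (n : ℕ) :
    Coh.IsCoh (PrinPart.grMod f n) := by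
  haveI : SheafOfModules.IsFiniteType (R := X.ringCatSheaf) (ClSub.idealMod (f.ker ^ n)) :=
    Groth.Agent.Lib.R2H3.IdealModFin.isFiniteType_idealMod (f.ker ^ n) fun V => by
      rw [Scheme.IdealSheafData.ideal_pow]
      exact (ker_ideal_fg f V).pow
  refine ⟨?_, ?_⟩
  · unfold PrinPart.grMod
    infer_instance
  · exact Groth.Agent.Lib.Helper20.FormalPull.isFiniteType_pullback f (ClSub.idealMod (f.ker ^ n))

end Groth.Agent.S5973
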