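import Groth.Statements.S5977
import Groth.Agent.Lib.R2H3PnChart

set_option autoImplicit false
universe u
open CategoryTheory CategoryTheory.Limits AlgebraicGeometry TopologicalSpace Opposite
open Nrm16

namespace Groth.Agent.S5977

/-- Let f : Y ⟶ Z be a morphism and j : X ⟶ Y a closed immersion, and let φ : j^* P^n_{Y/Z} ⟶ P^n_{X/Z}
be the canonical O_X-linear map of sheaves of principal parts of order n, the one sending the
pullback of d^n b to d^n (j♯ b). Then φ is an epimorphism. (The published statement also identifies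
the kernel of φ as the ideal generated by the pullback of d^n of the ideal of j; this row states the
surjectivity.) -/
theorem result {X Y Z : Scheme.{u}} (f : Y ⟶ Z) (j : X ⟶ Y) [IsClosedImmersion j] (n : ℕ)
    (φ : (Scheme.Modules.pullback j).obj (PrinPart.P f n) ⟶ PrinPart.P (j ≫ f) n)
    (hφ : PrinPart.IsPMap f (j ≫ f) j n φ) :
    Epi φ := by
  apply Groth.Agent.Lib.R2H3.PnChart.epi_of_dn_mem_range
  intro V x hx
  obtain ⟨V', hV'o, hV'⟩ := (j.isClosedEmbedding.isEmbedding.isInducing.isOpen_iff).1 V.isOpen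
  obtain ⟨_, ⟨T, hT, rfl⟩, hxT, -⟩ :=
    Z.isBasis_affineOpens.exists_subset_of_mem_open (Set.mem_univ (f (j x))) isOpen_univ
  have hxV' : j x ∈ V' := by
    have : x ∈ j ⁻¹' V' := by rw [hV']; exact hx
    exact this
  have hx' : j x ∈ (⟨V', hV'o⟩ : Y.Opens) ⊓ f ⁻¹ᵁ T := ⟨hxV', hxT⟩
  obtain ⟨_, ⟨U, hU, rfl⟩, hxU, hUV⟩ :=
    Y.isBasis_affineOpens.exists_subset_of_mem_open hx' ((⟨V', hV'o⟩ : Y.Opens) ⊓ f ⁻¹ᵁ T).isOpen
  refine ⟨j ⁻¹ᵁ U, T, hU.preimage j, hT, fun y hy => (hUV hy).2, hxU, fun y hy => ?_, fun c => ?_⟩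
  · have h1 : j y ∈ V' := (hUV hy).1
    have h2 : y ∈ j ⁻¹' V' := h1
    rw [hV'] at h2
    exact h2
  · obtain ⟨b, rfl⟩ := j.app_surjective U hU c
    exact ⟨_, hφ U b⟩

end Groth.Agent.S5977
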