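import Groth.Statements.S5978
import Mathlib
import Groth.Agent.Lib.R2H3PnChart
import Groth.Agent.Lib.R2H3PnKer
import Groth.Agent.Lib.Helper18OmLS23
import Groth.Agent.Lib.Helper18OmLS15
-- import your own Groth.Agent.* helpers here

set_option autoImplicit false
set_option linter.unusedSectionVars false
universe u
open CategoryTheory CategoryTheory.Limits AlgebraicGeometry TopologicalSpace Opposite
open Nrm16

namespace Groth.Agent.S5978

open Groth.Agent.Lib.R2H3.PnChart Groth.Agent.Lib.R2H3.PnKer Groth.Agent.Helper18OmLS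

namespace Aux

theorem app_comp_apply {X : Scheme.{u}} {M N K : X.Modules} (φ : M ⟶ N) (ψ : N ⟶ K) (U : X.Opens)
    (x : Γ(M, U)) : ψ.app U (φ.app U x) = (φ ≫ ψ).app U x := rfl

variable {X S : Scheme.{u}} (f : X ⟶ S) [QuasiSeparated f]
  (e : Coh.structureModule X ⟶ PrinPart.P f 1)
  (he : ∀ (U : X.Opens) (s : Γ(X, U)), e.app U (OmegaSh.strSect X U s) = s • PrinPart.dn f 1 U 1)
  (ι : Omega.sheaf f ⟶ PrinPart.P f 1)
  (hι : ∀ (U : X.Opens) (s : Γ(X, U)),
      ι.app U ((OmegaSh.dOmega f).app U s) = PrinPart.dn f 1 U s - s • PrinPart.dn f 1 U 1)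

include he hι in
theorem epi_desc : Epi (coprod.desc e ι) := by
  apply epi_of_dn_mem_range f 1
  intro V x hx
  obtain ⟨_, ⟨T, hT, rfl⟩, hxT, -⟩ :=
    S.isBasis_affineOpens.exists_subset_of_mem_open (Set.mem_univ (f x)) isOpen_univ
  have hx2 : x ∈ V ⊓ f ⁻¹ᵁ T := ⟨hx, hxT⟩
  obtain ⟨_, ⟨U, hU, rfl⟩, hxU, hUle⟩ :=
    X.isBasis_affineOpens.exists_subset_of_mem_open hx2 (V ⊓ f ⁻¹ᵁ T).isOpen
  refine ⟨U, T, hU, hT, fun y hy => (hUle hy).2, hxU, fun y hy => (hUle hy).1, fun c => ?_⟩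
  refine ⟨(coprod.inl : Coh.structureModule X ⟶ Coh.structureModule X ⨿ Omega.sheaf f).app U
      (OmegaSh.strSect X U c) +
    (coprod.inr : Omega.sheaf f ⟶ Coh.structureModule X ⨿ Omega.sheaf f).app U
      ((OmegaSh.dOmega f).app U c), ?_⟩
  rw [map_add, app_comp_apply, app_comp_apply, coprod.inl_desc, coprod.inr_desc, he, hι]
  abel

section chart

variable {U : X.Opens} {T : S.Opens} (hU : IsAffineOpen U) (hT : IsAffineOpen T)
  (hUT : U ≤ f ⁻¹ᵁ T)

/-- `ν : Γ(X ×_S X, W0) → Γ(nbhd, pr1⁻¹ U)` -/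
noncomputable abbrev nu (U : X.Opens) :
    Γ(pullback f f, W0 f U) →+* Γ(PrinPart.nbhd f 1, PrinPart.pr1 f 1 ⁻¹ᵁ U) :=
  ((PrinPart.nbhdι f 1).appLE (W0 f U) (PrinPart.pr1 f 1 ⁻¹ᵁ U) (pr1_preimage_eq f 1 U).le).hom

theorem nu_pp₁ (b : Γ(X, U)) : nu f U (pp₁ f U b) = (PrinPart.pr1 f 1).app U b :=
  congr($(fst_comp_nbhdι f 1 U) b)

theorem nu_pp₂ (b : Γ(X, U)) : nu f U (pp₂ f U b) =
    (PrinPart.pr2 f 1).appLE U (PrinPart.pr1 f 1 ⁻¹ᵁ U) (PrinPart.preimage_pr1 f 1 U).le b :=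
  congr($(snd_comp_nbhdι f 1 U) b)

theorem ker_mm : RingHom.ker (mm f U) = RingHom.ker ((pullback.diagonal f).app (W0 f U)).hom := by
  have h1 : (pullback.diagonal f).appLE (W0 f U) U (OmegaSh.le_preimage_diagNbhd f U) =
      (pullback.diagonal f).app (W0 f U) ≫
        X.presheaf.map (homOfLE (OmegaSh.le_preimage_diagNbhd f U)).op := rfl
  refine (ker_of_eq _ _ h1).trans ?_
  exact ker_eq_of_comp_injective _ _
    (presheaf_map_injective_of_eq (diagonal_preimage_W0 f U).symm _)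

include hU hT hUT in
theorem ker_nu : RingHom.ker (nu f U) = RingHom.ker (mm f U) ^ 2 := by
  rw [ker_mm]
  exact ker_nbhdι_appLE f hU hT hUT 1

theorem mm_pp₁ (b : Γ(X, U)) : mm f U (pp₁ f U b) = b := congr($(mm_comp_pp₁ f U) b)
theorem mm_pp₂ (b : Γ(X, U)) : mm f U (pp₂ f U b) = b := congr($(mm_comp_pp₂ f U) b)

include hU hT hUT hι in
theorem exists_lift (lam : Γ(pullback f f, W0 f U) →+ Γ(Omega.sheaf f, U))
    (hlam1 : ∀ r x, mm f U x = 0 → lam (r * x) = mm f U r • lam x)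
    (hlam2 : ∀ s, lam (pp₂ f U s - pp₁ f U s) = (OmegaSh.dOmega f).app U s)
    (ω : Γ(Omega.sheaf f, U)) :
    ∃ x : Γ(pullback f f, W0 f U), mm f U x = 0 ∧
      nu f U x = thetaU f 1 U (ι.app U ω) ∧ lam x = ω := by
  have hmem := mem_span_dOmega f hUT hU hT ω
  induction hmem using Submodule.span_induction with
  | mem y hy =>
    obtain ⟨s, rfl⟩ := hy
    refine ⟨pp₂ f U s - pp₁ f U s, ?_, ?_, hlam2 s⟩
    · rw [map_sub, mm_pp₁, mm_pp₂, sub_self]
    · change nu f U (pp₂ f U s - pp₁ f U s) =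
        thetaU f 1 U (ι.app U ((OmegaSh.dOmega f).app U s))
      rw [hι, map_sub, map_sub, thetaU_smul, thetaU_dn, thetaU_dn, nu_pp₁, nu_pp₂, map_one,
        mul_one]
  | zero =>
    exact ⟨0, map_zero _, by rw [map_zero, map_zero, map_zero], map_zero _⟩
  | add a b _ _ iha ihb =>
    obtain ⟨x, hx1, hx2, hx3⟩ := iha
    obtain ⟨y, hy1, hy2, hy3⟩ := ihb
    refine ⟨x + y, by rw [map_add, hx1, hy1, add_zero], ?_, by rw [map_add, hx3, hy3]⟩
    rw [map_add, hx2, hy2, map_add, map_add]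
  | smul r a _ iha =>
    obtain ⟨x, hx1, hx2, hx3⟩ := iha
    refine ⟨pp₁ f U r * x, by rw [map_mul, hx1, mul_zero], ?_, ?_⟩
    · rw [map_mul, hx2, nu_pp₁, Scheme.Modules.Hom.app_smul, thetaU_smul]
    · rw [hlam1 _ _ hx1, mm_pp₁, hx3]

include hU hT hUT he hι in
theorem injective_chart : Function.Injective ((coprod.desc e ι).app U) := by
  rw [injective_iff_map_eq_zero]
  intro z hz
  let p1 : Coh.structureModule X ⨿ Omega.sheaf f ⟶ Coh.structureModule X := coprod.desc (𝟙 _) 0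
  let p2 : Coh.structureModule X ⨿ Omega.sheaf f ⟶ Omega.sheaf f := coprod.desc 0 (𝟙 _)
  have htot : p1 ≫ coprod.inl + p2 ≫ coprod.inr = 𝟙 (Coh.structureModule X ⨿ Omega.sheaf f) := by
    apply coprod.hom_ext
    · rw [Preadditive.comp_add, ← Category.assoc, ← Category.assoc, coprod.inl_desc,
        coprod.inl_desc, Category.id_comp, zero_comp, add_zero, Category.comp_id]
    · rw [Preadditive.comp_add, ← Category.assoc, ← Category.assoc, coprod.inr_desc,
        coprod.inr_desc, Category.id_comp, zero_comp, zero_add, Category.comp_id]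
  obtain ⟨a, ω, hz1⟩ : ∃ (a : Γ(Coh.structureModule X, U)) (ω : Γ(Omega.sheaf f, U)),
      z = (coprod.inl : Coh.structureModule X ⟶ _).app U a +
      (coprod.inr : Omega.sheaf f ⟶ _).app U ω := by
    have h1 := congr($(congrArg (fun θ => Scheme.Modules.Hom.app θ U) htot) z)
    exact ⟨p1.app U z, p2.app U z, h1.symm⟩
  have hz2 : e.app U a + ι.app U ω = 0 := by
    rw [hz1, map_add, app_comp_apply, app_comp_apply, coprod.inl_desc, coprod.inr_desc] at hz
    exact hz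
  obtain ⟨lam, hlam1, hlam2⟩ := exists_lambda_of_PO (f.appLE T U hUT).hom (pp₁ f U) (pp₂ f U)
    (mm f U) (mm_comp_pp₁ f U) (mm_comp_pp₂ f U)
    (fun T' _ ψ₁ ψ₂ hψ => PO_ring f hUT hU hT T' ψ₁ ψ₂ hψ)
    Γ(Omega.sheaf f, U) ((OmegaSh.dOmega f).app U)
    (fun a b => (OmegaSh.dOmega f).d_mul (X := op U) a b) (fun x => by
      change (OmegaSh.dOmega f).app U ((f.appLE T U hUT).hom x) = 0
      rw [Scheme.Hom.appLE, CommRingCat.hom_comp, RingHom.comp_apply]
      refine (der_map (OmegaSh.dOmega f) hUT (f.app T x)).trans ?_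
      have := (OmegaSh.dOmega f).d_app (X := op T) x
      refine (congrArg _ this).trans ?_
      exact ((Omega.sheaf f).presheaf.map (homOfLE hUT).op).hom.map_zero)
  obtain ⟨x, hx1, hx2, hx3⟩ := exists_lift f ι hι hU hT hUT lam hlam1 hlam2 ω
  have ha' : e.app U a = (OmegaSh.fnSect X U a) • PrinPart.dn f 1 U 1 := he U (OmegaSh.fnSect X U a)
  have h3 : nu f U (pp₁ f U (OmegaSh.fnSect X U a) + x) = 0 := by
    rw [map_add, hx2, nu_pp₁, ← map_zero (thetaU f 1 U), ← hz2, map_add, ha', thetaU_smul,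
      thetaU_dn, map_one, mul_one]
  have h4 : pp₁ f U (OmegaSh.fnSect X U a) + x ∈ RingHom.ker (mm f U) ^ 2 := by
    rw [← ker_nu f hU hT hUT]
    exact h3
  have h5 : OmegaSh.fnSect X U a = 0 := by
    have h6 : mm f U (pp₁ f U (OmegaSh.fnSect X U a) + x) = 0 :=
      Ideal.pow_le_self two_ne_zero h4
    rw [map_add, hx1, add_zero, mm_pp₁] at h6
    exact h6
  have ha0 : a = 0 := h5
  rw [h5, map_zero, zero_add] at h4
  have hlam0 : ∀ y ∈ RingHom.ker (mm f U) ^ 2, lam y = 0 := by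
    intro y hy
    rw [pow_two] at hy
    refine Submodule.mul_induction_on hy ?_ ?_
    · intro m hm n hn
      rw [hlam1 m n hn, (show mm f U m = 0 from hm), zero_smul]
    · intro y1 y2 h1 h2
      rw [map_add, h1, h2, add_zero]
  have hω0 : ω = 0 := by rw [← hx3]; exact hlam0 x h4
  rw [hz1, ha0, hω0, map_zero, map_zero, add_zero]

end chart

end Aux

/-- Let f : X ⟶ S be a quasi-separated morphism, Ω_{X/S} its sheaf of differentials (the conormal sheaf
of the diagonal) with its derivation d, e : O_X ⟶ P^1_{X/S} the O_X-linear map s ↦ s·1 and ι :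
Ω_{X/S} ⟶ P^1_{X/S} the O_X-linear map with ι(d s) = d^1 s − s·1 for every local function s. Then
the map O_X ⊕ Ω_{X/S} ⟶ P^1_{X/S} induced by e and ι is an isomorphism of O_X-modules for the left
structure of P^1_{X/S}; in other words Ω_{X/S} is identified with the augmentation ideal of
P^1_{X/S} and d s = d^1 s − s. (The published text takes this as the definition of Ω_{X/S} for every
f; here Ω_{X/S} is the conormal sheaf of the diagonal, formed for quasi-separated f, and the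
identification is stated.) -/
theorem result {X S : Scheme.{u}} (f : X ⟶ S) [QuasiSeparated f]
    (e : Coh.structureModule X ⟶ PrinPart.P f 1)
    (he : ∀ (U : X.Opens) (s : Γ(X, U)), e.app U (OmegaSh.strSect X U s) = s • PrinPart.dn f 1 U 1)
    (ι : Omega.sheaf f ⟶ PrinPart.P f 1)
    (hι : ∀ (U : X.Opens) (s : Γ(X, U)),
      ι.app U ((OmegaSh.dOmega f).app U s) = PrinPart.dn f 1 U s - s • PrinPart.dn f 1 U 1) :
    IsIso (coprod.desc e ι) := by
  have hepi : Epi (coprod.desc e ι) := Aux.epi_desc f e he ι hι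
  have hmono : Mono (coprod.desc e ι) := by
    let B : Set X.Opens := {U | IsAffineOpen U ∧ ∃ T : S.Opens, IsAffineOpen T ∧ U ≤ f ⁻¹ᵁ T}
    have hB : Opens.IsBasis B := by
      rw [Opens.isBasis_iff_nbhd]
      intro V x hx
      obtain ⟨_, ⟨T, hT, rfl⟩, hxT, -⟩ :=
        S.isBasis_affineOpens.exists_subset_of_mem_open (Set.mem_univ (f x)) isOpen_univ
      have hx2 : x ∈ V ⊓ f ⁻¹ᵁ T := ⟨hx, hxT⟩
      obtain ⟨_, ⟨U, hU, rfl⟩, hxU, hUle⟩ :=
        X.isBasis_affineOpens.exists_subset_of_mem_open hx2 (V ⊓ f ⁻¹ᵁ T).isOpen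
      exact ⟨U, ⟨hU, T, hT, fun y hy => (hUle hy).2⟩, hxU, fun y hy => (hUle hy).1⟩
    refine Groth.Agent.Helper18OmLS.mono_of_injective_app_basis _ B hB ?_
    rintro U ⟨hU, T, hT, hUT⟩
    exact Aux.injective_chart f e he ι hι hU hT hUT
  exact isIso_of_mono_of_epi _

end Groth.Agent.S5978
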