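import Groth.Statements.S5981
import Groth.Agent.Lib.R2H3PnChart

set_option autoImplicit false
universe u
open CategoryTheory CategoryTheory.Limits AlgebraicGeometry TopologicalSpace Opposite

namespace Groth.Agent.S5981

/-- Let f : X ⟶ Y and g : Y ⟶ Z be morphisms of schemes and n a natural number, and let φ : (𝟙_X)^*
P^n_{X/Z} ⟶ P^n_{X/Y} be the canonical O_X-linear map of sheaves of principal parts of order n, the
one sending the pullback of d^n b (relative to Z) to d^n b (relative to Y) for every local function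
b. Then φ is an epimorphism. (The published statement also describes the kernel as the ideal
generated by the image of the augmentation ideal of f^* P^n_{Y/Z}; this row states the
surjectivity.) -/
theorem result {X Y Z : Scheme.{u}} (f : X ⟶ Y) (g : Y ⟶ Z) (n : ℕ)
    (φ : (Scheme.Modules.pullback (𝟙 X)).obj (PrinPart.P (f ≫ g) n) ⟶ PrinPart.P f n)
    (hφ : PrinPart.IsPMap (f ≫ g) f (𝟙 X) n φ) :
    Epi φ := by
  apply Groth.Agent.Lib.R2H3.PnChart.epi_of_dn_mem_range
  intro V x hx
  obtain ⟨_, ⟨T, hT, rfl⟩, hxT, -⟩ :=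
    Y.isBasis_affineOpens.exists_subset_of_mem_open (Set.mem_univ (f x)) isOpen_univ
  have hx' : x ∈ V ⊓ f ⁻¹ᵁ T := ⟨hx, hxT⟩
  obtain ⟨_, ⟨U, hU, rfl⟩, hxU, hUV⟩ :=
    X.isBasis_affineOpens.exists_subset_of_mem_open hx' (V ⊓ f ⁻¹ᵁ T).isOpen
  refine ⟨U, T, hU, hT, fun y hy => (hUV hy).2, hxU, fun y hy => (hUV hy).1, fun c => ?_⟩
  exact ⟨_, hφ U c⟩

end Groth.Agent.S5981
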