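import Groth.Statements.S6038
import Groth.Agent.Lib.R2H3LocDepthD

set_option linter.style.haveILetI false
set_option linter.unusedVariables false

set_option autoImplicit false
universe u
open CategoryTheory CategoryTheory.Limits TopologicalSpace AlgebraicGeometry
open LocCohZ

namespace Groth.Agent.S6038

/-- In the case F = O_X (where Ext^i_Y(O_X, G) is the local cohomology sheaf ℋ^i_Y(G)). Let X be a
locally Noetherian scheme whose local rings are all regular, Y a closed subset with open complement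
U, G a coherent O_X-module with underlying abelian sheaf F, and i a natural number with dim O_{X,x}
< i for every x ∈ Y. Then ℋ^i_Y(F) = 0. -/
theorem result (X : Scheme.{u}) [IsLocallyNoetherian X]
    (hreg : ∀ x : X, IsRegularLocalRing (X.presheaf.stalk x)) (U : X.Opens) (G : X.Modules) (hG : Coh.IsCoh G)
    (i : ℕ) (hi : ∀ x : X, x ∉ (U : Set X) → ringKrullDim (X.presheaf.stalk x) < (i : WithBot ℕ∞)) :
    IsZero ((LocCohZ.HZsh (X := X.carrier) U i).obj (Coh.toAb G)) := by
  haveI : G.IsQuasicoherent := hG.1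
  refine Groth.Agent.Lib.R2H3.LocDepthD.HZsh_isZero_of_basis_single (X := X.carrier) (Coh.toAb G) U i
    (X.affineOpens : Set X.Opens) X.isBasis_affineOpens ?_
  intro (V : X.Opens) (hV : IsAffineOpen V)
  obtain ⟨fsX, hmem, hk⟩ := Groth.Agent.Lib.R2H3.LocDepthD.exists_koszul_description U G hV
  rw [hk]
  have hVV' : V.ι ''ᵁ ⊤ = V := V.ι_image_top
  have hV' : IsAffineOpen (V.ι ''ᵁ ⊤) := by rw [hVV']; exact hV
  haveI hnoeth : IsNoetherianRing Γ(X, V.ι ''ᵁ ⊤) :=
    IsLocallyNoetherian.component_noetherian ⟨_, hV'⟩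
  -- the dimension bound at primes containing the ideal
  have hdim : ∀ (p : Ideal Γ(X, V.ι ''ᵁ ⊤)) [p.IsPrime], Ideal.span {a | a ∈ fsX} ≤ p →
      ringKrullDim (Localization.AtPrime p) < (i : WithBot ℕ∞) := by
    intro p hp hle
    let P : PrimeSpectrum Γ(X, V.ι ''ᵁ ⊤) := ⟨p, hp⟩
    have hx' : hV'.fromSpec P ∈ V.ι ''ᵁ ⊤ := Groth.Agent.Lib.Helper2.QCoh.fromSpec_mem hV' P
    have hxV : hV'.fromSpec P ∈ V := hVV'.le hx'
    have hpx : hV'.primeIdealOf ⟨hV'.fromSpec P, hx'⟩ = P :=
      Groth.Agent.Lib.Helper2.QCoh.primeIdealOf_fromSpec hV' P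
    have hxU : hV'.fromSpec P ∉ U := by
      intro hU
      obtain ⟨f, hf, hxf⟩ := (hmem _ hxV).1 hU
      have hnot := (Groth.Agent.Lib.Helper2.mem_basicOpen_iff_notMem_primeIdealOf hV' _ hx' f).1 hxf
      rw [hpx] at hnot
      exact hnot (hle (Ideal.subset_span hf))
    haveI := hV'.isLocalization_stalk ⟨hV'.fromSpec P, hx'⟩
    letI algX := X.presheaf.algebra_section_stalk (U := V.ι ''ᵁ ⊤) ⟨hV'.fromSpec P, hx'⟩
    have e : Localization.AtPrime (hV'.primeIdealOf ⟨hV'.fromSpec P, hx'⟩).asIdeal ≃+*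
        X.presheaf.stalk (hV'.fromSpec P) :=
      (IsLocalization.algEquiv (hV'.primeIdealOf ⟨hV'.fromSpec P, hx'⟩).asIdeal.primeCompl _ _).toRingEquiv
    have h1 := hi _ hxU
    rw [← ringKrullDim_eq_of_ringEquiv e] at h1
    revert h1
    rw [hpx]
    exact id
  cases i with
  | zero =>
    -- no prime contains the ideal
    have htop : Ideal.span {a | a ∈ fsX} = ⊤ := by
      by_contra hne
      obtain ⟨m, hm, hle⟩ := Ideal.exists_le_maximal _ hne
      haveI := hm.isPrime
      have h1 := hdim m hle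
      have h2 : (0 : WithBot ℕ∞) ≤ ringKrullDim (Localization.AtPrime m) := ringKrullDim_nonneg_of_nontrivial
      exact absurd (lt_of_le_of_lt h2 h1) (by simp)
    exact Groth.Agent.Lib.R2H2.KoszulUnit.subsingleton_koszulHLim_of_span_eq_top fsX htop _ 0
  | succ d =>
    have hcd : LocCoh.CdLE Γ(X, V.ι ''ᵁ ⊤) (Ideal.span {a | a ∈ fsX}) d := by
      apply Groth.Agent.Lib.R2H3.LocDepthD.cdLE_of_dim
      intro p hp hle
      have h1 := hdim p hle
      generalize ringKrullDim (Localization.AtPrime p) = a at h1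
      induction a using WithBot.recBotCoe with
      | bot => exact bot_le
      | coe m =>
        induction m using ENat.recTopCoe with
        | top =>
          exfalso
          have : ((⊤ : ℕ∞) : WithBot ℕ∞) < (((d + 1 : ℕ) : ℕ∞) : WithBot ℕ∞) := h1
          rw [WithBot.coe_lt_coe] at this
          exact absurd this (by simp)
        | coe k =>
          have h2 : (((k : ℕ) : ℕ∞) : WithBot ℕ∞) < (((d + 1 : ℕ) : ℕ∞) : WithBot ℕ∞) := h1
          rw [WithBot.coe_lt_coe, Nat.cast_lt] at h2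
          show (((k : ℕ) : ℕ∞) : WithBot ℕ∞) ≤ (((d : ℕ) : ℕ∞) : WithBot ℕ∞)
          rw [WithBot.coe_le_coe, Nat.cast_le]
          omega
    obtain ⟨e⟩ := Groth.Agent.Lib.R2H2.KoszulDelta.nonempty_linearEquiv fsX Γ(G, V.ι ''ᵁ ⊤) (d + 1)
    haveI := hcd Γ(G, V.ι ''ᵁ ⊤) (d + 1) (Nat.lt_succ_self d)
    exact e.symm.toEquiv.subsingleton

end Groth.Agent.S6038
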