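import Groth.Statements.S6044
import Mathlib
import Groth.Agent.Lib.H5bIdealDesc

set_option autoImplicit false
open CategoryTheory CategoryTheory.Limits AlgebraicGeometry
universe u
open GrpQ

namespace Groth.Agent.S6044

open Desc Opposite

/-- If `a ≫ s` lifts through the closed immersion `z`, then the pullback of the ideal of `z` along `s`
is contained in the kernel of `a`. -/
lemma comap_ker_le_ker {Y Z W A : Scheme.{u}} (z : Z ⟶ Y) [IsClosedImmersion z] (s : W ⟶ Y)
    (a : A ⟶ W) (v : A ⟶ Z) (hv : v ≫ z = a ≫ s) : (z.ker).comap s ≤ a.ker := by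
  let l : Z ⟶ z.ker.subscheme := IsClosedImmersion.lift z.ker.subschemeι z
    (by rw [Scheme.IdealSheafData.ker_subschemeι])
  have hl : l ≫ z.ker.subschemeι = z := IsClosedImmersion.lift_fac _ _ _
  let w : A ⟶ pullback s z.ker.subschemeι := pullback.lift a (v ≫ l) (by
    rw [Category.assoc, hl, hv])
  have hw : w ≫ pullback.fst s z.ker.subschemeι = a := pullback.lift_fst _ _ _
  rw [← hw]
  exact Scheme.Hom.le_ker_comp _ _

/-- Closed immersions descend along the fpqc topology. For an fpqc covering family `f i : X i ⟶ S` of a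
scheme `S`, every descent datum for schemes relative to the family all of whose members `Z i ⟶ X i`
are closed immersions is effective. -/
theorem result {S : Scheme.{u}} {ι : Type u} {X : ι → Scheme.{u}}
    (f : ∀ i, X i ⟶ S) (hf : Presieve.ofArrows X f ∈ Scheme.fpqcPrecoverage S)
    (D : Desc.SchDDFam f) (hD : ∀ i, IsClosedImmersion (D.obj i).hom) :
    D.IsEffective := by
  have hci : ∀ i, IsClosedImmersion (D.obj i).hom := hD
  let I : ∀ i, (X i).IdealSheafData := fun i => (D.obj i).hom.ker
  -- the ideal sheaves satisfy the gluing condition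
  have hle : ∀ i j, (I j).comap (pullback.snd (f i) (f j)) ≤ (I i).comap (pullback.fst (f i) (f j)) := by
    intro i j
    let a := pullback.fst (pullback.fst (f i) (f j)) (I i).subschemeι
    let l : (I i).subscheme ⟶ (D.obj i).left := IsClosedImmersion.lift (D.obj i).hom (I i).subschemeι
      (by rw [Scheme.IdealSheafData.ker_subschemeι])
    have hl : l ≫ (D.obj i).hom = (I i).subschemeι := IsClosedImmersion.lift_fac _ _ _
    let v₀ : Lifts (D.obj i) (a ≫ pullback.fst (f i) (f j)) :=
      ⟨pullback.snd (pullback.fst (f i) (f j)) (I i).subschemeι ≫ l, by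
        rw [Category.assoc, hl, ← pullback.condition]⟩
    have hcond : (a ≫ pullback.fst (f i) (f j)) ≫ f i = (a ≫ pullback.snd (f i) (f j)) ≫ f j := by
      rw [Category.assoc, Category.assoc, pullback.condition]
    let v₁ := D.φ _ _ hcond v₀
    exact comap_ker_le_ker (D.obj j).hom (pullback.snd (f i) (f j)) a v₁.1 v₁.2
  have hle' : ∀ i j, (I i).comap (pullback.fst (f i) (f j)) ≤ (I j).comap (pullback.snd (f i) (f j)) := by
    intro i j
    let a := pullback.fst (pullback.snd (f i) (f j)) (I j).subschemeι
    let l : (I j).subscheme ⟶ (D.obj j).left := IsClosedImmersion.lift (D.obj j).hom (I j).subschemeι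
      (by rw [Scheme.IdealSheafData.ker_subschemeι])
    have hl : l ≫ (D.obj j).hom = (I j).subschemeι := IsClosedImmersion.lift_fac _ _ _
    let v₀ : Lifts (D.obj j) (a ≫ pullback.snd (f i) (f j)) :=
      ⟨pullback.snd (pullback.snd (f i) (f j)) (I j).subschemeι ≫ l, by
        rw [Category.assoc, hl, ← pullback.condition]⟩
    have hcond : (a ≫ pullback.snd (f i) (f j)) ≫ f j = (a ≫ pullback.fst (f i) (f j)) ≫ f i := by
      rw [Category.assoc, Category.assoc, pullback.condition]
    let v₁ := D.φ _ _ hcond v₀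
    exact comap_ker_le_ker (D.obj i).hom (pullback.fst (f i) (f j)) a v₁.1 v₁.2
  have hyp := Groth.Agent.Lib.H5bIdealDesc.hyp_of_fpqc f hf I
    (fun i j => le_antisymm (hle' i j) (hle i j))
  let J := Groth.Agent.Lib.H5bIdealDesc.Jdesc hyp
  have hJ : ∀ i, J.comap (f i) = I i := Groth.Agent.Lib.H5bIdealDesc.Jdesc_comap hyp
  have hker : ∀ i, (pullback.fst (f i) J.subschemeι).ker = (D.obj i).hom.ker := hJ
  obtain ⟨e, he⟩ : ∃ e : ∀ i, pullback (f i) J.subschemeι ≅ (D.obj i).left,
      ∀ i, (e i).hom ≫ (D.obj i).hom = pullback.fst (f i) J.subschemeι := by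
    refine ⟨fun i =>
      { hom := IsClosedImmersion.lift (D.obj i).hom (pullback.fst (f i) J.subschemeι) (hker i).ge
        inv := IsClosedImmersion.lift (pullback.fst (f i) J.subschemeι) (D.obj i).hom (hker i).le
        hom_inv_id := by
          rw [← cancel_mono (pullback.fst (f i) J.subschemeι), Category.assoc,
            IsClosedImmersion.lift_fac, IsClosedImmersion.lift_fac, Category.id_comp]
        inv_hom_id := by
          rw [← cancel_mono (D.obj i).hom, Category.assoc,
            IsClosedImmersion.lift_fac, IsClosedImmersion.lift_fac, Category.id_comp] },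
      fun i => IsClosedImmersion.lift_fac _ _ _⟩
  have he' : ∀ i, (e i).inv ≫ pullback.fst (f i) J.subschemeι = (D.obj i).hom := by
    intro i
    rw [← he i, Iso.inv_hom_id_assoc]
  refine ⟨Over.mk J.subschemeι, ?_⟩
  have hCmono : ∀ i, Mono (((toDDFam f).obj (Over.mk J.subschemeι)).obj i).hom := fun i =>
    inferInstanceAs (Mono (pullback.fst (f i) J.subschemeι))
  obtain ⟨a, ha⟩ : ∃ a : ∀ i, ((toDDFam f).obj (Over.mk J.subschemeι)).obj i ⟶ D.obj i,
      ∀ i, (a i).left = (e i).hom :=
    ⟨fun i => Over.homMk (U := Over.mk (pullback.fst (f i) J.subschemeι)) (e i).hom (he i),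
      fun i => rfl⟩
  obtain ⟨b, hb⟩ : ∃ b : ∀ i, D.obj i ⟶ ((toDDFam f).obj (Over.mk J.subschemeι)).obj i,
      ∀ i, (b i).left = (e i).inv :=
    ⟨fun i => Over.homMk (V := Over.mk (pullback.fst (f i) J.subschemeι)) (e i).inv (he' i),
      fun i => rfl⟩
  exact ⟨
    { hom := ⟨a, fun T i j x₀ x₁ h v w hw => by
        rw [← cancel_mono (D.obj j).hom, Category.assoc, Over.w (a j)]
        exact (D.φ x₀ x₁ h w).2.trans (((toDDFam f).obj (Over.mk J.subschemeι)).φ x₀ x₁ h v).2.symm⟩
      inv := ⟨b, fun T i j x₀ x₁ h v w hw => by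
        have := hCmono j
        rw [← cancel_mono (((toDDFam f).obj (Over.mk J.subschemeι)).obj j).hom, Category.assoc,
          Over.w (b j)]
        exact (((toDDFam f).obj (Over.mk J.subschemeι)).φ x₀ x₁ h w).2.trans (D.φ x₀ x₁ h v).2.symm⟩
      hom_inv_id := by
        apply Desc.SchDDFam.hom_ext
        funext i
        apply Over.OverMorphism.ext
        change (a i).left ≫ (b i).left = 𝟙 _
        rw [ha, hb]
        exact (e i).hom_inv_id
      inv_hom_id := by
        apply Desc.SchDDFam.hom_ext
        funext i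
        apply Over.OverMorphism.ext
        change (b i).left ≫ (a i).left = 𝟙 _
        rw [ha, hb]
        exact (e i).inv_hom_id }⟩

end Groth.Agent.S6044
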