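import Groth.Statements.S6071
import Mathlib
import Groth.Agent.Lib.R2H7Approx
import Groth.Agent.Lib.R2H7FormalHom11

set_option autoImplicit false
universe u
open TensorProduct SGA3b
open SGA3b

namespace Groth.Agent.S6071

/-- Let A be a ring which is the union of a directed family of subrings A_i, and H = Spec C an A-group
of multiplicative type and of finite type which is quasi-isotrivial (resp. isotrivial). Then there
are an index i and an A_i-group H_i = Spec C_i of multiplicative type and of finite type,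
quasi-isotrivial (resp. isotrivial), such that H ≅ H_i ×_{A_i} A as A-groups: a bialgebra
isomorphism A ⊗_{A_i} C_i ≅ C (existence of an isomorphism; the descended group is not unique).
(Affine group schemes over an affine base are taken in Hopf-algebra form; base change is the tensor
product.) -/
theorem result (A : Type u) [CommRing A] {ι : Type u} [Preorder ι] [IsDirected ι (· ≤ ·)] [Nonempty ι]
    (B : ι → Subring A) (hmono : Monotone B) (hsup : ⨆ i, B i = ⊤)
    (C : Type u) [CommRing C] [HopfAlgebra A C] (hft : Algebra.FiniteType A C) :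
    (IsQuasiIsotrivial A C → ∃ (i : ι) (Ci : Type u) (_ : CommRing Ci) (_ : HopfAlgebra (B i) Ci),
      Algebra.FiniteType (B i) Ci ∧ IsQuasiIsotrivial (B i) Ci ∧ Nonempty ((A ⊗[B i] Ci) ≃ₐc[A] C)) ∧
    (IsIsotrivial A C → ∃ (i : ι) (Ci : Type u) (_ : CommRing Ci) (_ : HopfAlgebra (B i) Ci),
      Algebra.FiniteType (B i) Ci ∧ IsIsotrivial (B i) Ci ∧ Nonempty ((A ⊗[B i] Ci) ≃ₐc[A] C)) := by
  classical
  haveI := hft
  refine ⟨fun hqi => ?_, fun hiso => ?_⟩
  · have hfp : Algebra.FinitePresentation A C :=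
      Groth.Agent.Lib.R2H7.Approx.finitePresentation_of_isMultType A C hft
        (Groth.Agent.Lib.R2H7.HomLift.isMultType_of_isQuasiIsotrivial hqi)
    haveI := hfp
    obtain ⟨R₁, _, _, C₁, _, _, hR₁, hC₁, ⟨ε⟩⟩ := Groth.Agent.Lib.R2H7.Fib.hopf_model_nf A C
    haveI := hR₁
    haveI : IsNoetherianRing R₁ := Algebra.FiniteType.isNoetherianRing ℤ R₁
    haveI : Algebra.FinitePresentation R₁ C₁ := Algebra.FinitePresentation.of_finiteType.mp hC₁
    have hqi' : IsQuasiIsotrivial A (A ⊗[R₁] C₁) :=
      Groth.Agent.Lib.R2H7.QIsoMain.isQuasiIsotrivial_of_equiv ε hqi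
    obtain ⟨S', hS'fg, hS'⟩ :=
      Groth.Agent.Lib.R2H7.Approx.exists_level_quasiIsotrivial R₁ A C₁ hqi'
    haveI : Algebra.FiniteType R₁ S' := (Subalgebra.fg_iff_finiteType S').mp hS'fg
    have hS'Z : Algebra.FiniteType ℤ S' := Algebra.FiniteType.trans hR₁ inferInstance
    exact Groth.Agent.Lib.R2H7.Approx.assemble A B hmono hsup C R₁ C₁ hC₁ ε S' hS'Z
      (fun T _ H _ _ => IsQuasiIsotrivial T H)
      (fun T T' _ _ _ H _ _ h =>
        Groth.Agent.Lib.R2H7.HomLift.isQuasiIsotrivial_baseChange T' h) hS'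
  · rcases subsingleton_or_nontrivial A with hA | hA
    · obtain ⟨i⟩ := (inferInstance : Nonempty ι)
      haveI : Subsingleton (B i) := ⟨fun x y => Subtype.ext (Subsingleton.elim _ _)⟩
      refine ⟨i, B i, inferInstance, inferInstance, inferInstance, ?_,
        ⟨Groth.Agent.Lib.R2H7.FormalHom.bialgEquivOfSubsingleton A _ _⟩⟩
      exact ⟨B i, inferInstance, inferInstance, inferInstance, inferInstance, inferInstance,
        ⟨PUnit, inferInstance,
          ⟨Groth.Agent.Lib.R2H7.FormalHom.bialgEquivOfSubsingleton (B i) _ _⟩⟩⟩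
    · have hfp : Algebra.FinitePresentation A C :=
        Groth.Agent.Lib.R2H7.Approx.finitePresentation_of_isIsotrivial A C hft hiso
      haveI := hfp
      obtain ⟨R₁, _, _, C₁, _, _, hR₁, hC₁, ⟨ε⟩⟩ := Groth.Agent.Lib.R2H7.Fib.hopf_model_nf A C
      haveI := hR₁
      haveI : IsNoetherianRing R₁ := Algebra.FiniteType.isNoetherianRing ℤ R₁
      haveI : Algebra.FinitePresentation R₁ C₁ := Algebra.FinitePresentation.of_finiteType.mp hC₁
      have hiso' : IsIsotrivial A (A ⊗[R₁] C₁) :=
        Groth.Agent.Lib.R2H7.FormalHom.isIsotrivial_of_equiv ε hiso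
      obtain ⟨S, _, _, _, _, hftS, hS⟩ :=
        Groth.Agent.Lib.R2H7.Approx.exists_level_isotrivial R₁ A C₁ hiso'
      have hSZ : Algebra.FiniteType ℤ S := Algebra.FiniteType.trans hR₁ hftS
      exact Groth.Agent.Lib.R2H7.Approx.assemble A B hmono hsup C R₁ C₁ hC₁ ε S hSZ
        (fun T _ H _ _ => IsIsotrivial T H)
        (fun T T' _ _ _ H _ _ h =>
          Groth.Agent.Lib.R2H7.Approx.isIsotrivial_baseChange T' h) hS

end Groth.Agent.S6071
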