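import Groth.Statements.S6181
import Groth.Agent.Lib.Helper8FinPushStalk

set_option autoImplicit false
open CategoryTheory CategoryTheory.Limits AlgebraicGeometry Opposite
universe u
open EtDesc

namespace Groth.Agent.S6181

/-- Let f : X -> Y be a finite morphism of schemes, Ω an algebraically closed field and η : Spec Ω -> Y
a geometric point. The functor F ↦ (f_* F)_η on etale sheaves of sets on X is isomorphic to the
product, over the geometric points ξ : Spec Ω -> X lying over η, of the fibre functors F ↦ F_ξ. (The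
published statement gives a canonical isomorphism and indexes the product by the points of the
geometric fibre over a separable closure of the residue field; this row asserts only that an
isomorphism of functors exists and indexes the product by the Ω-valued points of X over η, which for
Ω algebraically closed correspond to those points.) -/
theorem result {X Y : Scheme.{u}} (f : X ⟶ Y) [IsFinite f]
    {Ω : Type u} [Field Ω] [IsAlgClosed Ω] (η : Spec (CommRingCat.of Ω) ⟶ Y) :
    Nonempty (EtDesc.pushSh f ⋙ (Scheme.pointSmallEtale η).sheafFiber (A := Type (u + 1)) ≅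
      ∏ᶜ fun ξ : {ξ : Spec (CommRingCat.of Ω) ⟶ X // ξ ≫ f = η} =>
        ((Scheme.pointSmallEtale ξ.1).sheafFiber (A := Type (u + 1)) : EtDesc.Sh X ⥤ Type (u + 1))) := by
  classical
  let G : {ξ : Spec (CommRingCat.of Ω) ⟶ X // ξ ≫ f = η} → (EtDesc.Sh X ⥤ Type (u + 1)) :=
    fun ξ => (Scheme.pointSmallEtale ξ.1).sheafFiber (A := Type (u + 1))
  let cN : ∀ ξ : {ξ : Spec (CommRingCat.of Ω) ⟶ X // ξ ≫ f = η},
      EtDesc.pushSh f ⋙ (Scheme.pointSmallEtale η).sheafFiber (A := Type (u + 1)) ⟶ G ξ :=
    fun ξ =>
      { app := fun F => Groth.Agent.Lib.Helper8FinPushStalk.cmp ξ F.obj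
        naturality := fun F F' g =>
          Groth.Agent.Lib.Helper8FinPushStalk.cmp_naturality ξ g.hom }
  have hiso : ∀ F : EtDesc.Sh X, IsIso ((Pi.lift cN).app F) := by
    intro F
    have hFs : Presieve.IsSheaf X.smallEtaleTopology (F.obj ⋙ forget (Type (u + 1))) :=
      (isSheaf_iff_isSheaf_of_type _ _).mp
        ((Presheaf.isSheaf_iff_isSheaf_forget _ _ (forget (Type (u + 1)))).mp F.property)
    have h1 := Groth.Agent.Lib.Helper8FinPushStalk.isIso_lift_cmp (f := f) (η := η) F.obj hFs
    have e : (Pi.lift cN).app F ≫ (piObjIso G F).hom =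
        Pi.lift (fun ξ : {ξ : Spec (CommRingCat.of Ω) ⟶ X // ξ ≫ f = η} =>
          Groth.Agent.Lib.Helper8FinPushStalk.cmp ξ F.obj) := by
      apply Pi.hom_ext
      intro ξ
      refine (Category.assoc _ _ _).trans ?_
      refine (congrArg (fun m => (Pi.lift cN).app F ≫ m) (piObjIso_hom_comp_π G F ξ)).trans ?_
      refine (NatTrans.comp_app _ _ _).symm.trans ?_
      refine (congrArg (fun m => NatTrans.app m F) (Pi.lift_π cN ξ)).trans ?_
      exact (Pi.lift_π (fun ξ : {ξ : Spec (CommRingCat.of Ω) ⟶ X // ξ ≫ f = η} =>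
          Groth.Agent.Lib.Helper8FinPushStalk.cmp ξ F.obj) ξ).symm
    haveI : IsIso ((Pi.lift cN).app F ≫ (piObjIso G F).hom) := by
      rw [e]
      exact h1
    exact IsIso.of_isIso_comp_right _ (piObjIso G F).hom
  haveI : IsIso (Pi.lift cN) := NatIso.isIso_of_isIso_app _
  exact ⟨asIso (Pi.lift cN)⟩

end Groth.Agent.S6181
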