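import Groth.Statements.S6187
import Groth.Agent.Lib.Helper1TorDim
import Groth.Agent.Lib.Helper1Restrict
import Groth.Agent.Lib.Helper1TorE
import Groth.Agent.Lib.Helper23UnitStalk

set_option autoImplicit false
universe u
open CategoryTheory CategoryTheory.Limits AlgebraicGeometry
attribute [local instance] HasDerivedCategory.standard
open KSix

namespace Groth.Agent.S6187

/-- Case of schemes: let f : X ⟶ Y and g : Y ⟶ Z be morphisms of schemes with composite h, let n be a
natural number such that g has tor dimension at most n (the structure sheaf of Y has tor amplitude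
in [-n, 0] relative to g, stalkwise), and let F be a cochain complex of O_X-modules with tor
amplitude in [a, b] relative to f (at every point x the complex of stalks F_x, over the local ring
of Y at f(x), is isomorphic in the derived category to a complex of flat modules placed in [a, b]).
Then F has tor amplitude in [a - n, b] relative to h. (The published statement is for a commutative
triangle of ringed topoi in which X has enough points; this row is the case of schemes, with tor
amplitude relative to a morphism in its stalkwise form.) -/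
theorem result {X Y Z : Scheme.{u}} (f : X ⟶ Y) (g : Y ⟶ Z) (h : X ⟶ Z)
    (w : f ≫ g = h) (n : ℕ) (hg : DerSch.HasTorDimLE g n) (F : CochainComplex X.Modules ℤ) (a b : ℤ)
    (hF : DerSch.HasTorAmplitude f a b F) :
    DerSch.HasTorAmplitude h (a - n) b F := by
  subst w
  intro x
  have hgy := hg (f x)
  have hFx := hF x
  unfold DerSch.HasTorAmplitudeAt at hgy hFx ⊢
  letI algCB : Algebra (Z.presheaf.stalk (g (f x))) (Y.presheaf.stalk (f x)) :=
    (g.stalkMap (f x)).hom.toAlgebra
  -- the structure sheaf stalk complex is the local ring in degree 0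
  let eL : (Y.presheaf.stalk (f x)) ≃ₗ[Z.presheaf.stalk (g (f x))]
      ((DerSch.stalkOver g (f x)).obj (Coh.structureModule Y)) :=
    { toFun := fun b => Groth.Agent.Lib.Helper23.UnitStalk.unitStalkEquiv (f x) b
      invFun := fun s => (Groth.Agent.Lib.Helper23.UnitStalk.unitStalkEquiv (f x)).symm s
      left_inv := fun b => (Groth.Agent.Lib.Helper23.UnitStalk.unitStalkEquiv (f x)).symm_apply_apply b
      right_inv := fun s => (Groth.Agent.Lib.Helper23.UnitStalk.unitStalkEquiv (f x)).apply_symm_apply s
      map_add' := fun b b' => map_add _ b b'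
      map_smul' := fun c b => by
        show Groth.Agent.Lib.Helper23.UnitStalk.unitStalkEquiv (f x)
            ((g.stalkMap (f x)).hom c * b) =
          (g.stalkMap (f x)).hom c • Groth.Agent.Lib.Helper23.UnitStalk.unitStalkEquiv (f x) b
        rw [← smul_eq_mul, map_smul] }
  have e1 : DRing.toD ((DerSch.stalkCxOver g (f x)).obj (DerSch.unitCx Y)) ≅
      Dual.inD (Z.presheaf.stalk (g (f x))) (Y.presheaf.stalk (f x)) :=
    DerivedCategory.Q.mapIso ((HomologicalComplex.singleMapHomologicalComplex
      (DerSch.stalkOver g (f x)) (ComplexShape.up ℤ) 0).app (Coh.structureModule Y)) ≪≫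
    ((DerivedCategory.singleFunctorIsoCompQ (ModuleCat.{u} (Z.presheaf.stalk (g (f x)))) 0).app
      _).symm ≪≫
    (DerivedCategory.singleFunctor (ModuleCat.{u} (Z.presheaf.stalk (g (f x)))) 0).mapIso
      eL.symm.toModuleIso
  have hB : DRing.HasTorAmplitudeIn (Z.presheaf.stalk (g (f x))) (-(n : ℤ)) 0
      (Dual.inD (Z.presheaf.stalk (g (f x))) (Y.presheaf.stalk (f x))) :=
    Groth.Agent.Lib.Helper1.Tor.hasTorAmp_of_iso e1 hgy
  have h1 := Groth.Agent.Lib.Helper1.TorDim.hasTorAmp_restrictD n hB _ a b hFx
  have hχ : ((f ≫ g).stalkMap x).hom = (f.stalkMap x).hom.comp (g.stalkMap (f x)).hom := by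
    rw [Scheme.Hom.stalkMap_comp]
    rfl
  let α := ModuleCat.restrictScalarsComp'.{u} (g.stalkMap (f x)).hom (f.stalkMap x).hom
    ((f ≫ g).stalkMap x).hom hχ
  have e2 : (DRing.restrictCx (algebraMap (Z.presheaf.stalk (g (f x))) (Y.presheaf.stalk (f x)))).obj
      ((DerSch.stalkCxOver f x).obj F) ≅ (DerSch.stalkCxOver (f ≫ g) x).obj F :=
    HomologicalComplex.Hom.isoOfComponents
      (fun i => (α.app ((DerSch.stalkFunctor X x).obj (F.X i))).symm)
      (fun i j _ => by
        ext m
        rfl)
  exact Groth.Agent.Lib.Helper1.Tor.hasTorAmp_of_iso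
    (Groth.Agent.Lib.Helper1.Restrict.restrictQIso _ _ ≪≫ DerivedCategory.Q.mapIso e2) h1

end Groth.Agent.S6187
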