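import Groth.Statements.S6478
import Mathlib
import Groth.Agent.Lib.R2H3CycFlat
import Groth.Agent.Lib.Helper3RelDim
import Groth.Agent.Lib.Helper4DimFormulaT
import Groth.Agent.S9684


set_option autoImplicit false
set_option linter.style.haveILetI false
set_option linter.unusedVariables false
universe u
open CategoryTheory AlgebraicGeometry
open CategoryTheory.Limits
open Cyc

namespace Groth.Agent.S6478

/-- Let f : Y → X be flat, locally of finite type, of relative dimension r, Y' = Y ×_X X' with f' : Y' →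
X' and q : Y' → Y, δY, δY' the induced dimension functions (q again has shift c at generic points of
its fibres). Then f' is flat of relative dimension r and (f')^* ∘ g^* = g^* ∘ f^* on k-cycles,
coefficientwise. Setting: p : X' → X is flat (not necessarily of finite type), (X, δ) and (X', δ')
satisfy Cyc.IsSetup, and δ'(x') = δ(p x') + c whenever x' is maximal under generalization inside its
fibre p⁻¹(p x'); g^* : Z_k(X) → Z_{k+c}(X') is the coefficientwise flat pullback Cyc.pullFun p δ' δ
c. (The published statement takes X′ = X ×_S S′ and Y′ = Y ×_S S′ for a flat S′ → S, with X and Y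
locally of finite type over S, and also records the same square on Chow groups, which follows; this
row allows any flat p : X′ → X with the shift condition and states the cycle-level square.) -/
theorem result (X X' Y : Scheme.{u}) (f : Y ⟶ X) (p : X' ⟶ X) [Flat f] [LocallyOfFiniteType f] [Flat p] (r : ℕ) (hr : Cyc.HasRelDim f r) (δ : X → ℤ) (δ' : X' → ℤ) (δY : Y → ℤ) (δY' : ↥(pullback f p) → ℤ) (hX : Cyc.IsSetup X δ) (hX' : Cyc.IsSetup X' δ') (hY : Cyc.IsSetup Y δY) (hf : Cyc.DeltaCompat f δY δ) (hf' : Cyc.DeltaCompat (pullback.snd f p) δY' δ') (c : ℤ) (hc : ∀ x' : X', (∀ y, p y = p x' → y ⤳ x' → y = x') → δ' x' = δ (p x') + c) (hcY : ∀ y' : ↥(pullback f p), (∀ y, pullback.fst f p y = pullback.fst f p y' → y ⤳ y' → y = y') → δY' y' = δY (pullback.fst f p y') + c) (k : ℤ) (α : AlgebraicCycle X ℤ) (hα : α ∈ Cyc.Zk X δ k) : Cyc.HasRelDim (pullback.snd f p) r ∧ Cyc.pullFun (pullback.snd f p) δY' δ' r (Cyc.pullFun p δ' δ c ⇑α) = Cyc.pullFun (pullback.fst f p) δY' δY c (Cyc.pullFun f δY δ r ⇑α) := by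
  have hpb : IsPullback (pullback.fst f p) (pullback.snd f p) f p := IsPullback.of_hasPullback f p
  have hr' : Cyc.HasRelDim (pullback.snd f p) r :=
    Groth.Agent.Lib.Helper3.RelDim.hasRelDim_of_isPullback f p _ _ hpb r hr
  refine ⟨hr', ?_⟩
  haveI : Flat (pullback.snd f p) := inferInstance
  haveI : Flat (pullback.fst f p) := inferInstance
  haveI : LocallyOfFiniteType (pullback.snd f p) := inferInstance
  have hdY' : Cyc.IsDimFun (pullback f p) δY' :=
    Groth.Agent.S9684.result (pullback.snd f p) δ' hX' δY' hf'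
  -- the shift for lft maps of relative dimension r (cf. S1861, which needs no setup hypotheses)
  have shift : ∀ {A B : Scheme.{u}} (g : A ⟶ B) [LocallyOfFiniteType g] (δA : A → ℤ)
      (δB : B → ℤ) (hrg : Cyc.HasRelDim g r)
      (hg : Cyc.DeltaCompat g δA δB) (a : A), (∀ z, g z = g a → z ⤳ a → z = a) →
      δA a = δB (g a) + (r : ℤ) := by
    intro A B g _ δA δB hrg hg a ha
    obtain ⟨Z, hZ, hdimZ⟩ :=
      Groth.Agent.Lib.Helper4.DimFormula.exists_mem_irreducibleComponents_of_maximal g (g.base a) a
        rfl ha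
    have h1 := hrg (g.base a) Z hZ
    rw [hdimZ] at h1
    have h2 : Groth.Agent.Lib.Helper4.DimFormula.ptTrdeg g a = r := by exact_mod_cast h1
    obtain ⟨n, hn, hδn⟩ := hg a
    have h3 := Groth.Agent.Lib.Helper4.DimFormula.trdeg_eq_ptTrdeg g a
    have h4 : n = Groth.Agent.Lib.Helper4.DimFormula.ptTrdeg g a := by
      have h5 : ((n : ℕ) : Cardinal.{u}) =
          (Groth.Agent.Lib.Helper4.DimFormula.ptTrdeg g a : Cardinal.{u}) := hn.symm.trans h3
      exact_mod_cast h5
    rw [hδn, h4, h2]
  have hsf := shift f δY δ hr hf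
  have hsf' := shift (pullback.snd f p) δY' δ' hr' hf'
  have e1 := Groth.Agent.Lib.R2H3.CycFlat.pullFun_comp p (pullback.snd f p) δ δ' δY' hX'.2.2 hdY' c r
    hc hsf' ⇑α
  have e2 := Groth.Agent.Lib.R2H3.CycFlat.pullFun_comp f (pullback.fst f p) δ δY δY' hY.2.2 hdY' r c
    hsf hcY ⇑α
  rw [← e1, ← e2]
  have h3 : pullback.fst f p ≫ f = pullback.snd f p ≫ p := pullback.condition
  rw [h3, add_comm]

end Groth.Agent.S6478
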