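import Groth.Statements.S6482
import Mathlib

set_option autoImplicit false
universe u
open CategoryTheory AlgebraicGeometry
open CategoryTheory.Limits
open Cyc

namespace Groth.Agent.S6482

/-- Let f : Y → X be an envelope. Then f_* : Z_k(Y) → Z_k(X) is surjective, hence so is f_* : CH_k(Y) →
CH_k(X). An envelope is a proper, completely decomposed morphism (every point of the target has a
point over it with trivial residue field extension; this prelude's Cyc.IsCompletelyDecomposed). Here
a pair (X, δ) with Cyc.IsSetup plays the role of a scheme locally of finite type over the base (S,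
δ) (X locally Noetherian with universally catenary local rings, δ a dimension function), and
Cyc.DeltaCompat records that the dimension function upstairs is the induced one. -/
theorem result (X Y : Scheme.{u}) (δ : X → ℤ) (δY : Y → ℤ) (hX : Cyc.IsSetup X δ) (hY : Cyc.IsSetup Y δY) (f : Y ⟶ X) [IsProper f] (hcd : Cyc.IsCompletelyDecomposed f) (hδ : Cyc.DeltaCompat f δY δ) (k : ℤ) (α : AlgebraicCycle X ℤ) (hα : α ∈ Cyc.Zk X δ k) : ∃ β : AlgebraicCycle Y ℤ, β ∈ Cyc.Zk Y δY k ∧ AlgebraicCycle.map f δY δ β = α := by
  classical
  choose g hg1 hg2 using hcd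
  -- the chosen points have the same `δ` as their image
  have hδg : ∀ x : X, δY (g x) = δ x := by
    intro x
    obtain ⟨n, hn, hd⟩ := hδ (g x)
    let _ := (f.residueFieldMap (g x)).hom.toAlgebra
    have hsurj : Function.Surjective (algebraMap (X.residueField (f (g x)))
        (Y.residueField (g x))) := hg2 x
    have : Algebra.IsIntegral (X.residueField (f (g x))) (Y.residueField (g x)) :=
      Algebra.isIntegral_of_surjective hsurj
    have h0 : Algebra.trdeg (X.residueField (f (g x))) (Y.residueField (g x)) = 0 :=
      _root_.trdeg_eq_zero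
    have hn0 : n = 0 := by
      have : ((n : ℕ) : Cardinal) = 0 := by rw [← hn]; exact h0
      exact_mod_cast this
    rw [hd, hn0, hg1 x]
    simp
  have hdeg : ∀ x : X, f.residueDegree (g x) = 1 := by
    intro x
    unfold Scheme.Hom.residueDegree
    let _ := (f.residueFieldMap (g x)).hom.toAlgebra
    have hsurj : Function.Surjective (algebraMap (X.residueField (f (g x)))
        (Y.residueField (g x))) := hg2 x
    have hbij : Function.Bijective (Algebra.linearMap (X.residueField (f (g x)))
        (Y.residueField (g x))) := by
      rw [Algebra.coe_linearMap]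
      exact ⟨(f.residueFieldMap (g x)).hom.injective, hsurj⟩
    rw [← (LinearEquiv.ofBijective _ hbij).finrank_eq]
    exact Module.finrank_self _
  let βf : Y → ℤ := fun y => if g (f y) = y then α (f y) else 0
  have hβsupp : ∀ y : Y, βf y ≠ 0 → g (f y) = y ∧ α (f y) ≠ 0 := by
    intro y hy
    by_cases h : g (f y) = y
    · refine ⟨h, ?_⟩
      simpa [βf, h] using hy
    · exact absurd (by simp [βf, h]) hy
  let β : AlgebraicCycle Y ℤ :=
    { toFun := βf
      supportWithinDomain' := by simp
      supportLocallyFiniteWithinDomain' := by
        intro y₀ _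
        obtain ⟨t, ht, hfin⟩ := α.supportLocallyFiniteWithinDomain' (f y₀) trivial
        refine ⟨f ⁻¹' t, f.continuous.continuousAt ht, ?_⟩
        refine (hfin.image g).subset ?_
        rintro y ⟨hyt, hy⟩
        obtain ⟨h1, h2⟩ := hβsupp y hy
        exact ⟨f y, ⟨hyt, h2⟩, h1⟩ }
  have hβ : ∀ y, β y = βf y := fun y => rfl
  refine ⟨β, ?_, ?_⟩
  · intro y hy
    rw [hβ]
    by_contra h
    obtain ⟨h1, h2⟩ := hβsupp y h
    apply h2
    apply hα
    rw [← hδg (f y), h1]
    exact hy
  · ext z
    simp only [AlgebraicCycle.map, Function.locallyFinsupp.map_apply]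
    rw [finsum_mem_def, finsum_eq_single _ (g z)]
    · rw [Set.indicator_of_mem (show g z ∈ f ⁻¹' {z} from hg1 z)]
      rw [hβ]
      simp only [βf, hg1 z, if_true, AlgebraicCycle.mapCoeff]
      rw [if_pos (hδg z), hdeg z]
      simp
    · intro y hy
      by_cases hyz : y ∈ f ⁻¹' {z}
      · rw [Set.indicator_of_mem hyz]
        have hfy : f y = z := hyz
        have : β y = 0 := by
          rw [hβ]
          simp only [βf]
          rw [if_neg]
          rw [hfy]
          exact fun h => hy h.symm
        rw [this, zero_mul]
      · exact Set.indicator_of_notMem hyz _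

end Groth.Agent.S6482
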