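import Groth.Statements.S6484
-- import your own Groth.Agent.* helpers here

set_option autoImplicit false
universe u
open CategoryTheory AlgebraicGeometry
open CategoryTheory.Limits
open Cyc

namespace Groth.Agent.S6484

/-- If f : Y → X is completely decomposed (this prelude's Cyc.IsCompletelyDecomposed: over every point
of X lies a point of Y with trivial residue field extension) and g : X' → X is any morphism of
schemes, then the base change Y ×_X X' → X' is completely decomposed. Consequently the base change
of an envelope (a proper completely decomposed morphism) is an envelope, properness being preserved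
by base change. (The published envelope statement takes X′ → X between schemes locally of finite
type over a base; this row allows any g.) -/
theorem result (X X' Y : Scheme.{u}) (f : Y ⟶ X) (g : X' ⟶ X) (hcd : Cyc.IsCompletelyDecomposed f) : Cyc.IsCompletelyDecomposed (pullback.snd f g) := by
  intro x'
  obtain ⟨y, hy, hsurj⟩ := hcd (g x')
  -- the residue field map κ(f y) → κ(y) is bijective
  have hbij : Function.Bijective (f.residueFieldMap y).hom :=
    ⟨(f.residueFieldMap y).hom.injective, hsurj⟩
  have : IsIso (f.residueFieldMap y) := by
    rw [ConcreteCategory.isIso_iff_bijective]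
    exact hbij
  let φ : Y.residueField y ⟶ X'.residueField x' :=
    inv (f.residueFieldMap y) ≫ (X.residueFieldCongr hy).hom ≫ g.residueFieldMap x'
  let b : Spec (X'.residueField x') ⟶ Y := Spec.map φ ≫ Y.fromSpecResidueField y
  let a : Spec (X'.residueField x') ⟶ X' := X'.fromSpecResidueField x'
  have hcomm : b ≫ f = a ≫ g := by
    simp only [b, a, φ, Category.assoc]
    rw [← Scheme.Hom.SpecMap_residueFieldMap_fromSpecResidueField,
      ← Scheme.Hom.SpecMap_residueFieldMap_fromSpecResidueField]
    rw [← Spec.map_comp_assoc]
    simp only [IsIso.hom_inv_id_assoc]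
    rw [Spec.map_comp_assoc, Scheme.residueFieldCongr_fromSpecResidueField]
  let K : Type u := IsLocalRing.ResidueField (X'.presheaf.stalk x')
  let t : Spec (CommRingCat.of K) ⟶ pullback f g := pullback.lift b a hcomm
  have hta : t ≫ pullback.snd f g = a := pullback.lift_snd _ _ _
  let z : ↥(pullback f g) := t (IsLocalRing.closedPoint K)
  have hz : (pullback.snd f g) z = x' := by
    have : (t ≫ pullback.snd f g) (IsLocalRing.closedPoint K) = x' := by
      rw [hta]; exact Scheme.fromSpecResidueField_apply _ _
    exact this
  refine ⟨z, hz, ?_⟩
  -- the composite κ(snd z) → κ(z) → κ(x') is (up to congruence) the identity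
  let D : (pullback f g).residueField z ⟶ CommRingCat.of K :=
    Scheme.descResidueField (Scheme.stalkClosedPointTo t)
  have hD : Spec.map D ≫ (pullback f g).fromSpecResidueField z = t :=
    Scheme.descResidueField_stalkClosedPointTo_fromSpecResidueField K _ t
  have h1 : Spec.map ((pullback.snd f g).residueFieldMap z ≫ D) ≫
      X'.fromSpecResidueField ((pullback.snd f g) z) =
      Spec.map (X'.residueFieldCongr hz).hom ≫ X'.fromSpecResidueField ((pullback.snd f g) z) := by
    rw [Scheme.residueFieldCongr_fromSpecResidueField, Spec.map_comp, Category.assoc,
      Scheme.Hom.SpecMap_residueFieldMap_fromSpecResidueField, ← Category.assoc, hD, hta]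
  have h2 : (pullback.snd f g).residueFieldMap z ≫ D = (X'.residueFieldCongr hz).hom := by
    have := (cancel_mono (X'.fromSpecResidueField ((pullback.snd f g) z))).mp h1
    exact Spec.map_injective this
  intro w
  have hbij2 : Function.Bijective (X'.residueFieldCongr hz).hom.hom :=
    (ConcreteCategory.isIso_iff_bijective _).mp inferInstance
  obtain ⟨v, hv⟩ := hbij2.2 (D.hom w)
  refine ⟨v, ?_⟩
  apply D.hom.injective
  rw [← hv, ← h2]
  rfl

end Groth.Agent.S6484
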