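import Groth.Statements.S6499
import Groth.Agent.S0019
import Groth.Agent.S0020
import Groth.Agent.Lib.Helper23Support
import Mathlib

set_option autoImplicit false
universe u
open CategoryTheory AlgebraicGeometry
open Cyc

namespace Groth.Agent.S6499

/-- Suppose X and Y are schemes locally of finite type over the base, and π : X → Y is a morphism
between them that is finite. Then π_* sends Coh_{≤k}(X) into Coh_{≤k}(Y): for F coherent on X with
dim_δ Supp(F) ≤ k, the direct image π_*F is coherent with dim_δ Supp(π_*F) ≤ k (Cyc.CohLe).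
(Exactness of π_* and the commutative diagram with the cycle maps are not restated; the latter is
the existing compatibility of [−]_k with π_*.) Here a pair (X, δ) with Cyc.IsSetup plays the role of
a scheme locally of finite type over the base (S, δ) (X locally Noetherian with universally catenary
local rings, δ a dimension function), and Cyc.DeltaCompat records that the dimension function
upstairs is the induced one. -/
theorem result (X Y : Scheme.{u}) (δX : X → ℤ) (δY : Y → ℤ) (hX : Cyc.IsSetup X δX) (hY : Cyc.IsSetup Y δY) (π : X ⟶ Y) [IsFinite π] (hδ : Cyc.DeltaCompat π δX δY) (k : ℤ) (F : X.Modules) (hF : Cyc.CohLe δX k F) : Cyc.CohLe δY k ((Coh.push π).obj F) := by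
  obtain ⟨hcoh, hdim⟩ := hF
  haveI : IsLocallyNoetherian Y := hY.1
  refine ⟨Groth.Agent.S0019.result π F hcoh, fun y hy => ?_⟩
  by_contra hlt
  have hall : ∀ x : X, π x = y → Subsingleton (F.presheaf.stalk x) := by
    intro x hx
    by_contra hns
    have hnt : Nontrivial (F.presheaf.stalk x) := not_subsingleton_iff_nontrivial.mp hns
    have h1 := hdim x hnt
    obtain ⟨n, -, hn⟩ := hδ x
    rw [hx] at hn
    omega
  have hcl : IsClosed (CohB1.support F) := Groth.Agent.S0020.result X F hcoh.2
  have hclim : IsClosed (π '' CohB1.support F) := π.isClosedMap _ hcl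
  let V : Y.Opens := ⟨(π '' CohB1.support F)ᶜ, hclim.isOpen_compl⟩
  have hyV : y ∈ V := by
    rintro ⟨x, hx, hxy⟩
    exact hx (hall x hxy)
  have hsub : Subsingleton (((Coh.push π).obj F).presheaf.stalk y) := by
    apply Groth.Agent.Lib.Helper23.Support.subsingleton_stalk_of_forall_res_eq_zero
    intro W hyW s
    refine ⟨W ⊓ V, inf_le_left, ⟨hyW, hyV⟩, ?_⟩
    exact Groth.Agent.Lib.Helper23.Support.eq_zero_of_disjoint_support F (π ⁻¹ᵁ (W ⊓ V))
      (fun x hx hxs => hx.2 ⟨x, hxs, rfl⟩) _
  exact not_subsingleton _ hsub

end Groth.Agent.S6499
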