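import Groth.Statements.S6519
import Groth.Agent.Lib.H6xPerfLoc

set_option autoImplicit false
universe u
open CategoryTheory
attribute [local instance] HasDerivedCategory.standard
open DCoh

namespace Groth.Agent.S6519

open AlgebraicGeometry in
/-- Let j : U → X be the inclusion of an open subscheme, and let T ⊆ U be a closed subset whose image
j(T) is also closed in X. Suppose E in D(O_U) is perfect and every cohomology sheaf of E has support
contained in T. In that case the derived pushforward Rj_*E is perfect as an object of D(O_X). (The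
published statement is for ringed spaces; this row is for schemes.) -/
theorem result {X : Scheme.{u}} (U : X.Opens) [DCoh.HasRpush U.ι]
    (E : DCoh.D (U : Scheme.{u})) (hE : DCoh.IsPerfect E) (T : Set (U : Scheme.{u}))
    (hT : IsClosed T) (hjT : IsClosed ((fun x : (U : Scheme.{u}) => U.ι.base x) '' T))
    (hsupp : ∀ i : ℤ, CohB1.support (DCoh.HD E i) ⊆ T) :
    DCoh.IsPerfect ((DCoh.Rpush U.ι).obj E) := by
  intro x
  by_cases hx : x ∈ (fun y : (U : Scheme.{u}) => U.ι.base y) '' T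
  · obtain ⟨y, hyT, rfl⟩ := hx
    obtain ⟨V', hyV', hV'⟩ := hE y
    refine ⟨U.ι ''ᵁ V', ⟨y, hyV', rfl⟩, fun F ⟨eF⟩ => ?_⟩
    have eF' : DCoh.toD _ ((DCoh.restrictCx U).obj F) ≅ E :=
      ((Scheme.Modules.restrictFunctor U.ι).mapDerivedCategoryFactors.app F).symm ≪≫
        (DCoh.restrictD U.ι).mapIso eF ≪≫
        (asIso (Groth.Agent.Lib.H6xSuppPush.derAdj U.ι).counit).app E
    obtain ⟨E', hE', ⟨e'⟩⟩ := hV' _ ⟨eF'⟩
    have hg : (U.ι.isoImage V').inv ≫ (V'.ι ≫ U.ι) = (U.ι ''ᵁ V').ι := U.ι.isoImage_inv_ι V'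
    have e1 : DerivedCategory.Q.obj (((Scheme.Modules.restrictFunctor (V'.ι ≫ U.ι)).mapHomologicalComplex
        (ComplexShape.up ℤ)).obj F) ≅ DerivedCategory.Q.obj E' :=
      DerivedCategory.Q.mapIso (Groth.Agent.Lib.H6xPerfLoc.restrictCxComp V'.ι U.ι _ rfl F) ≪≫ e'
    obtain ⟨e2⟩ := Groth.Agent.Lib.H6xPerfLoc.nonempty_Q_restrict_iso (U.ι.isoImage V').inv
      (V'.ι ≫ U.ι) (U.ι ''ᵁ V').ι hg F E' e1
    exact ⟨_, Groth.Agent.Lib.H6xPerfLoc.isStrictlyPerfect_restrict (U.ι.isoImage V').inv E' hE',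
      ⟨e2⟩⟩
  · let V : X.Opens := ⟨((fun y : (U : Scheme.{u}) => U.ι.base y) '' T)ᶜ, hjT.isOpen_compl⟩
    refine ⟨V, hx, fun F ⟨eF⟩ => ?_⟩
    obtain ⟨E', hE', hz'⟩ := Groth.Agent.Lib.H6xPerfLoc.exists_strictlyPerfect_isZero (V : Scheme.{u})
    refine ⟨E', hE', ?_⟩
    obtain ⟨e⟩ := Groth.Agent.Lib.H6xRpushRes.nonempty_iso U.ι V
    have hW : ∀ w : ((U.ι ⁻¹ᵁ V : (U : Scheme.{u}).Opens) : Scheme.{u}),
        (U.ι ⁻¹ᵁ V).ι.base w ∉ T := fun w hw => by
      have h1 : (U.ι ⁻¹ᵁ V).ι.base w ∈ ((U.ι ⁻¹ᵁ V : (U : Scheme.{u}).Opens) : Set (U : Scheme.{u})) := by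
        rw [← Scheme.Opens.range_ι]; exact ⟨w, rfl⟩
      exact h1 ⟨_, hw, rfl⟩
    have hz : CategoryTheory.Limits.IsZero ((DCoh.restrictD V.ι).obj ((DCoh.Rpush U.ι).obj E)) :=
      CategoryTheory.Limits.IsZero.of_iso (Groth.Agent.Lib.H6xSuppPush.isZero_Rpush _ _
        (Groth.Agent.Lib.H6xSuppPush.isZero_restrictD (U.ι ⁻¹ᵁ V).ι T hW E hsupp)) (e.app E)
    exact ⟨(CategoryTheory.Limits.IsZero.of_iso hz (((Scheme.Modules.restrictFunctor V.ι).mapDerivedCategoryFactors.app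
      F).symm ≪≫ (DCoh.restrictD V.ι).mapIso eF)).iso
      (DerivedCategory.Q.map_isZero hz')⟩

end Groth.Agent.S6519
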