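import Groth.Statements.S6530
import Mathlib

set_option autoImplicit false
universe u
open DPow

namespace Groth.Agent.S6530

namespace Aux

open Finset

variable {A : Type u} [CommRing A] {I : Ideal A} (γ : DividedPowers I) (q : A) (t : ℕ)
  (ht : Ideal.span {q} ^ t ≤ I)

include ht in
lemma lemmaA {n m : ℕ} {a b : A} (ha : a ∈ I) (hb : b ∈ I)
    (hab : a - b ∈ Ideal.span {q} ^ (n + t)) :
    γ.dpow m a - γ.dpow m b ∈ Ideal.span {q} ^ n := by
  have hy : a - b ∈ I := I.sub_mem ha hb
  rw [Ideal.span_singleton_pow, Ideal.mem_span_singleton] at hab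
  obtain ⟨c, hc⟩ := hab
  have hz : q ^ t * c ∈ I := ht (by
    rw [Ideal.span_singleton_pow]
    exact Ideal.mul_mem_right _ _ (Ideal.mem_span_singleton_self _))
  have hyz : a - b = q ^ n * (q ^ t * c) := by rw [hc, pow_add]; ring
  rw [← add_sub_cancel b a, γ.dpow_add' hb hy, range_add_one, sum_insert notMem_range_self,
    tsub_self, γ.dpow_zero hy, mul_one, add_sub_cancel_left]
  refine Ideal.sum_mem _ fun k hk => ?_
  have hk' : m - k ≠ 0 := (Nat.sub_pos_of_lt (mem_range.mp hk)).ne'
  rw [hyz, γ.dpow_mul hz, Ideal.span_singleton_pow, Ideal.mem_span_singleton]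
  exact Dvd.dvd.mul_left (Dvd.dvd.mul_right (dvd_pow_self _ hk') _) _

/-- `h` represents `y`: `h k` lifts the `k`-th component of `y`. -/
def IsRep (y : AdicCompletion (Ideal.span {q}) A) (h : ℕ → A) : Prop :=
  ∀ k, AdicCompletion.evalₐ (Ideal.span {q}) k y = Ideal.Quotient.mk _ (h k)

lemma exists_rep (y : AdicCompletion (Ideal.span {q}) A) :
    ∃ g : AdicCompletion.AdicCauchySequence (Ideal.span {q}) A, IsRep q y (fun k => g k) := by
  obtain ⟨g, rfl⟩ := AdicCompletion.mk_surjective (Ideal.span {q}) A y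
  refine ⟨g, fun k => ?_⟩
  rw [AdicCompletion.evalₐ_mk]

lemma rep_congr {y : AdicCompletion (Ideal.span {q}) A} {h h' : ℕ → A} (hy : IsRep q y h)
    (hy' : IsRep q y h') (k : ℕ) : h k - h' k ∈ Ideal.span {q} ^ k := by
  rw [← Ideal.Quotient.eq, ← hy k, ← hy' k]

lemma rep_cauchy {y : AdicCompletion (Ideal.span {q}) A} {h : ℕ → A} (hy : IsRep q y h)
    (k j : ℕ) : h (k + j) - h k ∈ Ideal.span {q} ^ k := by
  obtain ⟨g, hg⟩ := exists_rep q y
  have h1 : h (k + j) - g (k + j) ∈ Ideal.span {q} ^ k :=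
    Ideal.pow_le_pow_right (Nat.le_add_right k j) (rep_congr q hy hg (k + j))
  have h2 : g k - h k ∈ Ideal.span {q} ^ k := rep_congr q hg hy k
  have h3 : g (k + j) - g k ∈ Ideal.span {q} ^ k := by
    have := g.property (Nat.le_add_right k j)
    rw [SModEq.sub_mem] at this
    have h4 : (Ideal.span {q} ^ k • ⊤ : Submodule A A) = Ideal.span {q} ^ k := by
      ext x; simp
    rw [h4] at this
    have h5 : g (k + j) - g k = -(g k - g (k + j)) := by ring
    rw [h5]
    exact Ideal.neg_mem_iff _ |>.mpr this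
  have : h (k + j) - h k = (h (k + j) - g (k + j)) + (g (k + j) - g k) + (g k - h k) := by ring
  rw [this]
  exact Ideal.add_mem _ (Ideal.add_mem _ h1 h3) h2

/-- The kernel of `Â → A/I`. -/
noncomputable def K : Ideal (AdicCompletion (Ideal.span {q}) A) :=
  RingHom.ker ((Ideal.Quotient.factor ht).comp
    (AdicCompletion.evalₐ (Ideal.span {q}) t).toRingHom)

lemma mem_K_iff {y : AdicCompletion (Ideal.span {q}) A} {h : ℕ → A} (hy : IsRep q y h) :
    y ∈ K q t ht ↔ h t ∈ I := by
  unfold K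
  rw [RingHom.mem_ker, RingHom.comp_apply]
  change Ideal.Quotient.factor ht (AdicCompletion.evalₐ (Ideal.span {q}) t y) = 0 ↔ _
  rw [hy t, Ideal.Quotient.factor_mk, Ideal.Quotient.eq_zero_iff_mem]

lemma rep_mem {y : AdicCompletion (Ideal.span {q}) A} {h : ℕ → A} (hy : IsRep q y h)
    (hK : y ∈ K q t ht) (j : ℕ) : h (t + j) ∈ I := by
  have h1 : h t ∈ I := (mem_K_iff q t ht hy).mp hK
  have h2 : h (t + j) - h t ∈ I := ht (rep_cauchy q hy t j)
  have : h (t + j) = (h (t + j) - h t) + h t := by ring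
  rw [this]
  exact I.add_mem h2 h1

lemma rep_mem' {y : AdicCompletion (Ideal.span {q}) A} {h : ℕ → A} (hy : IsRep q y h)
    (hK : y ∈ K q t ht) (j : ℕ) : h (j + t) ∈ I := by
  rw [add_comm]; exact rep_mem q t ht hy hK j

include γ in
lemma exists_dp {x : AdicCompletion (Ideal.span {q}) A} (hx : x ∈ K q t ht) (m : ℕ) :
    ∃ y : AdicCompletion (Ideal.span {q}) A,
      ∀ g : ℕ → A, IsRep q x g → IsRep q y (fun k => γ.dpow m (g (k + t))) := by
  obtain ⟨g0, hg0⟩ := exists_rep q x
  have hc : ∀ n, γ.dpow m (g0 (n + t)) ≡ γ.dpow m (g0 (n + 1 + t))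
      [SMOD (Ideal.span {q} ^ n • ⊤ : Submodule A A)] := by
    intro n
    rw [SModEq.sub_mem]
    have h4 : (Ideal.span {q} ^ n • ⊤ : Submodule A A) = Ideal.span {q} ^ n := by
      ext x; simp
    rw [h4]
    refine lemmaA γ q t ht (rep_mem' q t ht hg0 hx n) (rep_mem' q t ht hg0 hx (n + 1)) ?_
    have h5 := rep_cauchy q hg0 (n + t) 1
    have h6 : g0 (n + t) - g0 (n + 1 + t) = -(g0 (n + t + 1) - g0 (n + t)) := by
      rw [show n + 1 + t = n + t + 1 by ring]; ring
    rw [h6]
    exact (Ideal.neg_mem_iff _).mpr h5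
  refine ⟨AdicCompletion.mk (Ideal.span {q}) A
    (AdicCompletion.AdicCauchySequence.mk (Ideal.span {q}) A _ hc), fun g hg k => ?_⟩
  rw [AdicCompletion.evalₐ_mk]
  change Ideal.Quotient.mk _ (γ.dpow m (g0 (k + t))) = _
  rw [Ideal.Quotient.eq]
  exact lemmaA γ q t ht (rep_mem' q t ht hg0 hx k) (rep_mem' q t ht hg hx k)
    (rep_congr q hg0 hg (k + t))

open Classical in
/-- The divided power operations on `K`. -/
noncomputable def dp (m : ℕ) (x : AdicCompletion (Ideal.span {q}) A) :
    AdicCompletion (Ideal.span {q}) A :=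
  if hx : x ∈ K q t ht then (exists_dp γ q t ht hx m).choose else 0

lemma dp_rep {x : AdicCompletion (Ideal.span {q}) A} (hx : x ∈ K q t ht) (m : ℕ) {g : ℕ → A}
    (hg : IsRep q x g) : IsRep q (dp γ q t ht m x) (fun k => γ.dpow m (g (k + t))) := by
  unfold dp
  rw [dif_pos hx]
  exact (exists_dp γ q t ht hx m).choose_spec g hg

lemma dp_eval {x : AdicCompletion (Ideal.span {q}) A} (hx : x ∈ K q t ht) (m : ℕ) {g : ℕ → A}
    (hg : IsRep q x g) (k : ℕ) : AdicCompletion.evalₐ (Ideal.span {q}) k (dp γ q t ht m x) =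
      Ideal.Quotient.mk _ (γ.dpow m (g (k + t))) :=
  dp_rep γ q t ht hx m hg k

lemma dp_mem {x : AdicCompletion (Ideal.span {q}) A} (hx : x ∈ K q t ht) {m : ℕ} (hm : m ≠ 0) :
    dp γ q t ht m x ∈ K q t ht := by
  obtain ⟨g, hg⟩ := exists_rep q x
  rw [mem_K_iff q t ht (dp_rep γ q t ht hx m hg)]
  exact γ.dpow_mem hm (rep_mem' q t ht hg hx t)

lemma eval_cauchy {y : AdicCompletion (Ideal.span {q}) A} {h : ℕ → A} (hy : IsRep q y h)
    (k j : ℕ) : Ideal.Quotient.mk (Ideal.span {q} ^ k) (h (k + j)) =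
      AdicCompletion.evalₐ (Ideal.span {q}) k y := by
  rw [hy k, Ideal.Quotient.eq]
  exact rep_cauchy q hy k j

/-- The divided power structure on `K`. -/
noncomputable def δ : DividedPowers (K q t ht) where
  dpow := dp γ q t ht
  dpow_null {n x} hx := by
    unfold dp
    rw [dif_neg hx]
  dpow_zero {x} hx := by
    obtain ⟨g, hg⟩ := exists_rep q x
    apply AdicCompletion.ext_evalₐ
    intro k
    rw [dp_eval γ q t ht hx 0 hg k, γ.dpow_zero (rep_mem' q t ht hg hx k), map_one, map_one]
  dpow_one {x} hx := by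
    obtain ⟨g, hg⟩ := exists_rep q x
    apply AdicCompletion.ext_evalₐ
    intro k
    rw [dp_eval γ q t ht hx 1 hg k, γ.dpow_one (rep_mem' q t ht hg hx k)]
    exact eval_cauchy q hg k t
  dpow_mem {n x} hn hx := dp_mem γ q t ht hx hn
  dpow_add {n x y} hx hy := by
    obtain ⟨g, hg⟩ := exists_rep q x
    obtain ⟨g', hg'⟩ := exists_rep q y
    have hxy : IsRep q (x + y) (fun k => g k + g' k) := by
      intro k
      rw [map_add, hg k, hg' k, map_add]
    apply AdicCompletion.ext_evalₐ
    intro k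
    rw [dp_eval γ q t ht (Ideal.add_mem _ hx hy) n hxy k, map_sum]
    simp only [map_mul]
    rw [γ.dpow_add (rep_mem' q t ht hg hx k) (rep_mem' q t ht hg' hy k), map_sum]
    refine Finset.sum_congr rfl fun i _ => ?_
    rw [map_mul, dp_eval γ q t ht hx i.1 hg k, dp_eval γ q t ht hy i.2 hg' k]
  dpow_mul {n a x} hx := by
    obtain ⟨f, hf⟩ := exists_rep q a
    obtain ⟨g, hg⟩ := exists_rep q x
    have hax : IsRep q (a * x) (fun k => f k * g k) := by
      intro k
      rw [map_mul, hf k, hg k, map_mul]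
    apply AdicCompletion.ext_evalₐ
    intro k
    rw [dp_eval γ q t ht (Ideal.mul_mem_left _ _ hx) n hax k, map_mul, map_pow,
      dp_eval γ q t ht hx n hg k, γ.dpow_mul (rep_mem' q t ht hg hx k), map_mul, map_pow,
      eval_cauchy q hf k t]
  mul_dpow {m n x} hx := by
    obtain ⟨g, hg⟩ := exists_rep q x
    apply AdicCompletion.ext_evalₐ
    intro k
    rw [map_mul, map_mul, map_natCast, dp_eval γ q t ht hx m hg k, dp_eval γ q t ht hx n hg k,
      dp_rep γ q t ht hx (m + n) hg k, ← map_mul, γ.mul_dpow (rep_mem' q t ht hg hx k), map_mul,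
      map_natCast]
  dpow_comp {m n x} hn hx := by
    obtain ⟨g, hg⟩ := exists_rep q x
    apply AdicCompletion.ext_evalₐ
    intro k
    have h1 := dp_rep γ q t ht hx n hg
    rw [dp_eval γ q t ht (dp_mem γ q t ht hx hn) m h1 k, map_mul, map_natCast,
      dp_rep γ q t ht hx (m * n) hg k]
    change Ideal.Quotient.mk _ (γ.dpow m (γ.dpow n (g (k + t + t)))) = _
    rw [γ.dpow_comp hn (rep_mem' q t ht hg hx (k + t)), map_mul, map_natCast]
    congr 1
    rw [Ideal.Quotient.eq]
    refine lemmaA γ q t ht (rep_mem' q t ht hg hx (k + t)) (rep_mem' q t ht hg hx k) ?_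
    exact rep_cauchy q hg (k + t) t

lemma isDPMorphism : γ.IsDPMorphism (δ γ q t ht)
    (algebraMap A (AdicCompletion (Ideal.span {q}) A)) := by
  have hrep : ∀ a : A, IsRep q (algebraMap A (AdicCompletion (Ideal.span {q}) A) a)
      (fun _ => a) := by
    intro a k
    rw [AdicCompletion.algebraMap_apply, Algebra.algebraMap_self, RingHom.id_apply,
      AdicCompletion.evalₐ_of]
  have hK : ∀ a ∈ I, algebraMap A (AdicCompletion (Ideal.span {q}) A) a ∈ K q t ht := by
    intro a ha
    rw [mem_K_iff q t ht (hrep a)]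
    exact ha
  refine ⟨?_, ?_⟩
  · rw [Ideal.map_le_iff_le_comap]
    intro a ha
    exact hK a ha
  · intro n a ha
    apply AdicCompletion.ext_evalₐ
    intro k
    change AdicCompletion.evalₐ _ k (dp γ q t ht n _) = _
    rw [dp_eval γ q t ht (hK a ha) n (hrep a) k, hrep (γ.dpow n a) k]

end Aux

/-- Let (A, I, γ) be a divided power ring and p a prime number with p^t A ⊆ I for some t ≥ 0, so that p
is nilpotent in A/I. Let A^∧ be the p-adic completion of A and π : A^∧ → A/I the composite of the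
evaluation A^∧ → A/p^tA with the projection A/p^tA → A/I. Then π is surjective, and there is a
divided power structure on Ker(π) (this kernel is the p-adic completion of I) such that the
canonical map A → A^∧ is a homomorphism of divided power rings. -/
theorem result {A : Type u} [CommRing A] {I : Ideal A}
    (γ : DividedPowers I) (p : ℕ) [Fact p.Prime] (t : ℕ) (ht : Ideal.span {(p : A)} ^ t ≤ I) :
    Function.Surjective ((Ideal.Quotient.factor ht).comp
      (AdicCompletion.evalₐ (Ideal.span {(p : A)}) t).toRingHom) ∧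
    ∃ δ : DividedPowers (RingHom.ker ((Ideal.Quotient.factor ht).comp
      (AdicCompletion.evalₐ (Ideal.span {(p : A)}) t).toRingHom)),
      γ.IsDPMorphism δ (algebraMap A (AdicCompletion (Ideal.span {(p : A)}) A)) := by
  refine ⟨?_, Aux.δ γ (p : A) t ht, Aux.isDPMorphism γ (p : A) t ht⟩
  exact (Ideal.Quotient.factor_surjective ht).comp
    (AdicCompletion.surjective_evalₐ (Ideal.span {(p : A)}) t)

end Groth.Agent.S6530
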