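import Groth.Statements.S6531
import Groth.Agent.Lib.R2H2CechShRes

set_option autoImplicit false
universe u
open CategoryTheory
open CechOX

namespace Groth.Agent.S6531

open AlgebraicGeometry CategoryTheory.Limits in
/-- Let X be a scheme, X = ⋃ U_i an open covering and F an O_X-module. The Čech complex of sheaves 𝔠(𝒰,
F), with 𝔠^p the product over (p+1)-tuples of the direct images of the restrictions of F to U_{i_0}
∩ … ∩ U_{i_p}, together with the canonical coaugmentation F → 𝔠^0, is a resolution of F: the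
coaugmentation is a monomorphism, its composite with the first differential is zero, it is a kernel
of that differential (every map into 𝔠^0 killed by the differential factors uniquely through it),
and the cohomology sheaves of 𝔠(𝒰, F) vanish in all positive degrees. (The published statement is
for ringed spaces; this row is for schemes.) -/
theorem result {X : Scheme.{u}} {ι : Type u} (𝒰 : ι → X.Opens) (h𝒰 : ⨆ i, 𝒰 i = ⊤)
    (F : X.Modules) :
    Mono (CechOX.cechShAug 𝒰 F) ∧
    CechOX.cechShAug 𝒰 F ≫ ((CechOX.cechSh 𝒰).obj F).d 0 1 = 0 ∧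
    (∀ (G : X.Modules) (g : G ⟶ ((CechOX.cechSh 𝒰).obj F).X 0), g ≫ ((CechOX.cechSh 𝒰).obj F).d 0 1 = 0 →
      ∃! g' : G ⟶ F, g' ≫ CechOX.cechShAug 𝒰 F = g) ∧
    ∀ p : ℕ, IsZero (((CechOX.cechSh 𝒰).obj F).homology (p + 1)) := by
  have hB := Groth.Agent.Lib.R2H2.CechShRes.isBasis_Sm 𝒰 h𝒰
  have hzero : CechOX.cechShAug 𝒰 F ≫ ((CechOX.cechSh 𝒰).obj F).d 0 1 = 0 :=
    Groth.Agent.Lib.R2H2.CechShRes.aug_d 𝒰 F
  have hmono : Mono (CechOX.cechShAug 𝒰 F) := by
    let S : ShortComplex X.Modules :=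
      ShortComplex.mk (0 : F ⟶ F) (CechOX.cechShAug 𝒰 F) Limits.zero_comp
    have hS : S.Exact :=
      Groth.Agent.Lib.R2H2.KoszExact.exact_of_basis
        (fun V : Groth.Agent.Lib.R2H2.CechShRes.Sm 𝒰 => V.1) hB S (fun V x hx => by
          obtain ⟨j, hj⟩ := V.2
          refine ⟨0, ?_⟩
          rw [Groth.Agent.Lib.R2H2.CechShRes.aug_injective 𝒰 F V.1 j hj x hx]
          exact map_zero _)
    exact (S.exact_iff_mono rfl).1 hS
  have hex : (ShortComplex.mk _ _ hzero).Exact :=
    Groth.Agent.Lib.R2H2.KoszExact.exact_of_basis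
      (fun V : Groth.Agent.Lib.R2H2.CechShRes.Sm 𝒰 => V.1) hB _ (fun V x hx => by
        obtain ⟨j, hj⟩ := V.2
        exact Groth.Agent.Lib.R2H2.CechShRes.exists_aug_eq 𝒰 F V.1 j hj x hx)
  refine ⟨hmono, hzero, ?_, ?_⟩
  · intro G g hg
    haveI := hmono
    refine ⟨hex.lift g hg, hex.lift_f g hg, fun g' hg' => ?_⟩
    rw [← cancel_mono (CechOX.cechShAug 𝒰 F), hg']
    exact (hex.lift_f g hg).symm
  · intro p
    rw [← HomologicalComplex.exactAt_iff_isZero_homology,
      HomologicalComplex.exactAt_iff' _ p (p + 1) (p + 2) (by simp) (by simp)]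
    exact Groth.Agent.Lib.R2H2.KoszExact.exact_of_basis
      (fun V : Groth.Agent.Lib.R2H2.CechShRes.Sm 𝒰 => V.1) hB _ (fun V x hx => by
        obtain ⟨j, hj⟩ := V.2
        exact Groth.Agent.Lib.R2H2.CechShRes.exists_d_eq 𝒰 F V.1 j hj x hx)

end Groth.Agent.S6531
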