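import Groth.Statements.S6712
import Groth.Agent.S2387

set_option autoImplicit false
universe u
open CategoryTheory AlgebraicGeometry
open DEquiv
open CategoryTheory.Limits

namespace Groth.Agent.S6712

open CategoryTheory.Limits in
/-- Let S be a Noetherian scheme, s ∈ S, and p : X ⟶ Y a morphism over S where X ⟶ S and Y ⟶ S are
proper and X ⟶ S is flat. If the fibre X_s ⟶ Y_s of p is an isomorphism, then there is an open
neighbourhood U of s such that the base change X_U ⟶ Y_U of p is an isomorphism. -/
theorem result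
    {S X Y : Scheme.{u}} [IsNoetherian S] (s : S) (g : X ⟶ S) (h : Y ⟶ S) (p : X ⟶ Y)
    (w : p ≫ h = g) [IsProper g] [IsProper h] [Flat g]
    (hs : IsIso (pullback.map g (S.fromSpecResidueField s) h (S.fromSpecResidueField s) p (𝟙 _)
      (𝟙 _) ((Category.comp_id g).trans w.symm)
      ((Category.comp_id _).trans (Category.id_comp _).symm))) :
    ∃ U : S.Opens, s ∈ U ∧
      IsIso (pullback.map g U.ι h U.ι p (𝟙 _) (𝟙 _) ((Category.comp_id g).trans w.symm)
        ((Category.comp_id _).trans (Category.id_comp _).symm)) := by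
  have : IsIso (CohIII.fiberMapOver p g h w s) := hs
  obtain ⟨U, hsU, hU⟩ := Groth.Agent.S2387.result p g h w s
  refine ⟨U, hsU, ?_⟩
  obtain ⟨m, hm⟩ : ∃ m, m = pullback.map g U.ι h U.ι p (𝟙 _) (𝟙 _) ((Category.comp_id g).trans w.symm)
      ((Category.comp_id _).trans (Category.id_comp _).symm) := ⟨_, rfl⟩
  rw [← hm]
  have h1 : m ≫ pullback.fst h U.ι = pullback.fst g U.ι ≫ p := by
    rw [hm]; exact pullback.lift_fst _ _ _
  have h2 : m ≫ pullback.snd h U.ι = pullback.snd g U.ι := by
    rw [hm]; exact (pullback.lift_snd _ _ _).trans (Category.comp_id _)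
  have hbig : IsPullback m (pullback.fst g U.ι) (pullback.fst h U.ι) p := by
    have big : IsPullback (m ≫ pullback.snd h U.ι) (pullback.fst g U.ι) U.ι (p ≫ h) := by
      rw [h2, w]
      exact (IsPullback.of_hasPullback g U.ι).flip
    exact IsPullback.of_right big h1 (IsPullback.of_hasPullback h U.ι).flip
  have hq : (pullbackRestrictIsoRestrict h U).hom ≫ (h ⁻¹ᵁ U).ι = pullback.fst h U.ι :=
    pullbackRestrictIsoRestrict_hom_ι h U
  rw [← hq] at hbig
  have t := isPullback_morphismRestrict p (h ⁻¹ᵁ U)
  have hfin := IsPullback.of_bot' hbig t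
  exact hfin.isIso_fst_of_isIso

end Groth.Agent.S6712
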