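import Groth.Statements.S6813
import Mathlib

set_option autoImplicit false
open CategoryTheory CategoryTheory.Limits
universe v u
open CategoryTheory CategoryTheory.SimplicialObject

namespace Groth.Agent.S6813

open Opposite Simplicial

variable {C : Type u} [Category.{v} C] (X : C) (k : ℕ) (hk : 1 ≤ k) (V : SimplicialObject (Over X))

lemma comp_helper {D : Type*} [Category D] {A B B' D' E : D} (a : A ⟶ B) (b : B ⟶ E) (g : A ⟶ D')
    (a0 : D' ⟶ B') (l : B ⟶ B') (b0 : B' ⟶ E) (h1 : g ≫ a0 = a ≫ l) (h2 : l ≫ b0 = b) :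
    a ≫ b = g ≫ a0 ≫ b0 := by
  rw [← h2, ← Category.assoc, ← h1, Category.assoc]

lemma comp_helper' {D : Type*} [Category D] {A B B' D' E : D} (a : A ⟶ B) (b : B ⟶ E) (g : A ⟶ D')
    (a0 a0' : D' ⟶ B') (l : B ⟶ B') (b0 : B' ⟶ E) (h0 : a0' = a0) (h1 : g ≫ a0' = a ≫ l)
    (h2 : l ≫ b0 = b) : a ≫ b = g ≫ a0 ≫ b0 := by
  subst h0
  exact comp_helper a b g a0' l b0 h1 h2

/-- the edge `⦋1⦌ ⟶ m` joining two vertices `i ≤ j` -/
def edge (m : SimplexCategory) (i j : Fin (m.len + 1)) (h : i ≤ j) : ⦋1⦌ ⟶ m :=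
  SimplexCategory.Hom.mk
    { toFun := fun a => if a = 0 then i else j
      monotone' := by
        intro a b hab
        fin_cases a <;> fin_cases b <;> simp_all }

lemma vtx_zero_edge (m : SimplexCategory) (i j : Fin (m.len + 1)) (h : i ≤ j) :
    SimplexCategory.const ⦋0⦌ ⦋1⦌ 0 ≫ edge m i j h = SimplexCategory.const ⦋0⦌ m i := by
  rw [SimplexCategory.const_comp]
  rfl

lemma vtx_one_edge (m : SimplexCategory) (i j : Fin (m.len + 1)) (h : i ≤ j) :
    SimplexCategory.const ⦋0⦌ ⦋1⦌ 1 ≫ edge m i j h = SimplexCategory.const ⦋0⦌ m j := by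
  rw [SimplexCategory.const_comp]
  rfl

section

variable (G : SimplicialObject C)
  (α : (SimplexCategory.Truncated.inclusion k).op ⋙ G ⟶
    (SimplexCategory.Truncated.inclusion k).op ⋙ V ⋙ Over.forget X)

/-- the object `⦋0⦌` of the truncated simplex category -/
abbrev zeroT : (SimplexCategory.Truncated k)ᵒᵖ := op ⟨⦋0⦌, by simp⟩

/-- the structure map `G_m ⟶ X` through the vertex `i` -/
def sv (m : SimplexCategoryᵒᵖ) (i : Fin (m.unop.len + 1)) : G.obj m ⟶ X :=
  G.map (SimplexCategory.const ⦋0⦌ m.unop i).op ≫ α.app (zeroT k) ≫ (V.obj (op ⦋0⦌)).hom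

/-- compatibility of `α` with the structure maps to `X`, for truncated objects -/
lemma alpha_hom (j : (SimplexCategory.Truncated k)ᵒᵖ) (i : Fin (j.unop.obj.len + 1)) :
    α.app j ≫ (V.obj (op j.unop.obj)).hom = sv X k V G α (op j.unop.obj) i := by
  have hnat := α.naturality
    (X := j) (Y := zeroT k) (ObjectProperty.homMk (SimplexCategory.const ⦋0⦌ j.unop.obj i)).op
  have hw := Over.w (V.map (SimplexCategory.const ⦋0⦌ j.unop.obj i).op)
  exact comp_helper _ _ _ _ _ _ hnat hw

/-- the object `⦋1⦌` of the truncated simplex category -/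
abbrev oneT (hk : 1 ≤ k) : (SimplexCategory.Truncated k)ᵒᵖ := op ⟨⦋1⦌, by simpa using hk⟩

lemma sv_edge_zero (m : SimplexCategoryᵒᵖ) (i j : Fin (m.unop.len + 1)) (h : i ≤ j) :
    sv X k V G α m i = G.map (edge m.unop i j h).op ≫ sv X k V G α (op ⦋1⦌) 0 := by
  unfold sv
  rw [← vtx_zero_edge m.unop i j h, op_comp, G.map_comp, Category.assoc]

lemma sv_edge_one (m : SimplexCategoryᵒᵖ) (i j : Fin (m.unop.len + 1)) (h : i ≤ j) :
    sv X k V G α m j = G.map (edge m.unop i j h).op ≫ sv X k V G α (op ⦋1⦌) 1 := by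
  unfold sv
  rw [← vtx_one_edge m.unop i j h, op_comp, G.map_comp, Category.assoc]

include hk in
lemma sv_one : sv X k V G α (op ⦋1⦌) 0 = sv X k V G α (op ⦋1⦌) 1 := by
  rw [← alpha_hom X k V G α (oneT k hk) 0, ← alpha_hom X k V G α (oneT k hk) 1]

include hk in
lemma sv_indep_le (m : SimplexCategoryᵒᵖ) (i j : Fin (m.unop.len + 1)) (h : i ≤ j) :
    sv X k V G α m i = sv X k V G α m j := by
  rw [sv_edge_zero X k V G α m i j h, sv_edge_one X k V G α m i j h, sv_one X k hk V G α]

include hk in
lemma sv_indep (m : SimplexCategoryᵒᵖ) (i j : Fin (m.unop.len + 1)) :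
    sv X k V G α m i = sv X k V G α m j := by
  rcases le_total i j with h | h
  · exact sv_indep_le X k hk V G α m i j h
  · exact (sv_indep_le X k hk V G α m j i h).symm

lemma sv_nat {m m' : SimplexCategoryᵒᵖ} (θ : m ⟶ m') (i : Fin (m'.unop.len + 1)) :
    G.map θ ≫ sv X k V G α m' i = sv X k V G α m (θ.unop.toOrderHom i) := by
  unfold sv
  rw [← Category.assoc, ← G.map_comp]
  rfl

include hk in
lemma sv_nat_zero {m m' : SimplexCategoryᵒᵖ} (θ : m ⟶ m') :
    G.map θ ≫ sv X k V G α m' 0 = sv X k V G α m 0 := by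
  rw [sv_nat, sv_indep X k hk V G α m _ 0]

/-- `G` as a simplicial object over `X`. -/
def Ghat : SimplicialObject (Over X) where
  obj m := Over.mk (sv X k V G α m 0)
  map θ := Over.homMk (G.map θ) (sv_nat_zero X k hk V G α θ)
  map_id m := by
    apply Over.OverMorphism.ext
    exact G.map_id m
  map_comp θ θ' := by
    apply Over.OverMorphism.ext
    exact G.map_comp θ θ'

/-- `α` as a map over `X`. -/
def alphaHat : (SimplexCategory.Truncated.inclusion k).op ⋙ Ghat X k hk V G α ⟶
    (SimplexCategory.Truncated.inclusion k).op ⋙ V where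
  app j := Over.homMk (α.app j) (alpha_hom X k V G α j 0)
  naturality j j' θ := by
    apply Over.OverMorphism.ext
    exact α.naturality θ

end

theorem result {C : Type u} [Category.{v} C] [HasFiniteLimits C] (X : C) (k : ℕ) (hk : 1 ≤ k) (V : SimplicialObject (Over X)) [V.IsCoskeletal k] : SimplicialObject.IsCoskeletal (V ⋙ Over.forget X) k := by
  constructor
  refine ⟨⟨IsTerminal.ofUniqueHom (fun E => ?_) (fun E m => ?_)⟩⟩
  · -- existence
    let G : SimplicialObject C := E.left
    let α : (SimplexCategory.Truncated.inclusion k).op ⋙ G ⟶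
      (SimplexCategory.Truncated.inclusion k).op ⋙ V ⋙ Over.forget X := E.hom
    let βh : Ghat X k hk V G α ⟶ V :=
      V.liftOfIsRightKanExtension (𝟙 ((SimplexCategory.Truncated.inclusion k).op ⋙ V))
        (Ghat X k hk V G α) (alphaHat X k hk V G α)
    let β : G ⟶ V ⋙ Over.forget X :=
      { app := fun m => (βh.app m).left
        naturality := fun m m' θ => congrArg Over.Hom.left (βh.naturality θ) }
    refine CostructuredArrow.homMk β ?_
    ext j
    have hfac := V.liftOfIsRightKanExtension_fac_app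
      (𝟙 ((SimplexCategory.Truncated.inclusion k).op ⋙ V))
      (Ghat X k hk V G α) (alphaHat X k hk V G α) j
    exact congrArg Over.Hom.left hfac
  · let G : SimplicialObject C := E.left
    let α : (SimplexCategory.Truncated.inclusion k).op ⋙ G ⟶
      (SimplexCategory.Truncated.inclusion k).op ⋙ V ⋙ Over.forget X := E.hom
    let βh : Ghat X k hk V G α ⟶ V :=
      V.liftOfIsRightKanExtension (𝟙 ((SimplexCategory.Truncated.inclusion k).op ⋙ V))
        (Ghat X k hk V G α) (alphaHat X k hk V G α)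
    have hmw : ∀ j : (SimplexCategory.Truncated k)ᵒᵖ,
        m.left.app ((SimplexCategory.Truncated.inclusion k).op.obj j) ≫ 𝟙 _ = α.app j :=
      fun j => NatTrans.congr_app (CostructuredArrow.w m) j
    have hγw : ∀ mm : SimplexCategoryᵒᵖ,
        m.left.app mm ≫ (V.obj mm).hom = sv X k V G α mm 0 := by
      intro mm
      have hnat := m.left.naturality (SimplexCategory.const ⦋0⦌ mm.unop 0).op
      have hw := Over.w (V.map (SimplexCategory.const ⦋0⦌ mm.unop 0).op)
      have h0 := hmw (zeroT k)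
      rw [Category.comp_id] at h0
      exact comp_helper' _ _ _ _ _ _ _ h0 hnat hw
    let γh : Ghat X k hk V G α ⟶ V :=
      { app := fun mm => Over.homMk (m.left.app mm) (hγw mm)
        naturality := fun mm mm' θ => by
          apply Over.OverMorphism.ext
          exact m.left.naturality θ }
    have hγβ : γh = βh := by
      refine V.hom_ext_of_isRightKanExtension
        (𝟙 ((SimplexCategory.Truncated.inclusion k).op ⋙ V)) γh βh ?_
      rw [V.liftOfIsRightKanExtension_fac]
      ext j
      exact hmw j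
    apply CostructuredArrow.hom_ext
    ext mm
    exact congrArg (fun t => (t.app mm).left) hγβ

end Groth.Agent.S6813
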