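import Groth.Statements.S6897
import Mathlib
import Groth.Agent.Lib.Helper18Fitt20
import Groth.Agent.Lib.H6xFittProd
import Groth.Agent.S6891

set_option autoImplicit false
universe u
open CategoryTheory
open Fitt

namespace Groth.Agent.S6897

namespace Aux

open Groth.Agent.Helper18Fitt

section General

variable {R : Type u} [CommRing R]

/-- finite + locally free of constant rank on basic opens ⇒ projective -/
theorem projective_of_locFree (Q : Type u) [AddCommGroup Q] [Module R Q] [Module.Finite R Q]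
    (r : ℕ) (h : LocFree (R := R) Q r) : Module.Projective R Q := by
  let s : Set R := {g | Module.Free (Localization.Away g) (LocalizedModule (Submonoid.powers g) Q)}
  have hs : Ideal.span s = ⊤ := by
    by_contra hne
    obtain ⟨m, hm, hle⟩ := Ideal.exists_le_maximal _ hne
    haveI := hm.isPrime
    obtain ⟨g, hg, hfree, -⟩ := h m
    exact hg (hle (Ideal.subset_span (show g ∈ s from hfree)))
  have hfp : Module.FinitePresentation R Q := by
    apply Module.FinitePresentation.of_localizationSpan s hs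
    intro g
    haveI : Module.Free (Localization.Away g.1) (LocalizedModule (Submonoid.powers g.1) Q) := g.2
    exact Module.finitePresentation_of_projective _ _
  have hflat : Module.Flat R Q := by
    refine Module.flat_of_localized_span (S := R) (M := Q) (s := s) hs ?_
    intro g
    haveI : Module.Free (Localization.Away g.1) (LocalizedModule (Submonoid.powers g.1) Q) := g.2
    haveI : Module.Flat R (Localization.Away g.1) := IsLocalization.flat _ (Submonoid.powers g.1)
    exact Module.Flat.trans R (Localization.Away g.1) _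
  exact Module.Flat.projective_of_finitePresentation

theorem exists_split (M : Type u) [AddCommGroup M] [Module R M] (K : Submodule R M)
    [Module.Projective R (M ⧸ K)] :
    ∃ σ : (M ⧸ K) →ₗ[R] M, ∀ q, K.mkQ (σ q) = q := by
  obtain ⟨σ, hσ⟩ := Module.projective_lifting_property K.mkQ LinearMap.id
    (Submodule.mkQ_surjective K)
  exact ⟨σ, fun q => LinearMap.congr_fun hσ q⟩

theorem sub_mem_of_split {M : Type u} [AddCommGroup M] [Module R M] (K : Submodule R M)
    (σ : (M ⧸ K) →ₗ[R] M) (hσ : ∀ q, K.mkQ (σ q) = q) (m : M) : m - σ (K.mkQ m) ∈ K := by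
  rw [← Submodule.Quotient.mk_eq_zero K]
  show K.mkQ (m - σ (K.mkQ m)) = 0
  rw [map_sub, hσ, sub_self]

noncomputable def splitEquiv {M : Type u} [AddCommGroup M] [Module R M] (K : Submodule R M)
    (σ : (M ⧸ K) →ₗ[R] M) (hσ : ∀ q, K.mkQ (σ q) = q) : M ≃ₗ[R] (M ⧸ K) × K :=
  LinearEquiv.ofLinear
    (K.mkQ.prod ((LinearMap.id - σ ∘ₗ K.mkQ).codRestrict K (fun m => by
      simpa using sub_mem_of_split K σ hσ m)))
    (σ.coprod K.subtype)
    (by
      refine LinearMap.ext fun ⟨q, k⟩ => Prod.ext ?_ (Subtype.ext ?_)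
      · have hk : (Submodule.Quotient.mk (k : M) : M ⧸ K) = 0 := by
          rw [Submodule.Quotient.mk_eq_zero]; exact k.2
        have hσ' : ∀ q, (Submodule.Quotient.mk (σ q) : M ⧸ K) = q := hσ
        simp [hσ', hk]
      · have hk : (Submodule.Quotient.mk (k : M) : M ⧸ K) = 0 := by
          rw [Submodule.Quotient.mk_eq_zero]; exact k.2
        have hσ' : ∀ q, (Submodule.Quotient.mk (σ q) : M ⧸ K) = q := hσ
        simp [hσ', hk])
    (by
      refine LinearMap.ext fun m => ?_
      simp)

theorem pd_lt_two {P L : Type u} [AddCommGroup P] [Module R P] [AddCommGroup L] [Module R L]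
    (φ : P →ₗ[R] L) (hφ : Function.Surjective φ) [Module.Projective R P]
    [Module.Projective R (LinearMap.ker φ)] :
    HasProjectiveDimensionLT (ModuleCat.of R L) 2 := by
  have S_exact := LinearMap.shortExact_shortComplexKer hφ
  have proj : Projective φ.shortComplexKer.X₂ :=
    ModuleCat.projective_of_categoryTheory_projective (ModuleCat.of R P)
  have h1 : HasProjectiveDimensionLT φ.shortComplexKer.X₁ (0 + 1) := by
    haveI : Projective φ.shortComplexKer.X₁ :=
      ModuleCat.projective_of_categoryTheory_projective (ModuleCat.of R (LinearMap.ker φ))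
    show HasProjectiveDimensionLT φ.shortComplexKer.X₁ 1
    infer_instance
  exact (S_exact.hasProjectiveDimensionLT_X₃_iff 0 proj).mpr h1

end General

section DualBasis

variable {R : Type u} [CommRing R] {L : Type u} [AddCommGroup L] [Module R L]

theorem det_mem_fitt_zero {n : ℕ} (x : Fin n → L) (hx : Submodule.span R (Set.range x) = ⊤)
    (a : Matrix (Fin n) (Fin n) R) (ha : ∀ i, ∑ j, a i j • x j = 0) :
    a.det ∈ Fitt.ideal R L 0 := by
  unfold Fitt.ideal
  exact Ideal.subset_span ⟨n, x, a, hx, fun i _ => ha i, rfl⟩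

theorem cramer_rows {n : ℕ} (a : Matrix (Fin n) (Fin n) R) (c : Fin n → R) :
    ∑ j, (Matrix.cramer a.transpose c j) • (a j) = a.det • c := by
  have h := Matrix.mulVec_cramer a.transpose c
  rw [Matrix.det_transpose] at h
  rw [← h]
  funext l
  simp only [Finset.sum_apply, Pi.smul_apply, smul_eq_mul, Matrix.mulVec, dotProduct,
    Matrix.transpose_apply]
  exact Finset.sum_congr rfl fun j _ => mul_comm _ _

theorem updateRow_det_mem {n : ℕ} (x : Fin n → L) (hx : Submodule.span R (Set.range x) = ⊤)
    (a : Matrix (Fin n) (Fin n) R) (ha : ∀ i, ∑ j, a i j • x j = 0)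
    (c : Fin n → R) (hc : ∑ j, c j • x j = 0) (j : Fin n) :
    (a.updateRow j c).det ∈ Fitt.ideal R L 0 := by
  apply det_mem_fitt_zero x hx
  intro i
  by_cases hij : i = j
  · subst hij; simpa [Matrix.updateRow_self] using hc
  · simpa [Matrix.updateRow_ne hij] using ha i

theorem exists_psi {n : ℕ} (x : Fin n → L) (hx : Submodule.span R (Set.range x) = ⊤)
    (f : R) (hf0 : f ∈ nonZeroDivisors R) (hF : Fitt.ideal R L 0 = Ideal.span {f})
    (a : Matrix (Fin n) (Fin n) R) (ha : ∀ i, ∑ j, a i j • x j = 0) (δ : R)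
    (hδ : a.det = f * δ) :
    ∃ ψ : LinearMap.ker (Fintype.linearCombination R x) →ₗ[R] (Fin n → R),
      ∀ c, ∑ j, ψ c j • a j = δ • (c : Fin n → R) := by
  classical
  set N := LinearMap.ker (Fintype.linearCombination R x) with hN
  let mulf : (Fin n → R) →ₗ[R] (Fin n → R) := f • LinearMap.id
  have hmulf : ∀ v j, mulf v j = f * v j := fun v j => by
    simp [mulf]
  have hinj : Function.Injective mulf := by
    intro v w hvw
    funext j
    have := congrFun hvw j
    rw [hmulf, hmulf] at this
    exact (mul_cancel_left_mem_nonZeroDivisors hf0).1 this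
  let g : N →ₗ[R] (Fin n → R) := (Matrix.cramer a.transpose) ∘ₗ N.subtype
  have hcrel : ∀ c : N, ∑ j, (c : Fin n → R) j • x j = 0 := by
    intro c
    have : (c : Fin n → R) ∈ LinearMap.ker (Fintype.linearCombination R x) := c.2
    rw [LinearMap.mem_ker, Fintype.linearCombination_apply] at this
    exact this
  have hmem : ∀ c : N, g c ∈ LinearMap.range mulf := by
    intro c
    have hdiv : ∀ j, ∃ t : R, t * f = Matrix.cramer a.transpose (c : Fin n → R) j := by
      intro j
      rw [Matrix.cramer_transpose_apply]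
      apply Ideal.mem_span_singleton'.1
      rw [← hF]
      exact updateRow_det_mem x hx a ha _ (hcrel c) j
    choose t ht using hdiv
    refine ⟨t, ?_⟩
    funext j
    rw [hmulf]
    show f * t j = Matrix.cramer a.transpose (c : Fin n → R) j
    rw [← ht j, mul_comm]
  let ψ : N →ₗ[R] (Fin n → R) :=
    (LinearEquiv.ofInjective mulf hinj).symm.toLinearMap ∘ₗ
      g.codRestrict (LinearMap.range mulf) hmem
  have hψ : ∀ c : N, mulf (ψ c) = g c := by
    intro c
    have h1 := (LinearEquiv.ofInjective mulf hinj).apply_symm_apply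
      (g.codRestrict (LinearMap.range mulf) hmem c)
    have h2 := congrArg Subtype.val h1
    simpa [ψ] using h2
  refine ⟨ψ, fun c => hinj ?_⟩
  funext l
  rw [hmulf, hmulf]
  have e1 : f * (∑ j, ψ c j • a j) l = (∑ j, (mulf (ψ c)) j • a j) l := by
    simp only [Finset.sum_apply, Pi.smul_apply, smul_eq_mul, Finset.mul_sum, hmulf]
    exact Finset.sum_congr rfl fun j _ => by ring
  rw [e1, hψ c]
  show (∑ j, (Matrix.cramer a.transpose (c : Fin n → R)) j • a j) l = f * (δ • (c : Fin n → R)) l
  rw [cramer_rows, hδ]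
  simp only [Pi.smul_apply, smul_eq_mul]
  ring

theorem projective_ker {n : ℕ} (x : Fin n → L) (hx : Submodule.span R (Set.range x) = ⊤)
    (f : R) (hf0 : f ∈ nonZeroDivisors R) (hF : Fitt.ideal R L 0 = Ideal.span {f}) :
    Module.Projective R (LinearMap.ker (Fintype.linearCombination R x)) := by
  classical
  set N := LinearMap.ker (Fintype.linearCombination R x) with hN
  have hfmem : f ∈ Fitt.ideal R L 0 := by rw [hF]; exact Ideal.mem_span_singleton_self f
  rw [fitt_eq_T x hx 0] at hfmem
  unfold T at hfmem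
  obtain ⟨m, r, g, hsum⟩ := Submodule.mem_span_set'.1 hfmem
  have hg : ∀ i, ∃ (a : Matrix (Fin n) (Fin n) R) (S : Finset (Fin n)), S.card ≤ 0 ∧
      (∀ i', i' ∉ S → ∑ j, a i' j • x j = 0) ∧ (g i : R) = a.det := fun i => (g i).2
  choose a S hS hrel hdet using hg
  have hrel' : ∀ i i', ∑ j, a i i' j • x j = 0 := by
    intro i i'
    apply hrel i i'
    have : S i = ∅ := Finset.card_eq_zero.1 (Nat.le_zero.1 (hS i))
    rw [this]; exact Finset.notMem_empty _
  have hδ : ∀ i, ∃ δ : R, (a i).det = f * δ := by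
    intro i
    have : (a i).det ∈ Ideal.span {f} := by
      rw [← hF]; exact det_mem_fitt_zero x hx (a i) (hrel' i)
    obtain ⟨δ, hδ⟩ := Ideal.mem_span_singleton'.1 this
    exact ⟨δ, by rw [← hδ, mul_comm]⟩
  choose δ hδ using hδ
  have hone : ∑ i, r i * δ i = 1 := by
    have h1 : (∑ i, r i * δ i) * f = 1 * f := by
      rw [one_mul, Finset.sum_mul]
      conv_rhs => rw [← hsum]
      refine Finset.sum_congr rfl fun i _ => ?_
      rw [hdet i, hδ i, smul_eq_mul]; ring
    exact (mul_cancel_right_mem_nonZeroDivisors hf0).1 h1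
  choose ψ hψ using fun i => exists_psi x hx f hf0 hF (a i) (hrel' i) (δ i) (hδ i)
  let rowN : Fin m → Fin n → N := fun i j => ⟨a i j, by
    show a i j ∈ LinearMap.ker (Fintype.linearCombination R x)
    rw [LinearMap.mem_ker, Fintype.linearCombination_apply]; exact hrel' i j⟩
  let Φ : (Fin m → Fin n → R) →ₗ[R] N :=
    ∑ i, ∑ j, (LinearMap.toSpanSingleton R N (r i • rowN i j)) ∘ₗ
      ((LinearMap.proj j : (Fin n → R) →ₗ[R] R) ∘ₗ
        (LinearMap.proj i : (Fin m → Fin n → R) →ₗ[R] (Fin n → R)))
  let Ψ : N →ₗ[R] (Fin m → Fin n → R) := LinearMap.pi ψ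
  refine Module.Projective.of_split Ψ Φ (LinearMap.ext fun c => Subtype.ext ?_)
  have hΦ : ∀ v, ((Φ v : N) : Fin n → R) = ∑ i, ∑ j, v i j • (r i • a i j) := by
    intro v
    simp only [Φ, LinearMap.sum_apply, LinearMap.comp_apply, LinearMap.proj_apply,
      LinearMap.toSpanSingleton_apply, Submodule.coe_sum, Submodule.coe_smul, rowN]
  rw [LinearMap.comp_apply, hΦ, LinearMap.id_apply]
  calc ∑ i, ∑ j, (Ψ c) i j • (r i • a i j) = ∑ i, r i • ∑ j, ψ i c j • a i j := by
        refine Finset.sum_congr rfl fun i _ => ?_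
        rw [Finset.smul_sum]
        refine Finset.sum_congr rfl fun j _ => ?_
        show (ψ i c j) • (r i • a i j) = r i • (ψ i c j • a i j)
        exact smul_comm _ _ _
    _ = ∑ i, r i • (δ i • (c : Fin n → R)) := by
        refine Finset.sum_congr rfl fun i _ => ?_
        rw [hψ i c]
    _ = (∑ i, r i * δ i) • (c : Fin n → R) := by
        rw [Finset.sum_smul]
        refine Finset.sum_congr rfl fun i _ => ?_
        rw [mul_smul]
    _ = c := by rw [hone, one_smul]

end DualBasis

theorem main {R : Type u} [CommRing R] (M : Type u) [AddCommGroup M] [Module R M]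
    [Module.Finite R M]
    (k : ℕ) (f : R) (hf0 : f ∈ nonZeroDivisors R)
    (hf : Fitt.ideal R M k = Ideal.span {f}) (hk : k = 0 ∨ Fitt.ideal R M (k - 1) = ⊥) :
    ∀ K' : Submodule R M, K' = FlatCA.powTorsion R f M →
      HasProjectiveDimensionLT (ModuleCat.of R M) 2 ∧
      (∀ x : M, x ∈ K' → f • x = 0) ∧
      HasProjectiveDimensionLT (ModuleCat.of R ↥K') 2 ∧
      LocFree (R := R) (M ⧸ K') k ∧
      Nonempty (M ≃ₗ[R] (M ⧸ K') × ↥K') := by
  rintro K' rfl
  set Tt := FlatCA.powTorsion R f M with hTt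
  have htop : Fitt.ideal R (M ⧸ Tt) k = ⊤ := fitt_quot_torsion_eq_top M k f hf
  have h2 : ∀ j, k ≤ j → Fitt.ideal R (M ⧸ Tt) j = ⊤ := fun j hj =>
    top_le_iff.1 (by rw [← htop]; exact fitt_mono hj)
  have h1 : ∀ j, j < k → Fitt.ideal R (M ⧸ Tt) j = ⊥ := by
    intro j hj
    rcases hk with hk | hk
    · omega
    · have hb := fitt_quot_torsion_eq_bot M (k - 1) f hf0 hk
      exact le_bot_iff.1 (by rw [← hb]; exact fitt_mono (by omega))
  have hLF : LocFree (R := R) (M ⧸ Tt) k := locFree_of_fitt (M ⧸ Tt) k h1 h2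
  haveI hproj : Module.Projective R (M ⧸ Tt) := projective_of_locFree (M ⧸ Tt) k hLF
  obtain ⟨σ, hσ⟩ := exists_split M Tt
  let e := splitEquiv Tt σ hσ
  haveI hTfin : Module.Finite R Tt :=
    Module.Finite.of_surjective ((LinearMap.snd R (M ⧸ Tt) Tt) ∘ₗ e.toLinearMap) (by
      intro t; exact ⟨e.symm (0, t), by simp⟩)
  have hF0 : Fitt.ideal R Tt 0 = Ideal.span {f} := by
    have hsum : ∑ j ∈ Finset.range (k + 1),
        Fitt.ideal R (M ⧸ Tt) j * Fitt.ideal R Tt (k - j) = Fitt.ideal R Tt 0 := by
      rw [Finset.sum_eq_single_of_mem k (Finset.self_mem_range_succ k) (fun j hj hjk => by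
        have hlt : j < k := by have := Finset.mem_range.1 hj; omega
        rw [h1 j hlt, Ideal.bot_mul]; rfl)]
      rw [htop, Nat.sub_self, Ideal.top_mul]
    rw [← hf, fitt_congr e k, Groth.Agent.Lib.H6xFittProd.main R (M ⧸ Tt) Tt k, hsum]
  have hann : ∀ x : M, x ∈ Tt → f • x = 0 := by
    intro x hx
    have hmem : f ∈ Module.annihilator R Tt := by
      apply Groth.Agent.S6891.fitt_zero_le_annihilator (R := R) (M := Tt)
      rw [hF0]; exact Ideal.mem_span_singleton_self f
    have := Module.mem_annihilator.1 hmem ⟨x, hx⟩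
    exact congrArg Subtype.val this
  obtain ⟨n, x, hx⟩ := Module.Finite.exists_fin (R := R) (M := Tt)
  let φ : (Fin n → R) →ₗ[R] Tt := Fintype.linearCombination R x
  have hφ : Function.Surjective φ := by
    rw [← LinearMap.range_eq_top, Fintype.range_linearCombination]; exact hx
  haveI hNproj : Module.Projective R (LinearMap.ker φ) := projective_ker x hx f hf0 hF0
  have hpdT : HasProjectiveDimensionLT (ModuleCat.of R Tt) 2 := pd_lt_two φ hφ
  let φM : ((M ⧸ Tt) × (Fin n → R)) →ₗ[R] M := σ.coprod (Tt.subtype ∘ₗ φ)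
  have hφM : Function.Surjective φM := by
    intro m
    obtain ⟨v, hv⟩ := hφ ⟨m - σ (Tt.mkQ m), sub_mem_of_split Tt σ hσ m⟩
    refine ⟨(Tt.mkQ m, v), ?_⟩
    simp [φM, hv]
  haveI : Module.Projective R (LinearMap.ker φM) := by
    let ι : LinearMap.ker φ →ₗ[R] LinearMap.ker φM :=
      ((LinearMap.inr R (M ⧸ Tt) (Fin n → R)) ∘ₗ (LinearMap.ker φ).subtype).codRestrict _ (by
        intro c
        rw [LinearMap.mem_ker]
        have hc : φ (c : Fin n → R) = 0 := LinearMap.mem_ker.1 c.2
        simp [φM, hc])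
    have hι : Function.Bijective ι := by
      constructor
      · intro c c' h
        have h' := congrArg (fun z : LinearMap.ker φM => (z : (M ⧸ Tt) × (Fin n → R)).2) h
        exact Subtype.ext (by simpa [ι] using h')
      · rintro ⟨⟨q, v⟩, hqv⟩
        rw [LinearMap.mem_ker] at hqv
        have hqv' : σ q + ((φ v : Tt) : M) = 0 := by simpa [φM] using hqv
        have hq : q = 0 := by
          have h3 := congrArg Tt.mkQ hqv'
          rw [map_add, hσ, map_zero] at h3
          have h4 : Tt.mkQ ((φ v : Tt) : M) = 0 := by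
            show Submodule.Quotient.mk ((φ v : Tt) : M) = 0
            rw [Submodule.Quotient.mk_eq_zero]; exact (φ v).2
          rw [h4, add_zero] at h3
          exact h3
        have hv : φ v = 0 := by
          rw [hq, map_zero, zero_add] at hqv'
          exact Subtype.ext hqv'
        refine ⟨⟨v, LinearMap.mem_ker.2 hv⟩, Subtype.ext ?_⟩
        simp [ι, hq]
    exact Module.Projective.of_equiv (LinearEquiv.ofBijective ι hι)
  have hpdM : HasProjectiveDimensionLT (ModuleCat.of R M) 2 := pd_lt_two φM hφM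
  exact ⟨hpdM, hann, hpdT, hLF, ⟨e⟩⟩

end Aux

/-- Let `M` be a finitely presented `R`-module and `k ≥ 0` such that `Fit_k(M) = (f)` for a
nonzerodivisor `f` and `Fit_{k-1}(M) = 0` (no condition when `k = 0`). Let `M' = Ker(f : M → M)`.
Then: the projective dimension of `M` is at most `1`; `M'` coincides with the `f`-power torsion of
`M` and its projective dimension is at most `1`; every prime of `R` has a basic open neighbourhood
over which `M/M'` is free of rank `k`; and `M ≅ M/M' ⊕ M'` (existence of an isomorphism). -/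
theorem result {R : Type u} [CommRing R] (M : Type u)
    [AddCommGroup M] [Module R M] [Module.FinitePresentation R M] (k : ℕ) (f : R) (hf0 : f ∈ nonZeroDivisors R)
    (hf : Fitt.ideal R M k = Ideal.span {f}) (hk : k = 0 ∨ Fitt.ideal R M (k - 1) = ⊥) :
    HasProjectiveDimensionLT (ModuleCat.of R M) 2 ∧
    (∀ x : M, (∃ n : ℕ, f ^ n • x = 0) ↔ f • x = 0) ∧
    HasProjectiveDimensionLT (ModuleCat.of R ↥(LinearMap.ker (f • (LinearMap.id : M →ₗ[R] M)))) 2 ∧
    (∀ (p : Ideal R) [p.IsPrime], ∃ g : R, g ∉ p ∧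
      Module.Free (Localization.Away g)
          (LocalizedModule (Submonoid.powers g) (M ⧸ LinearMap.ker (f • (LinearMap.id : M →ₗ[R] M)))) ∧
        Module.finrank (Localization.Away g)
          (LocalizedModule (Submonoid.powers g) (M ⧸ LinearMap.ker (f • (LinearMap.id : M →ₗ[R] M)))) = k) ∧
    Nonempty (M ≃ₗ[R] (M ⧸ LinearMap.ker (f • (LinearMap.id : M →ₗ[R] M))) ×
      ↥(LinearMap.ker (f • (LinearMap.id : M →ₗ[R] M)))) := by
  have hKer : LinearMap.ker (f • (LinearMap.id : M →ₗ[R] M)) = FlatCA.powTorsion R f M := by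
    have h := Aux.main M k f hf0 hf hk _ rfl
    apply le_antisymm
    · intro x hx
      rw [Groth.Agent.Helper18Fitt.mem_powTorsion_iff]
      exact ⟨1, by simpa using hx⟩
    · intro x hx
      rw [LinearMap.mem_ker]
      simpa using h.2.1 x hx
  obtain ⟨h1, h2, h3, h4, h5⟩ := Aux.main M k f hf0 hf hk _ hKer
  refine ⟨h1, ?_, h3, h4, h5⟩
  intro x
  constructor
  · rintro ⟨n, hn⟩
    have hx : x ∈ FlatCA.powTorsion R f M :=
      (Groth.Agent.Helper18Fitt.mem_powTorsion_iff f x).2 ⟨n, hn⟩
    rw [← hKer] at hx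
    simpa using hx
  · intro h
    exact ⟨1, by simpa using h⟩

end Groth.Agent.S6897
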