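import Groth.Statements.S6919
import Mathlib
import Groth.Agent.Lib.H3FlatLocBC
import Groth.Agent.Lib.Helper18StdEtaleCover
import Groth.Agent.Lib.Helper26FpqcFlat

set_option autoImplicit false
universe u
open FlatMor

namespace Groth.Agent.S6919

namespace Aux
open TensorProduct

variable {R S R' S' : Type u} [CommRing R] [CommRing S] [CommRing R'] [CommRing S']
    [Algebra R S] [Algebra R R'] [Algebra S S'] [Algebra R' S'] [Algebra R S'] [IsScalarTower R S S']
    [IsScalarTower R R' S'] [Algebra.IsPushout R S R' S']

/-- existence of a prime of the pushout over two primes with the same contraction -/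
lemma exists_prime (q : Ideal S) [q.IsPrime] (p' : Ideal R') [p'.IsPrime]
    (h : q.comap (algebraMap R S) = p'.comap (algebraMap R R')) :
    ∃ q' : Ideal S', q'.IsPrime ∧ q'.comap (algebraMap S S') = q ∧
      q'.comap (algebraMap R' S') = p' := by
  have h' : q.under R = p'.under R := h
  obtain ⟨Q, hQ, h1, h2⟩ :=
    Groth.Agent.Lib.Helper18StdEtaleCover.exists_prime_tensor R S R' q p' h'
  let e := Algebra.IsPushout.equiv R S R' S'
  refine ⟨Q.comap e.symm, Ideal.comap_isPrime _ _, ?_, ?_⟩
  · ext s
    rw [Ideal.mem_comap, Ideal.mem_comap]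
    have h3 : e.symm (algebraMap S S' s) = s ⊗ₜ 1 :=
      Algebra.IsPushout.equiv_symm_algebraMap_left R S R' S' s
    rw [h3, ← h1, Ideal.mem_comap]
    rfl
  · ext r
    rw [Ideal.mem_comap, Ideal.mem_comap]
    have h3 : e.symm (algebraMap R' S' r) = 1 ⊗ₜ r :=
      Algebra.IsPushout.equiv_symm_algebraMap_right R S R' S' r
    rw [h3, ← h2, Ideal.mem_comap]
    rfl

variable {M M' : Type u} [AddCommGroup M] [Module S M] [Module R M] [IsScalarTower R S M]
    [AddCommGroup M'] [Module S' M'] [Module R' M'] [IsScalarTower R' S' M'] [Module S M']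
    [IsScalarTower S S' M']

set_option maxHeartbeats 800000 in
set_option synthInstance.maxHeartbeats 200000 in
theorem core (q : Ideal S) [q.IsPrime] (q' : Ideal S') [q'.IsPrime] (p' : Ideal R') [p'.IsPrime]
    (hq'q : q'.comap (algebraMap S S') = q) (hq'p' : q'.comap (algebraMap R' S') = p')
    [Module.Flat R (Localization.AtPrime p')]
    (f : M →ₗ[S] M') (hf : IsBaseChange S' f)
    (hF' : Module.Flat R' (LocalizedModule q'.primeCompl M')) :
    Module.Flat R (LocalizedModule q.primeCompl M) := by
  haveI : q'.LiesOver q := ⟨hq'q.symm⟩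
  haveI : q'.LiesOver p' := ⟨hq'p'.symm⟩
  letI algA : Algebra (Localization.AtPrime q) (Localization.AtPrime q') :=
    Localization.AtPrime.algebraOfLiesOver q q'
  letI algP : Algebra (Localization.AtPrime p') (Localization.AtPrime q') :=
    Localization.AtPrime.algebraOfLiesOver p' q'
  -- (b) S-flatness of the local ring of S' at q'
  haveI : Algebra.IsPushout R R' S S' := Algebra.IsPushout.symm inferInstance
  have hb : Module.Flat S (Localization.AtPrime q') := by
    have hT : Algebra.algebraMapSubmonoid S' p'.primeCompl ≤ q'.primeCompl := by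
      rintro _ ⟨a, ha, rfl⟩
      show algebraMap R' S' a ∉ q'
      intro hmem
      apply ha
      rw [← hq'p']
      exact hmem
    exact Groth.Agent.H3.FlatLocBC.flat_localizedModule_of_isPushout (R := R) (S := R') (R' := S)
      (S' := S') (M := R') (M' := S') (Algebra.linearMap R' S') (IsBaseChange.linearMap R' S')
      p'.primeCompl q'.primeCompl hT
  -- (c) faithful flatness
  haveI hflatA : Module.Flat (Localization.AtPrime q) (Localization.AtPrime q') :=
    (Module.flat_iff_of_isLocalization (Localization.AtPrime q) q.primeCompl (Localization.AtPrime q')).2 hb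
  haveI : IsLocalHom (algebraMap (Localization.AtPrime q) (Localization.AtPrime q')) := by
    rw [RingHom.algebraMap_toAlgebra]
    exact Localization.isLocalHom_localRingHom q q' (algebraMap S S') Ideal.LiesOver.over
  haveI : Module.FaithfullyFlat (Localization.AtPrime q) (Localization.AtPrime q') :=
    Module.FaithfullyFlat.of_flat_of_isLocalHom
  -- (d) the identification
  have hloc : IsBaseChange (Localization.AtPrime q) (LocalizedModule.mkLinearMap q.primeCompl M) :=
    IsLocalizedModule.isBaseChange q.primeCompl (Localization.AtPrime q) _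
  have hloc' : IsBaseChange (Localization.AtPrime q')
      (LocalizedModule.mkLinearMap q'.primeCompl M') :=
    IsLocalizedModule.isBaseChange q'.primeCompl (Localization.AtPrime q') _
  have hg₀ := IsBaseChange.comp hf hloc'
  let e1 := TensorProduct.AlgebraTensorModule.congr
    (LinearEquiv.refl (Localization.AtPrime q') (Localization.AtPrime q')) hloc.equiv
  let e2 := TensorProduct.AlgebraTensorModule.cancelBaseChange S (Localization.AtPrime q)
    (Localization.AtPrime q') (Localization.AtPrime q') M
  let e : (Localization.AtPrime q') ⊗[Localization.AtPrime q] (LocalizedModule q.primeCompl M)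
      ≃ₗ[Localization.AtPrime q'] LocalizedModule q'.primeCompl M' :=
    e1.symm ≪≫ₗ e2 ≪≫ₗ hg₀.equiv
  -- (e) flatness over R of X
  have hX' : Module.Flat R'
      ((Localization.AtPrime q') ⊗[Localization.AtPrime q] (LocalizedModule q.primeCompl M)) :=
    Module.Flat.of_linearEquiv (e.restrictScalars R')
  have hXP : Module.Flat (Localization.AtPrime p')
      ((Localization.AtPrime q') ⊗[Localization.AtPrime q] (LocalizedModule q.primeCompl M)) :=
    (Module.flat_iff_of_isLocalization (Localization.AtPrime p') p'.primeCompl _).2 hX'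
  have hX : Module.Flat R
      ((Localization.AtPrime q') ⊗[Localization.AtPrime q] (LocalizedModule q.primeCompl M)) :=
    Module.Flat.trans R (Localization.AtPrime p') _
  exact Groth.Agent.Lib.Helper26.FpqcFlat.flat_of_faithfullyFlat_tensor
    (R := R) (A := Localization.AtPrime q) (A' := Localization.AtPrime q') hX

theorem main (I : Ideal R) (I' : Ideal R') (hII' : I.map (algebraMap R R') ≤ I')
    (f : M →ₗ[S] M') (hf : IsBaseChange S' f) (J : Ideal S)
    (hsurj : ∀ (p : Ideal R) [p.IsPrime], I ≤ p → ∃ (p' : Ideal R') (_ : p'.IsPrime), I' ≤ p' ∧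
      p'.comap (algebraMap R R') = p)
    (hflat : ∀ (p' : Ideal R') [p'.IsPrime], I' ≤ p' → Module.Flat R (Localization.AtPrime p'))
    (h : (∀ (q : Ideal S') [q.IsPrime], I'.map (algebraMap R' S') ⊔ J.map (algebraMap S S') ≤ q →
      FlatCA.FlatAt R' q M')) :
    (∀ (q : Ideal S) [q.IsPrime], I.map (algebraMap R S) ⊔ J ≤ q → FlatCA.FlatAt R q M) := by
  intro q _ hq
  have hIp : I ≤ q.comap (algebraMap R S) := by
    rw [← Ideal.map_le_iff_le_comap]; exact le_sup_left.trans hq
  haveI hpprime : (q.comap (algebraMap R S)).IsPrime := Ideal.comap_isPrime _ _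
  obtain ⟨p', hp'prime, hI'p', hp'p⟩ := hsurj (q.comap (algebraMap R S)) hIp
  haveI := hp'prime
  obtain ⟨q', hq'prime, hq'q, hq'p'⟩ := exists_prime (R := R) (S' := S') q p' hp'p.symm
  haveI := hq'prime
  have hq'le : I'.map (algebraMap R' S') ⊔ J.map (algebraMap S S') ≤ q' := by
    refine sup_le ?_ ?_
    · rw [Ideal.map_le_iff_le_comap, hq'p']; exact hI'p'
    · rw [Ideal.map_le_iff_le_comap, hq'q]; exact le_sup_right.trans hq
  have hF' : Module.Flat R' (LocalizedModule q'.primeCompl M') := h q' hq'le
  haveI hFP : Module.Flat R (Localization.AtPrime p') := hflat p' hI'p'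
  exact core (R := R) q q' p' hq'q hq'p' f hf hF'

end Aux

/-- Let `R → S` be a ring map, `J ⊆ S` an ideal, `M` an `S`-module and `I ⊆ R` an ideal; let `R → R'` be
a ring map and `I' ⊆ R'` an ideal containing `IR'`, and put `S' = S ⊗_R R'`, `M' = M ⊗_R R'`. Assume
that every prime of `R` containing `I` is the contraction of a prime of `R'` containing `I'`, and
that `R'_{𝔭'}` is flat over `R` for every prime `𝔭' ⊇ I'`. If `M'_{𝔮'}` is flat over `R'` for every
prime `𝔮' ⊇ I'S' + JS'` of `S'`, then `M_𝔮` is flat over `R` for every prime `𝔮 ⊇ IS + J` of `S`.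
(The published statement descends from a pair `(R'', I'')` to an arbitrary pair `(R', I')` over `R`;
this row takes `(R', I') = (R, I)`.) -/
theorem result {R S R' S' : Type u} [CommRing R] [CommRing S] [CommRing R'] [CommRing S']
    [Algebra R S] [Algebra R R'] [Algebra S S'] [Algebra R' S'] [Algebra R S'] [IsScalarTower R S S']
    [IsScalarTower R R' S'] [Algebra.IsPushout R S R' S']
    (I : Ideal R) (I' : Ideal R') (hII' : I.map (algebraMap R R') ≤ I')
    {M M' : Type u} [AddCommGroup M] [Module S M] [Module R M] [IsScalarTower R S M]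
    [AddCommGroup M'] [Module S' M'] [Module R' M'] [IsScalarTower R' S' M'] [Module S M'] [IsScalarTower S S' M']
    (f : M →ₗ[S] M') (hf : IsBaseChange S' f) (J : Ideal S)
    (hsurj : ∀ (p : Ideal R) [p.IsPrime], I ≤ p → ∃ (p' : Ideal R') (_ : p'.IsPrime), I' ≤ p' ∧ p'.comap (algebraMap R R') = p)
    (hflat : ∀ (p' : Ideal R') [p'.IsPrime], I' ≤ p' → Module.Flat R (Localization.AtPrime p'))
    (h : (∀ (q : Ideal S') [q.IsPrime], I'.map (algebraMap R' S') ⊔ J.map (algebraMap S S') ≤ q → FlatCA.FlatAt R' q M')) :
    (∀ (q : Ideal S) [q.IsPrime], I.map (algebraMap R S) ⊔ J ≤ q → FlatCA.FlatAt R q M) := by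
  exact Aux.main I I' hII' f hf J hsurj hflat h

end Groth.Agent.S6919
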