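import Groth.Statements.S6921
import Groth.Agent.S2021
import Groth.Agent.S6916

set_option autoImplicit false
universe u
open TensorProduct
open EtAlg

namespace Groth.Agent.S6921

section fibre

variable (D C' C : Type u) [CommRing D] [CommRing C'] [CommRing C] [Algebra D C] [Algebra C' C]

/-- the fibre product ring `D ×_C C'` -/
abbrev FP : Subring (D × C') :=
  RingHom.eqLocus ((algebraMap D C).comp (RingHom.fst D C')) ((algebraMap C' C).comp (RingHom.snd D C'))

noncomputable instance algD : Algebra (FP D C' C) D :=
  ((RingHom.fst D C').comp (FP D C' C).subtype).toAlgebra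

noncomputable instance algC' : Algebra (FP D C' C) C' :=
  ((RingHom.snd D C').comp (FP D C' C).subtype).toAlgebra

noncomputable instance algC : Algebra (FP D C' C) C :=
  ((algebraMap D C).comp (algebraMap (FP D C' C) D)).toAlgebra

instance towerD : IsScalarTower (FP D C' C) D C := IsScalarTower.of_algebraMap_eq (fun _ => rfl)

instance towerC' : IsScalarTower (FP D C' C) C' C := IsScalarTower.of_algebraMap_eq (fun x => x.2)

variable {D C' C}

theorem isFibreSquare (hs : Function.Surjective (algebraMap C' C)) :
    EtMil.IsFibreSquare (FP D C' C) D C' C := by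
  refine ⟨hs, fun d c' h => ⟨⟨(d, c'), h⟩, ⟨rfl, rfl⟩, ?_⟩⟩
  rintro ⟨⟨d1, c1⟩, h1⟩ ⟨rfl, rfl⟩
  rfl

/-- finiteness of the glued module over any ring surjecting onto the fibre product -/
theorem finite_of_surj (D' : Type u) [CommRing D'] [Algebra D' D] [Algebra D' C'] [Algebra D' C]
    [IsScalarTower D' D C] [IsScalarTower D' C' C]
    (hsC : Function.Surjective (algebraMap C' C))
    (hsurj : ∀ (d : D) (c' : C'), algebraMap D C d = algebraMap C' C c' →
      ∃ d' : D', algebraMap D' D d' = d ∧ algebraMap D' C' d' = c')
    {N M' : Type u} [AddCommGroup N] [Module D N] [Module D' N] [IsScalarTower D' D N]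
    [AddCommGroup M'] [Module C' M'] [Module D' M'] [IsScalarTower D' C' M']
    (φ : C ⊗[D] N ≃ₗ[C] C ⊗[C'] M') [Module.Finite D N] [Module.Finite C' M'] :
    Module.Finite D' ↥(EtMil.glue D' φ) := by
  let _ : Module (FP D C' C) N := Module.compHom N (algebraMap (FP D C' C) D)
  let _ : Module (FP D C' C) M' := Module.compHom M' (algebraMap (FP D C' C) C')
  have : IsScalarTower (FP D C' C) D N := IsScalarTower.of_algebraMap_smul (fun _ _ => rfl)
  have : IsScalarTower (FP D C' C) C' M' := IsScalarTower.of_algebraMap_smul (fun _ _ => rfl)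
  have hfin : Module.Finite (FP D C' C) ↥(EtMil.glue (FP D C' C) φ) :=
    (Groth.Agent.S2021.result (FP D C' C) D C' C (isFibreSquare hsC) N M' φ).1
      inferInstance inferInstance
  have hfg : (EtMil.glue (FP D C' C) φ).FG := Module.Finite.iff_fg.1 hfin
  obtain ⟨S, hS⟩ := hfg
  rw [Module.Finite.iff_fg]
  refine ⟨S, le_antisymm ?_ ?_⟩
  · rw [Submodule.span_le]
    intro x hx
    have h1 : x ∈ EtMil.glue (FP D C' C) φ := by
      rw [← hS]
      exact Submodule.subset_span hx
    exact h1
  · intro x hx
    have h1 : x ∈ EtMil.glue (FP D C' C) φ := hx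
    rw [← hS] at h1
    clear hx
    induction h1 using Submodule.span_induction with
    | mem y hy => exact Submodule.subset_span hy
    | zero => exact Submodule.zero_mem _
    | add y z _ _ hy hz => exact Submodule.add_mem _ hy hz
    | smul r y _ hy =>
      obtain ⟨d', hd1, hd2⟩ := hsurj r.1.1 r.1.2 r.2
      have h2 : r • y = d' • y := by
        refine Prod.ext ?_ ?_
        · change r.1.1 • y.1 = d' • y.1
          rw [← hd1, algebraMap_smul]
        · change r.1.2 • y.2 = d' • y.2
          rw [← hd2, algebraMap_smul]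
      rw [h2]
      exact Submodule.smul_mem _ d' hy

end fibre


/-- Let `B' = B ×_A A'` be a fibre square of rings with `A' → A` surjective, `B' → D'` a ring map, and
`D = D' ⊗_{B'} B`, `C' = D' ⊗_{B'} A'`, `C = D' ⊗_{B'} A`. Let `N` be a finite `D`-module, `M'` a
finite `C'`-module and `φ : N ⊗_D C ≅ M' ⊗_{C'} C` a `C`-linear isomorphism. Then the glued module
`N ×_φ M'` is a finite `D'`-module. -/
theorem result (B' B A' A : Type u) [CommRing B'] [CommRing B] [CommRing A'] [CommRing A]
    [Algebra B' B] [Algebra B' A'] [Algebra B A] [Algebra A' A] [Algebra B' A] [IsScalarTower B' B A] [IsScalarTower B' A' A]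
    (hsq : EtMil.IsFibreSquare B' B A' A)
    (D' D C' C : Type u) [CommRing D'] [CommRing D] [CommRing C'] [CommRing C]
    [Algebra B' D'] [Algebra B D] [Algebra A' C'] [Algebra A C]
    [Algebra D' D] [Algebra B' D] [IsScalarTower B' B D] [IsScalarTower B' D' D] [Algebra.IsPushout B' B D' D]
    [Algebra D' C'] [Algebra B' C'] [IsScalarTower B' A' C'] [IsScalarTower B' D' C'] [Algebra.IsPushout B' A' D' C']
    [Algebra D' C] [Algebra B' C] [IsScalarTower B' A C] [IsScalarTower B' D' C] [Algebra.IsPushout B' A D' C]
    [Algebra D C] [IsScalarTower D' D C] [Algebra B C] [IsScalarTower B A C] [IsScalarTower B D C]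
    [Algebra C' C] [IsScalarTower D' C' C] [Algebra A' C] [IsScalarTower A' A C] [IsScalarTower A' C' C]
    {N M' : Type u} [AddCommGroup N] [Module D N] [Module D' N] [IsScalarTower D' D N]
    [AddCommGroup M'] [Module C' M'] [Module D' M'] [IsScalarTower D' C' M'] (φ : C ⊗[D] N ≃ₗ[C] C ⊗[C'] M')
    [Module.Finite D N] [Module.Finite C' M'] : Module.Finite D' ↥(EtMil.glue D' φ) := by
  have hD : IsBaseChange B (IsScalarTower.toAlgHom B' D' D).toLinearMap := Algebra.IsPushout.out
  have hC' : IsBaseChange A' (IsScalarTower.toAlgHom B' D' C').toLinearMap := Algebra.IsPushout.out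
  have hC : IsBaseChange A (IsScalarTower.toAlgHom B' D' C).toLinearMap := Algebra.IsPushout.out
  have hsC : Function.Surjective (algebraMap C' C) := by
    intro c
    refine hC.inductionOn c (fun c => ∃ c', algebraMap C' C c' = c) ⟨0, map_zero _⟩ ?_ ?_ ?_
    · intro d'
      exact ⟨algebraMap D' C' d', (IsScalarTower.algebraMap_apply D' C' C d').symm⟩
    · rintro a _ ⟨c', rfl⟩
      obtain ⟨a', rfl⟩ := hsq.1 a
      refine ⟨algebraMap A' C' a' * c', ?_⟩
      rw [map_mul, Algebra.smul_def, ← IsScalarTower.algebraMap_apply A' C' C,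
        ← IsScalarTower.algebraMap_apply A' A C]
    · rintro _ _ ⟨c1, rfl⟩ ⟨c2, rfl⟩
      exact ⟨c1 + c2, map_add _ _ _⟩
  have hsurj : ∀ (d : D) (c' : C'), algebraMap D C d = algebraMap C' C c' →
      ∃ d' : D', algebraMap D' D d' = d ∧ algebraMap D' C' d' = c' := by
    intro d c' hdc
    have k1 : ∀ x : B ⊗[B'] D',
        hC.equiv ((IsScalarTower.toAlgHom B' B A).toLinearMap.rTensor D' x) =
          algebraMap D C (hD.equiv x) := by
      intro x
      induction x using TensorProduct.induction_on with
      | zero => simp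
      | tmul b d' =>
        rw [LinearMap.rTensor_tmul, hC.equiv_tmul, hD.equiv_tmul]
        simp only [AlgHom.toLinearMap_apply, IsScalarTower.coe_toAlgHom', Algebra.smul_def, map_mul]
        rw [← IsScalarTower.algebraMap_apply B A C, ← IsScalarTower.algebraMap_apply B D C,
          ← IsScalarTower.algebraMap_apply D' D C]
      | add x y hx hy => rw [map_add, map_add, map_add, map_add, hx, hy]
    have k2 : ∀ y : A' ⊗[B'] D',
        hC.equiv ((IsScalarTower.toAlgHom B' A' A).toLinearMap.rTensor D' y) =
          algebraMap C' C (hC'.equiv y) := by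
      intro y
      induction y using TensorProduct.induction_on with
      | zero => simp
      | tmul a' d' =>
        rw [LinearMap.rTensor_tmul, hC.equiv_tmul, hC'.equiv_tmul]
        simp only [AlgHom.toLinearMap_apply, IsScalarTower.coe_toAlgHom', Algebra.smul_def, map_mul]
        rw [← IsScalarTower.algebraMap_apply A' A C, ← IsScalarTower.algebraMap_apply A' C' C,
          ← IsScalarTower.algebraMap_apply D' C' C]
      | add x y hx hy => rw [map_add, map_add, map_add, map_add, hx, hy]
    obtain ⟨l, hl1, hl2⟩ := Groth.Agent.S6916.result B' B A' A hsq D' (hD.equiv.symm d)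
      (hC'.equiv.symm c') (by
        apply hC.equiv.injective
        rw [k1, k2, LinearEquiv.apply_symm_apply, LinearEquiv.apply_symm_apply, hdc])
    refine ⟨l, ?_, ?_⟩
    · have h1 := congrArg hD.equiv hl1
      rw [hD.equiv_tmul, one_smul, LinearEquiv.apply_symm_apply] at h1
      exact h1
    · have h2 := congrArg hC'.equiv hl2
      rw [hC'.equiv_tmul, one_smul, LinearEquiv.apply_symm_apply] at h2
      exact h2
  exact finite_of_surj D' hsC hsurj φ

end Groth.Agent.S6921
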