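import Groth.Statements.S6966
import Mathlib

set_option autoImplicit false
universe u
open CategoryTheory CategoryTheory.Limits
attribute [local instance] HasDerivedCategory.standard
open CAlg

namespace Groth.Agent.S6966


open DerivedCategory in
/-- Morphisms in `D(R)` from a projective module in degree `0` to a module in degree `1` vanish. -/
lemma hom_single_projective_shift_one_eq_zero {R : Type u} [CommRing R] (P N : ModuleCat.{u} R)
    [Projective P]
    (y : (singleFunctor (ModuleCat.{u} R) 0).obj P ⟶
      ((singleFunctor (ModuleCat.{u} R) 0).obj N)⟦(1 : ℤ)⟧) : y = 0 := by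
  obtain ⟨e, he⟩ := (Abelian.Ext.homEquiv.{u + 1} (X := P) (Y := N) (n := 1)).surjective y
  have he0 : e = 0 := Abelian.Ext.eq_zero_of_projective (n := 0) e
  rw [← he, he0]
  exact Abelian.Ext.zero_hom (C := ModuleCat.{u} R) (X := P) (Y := N) (n := 1)

/-- Let R be a commutative ring, I an ideal of R and M an R-module. Then the following two conditions
coincide: for each a ∈ I, the endomorphism of M given by multiplication by a can be written as a
composite M → P → M with P some projective R-module; and for every R-module N and every a ∈ I, a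
annihilates Ext^1_R(M, N) = Hom(M[0], N[1]) in D(R). -/
theorem result (R : Type u) [CommRing R] (I : Ideal R) (M : Type u)
    [AddCommGroup M] [Module R M] :
    (∀ a ∈ I, ∃ (P : Type u) (_ : AddCommGroup P) (_ : Module R P) (_ : Module.Projective R P)
        (f : M →ₗ[R] P) (g : P →ₗ[R] M), g ∘ₗ f = a • LinearMap.id) ↔
      ∀ (N : Type u) [AddCommGroup N] [Module R N], ∀ a ∈ I,
        ∀ x : DRing.ExtD R (Dual.inD R M) (Dual.inD R N) 1, a • x = 0 := by
  constructor
  · intro h N _ _ a ha x
    obtain ⟨P, _, _, hP, f, g, hgf⟩ := h a ha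
    haveI : Projective (ModuleCat.of R P) := (IsProjective.iff_projective P).1 hP
    have h0 : (ModuleCat.ofHom (a • LinearMap.id : M →ₗ[R] M)) = a • 𝟙 (ModuleCat.of R M) := by
      ext m
      simp
    have h1 : a • x = (DerivedCategory.singleFunctor (ModuleCat.{u} R) 0).map
        (ModuleCat.ofHom (a • LinearMap.id : M →ₗ[R] M)) ≫ x := by
      rw [h0, Functor.map_smul, CategoryTheory.Functor.map_id, Linear.smul_comp, Category.id_comp]
    rw [h1, ← hgf, ModuleCat.ofHom_comp, Functor.map_comp, Category.assoc]
    have h2 := hom_single_projective_shift_one_eq_zero (ModuleCat.of R P) (ModuleCat.of R N)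
      ((DerivedCategory.singleFunctor (ModuleCat.{u} R) 0).map (ModuleCat.ofHom g) ≫ x)
    rw [h2, comp_zero]
  · intro h a ha
    let π : (M →₀ R) →ₗ[R] M := Finsupp.linearCombination R id
    have hπ : Function.Surjective π := Finsupp.linearCombination_id_surjective R M
    have hS : π.shortComplexKer.ShortExact := LinearMap.shortExact_shortComplexKer hπ
    have hT := hS.singleTriangle_distinguished
    have h3 := h (LinearMap.ker π) a ha hS.singleδ
    -- `a • 𝟙` composed with the connecting morphism vanishes
    have h4 : (a • 𝟙 hS.singleTriangle.obj₃) ≫ hS.singleTriangle.mor₃ = 0 := by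
      rw [Linear.smul_comp, Category.id_comp]
      exact h3
    obtain ⟨ψ, hψ⟩ := Pretriangulated.Triangle.coyoneda_exact₃ _ hT _ h4
    obtain ⟨φ, rfl⟩ := (DerivedCategory.singleFunctor (ModuleCat.{u} R) 0).map_surjective ψ
    refine ⟨(M →₀ R), inferInstance, inferInstance, inferInstance, φ.hom, π, ?_⟩
    have h5 : (DerivedCategory.singleFunctor (ModuleCat.{u} R) 0).map (a • 𝟙 (ModuleCat.of R M)) =
        (DerivedCategory.singleFunctor (ModuleCat.{u} R) 0).map (φ ≫ ModuleCat.ofHom π) := by
      rw [Functor.map_smul, CategoryTheory.Functor.map_id, Functor.map_comp]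
      exact hψ
    have h6 := (DerivedCategory.singleFunctor (ModuleCat.{u} R) 0).map_injective h5
    ext m
    have := congrArg (fun k => k.hom m) h6
    simpa using this.symm

end Groth.Agent.S6966
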