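import Groth.Statements.S6972
import Groth.Agent.Lib.R2LeadMinCxB

set_option autoImplicit false
universe u
open CategoryTheory CategoryTheory.Limits
attribute [local instance] HasDerivedCategory.standard
open DRing

namespace Groth.Agent.S6972

/-- Let R be a local commutative ring with residue field κ such that the derived base change D(R) → D(κ)
exists, and let K be a pseudo-coherent object of D(R). Write d_i for the κ-dimension of H^i(K ⊗^L_R
κ). Then every H^i(K ⊗^L_R κ) is finite dimensional and vanishes for i large; there is a bounded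
above cochain complex P of finite free R-modules with rank P^i = d_i for all i which is isomorphic
to K in D(R); and any two such complexes are isomorphic as complexes of R-modules. -/
theorem result (R : Type u) [CommRing R] [IsLocalRing R]
    [DRing.HasLBaseChange (IsLocalRing.residue R)] (K : Dual.D R) (hK : DRing.IsPseudoCoherent' R K) :
    let κ := IsLocalRing.ResidueField R
    let Kκ := (DRing.LBaseChange (IsLocalRing.residue R)).obj K
    let Minimal := fun P : DRing.Cx R => (∃ b : ℤ, DRing.VanishesAbove P b) ∧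
      (∀ i : ℤ, Module.Free R (P.X i) ∧ Module.Finite R (P.X i) ∧
        Module.finrank R (P.X i) = Module.finrank κ (Dual.HD κ Kκ i)) ∧ Nonempty (DRing.toD P ≅ K)
    (∀ i : ℤ, Module.Finite κ (Dual.HD κ Kκ i)) ∧ (∃ b : ℤ, ∀ i : ℤ, b < i → Subsingleton (Dual.HD κ Kκ i)) ∧
      (∃ P : DRing.Cx R, Minimal P) ∧ ∀ P Q : DRing.Cx R, Minimal P → Minimal Q → Nonempty (P ≅ Q) := by
  open IsLocalRing DerivedCategory Groth.Agent.Lib.Helper1.LDer Groth.Agent.Lib.R2Lead.MinCx in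
  intro κ Kκ Minimal
  obtain ⟨E, b, hEb, hEf, ⟨eE⟩⟩ := hK
  obtain ⟨P₀, π, hP₀b, hP₀f, hπ, hmin⟩ := exists_minimal E b hEb hEf
  haveI : IsIso (Q.map π) := (isIso_Q_map_iff_quasiIso (φ := π)).2 hπ
  -- `toD P₀ ≅ K`
  let e₀ : DRing.toD P₀ ≅ K := (asIso (Q.map π)).symm ≪≫ eE
  -- the comparison `H^i(K ⊗^L κ) ≃ κ ⊗ P₀^i`
  have hequiv : ∀ i : ℤ, Nonempty (Dual.HD κ Kκ i ≃ₗ[κ]
      ((ModuleCat.extendScalars.{u, u, u} (residue R)).obj (P₀.X i))) := by
    intro i
    obtain ⟨g⟩ := HD_equiv_of_minimal P₀ b hP₀b hP₀f hmin i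
    let iso : (homologyFunctor (ModuleCat.{u} κ) i).obj Kκ ≅
        (homologyFunctor (ModuleCat.{u} κ) i).obj
          ((DRing.LBaseChange (residue R)).obj (DRing.toD P₀)) :=
      (homologyFunctor (ModuleCat.{u} κ) i).mapIso
        ((DRing.LBaseChange (residue R)).mapIso e₀.symm)
    exact ⟨iso.toLinearEquiv.trans g⟩
  have hrank₀ : ∀ i : ℤ, Module.finrank R (P₀.X i) = Module.finrank κ (Dual.HD κ Kκ i) := by
    intro i
    obtain ⟨g⟩ := hequiv i
    have := (hP₀f i).2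
    rw [g.finrank_eq, finrank_bc]
  have hfin : ∀ i : ℤ, Module.Finite κ (Dual.HD κ Kκ i) := by
    intro i
    obtain ⟨g⟩ := hequiv i
    have := (hP₀f i).1
    have := finite_bc (residue R) (P₀.X i)
    exact Module.Finite.equiv g.symm
  have hvan : ∀ i : ℤ, b < i → Subsingleton (Dual.HD κ Kκ i) := by
    intro i hi
    obtain ⟨g⟩ := hequiv i
    have hz : IsZero ((ModuleCat.extendScalars.{u, u, u} (residue R)).obj (P₀.X i)) :=
      (ModuleCat.extendScalars.{u, u, u} (residue R)).map_isZero (hP₀b i hi)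
    have := ModuleCat.subsingleton_of_isZero hz
    exact g.toEquiv.subsingleton
  have hMin₀ : Minimal P₀ :=
    ⟨⟨b, hP₀b⟩, fun i => ⟨(hP₀f i).2, (hP₀f i).1, hrank₀ i⟩, ⟨e₀⟩⟩
  have huniq : ∀ P : DRing.Cx R, Minimal P → Nonempty (P ≅ P₀) := by
    rintro P ⟨⟨b', hPb⟩, hPf, ⟨eP⟩⟩
    exact iso_of_minimal P P₀ b' b hPb (fun i => ⟨(hPf i).2.1, (hPf i).1⟩) hP₀b hP₀f hmin
      (fun i => by rw [(hPf i).2.2, hrank₀ i]) (eP ≪≫ e₀.symm)
  refine ⟨hfin, ⟨b, hvan⟩, ⟨P₀, hMin₀⟩, fun P Q' hP hQ => ?_⟩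
  obtain ⟨e1⟩ := huniq P hP
  obtain ⟨e2⟩ := huniq Q' hQ
  exact ⟨e1 ≪≫ e2.symm⟩

end Groth.Agent.S6972
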