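import Groth.Statements.S6989
import Mathlib
import Groth.Agent.S6942
import Groth.Agent.S2066
import Groth.Agent.Lib.Helper1PC

set_option autoImplicit false
universe u
open CategoryTheory CategoryTheory.Limits
attribute [local instance] HasDerivedCategory.standard
open DRing

namespace Groth.Agent.S6989


/-- Artin–Rees consequence: if `B ≤ Z` are submodules of a finite module over a Noetherian ring with
`B + mZ ≠ Z`, then `Z` is not contained in `B + m^n P` for some `n`. -/
lemma exists_pow_not_le {A : Type u} [CommRing A] [IsNoetherianRing A] (m : Ideal A) {P : Type u}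
    [AddCommGroup P] [Module A P] [Module.Finite A P] (Z B : Submodule A P) (hBZ : B ≤ Z)
    (hne : B ⊔ m • Z ≠ Z) : ∃ n : ℕ, ¬ Z ≤ B ⊔ m ^ n • (⊤ : Submodule A P) := by
  obtain ⟨k, hk⟩ := Ideal.exists_pow_inf_eq_pow_smul m Z
  refine ⟨k + 1, fun hle => hne ?_⟩
  apply le_antisymm (sup_le hBZ Submodule.smul_le_right)
  have h1 : Z = B ⊔ (m ^ (k + 1) • (⊤ : Submodule A P) ⊓ Z) := by
    rw [← sup_inf_assoc_of_le _ hBZ]
    exact (inf_eq_right.mpr hle).symm
  have h2 := hk (k + 1) (Nat.le_succ k)
  rw [Nat.add_sub_cancel_left, pow_one] at h2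
  rw [h2] at h1
  calc Z = B ⊔ m • (m ^ k • ⊤ ⊓ Z) := h1
    _ ≤ B ⊔ m • Z := sup_le_sup_left (Submodule.smul_mono le_rfl inf_le_right) _

open DerivedCategory in
/-- From `m H^i ≠ H^i` to the statement on cycles and boundaries. -/
lemma boundaries_sup_ne {A : Type u} [CommRing A] (E : DRing.Cx A) (m : Ideal A) (i : ℤ)
    (hi : m • (⊤ : Submodule A (E.homology i)) ≠ ⊤) :
    LinearMap.range (E.d (i - 1) i).hom ⊔ m • LinearMap.ker (E.d i (i + 1)).hom ≠
      LinearMap.ker (E.d i (i + 1)).hom := by
  intro heq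
  apply hi
  set Z := LinearMap.ker (E.d i (i + 1)).hom with hZ
  set B := LinearMap.range (E.d (i - 1) i).hom with hB
  let θ := (Groth.Agent.Lib.Helper1.PC.homologyIsoQuot E i).symm.toLinearEquiv
  let B' : Submodule A Z := LinearMap.range (E.sc' (i - 1) i (i + 1)).moduleCatToCycles
  let π : Z →ₗ[A] E.homology i := θ.toLinearMap ∘ₗ B'.mkQ
  have hπ : Function.Surjective π := θ.surjective.comp (Submodule.mkQ_surjective _)
  rw [eq_top_iff]
  rintro h -
  obtain ⟨z, rfl⟩ := hπ h
  have hz : (z : E.X i) ∈ B ⊔ m • Z := by rw [heq]; exact z.2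
  obtain ⟨b, hb, w, hw, hbw⟩ := Submodule.mem_sup.mp hz
  have hwZ : w ∈ Z := Submodule.smul_le_right hw
  have hbZ : b ∈ Z := by
    obtain ⟨y, rfl⟩ := hb
    exact congrArg (fun k => k.hom y) (E.d_comp_d (i - 1) i (i + 1))
  have hsplit : z = ⟨b, hbZ⟩ + ⟨w, hwZ⟩ := Subtype.ext hbw.symm
  have hb0 : π ⟨b, hbZ⟩ = 0 := by
    have : (⟨b, hbZ⟩ : Z) ∈ B' := by
      obtain ⟨y, rfl⟩ := hb
      exact ⟨y, rfl⟩
    have h0 : B'.mkQ ⟨b, hbZ⟩ = 0 := (Submodule.Quotient.mk_eq_zero B').mpr this
    show θ (B'.mkQ ⟨b, hbZ⟩) = 0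
    rw [h0]
    exact map_zero θ
  rw [hsplit, map_add, hb0, zero_add]
  have hw' : (⟨w, hwZ⟩ : Z) ∈ m • (⊤ : Submodule A Z) := by
    rw [Submodule.mem_smul_top_iff]
    exact hw
  have := Submodule.mem_map_of_mem (f := π) hw'
  rw [Submodule.map_smul''] at this
  exact Submodule.smul_mono le_rfl le_top this

/-- Let A be a Noetherian commutative ring, K an object of D(A) whose cohomology vanishes in large
degrees and whose cohomology modules are all finitely generated, m a maximal ideal of A and i an
integer such that m H^i(K) ≠ H^i(K). Then some finitely generated A-module E killed by a power of m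
receives a morphism K → E[-i] in D(A) whose induced map H^i(K) → H^i(E[-i]) is nonzero. -/
theorem result (A : Type u) [CommRing A]
    [IsNoetherianRing A] (K : Dual.D A) (hb : ∃ b : ℤ, ∀ j : ℤ, b < j → Subsingleton (Dual.HD A K j))
    (hfin : ∀ j : ℤ, Module.Finite A (Dual.HD A K j)) (m : Ideal A) [m.IsMaximal] (i : ℤ)
    (hi : m • (⊤ : Submodule A (Dual.HD A K i)) ≠ ⊤) :
    ∃ (E : Type u) (_ : AddCommGroup E) (_ : Module A E) (_ : Module.Finite A E) (n : ℕ)
      (_ : m ^ n • (⊤ : Submodule A E) = ⊥) (f : K ⟶ (shiftFunctor (Dual.D A) (-i)).obj (Dual.inD A E)),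
      (DerivedCategory.homologyFunctor (ModuleCat.{u} A) i).map f ≠ 0 := by
  classical
  -- Step 1: represent `K` by a bounded above complex of finite free modules
  have hpc : ∀ k : ℤ, DRing.IsPseudoCoherent A k K := fun k =>
    ((Groth.Agent.S6942.result A k K PUnit).1).2 ⟨hb, fun j _ => hfin j⟩
  obtain ⟨E, b, hEb, hff, ⟨e⟩⟩ := (Groth.Agent.S2066.result K).1.1 hpc
  -- Step 2: transport the hypothesis to the homology of `E`
  let ι : Dual.HD A K i ≃ₗ[A] E.homology i :=
    ((DerivedCategory.homologyFunctor (ModuleCat.{u} A) i).mapIso e.symm ≪≫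
      (DerivedCategory.homologyFunctorFactors (ModuleCat.{u} A) i).app E).toLinearEquiv
  have hi' : m • (⊤ : Submodule A (E.homology i)) ≠ ⊤ := by
    intro h
    apply hi
    have h1 := congrArg (Submodule.map ι.symm.toLinearMap) h
    rw [Submodule.map_smul'', Submodule.map_top, LinearMap.range_eq_top.mpr ι.symm.surjective] at h1
    exact h1
  have hne := boundaries_sup_ne E m i hi'
  haveI : Module.Finite A (E.X i) := (hff i).1
  obtain ⟨n, hn⟩ := exists_pow_not_le m (LinearMap.ker (E.d i (i + 1)).hom)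
    (LinearMap.range (E.d (i - 1) i).hom) (by
      rintro _ ⟨y, rfl⟩
      exact congrArg (fun k => k.hom y) (E.d_comp_d (i - 1) i (i + 1))) hne
  -- Step 3: the module and the chain map
  set Z := LinearMap.ker (E.d i (i + 1)).hom with hZ
  set B := LinearMap.range (E.d (i - 1) i).hom with hB
  let W : Submodule A (E.X i) := B ⊔ m ^ n • ⊤
  let g : E.X i ⟶ ModuleCat.of A (E.X i ⧸ W) := ModuleCat.ofHom W.mkQ
  have hg : ∀ k, (ComplexShape.up ℤ).Rel k i → E.d k i ≫ g = 0 := by
    intro k hk
    obtain rfl : k = i - 1 := by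
      simp only [ComplexShape.up_Rel] at hk
      omega
    ext y
    simp only [g, ModuleCat.hom_comp, ModuleCat.hom_ofHom, LinearMap.coe_comp, Function.comp_apply,
      Submodule.mkQ_apply, ModuleCat.hom_zero, LinearMap.zero_apply]
    rw [Submodule.Quotient.mk_eq_zero]
    exact le_sup_left (a := B) ⟨y, rfl⟩
  let φ : E ⟶ (HomologicalComplex.single (ModuleCat.{u} A) (ComplexShape.up ℤ) i).obj
      (ModuleCat.of A (E.X i ⧸ W)) := HomologicalComplex.mkHomToSingle g hg
  let τ : DerivedCategory.Q.obj ((HomologicalComplex.single (ModuleCat.{u} A) (ComplexShape.up ℤ) i).obj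
      (ModuleCat.of A (E.X i ⧸ W))) ≅
      (shiftFunctor (Dual.D A) (-i)).obj (Dual.inD A (E.X i ⧸ W)) :=
    (((DerivedCategory.singleFunctors (ModuleCat.{u} A)).shiftIso (-i) i 0 (by omega)).app
      (ModuleCat.of A (E.X i ⧸ W))).symm
  refine ⟨E.X i ⧸ W, inferInstance, inferInstance, inferInstance, n, ?_,
    e.inv ≫ DerivedCategory.Q.map φ ≫ τ.hom, ?_⟩
  · -- killed by `m ^ n`
    rw [eq_bot_iff]
    refine Submodule.smul_le.mpr ?_
    intro a ha x _
    obtain ⟨x, rfl⟩ := Submodule.Quotient.mk_surjective W x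
    rw [Submodule.mem_bot, ← Submodule.Quotient.mk_smul, Submodule.Quotient.mk_eq_zero]
    exact le_sup_right (a := B) (Submodule.smul_mem_smul ha Submodule.mem_top)
  · -- nonvanishing on `H^i`
    intro h0
    apply hn
    rw [Functor.map_comp, Functor.map_comp] at h0
    have h1 : (DerivedCategory.homologyFunctor (ModuleCat.{u} A) i).map (DerivedCategory.Q.map φ) = 0 := by
      have h2 := (cancel_epi ((DerivedCategory.homologyFunctor (ModuleCat.{u} A) i).map e.inv)).1
        (h0.trans comp_zero.symm)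
      exact (cancel_mono ((DerivedCategory.homologyFunctor (ModuleCat.{u} A) i).map τ.hom)).1
        (h2.trans zero_comp.symm)
    have h3 : HomologicalComplex.homologyMap φ i = 0 := by
      have nat := (DerivedCategory.homologyFunctorFactors (ModuleCat.{u} A) i).hom.naturality φ
      simp only [Functor.comp_map] at nat
      rw [h1, zero_comp] at nat
      have hnat : (DerivedCategory.homologyFunctorFactors (ModuleCat.{u} A) i).hom.app E ≫
          HomologicalComplex.homologyMap φ i = 0 := nat.symm
      haveI : IsIso ((DerivedCategory.homologyFunctorFactors (ModuleCat.{u} A) i).hom.app E) :=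
        inferInstance
      exact (cancel_epi ((DerivedCategory.homologyFunctorFactors (ModuleCat.{u} A) i).hom.app E)).1
        (hnat.trans comp_zero.symm)
    -- the target complex has zero differentials
    let S := (HomologicalComplex.single (ModuleCat.{u} A) (ComplexShape.up ℤ) i).obj
      (ModuleCat.of A (E.X i ⧸ W))
    haveI : IsIso (S.homologyπ i) :=
      HomologicalComplex.isIso_homologyπ S (i - 1) i (by simp)
        (HomologicalComplex.single_obj_d _ _ _ _ _)
    haveI : IsIso (S.iCycles i) :=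
      HomologicalComplex.isIso_iCycles S i (i + 1) (by simp)
        (HomologicalComplex.single_obj_d _ _ _ _ _)
    have h4 : HomologicalComplex.cyclesMap φ i = 0 := by
      have nat := HomologicalComplex.homologyπ_naturality φ i
      rw [h3, comp_zero] at nat
      exact (cancel_mono (S.homologyπ i)).1 (nat.symm.trans zero_comp.symm)
    have h5 : E.iCycles i ≫ φ.f i = 0 := by
      rw [← HomologicalComplex.cyclesMap_i, h4, zero_comp]
    -- every cycle maps to zero
    intro z hz
    let ζ : ModuleCat.of A Z ⟶ E.X i := ModuleCat.ofHom Z.subtype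
    have hζ : ζ ≫ E.d i (i + 1) = 0 := by
      ext y
      exact y.2
    have h6 : ζ ≫ φ.f i = 0 := by
      rw [← E.liftCycles_i ζ (i + 1) (by simp) hζ, Category.assoc, h5, comp_zero]
    have h7 : ζ ≫ g = 0 := by
      have : φ.f i = g ≫ (HomologicalComplex.singleObjXSelf (ComplexShape.up ℤ) i
          (ModuleCat.of A (E.X i ⧸ W))).inv := HomologicalComplex.mkHomToSingle_f g hg
      rw [this, ← Category.assoc] at h6
      exact (cancel_mono _).1 (h6.trans zero_comp.symm)
    have h8 := congrArg (fun k => k.hom ⟨z, hz⟩) h7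
    simp only [ζ, g, ModuleCat.hom_comp, ModuleCat.hom_ofHom, LinearMap.coe_comp,
      Function.comp_apply, Submodule.subtype_apply, Submodule.mkQ_apply, ModuleCat.hom_zero,
      LinearMap.zero_apply] at h8
    exact (Submodule.Quotient.mk_eq_zero W).mp h8

end Groth.Agent.S6989
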