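import Groth.Statements.S7066
import Groth.Agent.Lib.R2H3PolyTorDim
import Groth.Agent.S6954

set_option autoImplicit false
set_option linter.style.haveILetI false
set_option linter.unusedVariables false
universe u
attribute [local instance] HasDerivedCategory.standard
open MoreMor

namespace Groth.Agent.S7066

/-- A homomorphism of commutative rings A → B is perfect, i.e. pseudo-coherent with B of finite tor
dimension as an A-module, if and only if B is a quotient of a polynomial ring A[x_1, …, x_n] over
which B is a perfect module, i.e. B placed in degree 0 is isomorphic in the derived category of the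
polynomial ring to a bounded complex of finite projective modules. -/
theorem result (A B : Type u) [CommRing A] [CommRing B] [Algebra A B] :
    MoreMor.IsPerfectHom A B ↔
      ∃ (n : ℕ) (φ : MvPolynomial (Fin n) A →ₐ[A] B), Function.Surjective φ ∧
        letI := φ.toRingHom.toAlgebra
        DRing.IsPerfectModule (MvPolynomial (Fin n) A) B := by
  constructor
  · rintro ⟨⟨n, φ, hφ, hpc⟩, ⟨d, hd⟩⟩
    refine ⟨n, φ, hφ, ?_⟩
    letI := φ.toRingHom.toAlgebra
    haveI : IsScalarTower A (MvPolynomial (Fin n) A) B := ⟨fun a p b => by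
      show φ (a • p) * b = a • (φ p * b)
      rw [map_smul, smul_mul_assoc]⟩
    have h1 : DRing.HasTorDimLE (MvPolynomial (Fin n) A) (d + n) B :=
      Groth.Agent.Lib.R2H3.PolyTorDim.hasTorDimLE_mvPolynomial A n d B hd
    have h2 := (Groth.Agent.Lib.Helper1.TorDim.hasTorDimLE_iff_hasTorAmp B (d + n)).1 h1
    exact (Groth.Agent.S6954.result (MvPolynomial (Fin n) A) _).2 ⟨hpc, ⟨_, _, h2⟩⟩
  · rintro ⟨n, φ, hφ, hperf⟩
    letI := φ.toRingHom.toAlgebra
    haveI : IsScalarTower A (MvPolynomial (Fin n) A) B := ⟨fun a p b => by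
      show φ (a • p) * b = a • (φ p * b)
      rw [map_smul, smul_mul_assoc]⟩
    obtain ⟨hpc, a, b, hab⟩ := (Groth.Agent.S6954.result (MvPolynomial (Fin n) A) _).1 hperf
    refine ⟨⟨n, φ, hφ, hpc⟩, ?_⟩
    have hP : DRing.HasTorAmplitudeIn A (-((0 : ℕ) : ℤ)) 0
        (Dual.inD A (MvPolynomial (Fin n) A)) :=
      (Groth.Agent.Lib.Helper1.TorDim.hasTorDimLE_iff_hasTorAmp (MvPolynomial (Fin n) A) 0).1
        ((Groth.Agent.Lib.Helper1.TorDim.hasTorDimLE_zero_iff_flat _).2 inferInstance)
    have h1 := Groth.Agent.Lib.Helper1.TorDim.hasTorAmp_restrictD 0 hP _ a b hab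
    let eL : ((ModuleCat.restrictScalars.{u} (algebraMap A (MvPolynomial (Fin n) A))).obj
        (ModuleCat.of (MvPolynomial (Fin n) A) B)) ≃ₗ[A] B :=
      { toFun := fun x => x
        invFun := fun x => x
        left_inv := fun _ => rfl
        right_inv := fun _ => rfl
        map_add' := fun _ _ => rfl
        map_smul' := fun r x => by
          exact algebraMap_smul (MvPolynomial (Fin n) A) r (show B from x) }
    let eM : (ModuleCat.restrictScalars.{u} (algebraMap A (MvPolynomial (Fin n) A))).obj
        (ModuleCat.of (MvPolynomial (Fin n) A) B) ≅ ModuleCat.of A B :=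
      eL.toModuleIso
    have h2 : DRing.HasTorAmplitudeIn A (a - ((0 : ℕ) : ℤ)) b (Dual.inD A B) :=
      Groth.Agent.Lib.Helper1.Tor.hasTorAmp_of_iso
        (Groth.Agent.Lib.Helper1.Restrict.restrictDSingleIso
          (algebraMap A (MvPolynomial (Fin n) A)) (ModuleCat.of (MvPolynomial (Fin n) A) B) 0 ≪≫
          (DerivedCategory.singleFunctor (ModuleCat.{u} A) 0).mapIso eM) h1
    refine ⟨a.natAbs, Groth.Agent.Lib.Helper14.TorSyz.hasTorDimLE_of_hasTorAmp B a.natAbs b
      (Groth.Agent.Lib.Helper1.Tor.hasTorAmp_mono (by omega) le_rfl h2)⟩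

end Groth.Agent.S7066
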