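import Groth.Statements.S7069
import Groth.Agent.Lib.R2H3TorRestrict
import Groth.Agent.S7067
import Groth.Agent.S5165

set_option linter.style.haveILetI false
set_option linter.unusedVariables false

set_option autoImplicit false
universe u
attribute [local instance] HasDerivedCategory.standard
open MoreMor

namespace Groth.Agent.S7069

/-- A finite type homomorphism of commutative rings A → B, where A is a regular ring of finite Krull
dimension, is perfect: pseudo-coherent with B of finite tor dimension as an A-module. -/
theorem result (A B : Type u) [CommRing A] [CommRing B] [Algebra A B]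
    [IsRegularRing A] (hdim : ringKrullDim A < ⊤) [Algebra.FiniteType A B] : MoreMor.IsPerfectHom A B := by
  refine ⟨Groth.Agent.S7067.result A B, ?_⟩
  obtain ⟨n, φ, hφ⟩ := Algebra.FiniteType.iff_quotient_mvPolynomial''.1
    (inferInstance : Algebra.FiniteType A B)
  letI algPB : Algebra (MvPolynomial (Fin n) A) B := φ.toRingHom.toAlgebra
  haveI : IsScalarTower A (MvPolynomial (Fin n) A) B :=
    IsScalarTower.of_algebraMap_eq' φ.comp_algebraMap.symm
  haveI : Module.Finite (MvPolynomial (Fin n) A) B :=
    Module.Finite.of_surjective (Algebra.linearMap (MvPolynomial (Fin n) A) B) hφ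
  obtain ⟨d, hd⟩ := Groth.Agent.S5165.result (MvPolynomial (Fin n) A) B
  refine ⟨d, ?_⟩
  intro N _ _ p hp
  exact ModuleCat.subsingleton_of_isZero
    (Groth.Agent.Lib.R2H3.TorRestrict.isZero_tor_of_pdLT_flat A (MvPolynomial (Fin n) A)
      (ModuleCat.of A N) d B hd p hp)

end Groth.Agent.S7069
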