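import Groth.Statements.S7070
import Groth.Agent.Lib.R2H3PerfLocal
import Groth.Agent.S7066

set_option autoImplicit false
set_option linter.style.haveILetI false
set_option linter.unusedVariables false
universe u
attribute [local instance] HasDerivedCategory.standard
open MoreMor

namespace Groth.Agent.S7070

/-- A local complete intersection homomorphism of commutative rings A → B (finite type, with some
polynomial presentation whose kernel is a Koszul-regular ideal) is perfect: pseudo-coherent with B
of finite tor dimension over A. -/
theorem result (A B : Type u) [CommRing A] [CommRing B] [Algebra A B]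
    (h : LCI.IsLCI A B) : MoreMor.IsPerfectHom A B := by
  obtain ⟨_, n, f, hf, hI⟩ := h
  refine (Groth.Agent.S7066.result A B).2 ⟨n, f, hf, ?_⟩
  letI := f.toRingHom.toAlgebra
  have h1 := Groth.Agent.Lib.R2H3.PerfLocal.isPerfectModule_quotient_of_isKoszulRegularIdeal
    (RingHom.ker f.toRingHom) hI
  let g : MvPolynomial (Fin n) A →ₗ[MvPolynomial (Fin n) A] B :=
    Algebra.linearMap (MvPolynomial (Fin n) A) B
  have hg : Function.Surjective g := hf
  have hker : (RingHom.ker f.toRingHom : Submodule (MvPolynomial (Fin n) A) (MvPolynomial (Fin n) A))
      = LinearMap.ker g := by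
    ext x
    rfl
  exact Groth.Agent.Lib.R2H3.PerfLocal.isPerfectModule_of_linearEquiv
    ((Submodule.quotEquivOfEq _ _ hker).trans (LinearMap.quotKerEquivOfSurjective g hg)) h1

end Groth.Agent.S7070
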