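import Groth.Statements.S7076
import Groth.Agent.Lib.R2LeadRelNil

set_option autoImplicit false
universe u
attribute [local instance] HasDerivedCategory.standard
open TensorProduct
open Dual2

namespace Groth.Agent.S7076

/-- Let R' → A' be a flat homomorphism of finite presentation of commutative rings, R' → R a surjective
homomorphism of rings with nilpotent kernel, A = R ⊗_{R'} A', and K' an object of D(A'). If the
derived base change K' ⊗^L_{A'} A (total left derived functor of extension of scalars, assumed to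
exist) is R-perfect in D(A), then K' is R'-perfect in D(A'). -/
theorem result (R' A' R : Type u) [CommRing R'] [CommRing A'] [Algebra R' A']
    [CommRing R] [Algebra R' R] [Module.Flat R' A'] [Algebra.FinitePresentation R' A']
    (hs : Function.Surjective (algebraMap R' R)) (hn : IsNilpotent (RingHom.ker (algebraMap R' R)))
    [DRing.HasLBaseChange (Algebra.TensorProduct.includeRight.toRingHom : A' →+* R ⊗[R'] A')]
    (K' : Dual.D A')
    (hK : Dual2.IsRelPerfect R (R ⊗[R'] A')
      ((DRing.LBaseChange (Algebra.TensorProduct.includeRight.toRingHom : A' →+* R ⊗[R'] A')).obj K')) :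
    Dual2.IsRelPerfect R' A' K' := by
  open CategoryTheory CategoryTheory.Limits DerivedCategory Groth.Agent.Lib.Helper1.Tor
    Groth.Agent.Lib.Helper1.Restrict Groth.Agent.Lib.Helper1.LDer Groth.Agent.Lib.Helper1.RelBC
    Groth.Agent.Lib.Helper1.TorDim Groth.Agent.Lib.Helper1.TorM Groth.Agent.Lib.Helper1.TorO
    Groth.Agent.Lib.R2Lead.RelNil in
  obtain ⟨hpc, a, b, E₀, hE₀, hE₀f, ⟨e₀⟩⟩ := hK
  have hsurj : Function.Surjective (inr R' R A') := inr_surjective hs
  have hnil : IsNilpotent (RingHom.ker (inr R' R A')) := ker_inr_nilpotent hs hn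
  have hpc' : DRing.IsPseudoCoherent' A' K' :=
    Groth.Agent.Lib.Helper1.PCNil.isPseudoCoherent'_of_LBC (inr R' R A') hsurj hnil K' hpc
  obtain ⟨P, bP, hPb, hPf, ⟨e⟩⟩ := id hpc'
  refine ⟨hpc', a, b, ?_⟩
  have hKP : P.IsKProjective := isKProjective_of_vanishesAbove P bP hPb (fun i => by
    have := (hPf i).2
    infer_instance)
  have e' : (DRing.LBaseChange (inr R' R A')).obj K' ≅ DRing.toD ((bcCx (inr R' R A')).obj P) :=
    (DRing.LBaseChange (inr R' R A')).mapIso e.symm ≪≫ lbcIso (inr R' R A') P
  set G' := (DRing.restrictCx (algebraMap R (R ⊗[R'] A'))).obj ((bcCx (inr R' R A')).obj P) with hG'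
  have hG'b : DRing.VanishesAbove G' bP := fun i hi =>
    (ModuleCat.restrictScalars.{u} (algebraMap R (R ⊗[R'] A'))).map_isZero
      (vanishesAbove_bc _ P bP hPb i hi)
  have hG'f : DRing.TermwiseFlat G' := fun i => by
    have := (hPf i).2
    have : Module.Free (R ⊗[R'] A') (((bcCx (inr R' R A')).obj P).X i) := free_bc _ (P.X i)
    have : Module.Flat (R ⊗[R'] A') (((bcCx (inr R' R A')).obj P).X i) := inferInstance
    exact Groth.Agent.S7073.flat_restrictScalars R (R ⊗[R'] A') (((bcCx (inr R' R A')).obj P).X i)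
  have eG' : Q.obj G' ≅ (DRing.restrictD (algebraMap R (R ⊗[R'] A'))).obj
      ((DRing.LBaseChange (inr R' R A')).obj K') :=
    (restrictQIso _ ((bcCx (inr R' R A')).obj P)).symm ≪≫
      (DRing.restrictD (algebraMap R (R ⊗[R'] A'))).mapIso e'.symm
  have htv' : TorVan G' a b := torVan_of_iso G' E₀ bP hG'b hG'f a b hE₀ hE₀f (e₀ ≪≫ eG'.symm)
  set G := (DRing.restrictCx (algebraMap R' A')).obj P with hG
  have hGb : DRing.VanishesAbove G bP := fun i hi =>
    (ModuleCat.restrictScalars.{u} (algebraMap R' A')).map_isZero (hPb i hi)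
  have hGf : DRing.TermwiseFlat G := fun i => by
    have := (hPf i).2
    have : Module.Flat A' (P.X i) := inferInstance
    exact Groth.Agent.S7073.flat_restrictScalars R' A' (P.X i)
  have htv : TorVan G a b := torVan_res_of_bc hs hn P hGf a b htv'
  have h1 := hasTorAmp_of_torVan G bP hGb hGf a b htv
  refine hasTorAmp_of_iso ?_ h1
  exact (restrictQIso _ P).symm ≪≫ (DRing.restrictD (algebraMap R' A')).mapIso e

end Groth.Agent.S7076
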