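import Groth.Statements.S7101
import Groth.Agent.Lib.H6xDcL
import Groth.Agent.Lib.H6xUncB
import Groth.Agent.Lib.H6xRHb

set_option autoImplicit false
universe u
attribute [local instance] HasDerivedCategory.standard
open CategoryTheory
open DRing

namespace Groth.Agent.S7101

/-- Let A be a commutative ring and I a finitely generated ideal; assume the derived completion functor
exists and, for a cochain complex K of A-modules, that RHom_A(K, −) exists as the total right
derived functor of Hom•(K, −). Then for every L in D(A), with L^ the derived completion of L, the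
object RHom_A(K, L^) is the derived completion of RHom_A(K, L) through the map RHom_A(K, L) →
RHom_A(K, L^) induced by the canonical morphism L → L^: RHom_A(K, L^) is derived complete with
respect to I, and every morphism from RHom_A(K, L) to a derived complete object of D(A) factors
uniquely through that map. -/
theorem result {A : Type u} [CommRing A] (I : Ideal A) (hI : I.FG) [DRing.HasDerivedCompletion I]
    (K : DRing.Cx A) [DRing.HasRHomCx K] (L : Dual.D A) :
    DRing.IsDerivedComplete I ((DRing.RHomCx K).obj ((DRing.derivedCompletion I).obj L).obj) ∧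
      ∀ E : Dual.D A, DRing.IsDerivedComplete I E →
        Function.Bijective (fun φ : (DRing.RHomCx K).obj ((DRing.derivedCompletion I).obj L).obj ⟶ E =>
          (DRing.RHomCx K).map (DRing.toDerivedCompletion I L) ≫ φ) := by
  haveI : DTen.HasLTen A := Groth.Agent.Lib.H6xUnc.hasLTen _
  haveI : DTen.HasLTen₃ A := Groth.Agent.Lib.H6xUnc.hasLTen₃ _
  haveI : DTen.IsSymMonoidal A := Groth.Agent.Lib.H6xUnc.isSymMonoidal _
  haveI : DTen.HasRHom A := Groth.Agent.Lib.H6xRH.hasRHom
  obtain ⟨s, hs⟩ := hI
  obtain ⟨e⟩ := Groth.Agent.Lib.H6xBrg.nonempty_RHomCx_iso_RHomR K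
    ((DRing.derivedCompletion I).obj L).obj
  refine ⟨(DRing.IsDerivedComplete I).prop_of_iso e.symm
    (Groth.Agent.Lib.H6xDc.isDerivedComplete_RHomR I _ _
      ((DRing.derivedCompletion I).obj L).property), fun E hE => ?_⟩
  exact Groth.Agent.Lib.H6xDc.bijective_of_trW I _
    (Groth.Agent.Lib.H6xDc.trW_RHomCx_map K I s hs _
      (Groth.Agent.Lib.H6xDc.trW_toDerivedCompletion I L)) E hE

end Groth.Agent.S7101
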