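import Groth.Statements.S7118
import Mathlib
import Groth.Agent.Lib.R2LeadReducedQuot

set_option autoImplicit false
universe u
open CAlg

namespace Groth.Agent.S7118

/-- Let A be a Noetherian normal local domain of Krull dimension 2 and a a nonzero element of the
maximal ideal. Then there is a nonzero element c of A such that A/cA is reduced and a divides some
power cⁿ. (The published statement does not require c to be nonzero and is then satisfied by c = 0;
this row requires c ≠ 0.) -/
theorem result (A : Type u) [CommRing A] [IsDomain A] [IsNoetherianRing A]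
    [IsLocalRing A] [IsIntegrallyClosed A] (hdim : ringKrullDim A = 2) (a : A)
    (ha : a ∈ IsLocalRing.maximalIdeal A) (ha0 : a ≠ 0) :
    ∃ c : A, c ≠ 0 ∧ IsReduced (A ⧸ Ideal.span {c}) ∧ ∃ n : ℕ, a ∣ c ^ n := by
  classical
  have hfin := Ideal.finite_minimalPrimes_of_isNoetherianRing A (Ideal.span {a})
  obtain ⟨c, hc0, -, hcs, hgood⟩ :=
    Groth.Agent.Lib.R2Lead.ReducedQuot.exists_reduced_quotient hdim hfin.toFinset
      (fun p hp => ⟨(hfin.mem_toFinset.mp hp).1.1,
        Groth.Agent.Lib.R2Lead.ReducedQuot.height_eq_one_of_mem_minimalPrimes ha0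
          (hfin.mem_toFinset.mp hp)⟩)
  refine ⟨c, hc0,
    Groth.Agent.Lib.R2Lead.ReducedQuot.isReduced_quotient_of_not_inSq hc0 hgood, ?_⟩
  have hrad : c ∈ (Ideal.span {a}).radical := by
    rw [← Ideal.sInf_minimalPrimes, Submodule.mem_sInf]
    intro p hp
    exact hcs p (hfin.mem_toFinset.mpr hp)
  obtain ⟨n, hn⟩ := hrad
  exact ⟨n, Ideal.mem_span_singleton.mp hn⟩

end Groth.Agent.S7118
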