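import Groth.Statements.S7143
import Groth.Agent.Lib.R2H3WeakDimOne

set_option autoImplicit false
set_option linter.style.haveILetI false
universe u
open CategoryTheory
open EtAlg

namespace Groth.Agent.S7143

/-- Every normal domain A with fraction field K is the fibre product V ×_L K for suitable rings V and L
with maps A → V, V → L, K → L (together with the given A → K), where every ideal of V is flat (weak
dimension at most one) and V → L is flat, injective and an epimorphism of rings. -/
theorem result (A K : Type u) [CommRing A] [IsDomain A] [Field K] [Algebra A K]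
    [IsFractionRing A K] [IsIntegrallyClosed A] :
    ∃ (V L : Type u) (_ : CommRing V) (_ : CommRing L) (f : A →+* V) (g : V →+* L) (h : K →+* L),
      g.comp f = h.comp (algebraMap A K) ∧
      (∀ I : Ideal V, Module.Flat V I) ∧ g.Flat ∧ Function.Injective g ∧ Epi (CommRingCat.ofHom g) ∧
      ∀ (v : V) (k : K), g v = h k → ∃! a : A, f a = v ∧ algebraMap A K a = k := by
  classical
  let s : Set K := Set.range (algebraMap A K)
  let ι := {O : ValuationSubring K // s ⊆ O.toSubring}
  let f : A →+* (∀ i : ι, i.1) :=
    RingHom.pi (fun i => (algebraMap A K).codRestrict i.1 (fun a => i.2 ⟨a, rfl⟩))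
  let g : (∀ i : ι, i.1) →+* (ι → K) :=
    RingHom.pi (fun i => i.1.subtype.comp (Pi.evalRingHom (fun j : ι => (j.1 : Type u)) i))
  let h : K →+* (ι → K) := RingHom.pi (fun _ => RingHom.id K)
  have hg_apply : ∀ (v : ∀ i : ι, i.1) (i : ι), g v i = (v i : K) := fun _ _ => rfl
  have hginj : Function.Injective g := by
    intro v w hvw
    funext i
    exact Subtype.ext (congrFun hvw i)
  letI algVL : Algebra (∀ i : ι, i.1) (ι → K) := g.toAlgebra
  let S : Submonoid (∀ i : ι, i.1) :=
    { carrier := {v | ∀ i, v i ≠ 0}
      one_mem' := fun i => one_ne_zero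
      mul_mem' := fun {a b} ha hb i => mul_ne_zero (ha i) (hb i) }
  haveI hloc : IsLocalization S (ι → K) :=
    { map_units := by
        intro y
        rw [Pi.isUnit_iff]
        intro i
        have h1 : (y.1 i : K) ≠ 0 := fun h0 => y.2 i (Subtype.ext h0)
        exact h1.isUnit
      surj := by
        intro z
        have key : ∀ i : ι, ∃ (a b : i.1), b ≠ 0 ∧ z i * (b : K) = (a : K) := by
          intro i
          rcases i.1.mem_or_inv_mem (z i) with hz | hz
          · exact ⟨⟨z i, hz⟩, 1, one_ne_zero, by simp⟩
          · by_cases h0 : z i = 0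
            · exact ⟨0, 1, one_ne_zero, by simp [h0]⟩
            · refine ⟨1, ⟨(z i)⁻¹, hz⟩, ?_, ?_⟩
              · intro hb
                exact inv_ne_zero h0 (congrArg Subtype.val hb)
              · change z i * (z i)⁻¹ = 1
                exact mul_inv_cancel₀ h0
        choose a b hb hab using key
        refine ⟨(a, ⟨b, hb⟩), ?_⟩
        funext i
        exact hab i
      exists_of_eq := by
        intro x y hxy
        exact ⟨1, by rw [hginj hxy]⟩ }
  refine ⟨(∀ i : ι, i.1), (ι → K), inferInstance, inferInstance, f, g, h, ?_, ?_, ?_, hginj, ?_, ?_⟩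
  · ext a i
    rfl
  · intro I
    exact Groth.Agent.Lib.R2H3.WeakDimOne.flat_ideal_pi_valuationRing (fun i : ι => (i.1 : Type u)) I
  · exact IsLocalization.flat (ι → K) S
  · exact IsLocalization.epi S (ι → K)
  · intro v k hvk
    have hk : ∀ i : ι, k ∈ i.1.toSubring := by
      intro i
      have h1 : (v i : K) = k := congrFun hvk i
      rw [← h1]
      exact (v i).2
    have hk2 : k ∈ (integralClosure (Subring.closure s) K).toSubring := by
      rw [← iInf_valuationSubring_superset]
      exact Subring.mem_iInf.2 hk
    have hk3 : IsIntegral (Subring.closure s) k := hk2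
    have hk4 : IsIntegral A k := by
      obtain ⟨p, hp, hpk⟩ := hk3
      have hcl : ∀ y : Subring.closure s, ∃ a : A, algebraMap A K a = y := by
        intro y
        have h2 : Subring.closure s = (algebraMap A K).range := by
          have : s = ((algebraMap A K).range : Set K) := (RingHom.coe_range _).symm
          rw [this, Subring.closure_eq]
        have hy : ∀ z : K, z ∈ Subring.closure s → z ∈ (algebraMap A K).range := by
          intro z hz
          rw [h2] at hz
          exact hz
        exact hy y y.2
      let φ : A →+* Subring.closure s :=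
        (algebraMap A K).codRestrict (Subring.closure s) (fun a => Subring.subset_closure ⟨a, rfl⟩)
      have hφ : Function.Surjective φ := by
        intro y
        obtain ⟨a, ha⟩ := hcl y
        exact ⟨a, Subtype.ext ha⟩
      have hlift : p ∈ Polynomial.lifts φ := by
        rw [Polynomial.lifts_iff_coeff_lifts]
        intro n
        exact hφ _
      obtain ⟨q, hq1, -, hq3⟩ := Polynomial.lifts_and_degree_eq_and_monic hlift hp
      refine ⟨q, hq3, ?_⟩
      have h3 : (algebraMap (Subring.closure s) K).comp φ = algebraMap A K := by
        ext a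
        rfl
      rw [← h3, ← Polynomial.eval₂_map, hq1]
      exact hpk
    obtain ⟨a, ha⟩ := IsIntegrallyClosed.algebraMap_eq_of_integral hk4
    refine ⟨a, ⟨?_, ha⟩, ?_⟩
    · funext i
      apply Subtype.ext
      change algebraMap A K a = (v i : K)
      rw [ha]
      exact (congrFun hvk i).symm
    · rintro b ⟨-, hb⟩
      exact IsFractionRing.injective A K (hb.trans ha.symm)

end Groth.Agent.S7143
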