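import Groth.Statements.S7170
import Groth.Agent.Lib.R2H3PerfImm

set_option autoImplicit false
universe u
attribute [local instance] HasDerivedCategory.standard
open FlatMor

namespace Groth.Agent.S7170

open AlgebraicGeometry CategoryTheory Limits in
/-- For a finite morphism f : X → S, pseudo-coherence of f is equivalent to pseudo-coherence of the
O_S-module f_* O_X; as f is affine, the latter means that O_X(f⁻¹ V) is a pseudo-coherent
O_S(V)-module for every affine open V of S, the form used here. -/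
theorem result {X S : Scheme.{u}} (f : X ⟶ S) [IsFinite f] :
    MoreMor.IsPseudoCoherentMor f ↔ ∀ (V : S.Opens), IsAffineOpen V →
      (letI := (f.app V).hom.toAlgebra
       DRing.IsPseudoCoherentModule' Γ(S, V) Γ(X, f ⁻¹ᵁ V)) := by
  constructor
  · intro h V hV
    have hfin : (f.app V).hom.Finite := IsFinite.finite_app f V hV
    have hU : IsAffineOpen (f ⁻¹ᵁ V) := hV.preimage f
    have happ : f.appLE V (f ⁻¹ᵁ V) le_rfl = f.app V := (Scheme.Hom.app_eq_appLE f).symm
    have h1 : Groth.Agent.Lib.R2H3.PCHom.PC (f.appLE V (f ⁻¹ᵁ V) le_rfl).hom :=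
      h (f ⁻¹ᵁ V) V hU hV le_rfl
    rw [happ] at h1
    letI := (f.app V).hom.toAlgebra
    haveI : Module.Finite Γ(S, V) Γ(X, f ⁻¹ᵁ V) := hfin
    exact (Groth.Agent.Lib.R2H3.PerfImm.pcHom_iff_of_finite _ _).1 h1
  · intro h
    rw [Groth.Agent.Lib.R2H3.PCMor.isPseudoCoherentMor_iff_exists]
    intro x
    obtain ⟨V, hV, hxV, -⟩ := TopologicalSpace.Opens.isBasis_iff_nbhd.mp S.isBasis_affineOpens
      (TopologicalSpace.Opens.mem_top (f x))
    have hfin : (f.app V).hom.Finite := IsFinite.finite_app f V hV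
    have hU : IsAffineOpen (f ⁻¹ᵁ V) := hV.preimage f
    have happ : f.appLE V (f ⁻¹ᵁ V) le_rfl = f.app V := (Scheme.Hom.app_eq_appLE f).symm
    refine ⟨f ⁻¹ᵁ V, V, le_rfl, hU, hV, hxV, ?_⟩
    have h1 : Groth.Agent.Lib.R2H3.PCHom.PC (f.app V).hom := by
      letI := (f.app V).hom.toAlgebra
      haveI : Module.Finite Γ(S, V) Γ(X, f ⁻¹ᵁ V) := hfin
      exact (Groth.Agent.Lib.R2H3.PerfImm.pcHom_iff_of_finite _ _).2 (h V hV)
    rw [← happ] at h1
    exact h1

end Groth.Agent.S7170
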