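import Groth.Statements.S7185
-- import your own Groth.Agent.* helpers here

set_option autoImplicit false
universe u
open FlatMor

namespace Groth.Agent.S7185

open AlgebraicGeometry CategoryTheory Limits

/-- separable degree is insensitive to composing with an isomorphism on the top field -/
theorem finSepDegree_comp_ringEquiv {F E K : Type*} [Field F] [Field E] [Field K] (a : F →+* E)
    (b : E ≃+* K) :
    (letI := (b.toRingHom.comp a).toAlgebra; Field.finSepDegree F K) =
      (letI := a.toAlgebra; Field.finSepDegree F E) := by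
  let _ := a.toAlgebra
  let _ := (b.toRingHom.comp a).toAlgebra
  exact (Field.finSepDegree_eq_of_equiv F E K { b with commutes' := fun _ => rfl }).symm

/-- the fibre integral is invariant under isomorphisms of the source -/
theorem fibreIntegral_iso {U' U V : Scheme.{u}} (e : U' ≅ U) (π : U ⟶ V) (w : U → ℤ) (v : V) :
    MoreMor.fibreIntegral (e.hom ≫ π) (fun u' => w (e.hom u')) v = MoreMor.fibreIntegral π w v := by
  unfold MoreMor.fibreIntegral
  refine finsum_eq_of_bijective
    (fun u' : {u' : U' // (e.hom ≫ π) u' = v} => (⟨e.hom u'.1, u'.2⟩ : {u : U // π u = v})) ?_ ?_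
  · constructor
    · intro a b hab
      have : e.hom a.1 = e.hom b.1 := congrArg Subtype.val hab
      exact Subtype.ext ((Scheme.homeoOfIso e).injective this)
    · intro b
      obtain ⟨a, ha⟩ := (Scheme.homeoOfIso e).surjective b.1
      have ha' : e.hom a = b.1 := ha
      exact ⟨⟨a, by rw [Scheme.Hom.comp_apply, ha']; exact b.2⟩, Subtype.ext ha'⟩
  · intro u'
    congr 1
    have hcomp : ((e.hom ≫ π).residueFieldMap u'.1).hom =
        ((asIso (e.hom.residueFieldMap u'.1)).commRingCatIsoToRingEquiv).toRingHom.comp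
          (π.residueFieldMap (e.hom u'.1)).hom := by
      rw [Scheme.residueFieldMap_comp]
      rfl
    have key := finSepDegree_comp_ringEquiv (π.residueFieldMap (e.hom u'.1)).hom
      (asIso (e.hom.residueFieldMap u'.1)).commRingCatIsoToRingEquiv
    rw [← hcomp] at key
    exact congrArg (Nat.cast (R := ℤ)) key

open AlgebraicGeometry CategoryTheory Limits in
/-- The restriction of a weighting of a locally quasi-finite morphism f : X → Y (locally of finite type
with discrete fibres) to an open subscheme X' of X is a weighting of X' → Y. -/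
theorem result {X Y : Scheme.{u}} (f : X ⟶ Y) [LocallyQuasiFinite f] [LocallyOfFiniteType f] (w : X → ℤ)
    (hw : MoreMor.IsWeighting f w) (X' : X.Opens) : MoreMor.IsWeighting (X'.ι ≫ f) (fun x => w (X'.ι x)) := by
  intro V g _ U' hfin
  let j : pullback (X'.ι ≫ f) g ⟶ pullback f g :=
    pullback.lift (pullback.fst _ _ ≫ X'.ι) (pullback.snd _ _)
      (by rw [Category.assoc, pullback.condition])
  have hj1 : j ≫ pullback.fst f g = pullback.fst _ _ ≫ X'.ι := pullback.lift_fst _ _ _
  have hj2 : j ≫ pullback.snd f g = pullback.snd _ _ := pullback.lift_snd _ _ _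
  have hpb : IsPullback j (pullback.fst (X'.ι ≫ f) g) (pullback.fst f g) X'.ι := by
    refine IsPullback.of_right ?_ hj1 (IsPullback.of_hasPullback f g).flip
    rw [hj2]
    exact (IsPullback.of_hasPullback (X'.ι ≫ f) g).flip
  have : IsOpenImmersion j := MorphismProperty.of_isPullback (P := @IsOpenImmersion) hpb.flip
    inferInstance
  let U : (pullback f g).Opens := j ''ᵁ U'
  let e : (U' : Scheme.{u}) ≅ (U : Scheme.{u}) := j.isoImage U'
  have he : e.hom ≫ U.ι = U'.ι ≫ j := j.isoImage_hom_ι U'
  have h1 : e.hom ≫ U.ι ≫ pullback.snd f g = U'.ι ≫ pullback.snd (X'.ι ≫ f) g := by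
    rw [← Category.assoc, he, Category.assoc, hj2]
  have hfinU : IsFinite (U.ι ≫ pullback.snd f g) := by
    have : U.ι ≫ pullback.snd f g = e.inv ≫ (U'.ι ≫ pullback.snd (X'.ι ≫ f) g) := by
      rw [← h1, Iso.inv_hom_id_assoc]
    rw [this]
    infer_instance
  have hloc := hw V g U hfinU
  have heq : MoreMor.fibreIntegral (U'.ι ≫ pullback.snd (X'.ι ≫ f) g)
      (fun u => w (X'.ι (pullback.fst (X'.ι ≫ f) g (U'.ι u)))) =
      MoreMor.fibreIntegral (U.ι ≫ pullback.snd f g) (fun u => w (pullback.fst f g (U.ι u))) := by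
    funext v
    rw [← fibreIntegral_iso e (U.ι ≫ pullback.snd f g) _ v, h1]
    congr 1
    funext u
    congr 1
    have : (e.hom ≫ U.ι ≫ pullback.fst f g) u = (U'.ι ≫ pullback.fst (X'.ι ≫ f) g ≫ X'.ι) u := by
      rw [← Category.assoc, he, Category.assoc, hj1]
    exact this.symm
  rw [heq]
  exact hloc

end Groth.Agent.S7185
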