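import Groth.Statements.S7192
import Groth.Agent.Lib.Helper22LimBC
import Groth.Agent.Lib.R2H3WtLimC
import Groth.Agent.Lib.R2H3WtLimD
import Groth.Agent.Lib.R2H3UFOpenF
import Groth.Agent.Lib.R2H3WtConsD

set_option autoImplicit false
set_option linter.style.haveILetI false
universe u
open CategoryTheory AlgebraicGeometry
open FlatMor
open Groth.Agent.Lib.Helper22.LimBC Groth.Agent.Lib.R2H3.WtLimB Groth.Agent.Lib.R2H3.WtLimC
  Groth.Agent.Lib.R2H3.WtLimD Groth.Agent.Lib.Helper2.Weight

namespace Groth.Agent.S7192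

/-- Let Y = lim Y_i be a cofiltered limit of affine schemes and f₀ : X₀ → Y_{i₀} a quasi-finite morphism
of finite presentation between affine schemes, with base changes f : X → Y and f_i : X_i → Y_i. If w
is a weighting of f, then for some i → i₀ there is a weighting w_i of f_i which pulls back to w
along X → X_i. -/
theorem result {I : Type u} [SmallCategory I] [IsCofiltered I]
    (D : I ⥤ Scheme.{u}) (c : Limits.Cone D) (hc : Limits.IsLimit c) [∀ i, IsAffine (D.obj i)]
    (i0 : I) {X0 X : Scheme.{u}} [IsAffine X0] (f0 : X0 ⟶ D.obj i0) [LocallyQuasiFinite f0] [LocallyOfFinitePresentation f0] [QuasiCompact f0]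
    (f : X ⟶ c.pt) (pX : X ⟶ X0) (hX : IsPullback pX f f0 (c.π.app i0))
    (w : X → ℤ) (hw : MoreMor.IsWeighting f w) :
    ∃ (i : I) (a : i ⟶ i0) (Xi : Scheme.{u}) (fi : Xi ⟶ D.obj i) (pXi : Xi ⟶ X0) (g : X ⟶ Xi) (wi : Xi → ℤ),
      IsPullback pXi fi f0 (D.map a) ∧ g ≫ fi = f ≫ c.π.app i ∧ g ≫ pXi = pX ∧
      MoreMor.IsWeighting fi wi ∧ ∀ x : X, wi (g x) = w x := by
  classical
  haveI hAff : ∀ {i j : I} (φ : i ⟶ j), IsAffineHom (D.map φ) := fun φ => inferInstance
  haveI : IsAffine c.pt := Scheme.isAffine_of_isLimit c hc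
  haveI : IsAffine X := IsAffine.of_isIso hX.isoPullback.hom
  haveI : LocallyQuasiFinite f := MorphismProperty.of_isPullback (P := @LocallyQuasiFinite) hX ‹_›
  haveI : LocallyOfFinitePresentation f :=
    MorphismProperty.of_isPullback (P := @LocallyOfFinitePresentation) hX ‹_›
  -- step 1: `w` is a constructible function
  obtain ⟨hlev, hfin⟩ := Groth.Agent.Lib.R2H3.WtConsD.isConstructible_level f w hw
  obtain ⟨H, hH⟩ := exists_atomConst_of_level w hfin (fun n => hlev n)
  -- step 2: descend `w` to a stage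
  haveI : ∀ j, IsAffine ((bcDiagram D i0 f0).obj j) := fun j => by
    change IsAffine (Limits.pullback f0 (D.map j.hom))
    infer_instance
  obtain ⟨j1, H1, w1, hw1, hw1x⟩ := exists_stage_atomConst (bcDiagram D i0 f0) (bcCone i0 hX)
    (isLimitBcCone i0 hX hc) H w hH
  have hw1x' : ∀ x : X, w1 (bcπ i0 hX j1 x) = w x := hw1x
  -- step 3: the universal finite open at the stage `j1`
  set f1 := dSnd D i0 f0 j1 with hf1
  haveI : LocallyQuasiFinite f1 :=
    MorphismProperty.of_isPullback (P := @LocallyQuasiFinite) (isPullback_d D i0 f0 j1) ‹_›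
  haveI : LocallyOfFinitePresentation f1 :=
    MorphismProperty.of_isPullback (P := @LocallyOfFinitePresentation) (isPullback_d D i0 f0 j1) ‹_›
  obtain ⟨Yu, a, Uu, hYu, hfpa, hqc, hqs, hfinUu, huniv⟩ :=
    Groth.Agent.Lib.R2H3.UFOpenF.exists_universal_finite_open_affine f1
  haveI := hYu
  haveI := hfinUu
  -- step 4: the fibre integral over the universal finite open is a constructible function
  set πU := Uu.ι ≫ Limits.pullback.snd f1 a with hπU
  haveI : IsAffine Uu.toScheme := isAffine_of_isAffineHom πU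
  have hφU : AtomConst (H1.image (Uu.ι ≫ Limits.pullback.fst f1 a).appTop.hom)
      (w1 ∘ (Uu.ι ≫ Limits.pullback.fst f1 a)) := hw1.comp _
  have hF1 : F1 f1 a Uu w1 = MoreMor.fibreIntegral πU (w1 ∘ (Uu.ι ≫ Limits.pullback.fst f1 a)) := by
    funext v
    exact (fibreIntegral_opens Uu (Limits.pullback.snd f1 a) (w1 ∘ Limits.pullback.fst f1 a) v).symm
  obtain ⟨hlevF, hfinF⟩ := level_fibreIntegral_of_atomConst πU _ _ hφU
  rw [← hF1] at hlevF hfinF
  -- step 5: local constancy on the limit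
  have hweq : w = w1 ∘ bcπ i0 hX j1 := funext fun x => (hw1x' x).symm
  have hloc := isLocallyConstant_of_isWeighting f1 a Uu w1 f (bcπ i0 hX j1) (c.π.app j1.left)
    (isPullback_bcπ i0 hX j1) (by rw [← hweq]; exact hw)
  -- step 6: local constancy at a stage
  have hV : IsPullback (Limits.pullback.fst a (c.π.app j1.left)) (Limits.pullback.snd a (c.π.app j1.left)) a
      (c.π.app j1.left) := IsPullback.of_hasPullback _ _
  let k0 : Over j1.left := Over.mk (𝟙 j1.left)
  let G : (bcDiagram D j1.left a).obj k0 → ℤ := fun z => F1 f1 a Uu w1 (dFst D j1.left a k0 z)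
  have hfinG : (Set.range G).Finite := hfinF.subset (by rintro _ ⟨z, rfl⟩; exact ⟨_, rfl⟩)
  have hlevG : ∀ n : ℤ, Topology.IsConstructible (G ⁻¹' {n}) := fun n =>
    (dFst D j1.left a k0).isConstructible_preimage (hlevF n)
  have hlocG : IsLocallyConstant (G ∘ (bcCone j1.left hV).π.app k0) := by
    have e : G ∘ (bcCone j1.left hV).π.app k0 =
        fun z => F1 f1 a Uu w1 (Limits.pullback.fst a (c.π.app j1.left) z) := by
      funext z
      change F1 f1 a Uu w1 (dFst D j1.left a k0 (bcπ j1.left hV k0 z)) = _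
      rw [← Scheme.Hom.comp_apply, bcπ_fst]
    rw [e]
    exact hloc
  obtain ⟨k, fk, hk⟩ := exists_isLocallyConstant_stage (bcDiagram D j1.left a) (bcCone j1.left hV)
    (isLimitBcCone j1.left hV hc) k0 G hfinG hlevG hlocG
  have hk' : IsLocallyConstant (fun z : ↥(Limits.pullback a (D.map k.hom)) =>
      F1 f1 a Uu w1 (Limits.pullback.fst a (D.map k.hom) z)) := by
    have e : G ∘ (bcDiagram D j1.left a).map fk =
        fun z => F1 f1 a Uu w1 (dFst D j1.left a k z) := by
      funext z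
      change F1 f1 a Uu w1 (dFst D j1.left a k0 ((bcDiagram D j1.left a).map fk z)) = _
      rw [← Scheme.Hom.comp_apply, map_dFst]
    rw [e] at hk
    exact hk
  -- step 7: the weighting at the stage `k`
  let kk : Over i0 := Over.mk (k.hom ≫ j1.hom)
  let fkk : kk ⟶ j1 := Over.homMk k.hom rfl
  set h := (bcDiagram D i0 f0).map fkk with hh
  have hsq : IsPullback h (dSnd D i0 f0 kk) f1 (D.map k.hom) := by
    have hcomm : h ≫ f1 = dSnd D i0 f0 kk ≫ D.map k.hom := map_dSnd D i0 f0 fkk
    refine IsPullback.of_right ?_ hcomm (isPullback_d D i0 f0 j1)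
    rw [hh, map_dFst, ← D.map_comp]
    exact isPullback_d D i0 f0 kk
  have hwt := isWeighting_of_isLocallyConstant f1 a Uu huniv w1 (dSnd D i0 f0 kk) h (D.map k.hom)
    hsq hk'
  refine ⟨k.left, k.hom ≫ j1.hom, (bcDiagram D i0 f0).obj kk, dSnd D i0 f0 kk, dFst D i0 f0 kk,
    bcπ i0 hX kk, w1 ∘ h, isPullback_d D i0 f0 kk, bcπ_snd i0 hX kk, bcπ_fst i0 hX kk, hwt, ?_⟩
  intro x
  change w1 (h (bcπ i0 hX kk x)) = w x
  rw [← Scheme.Hom.comp_apply, hh, bcπ_map]
  exact hw1x' x

end Groth.Agent.S7192
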