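import Groth.Statements.S7199
import Groth.Agent.Lib.R2H3AlgIndepDim
import Groth.Agent.Lib.R2H3AlgIndepLin

set_option autoImplicit false
universe u
open FlatMor

namespace Groth.Agent.S7199

/-- Take a field k, an integral domain A that is a finitely generated k-algebra, n ≥ 2 and g_1, …, g_n ∈
A, and suppose some irreducible component of the common zero locus of g_1 and g_2 in Spec A has
dimension dim A − 2. Then for suitable c_1, …, c_n ∈ k the n + 2 elements x_1, …, x_n, Σ g_i x_i, Σ
c_i g_i of the rational function field Frac(A)(x_1, …, x_n) form an algebraically independent family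
over k. -/
theorem result {k A : Type u} [Field k] [CommRing A] [IsDomain A] [Algebra k A]
    [Algebra.FiniteType k A] (m : ℕ) (g : Fin (m + 2) → A)
    (p : Ideal A) (hp : p ∈ (Ideal.span {g 0, g 1}).minimalPrimes) (hdim : ringKrullDim (A ⧸ p) + 2 = ringKrullDim A) :
    ∃ c : Fin (m + 2) → k,
      AlgebraicIndependent k
        (Sum.elim
          (fun i : Fin (m + 2) => algebraMap (MvPolynomial (Fin (m + 2)) (FractionRing A)) (FractionRing (MvPolynomial (Fin (m + 2)) (FractionRing A))) (MvPolynomial.X i))
          ![∑ i, algebraMap A (FractionRing (MvPolynomial (Fin (m + 2)) (FractionRing A))) (g i) *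
              algebraMap (MvPolynomial (Fin (m + 2)) (FractionRing A)) (FractionRing (MvPolynomial (Fin (m + 2)) (FractionRing A))) (MvPolynomial.X i),
            algebraMap A (FractionRing (MvPolynomial (Fin (m + 2)) (FractionRing A))) (∑ i, c i • g i)]) := by
  classical
  refine ⟨fun i => if i = 1 then 1 else 0, ?_⟩
  have hsum : (∑ i : Fin (m + 2), (if i = 1 then (1 : k) else 0) • g i) = g 1 := by
    rw [Finset.sum_eq_single (1 : Fin (m + 2))]
    · simp
    · intro b _ hb
      simp [hb]
    · intro h
      exact absurd (Finset.mem_univ _) h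
  rw [hsum]
  have h0 := Groth.Agent.Lib.R2H3.AlgIndepDim.algebraicIndependent_of_dim (k := k)
    (g 0) (g 1) p hp hdim
  have h1 : AlgebraicIndependent k
      ![algebraMap A (FractionRing A) (g 0), algebraMap A (FractionRing A) (g 1)] := by
    have := h0.map' (f := IsScalarTower.toAlgHom k A (FractionRing A))
      (IsFractionRing.injective A (FractionRing A))
    convert this using 1
    funext i
    fin_cases i <;> rfl
  have h2 := Groth.Agent.Lib.R2H3.AlgIndepLin.algebraicIndependent_linear (k := k) m
    (fun i => algebraMap A (FractionRing A) (g i)) h1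
  have h3 := h2.map' (f := IsScalarTower.toAlgHom k (MvPolynomial (Fin (m + 2)) (FractionRing A))
      (FractionRing (MvPolynomial (Fin (m + 2)) (FractionRing A))))
    (IsFractionRing.injective _ _)
  convert h3 using 1
  funext i
  rcases i with i | i
  · rfl
  · fin_cases i
    · simp only [Groth.Agent.Lib.R2H3.AlgIndepLin.fam, Function.comp_apply, Sum.elim_inr,
        IsScalarTower.coe_toAlgHom', Fin.zero_eta, Matrix.cons_val_zero, map_sum, map_mul]
      refine Finset.sum_congr rfl (fun j _ => ?_)
      congr 1
    · simp only [Groth.Agent.Lib.R2H3.AlgIndepLin.fam, Function.comp_apply, Sum.elim_inr,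
        IsScalarTower.coe_toAlgHom', Fin.mk_one, Matrix.cons_val_one, Matrix.cons_val_fin_one]
      rw [IsScalarTower.algebraMap_apply A (MvPolynomial (Fin (m + 2)) (FractionRing A))
        (FractionRing (MvPolynomial (Fin (m + 2)) (FractionRing A)))]
      rfl

end Groth.Agent.S7199
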