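import Groth.Statements.S7220
import Groth.Agent.Lib.R2H3ConormalH1

set_option autoImplicit false
set_option linter.style.haveILetI false
universe u
open CategoryTheory CategoryTheory.Limits AlgebraicGeometry Opposite TopologicalSpace
attribute [local instance] HasDerivedCategory.standard
open FlatMor
open Groth.Agent.Lib.R2H3.ConormalH1

namespace Groth.Agent.S7220

/-- Let i : Z ⟶ X be a quasi-compact immersion. Then, in chart form, the naive cotangent complex
NL_{Z/X} is the conormal sheaf of Z in X placed in degree −1: (a) the conormal sheaf is the
cohomology sheaf H^{-1}(NL_{Z/X}) — its sections over every affine open U of Z mapping into an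
affine open V of X can be identified with H^{-1} of the naive cotangent complex of Γ(Z, U) over Γ(X,
V), compatibly with the action of functions and with restriction — and (b) the cohomology sheaf
H^0(NL_{Z/X}) = Ω_{Z/X} vanishes: for every such pair the module of Kähler differentials of Γ(Z, U)
over Γ(X, V) is zero. (In (a), existence of such a system of identifications only; the canonical
identification induced by the ideal-to-cotangent map is not pinned here. The published statement is
for an arbitrary immersion; this row takes i quasi-compact, which makes the kernel ideal sheaf used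
to define the conormal sheaf the full kernel.) -/
theorem result {Z X : Scheme.{u}} (i : Z ⟶ X) [IsImmersion i]
    [QuasiCompact i] :
    Nonempty (NLCx.H1Sheaf i (Omega.conormal i)) ∧
      NLCx.OnCharts i (fun A B _ _ _ => Subsingleton (Ω[B⁄A])) := by
  refine ⟨⟨?_⟩, ?_⟩
  · exact
      { iso := fun U V e =>
          letI := (i.appLE (V : X.Opens) (U : Z.Opens) e).hom.toAlgebra
          (LinearEquiv.ofBijective (conormalToH1 i V.2 U.2 e rfl)
            (conormalToH1_bijective i V.2 U.2 e rfl)).toAddEquiv
        map_smul := fun U V e a m => by
          letI := (i.appLE (V : X.Opens) (U : Z.Opens) e).hom.toAlgebra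
          exact (conormalToH1 i V.2 U.2 e rfl).map_smul a m
        map_res := fun {U U' V V'} e e' hU hV m => by
          letI := (i.appLE (V : X.Opens) (U : Z.Opens) e).hom.toAlgebra
          letI := (i.appLE (V' : X.Opens) (U' : Z.Opens) e').hom.toAlgebra
          letI := (i.appLE (V : X.Opens) (U' : Z.Opens) (hU.trans e)).hom.toAlgebra
          letI := (Z.presheaf.map (homOfLE hU).op).hom.toAlgebra
          letI := (X.presheaf.map (homOfLE hV).op).hom.toAlgebra
          haveI : IsScalarTower Γ(X, (V : X.Opens)) Γ(X, (V' : X.Opens)) Γ(Z, (U' : Z.Opens)) :=
            IsScalarTower.of_algebraMap_eq' (by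
              change (i.appLE _ _ _).hom = (i.appLE _ _ _).hom.comp (X.presheaf.map _).hom
              rw [← CommRingCat.hom_comp, Scheme.Hom.map_appLE])
          haveI : IsScalarTower Γ(X, (V : X.Opens)) Γ(Z, (U : Z.Opens)) Γ(Z, (U' : Z.Opens)) :=
            IsScalarTower.of_algebraMap_eq' (by
              change (i.appLE _ _ _).hom = (Z.presheaf.map _).hom.comp (i.appLE _ _ _).hom
              rw [← CommRingCat.hom_comp, Scheme.Hom.appLE_map])
          exact conormalToH1_res i V.2 V'.2 U.2 U'.2 e e' hU hV rfl rfl rfl rfl m }
  · intro U V e
    have h := i.formallyUnramified_appLE V.2 U.2 e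
    letI := (i.appLE (V : X.Opens) (U : Z.Opens) e).hom.toAlgebra
    exact (Algebra.formallyUnramified_iff _ _).mp h

end Groth.Agent.S7220
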