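import Groth.Statements.S7221
import Groth.Agent.Lib.R2H3NLBase

set_option autoImplicit false
universe u
open CategoryTheory CategoryTheory.Limits TensorProduct
attribute [local instance] HasDerivedCategory.standard
open FlatMor

namespace Groth.Agent.S7221

/-- Let R → S and R → R' be ring homomorphisms and let S' be an algebra over R' and over S making the
square cocartesian, S' = S ⊗_R R'. Let G be a presentation of S over R by a polynomial algebra and
G' the presentation of S' over R' on the same set of variables, each variable mapping to the image
of the corresponding generator (the base change of G). Then the canonical map H^{-1}(NL(G) ⊗_S S') →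
H^{-1}(NL(G')) is surjective. The same holds for the canonical map H^{-1}(NL_{S/R} ⊗_S S') →
H^{-1}(NL_{S'/R'}) between the complexes of the presentations on all elements. (In degree 0 the
corresponding map S' ⊗_S Ω_{S/R} → Ω_{S'/R'} is bijective; that part is not restated.) -/
theorem result (R S R' S' : Type u) [CommRing R] [CommRing S] [CommRing R']
    [CommRing S'] [Algebra R S] [Algebra R' S'] [Algebra R R'] [Algebra S S'] [Algebra R S']
    [IsScalarTower R R' S'] [IsScalarTower R S S'] [Algebra.IsPushout R R' S S']
    {ι : Type u} (G : Algebra.Generators R S ι) (G' : Algebra.Generators R' S' ι)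
    (h : ∀ i, G'.val i = algebraMap S S' (G.val i)) :
    Function.Surjective (NLCx.bcH1Map (NLCx.sameVarsHom G G' h).toExtensionHom) ∧
      Function.Surjective (NLCx.bcH1Map
        ((Algebra.Generators.self R S).defaultHom (Algebra.Generators.self R' S')).toExtensionHom) := by
  refine ⟨Groth.Agent.Lib.R2H3.NLBase.bcH1Map_surjective_sameVars G G' h, ?_⟩
  -- the base-changed presentation of `S'` over `R'` on the variables indexed by `S`
  let e2 : R' ⊗[R] S ≃ₐ[R'] S' := Algebra.IsPushout.equiv R R' S S'
  let G'' : Algebra.Generators R' S' S :=
    ((Algebra.Generators.self R S).baseChange R').ofAlgEquiv e2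
  have hG'' : ∀ s : S, G''.val s = algebraMap S S' ((Algebra.Generators.self R S).val s) := by
    intro s
    simp [G'', e2, Algebra.Generators.ofAlgEquiv_val, Algebra.Generators.baseChange,
      Algebra.Generators.ofSurjective, Algebra.IsPushout.equiv_tmul, Algebra.Generators.self]
  have h1 := Groth.Agent.Lib.R2H3.NLBase.bcH1Map_surjective_sameVars
    (Algebra.Generators.self R S) G'' hG''
  -- the morphism from `G''` to the presentation on all elements
  let g : G''.Hom (Algebra.Generators.self R' S') :=
    { val := fun s => MvPolynomial.X (algebraMap S S' s)
      aeval_val := fun s => by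
        rw [hG'']
        simp [Algebra.Generators.self] }
  let g' : (Algebra.Generators.self R' S').Hom G'' := Algebra.Generators.defaultHom _ _
  have hcomp0 : (Algebra.Generators.self R S).defaultHom (Algebra.Generators.self R' S') =
      g.comp (NLCx.sameVarsHom (Algebra.Generators.self R S) G'' hG'') := by
    ext s : 2
    simp [NLCx.sameVarsHom, g, Algebra.Generators.self]
    rfl
  have hcomp : ((Algebra.Generators.self R S).defaultHom (Algebra.Generators.self R' S')).toExtensionHom =
      g.toExtensionHom.comp (NLCx.sameVarsHom (Algebra.Generators.self R S) G'' hG'').toExtensionHom := by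
    rw [hcomp0, Algebra.Generators.Hom.toExtensionHom_comp]
  rw [hcomp]
  have h2 : Function.Surjective
      (Algebra.Extension.H1Cotangent.map g.toExtensionHom) :=
    (Algebra.Extension.H1Cotangent.equiv g.toExtensionHom g'.toExtensionHom).surjective
  intro y
  obtain ⟨z, hz⟩ := h2 y
  obtain ⟨x, hx⟩ := h1 z
  refine ⟨x, ?_⟩
  rw [Groth.Agent.Lib.R2H3.NLBase.bcH1Map_comp, hx, hz]

end Groth.Agent.S7221
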