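import Groth.Statements.S7223
import Groth.Agent.Lib.R2H3NLLciBC
import Groth.Agent.S9269

set_option linter.style.haveILetI false
set_option linter.unusedVariables false
set_option linter.unusedSectionVars false

set_option autoImplicit false
universe u
open CategoryTheory CategoryTheory.Limits TensorProduct
attribute [local instance] HasDerivedCategory.standard
open FlatMor

namespace Groth.Agent.S7223

open Algebra Groth.Agent.Lib.R2H3

/-- the kernel of the extension attached to a surjection from a polynomial ring -/
lemma ker_ofAlgHom {A B : Type u} [CommRing A] [CommRing B] [Algebra A B] {ι : Type u}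
    (f : MvPolynomial ι A →ₐ[A] B) (hf : Function.Surjective f) :
    (Generators.ofAlgHom f hf).toExtension.ker = RingHom.ker f.toRingHom := by
  have : (MvPolynomial.aeval (Generators.ofAlgHom f hf).val : MvPolynomial ι A →ₐ[A] B) = f := by
    ext i
    simp [Generators.ofAlgHom]
  ext x
  change algebraMap (Generators.ofAlgHom f hf).Ring B x = 0 ↔ f x = 0
  rw [Generators.algebraMap_apply, this]

/-- Let A → B and A → A' be ring homomorphisms and B' an algebra over A' and over B making the square
cocartesian, B' = B ⊗_A A'. If A → B and A' → B' are both local complete intersection homomorphisms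
(of finite type, with Koszul-regular kernel for a polynomial presentation), then the kernel of the
canonical map H^{-1}(NL_{B/A} ⊗_B B') → H^{-1}(NL_{B'/A'}) (presentations on all elements) is a
finite projective B'-module. -/
theorem result (A B A' B' : Type u) [CommRing A] [CommRing B]
    [CommRing A'] [CommRing B'] [Algebra A B] [Algebra A' B'] [Algebra A A'] [Algebra B B'] [Algebra A B']
    [IsScalarTower A A' B'] [IsScalarTower A B B'] [Algebra.IsPushout A A' B B']
    (hB : LCI.IsLCI A B) (hB' : LCI.IsLCI A' B') :
    Module.Finite B' (LinearMap.ker (NLCx.bcH1Map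
        ((Algebra.Generators.self A B).defaultHom (Algebra.Generators.self A' B')).toExtensionHom)) ∧
      Module.Projective B' (LinearMap.ker (NLCx.bcH1Map
        ((Algebra.Generators.self A B).defaultHom (Algebra.Generators.self A' B')).toExtensionHom)) := by
  obtain ⟨-, n, f, hf, hK⟩ := hB
  obtain ⟨-, m, f', hf', hK'⟩ := hB'
  -- presentation of `B` on the index type `ULift (Fin n)`
  let ρ : MvPolynomial (ULift.{u} (Fin n)) A ≃ₐ[A] MvPolynomial (Fin n) A :=
    MvPolynomial.renameEquiv A Equiv.ulift
  let ft : MvPolynomial (ULift.{u} (Fin n)) A →ₐ[A] B := f.comp ρ.toAlgHom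
  have hft : Function.Surjective ft := hf.comp ρ.surjective
  have hKt : LCI.IsKoszulRegularIdeal (RingHom.ker ft.toRingHom) :=
    NLLciBC.koszul_ker_comp_equiv ρ.toRingEquiv f.toRingHom hK
  set G := Generators.ofAlgHom ft hft with hGdef
  have hKG : LCI.IsKoszulRegularIdeal G.toExtension.ker := by
    rw [hGdef, ker_ofAlgHom]; exact hKt
  -- the base-changed presentation of `B'`
  have hsurj' : Function.Surjective (MvPolynomial.aeval (fun i => algebraMap B B' (G.val i)) :
      MvPolynomial (ULift.{u} (Fin n)) A' →ₐ[A'] B') :=
    NLLciBC.aeval_surjective_of_isPushout G.val (fun s => ⟨G.σ s, G.aeval_val_σ s⟩)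
  set G' : Generators A' B' (ULift.{u} (Fin n)) :=
    Generators.ofSurjective (fun i => algebraMap B B' (G.val i)) hsurj' with hG'def
  have hG' : ∀ i, G'.val i = algebraMap B B' (G.val i) := fun i => rfl
  let ρ' : MvPolynomial (ULift.{u} (Fin n)) A' ≃ₐ[A'] MvPolynomial (Fin n) A' :=
    MvPolynomial.renameEquiv A' Equiv.ulift
  let β : MvPolynomial (Fin n) A' →ₐ[A'] B' :=
    MvPolynomial.aeval (fun i => algebraMap B B' (G.val ⟨i⟩))
  have hβρ : β.comp ρ'.toAlgHom = MvPolynomial.aeval G'.val := by
    apply MvPolynomial.algHom_ext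
    intro i
    simp [β, ρ', hG']
  have hβ : Function.Surjective β := by
    intro y
    obtain ⟨p, hp⟩ := hsurj' y
    refine ⟨ρ' p, ?_⟩
    rw [← hp]
    exact congr($hβρ p)
  have hKβ := Groth.Agent.S9269.result A' B' m n f' hf' β hβ hK'
  have hKG' : LCI.IsKoszulRegularIdeal G'.toExtension.ker := by
    have h1 := NLLciBC.koszul_ker_comp_equiv ρ'.toRingEquiv β.toRingHom hKβ
    have h2 : G'.toExtension.ker = RingHom.ker (β.toRingHom.comp ρ'.toRingEquiv.toRingHom) := by
      ext x
      change algebraMap G'.Ring B' x = 0 ↔ β (ρ' x) = 0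
      rw [Generators.algebraMap_apply, ← hβρ]
      rfl
    rw [h2]; exact h1
  have hcot := KzCotProj.cotangent_finite_projective G.toExtension hKG
  have hcot' := KzCotProj.cotangent_finite_projective G'.toExtension hKG'
  set g := (NLCx.sameVarsHom G G' hG').toExtensionHom with hg
  have hφ : Function.Surjective (NLBcH1.L (S' := B') g) :=
    NLBase.liftBaseChange_cotangent_map_surjective_sameVars G G' hG'
  have hψ := (NLBase.liftBaseChange_cotangentSpace_map_bijective (S' := B') G G' hG').1
  haveI := hcot.1
  haveI := hcot.2
  haveI := hcot'.1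
  haveI := hcot'.2
  obtain ⟨hfin, hproj⟩ := NLLciBC.ker_finite_projective (NLBcH1.L (S' := B') g) hφ
  have hN : NLBcH1.bcN (S' := B') g = LinearMap.ker (NLBcH1.L (S' := B') g) := by
    apply le_antisymm inf_le_right
    intro x hx
    refine (NLBcH1.mem_bcN (S' := B') g x).mpr ⟨hψ ?_, (LinearMap.mem_ker).mp hx⟩
    rw [map_zero, ← NLBase.cotangentComplex_liftBaseChange]
    have : LinearMap.liftBaseChange B' (Algebra.Extension.Cotangent.map g) x = 0 :=
      (LinearMap.mem_ker).mp hx
    rw [this, map_zero]
  let e := NLBcH1.kerBcH1MapEquiv (S' := B')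
    ((Generators.self A B).defaultHom (Generators.self A' B')).toExtensionHom g
    (G.defaultHom (Generators.self A B)).toExtensionHom
    ((Generators.self A B).defaultHom G).toExtensionHom
    (G'.defaultHom (Generators.self A' B')).toExtensionHom
    ((Generators.self A' B').defaultHom G').toExtensionHom
  let e2 := (NLBcH1.kerEquiv (S' := B') g).trans (LinearEquiv.ofEq _ _ hN)
  exact ⟨Module.Finite.equiv (e2.symm.trans e), Module.Projective.of_equiv (e2.symm.trans e)⟩

end Groth.Agent.S7223
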