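import Groth.Statements.S7252
import Groth.Agent.Lib.R2H3ModLocBridge
import Groth.Agent.Lib.R2H3LocKoszulGen

set_option linter.style.haveILetI false
set_option linter.unusedVariables false

set_option autoImplicit false
universe u
open CategoryTheory CategoryTheory.Limits AlgebraicGeometry
attribute [local instance] HasDerivedCategory.standard
open Perf

namespace Groth.Agent.S7252

/-- Let X be a scheme, U ⊆ X an open subscheme and T = X ∖ U. Assume that, locally on X, T is the
vanishing set of no more than c functions from O_X: every point of X has an open neighbourhood V and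
finitely many, at most c, sections of O_X over V whose common zero locus meets V exactly in T ∩ V.
Then the local cohomology sheaves ℋ^i_T(F) (the right derived functors, computed with injective
resolutions, of the sheaf of sections with support in T, F ↦ ker(F → j_*(F|_U))) vanish for every i
> c and every quasi-coherent O_X-module F. -/
theorem result {X : Scheme.{u}} (U : X.Opens) [HasInjectiveResolutions X.Modules]
    (c : ℕ) (hT : ∀ x : X, ∃ (V : X.Opens) (fs : Finset Γ(X, V)), x ∈ V ∧ fs.card ≤ c ∧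
      X.zeroLocus (U := V) (↑fs : Set Γ(X, V)) ∩ (V : Set ↥X) = (U : Set ↥X)ᶜ ∩ (V : Set ↥X))
    (F : X.Modules) (hF : Coh.IsQCoh F) (i : ℕ) (hi : c < i) :
    IsZero (((DCoh.gammaZ U.ι).rightDerived i).obj F) := by
  haveI : F.IsQuasicoherent := hF
  apply Groth.Agent.Lib.Helper21.RelExtSS.isZero_of_isZero_toAb
  obtain ⟨e⟩ := Groth.Agent.Lib.R2H3.ModLocBridge.nonempty_toAb_HZshM_iso U.ι F i
  refine IsZero.of_iso ?_ e
  rw [Scheme.Opens.opensRange_ι]
  -- the basis of affine opens contained in one of the given neighbourhoods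
  let B : Set X.Opens := {W | IsAffineOpen W ∧ ∃ (V : X.Opens) (fs : Finset Γ(X, V)), W ≤ V ∧
    fs.card ≤ c ∧
    X.zeroLocus (U := V) (↑fs : Set Γ(X, V)) ∩ (V : Set ↥X) = (U : Set ↥X)ᶜ ∩ (V : Set ↥X)}
  have hB : TopologicalSpace.Opens.IsBasis B := by
    rw [TopologicalSpace.Opens.isBasis_iff_nbhd]
    intro O x hxO
    obtain ⟨V, fs, hxV, hc, hz⟩ := hT x
    obtain ⟨W, hW, hxW, hWO⟩ :=
      (TopologicalSpace.Opens.isBasis_iff_nbhd.mp X.isBasis_affineOpens)
        (show x ∈ O ⊓ V from ⟨hxO, hxV⟩)
    exact ⟨W, ⟨hW, V, fs, hWO.trans inf_le_right, hc, hz⟩, hxW, hWO.trans inf_le_left⟩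
  refine Groth.Agent.Lib.R2H3.LocDepthD.HZsh_isZero_of_basis_single (X := X.carrier)
    (Coh.toAb F) U i B hB ?_
  rintro W ⟨hW, V, fs, hWV, hc, hz⟩
  exact Groth.Agent.Lib.R2H3.LocKoszulGen.subsingleton_HZ_of_finset U F hW hWV fs hz i
    (lt_of_le_of_lt hc hi)

end Groth.Agent.S7252
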