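import Groth.Statements.S7253
import Groth.Agent.Lib.R2H3ModLocBridge
import Groth.Agent.Lib.R2H3LocKoszulReg

set_option linter.style.haveILetI false
set_option linter.unusedVariables false

set_option autoImplicit false
universe u
open CategoryTheory CategoryTheory.Limits AlgebraicGeometry
attribute [local instance] HasDerivedCategory.standard
open Perf

namespace Groth.Agent.S7253

/-- Let X be a scheme, U ⊆ X an open subscheme and Z = X ∖ U. Assume that, locally on X, Z is the
vanishing set of a Koszul-regular sequence having c elements: every point of X has an affine open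
neighbourhood V and a sequence f₁, …, f_c in O_X(V), Koszul-regular in the ring O_X(V), whose common
zero locus meets V exactly in Z ∩ V. Then the local cohomology sheaves ℋ^i_Z(F) (right derived
functors, computed with injective resolutions, of F ↦ ker(F → j_*(F|_U))) vanish for every i ≠ c and
every flat quasi-coherent O_X-module F. -/
theorem result {X : Scheme.{u}} (U : X.Opens) [HasInjectiveResolutions X.Modules]
    (c : ℕ) (hZ : ∀ x : X, ∃ (V : X.Opens) (fs : List Γ(X, V)), x ∈ V ∧ IsAffineOpen V ∧ fs.length = c ∧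
      LCI.IsKoszulRegularSeq Γ(X, V) fs ∧
      X.zeroLocus (U := V) {a | a ∈ fs} ∩ (V : Set ↥X) = (U : Set ↥X)ᶜ ∩ (V : Set ↥X))
    (F : X.Modules) (hF : Coh.IsQCoh F) (hFl : FlatMod.IsFlat F) (i : ℕ) (hi : i ≠ c) :
    IsZero (((DCoh.gammaZ U.ι).rightDerived i).obj F) := by
  haveI : F.IsQuasicoherent := hF
  apply Groth.Agent.Lib.Helper21.RelExtSS.isZero_of_isZero_toAb
  obtain ⟨e⟩ := Groth.Agent.Lib.R2H3.ModLocBridge.nonempty_toAb_HZshM_iso U.ι F i
  refine IsZero.of_iso ?_ e
  rw [Scheme.Opens.opensRange_ι]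
  -- the basis of affine opens contained in one of the given affine neighbourhoods
  let B : Set X.Opens := {W | IsAffineOpen W ∧ ∃ (V : X.Opens) (fs : List Γ(X, V)), W ≤ V ∧
    IsAffineOpen V ∧ fs.length = c ∧ LCI.IsKoszulRegularSeq Γ(X, V) fs ∧
    X.zeroLocus (U := V) {a | a ∈ fs} ∩ (V : Set ↥X) = (U : Set ↥X)ᶜ ∩ (V : Set ↥X)}
  have hB : TopologicalSpace.Opens.IsBasis B := by
    rw [TopologicalSpace.Opens.isBasis_iff_nbhd]
    intro O x hxO
    obtain ⟨V, fs, hxV, hV, hc, hreg, hz⟩ := hZ x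
    obtain ⟨W, hW, hxW, hWO⟩ :=
      (TopologicalSpace.Opens.isBasis_iff_nbhd.mp X.isBasis_affineOpens)
        (show x ∈ O ⊓ V from ⟨hxO, hxV⟩)
    exact ⟨W, ⟨hW, V, fs, hWO.trans inf_le_right, hV, hc, hreg, hz⟩, hxW, hWO.trans inf_le_left⟩
  refine Groth.Agent.Lib.R2H3.LocDepthD.HZsh_isZero_of_basis_single (X := X.carrier)
    (Coh.toAb F) U i B hB ?_
  rintro W ⟨hW, V, fs, hWV, hV, hc, hreg, hz⟩
  rcases lt_or_gt_of_ne hi with h | h
  · exact Groth.Agent.Lib.R2H3.LocKoszulReg.subsingleton_HZ_of_koszulRegular U F hV hW hWV fs hreg hz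
      hFl i (hc ▸ h)
  · exact Groth.Agent.Lib.R2H3.LocKoszulReg.subsingleton_HZ_of_list U F hW hWV fs hz i (hc ▸ h)

end Groth.Agent.S7253
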