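import Groth.Statements.S7381
-- import your own Groth.Agent.* helpers here
import Mathlib
import Groth.Agent.S7380
import Groth.Agent.S9200
import Groth.Agent.Lib.R2H4LimFinite

set_option autoImplicit false
set_option linter.style.haveILetI false
universe u
open CategoryTheory AlgebraicGeometry
open Lim

namespace Groth.Agent.S7381

open Limits

attribute [local instance] IsCofiltered.isConnected

/-- the tower of S7380 for a finite morphism has a finite stage. -/
theorem exists_tower {X S : Scheme.{u}} (f : X ⟶ S) [IsFinite f]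
    [CompactSpace S] [QuasiSeparatedSpace S] :
    ∃ (I : Type u) (_ : Preorder I) (_ : IsDirected I (fun a b => a ≤ b)) (_ : Nonempty I)
      (D : Iᵒᵖ ⥤ Over S) (c : Limits.Cone D) (_ : Limits.IsLimit c),
      (∀ i, LocallyOfFinitePresentation (D.obj i).hom) ∧
      (∀ (i j : Iᵒᵖ) (a : i ⟶ j), IsClosedImmersion (D.map a).left) ∧
      Nonempty (c.pt ≅ Over.mk f) ∧ ∃ i : Iᵒᵖ, IsFinite (D.obj i).hom := by
  haveI : CompactSpace X := QuasiCompact.compactSpace_of_compactSpace f
  haveI : QuasiSeparatedSpace X := quasiSeparatedSpace_of_quasiSeparated f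
  obtain ⟨I, hI1, hI2, hI3, D, c, hc, hD, hcl, ⟨e⟩⟩ := Groth.Agent.S7380.result f
  refine ⟨I, hI1, hI2, hI3, D, c, hc, fun i => (hD i).1, hcl, ⟨e⟩, ?_⟩
  haveI : IsCofiltered Iᵒᵖ := inferInstance
  haveI : ∀ (i j : Iᵒᵖ) (a : i ⟶ j), IsClosedImmersion (D.map a).left := hcl
  haveI : ∀ (i j : Iᵒᵖ) (a : i ⟶ j), IsAffineHom (D.map a).left := fun i j a => inferInstance
  haveI : ∀ i, CompactSpace (D.obj i).left := fun i => (hD i).2.2.2.1
  haveI : ∀ i, QuasiSeparatedSpace (D.obj i).left := fun i => (hD i).2.2.2.2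
  haveI : IsIso e.inv.left := inferInstanceAs (IsIso ((Over.forget S).map e.inv))
  haveI : IsIso e.hom.left := inferInstanceAs (IsIso ((Over.forget S).map e.hom))
  -- the system in `Scheme`
  let D' : Iᵒᵖ ⥤ Scheme.{u} := D ⋙ Over.forget S
  let t : D' ⟶ (Functor.const Iᵒᵖ).obj S :=
    { app := fun i => (D.obj i).hom
      naturality := fun i j a => by
        simp only [D', Functor.comp_map, Over.forget_map, Functor.const_obj_map]
        exact Over.w (D.map a) }
  let c' : Cone D' := (Over.forget S).mapCone c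
  have hc' : IsLimit c' := isLimitOfPreserves (Over.forget S) hc
  haveI : ∀ (i j : Iᵒᵖ) (a : i ⟶ j), IsClosedImmersion (D'.map a) := fun i j a =>
    inferInstanceAs (IsClosedImmersion (D.map a).left)
  haveI : ∀ (i j : Iᵒᵖ) (a : i ⟶ j), IsAffineHom (D'.map a) := fun i j a =>
    inferInstanceAs (IsAffineHom (D.map a).left)
  haveI : ∀ i, CompactSpace (D'.obj i) := fun i => inferInstanceAs (CompactSpace (D.obj i).left)
  haveI : ∀ i, QuasiSeparatedSpace (D'.obj i) := fun i =>
    inferInstanceAs (QuasiSeparatedSpace (D.obj i).left)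
  have hcomp : ∀ i, c'.π.app i ≫ t.app i = e.hom.left ≫ f := fun i => by
    have h1 : c'.π.app i ≫ t.app i = c.pt.hom := Over.w (c.π.app i)
    have h2 : c.pt.hom = e.hom.left ≫ f := (Over.w e.hom).symm
    rw [h1, h2]
  have hfin : ∀ i, IsFinite (c'.π.app i ≫ t.app i) := fun i => by
    rw [hcomp i]
    exact (MorphismProperty.cancel_left_of_respectsIso @IsFinite e.hom.left f).mpr inferInstance
  obtain ⟨i₀⟩ : Nonempty Iᵒᵖ := ⟨Opposite.op hI3.some⟩
  haveI : IsAffineHom (c'.π.app i₀ ≫ t.app i₀) := by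
    haveI := hfin i₀
    infer_instance
  obtain ⟨i₁, hi₁⟩ := Groth.Agent.S9200.result S D' t c' hc' i₀
  haveI : IsAffineHom (t.app i₁) := hi₁ i₁ (𝟙 _)
  haveI : LocallyOfFinitePresentation (t.app i₁) := (hD i₁).1
  haveI : LocallyOfFiniteType (t.app i₁) := inferInstance
  haveI : IsFinite (c'.π.app i₁ ≫ t.app i₁) := hfin i₁
  obtain ⟨i, a, hi⟩ := Groth.Agent.Lib.R2H4.LimFinite.exists_isFinite_stage S D' t c' hc' i₁
  exact ⟨i, hi⟩

/-- Let `f : X → S` be finite with `S` quasi-compact and quasi-separated. Then, in the category of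
schemes over `S`, `X` is the limit of a nonempty directed inverse system of schemes `X_i → S` that
are finite and locally of finite presentation, with closed immersions as transition morphisms. -/
theorem result {X S : Scheme.{u}} (f : X ⟶ S) [IsFinite f]
    [CompactSpace S] [QuasiSeparatedSpace S] :
    ∃ (I : Type u) (_ : Preorder I) (_ : IsDirected I (fun a b => a ≤ b)) (_ : Nonempty I)
      (D : Iᵒᵖ ⥤ Over S) (c : Limits.Cone D) (_ : Limits.IsLimit c),
      (∀ i, IsFinite (D.obj i).hom ∧ LocallyOfFinitePresentation (D.obj i).hom) ∧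
      (∀ (i j : Iᵒᵖ) (a : i ⟶ j), IsClosedImmersion (D.map a).left) ∧
      Nonempty (c.pt ≅ Over.mk f) := by
  obtain ⟨I, _, hdir, _, D, c, hc, hfp, hcl, ⟨e⟩, ⟨i₀, hi₀⟩⟩ := exists_tower f
  haveI : IsDirectedOrder I := hdir
  -- the tail
  let I' : Type u := {k : I // i₀.unop ≤ k}
  have hmono : Monotone (fun k : I' => (k.1 : I)) := fun _ _ h => h
  haveI : Nonempty I' := ⟨⟨i₀.unop, le_rfl⟩⟩
  haveI : IsDirectedOrder I' := ⟨fun a b => by
    obtain ⟨k, hak, hbk⟩ := directed_of (· ≤ ·) a.1 b.1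
    exact ⟨⟨k, a.2.trans hak⟩, hak, hbk⟩⟩
  let F : I' ⥤ I := hmono.functor
  haveI : F.Final := by
    rw [Monotone.final_functor_iff]
    intro k
    obtain ⟨l, hkl, hil⟩ := directed_of (· ≤ ·) k i₀.unop
    exact ⟨⟨l, hil⟩, hkl⟩
  haveI : F.op.Initial := inferInstance
  refine ⟨I', inferInstance, inferInstance, inferInstance, F.op ⋙ D, c.whisker F.op,
    (Functor.Initial.isLimitWhiskerEquiv F.op c).symm hc, ?_, ?_, ⟨e⟩⟩
  · intro k
    refine ⟨?_, hfp _⟩
    -- `X_k → X_{i₀}` is a closed immersion over `S`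
    let φ : Opposite.op (k.unop.1) ⟶ i₀ := (homOfLE k.unop.2).op
    haveI : IsClosedImmersion (D.map φ).left := hcl _ _ φ
    haveI : IsFinite (D.obj i₀).hom := hi₀
    have hw : (D.map φ).left ≫ (D.obj i₀).hom = (D.obj (Opposite.op k.unop.1)).hom :=
      Over.w (D.map φ)
    change IsFinite (D.obj (Opposite.op k.unop.1)).hom
    rw [← hw]
    infer_instance
  · intro j k a
    exact hcl _ _ (F.op.map a)

end Groth.Agent.S7381
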