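import Groth.Statements.S7393
import Mathlib
import Groth.Agent.S4713
import Groth.Agent.S2047
import Groth.Agent.Lib.Helper5StalkSpec
import Groth.Agent.Lib.Helper7GScheme
import Groth.Agent.Lib.Helper7ExcLoc

set_option autoImplicit false
set_option linter.style.haveILetI false
universe u
open CategoryTheory AlgebraicGeometry
open Mor

namespace Groth.Agent.S7393

open Groth.Agent.Lib.Helper7.ExcLoc Groth.Agent.Lib.Helper7.GScheme

/-- A Noetherian local ring whose completion map is regular is a G-ring. -/
theorem isGRing_of_isRegularHom_cpl (A : Type u) [CommRing A] [IsLocalRing A] [IsNoetherianRing A]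
    (h : CAlg.IsRegularHom A (EGA4.Cpl A)) : CAlg.IsGRing A := by
  rw [Groth.Agent.S2047.result]
  intro m hm
  have hmm : m = IsLocalRing.maximalIdeal A := IsLocalRing.eq_maximalIdeal hm
  let e2 : A ≃ₐ[A] Localization.AtPrime m :=
    IsLocalization.atUnits A m.primeCompl
      (fun x hx ↦ by
        have hx' : x ∉ m := hx
        rw [hmm] at hx'
        simpa using! hx')
  exact isRegularHom_cpl_of_ringEquiv A (Localization.AtPrime m) e2.toRingEquiv.symm h

/-- If `S` is a local ring which is a localization of a G-ring `R`, then the completion map of `S`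
is regular. -/
theorem isRegularHom_cpl_of_isLocalization (R S : Type u) [CommRing R] [CommRing S]
    [Algebra R S] (hR : CAlg.IsGRing R) [IsLocalRing S] (M : Submonoid R) [IsLocalization M S] :
    CAlg.IsRegularHom S (EGA4.Cpl S) := by
  haveI := hR.1
  have hP : IsLocalization.AtPrime (Localization.AtPrime (IsLocalRing.maximalIdeal S))
      ((IsLocalRing.maximalIdeal S).comap (algebraMap R S)) :=
    IsLocalization.isLocalization_isLocalization_atPrime_isLocalization M _
      (IsLocalRing.maximalIdeal S)
  have hreg := hR.2 ((IsLocalRing.maximalIdeal S).comap (algebraMap R S))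
  let e1 : Localization.AtPrime ((IsLocalRing.maximalIdeal S).comap (algebraMap R S)) ≃ₐ[R]
      Localization.AtPrime (IsLocalRing.maximalIdeal S) :=
    IsLocalization.algEquiv ((IsLocalRing.maximalIdeal S).comap (algebraMap R S)).primeCompl _ _
  let e2 : S ≃ₐ[S] Localization.AtPrime (IsLocalRing.maximalIdeal S) :=
    IsLocalization.atUnits S (IsLocalRing.maximalIdeal S).primeCompl
      (fun x ↦ by simpa using! fun a ↦ a)
  haveI : IsNoetherianRing
      (Localization.AtPrime ((IsLocalRing.maximalIdeal S).comap (algebraMap R S))) :=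
    IsLocalization.isNoetherianRing
      ((IsLocalRing.maximalIdeal S).comap (algebraMap R S)).primeCompl _ inferInstance
  exact isRegularHom_cpl_of_ringEquiv _ S (e2.toRingEquiv.trans e1.toRingEquiv.symm) hreg

/-- On a locally Noetherian scheme whose closed points have regular completion maps, all points do. -/
theorem isRegularHom_cpl_stalk_of_closedPoints (X : Scheme.{u}) [IsLocallyNoetherian X]
    (h : ∀ x : X, IsClosed ({x} : Set X) →
      CAlg.IsRegularHom (X.presheaf.stalk x) (EGA4.Cpl (X.presheaf.stalk x))) (x : X) :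
    CAlg.IsRegularHom (X.presheaf.stalk x) (EGA4.Cpl (X.presheaf.stalk x)) := by
  obtain ⟨y, hy, hycl⟩ := Groth.Agent.S4713.result X (closure {x}) isClosed_closure
    ⟨x, subset_closure rfl⟩
  have hxy : x ⤳ y := specializes_iff_mem_closure.mpr hy
  have hG : CAlg.IsGRing (X.presheaf.stalk y) := isGRing_of_isRegularHom_cpl _ (h y hycl)
  letI := (X.presheaf.stalkSpecializes hxy).hom.toAlgebra
  obtain ⟨M, hM⟩ :=
    Groth.Agent.Lib.Helper5.StalkSpec.exists_isLocalization_stalkSpecializes X hxy
  exact isRegularHom_cpl_of_isLocalization (X.presheaf.stalk y) (X.presheaf.stalk x) hG M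

/-- A scheme `X` is a G-scheme (every point has an affine open neighbourhood whose coordinate ring is a
G-ring) if and only if `X` is locally Noetherian and, for every closed point `x`, the completion map
of the local ring `O_{X,x} → O_{X,x}^∧` is a regular ring map. -/
theorem result (X : Scheme.{u}) :
    (∀ x : X, ∃ U : X.Opens, x ∈ U ∧ IsAffineOpen U ∧ CAlg.IsGRing Γ(X, U)) ↔
      IsLocallyNoetherian X ∧ ∀ x : X, IsClosed ({x} : Set X) →
        CAlg.IsRegularHom (X.presheaf.stalk x)
          (AdicCompletion (IsLocalRing.maximalIdeal (X.presheaf.stalk x)) (X.presheaf.stalk x)) := by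
  constructor
  · intro h
    choose V hxV hV hG using h
    haveI : IsLocallyNoetherian X := by
      apply isLocallyNoetherian_of_affine_cover (S := fun x : X => (⟨V x, hV x⟩ : X.affineOpens))
      · rw [eq_top_iff]
        intro x _
        exact TopologicalSpace.Opens.mem_iSup.mpr ⟨x, hxV x⟩
      · intro x
        exact (hG x).1
    refine ⟨inferInstance, fun x _ => ?_⟩
    exact isRegularHom_cpl_stalk (hV x) (hG x) x (hxV x)
  · rintro ⟨hN, h⟩ x
    haveI := hN
    obtain ⟨_, ⟨U, hU, rfl⟩, hxU, -⟩ :=
      (X.isBasis_affineOpens).exists_subset_of_mem_open (Set.mem_univ x) isOpen_univ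
    refine ⟨U, hxU, hU, ?_⟩
    haveI hNU : IsNoetherianRing Γ(X, U) :=
      IsLocallyNoetherian.component_noetherian (⟨U, hU⟩ : X.affineOpens)
    refine ⟨hNU, fun P hP => ?_⟩
    set y : PrimeSpectrum Γ(X, U) := ⟨P, hP⟩ with hy
    have hyU : hU.fromSpec y ∈ U := by
      have := (hU.isoSpec.inv y).2
      exact this
    letI : Algebra Γ(X, U) (X.presheaf.stalk (hU.fromSpec y)) :=
      TopCat.Presheaf.algebra_section_stalk X.presheaf (⟨hU.fromSpec y, hyU⟩ : U)
    haveI hloc : IsLocalization.AtPrime (X.presheaf.stalk (hU.fromSpec y)) P :=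
      hU.isLocalization_stalk' y hyU
    have h1 := isRegularHom_cpl_stalk_of_closedPoints X h (hU.fromSpec y)
    haveI : IsNoetherianRing (Localization.AtPrime P) :=
      IsLocalization.isNoetherianRing P.primeCompl _ inferInstance
    let e : Localization.AtPrime P ≃ₐ[Γ(X, U)] X.presheaf.stalk (hU.fromSpec y) :=
      IsLocalization.algEquiv P.primeCompl _ _
    haveI : IsNoetherianRing (X.presheaf.stalk (hU.fromSpec y)) :=
      isNoetherianRing_of_ringEquiv _ e.toRingEquiv
    exact isRegularHom_cpl_of_ringEquiv _ _ e.toRingEquiv h1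

end Groth.Agent.S7393
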