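import Groth.Statements.S7395
-- import your own Groth.Agent.* helpers here
import Mathlib
import Groth.Agent.S7380
import Groth.Agent.S2076
import Groth.Agent.S9199

set_option autoImplicit false
set_option linter.style.haveILetI false
universe u
open CategoryTheory AlgebraicGeometry
open Lim

namespace Groth.Agent.S7395

open Limits

attribute [local instance] IsCofiltered.isConnected

/-- Let `f : X → S` be separated and of finite type with `S` quasi-compact and quasi-separated. Then
there are a separated morphism `f' : X' → S` of finite presentation and a closed immersion `X → X'`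
over `S`. -/
theorem result {X S : Scheme.{u}} (f : X ⟶ S) [IsSeparated f]
    [LocallyOfFiniteType f] [QuasiCompact f] [CompactSpace S] [QuasiSeparatedSpace S] :
    ∃ (X' : Scheme.{u}) (f' : X' ⟶ S) (j : X ⟶ X'), IsSeparated f' ∧ LocallyOfFinitePresentation f' ∧
      QuasiCompact f' ∧ IsClosedImmersion j ∧ j ≫ f' = f := by
  haveI : CompactSpace X := QuasiCompact.compactSpace_of_compactSpace f
  haveI : QuasiSeparatedSpace X := quasiSeparatedSpace_of_quasiSeparated f
  obtain ⟨I, _, _, _, D, c, hc, hD, hcl, ⟨e⟩⟩ := Groth.Agent.S7380.result f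
  haveI : IsCofiltered Iᵒᵖ := inferInstance
  haveI : ∀ (i j : Iᵒᵖ) (a : i ⟶ j), IsClosedImmersion (D.map a).left := hcl
  haveI : ∀ (i j : Iᵒᵖ) (a : i ⟶ j), IsAffineHom (D.map a).left := fun i j a => inferInstance
  haveI : ∀ i, CompactSpace (D.obj i).left := fun i => (hD i).2.2.2.1
  haveI : ∀ i, QuasiSeparatedSpace (D.obj i).left := fun i => (hD i).2.2.2.2
  -- the projection to some stage is a closed immersion
  have hlft : LocallyOfFiniteType (e.inv.left ≫ c.pt.hom) := by
    have : e.inv.left ≫ c.pt.hom = f := Over.w e.inv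
    rw [this]; infer_instance
  haveI : IsIso e.inv.left := inferInstanceAs (IsIso ((Over.forget S).map e.inv))
  haveI : IsIso e.hom.left := inferInstanceAs (IsIso ((Over.forget S).map e.hom))
  obtain ⟨i₂, hi₂⟩ := Groth.Agent.S2076.result S D c hc (Y := X) e.inv.left
  -- separatedness at some stage
  let D' : Iᵒᵖ ⥤ Scheme.{u} := D ⋙ Over.forget S
  let t : D' ⟶ (Functor.const Iᵒᵖ).obj S :=
    { app := fun i => (D.obj i).hom
      naturality := fun i j a => by
        simp only [D', Functor.comp_map, Over.forget_map, Functor.const_obj_map]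
        exact Over.w (D.map a) }
  let c' : Cone D' := (Over.forget S).mapCone c
  have hc' : IsLimit c' := isLimitOfPreserves (Over.forget S) hc
  haveI : ∀ (i j : Iᵒᵖ) (a : i ⟶ j), IsAffineHom (D'.map a) := fun i j a =>
    inferInstanceAs (IsAffineHom (D.map a).left)
  haveI : ∀ i, CompactSpace (D'.obj i) := fun i => inferInstanceAs (CompactSpace (D.obj i).left)
  haveI : ∀ i, QuasiSeparatedSpace (D'.obj i) := fun i =>
    inferInstanceAs (QuasiSeparatedSpace (D.obj i).left)
  have hsep : IsSeparated (c'.π.app i₂ ≫ t.app i₂) := by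
    have h1 : c'.π.app i₂ ≫ t.app i₂ = c.pt.hom := Over.w (c.π.app i₂)
    have h2 : c.pt.hom = e.hom.left ≫ f := (Over.w e.hom).symm
    rw [h1, h2]
    exact (MorphismProperty.cancel_left_of_respectsIso @IsSeparated e.hom.left f).mpr inferInstance
  obtain ⟨i₁, hi₁⟩ := Groth.Agent.S9199.result S D' t c' hc' i₂
  -- a common stage
  let i := IsCofiltered.min i₁ i₂
  let a₁ : i ⟶ i₁ := IsCofiltered.minToLeft i₁ i₂
  let a₂ : i ⟶ i₂ := IsCofiltered.minToRight i₁ i₂
  refine ⟨(D.obj i).left, (D.obj i).hom, e.inv.left ≫ (c.π.app i).left, hi₁ i a₁, (hD i).1,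
    (hD i).2.1, ?_, ?_⟩
  · have hcomp : (e.inv.left ≫ (c.π.app i).left) ≫ (D.map a₂).left =
        e.inv.left ≫ (c.π.app i₂).left := by
      rw [Category.assoc, ← Over.comp_left, Cone.w]
    haveI : IsClosedImmersion ((e.inv.left ≫ (c.π.app i).left) ≫ (D.map a₂).left) := by
      rw [hcomp]; exact hi₂
    exact IsClosedImmersion.of_comp _ (D.map a₂).left
  · rw [Category.assoc, Over.w (c.π.app i)]
    exact Over.w e.inv

end Groth.Agent.S7395
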