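import Groth.Statements.S7396
-- import your own Groth.Agent.* helpers here
import Mathlib
import Groth.Agent.S7380
import Groth.Agent.S2076
import Groth.Agent.S9200
import Groth.Agent.Lib.R2H4LimFinite

set_option autoImplicit false
set_option linter.style.haveILetI false
universe u
open CategoryTheory AlgebraicGeometry
open Lim

namespace Groth.Agent.S7396

open Limits

attribute [local instance] IsCofiltered.isConnected

/-- Let `f : X → S` be finite with `S` quasi-compact and quasi-separated. Then there are a morphism `f'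
: X' → S` which is finite and of finite presentation and a closed immersion `X → X'` over `S`. -/
theorem result {X S : Scheme.{u}} (f : X ⟶ S) [IsFinite f]
    [CompactSpace S] [QuasiSeparatedSpace S] :
    ∃ (X' : Scheme.{u}) (f' : X' ⟶ S) (j : X ⟶ X'), IsFinite f' ∧ LocallyOfFinitePresentation f' ∧
      IsClosedImmersion j ∧ j ≫ f' = f := by
  haveI : CompactSpace X := QuasiCompact.compactSpace_of_compactSpace f
  haveI : QuasiSeparatedSpace X := quasiSeparatedSpace_of_quasiSeparated f
  obtain ⟨I, _, _, _, D, c, hc, hD, hcl, ⟨e⟩⟩ := Groth.Agent.S7380.result f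
  haveI : IsCofiltered Iᵒᵖ := inferInstance
  haveI : ∀ (i j : Iᵒᵖ) (a : i ⟶ j), IsClosedImmersion (D.map a).left := hcl
  haveI : ∀ (i j : Iᵒᵖ) (a : i ⟶ j), IsAffineHom (D.map a).left := fun i j a => inferInstance
  haveI : ∀ i, CompactSpace (D.obj i).left := fun i => (hD i).2.2.2.1
  haveI : ∀ i, QuasiSeparatedSpace (D.obj i).left := fun i => (hD i).2.2.2.2
  haveI : IsIso e.inv.left := inferInstanceAs (IsIso ((Over.forget S).map e.inv))
  haveI : IsIso e.hom.left := inferInstanceAs (IsIso ((Over.forget S).map e.hom))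
  -- the projection to some stage is a closed immersion
  have hlft : LocallyOfFiniteType (e.inv.left ≫ c.pt.hom) := by
    have : e.inv.left ≫ c.pt.hom = f := Over.w e.inv
    rw [this]; infer_instance
  obtain ⟨i₂, hi₂⟩ := Groth.Agent.S2076.result S D c hc (Y := X) e.inv.left
  -- the system in `Scheme`
  let D' : Iᵒᵖ ⥤ Scheme.{u} := D ⋙ Over.forget S
  let t : D' ⟶ (Functor.const Iᵒᵖ).obj S :=
    { app := fun i => (D.obj i).hom
      naturality := fun i j a => by
        simp only [D', Functor.comp_map, Over.forget_map, Functor.const_obj_map]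
        exact Over.w (D.map a) }
  let c' : Cone D' := (Over.forget S).mapCone c
  have hc' : IsLimit c' := isLimitOfPreserves (Over.forget S) hc
  haveI : ∀ (i j : Iᵒᵖ) (a : i ⟶ j), IsClosedImmersion (D'.map a) := fun i j a =>
    inferInstanceAs (IsClosedImmersion (D.map a).left)
  haveI : ∀ (i j : Iᵒᵖ) (a : i ⟶ j), IsAffineHom (D'.map a) := fun i j a =>
    inferInstanceAs (IsAffineHom (D.map a).left)
  haveI : ∀ i, CompactSpace (D'.obj i) := fun i => inferInstanceAs (CompactSpace (D.obj i).left)
  haveI : ∀ i, QuasiSeparatedSpace (D'.obj i) := fun i =>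
    inferInstanceAs (QuasiSeparatedSpace (D.obj i).left)
  have hcomp : ∀ i, c'.π.app i ≫ t.app i = e.hom.left ≫ f := fun i => by
    have h1 : c'.π.app i ≫ t.app i = c.pt.hom := Over.w (c.π.app i)
    have h2 : c.pt.hom = e.hom.left ≫ f := (Over.w e.hom).symm
    rw [h1, h2]
  have hfin : ∀ i, IsFinite (c'.π.app i ≫ t.app i) := fun i => by
    rw [hcomp i]
    exact (MorphismProperty.cancel_left_of_respectsIso @IsFinite e.hom.left f).mpr inferInstance
  haveI : IsAffineHom (c'.π.app i₂ ≫ t.app i₂) := by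
    haveI := hfin i₂
    infer_instance
  obtain ⟨i₁, hi₁⟩ := Groth.Agent.S9200.result S D' t c' hc' i₂
  -- a common stage
  let i₃ := IsCofiltered.min i₁ i₂
  let a₁ : i₃ ⟶ i₁ := IsCofiltered.minToLeft i₁ i₂
  let a₂ : i₃ ⟶ i₂ := IsCofiltered.minToRight i₁ i₂
  haveI : IsAffineHom (t.app i₃) := hi₁ i₃ a₁
  haveI : LocallyOfFinitePresentation (t.app i₃) := (hD i₃).1
  haveI : LocallyOfFiniteType (t.app i₃) := inferInstance
  haveI : IsFinite (c'.π.app i₃ ≫ t.app i₃) := hfin i₃
  obtain ⟨i, a, hi⟩ := Groth.Agent.Lib.R2H4.LimFinite.exists_isFinite_stage S D' t c' hc' i₃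
  refine ⟨(D.obj i).left, (D.obj i).hom, e.inv.left ≫ (c.π.app i).left, hi, (hD i).1, ?_, ?_⟩
  · have hcomp : (e.inv.left ≫ (c.π.app i).left) ≫ (D.map (a ≫ a₂)).left =
        e.inv.left ≫ (c.π.app i₂).left := by
      rw [Category.assoc, ← Over.comp_left, Cone.w]
    haveI : IsClosedImmersion ((e.inv.left ≫ (c.π.app i).left) ≫ (D.map (a ≫ a₂)).left) := by
      rw [hcomp]; exact hi₂
    exact IsClosedImmersion.of_comp _ (D.map (a ≫ a₂)).left
  · rw [Category.assoc, Over.w (c.π.app i)]
    exact Over.w e.inv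

end Groth.Agent.S7396
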