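import Groth.Statements.S7425
import Mathlib
import Groth.Agent.Lib.H9AWNSch

set_option autoImplicit false
universe u
open CategoryTheory AlgebraicGeometry
open HTop

namespace Groth.Agent.S7425

/-- Let `ν : X^awn → X` be an absolute weak normalization and `π : Y → X` a universal homeomorphism.
Then `Y` is absolutely weakly normal exactly when the induced morphism `h : X^awn → Y` over `X` is
an isomorphism. -/
theorem result {X X' Y : Scheme.{u}} (ν : X' ⟶ X)
    (hν : HTop.IsAWNormalization ν) (π : Y ⟶ X) (hπ : FlatMor.IsUnivHomeo π) (h : X' ⟶ Y) (hh : h ≫ π = ν) :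
    IsIso h ↔ HTop.IsAWN Y := by
  constructor
  · intro hiso
    have hX' := Groth.Agent.Lib.H9AWN.isAWN_of_isAWNormalization ν hν
    exact Groth.Agent.Lib.H9AWN.isAWN_of_isOpenImmersion (inv h) hX'
  · intro hY
    obtain ⟨s, hs, -⟩ := Groth.Agent.Lib.H9AWN.existsUnique_lift ν hν.1 hY π
    obtain ⟨c, -, hc⟩ := hν.2 X' ν hν.1
    obtain ⟨d, -, hd⟩ := Groth.Agent.Lib.H9AWN.existsUnique_lift π hπ hY π
    have e1 : h ≫ s = 𝟙 X' := by
      rw [hc (h ≫ s) (by show (h ≫ s) ≫ ν = ν; rw [Category.assoc, hs, hh]),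
        hc (𝟙 _) (Category.id_comp _)]
    have e2 : s ≫ h = 𝟙 Y := by
      rw [hd (s ≫ h) (by show (s ≫ h) ≫ π = π; rw [Category.assoc, hh, hs]),
        hd (𝟙 _) (Category.id_comp _)]
    exact ⟨s, e1, e2⟩

end Groth.Agent.S7425
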