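import Groth.Statements.S7426
import Mathlib
import Groth.Agent.Lib.H9AWNSch

set_option autoImplicit false
universe u
open CategoryTheory AlgebraicGeometry
open HTop

namespace Groth.Agent.S7426

/-- For a scheme `X` the following are equivalent: `X` is absolutely weakly normal; `X^awn → X` is an
isomorphism (equivalently, the identity of `X` is an absolute weak normalization); every universal
homeomorphism `Y → X` with `Y` reduced is an isomorphism. -/
theorem result (X : Scheme.{u}) :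
    (HTop.IsAWN X ↔ HTop.IsAWNormalization (𝟙 X)) ∧
    (HTop.IsAWN X ↔ ∀ (Y : Scheme.{u}) (π : Y ⟶ X), FlatMor.IsUnivHomeo π → AlgebraicGeometry.IsReduced Y → IsIso π) := by
  refine ⟨⟨fun hX => ⟨?_, fun Y π hπ => Groth.Agent.Lib.H9AWN.existsUnique_lift π hπ hX (𝟙 X)⟩,
    fun h => Groth.Agent.Lib.H9AWN.isAWN_of_isAWNormalization (𝟙 X) h⟩,
    ⟨fun hX Y π hπ hY => Groth.Agent.Lib.H9AWN.isIso_of_isReduced π hπ hX, fun H => ?_⟩⟩
  · exact (Groth.Agent.S0415.result (𝟙 X)).mpr ⟨inferInstance, inferInstance, inferInstance⟩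
  · obtain ⟨X₀, ν₀, h₀, hX₀⟩ := Groth.Agent.Lib.H9AWN.exists_isAWNormalization X
    haveI := H X₀ ν₀ h₀.1 (Groth.Agent.Lib.H9AWN.isReduced_of_isAWN hX₀)
    exact Groth.Agent.Lib.H9AWN.isAWN_of_isOpenImmersion (inv ν₀) hX₀

end Groth.Agent.S7426
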