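import Groth.Statements.S7446
import Mathlib
import Groth.Agent.Lib.Helper2BddFib

set_option autoImplicit false
universe u
open CategoryTheory AlgebraicGeometry
open BddFib

namespace Groth.Agent.S7446
open Groth.Agent.Lib.Helper2.BddFib

lemma fromSpecResidueField_appTop {T : Scheme.{u}} (x : T) :
    (T.fromSpecResidueField x).appTop =
      T.Γevaluation x ≫ (Scheme.ΓSpecIso (T.residueField x)).inv := by
  unfold Scheme.fromSpecResidueField
  rw [Scheme.Hom.comp_appTop, Scheme.fromSpecStalk_appTop]
  have h1 : (Spec (T.presheaf.stalk x)).presheaf.map (homOfLE (le_top : (T.fromSpecStalk x) ⁻¹ᵁ ⊤ ≤ ⊤)).op = 𝟙 _ :=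
    (Spec (T.presheaf.stalk x)).presheaf.map_id _
  erw [h1]
  rw [Category.comp_id, Category.assoc, ← Scheme.ΓSpecIso_inv_naturality, ← Category.assoc]
  rfl

lemma Γevaluation_surjective_of_isClosed {T : Scheme.{u}} [IsAffine T] (x : T)
    (hx : IsClosed ({x} : Set T)) : Function.Surjective (T.Γevaluation x).hom := by
  have : IsClosedImmersion (T.fromSpecResidueField x) :=
    (isClosed_singleton_iff_isClosedImmersion).mp hx
  have h := (IsClosedImmersion.isAffine_surjective_of_isAffine (T.fromSpecResidueField x)).2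
  rw [fromSpecResidueField_appTop] at h
  intro y
  obtain ⟨b, hb⟩ := h ((Scheme.ΓSpecIso (T.residueField x)).inv.hom y)
  refine ⟨b, ?_⟩
  have hinj : Function.Injective (Scheme.ΓSpecIso (T.residueField x)).inv.hom :=
    (ConcreteCategory.bijective_of_isIso (Scheme.ΓSpecIso (T.residueField x)).inv).1
  exact hinj hb

lemma toSpecΓ_asIdeal {T : Scheme.{u}} (x : T) :
    (T.toSpecΓ x).asIdeal = RingHom.ker (T.Γevaluation x).hom := by
  ext b
  rw [Scheme.toSpecΓ_apply, RingHom.mem_ker]
  show (T.presheaf.Γgerm x).hom b ∈ IsLocalRing.maximalIdeal _ ↔ _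
  rw [← IsLocalRing.residue_eq_zero_iff]
  rfl

lemma bijective_theta (k : Type u) [Field k] (y : Spec (CommRingCat.of k)) :
    Function.Bijective
      ((Scheme.ΓSpecIso (CommRingCat.of k)).inv ≫ (Spec (CommRingCat.of k)).Γevaluation y).hom := by
  refine ⟨RingHom.injective _, ?_⟩
  have h1 := Scheme.Spec.algebraMap_residueFieldIso_inv (CommRingCat.of k) y
  have hmax : y.asIdeal.IsMaximal := by
    have : y.asIdeal = ⊥ := (Ideal.eq_bot_or_top _).resolve_right y.isPrime.ne_top
    rw [this]; exact Ideal.bot_isMaximal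
  have h2 : Function.Surjective (algebraMap k y.asIdeal.ResidueField) :=
    Ideal.algebraMap_residueField_surjective y.asIdeal
  have h3 : Function.Surjective (Scheme.Spec.residueFieldIso (CommRingCat.of k) y).inv.hom :=
    (ConcreteCategory.bijective_of_isIso (Scheme.Spec.residueFieldIso (CommRingCat.of k) y).inv).2
  have h4 : ((Scheme.ΓSpecIso (CommRingCat.of k)).inv ≫ (Spec (CommRingCat.of k)).Γevaluation y) =
      CommRingCat.ofHom (algebraMap k y.asIdeal.ResidueField) ≫
        (Scheme.Spec.residueFieldIso (CommRingCat.of k) y).inv := by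
    rw [h1]; rfl
  rw [h4]
  exact h3.comp h2

theorem main (k : Type u) [Field k] {T : Scheme.{u}} (p : T ⟶ Spec (CommRingCat.of k)) (n : ℕ)
    (h : FiniteOfDegLE (CommRingCat.of k) p n) :
    Finite T ∧ ∑ᶠ x : T, p.residueDegree x ≤ n := by
  classical
  obtain ⟨hfinT, hdisc⟩ := finite_discrete_of_fdl k p n h
  refine ⟨hfinT, ?_⟩
  rw [fdl_iff] at h
  letI : Algebra k Γ(T, ⊤) := (sm k p).toAlgebra
  obtain ⟨haff, hfin, hrk⟩ := h
  let algκ : ∀ x : T, Algebra k (T.residueField x) :=
    fun x => ((T.Γevaluation x).hom.comp (sm k p)).toAlgebra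
  let evA : ∀ x : T, Γ(T, ⊤) →ₐ[k] T.residueField x := fun x =>
    { (T.Γevaluation x).hom with commutes' := fun r => rfl }
  have hsurj : ∀ x, Function.Surjective (evA x) := fun x =>
    Γevaluation_surjective_of_isClosed x (isClosed_discrete _)
  have hdeg : ∀ x, p.residueDegree x = Module.finrank k (T.residueField x) := by
    intro x
    unfold Scheme.Hom.residueDegree
    letI := (p.residueFieldMap x).hom.toAlgebra
    symm
    refine Algebra.finrank_eq_of_equiv_equiv
      (RingEquiv.ofBijective _ (bijective_theta k (p x))) (RingEquiv.refl _) ?_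
    have hnat := Scheme.Γevaluation_naturality p x
    ext r
    have := congrArg (fun φ => φ.hom ((Scheme.ΓSpecIso (CommRingCat.of k)).inv.hom r)) hnat
    exact this
  let q : T → Ideal Γ(T, ⊤) := fun x => RingHom.ker (evA x)
  have hqmax : ∀ x, (q x).IsMaximal := fun x => RingHom.ker_isMaximal_of_surjective _ (hsurj x)
  have hqinj : Function.Injective q := by
    intro x y hxy
    have h1 : (T.toSpecΓ x).asIdeal = (T.toSpecΓ y).asIdeal := by
      rw [toSpecΓ_asIdeal, toSpecΓ_asIdeal]; exact hxy
    have h2 : T.toSpecΓ x = T.toSpecΓ y := PrimeSpectrum.ext h1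
    have : IsIso T.toSpecΓ := IsAffine.affine
    exact (T.toSpecΓ).homeomorph.injective h2
  have hcop : Pairwise (fun x y : T => IsCoprime (q x) (q y)) := by
    intro x y hxy
    rw [Ideal.isCoprime_iff_sup_eq]
    exact Ideal.IsMaximal.coprime_of_ne (hqmax x) (hqmax y) (fun h => hxy (hqinj h))
  have := Fintype.ofFinite T
  haveI : ∀ x : T, Module.Finite k (T.residueField x) := fun x =>
    Module.Finite.of_surjective (evA x).toLinearMap (hsurj x)
  let Φ : Γ(T, ⊤) →ₗ[k] (∀ x : T, T.residueField x) := LinearMap.pi fun x => (evA x).toLinearMap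
  have hΦ : Function.Surjective Φ := by
    intro y
    choose b hb using fun x => hsurj x (y x)
    obtain ⟨c, hc⟩ := Ideal.quotientInfToPiQuotient_surj hcop
      (fun x => Ideal.Quotient.mk (q x) (b x))
    obtain ⟨c', rfl⟩ := Ideal.Quotient.mk_surjective c
    refine ⟨c', funext fun x => ?_⟩
    have h1 : Ideal.Quotient.mk (q x) c' = Ideal.Quotient.mk (q x) (b x) := congrFun hc x
    rw [Ideal.Quotient.eq] at h1
    have h2 : evA x (c' - b x) = 0 := h1
    rw [map_sub, sub_eq_zero] at h2
    show evA x c' = y x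
    rw [h2, hb]
  have h1 := LinearMap.finrank_le_finrank_of_surjective hΦ
  rw [Module.finrank_pi_fintype] at h1
  rw [finsum_eq_sum_of_fintype]
  calc ∑ x, p.residueDegree x = ∑ x, Module.finrank k (T.residueField x) :=
        Finset.sum_congr rfl (fun x _ => hdeg x)
    _ ≤ Module.finrank k Γ(T, ⊤) := h1
    _ ≤ n := hrk

/-- When every fibre of `f : X → Y` has degree at most `n`, then for every field `k` and every `Spec k →
Y`, writing `X_k = {x_1, …, x_t}`, one has `Σ_i [κ(x_i) : k] ≤ n`. (Residue degrees are taken along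
`X_k → Spec k`; `X_k` is finite, so the sum is a finite sum.) -/
theorem result {X Y : Scheme.{u}} (f : X ⟶ Y) (n : ℕ) (hf : BddFib.FibreDegLE f n)
    (k : Type u) [Field k] (g : Spec (CommRingCat.of k) ⟶ Y) :
    Finite ↥(Limits.pullback f g) ∧
      ∑ᶠ x : ↥(Limits.pullback f g), (Limits.pullback.snd f g).residueDegree x ≤ n := by
  exact main k (Limits.pullback.snd f g) n (DegLE_of_fibreDegLE f n hf k g)

end Groth.Agent.S7446
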