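import Groth.Statements.S7463
import Mathlib
import Groth.Agent.Lib.R2H4GrpdClosure

set_option autoImplicit false
universe u
open CategoryTheory CategoryTheory.Limits AlgebraicGeometry
open Grpd

namespace Groth.Agent.S7463

/-- Consider a groupoid scheme (U, R, s, t, c) over S in which U is the spectrum of a field, and write Z
for the closure of the image of the morphism j = (t, s) : R -> U x_S U. Then, set-theoretically,
pr_02 carries Z x_(pr_1,U,pr_0) Z into Z: given the morphism pr_02 from (U x_S U) x_(pr_1,U,pr_0) (U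
x_S U) to U x_S U, whose components are pr_0 of the first factor and pr_1 of the second, any point
both of whose projections land in Z is mapped to a point of Z. (A groupoid scheme consists of U, R,
s, t, c, e, i over S satisfying the groupoid axioms on T-points; c is defined on the fibre product
of s and t and takes a pair (a, b) with s(a) = t(b) to the composite of a with b.) -/
theorem result (S : Scheme.{u}) (G : Grpd.GroupoidScheme S) (k : Type u) [Field k] (eU : G.U ≅ Spec (CommRingCat.of k)) (pr02 : pullback (pullback.snd G.pU G.pU) (pullback.fst G.pU G.pU) ⟶ pullback G.pU G.pU) (h0 : pr02 ≫ pullback.fst G.pU G.pU = pullback.fst (pullback.snd G.pU G.pU) (pullback.fst G.pU G.pU) ≫ pullback.fst G.pU G.pU) (h1 : pr02 ≫ pullback.snd G.pU G.pU = pullback.snd (pullback.snd G.pU G.pU) (pullback.fst G.pU G.pU) ≫ pullback.snd G.pU G.pU) (p : ↑(pullback (pullback.snd G.pU G.pU) (pullback.fst G.pU G.pU))) (h₁ : pullback.fst (pullback.snd G.pU G.pU) (pullback.fst G.pU G.pU) p ∈ closure (Set.range ⇑G.j)) (h₂ : pullback.snd (pullback.snd G.pU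 G.pU) (pullback.fst G.pU G.pU) p ∈ closure (Set.range ⇑G.j)) : pr02 p ∈ closure (Set.range ⇑G.j) := by
  have hp := Groth.Agent.Lib.R2H4.GrpdClosure.mem_closure_prod eU (pullback.snd G.pU G.pU)
    (pullback.fst G.pU G.pU) (Set.range G.j) (Set.range G.j) p h₁ h₂
  have h3 : pr02 p ∈ pr02 '' closure
      (pullback.fst (pullback.snd G.pU G.pU) (pullback.fst G.pU G.pU) ⁻¹' Set.range G.j ∩
      pullback.snd (pullback.snd G.pU G.pU) (pullback.fst G.pU G.pU) ⁻¹' Set.range G.j) :=
    ⟨p, hp, rfl⟩
  refine closure_mono ?_ (image_closure_subset_closure_image pr02.continuous h3)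
  rintro _ ⟨q, ⟨⟨r, hr⟩, ⟨r', hr'⟩⟩, rfl⟩
  have hjs : G.j ≫ pullback.snd G.pU G.pU = G.s := pullback.lift_snd _ _ _
  have hjt : G.j ≫ pullback.fst G.pU G.pU = G.t := pullback.lift_fst _ _ _
  obtain ⟨q', hq'⟩ := Groth.Agent.Lib.R2H4.GrpdClosure.exists_preimage_map G.s G.t
    (pullback.snd G.pU G.pU) (pullback.fst G.pU G.pU) G.j G.j hjs hjt q r r' hr hr'
  have hid : pullback.lift (pullback.fst G.s G.t) (pullback.snd G.s G.t) pullback.condition =
      𝟙 (pullback G.s G.t) := by
    apply pullback.hom_ext
    · rw [pullback.lift_fst, Category.id_comp]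
    · rw [pullback.lift_snd, Category.id_comp]
  have hct : G.c ≫ G.t = pullback.fst G.s G.t ≫ G.t := by
    have := G.comp_t (pullback.fst G.s G.t) (pullback.snd G.s G.t) pullback.condition
    rwa [hid, Category.id_comp] at this
  have hcs : G.c ≫ G.s = pullback.snd G.s G.t ≫ G.s := by
    have := G.comp_s (pullback.fst G.s G.t) (pullback.snd G.s G.t) pullback.condition
    rwa [hid, Category.id_comp] at this
  have hkey : pullback.map G.s G.t (pullback.snd G.pU G.pU) (pullback.fst G.pU G.pU) G.j G.j (𝟙 _)
      (by rw [Category.comp_id, hjs]) (by rw [Category.comp_id, hjt]) ≫ pr02 = G.c ≫ G.j := by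
    apply pullback.hom_ext
    · rw [Category.assoc, h0, ← Category.assoc, pullback.lift_fst, Category.assoc, hjt,
        Category.assoc, hjt, hct]
    · rw [Category.assoc, h1, ← Category.assoc, pullback.lift_snd, Category.assoc, hjs,
        Category.assoc, hjs, hcs]
  refine ⟨G.c q', ?_⟩
  have h4 := congrArg (fun m => m.base q') hkey
  simp only [Scheme.Hom.comp_base, TopCat.comp_app] at h4
  rw [← hq']
  exact h4.symm

end Groth.Agent.S7463
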