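import Groth.Statements.S7483
import Mathlib
import Groth.Agent.Lib.H5bDDOrbB

set_option autoImplicit false
open CategoryTheory CategoryTheory.Limits AlgebraicGeometry
universe u
open Desc

namespace Groth.Agent.S7483

open Groth.Agent.Lib.H5bDDOrb Groth.Agent.Lib.H5bDDGen in
theorem orbit_over {X Y : Scheme.{u}} (p : X ⟶ Y) (D : Desc.SchDD p) (r : RR' p D) :
    p (D.obj.hom (act p D r)) = p (D.obj.hom (prV p D r)) := by
  have h := inv_cond p D
  have h2 := congrArg (fun f : RR' p D ⟶ Y => f r) h
  simp only [Scheme.Hom.comp_apply] at h2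
  exact h2.symm

/-- Suppose p : X -> Y is surjective and finite locally free (that is, finite, flat, and locally of
finite presentation), and consider a scheme V over X with the property that any finite collection of
points of V mapping to a common point of Y lies inside some affine open subset of V. Under these
assumptions, each descent datum on V relative to p is effective, meaning it is isomorphic to the
canonical descent datum attached to some scheme over Y. (Descent data are formulated in
functor-of-points form.) -/
theorem result {X Y : Scheme.{u}} (p : X ⟶ Y) [Surjective p] [IsFinite p] [Flat p] [LocallyOfFinitePresentation p] (D : Desc.SchDD p) (hV : ∀ (y : Y) (s : Finset ↑(D.obj.left)), (∀ v ∈ s, p (D.obj.hom v) = y) → ∃ U : D.obj.left.Opens, IsAffineOpen U ∧ ∀ v ∈ s, v ∈ U) : ∃ W : Over Y, Nonempty ((Desc.toDD p).obj W ≅ D) := by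
  classical
  apply Groth.Agent.Lib.H5bDDOrb.effective_of_orbit_affine p D
  intro v
  have hfin : ((Groth.Agent.Lib.H5bDDGen.prV p D) ⁻¹' {v}).Finite :=
    Scheme.Hom.finite_preimage_singleton _ v
  have hfin2 := hfin.image (Groth.Agent.Lib.H5bDDGen.act p D)
  obtain ⟨U, hU, hsU⟩ := hV (p (D.obj.hom v)) hfin2.toFinset (by
    intro v' hv'
    rw [Set.Finite.mem_toFinset] at hv'
    obtain ⟨r, hr, rfl⟩ := hv'
    rw [orbit_over p D r]
    have : Groth.Agent.Lib.H5bDDGen.prV p D r = v := hr
    rw [this])
  refine ⟨U, hU, fun r hr => hsU _ ?_⟩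
  rw [Set.Finite.mem_toFinset]
  exact ⟨r, hr, rfl⟩

end Groth.Agent.S7483
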