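import Groth.Statements.S7484
import Mathlib
import Groth.Agent.Lib.H5bDDOrbB
import Groth.Agent.Lib.H5bDDOrbC

set_option autoImplicit false
open CategoryTheory CategoryTheory.Limits AlgebraicGeometry
universe u
open Desc

namespace Groth.Agent.S7484

open Groth.Agent.Lib.H5bDDOrb Groth.Agent.Lib.H5bDDGen in
theorem orbit_over {X Y : Scheme.{u}} (p : X ⟶ Y) (D : Desc.SchDD p) (r : RR' p D) :
    p (D.obj.hom (act p D r)) = p (D.obj.hom (prV p D r)) := by
  have h := inv_cond p D
  have h2 := congrArg (fun f : RR' p D ⟶ Y => f r) h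
  simp only [Scheme.Hom.comp_apply] at h2
  exact h2.symm

/-- Let p : X -> Y be a surjective finite locally free morphism and d a positive integer such that for
every algebraically closed field k and every k-point of Y there are at most d k-points of X over it.
Let V be a scheme over X such that any d points of V (not necessarily distinct) lying over one point
of Y are contained in an affine open of V. Then every descent datum on V relative to p is effective.
(Descent data are taken in functor-of-points form.) -/
theorem result {X Y : Scheme.{u}} (p : X ⟶ Y) [Surjective p] [IsFinite p] [Flat p] [LocallyOfFinitePresentation p] (d : ℕ) (hd : 0 < d) (hfib : ∀ (k : Type u) [Field k] [IsAlgClosed k] (y : Spec (CommRingCat.of k) ⟶ Y), Set.encard {x : Spec (CommRingCat.of k) ⟶ X | x ≫ p = y} ≤ d) (D : Desc.SchDD p) (hV : ∀ (y : Y) (v : Fin d → ↑(D.obj.left)), (∀ i, p (D.obj.hom (v i)) = y) → ∃ U : D.obj.left.Opens, IsAffineOpen U ∧ ∀ i, v i ∈ U) : ∃ W : Over Y, Nonempty ((Desc.toDD p).obj W ≅ D) := by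
  classical
  apply Groth.Agent.Lib.H5bDDOrb.effective_of_orbit_affine p D
  intro v
  obtain ⟨w, hw1, hw2⟩ := Groth.Agent.Lib.H5bDDOrb.exists_fin_cover_orbit p D d hfib v
  obtain ⟨U, hU, hwU⟩ := hV (p (D.obj.hom v)) w (by
    intro i
    obtain ⟨r, hr, hr2⟩ := hw1 i
    rw [← hr2, orbit_over p D r, hr])
  refine ⟨U, hU, fun r hr => ?_⟩
  obtain ⟨i, hi⟩ := hw2 r hr
  rw [← hi]
  exact hwU i

end Groth.Agent.S7484
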