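import Groth.Statements.S7485
import Mathlib
import Groth.Agent.Lib.H5bDDOrbB
import Groth.Agent.Lib.Helper23SecTw9

set_option autoImplicit false
open CategoryTheory CategoryTheory.Limits AlgebraicGeometry
universe u
open Desc

namespace Groth.Agent.S7485

open Groth.Agent.Lib.H5bDDOrb Groth.Agent.Lib.H5bDDGen in
theorem orbit_over {X Y : Scheme.{u}} (p : X ⟶ Y) (D : Desc.SchDD p) (r : RR' p D) :
    p (D.obj.hom (act p D r)) = p (D.obj.hom (prV p D r)) := by
  have h := inv_cond p D
  have h2 := congrArg (fun f : RR' p D ⟶ Y => f r) h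
  simp only [Scheme.Hom.comp_apply] at h2
  exact h2.symm

/-- Let p : X -> Y be a surjective finite locally free morphism and V a scheme over X which has an ample
invertible module. Then every descent datum on V relative to p is effective. (Descent data are taken
in functor-of-points form.) -/
theorem result {X Y : Scheme.{u}} (p : X ⟶ Y) [Surjective p] [IsFinite p] [Flat p] [LocallyOfFinitePresentation p] (D : Desc.SchDD p) (L : D.obj.left.Modules) (hL : CohB1.IsAmple L) : ∃ W : Over Y, Nonempty ((Desc.toDD p).obj W ≅ D) := by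
  classical
  apply Groth.Agent.Lib.H5bDDOrb.effective_of_orbit_affine p D
  intro v
  have hfin : ((Groth.Agent.Lib.H5bDDGen.prV p D) ⁻¹' {v}).Finite :=
    Scheme.Hom.finite_preimage_singleton _ v
  have hfin2 := hfin.image (Groth.Agent.Lib.H5bDDGen.act p D)
  haveI : CompactSpace D.obj.left := hL.2.1
  obtain ⟨n, s, hZ, -, haff⟩ :=
    Groth.Agent.Lib.Helper23.SecTw.exists_affine_genLocus_of_finite L hL _ hfin2 ⊤
      (fun _ _ => trivial)
  exact ⟨_, haff, fun r hr => hZ ⟨r, hr, rfl⟩⟩

end Groth.Agent.S7485
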