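import Groth.Statements.S8269
import Mathlib
import Groth.Agent.S4353
import Groth.Agent.S4354
import Groth.Agent.S8270
import Groth.Agent.Lib.Helper13SymAlgLocal
import Groth.Agent.Lib.Helper13RelSpecLocal
import Groth.Agent.Lib.Helper10QAffRelSpec

set_option autoImplicit false
universe u
open CategoryTheory CategoryTheory.Limits AlgebraicGeometry Opposite TopologicalSpace
open EGA2

namespace Groth.Agent.S8269

/-- Let Y be either a quasi-compact separated scheme or a scheme with Noetherian underlying space, and X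
affine and of finite type over Y. Then X is Y-isomorphic to a closed subscheme of a vector bundle
V(E) with E a quasi-coherent O_Y-module of finite type: there are such an E, its symmetric algebra
A, and a closed immersion X → Spec(A) over Y. -/
theorem result {X Y : Scheme.{u}}
    (hY : (CompactSpace Y ∧ Y.IsSeparated) ∨ NoetherianSpace Y) (f : X ⟶ Y) [IsAffineHom f]
    [LocallyOfFiniteType f] :
    ∃ (E : Y.Modules) (_ : Coh.IsCoh E) (A : RelSpec.QCAlg Y) (j : E ⟶ A.toModule)
      (_ : RelSpec.IsSymAlg E A j) (i : X ⟶ A.spec), IsClosedImmersion i ∧ i ≫ A.π = f := by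
  classical
  have hqc : QuasiCompact f := inferInstance
  have hqs : QuasiSeparated f := inferInstance
  let B := RelSpec.QCAlg.directImage f
  have hB : ∀ U : Y.affineOpens, (B.str.app (op (U : Y.Opens))).hom.FiniteType := by
    intro U
    have h1 : IsAffineOpen (f ⁻¹ᵁ U.1) := U.2.preimage f
    have h2 := f.finiteType_appLE U.2 h1 le_rfl
    rw [Scheme.Hom.appLE_eq_app] at h2
    exact h2
  obtain ⟨E, j, -, hq, hft, hgen⟩ : ∃ (E : Y.Modules) (j : E ⟶ B.toModule), Mono j ∧ Coh.IsQCoh E ∧
      CohB1.IsFT E ∧ ∀ U : Y.affineOpens,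
        Subring.closure (Set.range (B.str.app (op (U : Y.Opens))).hom ∪
          Set.range (fun e : E.val.obj (op (U : Y.Opens)) ↦
            (show B.presheaf.obj (op (U : Y.Opens)) from (j.val.app (op (U : Y.Opens))).hom e))) = ⊤ := by
    rcases hY with ⟨h1, h2⟩ | h
    · exact Groth.Agent.S4354.result B hB
    · exact Groth.Agent.S4353.result B hB
  have : E.IsQuasicoherent := hq
  obtain ⟨A, j₀, hA⟩ := Groth.Agent.S8270.result E hq
  obtain ⟨ψ, hψ, -⟩ := hA B j
  have hψ' : j₀ ≫ RelSpec.QCAlg.Hom.toModuleMap ψ = j := hψ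
  -- the algebra map is surjective over affine opens
  have hsurj : ∀ (U : Y.Opens) (hU : IsAffineOpen U), Function.Surjective (ψ.hom.app (op U)).hom := by
    intro U hU
    have e1 := Groth.Agent.Helper13SymAlg.σ_comp E j₀ ψ U
    rw [hψ'] at e1
    have hs : Function.Surjective (Groth.Agent.Helper13SymAlg.σ E B j U) := by
      rw [← RingHom.range_eq_top, eq_top_iff, ← Subring.closure_eq (RingHom.range _), ← hgen ⟨U, hU⟩]
      apply Subring.closure_mono
      rintro x (⟨a, rfl⟩ | ⟨m, rfl⟩)
      · refine ⟨algebraMap _ _ a, ?_⟩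
        unfold Groth.Agent.Helper13SymAlg.σ
        rw [Groth.Agent.Helper13SymLoc.symLift_algebraMap]
      · refine ⟨SymmetricAlgebra.ι _ _ m, ?_⟩
        unfold Groth.Agent.Helper13SymAlg.σ
        rw [Groth.Agent.Helper13SymLoc.symLift_ι]
        rfl
    rw [e1, RingHom.coe_comp] at hs
    exact Function.Surjective.of_comp hs
  have hcl : IsClosedImmersion (RelSpec.QCAlg.specMap ψ) :=
    Groth.Agent.Helper13RelSpecLocal.specMap_of_target_local ψ @IsClosedImmersion
      fun U hU => IsClosedImmersion.spec_of_surjective _ (hsurj U hU)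
  -- the canonical morphism to the relative spectrum of the direct image is an isomorphism
  have hiso : IsIso (Groth.Agent.Lib.Helper10.QAffRelSpec.can f) := by
    have hγ : IsIso B.gammaMap := Groth.Agent.S8255.result B
    have hchart : ∀ U : Y.affineOpens, IsOpenImmersion ((f ⁻¹ᵁ U.1).ι ≫
        Groth.Agent.Lib.Helper10.QAffRelSpec.can f) ∧
        (B.π ⁻¹ᵁ U.1 : Set B.spec) ⊆ Set.range ((f ⁻¹ᵁ U.1).ι ≫
          Groth.Agent.Lib.Helper10.QAffRelSpec.can f) := by
      intro U
      rw [Groth.Agent.Lib.Helper10.QAffRelSpec.ι_can f U.1 U.2]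
      have : IsAffine (f ⁻¹ᵁ U.1).toScheme := U.2.preimage f
      have : IsIso (B.gammaMap.app (op U.1)) :=
        @NatIso.isIso_app_of_isIso _ _ _ _ _ _ _ hγ (op U.1)
      have h0 : IsIso (f ⁻¹ᵁ U.1).toSpecΓ := by
        unfold Scheme.Opens.toSpecΓ
        infer_instance
      have h1 : IsIso (Spec.map (B.gammaMap.app (op U.1))) := inferInstance
      have h2 : IsOpenImmersion (U.2.preimage B.π).fromSpec := inferInstance
      have h3 : IsOpenImmersion (Spec.map (B.gammaMap.app (op U.1)) ≫
          (U.2.preimage B.π).fromSpec) := inferInstance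
      have h4 : IsOpenImmersion (f ⁻¹ᵁ U.1).toSpecΓ := inferInstance
      refine ⟨MorphismProperty.comp_mem (W := @IsOpenImmersion) _ _ h4 h3, ?_⟩
      intro z hz
      have hz' : z ∈ Set.range (U.2.preimage B.π).fromSpec := by
        rw [IsAffineOpen.range_fromSpec]; exact hz
      obtain ⟨w, rfl⟩ := hz'
      have h5 : IsIso ((f ⁻¹ᵁ U.1).toSpecΓ ≫ Spec.map (B.gammaMap.app (op U.1))) :=
        @IsIso.comp_isIso _ _ _ _ _ _ _ h0 h1
      have hs1 : Function.Surjective ((f ⁻¹ᵁ U.1).toSpecΓ ≫ Spec.map (B.gammaMap.app (op U.1))) :=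
        Scheme.Hom.surjective _
      obtain ⟨v, rfl⟩ := hs1 w
      exact ⟨v, rfl⟩
    have hoi : IsOpenImmersion (Groth.Agent.Lib.Helper10.QAffRelSpec.can f) :=
      Groth.Agent.Lib.Helper10.QAffRelSpec.isOpenImmersion_of_local _ B.π f
        (Groth.Agent.Lib.Helper10.QAffRelSpec.can_π f) fun U => (hchart U).1
    have hsj : Function.Surjective (Groth.Agent.Lib.Helper10.QAffRelSpec.can f) := by
      intro z
      obtain ⟨_, ⟨W, hW, rfl⟩, hzW, -⟩ := Y.isBasis_affineOpens.exists_subset_of_mem_open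
        (Set.mem_univ (B.π z)) isOpen_univ
      obtain ⟨v, hv⟩ := (hchart ⟨W, hW⟩).2 hzW
      exact ⟨(f ⁻¹ᵁ W).ι v, by rw [← hv]; rfl⟩
    refine isIso_of_isOpenImmersion_of_opensRange_eq_top _ ?_
    rw [eq_top_iff]
    intro z _
    exact hsj z
  refine ⟨E, ⟨hq, hft⟩, A, j₀, hA, Groth.Agent.Lib.Helper10.QAffRelSpec.can f ≫ RelSpec.QCAlg.specMap ψ,
    inferInstance, ?_⟩
  rw [Category.assoc, RelSpec.QCAlg.specMap_π, Groth.Agent.Lib.Helper10.QAffRelSpec.can_π]

end Groth.Agent.S8269
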