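import Groth.Statements.S8351
import Groth.Agent.Lib.H6xNegVanD
import Groth.Agent.Lib.Helper17KInjD5
import Groth.Agent.Lib.Helper17KInjD3
import Groth.Agent.S12229
import Groth.Agent.S0931

set_option autoImplicit false
universe u
open CategoryTheory CategoryTheory.Limits TopologicalSpace
open CohCx

namespace Groth.Agent.S8351

/-- For abelian sheaves on topological spaces and a complex bounded below. Let f : X ⟶ Y be a continuous
map and K a bounded below complex of abelian sheaves on X. For every p, the p-th cohomology sheaf of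
the derived direct image R f_*(K) (bounded below right derived functor of f_*, computed with
injective resolutions) is isomorphic to the sheaf associated with the presheaf U ↦ H^p(f⁻¹(U), K) on
Y, where H^p(V, K) denotes hypercohomology (morphisms from the free abelian sheaf on V to K[p] in
the derived category). (The published statement is for modules over arbitrary ringed spaces,
complexes unbounded via Cartan-Eilenberg resolutions, and a canonical isomorphism; here only the
existence of an isomorphism is asserted, and the derived categories are assumed to exist with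
morphism types in the universe of X and Y.) -/
theorem result {X Y : TopCat.{u}} (f : X ⟶ Y)
    [HasDerivedCategory.{u} (CohTop.Ab X)] [HasDerivedCategory.{u} (CohTop.Ab Y)]
    (K : CochainComplex.Plus (CohTop.Ab X)) (p : ℤ) :
    Nonempty ((DerivedCategory.Plus.homologyFunctor (CohTop.Ab Y) p).obj
        ((CohTop.push f).rightDerivedFunctorPlus.obj
          (DerivedCategory.Plus.Qh.obj ((HomotopyCategory.Plus.quotient (CohTop.Ab X)).obj K))) ≅
      (presheafToSheaf (Opens.grothendieckTopology Y) AddCommGrpCat.{u}).obj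
        ((Opens.map f).op ⋙ CohCx.HDUPresheaf (DerivedCategory.Q.obj K.obj) p)) := by
  have hder : (Groth.Agent.Lib.Helper17.KInj.fibLocalizerMorphism (CohTop.Ab X)).Derives
      ((CohTop.push f).mapHomologicalComplex (ComplexShape.up ℤ) ⋙
        (DerivedCategory.Q : _ ⥤ DerivedCategory (CohTop.Ab Y))) :=
    Groth.Agent.Lib.Helper17.KInj.fibLocalizerMorphism_derives _
      (Groth.Agent.Lib.Helper17.KInj.isInvertedBy_mapHomologicalComplex_comp_Q (CohTop.push f))
  haveI := hder.hasPointwiseRightDerivedFunctor
  let RG : DerivedCategory (CohTop.Ab X) ⥤ DerivedCategory (CohTop.Ab Y) :=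
    ((CohTop.push f).mapHomologicalComplex (ComplexShape.up ℤ) ⋙
      (DerivedCategory.Q : _ ⥤ DerivedCategory (CohTop.Ab Y))).totalRightDerived
        DerivedCategory.Q (HomologicalComplex.quasiIso (CohTop.Ab X) (ComplexShape.up ℤ))
  let β : (CohTop.push f).mapHomologicalComplex (ComplexShape.up ℤ) ⋙ DerivedCategory.Q ⟶
      DerivedCategory.Q ⋙ RG := ((CohTop.push f).mapHomologicalComplex (ComplexShape.up ℤ) ⋙
      (DerivedCategory.Q : _ ⥤ DerivedCategory (CohTop.Ab Y))).totalRightDerivedUnit
        DerivedCategory.Q (HomologicalComplex.quasiIso (CohTop.Ab X) (ComplexShape.up ℤ))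
  let adjD := Groth.Agent.Lib.Helper17.KInj.derivedAdjunction (CohTop.pull f) (CohTop.push f)
      (Groth.Agent.Lib.H6xNegVan.adjTop f) RG β
  letI : RG.CommShift ℤ := adjD.rightAdjointCommShift ℤ
  -- injective resolution of `K`
  obtain ⟨n, hn⟩ := K.property
  haveI := hn
  obtain ⟨J, hJ, i, hi⟩ := CochainComplex.Plus.exists_quasiIso_injective K n
  haveI : QuasiIso i.hom := hi
  let J' : CochainComplex.Plus (CohTop.Ab X) := (InjectiveObject.ι _).mapCochainComplexPlus.obj J
  have hJ' : J'.obj.IsStrictlyGE n := by
    change CochainComplex.IsStrictlyGE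
      (((InjectiveObject.ι (CohTop.Ab X)).mapHomologicalComplex (ComplexShape.up ℤ)).obj J.obj) n
    infer_instance
  have hinj : ∀ k, Injective (J'.obj.X k) := fun k =>
    inferInstanceAs (Injective ((InjectiveObject.ι (CohTop.Ab X)).obj (J.obj.X k)))
  haveI : J'.obj.IsKInjective := CochainComplex.isKInjective_of_injective J'.obj n
  -- first chain
  haveI h1 := Groth.Agent.S12229.isIso_Qh_map i hi
  haveI h2 : IsIso (Groth.Agent.S12229.τ (CohTop.push f) ⟨J'.obj, n, hJ'⟩) :=
    Groth.Agent.S12229.isIso_τ (CohTop.push f) J'.obj n hJ' hinj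
  let e1 : DerivedCategory.Plus.ι.obj ((CohTop.push f).rightDerivedFunctorPlus.obj
        (DerivedCategory.Plus.Qh.obj ((HomotopyCategory.Plus.quotient (CohTop.Ab X)).obj K))) ≅
      DerivedCategory.Q.obj (((CohTop.push f).mapHomologicalComplex (ComplexShape.up ℤ)).obj
        J'.obj) :=
    DerivedCategory.Plus.ι.mapIso ((CohTop.push f).rightDerivedFunctorPlus.mapIso
      (asIso (DerivedCategory.Plus.Qh.map ((HomotopyCategory.Plus.quotient (CohTop.Ab X)).map i)))) ≪≫
      (asIso (Groth.Agent.S12229.τ (CohTop.push f) ⟨J'.obj, n, hJ'⟩)).symm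
  -- second chain
  haveI h3 : IsIso (β.app J'.obj) :=
    Groth.Agent.Lib.Helper17.KInj.isIso_app_of_isKInjective.{u} (CohTop.push f) RG β J'.obj
  haveI h4 : IsIso ((DerivedCategory.Q : _ ⥤ DerivedCategory (CohTop.Ab X)).map i.hom) :=
    inferInstance
  let e2 : RG.obj (DerivedCategory.Q.obj K.obj) ≅
      DerivedCategory.Q.obj (((CohTop.push f).mapHomologicalComplex (ComplexShape.up ℤ)).obj
        J'.obj) :=
    RG.mapIso (asIso (DerivedCategory.Q.map i.hom)) ≪≫ (asIso (β.app J'.obj)).symm
  obtain ⟨e3⟩ := Groth.Agent.S0931.result (RG.obj (DerivedCategory.Q.obj K.obj)) p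
  exact ⟨(DerivedCategory.homologyFunctor (CohTop.Ab Y) p).mapIso (e1 ≪≫ e2.symm) ≪≫ e3.symm ≪≫
    (presheafToSheaf (Opens.grothendieckTopology Y) AddCommGrpCat.{u}).mapIso
      (Groth.Agent.Lib.H6xNegVan.presheafIso f RG adjD (DerivedCategory.Q.obj K.obj) p)⟩

end Groth.Agent.S8351
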