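import Groth.Statements.S8359
import Groth.Agent.Lib.R2H3DiagIso

set_option autoImplicit false
set_option linter.style.haveILetI false
set_option linter.unusedVariables false
universe u
open CategoryTheory MonObj AlgebraicGeometry
open Red

namespace Groth.Agent.S8359

open Groth.Agent.Lib.Helper27.GaGm Groth.Agent.Lib.H6xDSPts Groth.Agent.Lib.R2H3.MultAct
  Groth.Agent.Lib.R2H3.DiagIso CategoryTheory.Limits

/-- the ideal of `Spec (R/I) ⟶ Spec R` over the top affine open is nilpotent when `I` is. -/
lemma isNilpotent_ker (R : Type u) [CommRing R] (I : Ideal R) (hI : IsNilpotent I) :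
    IsNilpotent ((Spec.map (CommRingCat.ofHom (Ideal.Quotient.mk I))).ker.ideal
      ⟨⊤, isAffineOpen_top (Spec (CommRingCat.of R))⟩) := by
  obtain ⟨n, hn⟩ := hI
  refine ⟨n, ?_⟩
  have hle : (Spec.map (CommRingCat.ofHom (Ideal.Quotient.mk I))).ker.ideal
      ⟨⊤, isAffineOpen_top (Spec (CommRingCat.of R))⟩ ≤
      I.map (Scheme.ΓSpecIso (CommRingCat.of R)).inv.hom := by
    intro a ha
    rw [Scheme.Hom.ker_apply, RingHom.mem_ker] at ha
    obtain ⟨r, rfl⟩ : ∃ r : R, (Scheme.ΓSpecIso (CommRingCat.of R)).inv r = a :=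
      (ConcreteCategory.bijective_of_isIso (Scheme.ΓSpecIso (CommRingCat.of R)).inv).2 a
    have hnat := Scheme.ΓSpecIso_inv_naturality (CommRingCat.ofHom (Ideal.Quotient.mk I))
    have h2 := congrArg (fun k => k.hom r) hnat
    simp only [CommRingCat.hom_comp, RingHom.comp_apply, CommRingCat.hom_ofHom] at h2
    have h3 : (Scheme.ΓSpecIso (CommRingCat.of (R ⧸ I))).inv (Ideal.Quotient.mk I r) = 0 := by
      erw [h2]
      exact ha
    have h4 : Ideal.Quotient.mk I r = 0 := by
      apply (ConcreteCategory.bijective_of_isIso (Scheme.ΓSpecIso (CommRingCat.of (R ⧸ I))).inv).1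
      rw [h3]
      exact (map_zero (Scheme.ΓSpecIso (CommRingCat.of (R ⧸ I))).inv.hom).symm
    exact Ideal.mem_map_of_mem _ (Ideal.Quotient.eq_zero_iff_mem.mp h4)
  have h5 := Ideal.pow_right_mono hle n
  rw [← Ideal.map_pow, hn, Ideal.zero_eq_bot, Ideal.map_bot] at h5
  exact le_bot_iff.mp h5

/-- Over an affine base S = Spec R with S₀ = Spec (R/I) for a nilpotent ideal I: for a commutative group
M, the diagonalisable group D(M) = Spec R[M] over S, a group scheme X locally of finite presentation
over S and a homomorphism f from D(M) to X, if the base change of f to S₀ is the unit homomorphism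
then f is the unit homomorphism. (The published statement is over an arbitrary base scheme with S₀
defined by a nilpotent quasi-coherent ideal; this row is its case of an affine base.) -/
theorem result (R : Type u) [CommRing R] (I : Ideal R) (hI : IsNilpotent I)
    (M : Type) [AddCommGroup M] (X : Over (Spec (CommRingCat.of R))) [GrpObj X]
    [LocallyOfFinitePresentation X.hom] (f : Red.diag R M ⟶ X) [IsMonHom f]
    (h : (Over.pullback (Spec.map (CommRingCat.ofHom (Ideal.Quotient.mk I)))).map f = 1) :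
    f = 1 := by
  obtain ⟨q, hq⟩ : ∃ q : Spec (CommRingCat.of (R ⧸ I)) ⟶ Spec (CommRingCat.of R),
    q = Spec.map (CommRingCat.ofHom (Ideal.Quotient.mk I)) := ⟨_, rfl⟩
  haveI : IsClosedImmersion q := by
    rw [hq]
    exact IsClosedImmersion.spec_of_surjective _ Ideal.Quotient.mk_surjective
  rw [← hq] at h
  have hnil : ∀ x : Spec (CommRingCat.of R), ∃ U : (Spec (CommRingCat.of R)).affineOpens,
      x ∈ (U : (Spec (CommRingCat.of R)).Opens) ∧ IsNilpotent (q.ker.ideal U) := by
    intro x
    refine ⟨⟨⊤, isAffineOpen_top _⟩, trivial, ?_⟩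
    rw [hq]
    exact isNilpotent_ker R I hI
  -- the homomorphism from `D_{Spec R}(M)`
  obtain ⟨f', hf'⟩ : ∃ f' : Red.DS (Spec (CommRingCat.of R)) M ⟶ X, f' = toDiag R M ≫ f :=
    ⟨_, rfl⟩
  haveI : IsMonHom f' := by rw [hf']; infer_instance
  -- the action by left translations
  let P : PtAction (Red.DS (Spec (CommRingCat.of R)) M) X :=
    { smul := fun g x => (g ≫ f') * x
      one_smul := fun x => by rw [MonObj.one_comp, _root_.one_mul]
      mul_smul := fun g h x => by rw [MonObj.mul_comp _ _ f', _root_.mul_assoc]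
      comp_smul := fun k g x => by rw [MonObj.comp_mul, Category.assoc] }
  have h0w : ∀ (Y : Over (Spec (CommRingCat.of R))),
      (∃ p : Y.left ⟶ Spec (CommRingCat.of (R ⧸ I)), p ≫ q = Y.hom ≫ 𝟙 _) →
      ∀ (g : Y ⟶ Red.DS (Spec (CommRingCat.of R)) M) (x : Y ⟶ X), P.smul g x = x := by
    rintro Y ⟨p, hp⟩ g x
    rw [Category.comp_id] at hp
    suffices hg : g ≫ f' = 1 by
      change (g ≫ f') * x = x
      rw [hg, _root_.one_mul]
    obtain ⟨k, hk⟩ : ∃ k : (Over.map q).obj (Over.mk p) ⟶ Y, k.left = 𝟙 _ :=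
      ⟨Over.homMk (𝟙 _) (by simpa using hp.symm), rfl⟩
    have h1 : (k ≫ g ≫ toDiag R M) ≫ f = 1 := by
      have h2 := congrArg (fun t => (adjE q (Red.diag R M) (Over.mk p)).symm
        (k ≫ g ≫ toDiag R M) ≫ t) h
      rw [MonObj.comp_one] at h2
      have h3 := congrArg (adjE q X (Over.mk p)) h2
      rw [adjE_one] at h3
      rw [← h3]
      unfold adjE
      rw [Adjunction.homEquiv_naturality_right_symm, Equiv.symm_symm, Equiv.symm_apply_apply]
    have h4 : k ≫ (g ≫ f') = k ≫ 1 := by
      rw [hf', MonObj.comp_one, ← h1]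
      simp only [Category.assoc]
    apply Over.OverMorphism.ext
    have h5 := congrArg (fun t => t.left) h4
    simp only [Over.comp_left] at h5
    rw [hk, Category.id_comp, Category.id_comp] at h5
    exact h5
  have key := PtAction.trivial_of_diag q hnil (𝟙 _) P h0w _ (𝟙 _) 1
  change (𝟙 _ ≫ f') * 1 = 1 at key
  rw [Category.id_comp, _root_.mul_one] at key
  have h6 : f = ofDiag R M ≫ toDiag R M ≫ f := by
    rw [← Category.assoc, ofDiag_toDiag, Category.id_comp]
  rw [h6, ← hf', key, MonObj.comp_one]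

end Groth.Agent.S8359
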