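import Groth.Statements.S8363
import Mathlib

set_option autoImplicit false
universe u
open CategoryTheory MonObj AlgebraicGeometry
open SGA3

namespace Groth.Agent.S8363

namespace Aux
open Limits CartesianMonoidalCategory

theorem ring_lemma {R A B : Type u} [CommRing R] [CommRing A] [CommRing B] (J : Ideal R)
    (hJ : J * J = ⊥) (ρA : R →+* A) (ρB : R →+* B) (φ : A →+* A) (gm ep : A →+* B)
    (hgm : gm.comp ρA = ρB) (hep : ep.comp ρA = ρB)
    (h1 : ∀ a, φ a - a ∈ J.map ρA) (h2 : ep.comp φ = ep) (h3 : ∀ a, gm a - ep a ∈ J.map ρB) :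
    gm.comp φ = gm := by
  have hJB : J.map ρB * J.map ρB = ⊥ := by rw [← Ideal.map_mul, hJ, Ideal.map_bot]
  have hepmem : ∀ x ∈ J.map ρA, ep x ∈ J.map ρB := by
    intro x hx
    have : ep x ∈ (J.map ρA).map ep := Ideal.mem_map_of_mem _ hx
    rwa [Ideal.map_map, hep] at this
  have hkey : ∀ x ∈ J.map ρA, gm x = ep x := by
    intro x hx
    induction hx using Submodule.span_induction with
    | mem x hx =>
      obtain ⟨j, _, rfl⟩ := hx
      have e1 := congrArg (fun f => f j) hgm
      have e2 := congrArg (fun f => f j) hep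
      simp only [RingHom.coe_comp, Function.comp_apply] at e1 e2
      rw [e1, e2]
    | zero => simp
    | add x y _ _ hx hy => rw [map_add, map_add, hx, hy]
    | smul a x hx ih =>
      rw [smul_eq_mul, map_mul, map_mul, ih]
      have h4 : (gm a - ep a) * ep x ∈ J.map ρB * J.map ρB :=
        Ideal.mul_mem_mul (h3 a) (hepmem x hx)
      rw [hJB, Ideal.mem_bot] at h4
      linear_combination h4
  ext a
  simp only [RingHom.coe_comp, Function.comp_apply]
  have e1 := hkey _ (h1 a)
  have e2 := congrArg (fun f => f a) h2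
  simp only [RingHom.coe_comp, Function.comp_apply] at e2
  rw [map_sub, map_sub, e2] at e1
  linear_combination e1

open PrimeSpectrum in
theorem surjective_SpecMap_mk {R : Type u} [CommRing R] (J : Ideal R) (hJ : J * J = ⊥) :
    Surjective (Spec.map (CommRingCat.ofHom (Ideal.Quotient.mk J))) := by
  constructor
  intro x
  let x' : PrimeSpectrum R := x
  have h1 : Set.range (PrimeSpectrum.comap (Ideal.Quotient.mk J)) =
      PrimeSpectrum.zeroLocus (RingHom.ker (Ideal.Quotient.mk J)) :=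
    range_comap_of_surjective _ _ Ideal.Quotient.mk_surjective
  have h2 : x' ∈ PrimeSpectrum.zeroLocus (RingHom.ker (Ideal.Quotient.mk J) : Set R) := by
    rw [Ideal.mk_ker, PrimeSpectrum.mem_zeroLocus]
    intro j hj
    have : j * j ∈ J * J := Ideal.mul_mem_mul hj hj
    rw [hJ, Ideal.mem_bot] at this
    have h3 : j * j ∈ x'.asIdeal := by rw [this]; exact zero_mem _
    exact (x'.isPrime.mem_or_mem h3).elim id id
  rw [← h1] at h2
  obtain ⟨y, hy⟩ := h2
  exact ⟨y, hy⟩

/-- two morphisms from `Spec B` into `Spec A` over `Spec R` that agree after pulling back along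
`Spec (R/J) → Spec R` are congruent modulo `J B`. -/
theorem congr_mod {R : Type u} [CommRing R] (J : Ideal R) {Z Y : Scheme.{u}}
    (pY : Y ⟶ Spec (.of R)) (g e : Y ⟶ Z)
    (h3 : pullback.fst pY (Spec.map (CommRingCat.ofHom (Ideal.Quotient.mk J))) ≫ g =
      pullback.fst pY (Spec.map (CommRingCat.ofHom (Ideal.Quotient.mk J))) ≫ e)
    (A B : CommRingCat.{u}) (jA : Spec A ⟶ Z) [Mono jA] (v : Spec B ⟶ Y)
    (ρB : CommRingCat.of R ⟶ B) (hρB : Spec.map ρB = v ≫ pY)
    (gm ep : A ⟶ B) (hgm : Spec.map gm ≫ jA = v ≫ g) (hep : Spec.map ep ≫ jA = v ≫ e) (a : A) :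
    gm.hom a - ep.hom a ∈ J.map ρB.hom := by
  set JB := J.map ρB.hom with hJB
  let q : B ⟶ CommRingCat.of (B ⧸ JB) := CommRingCat.ofHom (Ideal.Quotient.mk JB)
  let ρ' : CommRingCat.of (R ⧸ J) ⟶ CommRingCat.of (B ⧸ JB) :=
    CommRingCat.ofHom (Ideal.quotientMap JB ρB.hom Ideal.le_comap_map)
  have hcomm : CommRingCat.ofHom (Ideal.Quotient.mk J) ≫ ρ' = ρB ≫ q := by
    ext r
    simp [ρ', q]
  have hq : Spec.map q ≫ Spec.map gm = Spec.map q ≫ Spec.map ep := by
    let l : Spec (CommRingCat.of (B ⧸ JB)) ⟶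
        pullback pY (Spec.map (CommRingCat.ofHom (Ideal.Quotient.mk J))) :=
      pullback.lift (Spec.map q ≫ v) (Spec.map ρ') (by
        rw [Category.assoc, ← hρB, ← Spec.map_comp, ← Spec.map_comp, hcomm])
    have hl : l ≫ pullback.fst pY _ = Spec.map q ≫ v := pullback.lift_fst _ _ _
    rw [← cancel_mono jA, Category.assoc, Category.assoc, hgm, hep, ← Category.assoc,
      ← Category.assoc, ← hl, Category.assoc, Category.assoc, h3]
  have hq' : gm ≫ q = ep ≫ q := by
    apply Spec.map_injective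
    rw [Spec.map_comp, Spec.map_comp, hq]
  have := congrArg (fun f => f.hom a) hq'
  simp only [CommRingCat.hom_comp, RingHom.coe_comp, Function.comp_apply, q,
    CommRingCat.hom_ofHom] at this
  exact Ideal.Quotient.eq.mp this

theorem chart {R : Type u} [CommRing R] (J : Ideal R) (hJ : J * J = ⊥) {Z Y : Scheme.{u}}
    (pZ : Z ⟶ Spec (.of R)) (pY : Y ⟶ Spec (.of R)) (ψ : Z ⟶ Z) (hψ : ψ ≫ pZ = pZ)
    (e g : Y ⟶ Z) (he : e ≫ pZ = pY) (hg : g ≫ pZ = pY)
    (h1 : pullback.fst pZ (Spec.map (CommRingCat.ofHom (Ideal.Quotient.mk J))) ≫ ψ =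
      pullback.fst pZ (Spec.map (CommRingCat.ofHom (Ideal.Quotient.mk J))))
    (h2 : e ≫ ψ = e)
    (h3 : pullback.fst pY (Spec.map (CommRingCat.ofHom (Ideal.Quotient.mk J))) ≫ g =
      pullback.fst pY (Spec.map (CommRingCat.ofHom (Ideal.Quotient.mk J))) ≫ e)
    (A B : CommRingCat.{u}) (jA : Spec A ⟶ Z) [IsOpenImmersion jA] (v : Spec B ⟶ Y)
    (ψa : Spec A ⟶ Spec A) (hψa : ψa ≫ jA = jA ≫ ψ)
    (gq eq' : Spec B ⟶ Spec A) (hgq : gq ≫ jA = v ≫ g) (heq' : eq' ≫ jA = v ≫ e) :
    gq ≫ ψa = gq := by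
  obtain ⟨ρA, hρA⟩ := Spec.map_surjective (jA ≫ pZ)
  obtain ⟨ρB, hρB⟩ := Spec.map_surjective (v ≫ pY)
  obtain ⟨φ, rfl⟩ := Spec.map_surjective ψa
  obtain ⟨gm, rfl⟩ := Spec.map_surjective gq
  obtain ⟨ep, rfl⟩ := Spec.map_surjective eq'
  have hgmρ : ρA ≫ gm = ρB := by
    apply Spec.map_injective
    rw [Spec.map_comp, hρA, ← Category.assoc, hgq, Category.assoc, hg, hρB]
  have hepρ : ρA ≫ ep = ρB := by
    apply Spec.map_injective
    rw [Spec.map_comp, hρA, ← Category.assoc, heq', Category.assoc, he, hρB]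
  have hφρ : ρA ≫ φ = ρA := by
    apply Spec.map_injective
    rw [Spec.map_comp, hρA, ← Category.assoc, hψa, Category.assoc, hψ]
  have h2' : φ ≫ ep = ep := by
    apply Spec.map_injective
    rw [Spec.map_comp, ← cancel_mono jA, Category.assoc, hψa, ← Category.assoc, heq',
      Category.assoc, h2]
  have h1' : ∀ a, φ.hom a - a ∈ J.map ρA.hom := by
    intro a
    have := congr_mod J pZ ψ (𝟙 Z) (by rw [h1, Category.comp_id]) A A jA jA ρA hρA φ (𝟙 A)
      (by rw [hψa]) (by simp) a
    simpa using this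
  have h3' : ∀ a, gm.hom a - ep.hom a ∈ J.map ρB.hom := fun a =>
    congr_mod J pY g e h3 A B jA v ρB hρB gm ep hgq heq' a
  have key := ring_lemma J hJ ρA.hom ρB.hom φ.hom gm.hom ep.hom
    (by rw [← CommRingCat.hom_comp, hgmρ]) (by rw [← CommRingCat.hom_comp, hepρ]) h1'
    (by rw [← CommRingCat.hom_comp, h2']) h3'
  rw [← Spec.map_comp]
  congr 1
  ext a
  exact congrArg (fun f => f a) key

theorem key {R : Type u} [CommRing R] (J : Ideal R) (hJ : J * J = ⊥) {Z Y : Scheme.{u}}
    (pZ : Z ⟶ Spec (.of R)) (pY : Y ⟶ Spec (.of R)) (ψ : Z ⟶ Z) (hψ : ψ ≫ pZ = pZ)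
    (e g : Y ⟶ Z) (he : e ≫ pZ = pY) (hg : g ≫ pZ = pY)
    (h1 : pullback.fst pZ (Spec.map (CommRingCat.ofHom (Ideal.Quotient.mk J))) ≫ ψ =
      pullback.fst pZ (Spec.map (CommRingCat.ofHom (Ideal.Quotient.mk J))))
    (h2 : e ≫ ψ = e)
    (h3 : pullback.fst pY (Spec.map (CommRingCat.ofHom (Ideal.Quotient.mk J))) ≫ g =
      pullback.fst pY (Spec.map (CommRingCat.ofHom (Ideal.Quotient.mk J))) ≫ e) :
    g ≫ ψ = g := by
  set f₀ := Spec.map (CommRingCat.ofHom (Ideal.Quotient.mk J)) with hf₀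
  haveI : Surjective f₀ := surjective_SpecMap_mk J hJ
  have hid : ∀ z : Z, ψ z = z := by
    intro z
    obtain ⟨w, rfl⟩ := (pullback.fst pZ f₀).surjective z
    rw [← Scheme.Hom.comp_apply, h1]
  have hge : ∀ y : Y, g y = e y := by
    intro y
    obtain ⟨w, rfl⟩ := (pullback.fst pY f₀).surjective y
    rw [← Scheme.Hom.comp_apply, ← Scheme.Hom.comp_apply, h3]
  apply Scheme.hom_ext_of_forall
  intro y
  let 𝒰 := Z.affineOpenCover
  obtain ⟨a, za, hza⟩ := 𝒰.openCover.exists_eq (g y)
  let jA : Spec (𝒰.X a) ⟶ Z := 𝒰.f a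
  have hy : y ∈ g ⁻¹ᵁ jA.opensRange := ⟨za, hza⟩
  obtain ⟨_, ⟨V, hV, rfl⟩, hyV, hVU⟩ :=
    Y.isBasis_affineOpens.exists_subset_of_mem_open hy (g ⁻¹ᵁ jA.opensRange).2
  refine ⟨V, hyV, ?_⟩
  have hV' : IsAffineOpen V := hV
  let v : Spec Γ(Y, V) ⟶ Y := hV'.fromSpec
  have hrv : ∀ w, v w ∈ V := by
    intro w
    have : v w ∈ Set.range v := ⟨w, rfl⟩
    rw [hV'.range_fromSpec] at this
    exact this
  have hrg : Set.range (v ≫ g) ⊆ Set.range jA := by
    rintro _ ⟨w, rfl⟩
    rw [Scheme.Hom.comp_apply]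
    exact hVU (hrv w)
  have hre : Set.range (v ≫ e) ⊆ Set.range jA := by
    rintro _ ⟨w, rfl⟩
    rw [Scheme.Hom.comp_apply, ← hge]
    exact hVU (hrv w)
  have hrψ : Set.range (jA ≫ ψ) ⊆ Set.range jA := by
    rintro _ ⟨w, rfl⟩
    rw [Scheme.Hom.comp_apply, hid]
    exact ⟨w, rfl⟩
  let gq := IsOpenImmersion.lift jA (v ≫ g) hrg
  let eq' := IsOpenImmersion.lift jA (v ≫ e) hre
  let ψa := IsOpenImmersion.lift jA (jA ≫ ψ) hrψ
  have hgq : gq ≫ jA = v ≫ g := IsOpenImmersion.lift_fac _ _ _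
  have heq' : eq' ≫ jA = v ≫ e := IsOpenImmersion.lift_fac _ _ _
  have hψa : ψa ≫ jA = jA ≫ ψ := IsOpenImmersion.lift_fac _ _ _
  have hc := chart J hJ pZ pY ψ hψ e g he hg h1 h2 h3 (𝒰.X a) Γ(Y, V) jA v ψa hψa gq eq' hgq heq'
  have hfin : v ≫ g ≫ ψ = v ≫ g := by
    rw [← Category.assoc, ← hgq, Category.assoc, ← hψa, ← Category.assoc, hc]
  rw [← hV'.isoSpec_hom_fromSpec, Category.assoc, Category.assoc]
  exact congrArg (fun m => hV'.isoSpec.hom ≫ m) hfin

end Aux

/-- The kernel of the reduction map is commutative: over an affine base S = Spec R with S₀ = Spec (R/J)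
for an ideal J of square zero: for a group scheme X over S and an arbitrary S-scheme Y, the kernel
of the reduction map from X(Y) to X(Y ×_S S₀) = X₀(Y₀) is a commutative group: two Y-valued points
of X whose base changes to S₀ are the unit commute. (The published statement identifies this kernel,
as a group functor, with the commutative functor of homomorphisms from the pulled-back invariant
differentials of X₀ to J·O_Y, over an arbitrary base with a quasi-coherent ideal of square zero;
this row states only the resulting commutativity, over an affine base.) -/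
theorem result (R : Type u) [CommRing R] (J : Ideal R) (hJ : J * J = ⊥)
    (X : Over (Spec (CommRingCat.of R))) [GrpObj X] (Y : Over (Spec (CommRingCat.of R))) (g g' : Y ⟶ X)
    (hg : (Over.pullback (Spec.map (CommRingCat.ofHom (Ideal.Quotient.mk J)))).map g = 1)
    (hg' : (Over.pullback (Spec.map (CommRingCat.ofHom (Ideal.Quotient.mk J)))).map g' = 1) :
    g * g' = g' * g := by
  set i₀ := Spec.map (CommRingCat.ofHom (Ideal.Quotient.mk J)) with hi₀
  -- the counit
  let k : ∀ W : Over (Spec (CommRingCat.of R)),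
      (Over.map i₀).obj ((Over.pullback i₀).obj W) ⟶ W := fun W => (Over.mapPullbackAdj i₀).counit.app W
  have hkleft : ∀ W, (k W).left = Limits.pullback.fst W.hom i₀ := by
    intro W
    simp [k]
  have hknat : ∀ {W W' : Over (Spec (CommRingCat.of R))} (m : W ⟶ W'),
      (Over.map i₀).map ((Over.pullback i₀).map m) ≫ k W' = k W ≫ m := fun m =>
    (Over.mapPullbackAdj i₀).counit.naturality m
  -- points trivial on the reduction
  have hred : ∀ m : Y ⟶ X, (Over.pullback i₀).map m = 1 → k Y ≫ m = 1 := by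
    intro m hm
    have h1 : (Over.pullback i₀).map m = (Over.pullback i₀).map (1 : Y ⟶ X) := by
      rw [hm, Functor.map_one]
    rw [← hknat, h1, hknat, MonObj.comp_one]
  have hkg := hred g hg
  have hkg' := hred g' hg'
  -- conjugation automorphism of X ⊗ Y
  let Z : Over (Spec (CommRingCat.of R)) := MonoidalCategory.tensorObj X Y
  let p : Z ⟶ X := CartesianMonoidalCategory.fst X Y
  let q : Z ⟶ X := CartesianMonoidalCategory.snd X Y ≫ g'
  let c : Z ⟶ X := q * p * q⁻¹
  let Ψ : Z ⟶ Z := CartesianMonoidalCategory.lift c (CartesianMonoidalCategory.snd X Y)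
  let e' : Y ⟶ Z := CartesianMonoidalCategory.lift (1 : Y ⟶ X) (𝟙 Y)
  let σ : Y ⟶ Z := CartesianMonoidalCategory.lift g (𝟙 Y)
  have hcomp : ∀ {T : Over (Spec (CommRingCat.of R))} (t : T ⟶ Z), t ≫ c = (t ≫ q) * (t ≫ p) * (t ≫ q)⁻¹ := by
    intro T t
    simp only [c, MonObj.comp_mul, GrpObj.comp_inv]
  -- (1)
  have h1 : k Z ≫ Ψ = k Z := by
    have hq : k Z ≫ q = 1 := by
      simp only [q]
      rw [← Category.assoc, ← hknat, Category.assoc, hkg', MonObj.comp_one]
    have hc : k Z ≫ c = k Z ≫ p := by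
      rw [hcomp, hq]
      simp
    simp only [Ψ]
    rw [CartesianMonoidalCategory.comp_lift, hc]
    simp only [p]
    exact CartesianMonoidalCategory.lift_comp_fst_snd _
  -- (2)
  have h2 : e' ≫ Ψ = e' := by
    have hq : e' ≫ q = g' := by
      simp only [q, e']
      rw [← Category.assoc, CartesianMonoidalCategory.lift_snd, Category.id_comp]
    have hp : e' ≫ p = 1 := by
      simp only [p, e']
      rw [CartesianMonoidalCategory.lift_fst]
    have hc : e' ≫ c = 1 := by
      rw [hcomp, hq, hp]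
      simp
    simp only [Ψ]
    rw [CartesianMonoidalCategory.comp_lift, hc]
    simp only [e']
    rw [CartesianMonoidalCategory.lift_snd]
  -- (3)
  have h3 : k Y ≫ σ = k Y ≫ e' := by
    simp only [σ, e']
    rw [CartesianMonoidalCategory.comp_lift, CartesianMonoidalCategory.comp_lift, hkg,
      MonObj.comp_one]
  have hmain : σ.left ≫ Ψ.left = σ.left := by
    apply Aux.key J hJ Z.hom Y.hom Ψ.left (Over.w Ψ) e'.left σ.left (Over.w e') (Over.w σ)
    · have := congrArg (fun m => m.left) h1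
      simp only [Over.comp_left, hkleft] at this
      exact this
    · have := congrArg (fun m => m.left) h2
      simpa using this
    · have := congrArg (fun m => m.left) h3
      simp only [Over.comp_left, hkleft] at this
      exact this
  have hmain' : σ ≫ Ψ = σ := by
    apply Over.OverMorphism.ext
    rw [Over.comp_left]
    exact hmain
  have hfin : g' * g * g'⁻¹ = g := by
    have := congrArg (fun m => m ≫ CartesianMonoidalCategory.fst X Y) hmain'
    simp only [Ψ, σ, Category.assoc, CartesianMonoidalCategory.lift_fst] at this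
    rw [hcomp] at this
    simp only [q, p] at this
    rw [← Category.assoc, CartesianMonoidalCategory.lift_snd, CartesianMonoidalCategory.lift_fst,
      Category.id_comp] at this
    exact this
  have : g' * g = g * g' := by
    calc g' * g = (g' * g * g'⁻¹) * g' := by group
      _ = g * g' := by rw [hfin]
  exact this.symm

end Groth.Agent.S8363
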