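import Groth.Statements.S8365
import Mathlib
import Groth.Agent.Lib.R2LeadDualNumAdd

set_option autoImplicit false
universe u
open CategoryTheory MonObj AlgebraicGeometry
open LieS

namespace Groth.Agent.S8365

/-- For a monoid scheme X over a scheme S (an associative unital monoid object in S-schemes) and an
affine S-scheme T = Spec B, a point of X with values in the dual numbers over T is invertible if and
only if its restriction along the zero section ε = 0 is invertible in X(T); in particular every such
point restricting to the unit section is invertible. (The published statement is for monoid-valued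
functors satisfying a tangent-space exactness condition, which every representable functor
satisfies, and its special case where the restriction is the unit section allows unital composition
laws that need not be associative; this row treats monoid schemes only.) -/
theorem result (S : Scheme.{u}) (X : Over S) [MonObj X] (B : Type u) [CommRing B]
    (f : Spec (CommRingCat.of B) ⟶ S) (v : LieS.dpt B f ⟶ X) :
    IsUnit v ↔ IsUnit (LieS.zeroSec B f ≫ v) := by
  constructor
  · intro h
    obtain ⟨v', h1, h2⟩ := isUnit_iff_exists.mp h
    refine isUnit_iff_exists.mpr ⟨LieS.zeroSec B f ≫ v', ?_, ?_⟩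
    · rw [← MonObj.comp_mul, h1, MonObj.comp_one]
    · rw [← MonObj.comp_mul, h2, MonObj.comp_one]
  · intro h
    obtain ⟨u', h1, h2⟩ := isUnit_iff_exists.mp h
    have hw0 : LieS.zeroSec B f ≫ ((LieS.proj B f ≫ u') * v) = 1 := by
      rw [MonObj.comp_mul, ← Category.assoc, LieS.zeroSec_proj, Category.id_comp, h2]
    have hwu : IsUnit ((LieS.proj B f ≫ u') * v) :=
      Groth.Agent.Lib.R2Lead.DualNumAdd.isUnit_of_zeroSec_comp_eq_one f _ hw0
    have hpu : IsUnit (LieS.proj B f ≫ (LieS.zeroSec B f ≫ v)) := by
      refine isUnit_iff_exists.mpr ⟨LieS.proj B f ≫ u', ?_, ?_⟩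
      · rw [← MonObj.comp_mul, h1, MonObj.comp_one]
      · rw [← MonObj.comp_mul, h2, MonObj.comp_one]
    have hv : v = (LieS.proj B f ≫ (LieS.zeroSec B f ≫ v)) * ((LieS.proj B f ≫ u') * v) := by
      rw [← _root_.mul_assoc, ← MonObj.comp_mul, h1, MonObj.comp_one, _root_.one_mul]
    rw [hv]
    exact hpu.mul hwu

end Groth.Agent.S8365
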