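import Groth.Statements.S8370
import Mathlib

set_option autoImplicit false
universe u
open CategoryTheory MonObj AlgebraicGeometry
open LieS

namespace Groth.Agent.S8370

namespace Aux

theorem Ad_val {S : Scheme.{u}} (G : Over S) [GrpObj G] (B : Type u) [CommRing B]
    (f : Spec (CommRingCat.of B) ⟶ S) (g : LieS.pt B f ⟶ G) (v : LieS.Lie G B f) :
    (LieS.Ad G B f g v).1 = (LieS.proj B f ≫ g) * v.1 * (LieS.proj B f ≫ g)⁻¹ := rfl

theorem pull_val {S : Scheme.{u}} (G : Over S) [GrpObj G] {B : Type u} [CommRing B]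
    (f : Spec (CommRingCat.of B) ⟶ S) {B' : Type u} [CommRing B'] (h : B →+* B')
    (v : LieS.Lie G B f) : (LieS.pull G f h v).1 = LieS.dptMap f h ≫ v.1 := rfl

theorem ringHom_eq {B B' : Type u} [CommRing B] [CommRing B'] (ψ : DualNumber B →+* B') :
    (LieS.dualHom (RingHom.id B') (ψ DualNumber.eps) (by
      rw [← map_mul, LieS.eps_sq, map_zero])).comp
      (LieS.bcHom (ψ.comp (algebraMap B (DualNumber B)))) = ψ := by
  refine RingHom.ext fun x => ?_
  have hx : x = algebraMap B (DualNumber B) x.fst +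
      algebraMap B (DualNumber B) x.snd * DualNumber.eps := by
    ext <;> simp [TrivSqZeroExt.algebraMap_eq_inl']
  have h1 : (LieS.bcHom (ψ.comp (algebraMap B (DualNumber B))) x).fst =
      ψ (algebraMap B (DualNumber B) x.fst) := by
    simp [LieS.bcHom, TrivSqZeroExt.algebraMap_eq_inl']
  have h2 : (LieS.bcHom (ψ.comp (algebraMap B (DualNumber B))) x).snd =
      ψ (algebraMap B (DualNumber B) x.snd) := by
    simp [LieS.bcHom, TrivSqZeroExt.algebraMap_eq_inl']
  rw [RingHom.comp_apply, LieS.dualHom_apply, h1, h2, RingHom.id_apply, RingHom.id_apply]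
  conv_rhs => rw [hx]
  rw [map_add, map_mul]

/-- the affine case of the converse direction -/
theorem affine_case (S : Scheme.{u}) (G K : Over S) [GrpObj G] [GrpObj K] (i : K ⟶ G)
    (B : Type u) [CommRing B] (f : Spec (CommRingCat.of B) ⟶ S) (x : LieS.Lie G B f)
    (hAd : ∀ (B' : Type u) [CommRing B'] (h : B →+* B')
      (k : LieS.pt B' (Spec.map (CommRingCat.ofHom h) ≫ f) ⟶ K),
      LieS.Ad G B' (Spec.map (CommRingCat.ofHom h) ≫ f) (k ≫ i) (LieS.pull G f h x) =
        LieS.pull G f h x)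
    (B' : Type u) [CommRing B'] (g : Spec (CommRingCat.of B') ⟶ S)
    (y : Over.mk g ⟶ LieS.dpt B f) (hK : Over.mk g ⟶ K) :
    (y ≫ x.1) * (hK ≫ i) = (hK ≫ i) * (y ≫ x.1) := by
  obtain ⟨ψ', hψ'⟩ := Spec.map_surjective y.left
  let ψ : DualNumber B →+* B' := ψ'.hom
  have hψ : Spec.map (CommRingCat.ofHom ψ) = y.left := hψ'
  let h' : B →+* B' := ψ.comp (algebraMap B (DualNumber B))
  have he : ψ DualNumber.eps * ψ DualNumber.eps = 0 := by
    rw [← map_mul, LieS.eps_sq, map_zero]
  -- structure morphisms agree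
  have hg : Spec.map (CommRingCat.ofHom h') ≫ f = g := by
    have hw := Over.w y
    have h1 : Spec.map (CommRingCat.ofHom h') =
        Spec.map (CommRingCat.ofHom ψ) ≫
          Spec.map (CommRingCat.ofHom (algebraMap B (DualNumber B))) := by
      rw [LieS.specMap_comp]
    rw [h1, Category.assoc, hψ]
    exact hw
  let k : LieS.pt B' (Spec.map (CommRingCat.ofHom h') ≫ f) ⟶ K :=
    Over.homMk hK.left (by
      show hK.left ≫ K.hom = Spec.map (CommRingCat.ofHom h') ≫ f
      rw [hg]; exact Over.w hK)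
  let θ : Over.mk g ⟶ LieS.dpt B' (Spec.map (CommRingCat.ofHom h') ≫ f) :=
    Over.homMk (Spec.map (CommRingCat.ofHom (LieS.dualHom (RingHom.id B') (ψ DualNumber.eps) he)))
      (by
        show Spec.map _ ≫ Spec.map _ ≫ Spec.map (CommRingCat.ofHom h') ≫ f = g
        rw [← Category.assoc, LieS.specMap_comp, LieS.dualHom_comp_algebraMap, CommRingCat.ofHom_id]
        erw [Spec.map_id]
        rw [Category.id_comp]
        exact hg)
  have hF1 : θ ≫ LieS.dptMap f h' = y := by
    apply Over.OverMorphism.ext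
    show Spec.map _ ≫ Spec.map _ = y.left
    rw [LieS.specMap_comp, ← hψ]
    congr 2
    exact ringHom_eq ψ
  have hF2 : θ ≫ LieS.proj B' (Spec.map (CommRingCat.ofHom h') ≫ f) ≫ k = hK := by
    apply Over.OverMorphism.ext
    show Spec.map _ ≫ Spec.map _ ≫ hK.left = hK.left
    rw [← Category.assoc, LieS.specMap_comp, LieS.dualHom_comp_algebraMap, CommRingCat.ofHom_id]
    erw [Spec.map_id]
    exact Category.id_comp _
  have h0 := congrArg Subtype.val (hAd B' h' k)
  rw [Ad_val, pull_val] at h0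
  have h1 : θ ≫ ((LieS.proj B' (Spec.map (CommRingCat.ofHom h') ≫ f) ≫ k ≫ i) *
      (LieS.dptMap f h' ≫ x.1) * (LieS.proj B' (Spec.map (CommRingCat.ofHom h') ≫ f) ≫ k ≫ i)⁻¹) =
      θ ≫ (LieS.dptMap f h' ≫ x.1) := congrArg (fun m => θ ≫ m) h0
  have e1 : θ ≫ LieS.dptMap f h' ≫ x.1 = y ≫ x.1 := by rw [← Category.assoc, hF1]
  have e2 : θ ≫ LieS.proj B' (Spec.map (CommRingCat.ofHom h') ≫ f) ≫ k ≫ i = hK ≫ i := by
    calc θ ≫ LieS.proj B' (Spec.map (CommRingCat.ofHom h') ≫ f) ≫ k ≫ i
        = (θ ≫ LieS.proj B' (Spec.map (CommRingCat.ofHom h') ≫ f) ≫ k) ≫ i := by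
          simp only [Category.assoc]
      _ = hK ≫ i := by rw [hF2]
  rw [MonObj.comp_mul, MonObj.comp_mul, GrpObj.comp_inv, e1, e2] at h1
  calc (y ≫ x.1) * (hK ≫ i) = ((hK ≫ i) * (y ≫ x.1) * (hK ≫ i)⁻¹) * (hK ≫ i) := by rw [h1]
    _ = (hK ≫ i) * (y ≫ x.1) := by group

end Aux

/-- For a group scheme G over a scheme S (the group law of the Lie algebra functor of a group scheme is
commutative, which the published statement assumes), a sub-group-scheme K of G given by a
monomorphic homomorphism i, and an affine S-scheme T = Spec B: an element x of Lie(G/S)(T) belongs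
to the Lie algebra of the centraliser of K, i.e. the point x of G with values in the dual numbers
I_T commutes with every point of K with values in any scheme over I_T, if and only if x is fixed by
the adjoint action of every point of K with values in an affine scheme T' = Spec B' over T (acting
on the restriction of x to T'). -/
theorem result (S : Scheme.{u}) (G K : Over S) [GrpObj G] [GrpObj K] (i : K ⟶ G)
    [IsMonHom i] [Mono i] (B : Type u) [CommRing B] (f : Spec (CommRingCat.of B) ⟶ S) (x : LieS.Lie G B f) :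
    (∀ (X' : Over S) (y : X' ⟶ LieS.dpt B f) (h : X' ⟶ K), (y ≫ x.1) * (h ≫ i) = (h ≫ i) * (y ≫ x.1)) ↔
    (∀ (B' : Type u) [CommRing B'] (h : B →+* B')
      (k : LieS.pt B' (Spec.map (CommRingCat.ofHom h) ≫ f) ⟶ K),
      LieS.Ad G B' (Spec.map (CommRingCat.ofHom h) ≫ f) (k ≫ i) (LieS.pull G f h x) = LieS.pull G f h x) := by
  constructor
  · intro hcomm B' _ h k
    apply Subtype.ext
    rw [Aux.Ad_val, Aux.pull_val]
    have h1 := hcomm (LieS.dpt B' (Spec.map (CommRingCat.ofHom h) ≫ f)) (LieS.dptMap f h)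
      (LieS.proj B' (Spec.map (CommRingCat.ofHom h) ≫ f) ≫ k)
    rw [Category.assoc] at h1
    calc (LieS.proj B' (Spec.map (CommRingCat.ofHom h) ≫ f) ≫ k ≫ i) * (LieS.dptMap f h ≫ x.1) *
          (LieS.proj B' (Spec.map (CommRingCat.ofHom h) ≫ f) ≫ k ≫ i)⁻¹
        = (LieS.dptMap f h ≫ x.1) * (LieS.proj B' (Spec.map (CommRingCat.ofHom h) ≫ f) ≫ k ≫ i) *
          (LieS.proj B' (Spec.map (CommRingCat.ofHom h) ≫ f) ≫ k ≫ i)⁻¹ := by rw [h1]
      _ = LieS.dptMap f h ≫ x.1 := by group
  · intro hAd X' y hK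
    apply Over.OverMorphism.ext
    let 𝒰 := X'.left.affineOpenCover
    apply Scheme.Cover.hom_ext 𝒰.openCover
    intro j
    let jι : Spec (CommRingCat.of (𝒰.X j)) ⟶ X'.left := 𝒰.f j
    let jj : Over.mk (jι ≫ X'.hom) ⟶ X' := Over.homMk jι rfl
    have key := Aux.affine_case S G K i B f x hAd (𝒰.X j) (jι ≫ X'.hom) (jj ≫ y) (jj ≫ hK)
    rw [Category.assoc, Category.assoc, ← MonObj.comp_mul, ← MonObj.comp_mul] at key
    have := congrArg (fun m => m.left) key
    simp only [Over.comp_left, Over.homMk_left, jj] at this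
    exact this

end Groth.Agent.S8370
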