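import Groth.Statements.S8531
import Groth.Agent.Lib.Helper8EtGmLoc4
import Groth.Agent.Lib.Helper9EtMVCompare
import Groth.Agent.Lib.Helper9JContAll

set_option autoImplicit false
universe u
open CategoryTheory CategoryTheory.Limits AlgebraicGeometry Opposite
open EtPBC

namespace Groth.Agent.S8531

/-- In the form R^1 ε_* G_m = 0 for the morphism ε from the etale site to the Zariski site (equivalently
H^1(X_Zar, O_X^*) → H^1(X_et, G_m) is bijective, so H^1(X_et, G_m) is the Picard group): let X be a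
scheme, c a class in H^1(X_et, G_m) and x a point of X. Then there is an open neighbourhood U of x
such that the pullback of c to H^1(U_et, G_m restricted to U) is zero. -/
theorem result (X : Scheme.{u}) (c : EtCoh.H X (EtCoh.Gm X) 1) (x : X) :
    ∃ U : X.Opens, x ∈ U ∧ ∀ [PreservesFiniteLimits (EtCoh.pull U.ι)], EtCore.Hpull U.ι (EtCoh.Gm X) 1 c = 0 := by
  classical
  -- the standard short exact sequence `0 → G_m → I → Q → 0`
  let f : EtCoh.Gm X ⟶ Injective.under (EtCoh.Gm X) := Injective.ι (EtCoh.Gm X)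
  let g : Injective.under (EtCoh.Gm X) ⟶ cokernel f := cokernel.π f
  have w : f ≫ g = 0 := cokernel.condition f
  have hS : (ShortComplex.mk f g w).ShortExact :=
    { exact := ShortComplex.exact_cokernel _
      mono_f := inferInstanceAs (Mono (Injective.ι (EtCoh.Gm X)))
      epi_g := inferInstanceAs (Epi (cokernel.π (Injective.ι (EtCoh.Gm X)))) }
  haveI : Injective (ShortComplex.mk f g w).X₂ :=
    inferInstanceAs (Injective (Injective.under (EtCoh.Gm X)))
  change Abelian.Ext.{u + 1} (EtCoh.const X ℤ) (ShortComplex.mk f g w).X₁ 1 at c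
  have h1 : c.comp (Abelian.Ext.mk₀ (ShortComplex.mk f g w).f) (add_zero 1) = 0 :=
    Abelian.Ext.eq_zero_of_injective _
  obtain ⟨β, hβ⟩ := Abelian.Ext.covariant_sequence_exact₁ _ hS c h1 (zero_add 1)
  obtain ⟨b, rfl⟩ := (Abelian.Ext.mk₀_bijective _ _).2 β
  -- the Zariski-local lift
  obtain ⟨P', j, hj, ⟨x', hx'⟩, t, ht⟩ :=
    Groth.Agent.Lib.Helper8EtGmLoc.exists_open_lift f g w hS (EtCoh.top X)
      (Groth.Agent.Lib.Helper9.EtPull.sec _ b) x
  -- `P'.hom` is an open immersion
  have hP' : P'.hom = j.left := by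
    have h2 := CategoryTheory.Over.w ((Scheme.Etale.forget X).map j)
    change j.left ≫ 𝟙 X = P'.hom at h2
    exact h2.symm.trans (Category.comp_id _)
  haveI : IsOpenImmersion P'.hom := hP' ▸ hj
  refine ⟨P'.hom.opensRange, ?_, ?_⟩
  · exact ⟨x', by rw [hP']; exact hx'⟩
  · intro hpres
    haveI : EtShriek.JCont (P'.hom.opensRange).ι := Groth.Agent.Lib.Helper9.JContAll.jCont _
    rw [Groth.Agent.Lib.Helper9.EtMV.Hpull_eq]
    -- the morphism from the open subscheme to `P'`
    let r : Groth.Agent.Lib.Helper9.EtPull.obj (P'.hom.opensRange).ι ⟶ P' :=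
      MorphismProperty.Over.homMk (P'.hom.isoOpensRange.inv) (by
        change P'.hom.isoOpensRange.inv ≫ P'.hom = 𝟙 _ ≫ (P'.hom.opensRange).ι
        rw [Scheme.Hom.isoOpensRange_inv_comp, Category.id_comp])
    -- the lift over the open subscheme
    have he' : (g.hom.app (op (Groth.Agent.Lib.Helper9.EtPull.obj (P'.hom.opensRange).ι))).hom
        (((Injective.under (EtCoh.Gm X)).obj.map r.op).hom t) =
        ((cokernel f).obj.map ((EtCore.topIsTerminal X).from
          (Groth.Agent.Lib.Helper9.EtPull.obj (P'.hom.opensRange).ι)).op).hom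
          (Groth.Agent.Lib.Helper9.EtPull.sec _ b) := by
      rw [Groth.Agent.Lib.Helper8EtH90.naturality_apply, ht,
        ← Groth.Agent.Lib.Helper8EtH90.map_comp_apply]
      have e1 : r ≫ j = (EtCore.topIsTerminal X).from
          (Groth.Agent.Lib.Helper9.EtPull.obj (P'.hom.opensRange).ι) :=
        (EtCore.topIsTerminal X).hom_ext _ _
      rw [e1]
    have hab : Groth.Agent.Lib.Helper9.EtMV.aug
          (Groth.Agent.Lib.Helper9.EtPull.obj (P'.hom.opensRange).ι) ≫ b =
        (Groth.Agent.Lib.Helper9.EtMV.zhEquiv _ _).symm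
          (((Injective.under (EtCoh.Gm X)).obj.map r.op).hom t) ≫ g := by
      apply (Groth.Agent.Lib.Helper9.EtMV.zhEquiv _ _).injective
      rw [Groth.Agent.Lib.Helper9.EtMV.zhEquiv_aug_comp, Groth.Agent.Lib.Helper9.EtMV.zhEquiv_comp,
        Equiv.apply_symm_apply]
      exact he'.symm
    have hz : (Abelian.Ext.mk₀ (Groth.Agent.Lib.Helper9.EtMV.aug
        (Groth.Agent.Lib.Helper9.EtPull.obj (P'.hom.opensRange).ι))).comp c (zero_add 1) = 0 := by
      rw [← hβ, Abelian.Ext.mk₀_comp_mk₀_assoc, hab, ← Abelian.Ext.mk₀_comp_mk₀,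
        Abelian.Ext.comp_assoc_of_second_deg_zero, hS.comp_extClass, Abelian.Ext.comp_zero]
    exact (congrArg _ hz).trans (map_zero _)

end Groth.Agent.S8531
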