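import Groth.Statements.S8532
import Groth.Agent.Lib.Helper8TransferCoh
import Groth.Agent.Lib.Helper8FEtPoints
import Groth.Agent.Lib.Helper8EtLTorsCoprime
import Groth.Agent.Lib.Helper8EtAcycComp

set_option autoImplicit false
universe u
open CategoryTheory CategoryTheory.Limits AlgebraicGeometry Opposite
open EtAcyc

namespace Groth.Agent.S8532

/-- Let f : X' → X be finite etale of constant degree d (every geometric fibre has exactly d points), L
a set of primes such that no prime in L divides d, F an abelian L-torsion sheaf on the small etale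
site of X, and q a natural number. If H^q(X', f⁻¹F) = 0, then H^q(X, F) = 0. -/
theorem result {X X' : Scheme.{u}} (f : X' ⟶ X) [IsFinite f] [Etale f]
    (d : ℕ) (hd : ∀ (Ω : Type u) [Field Ω] [IsSepClosed Ω] (ξ : Spec (CommRingCat.of Ω) ⟶ X),
      Nat.card ↥(pullback f ξ) = d)
    (L : Set ℕ) (hL : ∀ p : ℕ, p.Prime → p ∈ L → ¬ p ∣ d) (F : EtCoh.Ab X) (hF : EtAcyc.IsLTorsion L F)
    [PreservesFiniteLimits (EtCoh.pull f)] (q : ℕ)
    (h : Subsingleton (EtCoh.H X' ((EtCoh.pull f).obj F) q)) :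
    Subsingleton (EtCoh.H X F q) := by
  have hfr := Groth.Agent.Lib.Helper8FEtPoints.finrank_eq_of_card f d hd
  apply subsingleton_of_forall_eq 0
  intro x
  have hdx := Groth.Agent.Lib.Helper8TransferCoh.nsmul_eq_zero_of_subsingleton f d hfr F q h x
  haveI := Groth.Agent.Lib.Helper8EtLTorsCoprime.isIso_nsmul_id L F hF d hL
  have hb := Groth.Agent.Lib.Helper8EtAcycComp.bijective_postcomp
    (A := EtCoh.const X ℤ) (asIso (d • 𝟙 F)) q
  apply hb.1
  change x.comp (CategoryTheory.Abelian.Ext.mk₀ (d • 𝟙 F)) (add_zero q) =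
    (0 : EtCoh.H X F q).comp (CategoryTheory.Abelian.Ext.mk₀ (d • 𝟙 F)) (add_zero q)
  rw [Groth.Agent.Lib.Helper8TransferCoh.comp_mk₀_nsmul_id, hdx,
    CategoryTheory.Abelian.Ext.zero_comp]

end Groth.Agent.S8532
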