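import Groth.Statements.S8579
import Groth.Agent.Lib.R2H4RowSS
import Groth.Agent.Lib.R2H4TopDescent

set_option autoImplicit false
open CategoryTheory CategoryTheory.Limits TopologicalSpace
universe u
open CohTop

namespace Groth.Agent.S8579

open Groth.Agent.Lib.R2H4.TopDescent Groth.Agent.Lib.R2H4.RowSS
open scoped ZeroObject

/-- In the setting of topological spaces and abelian sheaves (where every continuous map is flat for the
inverse image of sheaves), let f : X → S be a continuous map with a continuous section s, f ∘ s =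
id, and F an abelian sheaf on S. Then f is of universal cohomological descent, and the descent
spectral sequence reads, in existence form: there is a bounded spectral sequence of abelian groups
starting at page one with E_1^{p,q} isomorphic, for p, q ≥ 0, to H^q(X_p, F|X_p), where X_p is the
(p+1)-fold fibre product of X over S and F|X_p the inverse image of F along its projection to S, and
zero otherwise, together with abutment data whose filtrations are finite on H^n(S, F) for n ≥ 0
(zero for n < 0). (The E_1 identifications and the abutment isomorphisms are asserted to exist only;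
the differentials are not part of this statement.) -/
theorem result {X S : TopCat.{u}} (f : X ⟶ S) (s : S ⟶ X)
    (hs : s ≫ f = 𝟙 S) (F : CohTop.Ab S) :
    ∃ (E : CohomologicalSpectralSequence AddCommGrpCat.{u} 1)
      (a : SpSeq.Abutment E (fun n : ℤ =>
        if 0 ≤ n then AddCommGrpCat.of (CohTop.H F n.toNat) else AddCommGrpCat.of PUnit.{u + 1})),
      (∀ n, a.IsFinite n) ∧ SpSeq.IsBounded E ∧
      ∀ p q : ℤ, Nonempty ((E.page 1 le_rfl).X (p, q) ≅
        (if 0 ≤ p ∧ 0 ≤ q then
          AddCommGrpCat.of (CohTop.H ((CohTop.pull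
            (WidePullback.base (fun _ : Fin (p.toNat + 1) => f) :
              widePullback S (fun _ : Fin (p.toNat + 1) => X) (fun _ => f) ⟶ S)).obj F) q.toNat)
         else AddCommGrpCat.of PUnit.{u + 1})) := by
  classical
  choose R hRneg hRX hRH0 hRHne using fun q : ℕ => exists_rows f s hs F q
  have hPU : IsZero (AddCommGrpCat.of PUnit.{u + 1}) := by
    rw [AddCommGrpCat.isZero_iff_subsingleton]
    infer_instance
  let R' : ℤ → CochainComplex AddCommGrpCat.{u} ℤ := fun q => if 0 ≤ q then R q.toNat else 0
  have hR'pos : ∀ q : ℤ, 0 ≤ q → R' q = R q.toNat := fun q hq => if_pos hq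
  have hR'neg : ∀ q : ℤ, ¬ 0 ≤ q → R' q = 0 := fun q hq => if_neg hq
  obtain ⟨E, a, hfin, hbdd, hE⟩ := exists_spectralSequence R'
    (fun n : ℤ =>
      if 0 ≤ n then AddCommGrpCat.of (CohTop.H F n.toNat) else AddCommGrpCat.of PUnit.{u + 1})
    (by
      intro p q hpq
      by_cases hq : 0 ≤ q
      · rw [hR'pos q hq]
        exact hRneg _ p (by omega)
      · rw [hR'neg q hq]
        exact (HomologicalComplex.eval _ _ p).map_isZero (isZero_zero _))
    (by
      intro q
      by_cases hq : 0 ≤ q
      · rw [hR'pos q hq, if_pos hq]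
        exact hRH0 _
      · rw [hR'neg q hq, if_neg hq]
        exact ⟨((HomologicalComplex.homologyFunctor _ _ 0).map_isZero (isZero_zero _)).iso hPU⟩)
    (by
      intro p q hp
      by_cases hq : 0 ≤ q
      · rw [hR'pos q hq]
        exact hRHne _ p hp
      · rw [hR'neg q hq]
        exact (HomologicalComplex.homologyFunctor _ _ p).map_isZero (isZero_zero _))
  refine ⟨E, a, hfin, hbdd, fun p q => ?_⟩
  obtain ⟨e⟩ := hE p q
  by_cases h : 0 ≤ p ∧ 0 ≤ q
  · rw [if_pos h]
    obtain ⟨n, rfl⟩ : ∃ n : ℕ, p = n := ⟨p.toNat, by omega⟩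
    obtain ⟨e'⟩ := hRX q.toNat n
    exact ⟨e ≪≫ eqToIso (by rw [hR'pos q h.2]) ≪≫ e'⟩
  · rw [if_neg h]
    refine ⟨e ≪≫ IsZero.iso ?_ hPU⟩
    by_cases hq : 0 ≤ q
    · rw [hR'pos q hq]
      exact hRneg _ p (by omega)
    · rw [hR'neg q hq]
      exact (HomologicalComplex.eval _ _ p).map_isZero (isZero_zero _)

end Groth.Agent.S8579
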