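import Groth.Statements.S8655
import Groth.Agent.Lib.H9KoszulComp

set_option autoImplicit false
universe u
open CategoryTheory CategoryTheory.Limits AlgebraicGeometry
open RegImm

namespace Groth.Agent.S8655

/-- Let i : Y ⟶ X be a Koszul-regular immersion of constant codimension n and j : Z ⟶ Y a Koszul-regular
immersion of constant codimension m (around every point the ideal is generated by a Koszul-regular
sequence of that length). Then j ≫ i is a Koszul-regular immersion of constant codimension m + n. -/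
theorem result {X Y Z : Scheme.{u}} (n m : ℕ) (i : Y ⟶ X) (j : Z ⟶ Y)
    (hi : RegImm.IsRegularImmersionOfCodim .koszul n i) (hj : RegImm.IsRegularImmersionOfCodim .koszul m j) :
    RegImm.IsRegularImmersionOfCodim .koszul (m + n) (j ≫ i) := by
  obtain ⟨himm, hi'⟩ := hi
  obtain ⟨hjmm, hj'⟩ := hj
  haveI := himm
  haveI := hjmm
  refine ⟨inferInstance, fun z => ?_⟩
  obtain ⟨U, hzU, hclU, fs, hlenf, hfs, hkerU⟩ := hi' (j z)
  obtain ⟨V, hzV, hclV, gs, hleng, hgs, hkerV⟩ := hj' z
  obtain ⟨W, hzW, hclW, ks, hlen, hks, hK⟩ := Groth.Agent.Lib.H9KoszulComp.comp_at i j z U.1 U.2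
    hzU hclU fs hfs hkerU V.1 V.2 hzV hclV gs hgs hkerV
  exact ⟨W, hzW, hclW, ks, by rw [hlen, hlenf, hleng], hks, hK⟩

end Groth.Agent.S8655
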