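import Groth.Statements.S8691
import Groth.Agent.Lib.H6xLamD
import Groth.Agent.Lib.Helper4LambdaInv
import Groth.Agent.Lib.Helper4LambdaAmple

set_option autoImplicit false
universe u
open Finset
open LambdaRing

namespace Groth.Agent.S8691

/-- Let K be a λ-ring in the strict sense, d a natural number and N ∈ K with λ^i(N) = 0 for every i > d;
put λ_{−1}(N) = Σ_{i=0}^{d} (−1)^i λ^i(N). Then for every p ≥ 1 and every x ∈ K the element λ^p(x ·
λ_{−1}(N)) is divisible by λ_{−1}(N). (The published statement is for the λ-ring generated over the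
integers by N and x subject to λ^i(N) = 0 for i > d, a polynomial ring; the divisibility passes to
any λ-ring along the λ-homomorphism sending the generators to N and x, which is the substituted form
stated here.) The hypotheses hP and hQ, existence of the universal polynomials, are true statements
carried so that the identities of K can be used at every index. -/
theorem result (K : Type u) [CommRing K] [LambdaRing.LambdaOps K]
    (hK : LambdaRing.IsSpecial K)
    (hP : ∀ n : ℕ, ∃ P : MvPolynomial (Fin n ⊕ Fin n) ℤ, LambdaRing.IsMulPoly n P)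
    (hQ : ∀ i j : ℕ, ∃ Q : MvPolynomial (Fin (i * j)) ℤ, LambdaRing.IsCompPoly i j Q)
    (d : ℕ) (N : K) (hN : ∀ i : ℕ, d < i → LambdaRing.LambdaOps.lam i N = 0)
    (p : ℕ) (hp : 1 ≤ p) (x : K) :
    (∑ i ∈ range (d + 1), (-1 : K) ^ i * LambdaRing.LambdaOps.lam i N) ∣
      LambdaRing.LambdaOps.lam p (x * ∑ i ∈ range (d + 1), (-1 : K) ^ i * LambdaRing.LambdaOps.lam i N) := by
  classical
  set L : K := ∑ i ∈ range (d + 1), (-1 : K) ^ i * LambdaRing.LambdaOps.lam i N with hL
  rcases Nat.eq_zero_or_pos d with hd0 | hd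
  · subst hd0
    have : L = 1 := by
      rw [hL]
      simp [LambdaOps.lam_zero]
    rw [this]
    exact one_dvd _
  have h1 := hK.lam_one_eq_zero
  set σ : K := (-1 : K) ^ d with hσ
  have hσσ : σ * σ = 1 := by
    rw [hσ, ← pow_add, ← two_mul, pow_mul]
    simp
  set n' : K := N - (d : K) with hn'
  have hLg : gamma d n' = σ * L := Groth.Agent.Lib.Helper4.gamma_top h1 N d hN
  have hvan : ∀ k, d < k → gamma k n' = 0 := fun k hk =>
    Groth.Agent.Lib.Helper4.gamma_sub_natCast_eq_zero h1 N d hN k hk
  exact Groth.Agent.Lib.H6xLamD.dvd_lam_mul_top hK d hd n' hvan p hp σ hσσ L hLg x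


end Groth.Agent.S8691
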