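import Groth.Statements.S8697
import Groth.Agent.Lib.H6xLamT

set_option autoImplicit false
universe u v
open Finset
open LambdaRing
open Groth.Agent.Lib.H6xLamT Groth.Agent.Lib.H6xLamU Groth.Agent.Lib.Helper4

namespace Groth.Agent.S8697

/-- Let K be a binomial ring with its binomial λ-structure and B a λ-ring in the strict sense which is
an augmented K-λ-algebra with augmentation ε. Let x ∈ B satisfy ε(x) = 0 and γ^k(x) = 0 for every k
> n, and assume that γ^1(x), …, γ^n(x) are algebraically independent over K and generate B as a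
K-algebra — so B is the K-λ-algebra generated by one element subject to the relations γ^k = 0 for k
> n, a polynomial ring K[γ^1 x, …, γ^n x]. Then for every k, the k-th ideal Fil^k B of the
γ-filtration (generated by the products of γ^{i}(z), ε(z) = 0, of total weight ≥ k) is the ideal
generated by the monomials ∏_j (γ^j x)^{e_j} with Σ_j j·e_j ≥ k: the λ-ring filtration is the
filtration by the weight in the γ^j x. (With λ in place of γ — relations λ^k x = 0 for k > n and
weights in the λ^j x — the assertion fails already for n = 1, where γ^i(x) = x for all i ≥ 1 puts x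
in every Fil^k while x is not in the ideal (x²); the form with γ stated here is the one the proof
establishes.) The hypotheses hP and hQ, existence of the universal polynomials, are true statements
carried so that the identities of B can be used at every index. -/
theorem result
    (K : Type u) [CommRing K] [LambdaRing.LambdaOps K] [BinomialRing K] (hKb : LambdaRing.IsBinomial K)
    (hK : LambdaRing.IsSpecial K)
    (B : Type v) [CommRing B] [LambdaRing.LambdaOps B] [Algebra K B] (hB : LambdaRing.IsSpecial B)
    (hP : ∀ n : ℕ, ∃ P : MvPolynomial (Fin n ⊕ Fin n) ℤ, LambdaRing.IsMulPoly n P)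
    (hQ : ∀ i j : ℕ, ∃ Q : MvPolynomial (Fin (i * j)) ℤ, LambdaRing.IsCompPoly i j Q)
    (ε : B →ₐ[K] K) (hε : LambdaRing.IsAugLambdaAlg K B ε)
    (n : ℕ) (x : B) (hx : ε x = 0) (hγ : ∀ k : ℕ, n < k → LambdaRing.gamma k x = 0)
    (hind : AlgebraicIndependent K (fun j : Fin n => LambdaRing.gamma ((j : ℕ) + 1) x))
    (hgen : Algebra.adjoin K (Set.range fun j : Fin n => LambdaRing.gamma ((j : ℕ) + 1) x) = ⊤)
    (k : ℕ) :
    LambdaRing.gammaFil (ε : B →+* K) k =
      Ideal.span {m : B | ∃ e : Fin n → ℕ, k ≤ ∑ j : Fin n, ((j : ℕ) + 1) * e j ∧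
        m = ∏ j : Fin n, LambdaRing.gamma ((j : ℕ) + 1) x ^ e j} := by
  classical
  set g : Fin n → B := fun j => LambdaRing.gamma ((j : ℕ) + 1) x with hg
  let J : ℕ → Ideal B := fun k => Ideal.span {m : B | ∃ e : Fin n → ℕ,
    k ≤ ∑ j : Fin n, ((j : ℕ) + 1) * e j ∧ m = ∏ j : Fin n, LambdaRing.gamma ((j : ℕ) + 1) x ^ e j}
  have hJ : IsMulFil J := by
    refine ⟨?_, ?_, ?_⟩
    · exact (Ideal.eq_top_iff_one _).mpr (Ideal.subset_span ⟨0, by simp, by simp⟩)
    · intro a b u v hu hv
      have h1 : u * v ∈ J a * J b := Ideal.mul_mem_mul hu hv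
      simp only [J] at h1 ⊢
      rw [Ideal.span_mul_span'] at h1
      refine (Ideal.span_le.mpr ?_) h1
      rintro _ ⟨_, ⟨e₁, h₁, rfl⟩, _, ⟨e₂, h₂, rfl⟩, rfl⟩
      refine Ideal.subset_span ⟨e₁ + e₂, ?_, ?_⟩
      · simp only [Pi.add_apply, mul_add, Finset.sum_add_distrib]
        omega
      · beta_reduce
        rw [← Finset.prod_mul_distrib]
        apply Finset.prod_congr rfl
        intro j _
        rw [Pi.add_apply, pow_add]
    · intro a b hab
      apply Ideal.span_mono
      rintro m ⟨e, he, rfl⟩
      exact ⟨e, hab.trans he, rfl⟩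
  have hgJ : ∀ j : ℕ, LambdaRing.gamma (j + 1) x ∈ J (j + 1) := by
    intro j
    by_cases hj : j < n
    · refine Ideal.subset_span ⟨Pi.single ⟨j, hj⟩ 1, ?_, ?_⟩
      · rw [Finset.sum_eq_single (⟨j, hj⟩ : Fin n)]
        · simp
        · intro b _ hb
          rw [Pi.single_eq_of_ne hb, mul_zero]
        · intro h; exact absurd (Finset.mem_univ _) h
      · rw [Finset.prod_eq_single (⟨j, hj⟩ : Fin n)]
        · simp
        · intro b _ hb
          rw [Pi.single_eq_of_ne hb, pow_zero]
        · intro h; exact absurd (Finset.mem_univ _) h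
    · rw [hγ (j + 1) (by omega)]
      exact Ideal.zero_mem _
  have hFil := isMulFil_gammaFil ((ε : B →ₐ[K] K) : B →+* K)
  have hx' : ((ε : B →ₐ[K] K) : B →+* K) x = 0 := hx
  change LambdaRing.gammaFil ((ε : B →ₐ[K] K) : B →+* K) k = J k
  apply le_antisymm
  · apply gammaFil_le hJ
    intro y hy
    have hy_range : y ∈ (MvPolynomial.aeval (R := K) g).range := by
      rw [← Algebra.adjoin_range_eq_range_aeval, hgen]; trivial
    obtain ⟨P, hPy⟩ := hy_range
    have hPy' : MvPolynomial.aeval g P = y := hPy
    subst hPy'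
    have hεg : ∀ j, ε (g j) = 0 := by
      intro j
      have := map_gamma_of_map_lam ((ε : B →ₐ[K] K) : B →+* K) (fun n a => hε.map_lam n a)
        ((j : ℕ) + 1) x
      rw [hx', gamma_zero_arg _ (by omega)] at this
      exact this
    have hc : MvPolynomial.coeff 0 P = 0 := by
      have h1 : ε (MvPolynomial.aeval g P) = MvPolynomial.aeval (fun j => ε (g j)) P :=
        MvPolynomial.comp_aeval_apply (f := g) ε P
      simp_rw [hεg] at h1
      have h2 : MvPolynomial.aeval (fun _ : Fin n => (0 : K)) P = MvPolynomial.constantCoeff P := by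
        simp
      rw [h2] at h1
      rw [← MvPolynomial.constantCoeff_eq, ← h1]
      exact hy
    rw [← MvPolynomial.support_sum_monomial_coeff P, map_sum]
    apply goodJ_gammaSeries_sum hJ
    intro e he
    rw [MvPolynomial.aeval_monomial, mul_comm]
    apply goodJ_gammaSeries_smul hKb hB hε.isLambdaAlg hJ
    have he0 : e ≠ 0 := by
      rintro rfl
      exact (MvPolynomial.mem_support_iff.mp he) hc
    have hinj : Function.Injective (fun j : Fin n => ((PUnit.unit : PUnit.{1}), (j : ℕ))) := by
      intro a b hab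
      exact Fin.val_injective (Prod.mk.inj hab).2
    set d : PUnit.{1} × ℕ →₀ ℕ := e.mapDomain (fun j : Fin n => (PUnit.unit, (j : ℕ))) with hd
    have hdg : gmon PUnit.{1} (fun _ => x) d = e.prod (fun j m => g j ^ m) := by
      rw [gmon, hd, Finsupp.prod_mapDomain_index_inj hinj]
    have hdw : 1 ≤ Finsupp.weight (wt PUnit.{1}) d := by
      obtain ⟨j, hj⟩ : ∃ j, e j ≠ 0 := by
        by_contra h
        push Not at h
        exact he0 (Finsupp.ext h)
      have h1 : d (PUnit.unit, (j : ℕ)) ≠ 0 := by
        rw [hd, Finsupp.mapDomain_apply hinj]; exact hj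
      have h2 := Finsupp.le_weight_of_ne_zero' (w := wt PUnit.{1}) h1
      have h3 : 1 ≤ wt PUnit.{1} (PUnit.unit, (j : ℕ)) := by simp [wt]
      omega
    intro i
    rw [coeff_gammaSeries, ← hdg]
    exact Wspan_le hJ PUnit.{1} (fun _ => x) (fun _ j => hgJ j) i
      (gamma_gmon_mem PUnit.{1} hB (fun _ => x) d hdw i)
  · simp only [J]
    rw [Ideal.span_le]
    rintro _ ⟨e, he, rfl⟩
    apply hFil.anti he
    have := hFil.prod_mem Finset.univ (fun j : Fin n => LambdaRing.gamma ((j : ℕ) + 1) x ^ e j)
      (fun j => ((j : ℕ) + 1) * e j) (fun j _ => by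
        have := hFil.pow_mem (gamma_mem_gammaFil _ hx' ((j : ℕ) + 1)) (e j)
        rwa [mul_comm] at this)
    exact this


end Groth.Agent.S8697
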