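import Groth.Statements.S8698
import Groth.Agent.Lib.H6xLamT

set_option autoImplicit false
universe u v w
open Finset
open LambdaRing
open Groth.Agent.Lib.H6xLamT Groth.Agent.Lib.H6xLamU Groth.Agent.Lib.Helper4

namespace Groth.Agent.S8698

/-- Let K be a binomial ring with its binomial λ-structure, A a λ-ring in the strict sense which is an
augmented K-λ-algebra with augmentation ε_A, and B a λ-ring in the strict sense which is at once an
augmented K-λ-algebra with augmentation ε_B and an A-algebra compatibly with the K-structures, the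
structure map A → B commuting with the λ^n and ε_B restricting to ε_A on A. Let x ∈ B with ε_B(x) =
0, and assume that the family (γ^{j+1} x)_{j ∈ ℕ} is algebraically independent over A and generates
B as an A-algebra: B is the free λ-ring A[X, γ^2 X, γ^3 X, …] on one generator over A, augmented by
X ↦ 0. Then for every k the k-th ideal Fil^k B of the γ-filtration of B is the ideal generated by
the products a · m where m = ∏_j (γ^{j+1} x)^{e_j} is a monomial of weight i = Σ_j (j+1) e_j and a
lies in (the image of) Fil^{k−i} A, with Fil^s A = A for s ≤ 0; that is, Fil^k B = Fil^k A +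
Fil^{k−1} A·M_1 + ⋯ + Fil^0 A·M_k + (monomials of weight > k), M_i denoting the monomials of weight
i. The hypotheses hP and hQ, existence of the universal polynomials, are true statements carried so
that the identities of A and B can be used at every index. -/
theorem result
    (K : Type u) [CommRing K] [LambdaRing.LambdaOps K] [BinomialRing K] (hKb : LambdaRing.IsBinomial K)
    (hK : LambdaRing.IsSpecial K)
    (A : Type v) [CommRing A] [LambdaRing.LambdaOps A] [Algebra K A] (hA : LambdaRing.IsSpecial A)
    (εA : A →ₐ[K] K) (hεA : LambdaRing.IsAugLambdaAlg K A εA)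
    (B : Type w) [CommRing B] [LambdaRing.LambdaOps B] [Algebra K B] [Algebra A B] [IsScalarTower K A B]
    (hB : LambdaRing.IsSpecial B) (hAB : LambdaRing.IsLambdaAlg A B)
    (εB : B →ₐ[K] K) (hεB : LambdaRing.IsAugLambdaAlg K B εB) (hεAB : ∀ a : A, εB (algebraMap A B a) = εA a)
    (hP : ∀ n : ℕ, ∃ P : MvPolynomial (Fin n ⊕ Fin n) ℤ, LambdaRing.IsMulPoly n P)
    (hQ : ∀ i j : ℕ, ∃ Q : MvPolynomial (Fin (i * j)) ℤ, LambdaRing.IsCompPoly i j Q)
    (x : B) (hx : εB x = 0)
    (hind : AlgebraicIndependent A (fun j : ℕ => LambdaRing.gamma (j + 1) x))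
    (hgen : Algebra.adjoin A (Set.range fun j : ℕ => LambdaRing.gamma (j + 1) x) = ⊤)
    (k : ℕ) :
    LambdaRing.gammaFil (εB : B →+* K) k =
      Ideal.span {b : B | ∃ (e : ℕ →₀ ℕ) (a : A),
        a ∈ LambdaRing.gammaFil (εA : A →+* K) (k - e.sum fun j n => (j + 1) * n) ∧
        b = algebraMap A B a * e.prod fun j n => LambdaRing.gamma (j + 1) x ^ n} := by
  classical
  set g : ℕ → B := fun j => LambdaRing.gamma (j + 1) x with hg
  set eA : A →+* K := ((εA : A →ₐ[K] K) : A →+* K) with heA
  set eB : B →+* K := ((εB : B →ₐ[K] K) : B →+* K) with heB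
  have hFA := isMulFil_gammaFil eA
  have hFB := isMulFil_gammaFil eB
  have hxB : eB x = 0 := hx
  have hAB' : ∀ (n : ℕ) (a : A), algebraMap A B (LambdaRing.gamma n a) =
      LambdaRing.gamma n (algebraMap A B a) :=
    fun n a => map_gamma_of_map_lam (algebraMap A B) (fun n a => hAB n a) n a
  let wt' : (ℕ →₀ ℕ) → ℕ := fun e => e.sum fun j n => (j + 1) * n
  let mon : (ℕ →₀ ℕ) → B := fun e => e.prod fun j n => LambdaRing.gamma (j + 1) x ^ n
  have wt_add : ∀ e₁ e₂, wt' (e₁ + e₂) = wt' e₁ + wt' e₂ := by
    intro e₁ e₂
    exact Finsupp.sum_add_index' (fun j => by simp) (fun j m₁ m₂ => by ring)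
  have mon_add : ∀ e₁ e₂, mon (e₁ + e₂) = mon e₁ * mon e₂ := by
    intro e₁ e₂
    exact Finsupp.prod_add_index' (fun j => by simp) (fun j m₁ m₂ => pow_add _ _ _)
  let J : ℕ → Ideal B := fun k => Ideal.span {b : B | ∃ (e : ℕ →₀ ℕ) (a : A),
    a ∈ LambdaRing.gammaFil eA (k - wt' e) ∧ b = algebraMap A B a * mon e}
  have hJ : IsMulFil J := by
    refine ⟨?_, ?_, ?_⟩
    · refine (Ideal.eq_top_iff_one _).mpr (Ideal.subset_span ⟨0, 1, ?_, ?_⟩)
      · exact hFA.anti (Nat.zero_le _) hFA.one_mem |> fun h => by simpa using hFA.one_mem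
      · simp [mon]
    · intro a b u v hu hv
      have h1 : u * v ∈ J a * J b := Ideal.mul_mem_mul hu hv
      simp only [J] at h1 ⊢
      rw [Ideal.span_mul_span'] at h1
      refine (Ideal.span_le.mpr ?_) h1
      rintro _ ⟨_, ⟨e₁, a₁, h₁, rfl⟩, _, ⟨e₂, a₂, h₂, rfl⟩, rfl⟩
      refine Ideal.subset_span ⟨e₁ + e₂, a₁ * a₂, ?_, ?_⟩
      · rw [wt_add]
        exact hFA.anti (by omega) (hFA.mul _ _ _ _ h₁ h₂)
      · beta_reduce
        rw [mon_add, map_mul]
        ring
    · intro a b hab
      apply Ideal.span_mono
      rintro m ⟨e, a', ha', rfl⟩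
      exact ⟨e, a', hFA.anti (by omega) ha', rfl⟩
  -- images of the filtration of `A`
  have hmapFil : ∀ (i : ℕ) (a : A), a ∈ LambdaRing.gammaFil eA i →
      algebraMap A B a ∈ LambdaRing.gammaFil eB i := by
    intro i a ha
    have h1 : algebraMap A B a ∈ Ideal.map (algebraMap A B) (LambdaRing.gammaFil eA i) :=
      Ideal.mem_map_of_mem _ ha
    rw [LambdaRing.gammaFil, Ideal.map_span] at h1
    refine (Ideal.span_le.mpr ?_) h1
    rintro _ ⟨_, ⟨l, hl, hn, rfl⟩, rfl⟩
    refine Ideal.subset_span ⟨l.map (fun p => (p.1, algebraMap A B p.2)), ?_, ?_, ?_⟩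
    · intro p hp
      obtain ⟨q, hq, rfl⟩ := List.mem_map.mp hp
      change εB (algebraMap A B q.2) = 0
      rw [hεAB]
      exact hl q hq
    · rw [List.map_map]
      exact hn
    · rw [map_list_prod, List.map_map, List.map_map]
      congr 1
      apply List.map_congr_left
      intro p _
      simp only [Function.comp_apply]
      exact hAB' p.1 p.2
  -- the generators lie in the right steps
  have hgJ : ∀ j : ℕ, LambdaRing.gamma (j + 1) x ∈ J (j + 1) := by
    intro j
    refine Ideal.subset_span ⟨Finsupp.single j 1, 1, ?_, ?_⟩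
    · have : wt' (Finsupp.single j 1) = j + 1 := by
        simp only [wt']
        rw [Finsupp.sum_single_index (by simp)]
        ring
      rw [this, Nat.sub_self]
      exact hFA.one_mem
    · simp only [mon]
      rw [Finsupp.prod_single_index (by simp)]
      simp
  have haJ : ∀ (a' : A), eA a' = 0 → ∀ j : ℕ, LambdaRing.gamma (j + 1) (algebraMap A B a') ∈ J (j + 1) := by
    intro a' ha' j
    refine Ideal.subset_span ⟨0, LambdaRing.gamma (j + 1) a', ?_, ?_⟩
    · have : wt' 0 = 0 := by simp [wt']
      rw [this, Nat.sub_zero]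
      exact gamma_mem_gammaFil eA ha' (j + 1)
    · simp only [mon]
      rw [Finsupp.prod_zero_index, mul_one, hAB']
  change LambdaRing.gammaFil eB k = J k
  apply le_antisymm
  · apply gammaFil_le hJ
    intro y hy
    have hy_range : y ∈ (MvPolynomial.aeval (R := A) g).range := by
      rw [← Algebra.adjoin_range_eq_range_aeval, hgen]; trivial
    obtain ⟨P, hPy⟩ := hy_range
    have hPy' : MvPolynomial.aeval g P = y := hPy
    subst hPy'
    have hεg : ∀ j, eB (g j) = 0 := by
      intro j
      have := map_gamma_of_map_lam eB (fun n a => hεB.map_lam n a) (j + 1) x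
      rw [hxB, gamma_zero_arg _ (by omega)] at this
      exact this
    have hψ : ∀ Q : MvPolynomial ℕ A,
        eB (MvPolynomial.aeval g Q) = eA (MvPolynomial.constantCoeff Q) := by
      intro Q
      have : (eB.comp ((MvPolynomial.aeval g : MvPolynomial ℕ A →ₐ[A] B) :
          MvPolynomial ℕ A →+* B)) = eA.comp MvPolynomial.constantCoeff := by
        apply MvPolynomial.ringHom_ext
        · intro a
          simp only [RingHom.comp_apply, RingHom.coe_coe, MvPolynomial.aeval_C,
            MvPolynomial.constantCoeff_C]
          exact hεAB a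
        · intro j
          simp only [RingHom.comp_apply, RingHom.coe_coe, MvPolynomial.aeval_X,
            MvPolynomial.constantCoeff_X, map_zero]
          exact hεg j
      exact DFunLike.congr_fun this Q
    have hc : eA (MvPolynomial.coeff 0 P) = 0 := by
      rw [← MvPolynomial.constantCoeff_eq, ← hψ]; exact hy
    rw [← MvPolynomial.support_sum_monomial_coeff P, map_sum]
    apply goodJ_gammaSeries_sum hJ
    intro e he
    rw [MvPolynomial.aeval_monomial]
    set a := MvPolynomial.coeff e P with ha
    by_cases he0 : e = 0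
    · subst he0
      rw [Finsupp.prod_zero_index, mul_one]
      intro i
      rw [coeff_gammaSeries]
      rcases i with _ | i
      · have : LambdaRing.gamma 0 (algebraMap A B a) = 1 := by simp [LambdaRing.gamma]
        rw [this]
        exact hJ.one_mem
      · exact haJ a hc i
    · set κ := eA a with hκ
      set a' := a - algebraMap K A κ with ha'def
      have ha' : eA a' = 0 := by
        rw [ha'def, map_sub]
        have : eA (algebraMap K A κ) = κ := εA.commutes κ
        rw [this, hκ, sub_self]
      have hsplit : algebraMap A B a * mon e =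
          mon e * algebraMap K B κ + algebraMap A B a' * mon e := by
        rw [ha'def, map_sub, ← IsScalarTower.algebraMap_apply]
        ring
      rw [show (e.prod fun j n => g j ^ n) = mon e from rfl, hsplit]
      let x' : Bool → B := fun b => if b then x else algebraMap A B a'
      have hx'J : ∀ s j, LambdaRing.gamma (j + 1) (x' s) ∈ J (j + 1) := by
        intro s j
        cases s
        · exact haJ a' ha' j
        · exact hgJ j
      have hinj : Function.Injective (fun j : ℕ => (true, j)) := by
        intro i j hij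
        exact (Prod.mk.inj hij).2
      set d : Bool × ℕ →₀ ℕ := e.mapDomain (fun j : ℕ => (true, j)) with hd
      have hdg : gmon Bool x' d = mon e := by
        rw [gmon, hd, Finsupp.prod_mapDomain_index_inj hinj]
        rfl
      have hdw : 1 ≤ Finsupp.weight (wt Bool) d := by
        obtain ⟨j, hj⟩ : ∃ j, e j ≠ 0 := by
          by_contra h
          push Not at h
          exact he0 (Finsupp.ext h)
        have h1 : d (true, j) ≠ 0 := by
          rw [hd, Finsupp.mapDomain_apply hinj]; exact hj
        have h2 := Finsupp.le_weight_of_ne_zero' (w := wt Bool) h1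
        have h3 : 1 ≤ wt Bool (true, j) := by simp [wt]
        omega
      apply goodJ_gammaSeries_add hJ
      · apply goodJ_gammaSeries_smul hKb hB hεB.isLambdaAlg hJ
        intro i
        rw [coeff_gammaSeries, ← hdg]
        exact Wspan_le hJ Bool x' hx'J i (gamma_gmon_mem Bool hB x' d hdw i)
      · set d' : Bool × ℕ →₀ ℕ := d + Finsupp.single (false, 0) 1 with hd'
        have hd'g : gmon Bool x' d' = algebraMap A B a' * mon e := by
          rw [← hdg, gmon, gmon, hd',
            Finsupp.prod_add_index' (fun p => by simp) (fun p m₁ m₂ => pow_add _ _ _),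
            Finsupp.prod_single_index (by simp)]
          simp only [x', zero_add, pow_one, Bool.false_eq_true, if_false, GFil.gamma_one]
          ring
        have hd'w : 1 ≤ Finsupp.weight (wt Bool) d' := by
          rw [hd', map_add]
          omega
        intro i
        rw [coeff_gammaSeries, ← hd'g]
        exact Wspan_le hJ Bool x' hx'J i (gamma_gmon_mem Bool hB x' d' hd'w i)
  · simp only [J]
    rw [Ideal.span_le]
    rintro _ ⟨e, a, ha, rfl⟩
    have h1 : algebraMap A B a ∈ LambdaRing.gammaFil eB (k - wt' e) := hmapFil _ a ha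
    have h2 : mon e ∈ LambdaRing.gammaFil eB (wt' e) := by
      simp only [mon, wt', Finsupp.prod, Finsupp.sum]
      apply hFB.prod_mem
      intro j _
      have := hFB.pow_mem (gamma_mem_gammaFil eB hxB (j + 1)) (e j)
      rwa [mul_comm] at this
    exact hFB.anti (by omega) (hFB.mul _ _ _ _ h1 h2)


end Groth.Agent.S8698
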