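import Groth.Statements.S8731
import Mathlib
import Groth.Agent.Lib.R2H1HypIdeal

set_option autoImplicit false
universe u
open CategoryTheory CategoryTheory.Limits AlgebraicGeometry
open LefPen

namespace Groth.Agent.S8731

/-- (iv), the assertions on the structure sheaf: let k be an algebraically closed field, n >= 1, and Q a
quadratic form in n + 2 variables whose zero scheme X = V(Q) ⊂ P^{n+1}_k is smooth over k of
relative dimension n (a smooth quadric of dimension n). Then H^i(X, O_X) = 0 for every i >= 1, and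
the structure map identifies k with H^0(X, O_X). (The published item also computes H^1(X, O_X(1)),
the canonical sheaf and the Picard group, not stated here.) -/
theorem result (k : Type u) [Field k] [IsAlgClosed k] (n : ℕ) (hn : 1 ≤ n)
    (Q : LefPen.Form (n + 1) k 2)
    [SmoothOfRelativeDimension n ((LefPen.hypIdeal Q).subschemeι ≫ CohB1.ProjSpace.toSpec (n + 1) k)] :
    (∀ i : ℕ, 1 ≤ i → Subsingleton (Coh.HH (LefPen.hypIdeal Q).subscheme
        (Coh.structureModule (LefPen.hypIdeal Q).subscheme) i)) ∧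
      Function.Bijective ((LefPen.hypIdeal Q).subschemeι ≫ CohB1.ProjSpace.toSpec (n + 1) k).appTop.hom := by
  letI : ((LefPen.hypIdeal Q).subscheme).Over (Spec (CommRingCat.of k)) :=
    ⟨(LefPen.hypIdeal Q).subschemeι ≫ CohB1.ProjSpace.toSpec (n + 1) k⟩
  have hinst : (LefPen.hypIdeal Q).subscheme ↘ Spec (CommRingCat.of k) =
      (LefPen.hypIdeal Q).subschemeι ≫ CohB1.ProjSpace.toSpec (n + 1) k := rfl
  by_cases hQ : Q = 0
  · haveI : IsIso (LefPen.hypIdeal Q).subschemeι :=
      (Scheme.isIso_subschemeι_iff_eq_bot _).mpr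
        (hQ ▸ Groth.Agent.Lib.R2H1.HypIdeal.hypIdeal_zero 2)
    obtain ⟨hv, h0⟩ := Groth.Agent.Lib.R2H1.HypIdeal.proj_cohomology k (n + 1)
      (LefPen.hypIdeal Q) hinst
    exact ⟨fun i hi => hv i (by omega),
      Groth.Agent.Lib.R2H1.HypIdeal.bijective_appTop_of_h0 k _ h0⟩
  · obtain ⟨hv, h0, hfin, hn'⟩ := Groth.Agent.Lib.R2H1.HypIdeal.hyp_cohomology k n 2 hn
      (by norm_num) Q hQ hinst
    refine ⟨fun i hi => ?_, Groth.Agent.Lib.R2H1.HypIdeal.bijective_appTop_of_h0 k _ h0⟩
    by_cases hin : i = n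
    · subst hin
      have h2 : Nat.choose (2 - 1) (i + 1) = 0 := Nat.choose_eq_zero_of_lt (by omega)
      rw [h2] at hn'
      haveI := hfin
      exact Module.finrank_zero_iff.mp hn'
    · exact hv i (by omega) hin

end Groth.Agent.S8731
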