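import Groth.Statements.S8733
import Groth.Agent.Lib.R2H2PnBott2
import Groth.Agent.S9705
import Groth.Agent.Lib.R2H2KoszulShift
import Groth.Agent.Lib.R2H2PnCoh

set_option autoImplicit false
universe u
open CategoryTheory CategoryTheory.Limits AlgebraicGeometry
open LefPen

namespace Groth.Agent.S8733

/-- Over a field: let k be a field, r >= 1, P = P^r_k projective space with structure map to Spec k, Ω =
Ω^1_{P/k} its sheaf of relative differentials (the conormal sheaf of the diagonal) and L an
O_P-module which is a j-th exterior power of Ω. Then H^i(P, L) = H^i(P^r, Ω^j) is zero whenever i ≠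
j or i > r, and for i = j <= r it is a one-dimensional k-vector space. (The published statement
names the generator, the i-th power of the Hodge class of a hyperplane; this row states the
dimension only.) -/
theorem result (k : Type u) [Field k] (r : ℕ) (hr : 1 ≤ r) (j : ℕ)
    (L : (CohB1.ProjSpace r k).Modules)
    (hL : ExtPow.IsExtPow j (Omega.sheaf (CohB1.ProjSpace.toSpec r k)) L) :
    (∀ i : ℕ, (i ≠ j ∨ r < i) → Subsingleton (Coh.HH (CohB1.ProjSpace r k) L i)) ∧
      (j ≤ r → Module.finrank k (Coh.HH (CohB1.ProjSpace r k) L j) = 1) := by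
  haveI : IsProper (CohB1.ProjSpace.toSpec r k) := Groth.Agent.S9705.isProper_projSpace_toSpec r k
  haveI : QuasiSeparated (CohB1.ProjSpace.toSpec r k) := inferInstance
  refine ⟨fun i hi => ?_, fun hj => ?_⟩
  · by_cases hp : r + 1 < j
    · exact Groth.Agent.Lib.R2H2.KoszulShift.subsingleton_HH_of_isZero
        (Groth.Agent.Lib.R2H2.PnBridge.isZero_of_lt hL hp) i
    · have hpt : j + (r + 1 - j) = r + 1 := by omega
      obtain ⟨e⟩ := Groth.Agent.Lib.R2H2.PnBridge.nonempty_iso_kernel hL (r + 1 - j) hpt
      refine Groth.Agent.Lib.R2H2.PnSerre.subsingleton_HH_of_iso e.symm i ?_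
      refine Groth.Agent.Lib.R2H2.KoszulShift.subsingleton_HH_Z
        (Groth.Agent.Lib.R2H2.PnBridge.KP r k) (Groth.Agent.Lib.R2H2.PnBridge.KP_exact r k)
        (Groth.Agent.Lib.R2H2.PnBridge.KP_mono r k) (r + 1 - j) i (fun i' hi' => ?_)
      refine Groth.Agent.Lib.R2H2.PnCoh.subsingleton_HH_tilde k r (-((r : ℤ) + 1) + i') _ ?_ ?_
      · rintro ⟨-, h0⟩
        omega
      · rintro ⟨h1, h2⟩
        have hi0 : i' = 0 := by omega
        subst hi0
        rcases hi with h | h
        · omega
        · omega
  · obtain ⟨e⟩ := Groth.Agent.Lib.R2H2.PnBott.nonempty_HH_extPow_equiv r k hj hL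
    rw [e.finrank_eq, Module.finrank_self]

end Groth.Agent.S8733
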