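import Groth.Statements.S8734
import Groth.Agent.Lib.R2H2PnBott
import Groth.Agent.S9705

set_option autoImplicit false
universe u
open CategoryTheory CategoryTheory.Limits AlgebraicGeometry
open LefPen

namespace Groth.Agent.S8734

/-- Over a field: let k be a field, r >= 1, P = P^r_k, Ω = Ω^1_{P/k}, L an O_P-module which is a j-th
exterior power of Ω, and n a nonzero integer; write L(n) = L ⊗ O_P(n). Then H^i(P, L(n)) = H^i(P^r,
Ω^j(n)) is zero unless either i = 0 and n > j, or i = r and n < j - r. -/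
theorem result (k : Type u) [Field k] (r : ℕ) (hr : 1 ≤ r) (j : ℕ)
    (L : (CohB1.ProjSpace r k).Modules)
    (hL : ExtPow.IsExtPow j (Omega.sheaf (CohB1.ProjSpace.toSpec r k)) L) (n : ℤ) (hn : n ≠ 0) (i : ℕ)
    (h0 : ¬ (i = 0 ∧ (j : ℤ) < n)) (hr' : ¬ (i = r ∧ n < (j : ℤ) - r)) :
    Subsingleton (Coh.HH (CohB1.ProjSpace r k)
      (CohB1.tensorMod L (Twist.twistProjSpace r k n)) i) := by
  haveI : IsProper (CohB1.ProjSpace.toSpec r k) := Groth.Agent.S9705.isProper_projSpace_toSpec r k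
  haveI : QuasiSeparated (CohB1.ProjSpace.toSpec r k) := inferInstance
  by_cases hp : r + 1 < j
  · exact Groth.Agent.Lib.R2H2.KoszulShift.subsingleton_HH_of_isZero
      ((Groth.Agent.Lib.R2H2.PnBott.Tw r k n).map_isZero
        (Groth.Agent.Lib.R2H2.PnBridge.isZero_of_lt hL hp)) i
  · refine Groth.Agent.Lib.R2H2.PnBott.vanish_extPow r k hL n i h0 hr' ?_
    intro hk0
    exact absurd hk0 hn

end Groth.Agent.S8734
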