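import Groth.Statements.S8740
import Mathlib
import Groth.Agent.Lib.Helper13AdeqA
import Groth.Agent.Lib.Helper13AdeqD

set_option autoImplicit false
universe u
open CategoryTheory Limits
open Adeq

namespace Groth.Agent.S8740
open TensorProduct Opposite Adeq
open Groth.Agent.Helper13Adeq

variable {A : Type u} [CommRing A]

section lin
variable {B B' : Type u} [CommRing B] [CommRing B'] [Algebra A B] [Algebra A B'] [Algebra B B']
  [IsScalarTower A B B']
variable (M N : Type (u+1)) [AddCommGroup M] [Module A M] [AddCommGroup N] [Module A N]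

/-- `B' ⊗[B] (B ⊗[A] M) ≃ B' ⊗[A] M` -/
noncomputable def cM : B' ⊗[B] (B ⊗[A] M) ≃ₗ[B'] B' ⊗[A] M :=
  AlgebraTensorModule.cancelBaseChange A B B' B' M

theorem cM_tmul (b' : B') (b : B) (m : M) :
    cM (A := A) (B := B) M (b' ⊗ₜ[B] (b ⊗ₜ[A] m)) = (b • b') ⊗ₜ[A] m := rfl

variable {M N}

theorem cM_baseChange (φ : M →ₗ[A] N) (w : B' ⊗[B] (B ⊗[A] M)) :
    (φ.baseChange B') (cM (A := A) (B := B) M w) =
      cM (A := A) (B := B) N (((φ.baseChange B).lTensor B') w) := by
  induction w using TensorProduct.induction_on with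
  | zero => simp only [map_zero]
  | tmul b' y =>
    induction y using TensorProduct.induction_on with
    | zero => simp only [tmul_zero, map_zero]
    | tmul b m => rfl
    | add y z hy hz => simp only [tmul_add, map_add, hy, hz]
  | add y z hy hz => simp only [map_add, hy, hz]

theorem cM_tmul_eq (b' : B') (y : B ⊗[A] M) :
    cM (A := A) (B := B) M (b' ⊗ₜ[B] y) =
      b' • ((IsScalarTower.toAlgHom A B B').toLinearMap.rTensor M) y := by
  induction y using TensorProduct.induction_on with
  | zero => simp only [tmul_zero, map_zero, smul_zero]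
  | tmul b m =>
    rw [cM_tmul, LinearMap.rTensor_tmul, TensorProduct.smul_tmul', Algebra.smul_def, mul_comm]
    rfl
  | add y z hy hz => simp only [tmul_add, map_add, smul_add, hy, hz]

end lin

theorem main (F : MVF A) (hF : adequate A F) {B B' : Alg A} (f : B ⟶ B')
    (hf : f.hom.toRingHom.Flat) : IsIso (F.bc f) := by
  rw [adequate_iff] at hF
  obtain ⟨M, N, φ, i, hi, hex⟩ := hF
  letI algf : Algebra B B' := f.hom.toRingHom.toAlgebra
  haveI : IsScalarTower A B B' := IsScalarTower.of_algebraMap_eq (fun a => (f.hom.commutes a).symm)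
  haveI : Module.Flat B B' := hf
  let j : F.obj (pt B) →ₗ[B] B ⊗[A] M := (i.app (pt B)).hom
  let ψ : B ⊗[A] M →ₗ[B] B ⊗[A] N := φ.hom.baseChange B
  have hjinj : Function.Injective (j.lTensor B') :=
    Module.Flat.lTensor_preserves_injective_linearMap j (hi B)
  have hjex : Function.Exact (j.lTensor B') (ψ.lTensor B') := Module.Flat.lTensor_exact B' (hex B)
  let β : B' ⊗[B] (F.obj (pt B)) → F.obj (pt B') := fun v => (F.bc f).hom v
  have hβadd : ∀ v w, β (v + w) = β v + β w := fun v w => map_add (F.bc f).hom v w
  have hβzero : β 0 = 0 := map_zero (F.bc f).hom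
  have key : ∀ v, i.app (pt B') (β v) = cM (A := A) (B := B) M ((j.lTensor B') v) := by
    intro v
    induction v using TensorProduct.induction_on with
    | zero =>
      rw [hβzero, map_zero, map_zero, map_zero]
      rfl
    | tmul b' x =>
      change i.app (pt B') (b' • mapEl F f x) = cM (A := A) (B := B) M (b' ⊗ₜ j x)
      rw [app_smul, app_mapEl, underline_mapEl, cM_tmul_eq]
      rfl
    | add v w hv hw =>
      rw [hβadd, map_add, hv, hw, map_add, map_add]
      try rfl
  have hbij : Function.Bijective β := by
    constructor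
    · intro v w hvw
      apply hjinj
      apply (cM (A := A) (B := B) (B' := B') M).injective
      rw [← key, ← key, hvw]
    · intro z
      have h0 : (φ.hom.baseChange B') (i.app (pt B') z) = 0 := (hex B' _).mpr ⟨z, rfl⟩
      set w := (cM (A := A) (B := B) (B' := B') M).symm (i.app (pt B') z) with hw
      have h1 : (ψ.lTensor B') w = 0 := by
        apply (cM (A := A) (B := B) (B' := B') N).injective
        rw [← cM_baseChange, hw, LinearEquiv.apply_symm_apply, h0, map_zero]
      obtain ⟨v, hv⟩ := (hjex w).mp h1
      refine ⟨v, hi B' ?_⟩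
      rw [key, hv, hw, LinearEquiv.apply_symm_apply]
  exact (ConcreteCategory.isIso_iff_bijective (F.bc f)).mpr hbij

/-- For an adequate functor `F` on `A`-algebras and a flat map of `A`-algebras `f : B → B'`, the
canonical map `B' ⊗_B F(B) → F(B')` is an isomorphism. -/
theorem result (A : Type u) [CommRing A] (F : Adeq.MVF A) (hF : Adeq.adequate A F)
    {B B' : Adeq.Alg A} (f : B ⟶ B') (hf : f.hom.toRingHom.Flat) : IsIso (F.bc f) := by
  exact main F hF f hf

end Groth.Agent.S8740
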