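import Groth.Statements.S8746
import Mathlib
import Groth.Agent.Lib.Helper13AdeqA
import Groth.Agent.Lib.Helper13AdeqD

set_option autoImplicit false
universe u
open CategoryTheory Limits
open Adeq

namespace Groth.Agent.S8746
open TensorProduct Opposite Adeq
open Groth.Agent.Helper13Adeq

section poly
open Polynomial
variable (B : Type u) [CommRing B] (b : B)

/-- the polynomial `X (X + b)` -/
noncomputable abbrev gpoly : B[X] := X * (X + C b)

/-- `B[X]` localised at `X (X + b)` -/
abbrev Bp : Type u := Localization.Away (gpoly B b)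

lemma isUnit_X : IsUnit (algebraMap B[X] (Bp B b) X) := by
  have h : IsUnit (algebraMap B[X] (Bp B b) (gpoly B b)) :=
    IsLocalization.Away.algebraMap_isUnit _
  have h2 : algebraMap B[X] (Bp B b) (gpoly B b) =
      algebraMap B[X] (Bp B b) X * algebraMap B[X] (Bp B b) (X + C b) := map_mul _ _ _
  rw [h2] at h
  exact isUnit_of_mul_isUnit_left h

lemma isUnit_X_add : IsUnit (algebraMap B[X] (Bp B b) (X + C b)) := by
  have h : IsUnit (algebraMap B[X] (Bp B b) (gpoly B b)) :=
    IsLocalization.Away.algebraMap_isUnit _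
  have h2 : algebraMap B[X] (Bp B b) (gpoly B b) =
      algebraMap B[X] (Bp B b) X * algebraMap B[X] (Bp B b) (X + C b) := map_mul _ _ _
  rw [h2] at h
  exact isUnit_of_mul_isUnit_right h

lemma algebraMap_eq_sub : algebraMap B (Bp B b) b =
    algebraMap B[X] (Bp B b) (X + C b) - algebraMap B[X] (Bp B b) X := by
  rw [← map_sub, add_sub_cancel_left, IsScalarTower.algebraMap_apply B B[X] (Bp B b)]
  rfl

instance : Module.Flat B[X] (Bp B b) := IsLocalization.flat (Bp B b) (Submonoid.powers (gpoly B b))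

instance : Module.Flat B (Bp B b) := Module.Flat.trans B B[X] (Bp B b)

lemma comap_C_map_C (p : Ideal B) : (p.map (C : B →+* B[X])).comap C = p := by
  ext x
  rw [Ideal.mem_comap, Ideal.mem_map_C_iff]
  constructor
  · intro h
    simpa using h 0
  · intro hx n
    rw [coeff_C]
    split_ifs
    · exact hx
    · exact p.zero_mem

instance faithfullyFlat : Module.FaithfullyFlat B (Bp B b) := by
  apply Module.FaithfullyFlat.of_comap_surjective
  intro p
  have := p.isPrime
  let q : Ideal B[X] := p.asIdeal.map C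
  have hq : q.IsPrime := Ideal.isPrime_map_C_of_isPrime
  have hg : gpoly B b ∉ q := by
    intro h
    rw [Ideal.mem_map_C_iff] at h
    have h2 := h 2
    have hc : (gpoly B b).coeff 2 = 1 := by
      simp [gpoly, mul_add, ← pow_two, coeff_X_pow]
    rw [hc] at h2
    exact p.isPrime.ne_top ((Ideal.eq_top_iff_one _).mpr h2)
  have hdisj : Disjoint (Submonoid.powers (gpoly B b) : Set B[X]) (q : Set B[X]) := by
    rw [Set.disjoint_left]
    rintro _ ⟨n, rfl⟩ hn
    exact hg (hq.mem_of_pow_mem n hn)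
  refine ⟨⟨q.map (algebraMap B[X] (Bp B b)),
    IsLocalization.isPrime_of_isPrime_disjoint (Submonoid.powers (gpoly B b)) _ q hq hdisj⟩, ?_⟩
  apply PrimeSpectrum.ext
  change (q.map (algebraMap B[X] (Bp B b))).comap (algebraMap B (Bp B b)) = p.asIdeal
  rw [IsScalarTower.algebraMap_eq B B[X] (Bp B b), ← Ideal.comap_comap]
  have h1 : (q.map (algebraMap B[X] (Bp B b))).comap (algebraMap B[X] (Bp B b)) = q :=
    IsLocalization.under_map_of_isPrime_disjoint (Submonoid.powers (gpoly B b)) _ hq hdisj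
  rw [h1]
  exact comap_C_map_C B p.asIdeal

end poly

lemma ff_of_eq {R S : Type*} [CommRing R] [CommRing S] (a₁ a₂ : Algebra R S)
    (h : ∀ r, @algebraMap R S _ _ a₁ r = @algebraMap R S _ _ a₂ r)
    (hff : @Module.FaithfullyFlat R S _ _ a₂.toModule) :
    @Module.FaithfullyFlat R S _ _ a₁.toModule := by
  have : a₁ = a₂ := Algebra.algebra_ext _ _ h
  subst this
  exact hff

variable {A : Type u} [CommRing A]

theorem bc_tmul (F : MVF A) {B B' : Alg A} (f : B ⟶ B') (b' : B') (x : F.obj (pt B)) :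
    letI : Algebra B B' := f.hom.toRingHom.toAlgebra
    (F.bc f).hom ((b' ⊗ₜ[B] x : B' ⊗[B] (F.obj (pt B)))) = b' • (F.map (ptHom f)).hom x := by
  rfl

theorem map_injective_of_ff (G : MVF A) {B B' : Alg A} (f : B ⟶ B')
    (hff : @Module.FaithfullyFlat B B' _ _ (f.hom.toRingHom.toAlgebra).toModule)
    (hiso : IsIso (G.bc f)) : Function.Injective (G.map (ptHom f)) := by
  let algf : Algebra B B' := f.hom.toRingHom.toAlgebra
  have hmk : Function.Injective (TensorProduct.mk B B' (G.obj (pt B)) 1) :=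
    Module.FaithfullyFlat.tensorProduct_mk_injective (A := B) (B := B') (G.obj (pt B))
  have hbc : Function.Injective (G.bc f).hom :=
    ((ConcreteCategory.isIso_iff_bijective (G.bc f)).mp hiso).1
  intro y y' h
  apply hmk
  apply hbc
  have e1 := bc_tmul G f 1 y
  have e2 := bc_tmul G f 1 y'
  exact e1.trans ((congrArg (fun z => (1 : B') • z) h).trans e2.symm)

theorem main (F G : MVF A)
    (φ : ∀ B : Alg A, F.obj (pt B) → G.obj (pt B))
    (hnat : ∀ ⦃B B' : Alg A⦄ (f : B ⟶ B') (x : F.obj (pt B)),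
      φ B' (F.map (ptHom f) x) = G.map (ptHom f) (φ B x))
    (hadd : ∀ (B : Alg A) (x y : F.obj (pt B)), φ B (x + y) = φ B x + φ B y)
    (hunit : ∀ (B : Alg A) (v : (B : Type u)ˣ) (x : F.obj (pt B)), φ B ((v : B) • x) = (v : B) • φ B x)
    (hG : ∀ ⦃B B' : Alg A⦄ (f : B ⟶ B'), f.hom.toRingHom.Flat → IsIso (G.bc f))
    (B : Alg A) (b : B) (x : F.obj (pt B)) : φ B (b • x) = b • φ B x := by
  let B' : Alg A := algOf A (Bp B b)
  let f : B ⟶ B' := CommAlgCat.ofHom (IsScalarTower.toAlgHom A B (Bp B b))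
  have hfb : ∀ c : B, f.hom c = algebraMap B (Bp B b) c := fun c => rfl
  have hff : @Module.FaithfullyFlat B B' _ _ (f.hom.toRingHom.toAlgebra).toModule :=
    ff_of_eq (f.hom.toRingHom.toAlgebra) (inferInstance : Algebra B (Bp B b)) (fun r => rfl)
      (faithfullyFlat B b)
  have hflat : f.hom.toRingHom.Flat := by
    have := hff
    exact @Module.FaithfullyFlat.toFlat B B' _ _ (f.hom.toRingHom.toAlgebra).toModule hff
  have hinj := map_injective_of_ff G f hff (hG f hflat)
  -- additivity consequences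
  have hφ0 : ∀ C : Alg A, φ C 0 = 0 := fun C => by
    have := hadd C 0 0
    rw [add_zero] at this
    exact left_eq_add.mp this
  have hφneg : ∀ (C : Alg A) (y : F.obj (pt C)), φ C (-y) = -φ C y := fun C y => by
    have := hadd C y (-y)
    rw [add_neg_cancel, hφ0] at this
    exact (neg_eq_of_add_eq_zero_right this.symm).symm
  have hφsub : ∀ (C : Alg A) (y z : F.obj (pt C)), φ C (y - z) = φ C y - φ C z := fun C y z => by
    rw [sub_eq_add_neg, hadd, hφneg, ← sub_eq_add_neg]
  obtain ⟨v₁, hv₁⟩ := isUnit_X B b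
  obtain ⟨v₂, hv₂⟩ := isUnit_X_add B b
  have hb : f.hom b = (v₂ : Bp B b) - (v₁ : Bp B b) := by
    rw [hfb, algebraMap_eq_sub, hv₁, hv₂]
  have key : ∀ ξ : F.obj (pt B'), φ B' ((f.hom b) • ξ) = (f.hom b) • φ B' ξ := by
    intro ξ
    rw [hb, sub_smul, sub_smul, hφsub]
    rw [hunit B' v₂ ξ, hunit B' v₁ ξ]
  apply hinj
  change mapEl G f (φ B (b • x)) = mapEl G f (b • φ B x)
  rw [mapEl_smul]
  have h1 : mapEl G f (φ B (b • x)) = φ B' (mapEl F f (b • x)) := (hnat f (b • x)).symm
  have h2 : mapEl G f (φ B x) = φ B' (mapEl F f x) := (hnat f x).symm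
  rw [h1, h2, mapEl_smul, key]

/-- Let `F`, `G` be module-valued functors on `A`-algebras and `φ` a transformation of the underlying
set-valued functors which is additive and satisfies `φ(uξ) = uφ(ξ)` for units `u`. If `B' ⊗_B G(B) →
G(B')` is an isomorphism for every flat `B → B'`, then `φ` is `B`-linear for every `B`, i.e. a
morphism of module-valued functors. -/
theorem result (A : Type u) [CommRing A] (F G : Adeq.MVF A)
    (φ : ∀ B : Adeq.Alg A, F.obj (Adeq.pt B) → G.obj (Adeq.pt B))
    (hnat : ∀ ⦃B B' : Adeq.Alg A⦄ (f : B ⟶ B') (x : F.obj (Adeq.pt B)),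
      φ B' (F.map (Adeq.ptHom f) x) = G.map (Adeq.ptHom f) (φ B x))
    (hadd : ∀ (B : Adeq.Alg A) (x y : F.obj (Adeq.pt B)), φ B (x + y) = φ B x + φ B y)
    (hunit : ∀ (B : Adeq.Alg A) (v : (B : Type u)ˣ) (x : F.obj (Adeq.pt B)), φ B ((v : B) • x) = (v : B) • φ B x)
    (hG : ∀ ⦃B B' : Adeq.Alg A⦄ (f : B ⟶ B'), f.hom.toRingHom.Flat → IsIso (G.bc f))
    (B : Adeq.Alg A) (b : B) (x : F.obj (Adeq.pt B)) : φ B (b • x) = b • φ B x := by
  exact main F G φ hnat hadd hunit hG B b x

end Groth.Agent.S8746
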