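import Groth.Statements.S8749
import Mathlib
import Groth.Agent.Lib.Helper13AdeqA
import Groth.Agent.Lib.Helper13AdeqD

set_option autoImplicit false
universe u
open CategoryTheory Limits
open Adeq

namespace Groth.Agent.S8749
open TensorProduct Opposite Adeq
open Groth.Agent.Helper13Adeq

variable (A A' : Type u) [CommRing A] [CommRing A'] [Algebra A A']

/-- `B'` as an `A`-algebra -/
abbrev rA (B' : Alg A') : Alg A := (Alg.restr A A').obj B'

instance algA' (B' : Alg A') : Algebra A' (rA A A' B') := B'.algebra

instance tower (B' : Alg A') : IsScalarTower A A' (rA A A' B') :=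
  IsScalarTower.of_algebraMap_eq (fun _ => rfl)

/-- the comparison `B' ⊗[A] M ≃ B' ⊗[A'] (A' ⊗[A] M)` -/
noncomputable def eM (M : Type (u+1)) [AddCommGroup M] [Module A M] (B' : Alg A') :
    (rA A A' B') ⊗[A] M ≃ₗ[rA A A' B'] (rA A A' B') ⊗[A'] (A' ⊗[A] M) :=
  (AlgebraTensorModule.cancelBaseChange A A' (rA A A' B') (rA A A' B') M).symm

theorem eM_tmul (M : Type (u+1)) [AddCommGroup M] [Module A M] (B' : Alg A') (b : rA A A' B') (m : M) :
    eM A A' M B' (b ⊗ₜ m) = b ⊗ₜ (1 ⊗ₜ m) := rfl

variable {A}

/-- the restricted embedding -/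
noncomputable def iRestr (F : MVF A) (M : ModuleCat.{u+1} A) (i : F ⟶ (underline A).obj M) :
    (Adeq.restr A A').obj F ⟶ (underline A').obj (ModuleCat.of A' (A' ⊗[A] M)) :=
  PresheafOfModules.homMk
    { app := fun X => AddCommGrpCat.ofHom
        ((eM A A' M X.unop.unop).toLinearMap.toAddMonoidHom.comp
          (i.app (pt (rA A A' X.unop.unop))).hom.toAddMonoidHom)
      naturality := by
        intro X Y f
        ext x
        change eM A A' M Y.unop.unop (i.app (pt (rA A A' Y.unop.unop))
            (mapEl F ((Alg.restr A A').map f.unop.unop) x)) =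
          (f.unop.unop.hom.toLinearMap.rTensor (A' ⊗[A] M))
            (eM A A' M X.unop.unop (i.app (pt (rA A A' X.unop.unop)) x))
        rw [app_mapEl, underline_mapEl]
        generalize i.app (pt (rA A A' X.unop.unop)) x = y
        induction y using TensorProduct.induction_on with
        | zero => simp
        | tmul b m => rfl
        | add y z hy hz => simp only [map_add, hy, hz] }
    (by
      intro X r m
      change eM A A' M X.unop.unop (i.app (pt (rA A A' X.unop.unop)) (r • m)) =
        r • eM A A' M X.unop.unop (i.app (pt (rA A A' X.unop.unop)) m)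
      rw [← map_smul]
      congr 1
      exact app_smul i (rA A A' X.unop.unop) r m)

theorem iRestr_app_apply (F : MVF A) (M : ModuleCat.{u+1} A) (i : F ⟶ (underline A).obj M)
    (B' : Alg A') (x : F.obj (pt (rA A A' B'))) :
    (iRestr A' F M i).app (pt B') x = eM A A' M B' (i.app (pt (rA A A' B')) x) := rfl

theorem baseChange_eM {M N : Type (u+1)} [AddCommGroup M] [Module A M] [AddCommGroup N] [Module A N]
    (φ : M →ₗ[A] N) (B' : Alg A') (z : (rA A A' B') ⊗[A] M) :
    ((φ.baseChange A').baseChange (rA A A' B')) (eM A A' M B' z) =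
      eM A A' N B' ((φ.baseChange (rA A A' B')) z) := by
  induction z using TensorProduct.induction_on with
  | zero => simp only [map_zero]
  | tmul b m => rfl
  | add y z hy hz => simp only [map_add, hy, hz]

theorem main (F : MVF A) (hF : adequate A F) : adequate A' ((Adeq.restr A A').obj F) := by
  rw [adequate_iff] at hF ⊢
  obtain ⟨M, N, φ, i, hi, hex⟩ := hF
  refine ⟨ModuleCat.of A' (A' ⊗[A] M), ModuleCat.of A' (A' ⊗[A] N),
    ModuleCat.ofHom (φ.hom.baseChange A'), iRestr A' F M i, fun B' => ?_, fun B' => ?_⟩
  · intro x y hxy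
    rw [iRestr_app_apply, iRestr_app_apply] at hxy
    exact hi (rA A A' B') ((eM A A' M B').injective hxy)
  · intro y
    obtain ⟨z, rfl⟩ := (eM A A' M B').surjective y
    have h1 := hex (rA A A' B') z
    change ((φ.hom.baseChange A').baseChange (rA A A' B')) (eM A A' M B' z) = 0 ↔ _
    rw [baseChange_eM, LinearEquiv.map_eq_zero_iff]
    change ((underline A).map φ).app (pt (rA A A' B')) z = 0 ↔ _
    rw [h1]
    constructor
    · rintro ⟨x, rfl⟩
      exact ⟨x, rfl⟩
    · rintro ⟨x, hx⟩
      rw [iRestr_app_apply] at hx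
      exact ⟨x, (eM A A' M B').injective hx⟩

/-- For a ring map `A → A'` the restriction of an adequate functor on `A`-algebras to `A'`-algebras is
an adequate functor on `A'`-algebras. -/
theorem result (A A' : Type u) [CommRing A] [CommRing A'] [Algebra A A'] (F : Adeq.MVF A)
    (hF : Adeq.adequate A F) : Adeq.adequate A' ((Adeq.restr A A').obj F) := by
  exact main A' F hF

end Groth.Agent.S8749
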