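import Groth.Statements.S8750
import Mathlib
import Groth.Agent.Lib.Helper13AdeqA
import Groth.Agent.Lib.Helper13AdeqD

set_option autoImplicit false
universe u
open CategoryTheory Limits
open Adeq

namespace Groth.Agent.S8750
open TensorProduct Opposite Adeq
open Groth.Agent.Helper13Adeq

variable (A A' : Type u) [CommRing A] [CommRing A'] [Algebra A A']

/-- `A' ⊗ B` as an `A'`-algebra -/
abbrev bc (B : Alg A) : Alg A' := (Alg.baseChange A A').obj B

/-- the comparison `(A' ⊗[A] B) ⊗[A'] M' ≃ B ⊗[A] M'` -/
noncomputable def eP (M' : Type (u+1)) [AddCommGroup M'] [Module A' M'] [Module A M']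
    [IsScalarTower A A' M'] (B : Alg A) :
    (bc A A' B) ⊗[A'] M' ≃+ B ⊗[A] M' :=
  ((TensorProduct.comm A' (A' ⊗[A] B) M').toAddEquiv.trans
    (AlgebraTensorModule.cancelBaseChange A A' A' M' B).toAddEquiv).trans
    (TensorProduct.comm A M' B).toAddEquiv

theorem eP_tmul (M' : Type (u+1)) [AddCommGroup M'] [Module A' M'] [Module A M']
    [IsScalarTower A A' M'] (B : Alg A) (a' : A') (b : B) (m : M') :
    eP A A' M' B ((a' ⊗ₜ[A] b) ⊗ₜ[A'] m) = b ⊗ₜ[A] (a' • m) := rfl

section unbundled
variable {A A'}
variable (M' : Type (u+1)) [AddCommGroup M'] [Module A' M'] [Module A M'] [IsScalarTower A A' M']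

theorem eP_natural {B B₂ : Alg A} (g : B ⟶ B₂) (y : (bc A A' B) ⊗[A'] M') :
    eP A A' M' B₂ ((((Alg.baseChange A A').map g).hom.toLinearMap.rTensor M') y) =
      (g.hom.toLinearMap.rTensor M') (eP A A' M' B y) := by
  induction y using TensorProduct.induction_on with
  | zero => simp only [map_zero]
  | tmul c m =>
    induction c using TensorProduct.induction_on with
    | zero => simp only [zero_tmul, map_zero]
    | tmul a' b => rfl
    | add c d hc hd => simp only [add_tmul, map_add, hc, hd]
  | add y z hy hz => simp only [map_add, hy, hz]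

theorem eP_smul (B : Alg A) (r : B) (y : (bc A A' B) ⊗[A'] M') :
    eP A A' M' B ((((1 : A') ⊗ₜ[A] r : A' ⊗[A] B) : bc A A' B) • y) = r • eP A A' M' B y := by
  induction y using TensorProduct.induction_on with
  | zero => simp only [smul_zero, map_zero]
  | tmul c m =>
    induction c using TensorProduct.induction_on with
    | zero => simp only [zero_tmul, smul_zero, map_zero]
    | tmul a' b =>
      rw [TensorProduct.smul_tmul']
      change eP A A' M' B ((((1 : A') ⊗ₜ[A] r) * (a' ⊗ₜ[A] b)) ⊗ₜ[A'] m) = _
      rw [Algebra.TensorProduct.tmul_mul_tmul, one_mul, eP_tmul, eP_tmul, TensorProduct.smul_tmul']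
      rfl
    | add c d hc hd => simp only [add_tmul, smul_add, map_add, hc, hd]
  | add y z hy hz => simp only [smul_add, map_add, hy, hz]

theorem eP_baseChange {N' : Type (u+1)} [AddCommGroup N'] [Module A' N'] [Module A N']
    [IsScalarTower A A' N'] (φ' : M' →ₗ[A'] N') (B : Alg A) (y : (bc A A' B) ⊗[A'] M') :
    ((φ'.restrictScalars A).baseChange B) (eP A A' M' B y) =
      eP A A' N' B ((φ'.baseChange (bc A A' B)) y) := by
  induction y using TensorProduct.induction_on with
  | zero => simp only [map_zero]
  | tmul c m =>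
    induction c using TensorProduct.induction_on with
    | zero => simp only [zero_tmul, map_zero]
    | tmul a' b =>
      rw [eP_tmul, LinearMap.baseChange_tmul, LinearMap.baseChange_tmul, eP_tmul]
      simp
    | add c d hc hd => simp only [add_tmul, map_add, hc, hd]
  | add y z hy hz => simp only [map_add, hy, hz]

end unbundled

variable {A'}

/-- the restricted module -/
noncomputable abbrev MA (M' : ModuleCat.{u+1} A') : ModuleCat.{u+1} A :=
  (ModuleCat.restrictScalars (algebraMap A A')).obj M'

instance (M' : ModuleCat.{u+1} A') : Module A' (MA A M') := M'.isModule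

instance (M' : ModuleCat.{u+1} A') : IsScalarTower A A' (MA A M') :=
  ⟨fun a a' m => by
    change (a • a') • (show M' from m) = algebraMap A A' a • (a' • (show M' from m))
    rw [Algebra.smul_def, mul_smul]⟩

/-- the pushed embedding -/
noncomputable def iPush (F' : MVF A') (M' : ModuleCat.{u+1} A') (i : F' ⟶ (underline A').obj M') :
    (Adeq.push A A').obj F' ⟶ (underline A).obj (MA A M') :=
  PresheafOfModules.homMk
    { app := fun X => AddCommGrpCat.ofHom
        ((eP A A' (MA A M') X.unop.unop).toAddMonoidHom.comp
          (i.app (pt (bc A A' X.unop.unop))).hom.toAddMonoidHom)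
      naturality := by
        intro X Y f
        ext x
        change eP A A' (MA A M') Y.unop.unop (i.app (pt (bc A A' Y.unop.unop))
            (mapEl F' ((Alg.baseChange A A').map f.unop.unop) x)) =
          (f.unop.unop.hom.toLinearMap.rTensor (MA A M'))
            (eP A A' (MA A M') X.unop.unop (i.app (pt (bc A A' X.unop.unop)) x))
        rw [app_mapEl, underline_mapEl]
        exact eP_natural (MA A M') f.unop.unop _ }
    (by
      intro X r m
      change eP A A' (MA A M') X.unop.unop (i.app (pt (bc A A' X.unop.unop))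
          ((((1 : A') ⊗ₜ[A] r : A' ⊗[A] X.unop.unop) : bc A A' X.unop.unop) •
            (show F'.obj (pt (bc A A' X.unop.unop)) from m))) =
        r • eP A A' (MA A M') X.unop.unop (i.app (pt (bc A A' X.unop.unop))
          (show F'.obj (pt (bc A A' X.unop.unop)) from m))
      rw [app_smul]
      exact eP_smul (MA A M') X.unop.unop r _)

theorem iPush_app_apply (F' : MVF A') (M' : ModuleCat.{u+1} A') (i : F' ⟶ (underline A').obj M')
    (B : Alg A) (x : F'.obj (pt (bc A A' B))) :
    (iPush A F' M' i).app (pt B) x = eP A A' (MA A M') B (i.app (pt (bc A A' B)) x) := rfl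

theorem main (F' : MVF A') (hF' : adequate A' F') : adequate A ((Adeq.push A A').obj F') := by
  rw [adequate_iff] at hF' ⊢
  obtain ⟨M', N', φ', i, hi, hex⟩ := hF'
  refine ⟨MA A M', MA A N', (ModuleCat.restrictScalars (algebraMap A A')).map φ',
    iPush A F' M' i, fun B => ?_, fun B => ?_⟩
  · intro x y hxy
    rw [iPush_app_apply, iPush_app_apply] at hxy
    exact hi (bc A A' B) ((eP A A' (MA A M') B).injective hxy)
  · intro y
    obtain ⟨z, rfl⟩ := (eP A A' (MA A M') B).surjective y
    have h1 := hex (bc A A' B) z
    let ψ : (MA A M') →ₗ[A'] (MA A N') := φ'.hom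
    change ((ψ.restrictScalars A).baseChange B) (eP A A' (MA A M') B z) = 0 ↔ _
    rw [eP_baseChange, AddEquiv.map_eq_zero_iff]
    change ((underline A').map φ').app (pt (bc A A' B)) z = 0 ↔ _
    rw [h1]
    constructor
    · rintro ⟨x, rfl⟩
      exact ⟨x, rfl⟩
    · rintro ⟨x, hx⟩
      rw [iPush_app_apply] at hx
      exact ⟨x, (eP A A' (MA A M') B).injective hx⟩

/-- For a ring map `A → A'` and an adequate functor `F'` on `A'`-algebras, the functor `B ↦ F'(A' ⊗_A
B)` on `A`-algebras is adequate. -/
theorem result (A A' : Type u) [CommRing A] [CommRing A'] [Algebra A A'] (F' : Adeq.MVF A')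
    (hF' : Adeq.adequate A' F') : Adeq.adequate A ((Adeq.push A A').obj F') := by
  exact main A F' hF'

end Groth.Agent.S8750
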