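import Groth.Statements.S8751
import Mathlib
import Groth.Agent.Lib.Helper13AdeqA
import Groth.Agent.Lib.Helper13AdeqD
import Groth.Agent.Lib.R2H4AdeqCoker
import Groth.Agent.S8749
import Groth.Agent.S8750

set_option autoImplicit false
universe u
open CategoryTheory Limits
open Adeq

namespace Groth.Agent.S8751

open TensorProduct Opposite
open Groth.Agent.Helper13Adeq Groth.Agent.Lib.R2H4.AdeqCoker

section helpers
variable (A A' : Type u) [CommRing A] [CommRing A'] [Algebra A A']

/-- `A' ⊗ B` regarded as an `A`-algebra -/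
abbrev rb (B : Alg A) : Alg A := (Alg.restr A A').obj ((Alg.baseChange A A').obj B)

theorem unit_naturality {B B₂ : Alg A} (g : B ⟶ B₂) :
    g ≫ Alg.unit A A' B₂ =
      Alg.unit A A' B ≫ (Alg.restr A A').map ((Alg.baseChange A A').map g) := by
  ext
  rfl

/-- the unit `F ⟶ push (restr F)` -/
noncomputable def eta (F : MVF A) : F ⟶ (Adeq.push A A').obj ((Adeq.restr A A').obj F) :=
  PresheafOfModules.homMk
    { app := fun X => AddCommGrpCat.ofHom
        (F.map (ptHom (Alg.unit A A' X.unop.unop))).hom.toAddMonoidHom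
      naturality := by
        intro X Y f
        ext x
        change mapEl F (Alg.unit A A' Y.unop.unop) (mapEl F f.unop.unop x) =
          mapEl F ((Alg.restr A A').map ((Alg.baseChange A A').map f.unop.unop))
            (mapEl F (Alg.unit A A' X.unop.unop) x)
        rw [← mapEl_comp, ← mapEl_comp, unit_naturality] }
    (by
      intro X r m
      exact mapEl_smul F (Alg.unit A A' X.unop.unop) r m)

theorem eta_app_apply (F : MVF A) (B : Alg A) (x : F.obj (pt B)) :
    (eta A A' F).app (pt B) x = mapEl F (Alg.unit A A' B) x := rfl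

end helpers

/-- Let `A → A'` be a ring map and `F` a module-valued functor on `A`-algebras. If the restriction of
`F` to `A'`-algebras is adequate and for every `A`-algebra `B` the sequence `0 → F(B) → F(A' ⊗_A B)
→ F(A' ⊗_A A' ⊗_A B)` is exact (the first map injective with image the equalizer of the two coface
maps), then `F` is adequate. -/
theorem result (A A' : Type u) [CommRing A] [CommRing A'] [Algebra A A']
    (F : Adeq.MVF A) (h₁ : Adeq.adequate A' ((Adeq.restr A A').obj F))
    (h₂ : ∀ B : Adeq.Alg A, Function.Injective (F.map (Adeq.ptHom (Adeq.Alg.unit A A' B))) ∧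
      ∀ y : F.obj (Adeq.pt ((Adeq.Alg.restr A A').obj ((Adeq.Alg.baseChange A A').obj B))),
        F.map (Adeq.ptHom (Adeq.Alg.unit A A' ((Adeq.Alg.restr A A').obj ((Adeq.Alg.baseChange A A').obj B)))) y =
          F.map (Adeq.ptHom ((Adeq.Alg.restr A A').map ((Adeq.Alg.baseChange A A').map (Adeq.Alg.unit A A' B)))) y →
        y ∈ Set.range (F.map (Adeq.ptHom (Adeq.Alg.unit A A' B)))) :
    Adeq.adequate A F := by
  let G₁ : MVF A := (Adeq.push A A').obj ((Adeq.restr A A').obj F)
  let G₂ : MVF A := (Adeq.push A A').obj ((Adeq.restr A A').obj G₁)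
  have hG₁ : adequate A G₁ := Groth.Agent.S8750.result A A' _ h₁
  have hG₂ : adequate A G₂ :=
    Groth.Agent.S8750.result A A' _ (Groth.Agent.S8749.result A A' G₁ hG₁)
  let β₁ : G₁ ⟶ G₂ := (Adeq.push A A').map ((Adeq.restr A A').map (eta A A' F))
  let β₂ : G₁ ⟶ G₂ := eta A A' G₁
  have hβ₁ : ∀ (B : Alg A) (y : F.obj (pt (rb A A' B))),
      β₁.app (pt B) y = mapEl F (Alg.unit A A' (rb A A' B)) y := fun B y => rfl
  have hβ₂ : ∀ (B : Alg A) (y : F.obj (pt (rb A A' B))),
      β₂.app (pt B) y =
        mapEl F ((Alg.restr A A').map ((Alg.baseChange A A').map (Alg.unit A A' B))) y :=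
    fun B y => rfl
  have hK : adequate A (kernel (β₁ - β₂)) := adequate_kernel (β₁ - β₂) hG₁ hG₂
  refine (adequate A).prop_of_iso (PshMod.isoKernel (eta A A' F) (β₁ - β₂) (fun X => ?_)
    (fun X => ?_)).symm hK
  · exact (h₂ X.unop.unop).1
  · intro y
    change β₁.app (pt X.unop.unop) y - β₂.app (pt X.unop.unop) y = 0 ↔ _
    rw [sub_eq_zero]
    constructor
    · intro h
      exact (h₂ X.unop.unop).2 y h
    · rintro ⟨x, rfl⟩
      change β₁.app (pt X.unop.unop) (mapEl F (Alg.unit A A' X.unop.unop) x) =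
        β₂.app (pt X.unop.unop) (mapEl F (Alg.unit A A' X.unop.unop) x)
      rw [hβ₁, hβ₂, ← mapEl_comp, ← mapEl_comp, unit_naturality]

end Groth.Agent.S8751
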