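import Groth.Statements.S8850

set_option autoImplicit false
universe u
open CategoryTheory CategoryTheory.Limits AlgebraicGeometry TopologicalSpace
open SDiv

namespace Groth.Agent.S8850


theorem key_claim {V P : Scheme.{u}} (Γ : V ⟶ P) [IsImmersion Γ] [QuasiCompact Γ]
    (W : P.Opens) (ΓW : V ⟶ W) (hΓW' : ΓW ≫ W.ι = Γ) [IsClosedImmersion ΓW]
    (x' : Γ.image) (hx' : Γ.imageι x' ∈ W) : x' ∈ Set.range Γ.toImage := by
  have hti : Γ.toImage ≫ Γ.imageι = Γ := Γ.toImage_imageι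
  have h1 : Γ.imageι x' ∈ closure (Set.range Γ) := by
    have hd : DenseRange Γ.toImage := Γ.toImage.denseRange
    have hx : x' ∈ closure (Set.range Γ.toImage) := hd x'
    have h2 := image_closure_subset_closure_image Γ.imageι.continuous ⟨x', hx, rfl⟩
    rw [← Set.range_comp] at h2
    have h3 : ((Γ.imageι : _ → _) ∘ (Γ.toImage : _ → _)) = (Γ : _ → _) := by
      funext v
      exact (Scheme.Hom.comp_apply Γ.toImage Γ.imageι v).symm.trans (by rw [hti])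
    rwa [h3] at h2
  have h3 : (⟨Γ.imageι x', hx'⟩ : W) ∈ Set.range ΓW := by
    have hcl : IsClosed (Set.range ΓW) := ΓW.isClosedEmbedding.isClosed_range
    rw [← hcl.closure_eq, W.ι.isEmbedding.isInducing.closure_eq_preimage_closure_image]
    show W.ι ⟨Γ.imageι x', hx'⟩ ∈ closure (W.ι '' Set.range ΓW)
    rw [← Set.range_comp]
    have h4 : ((W.ι : _ → _) ∘ (ΓW : _ → _)) = (Γ : _ → _) := by
      funext v
      exact (Scheme.Hom.comp_apply ΓW W.ι v).symm.trans (by rw [hΓW'])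
    rw [h4]; exact h1
  obtain ⟨v, hv⟩ := h3
  refine ⟨v, ?_⟩
  apply Γ.imageι.isEmbedding.injective
  have h5 : Γ.imageι (Γ.toImage v) = Γ v :=
    (Scheme.Hom.comp_apply Γ.toImage Γ.imageι v).symm.trans (by rw [hti])
  have h7 : W.ι (ΓW v) = Γ v :=
    (Scheme.Hom.comp_apply ΓW W.ι v).symm.trans (by rw [hΓW'])
  rw [h5, ← h7, hv]
  rfl

theorem aux {X Y S P : Scheme.{u}} [IsNoetherian X] (a : X ⟶ S) (b : Y ⟶ S)
    (fst : P ⟶ X) (snd : P ⟶ Y) (hc : fst ≫ a = snd ≫ b) [IsProper fst]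
    (U : X.Opens) (f : (U : Scheme.{u}) ⟶ Y) (Γ : (U : Scheme.{u}) ⟶ P)
    (hΓ1 : Γ ≫ fst = U.ι) (hΓ2 : Γ ≫ snd = f) :
    ∃ (X' : Scheme.{u}) (p : X' ⟶ X) (f' : X' ⟶ Y), IsProper p ∧ IsIso (p ∣_ U) ∧ f' ≫ b = p ≫ a ∧
      (p ⁻¹ᵁ U).ι ≫ f' = (p ∣_ U) ≫ f := by
  have : IsImmersion (Γ ≫ fst) := by rw [hΓ1]; infer_instance
  have : IsImmersion Γ := IsImmersion.of_comp Γ fst
  have : TopologicalSpace.NoetherianSpace ((U : Scheme.{u}) : Type u) :=
    (TopologicalSpace.NoetherianSpace.set (U : Set X) : TopologicalSpace.NoetherianSpace (U : Set X))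
  have : QuasiCompact Γ := quasiCompact_of_noetherianSpace_source Γ
  have hti : Γ.toImage ≫ Γ.imageι = Γ := Γ.toImage_imageι
  have : IsOpenImmersion Γ.toImage := inferInstance
  have : IsProper (Γ.imageι ≫ fst) := inferInstance
  have hΓW : Set.range Γ ⊆ SetLike.coe (fst ⁻¹ᵁ U) := by
    rintro _ ⟨v, rfl⟩
    show fst (Γ v) ∈ U
    rw [← Scheme.Hom.comp_apply, hΓ1]; exact v.2
  obtain ⟨ΓW, hΓW'⟩ : ∃ ΓW : (U : Scheme.{u}) ⟶ (fst ⁻¹ᵁ U : P.Opens), ΓW ≫ (fst ⁻¹ᵁ U).ι = Γ :=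
    ⟨IsOpenImmersion.lift (fst ⁻¹ᵁ U).ι Γ (by rw [Scheme.Opens.range_ι]; exact hΓW),
      IsOpenImmersion.lift_fac _ _ _⟩
  have hsec : ΓW ≫ (fst ∣_ U) = 𝟙 _ := by
    rw [← cancel_mono U.ι, Category.assoc, morphismRestrict_ι, reassoc_of% hΓW', hΓ1,
      Category.id_comp]
  have : IsClosedImmersion (ΓW ≫ (fst ∣_ U)) := by rw [hsec]; infer_instance
  have : IsClosedImmersion ΓW := IsClosedImmersion.of_comp ΓW (fst ∣_ U)
  have key : ∀ x' : Γ.image, fst (Γ.imageι x') ∈ U → x' ∈ Set.range Γ.toImage :=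
    fun x' hx' => key_claim Γ (fst ⁻¹ᵁ U) ΓW hΓW' x' hx'
  have hrange : Set.range Γ.toImage ⊆ Set.range ((Γ.imageι ≫ fst) ⁻¹ᵁ U).ι := by
    rw [Scheme.Opens.range_ι]
    rintro _ ⟨v, rfl⟩
    show (Γ.imageι ≫ fst) (Γ.toImage v) ∈ U
    rw [← Scheme.Hom.comp_apply, reassoc_of% hti, hΓ1]
    exact v.2
  obtain ⟨t', ht'⟩ : ∃ t' : (U : Scheme.{u}) ⟶ ((Γ.imageι ≫ fst) ⁻¹ᵁ U : Γ.image.Opens),
      t' ≫ ((Γ.imageι ≫ fst) ⁻¹ᵁ U).ι = Γ.toImage :=
    ⟨IsOpenImmersion.lift ((Γ.imageι ≫ fst) ⁻¹ᵁ U).ι Γ.toImage hrange,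
      IsOpenImmersion.lift_fac _ _ _⟩
  have h1 : t' ≫ ((Γ.imageι ≫ fst) ∣_ U) = 𝟙 _ := by
    rw [← cancel_mono U.ι, Category.assoc, morphismRestrict_ι, reassoc_of% ht',
      Category.id_comp, reassoc_of% hti, hΓ1]
  have : IsOpenImmersion t' := by
    have : IsOpenImmersion (t' ≫ ((Γ.imageι ≫ fst) ⁻¹ᵁ U).ι) := by
      rw [ht']; infer_instance
    exact IsOpenImmersion.of_comp t' ((Γ.imageι ≫ fst) ⁻¹ᵁ U).ι
  have : Surjective t' := ⟨by
    intro z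
    obtain ⟨v, hv⟩ := key (((Γ.imageι ≫ fst) ⁻¹ᵁ U).ι z) z.2
    refine ⟨v, ?_⟩
    apply ((Γ.imageι ≫ fst) ⁻¹ᵁ U).ι.isEmbedding.injective
    rw [← hv, ← Scheme.Hom.comp_apply, ht']⟩
  have : IsIso t' := (isIso_iff_isOpenImmersion_and_surjective t').mpr ⟨inferInstance, inferInstance⟩
  have hinv : (Γ.imageι ≫ fst) ∣_ U = inv t' := by
    rw [← cancel_epi t', h1, IsIso.hom_inv_id]
  refine ⟨Γ.image, Γ.imageι ≫ fst, Γ.imageι ≫ snd, inferInstance, ?_, ?_, ?_⟩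
  · rw [hinv]; infer_instance
  · rw [Category.assoc, Category.assoc, hc]
  · rw [← cancel_epi t', reassoc_of% ht', reassoc_of% h1, reassoc_of% hti, hΓ2]

/-- Let S be a scheme, X a Noetherian S-scheme, Y a proper S-scheme, U ⊆ X an open subscheme and f : U ⟶
Y a morphism compatible with the structure morphisms to S. Then there are a proper morphism p : X' ⟶
X restricting to an isomorphism over U and an S-morphism f' : X' ⟶ Y whose restriction to p⁻¹(U) is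
f composed with p. The published statement takes U dense, so that f is an S-rational map; this row
allows any open U, which its proof does not need. -/
theorem result {X Y S : Scheme.{u}} [IsNoetherian X] (a : X ⟶ S) (b : Y ⟶ S)
    [IsProper b] (U : X.Opens) (f : (U : Scheme.{u}) ⟶ Y) (hf : f ≫ b = U.ι ≫ a) :
    ∃ (X' : Scheme.{u}) (p : X' ⟶ X) (f' : X' ⟶ Y), IsProper p ∧ IsIso (p ∣_ U) ∧ f' ≫ b = p ≫ a ∧
      (p ⁻¹ᵁ U).ι ≫ f' = (p ∣_ U) ≫ f := by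
  classical
  have : IsProper (pullback.fst a b) := inferInstance
  exact aux a b (pullback.fst a b) (pullback.snd a b) pullback.condition U f
    (pullback.lift U.ι f hf.symm) (pullback.lift_fst _ _ _) (pullback.lift_snd _ _ _)

end Groth.Agent.S8850
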