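import Groth.Statements.S8858
import Mathlib
import Groth.Agent.Lib.H9BlowComp

set_option autoImplicit false
universe u
open CategoryTheory CategoryTheory.Limits AlgebraicGeometry TopologicalSpace
open SDiv

namespace Groth.Agent.S8858

/-- Let X be a quasi-compact and quasi-separated scheme, U ⊆ X a quasi-compact open subscheme, and b_i :
X_i ⟶ X, i < n, blowing ups of X in quasi-coherent ideal sheaves 𝓘_i of finite type with support
disjoint from U (U-admissible blow-ups). Then there is a U-admissible blow-up c : X' ⟶ X such that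
(a) c factors as X' ⟶ X_i ⟶ X for every i, and (b) each factor X' ⟶ X_i is a blowing up of X_i in a
quasi-coherent ideal sheaf of finite type whose support is disjoint from the inverse image of U. -/
theorem result (X : Scheme.{u}) [CompactSpace ↥X] [QuasiSeparatedSpace ↥X]
    (U : X.Opens) (hU : IsCompact (U : Set ↥X)) {n : ℕ} (Xi : Fin n → Scheme.{u}) (b : ∀ i, Xi i ⟶ X)
    (𝓘 : Fin n → X.IdealSheafData) (hb : ∀ i, BlowUp.IsBlowUp (b i) (𝓘 i)) (ha : ∀ i, BlowUp.IsAdmissibleFor U (𝓘 i)) :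
    ∃ (𝓙 : X.IdealSheafData) (X' : Scheme.{u}) (c : X' ⟶ X), BlowUp.IsBlowUp c 𝓙 ∧ BlowUp.IsAdmissibleFor U 𝓙 ∧
      ∀ i, ∃ (g : X' ⟶ Xi i) (𝓚 : (Xi i).IdealSheafData), g ≫ b i = c ∧ BlowUp.IsBlowUp g 𝓚 ∧
        BlowUp.IsAdmissibleFor ((b i) ⁻¹ᵁ U) 𝓚 := by
  classical
  have hadm : ∀ s : Finset (Fin n), BlowUp.IsAdmissibleFor U (∏ j ∈ s, 𝓘 j) := by
    intro s
    refine Finset.prod_induction 𝓘 (fun 𝓚 => BlowUp.IsAdmissibleFor U 𝓚) ?_ ?_ (fun j _ => ha j)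
    · rintro I₁ I₂ ⟨h1, h1'⟩ ⟨h2, h2'⟩
      refine ⟨fun V => ?_, ?_⟩
      · rw [Scheme.IdealSheafData.ideal_mul]
        exact Ideal.FG.mul (h1 V) (h2 V)
      · rw [Scheme.IdealSheafData.support_mul]
        change Disjoint ((I₁.support : Set X) ∪ (I₂.support : Set X)) (U : Set X)
        exact Disjoint.union_left h1' h2'
    · refine ⟨fun V => ?_, ?_⟩
      · change (⊤ : Ideal Γ(X, V.1)).FG
        exact ⟨{1}, by simp⟩
      · change Disjoint (∅ : Set X) (U : Set X)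
        exact Set.empty_disjoint _
  obtain ⟨X', c, hc⟩ := Groth.Agent.Lib.H9BlowExist.exists_isBlowUp (∏ j, 𝓘 j)
  refine ⟨∏ j, 𝓘 j, X', c, hc, hadm Finset.univ, fun i => ?_⟩
  have hmul : 𝓘 i * ∏ j ∈ Finset.univ.erase i, 𝓘 j = ∏ j, 𝓘 j :=
    Finset.mul_prod_erase _ _ (Finset.mem_univ i)
  obtain ⟨X'', b', hb'⟩ := Groth.Agent.Lib.H9BlowExist.exists_isBlowUp
    ((∏ j ∈ Finset.univ.erase i, 𝓘 j).comap (b i))
  have hcomp := Groth.Agent.Lib.H9BlowComp.isBlowUp_comp_mul (𝓘 i)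
    (∏ j ∈ Finset.univ.erase i, 𝓘 j) (b i) (hb i) b' hb'
  rw [hmul] at hcomp
  obtain ⟨ε, hε⟩ := Groth.Agent.Lib.H9BlowProper.exists_iso_of_isBlowUp c (b' ≫ b i) _ hc hcomp
  refine ⟨ε.hom ≫ b', (∏ j ∈ Finset.univ.erase i, 𝓘 j).comap (b i), ?_, ?_, ?_, ?_⟩
  · rw [Category.assoc, hε]
  · exact Groth.Agent.Lib.H9BlowComp.isBlowUp_iso_comp b' _ hb' ε
  · exact Groth.Agent.Lib.H9BlowComp.isFiniteTypeIdeal_comap _ (hadm _).1 (b i)
  · rw [Scheme.IdealSheafData.support_comap]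
    exact Disjoint.preimage (fun y => (b i) y) (hadm (Finset.univ.erase i)).2

end Groth.Agent.S8858
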