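import Groth.Statements.S8893
import Groth.Agent.Lib.H9RegImmFlatBC
import Groth.Agent.Lib.H9RegImmStalk
import Groth.Agent.Lib.H9QRegFlat

set_option autoImplicit false
universe u
open CategoryTheory CategoryTheory.Limits AlgebraicGeometry TopologicalSpace
open SDiv

namespace Groth.Agent.S8893

/-- Let f : X ⟶ S be a morphism of schemes and i : Z ⟶ X a relative quasi-regular immersion (a
quasi-regular immersion with Z flat over S). If z is a point of Z such that O_{X, i z} is
Noetherian, then f is flat at i z. -/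
theorem result {Z X S : Scheme.{u}} (f : X ⟶ S) (i : Z ⟶ X)
    (hi : RegImm.IsRelRegularImmersion RegImm.Kind.quasi f i) (z : ↥Z) [IsNoetherianRing ↑(X.presheaf.stalk (i z))] :
    (f.stalkMap (i z)).hom.Flat := by
  obtain ⟨⟨himm, hi'⟩, hflat⟩ := hi
  have := himm
  have := hflat
  obtain ⟨U, hz, hcl, rs, hrs, hker⟩ := hi' z
  have hU : IsAffineOpen U.1 := U.2
  have : IsAffine U.1.toScheme := hU
  have := hcl
  have hU' : IsAffineOpen (i ⁻¹ᵁ U.1) := isAffine_of_isAffineHom (i ∣_ U.1)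
  have hsurj := Groth.Agent.Lib.H9RegImmStalk.app_surjective_of_restrict i U.1
  have hsq : ∀ a, (Z.presheaf.germ (i ⁻¹ᵁ U.1) z hz).hom ((i.app U.1).hom a)
      = (i.stalkMap z).hom ((X.presheaf.germ U.1 (i z) hz).hom a) := fun a =>
    (i.germ_stalkMap_apply U.1 z hz a).symm
  have hk0 := Groth.Agent.Lib.Helper5.StalkSpec.ker_eq_map_of_isLocalization
    (X.presheaf.germ U.1 (i z) hz).hom (Z.presheaf.germ (i ⁻¹ᵁ U.1) z hz).hom (i.app U.1).hom
    (i.stalkMap z).hom hsq hsurj _ (hU.isLocalization_stalk ⟨i z, hz⟩) _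
    (hU'.isLocalization_stalk ⟨z, hz⟩)
  have hgflat : (X.presheaf.germ U.1 (i z) hz).hom.Flat := by
    let := (X.presheaf.germ U.1 (i z) hz).hom.toAlgebra
    have : IsLocalization.AtPrime (X.presheaf.stalk (i z)) (hU.primeIdealOf ⟨i z, hz⟩).asIdeal :=
      hU.isLocalization_stalk ⟨i z, hz⟩
    exact IsLocalization.flat _ (hU.primeIdealOf ⟨i z, hz⟩).asIdeal.primeCompl
  have hq : CAlgX.IsQuasiRegular rs.get := hrs
  have hq' := Groth.Agent.Lib.H9RegImmFlatBC.isQuasiRegular_map _ hgflat rs.get hq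
  have hk : RingHom.ker (i.stalkMap z).hom =
      Ideal.span (Set.range ((X.presheaf.germ U.1 (i z) hz).hom ∘ rs.get)) := by
    rw [hk0, hker, Groth.Agent.Lib.H9RegImmFlatBC.span_range_comp, Set.range_list_get]
  have hcomp : ((i.stalkMap z).hom).comp (f.stalkMap (i z)).hom = ((i ≫ f).stalkMap z).hom := by
    rw [Scheme.Hom.stalkMap_comp]
    rfl
  have hfl : (((i.stalkMap z).hom).comp (f.stalkMap (i z)).hom).Flat := by
    rw [hcomp]
    exact Flat.stalkMap (i ≫ f) z
  exact Groth.Agent.Lib.H9QRegFlat.flat_of_quasiRegular_quot (f.stalkMap (i z)).hom (i.stalkMap z).hom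
    (i.stalkMap_surjective z) hfl _ hq' hk

end Groth.Agent.S8893
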