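import Groth.Statements.S8916
import Groth.Agent.Lib.R2LeadJacJ

set_option autoImplicit false
universe u
open CategoryTheory CategoryTheory.Limits AlgebraicGeometry TopologicalSpace
open SDiv

namespace Groth.Agent.S8916

/-- Let f : X ⟶ S be flat, locally of finite presentation and quasi-separated, and d ≥ 0 such that all
irreducible components of each nonempty fibre of f have dimension d. Then the closed subset of X
defined by the Fitting ideal Fit_d(Ω_{X/S}) is exactly the set of points at which f is not smooth,
i.e. which have no open neighbourhood on which f is smooth. The published statement does not assume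
f quasi-separated; this row does, because the module Ω_{X/S} used here is defined for
quasi-separated f. -/
theorem result {X S : Scheme.{u}} (f : X ⟶ S) [Flat f] [LocallyOfFinitePresentation f] [QuasiSeparated f]
    (d : ℕ) (hdim : ∀ s : ↥S, ∀ T ∈ irreducibleComponents ↥(f.fiber s), topologicalKrullDim ↥T = d) (x : ↥X) :
    x ∈ (Fitt.sheafIdeal (Omega.sheaf f) d).support ↔ ¬ ∃ U : X.Opens, x ∈ U ∧ Smooth (U.ι ≫ f) := by
  have hfd : ∀ y : X, FlatMor.fibreDimAt f y = (d : WithBot ℕ∞) := fun y =>
    Groth.Agent.Lib.Helper4.DimFormula.fibreDimAt_eq_of_forall_irreducibleComponents f y d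
      (hdim (f y))
  constructor
  · rintro hx ⟨U, hxU, hU⟩
    exact Groth.Agent.Lib.R2LeadJacJ.notMem_support_of_smooth_nbhd f d hfd x U hxU hx
  · intro h
    by_contra hx
    exact h (Groth.Agent.Lib.R2LeadJacJ.exists_smooth_nbhd_of_notMem_support f d x (hfd x) hx)

end Groth.Agent.S8916
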