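import Groth.Statements.S8930
import Mathlib

set_option autoImplicit false
universe u
open AlgebraicGeometry
open Disc

namespace Groth.Agent.S8930

open CategoryTheory TensorProduct

/-- If `Spec B → Spec B'` is an open immersion and `C ⊆ B` is a subring containing the image of `B'`,
then `Spec B → Spec C` is an open immersion. -/
theorem isOpenImmersion_of_subring (B' B : Type u) [CommRing B'] [CommRing B] [Algebra B' B]
    (h' : IsOpenImmersion (Spec.map (CommRingCat.ofHom (algebraMap B' B))))
    (C : Subring B) (hC : ∀ x, algebraMap B' B x ∈ C) :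
    IsOpenImmersion (Spec.map (CommRingCat.ofHom C.subtype)) := by
  -- flatness and epi
  have hflat : Module.Flat B' B := by
    have : Flat (Spec.map (CommRingCat.ofHom (algebraMap B' B))) := inferInstance
    rw [Flat.SpecMap_iff] at this
    exact (RingHom.flat_algebraMap_iff).mp this
  have hepi : Algebra.IsEpi B' B := by
    rw [← CommRingCat.epi_iff_epi]
    have h1 : Mono (Scheme.Spec.map (CommRingCat.ofHom (algebraMap B' B)).op) :=
      (inferInstance : Mono (Spec.map (CommRingCat.ofHom (algebraMap B' B))))
    have h2 : Mono (CommRingCat.ofHom (algebraMap B' B)).op := Scheme.Spec.mono_of_mono_map h1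
    exact unop_epi_of_mono (CommRingCat.ofHom (algebraMap B' B)).op
  letI algC : Algebra B' C := ((algebraMap B' B).codRestrict C hC).toAlgebra
  letI algCB : Algebra C B := C.subtype.toAlgebra
  haveI : IsScalarTower B' C B := IsScalarTower.of_algebraMap_eq (fun x => rfl)
  -- the multiplication map
  let μ : C ⊗[B'] B →ₗ[C] B := AlgebraTensorModule.lift
    (LinearMap.restrictScalarsₗ B' C B B C ∘ₗ LinearMap.lsmul C B)
  have hμ : ∀ (c : C) (b : B), μ (c ⊗ₜ b) = (c : B) * b := fun c b => rfl
  let ι : C →ₗ[B'] B := (IsScalarTower.toAlgHom B' C B).toLinearMap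
  have hι : Function.Injective ι := Subtype.val_injective
  have hr : Function.Injective (ι.rTensor B) :=
    Module.Flat.rTensor_preserves_injective_linearMap ι hι
  have hfact : ∀ x : C ⊗[B'] B, μ x = TensorProduct.lid' B' B B (ι.rTensor B x) := by
    intro x
    induction x using TensorProduct.induction_on with
    | zero => simp
    | tmul c b => rw [hμ, LinearMap.rTensor_tmul, TensorProduct.lid'_apply_tmul]; rfl
    | add x y hx hy => rw [map_add, map_add, map_add, hx, hy]
  have hbij : Function.Bijective μ := by
    constructor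
    · intro x y hxy
      rw [hfact, hfact] at hxy
      exact hr ((TensorProduct.lid' B' B B).injective hxy)
    · intro b
      exact ⟨1 ⊗ₜ b, by rw [hμ]; simp⟩
  haveI hpush : Algebra.IsPushout B' C B B :=
    ⟨IsBaseChange.of_equiv (LinearEquiv.ofBijective μ hbij) (fun b => by
      show μ (1 ⊗ₜ b) = b
      rw [hμ]; simp)⟩
  have hsq := CommRingCat.isPushout_of_isPushout B' C B B
  have hpb := isPullback_SpecMap_of_isPushout _ _ _ _ hsq
  exact MorphismProperty.of_isPullback (P := @IsOpenImmersion) hpb.flip h'

/-- Given two factorizations A → B' → B and A → B'' → B of a ring map with A → B' and A → B'' finite and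
Spec(B) → Spec(B'), Spec(B) → Spec(B'') open immersions, there is an A-subalgebra C of B which is
finite over A, contains the images of B' and B'', and is such that Spec(B) → Spec(C) is an open
immersion. (Such an A → B is quasi-finite; that hypothesis of the published statement is implied by
the factorizations and is not repeated.) -/
theorem result (A B B' B'' : Type u) [CommRing A] [CommRing B] [CommRing B'] [CommRing B''] [Algebra A B] [Algebra A B'] [Algebra A B''] [Algebra B' B] [Algebra B'' B] [IsScalarTower A B' B] [IsScalarTower A B'' B] [Module.Finite A B'] [Module.Finite A B''] (h' : IsOpenImmersion (Spec.map (CommRingCat.ofHom (algebraMap B' B)))) (h'' : IsOpenImmersion (Spec.map (CommRingCat.ofHom (algebraMap B'' B)))) : ∃ C : Subalgebra A B, Module.Finite A C ∧ Set.range (algebraMap B' B) ⊆ (C : Set B) ∧ Set.range (algebraMap B'' B) ⊆ (C : Set B) ∧ IsOpenImmersion (Spec.map (CommRingCat.ofHom C.val.toRingHom)) := by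
  let φ' : B' →ₐ[A] B := IsScalarTower.toAlgHom A B' B
  let φ'' : B'' →ₐ[A] B := IsScalarTower.toAlgHom A B'' B
  haveI : Module.Finite A φ'.range :=
    Module.Finite.of_surjective φ'.rangeRestrict.toLinearMap φ'.rangeRestrict_surjective
  haveI : Module.Finite A φ''.range :=
    Module.Finite.of_surjective φ''.rangeRestrict.toLinearMap φ''.rangeRestrict_surjective
  refine ⟨φ'.range ⊔ φ''.range, Subalgebra.finite_sup _ _, ?_, ?_, ?_⟩
  · rintro _ ⟨x, rfl⟩
    exact (le_sup_left : φ'.range ≤ φ'.range ⊔ φ''.range) ⟨x, rfl⟩
  · rintro _ ⟨x, rfl⟩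
    exact (le_sup_right : φ''.range ≤ φ'.range ⊔ φ''.range) ⟨x, rfl⟩
  · exact isOpenImmersion_of_subring B' B h' (φ'.range ⊔ φ''.range).toSubring
      (fun x => (le_sup_left : φ'.range ≤ φ'.range ⊔ φ''.range) ⟨x, rfl⟩)

end Groth.Agent.S8930
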