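import Groth.Statements.S8935
import Groth.Agent.Lib.R2LeadFrobAlg
import Groth.Agent.Lib.H6xLinkF
import Groth.Agent.Lib.Helper4ProjCone
import Groth.Agent.Lib.Helper5KoszulGor

set_option autoImplicit false
universe u
open Disc

namespace Groth.Agent.S8935

/-- Let k be a field and B = k[x_1, …, x_n]/(f_1, …, f_n), a global complete intersection with as many
equations as variables, of Krull dimension 0. Then ω_{B/k} = Hom_k(B, k), with B acting through the
argument, is an invertible B-module; since B is Artinian this means it is free of rank one, which is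
the form stated. -/
theorem result (k : Type u) [Field k] (n : ℕ) (f : Fin n → MvPolynomial (Fin n) k) (h0 : ringKrullDim (MvPolynomial (Fin n) k ⧸ Ideal.span (Set.range f)) = 0) : Nonempty (Disc.Omega k (MvPolynomial (Fin n) k ⧸ Ideal.span (Set.range f)) ≃ₗ[MvPolynomial (Fin n) k ⧸ Ideal.span (Set.range f)] (MvPolynomial (Fin n) k ⧸ Ideal.span (Set.range f))) := by
  classical
  have hnt : Nontrivial (MvPolynomial (Fin n) k ⧸ Ideal.span (Set.range f)) := by
    by_contra hcon
    rw [not_nontrivial_iff_subsingleton] at hcon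
    rw [ringKrullDim_eq_bot_of_subsingleton] at h0
    exact absurd h0 (by simp)
  haveI : Ring.KrullDimLE 0 (MvPolynomial (Fin n) k ⧸ Ideal.span (Set.range f)) := by
    rw [Ring.krullDimLE_iff]
    exact h0.le
  haveI : Module.Finite k (MvPolynomial (Fin n) k ⧸ Ideal.span (Set.range f)) :=
    (Module.finite_iff_krullDimLE_zero k _).mpr inferInstance
  haveI : LocCoh.IsGorensteinRing k := Groth.Agent.Lib.Helper5.GorRing.gorRing_of_field k
  haveI : LocCoh.IsGorensteinRing (MvPolynomial (Fin n) k) :=
    Groth.Agent.Lib.Helper5.KoszulGor.gorRing_mvPolynomial k n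
  have hI' : Ideal.ofList (List.ofFn f) = Ideal.span (Set.range f) := by
    unfold Ideal.ofList
    congr 1
    ext x
    simp [List.mem_ofFn]
  have hht : (n : ℕ∞) ≤ (Ideal.span (Set.range f)).height := by
    rw [Ideal.height_eq_inf_minimalPrimes]
    refine le_iInf₂ fun Q hQ => ?_
    haveI : Q.IsPrime := hQ.1.1
    have hle : Ideal.span (Set.range f) ≤ Q := hQ.1.2
    have h1 := Groth.Agent.Lib.Helper4.ProjCone.height_add_dim k n Q
    have h2 : ringKrullDim (MvPolynomial (Fin n) k ⧸ Q) ≤ 0 := by
      rw [← h0]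
      exact ringKrullDim_le_of_surjective (Ideal.Quotient.factor hle)
        (Ideal.Quotient.factor_surjective hle)
    have h3 : 0 ≤ ringKrullDim (MvPolynomial (Fin n) k ⧸ Q) := ringKrullDim_nonneg_of_nontrivial
    have h4 : ringKrullDim (MvPolynomial (Fin n) k ⧸ Q) = 0 := le_antisymm h2 h3
    rw [h4, add_zero] at h1
    exact_mod_cast h1.ge
  have hG : LocCoh.IsGorensteinRing (MvPolynomial (Fin n) k ⧸ Ideal.span (Set.range f)) := by
    rw [← hI']
    refine Groth.Agent.Lib.H6xLink.gorRing_quotient_of_length_le_height _ (List.ofFn f) ?_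
    rw [hI', List.length_ofFn]
    exact hht
  obtain ⟨μ, hμ⟩ := Groth.Agent.Lib.R2LeadFrobAlg.exists_of_gor (κ := k) hG
  have hb := Groth.Agent.Lib.R2LeadFrobAlg.bijective_of_injective μ hμ
  exact ⟨(LinearEquiv.ofBijective (LinearMap.toSpanSingleton _ _ μ) hb).symm⟩

end Groth.Agent.S8935
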