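import Groth.Statements.S8939
import Groth.Agent.Lib.R2H3ConnCech
import Groth.Agent.Lib.Helper1ExtCech5

set_option autoImplicit false
universe u
open LocCoh

namespace Groth.Agent.S8939

/-- Given a derivation θ of a Noetherian ring A and an ideal I, each local cohomology module H^i_I(A)
carries an additive operator D with D(a • ξ) = θ(a) • ξ + a • D(ξ) (existence only; the published
statement is for any ring and a finitely generated ideal with the local cohomology of the extended
alternating Čech complex, which for Noetherian A is the local cohomology used here). -/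
theorem result (A : Type u) [CommRing A] [IsNoetherianRing A] (I : Ideal A) (θ : Derivation ℤ A A) (i : ℕ) : ∃ D : LocCoh.H I i A →+ LocCoh.H I i A, ∀ (a : A) (ξ : LocCoh.H I i A), D (a • ξ) = θ a • ξ + a • D ξ := by
  classical
  obtain ⟨s, hs⟩ : I.FG := IsNoetherian.noetherian I
  have hI : Ideal.span {x : A | x ∈ s.toList} = I := by
    rw [← hs]
    congr 1
    ext x
    simp
  subst hI
  obtain ⟨e⟩ := Groth.Agent.Lib.Helper1.ExtCech5.nonempty_natIso s.toList i
  obtain ⟨D₀, hD₀⟩ := (Groth.Agent.Lib.R2H3.ConnCech.Conn.extCech θ s.toList).exists_homology (i : ℤ)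
  let E : (DerCA.extCech (ModuleCat.of A A) s.toList).homology (i : ℤ) ≃ₗ[A]
      LocCoh.H (Ideal.span {x : A | x ∈ s.toList}) i A :=
    (e.app (ModuleCat.of A A)).toLinearEquiv
  refine ⟨E.toLinearMap.toAddMonoidHom.comp (D₀.comp E.symm.toLinearMap.toAddMonoidHom), ?_⟩
  intro a ξ
  change E (D₀ (E.symm (a • ξ))) = θ a • ξ + a • E (D₀ (E.symm ξ))
  rw [map_smul, hD₀, map_add, map_smul, map_smul, LinearEquiv.apply_symm_apply]

end Groth.Agent.S8939
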