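import Groth.Statements.S8951
import Mathlib
import Groth.Agent.Lib.H6xCIO

set_option autoImplicit false
universe u
open scoped TensorProduct
open CInt

namespace Groth.Agent.S8951

/-- Complete intersection fibres are preserved by composing with a regular map. For flat maps A → B → C
of Noetherian rings, if all local rings of the fibres of A → B are complete intersections and B → C
is regular, then all local rings of the fibres of A → C are complete intersections. -/
theorem result (A B C : Type u) [CommRing A] [CommRing B] [CommRing C] [IsNoetherianRing A] [IsNoetherianRing B] [IsNoetherianRing C] [Algebra A B] [Algebra B C] [Algebra A C] [IsScalarTower A B C] [Module.Flat A B] [Module.Flat B C] (hAB : ∀ (q : Ideal A) [q.IsPrime] (P : Ideal (q.Fiber B)) [P.IsPrime], Pi1.IsCompleteIntersection (Localization.AtPrime P)) (hBC : CAlg.IsRegularHom B C) : ∀ (q : Ideal A) [q.IsPrime] (P : Ideal (q.Fiber C)) [P.IsPrime], Pi1.IsCompleteIntersection (Localization.AtPrime P) := by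
  have hAB' : ∀ (q' : Ideal B) [q'.IsPrime],
      Groth.Agent.Lib.H6xCI.CILocal (EGA4.FibLocRing A B q') := by
    rw [← Groth.Agent.Lib.Helper28.forall_localization_fiber_iff (A := A) (B := B)
      Groth.Agent.Lib.H6xCI.CILocal Groth.Agent.Lib.H6xCI.ciLocal_of_ringEquiv]
    intro q hq P hP
    haveI := Groth.Agent.Lib.Helper28.isNoetherianRing_fiber (A := A) (B := B) q
    exact ⟨inferInstance, inferInstance, hAB q P⟩
  have hBC' : ∀ (r : Ideal C) [r.IsPrime],
      Groth.Agent.Lib.H6xCI.CILocal (EGA4.FibLocRing B C r) := by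
    rw [← Groth.Agent.Lib.Helper28.forall_localization_fiber_iff (A := B) (B := C)
      Groth.Agent.Lib.H6xCI.CILocal Groth.Agent.Lib.H6xCI.ciLocal_of_ringEquiv]
    intro p hp Q hQ
    obtain ⟨hN, hG⟩ := hBC.2 p
    have h1 := hG p.ResidueField (Module.Finite.self _)
    haveI := h1
    haveI h2 : IsRegularRing (p.Fiber C) :=
      IsRegularRing.of_ringEquiv (R := p.ResidueField ⊗[p.ResidueField] p.Fiber C)
        (Algebra.TensorProduct.lid p.ResidueField (p.Fiber C)).toRingEquiv
    exact Groth.Agent.Lib.H6xCI.ciLocal_of_isRegularLocalRing _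
  have key : ∀ (r : Ideal C) [r.IsPrime],
      Groth.Agent.Lib.H6xCI.CILocal (EGA4.FibLocRing A C r) := fun r _ =>
    Groth.Agent.Lib.H6xCI.ciLocal_fibLocRing_comp r (hAB' _) (hBC' r)
  rw [← Groth.Agent.Lib.Helper28.forall_localization_fiber_iff (A := A) (B := C)
    Groth.Agent.Lib.H6xCI.CILocal Groth.Agent.Lib.H6xCI.ciLocal_of_ringEquiv] at key
  intro q hq P hP
  obtain ⟨_, _, h⟩ := key q P
  exact h

end Groth.Agent.S8951
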