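import Groth.Statements.S8960
-- import your own Groth.Agent.* helpers here
import Mathlib

set_option autoImplicit false
set_option linter.style.haveILetI false
universe u
open QFDual

namespace Groth.Agent.S8960

/-- Suppose the Dedekind different of A → B is defined: A is Noetherian, B is a finite A-algebra,
nonzerodivisors of A are nonzerodivisors on B, and with K = Q(A) the total ring of fractions and L =
B ⊗_A K the map K → L is étale (here with L finite free over K). If A → B is flat, then
Trace_{L/K}(b) lies in A for every b ∈ B; equivalently 1 ∈ 𝓛_{B/A}, the Dedekind complementary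
module. -/
theorem result (A K B L : Type u) [CommRing A] [CommRing K] [CommRing B] [CommRing L] [Algebra A K] [Algebra A B] [Algebra B L] [Algebra K L] [Algebra A L] [IsScalarTower A K L] [IsScalarTower A B L] (h : QFDual.IsDedekindDefined A K B L) [Module.Flat A B] : (1 : L) ∈ QFDual.complementary A K B L := by
  classical
  haveI := h.isFractionRing
  haveI := h.isLocalization
  haveI := h.isNoetherianRing
  haveI := h.finite
  haveI := h.free
  haveI := h.finiteKL
  haveI : Module.FinitePresentation A B := Module.finitePresentation_of_finite A B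
  haveI : Module.Projective A B := Module.Flat.projective_of_finitePresentation
  -- a presentation of `B` as a direct summand of `A^n`
  obtain ⟨n, p, hp⟩ := Module.Finite.exists_fin' A B
  obtain ⟨i, hi⟩ := Module.projective_lifting_property p LinearMap.id hp
  -- `L` as the localized module of `B`
  let ι : B →ₗ[A] L := (IsScalarTower.toAlgHom A B L).toLinearMap
  haveI hloc : IsLocalizedModule (nonZeroDivisors A) ι :=
    (isLocalizedModule_iff_isLocalization (S := nonZeroDivisors A) (A := B) (Aₛ := L)).mpr
      h.isLocalization
  -- extend `i` and `p` to `K`-linear maps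
  let cK : (Fin n → A) →ₗ[A] (Fin n → K) := LinearMap.pi fun j =>
    (Algebra.linearMap A K) ∘ₗ LinearMap.proj j
  have hunit : ∀ x : nonZeroDivisors A,
      IsUnit ((algebraMap A (Module.End A (Fin n → K))) x) := by
    intro x
    have hx : IsUnit (algebraMap A K x) := IsLocalization.map_units K x
    rw [Module.End.isUnit_iff]
    constructor
    · intro v w hvw
      have : algebraMap A K x • v = algebraMap A K x • w := by
        simpa [Module.algebraMap_end_apply, algebraMap_smul] using hvw
      exact hx.smul_left_cancel.mp this
    · intro v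
      refine ⟨(hx.unit⁻¹ : Kˣ) • v, ?_⟩
      simp only [Module.algebraMap_end_apply]
      rw [← algebraMap_smul K (x : A), Units.smul_def, smul_smul, IsUnit.mul_val_inv, one_smul]
  let iA : L →ₗ[A] (Fin n → K) := IsLocalizedModule.lift (nonZeroDivisors A) ι (cK ∘ₗ i) hunit
  have hiA : ∀ b : B, iA (ι b) = cK (i b) := fun b =>
    IsLocalizedModule.lift_apply (nonZeroDivisors A) ι (cK ∘ₗ i) hunit b
  let iK : L →ₗ[K] (Fin n → K) := iA.extendScalarsOfIsLocalization (nonZeroDivisors A) K
  let pK : (Fin n → K) →ₗ[K] L :=
    Fintype.linearCombination K (fun j => ι (p (Pi.single j 1)))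
  have hpK : ∀ v : Fin n → A, pK (cK v) = ι (p v) := by
    intro v
    have hv : v = ∑ j, v j • (Pi.single j (1 : A) : Fin n → A) := by
      ext k
      simp [Finset.sum_apply, Pi.single_apply]
    conv_rhs => rw [hv]
    simp only [pK, Fintype.linearCombination_apply, map_sum, map_smul]
    refine Finset.sum_congr rfl fun j _ => ?_
    simp only [cK, LinearMap.pi_apply, LinearMap.comp_apply, LinearMap.proj_apply,
      Algebra.linearMap_apply, algebraMap_smul]
  -- `pK ∘ iK = id`
  have hid : pK ∘ₗ iK = LinearMap.id := by
    have h1 : (pK.restrictScalars A) ∘ₗ iA = (LinearMap.id : L →ₗ[A] L) := by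
      have hunitL : ∀ x : nonZeroDivisors A, IsUnit ((algebraMap A (Module.End A L)) x) :=
        IsLocalizedModule.map_units ι
      refine IsLocalizedModule.ext (nonZeroDivisors A) ι hunitL ?_
      ext b
      simp only [LinearMap.comp_apply, LinearMap.restrictScalars_apply, LinearMap.id_apply]
      rw [hiA, hpK]
      have := LinearMap.congr_fun hi b
      simp only [LinearMap.comp_apply, LinearMap.id_apply] at this
      rw [this]
    ext x
    exact LinearMap.congr_fun h1 x
  intro b
  rw [one_mul, Algebra.trace_apply]
  set m : L →ₗ[K] L := Algebra.lmul K L (algebraMap B L b) with hm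
  have h2 : LinearMap.trace K L m = LinearMap.trace K (Fin n → K) (iK ∘ₗ (m ∘ₗ pK)) := by
    rw [← LinearMap.trace_comp_comm' iK (m ∘ₗ pK), LinearMap.comp_assoc, hid, LinearMap.comp_id]
  rw [h2, LinearMap.trace_eq_matrix_trace K (Pi.basisFun K (Fin n)), Matrix.trace]
  refine Subring.sum_mem _ fun j _ => ?_
  rw [Matrix.diag_apply, LinearMap.toMatrix_apply, Pi.basisFun_repr, Pi.basisFun_apply]
  refine ⟨i (b • p (Pi.single j 1)) j, ?_⟩
  simp only [LinearMap.comp_apply]
  have h3 : pK (Pi.single j 1) = ι (p (Pi.single j 1)) := by
    have := hpK (Pi.single j 1)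
    have hc : cK (Pi.single j (1 : A)) = (Pi.single j (1 : K) : Fin n → K) := by
      ext k
      simp [cK, Pi.single_apply, apply_ite (algebraMap A K)]
    rw [hc] at this
    exact this
  rw [h3]
  have h4 : m (ι (p (Pi.single j 1))) = ι (b • p (Pi.single j 1)) := by
    simp only [hm, ι, AlgHom.toLinearMap_apply, IsScalarTower.coe_toAlgHom',
      smul_eq_mul, map_mul]
    rfl
  rw [h4]
  change _ = iA (ι (b • p (Pi.single j 1))) j
  rw [hiA]
  simp [cK]

end Groth.Agent.S8960
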