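import Groth.Statements.S8979
import Mathlib
import Groth.Agent.Lib.R2H4ValLift

set_option autoImplicit false
universe u
open HTop

namespace Groth.Agent.S8979

open CategoryTheory CategoryTheory.Limits AlgebraicGeometry in
/-- A surjective proper morphism of finite presentation, as a one-member family, is an h covering of its
target. -/
theorem result {X Y : Scheme.{u}} (f : Y ⟶ X) [IsProper f] [Surjective f] [LocallyOfFinitePresentation f] : HTop.IsHCover (PreZeroHypercover.singleton.{0} f) := by
  exact Groth.Agent.Lib.R2H4.ValLift.isHCover_singleton_of_proper_surjective f

end Groth.Agent.S8979
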