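import Groth.Statements.S9011
import Mathlib
import Groth.Agent.S1212
import Groth.Agent.S1200
import Groth.Agent.Lib.Helper13Fiber
import Groth.Agent.Lib.Helper14LocalFree2

set_option autoImplicit false
universe u
open FlatMor

namespace Groth.Agent.S9011

open IsLocalRing in
/-- For a local ring R with maximal ideal m, an R-algebra S with S/mS Noetherian and an S-module N with
N/mN finite over S/mS which is projective as an R-module, every element of S that is a
nonzerodivisor on N/mN acts R-universally injectively on N, and the map from N to its localization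
at all such elements is R-universally injective. -/
theorem result {R S : Type u} [CommRing R] [IsLocalRing R] [CommRing S] [Algebra R S] (N : Type u) [AddCommGroup N] [Module S N] [Module R N] [IsScalarTower R S N] [IsNoetherianRing ((maximalIdeal R).Fiber S)] [Module.Finite ((maximalIdeal R).Fiber S) (FlatCA.fiberMod (maximalIdeal R) S N)] [Module.Projective R N] : (∀ s ∈ FlatCA.nzdFiber R S N, FlatCA.UnivInj R ((LinearMap.lsmul S N s).restrictScalars R)) ∧ FlatCA.UnivInj R ((LocalizedModule.mkLinearMap (FlatCA.nzdFiber R S N) N).restrictScalars R) := by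
  classical
  have : Module.Free R N := Groth.Agent.Lib.Helper14.LocalFree.free_of_projective
  have : Module.Flat R N := inferInstance
  have part1 : ∀ s ∈ FlatCA.nzdFiber R S N, ∀ (Q : Type u) [AddCommGroup Q] [Module R Q],
      Function.Injective (((LinearMap.lsmul S N s).restrictScalars R).rTensor Q) := by
    intro s hs Q _ _
    apply Groth.Agent.S1212.rTensor_injective_of_free
    intro n hn
    change s • n ∈ _ at hn
    rw [Groth.Agent.Helper13Fiber.smul_top_eq_restrictScalars (maximalIdeal R) S N,
      Submodule.restrictScalars_mem] at hn ⊢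
    rw [← Groth.Agent.Helper13Fiber.toFiberMod_eq_zero_iff_of_flat] at hn ⊢
    rw [map_smul] at hn
    exact (mem_nonZeroSMulDivisors_iff.mp hs) _ hn
  refine ⟨fun s hs Q _ _ => (LinearMap.lTensor_inj_iff_rTensor_inj _ _).2 (part1 s hs Q), ?_⟩
  intro Q _ _
  rw [LinearMap.lTensor_inj_iff_rTensor_inj]
  rw [injective_iff_map_eq_zero]
  intro x hx
  have hx' : (TensorProduct.AlgebraTensorModule.rTensor R Q
      (LocalizedModule.mkLinearMap (FlatCA.nzdFiber R S N) N)) x = 0 := hx
  obtain ⟨c, hc⟩ := (IsLocalizedModule.eq_zero_iff (FlatCA.nzdFiber R S N)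
    (TensorProduct.AlgebraTensorModule.rTensor R Q
      (LocalizedModule.mkLinearMap (FlatCA.nzdFiber R S N) N))).mp hx'
  apply part1 c.1 c.2 Q
  rw [map_zero, Groth.Agent.S1200.rTensor_lsmul]
  exact hc

end Groth.Agent.S9011
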