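import Groth.Statements.S9135
import Groth.Agent.Lib.Helper4GenFinite

set_option autoImplicit false
universe u
open CAlg

namespace Groth.Agent.S9135

/-- Let R → S be of finite type and p a minimal prime of R over which only finitely many primes of S
lie. Then for some g ∈ R outside p the localized map R_g → S_g is finite. -/
theorem result (R S : Type u) [CommRing R] [CommRing S]
    [Algebra R S] [Algebra.FiniteType R S] (p : Ideal R) (hp : p ∈ minimalPrimes R)
    (hfin : (p.primesOver S).Finite) :
    ∃ g : R, g ∉ p ∧ (Localization.awayMap (algebraMap R S) g).Finite := by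
  have : p.IsPrime := hp.1.1
  have hft : (algebraMap R S).FiniteType := RingHom.finiteType_algebraMap.mpr inferInstance
  have hfin' : {q : PrimeSpectrum S | q.asIdeal.comap (algebraMap R S) = p}.Finite := by
    have h1 : ((fun q : PrimeSpectrum S => q.asIdeal) ⁻¹' (p.primesOver S)).Finite :=
      hfin.preimage (fun a _ b _ hab => PrimeSpectrum.ext hab)
    refine h1.subset ?_
    intro q hq
    exact ⟨q.isPrime, ⟨(hq : q.asIdeal.comap (algebraMap R S) = p).symm⟩⟩
  obtain ⟨g, hg, h⟩ := Groth.Agent.Lib.Helper4.GenFinite.exists_forall_exists_isIntegralElem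
    (algebraMap R S) hft p hp hfin'
  exact ⟨g, hg, Groth.Agent.Lib.Helper4.GenFinite.finite_awayMap_of_forall_exists_isIntegralElem
    (algebraMap R S) hft g h (Localization.Away g) (Localization.Away (algebraMap R S g))⟩

end Groth.Agent.S9135
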