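import Groth.Statements.S9158
import Mathlib
import Groth.Agent.Lib.R2LeadGenFreeRed2

set_option autoImplicit false
universe u
open CAlg

namespace Groth.Agent.S9158

/-- Generic freeness over a reduced ring: let R → S be of finite type with R reduced and M a finite
S-module. There is a dense open subset U of Spec R such that each point of U lies in a basic open
D(f) ⊆ U with M_f and S_f free over R_f, S_f of finite presentation over R_f, and M_f of finite
presentation over S_f. -/
theorem result (R S : Type u) [CommRing R] [IsReduced R] [CommRing S]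
    [Algebra R S] [Algebra.FiniteType R S] (M : Type u) [AddCommGroup M] [Module S M] [Module R M]
    [IsScalarTower R S M] [Module.Finite S M] :
    ∃ U : Set (PrimeSpectrum R), IsOpen U ∧ Dense U ∧ ∀ u ∈ U, ∃ f : R, f ∉ u.asIdeal ∧
      (PrimeSpectrum.basicOpen f : Set (PrimeSpectrum R)) ⊆ U ∧
      Module.Free (Localization.Away f) (LocalizedModule (Submonoid.powers f) M) ∧
      Module.Free (Localization.Away f) (LocalizedModule (Submonoid.powers f) S) ∧
      (Localization.awayMap (algebraMap R S) f).FinitePresentation ∧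
      Module.FinitePresentation (Localization.Away (algebraMap R S f))
        (LocalizedModule (Submonoid.powers (algebraMap R S f)) M) := by
  classical
  let Good : R → Prop := fun f =>
      Module.Free (Localization.Away f) (LocalizedModule (Submonoid.powers f) M) ∧
      Module.Free (Localization.Away f) (LocalizedModule (Submonoid.powers f) S) ∧
      (Localization.awayMap (algebraMap R S) f).FinitePresentation ∧
      Module.FinitePresentation (Localization.Away (algebraMap R S f))
        (LocalizedModule (Submonoid.powers (algebraMap R S f)) M)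
  have hkey : ∀ g : R, g ≠ 0 → ∃ f, g ∣ f ∧ f ≠ 0 ∧ Good f :=
    fun g hg => Groth.Agent.Lib.R2Lead.GenFreeRed.key R S M g hg
  refine ⟨⋃ f ∈ {f | Good f}, (PrimeSpectrum.basicOpen f : Set (PrimeSpectrum R)), ?_, ?_, ?_⟩
  · exact isOpen_biUnion fun f _ => (PrimeSpectrum.basicOpen f).isOpen
  · rw [dense_iff_inter_open]
    intro V hV hVne
    obtain ⟨x, hx⟩ := hVne
    obtain ⟨_, ⟨g, rfl⟩, hxg, hgV⟩ :=
      PrimeSpectrum.isTopologicalBasis_basic_opens.exists_subset_of_mem_open hx hV
    have hg0 : g ≠ 0 := by
      rintro rfl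
      exact ((PrimeSpectrum.mem_basicOpen _ _).mp hxg) (Ideal.zero_mem _)
    obtain ⟨f, hgf, hf0, hGood⟩ := hkey g hg0
    have hne : (PrimeSpectrum.basicOpen f : Set (PrimeSpectrum R)).Nonempty := by
      by_contra hempty
      rw [Set.not_nonempty_iff_eq_empty] at hempty
      have h1 : PrimeSpectrum.basicOpen f = ⊥ := TopologicalSpace.Opens.coe_eq_empty.mp hempty
      rw [PrimeSpectrum.basicOpen_eq_bot_iff] at h1
      exact hf0 h1.eq_zero
    obtain ⟨y, hy⟩ := hne
    refine ⟨y, hgV ?_, Set.mem_biUnion (show f ∈ {f | Good f} from hGood) hy⟩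
    show y ∈ PrimeSpectrum.basicOpen g
    rw [PrimeSpectrum.mem_basicOpen]
    intro hgy
    obtain ⟨c, rfl⟩ := hgf
    exact ((PrimeSpectrum.mem_basicOpen _ _).mp hy) (Ideal.mul_mem_right c _ hgy)
  · intro u hu
    obtain ⟨f, hGood, huf⟩ := Set.mem_iUnion₂.mp hu
    exact ⟨f, (PrimeSpectrum.mem_basicOpen f u).mp huf,
      Set.subset_biUnion_of_mem (u := fun f => (PrimeSpectrum.basicOpen f : Set (PrimeSpectrum R)))
        hGood, hGood⟩

end Groth.Agent.S9158
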