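import Groth.Statements.S9166
import Mathlib
import Groth.Agent.Lib.H4FlatInf

set_option autoImplicit false
universe u
open CAlg

namespace Groth.Agent.S9166

/-- Let I be an ideal of a ring R, S → S' a surjective homomorphism of R-algebras with S of finite type
and S' of finite presentation over R, and q a prime of S containing IS. Assume S'_q is flat over R
and that S_q/IS_q → S'_q/IS'_q is an isomorphism, which for a surjection says: every element of the
kernel of S → S' maps into I·S_q. Then for some g ∉ q the localized map S_g → S'_g is bijective. -/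
theorem result (R S S' : Type u) [CommRing R] [CommRing S]
    [CommRing S'] [Algebra R S] [Algebra R S'] [Algebra.FiniteType R S] [Algebra.FinitePresentation R S']
    (I : Ideal R) (f : S →ₐ[R] S') (hf : Function.Surjective f) (q : Ideal S) [q.IsPrime]
    (hq : I.map (algebraMap R S) ≤ q)
    (hker : ∀ j : S, f j = 0 →
      algebraMap S (Localization.AtPrime q) j ∈ I.map (algebraMap R (Localization.AtPrime q)))
    (hflat : letI : Module S S' := f.toRingHom.toModule
      Module.Flat R (LocalizedModule q.primeCompl S')) :
    ∃ g : S, g ∉ q ∧ Function.Bijective (Localization.awayMap f.toRingHom g) := by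
  classical
  letI : Module S S' := f.toRingHom.toModule
  have hsmul : ∀ (s : S) (x : S'), s • x = f s * x := fun s x => rfl
  -- the kernel is finitely generated
  have hJfg : (RingHom.ker f.toRingHom).FG := by
    obtain ⟨n, g, hg⟩ := Algebra.FiniteType.iff_quotient_mvPolynomial''.mp
      (inferInstance : Algebra.FiniteType R S)
    have h1 := (Algebra.FinitePresentation.ker_fg_of_mvPolynomial (f.comp g) (hf.comp hg)).map
      g.toRingHom
    convert h1
    simp_rw [RingHom.ker_eq_comap_bot, AlgHom.toRingHom_eq_coe, AlgHom.comp_toRingHom]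
    rw [← Ideal.comap_comap, Ideal.map_comap_of_surjective (g : MvPolynomial (Fin n) R →+* S) hg]
  set A := Localization.AtPrime q with hA
  set M₃ := LocalizedModule q.primeCompl S' with hM₃
  set Jq : Ideal A := (RingHom.ker f.toRingHom).map (algebraMap S A) with hJq
  let π : A →ₗ[A] M₃ := LinearMap.toSpanSingleton A M₃ (LocalizedModule.mk 1 1)
  have hπmk : ∀ (s : S) (t : q.primeCompl),
      π (IsLocalization.mk' A s t) = LocalizedModule.mk (f s) t := by
    intro s t
    show IsLocalization.mk' A s t • (LocalizedModule.mk (1 : S') (1 : q.primeCompl) : M₃) = _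
    rw [← Localization.mk_eq_mk', LocalizedModule.mk_smul_mk, mul_one, hsmul, mul_one]
  -- kernel of π is Jq
  have hkerπ : ∀ a : A, π a = 0 → a ∈ Jq := by
    intro a ha
    obtain ⟨s, t, rfl⟩ := IsLocalization.exists_mk'_eq q.primeCompl a
    rw [hπmk, ← LocalizedModule.zero_mk t, LocalizedModule.mk_eq] at ha
    obtain ⟨u, hu⟩ := ha
    rw [smul_zero, smul_zero] at hu
    rw [hJq, IsLocalization.mk'_mem_map_algebraMap_iff]
    refine ⟨(u * t : q.primeCompl), (u * t).2, ?_⟩
    rw [RingHom.mem_ker]
    have : f (((u * t : q.primeCompl) : S) * s) = (u : S) • (t : S) • f s := by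
      rw [hsmul, hsmul, Submonoid.coe_mul, map_mul, map_mul, mul_assoc]
    change f.toRingHom _ = 0
    change f _ = 0
    rw [this]
    exact hu
  have hπsurj : Function.Surjective π := by
    intro m
    induction m using LocalizedModule.induction_on with
    | h m t =>
      obtain ⟨s, rfl⟩ := hf m
      exact ⟨IsLocalization.mk' A s t, hπmk s t⟩
  -- Jq ≤ I A
  have hJqI : Jq ≤ I.map (algebraMap R A) := by
    rw [hJq, Ideal.map_le_iff_le_comap]
    intro j hj
    exact hker j hj
  have hIm : I.map (algebraMap R A) ≤ IsLocalRing.maximalIdeal A := by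
    rw [IsScalarTower.algebraMap_eq R S A, ← Ideal.map_map]
    refine (Ideal.map_mono hq).trans ?_
    rw [Localization.AtPrime.map_eq_maximalIdeal]
  -- the flatness argument
  have hle : (Jq : Submodule A A) ≤ IsLocalRing.maximalIdeal A • (Jq : Submodule A A) := by
    intro x hx
    let πR : A →ₗ[R] M₃ := π.restrictScalars R
    let N₁ : Submodule R A := LinearMap.ker πR
    have hxN : x ∈ N₁ := by
      show π x = 0
      have : x ∈ Jq := hx
      rw [hJq] at this
      refine Submodule.span_induction (p := fun y _ => π y = 0) ?_ ?_ ?_ ?_ this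
      · rintro _ ⟨j, hj, rfl⟩
        have := hπmk j 1
        rw [IsLocalization.mk'_one] at this
        rw [this]
        have hj' : f j = 0 := hj
        rw [hj', LocalizedModule.zero_mk]
      · exact map_zero _
      · intro a b _ _ ha hb
        rw [map_add, ha, hb, add_zero]
      · intro a b _ hb
        rw [smul_eq_mul, ← smul_eq_mul, map_smul, hb, smul_zero]
    have hxI : N₁.subtype ⟨x, hxN⟩ ∈ I • (⊤ : Submodule R A) := by
      rw [Ideal.smul_top_eq_map]
      exact hJqI hx
    have key := Groth.Agent.Lib.H4FlatInf.mem_smul_top_of_flat (R := R) N₁.subtype πR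
      N₁.injective_subtype (LinearMap.exact_subtype_ker_map πR) hπsurj I ⟨x, hxN⟩ hxI
    have hind : ∀ y : N₁, y ∈ I • (⊤ : Submodule R N₁) →
        (y : A) ∈ IsLocalRing.maximalIdeal A • (Jq : Submodule A A) := by
      intro y hy
      refine Submodule.smul_induction_on hy ?_ ?_
      · intro r hr n _
        have h1 : ((r • n : N₁) : A) = algebraMap R A r • (n : A) := by
          rw [Submodule.coe_smul, Algebra.smul_def, smul_eq_mul]
        rw [h1]
        exact Submodule.smul_mem_smul (hIm (Ideal.mem_map_of_mem _ hr)) (hkerπ _ n.2)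
      · intro a b ha hb
        rw [Submodule.coe_add]
        exact Submodule.add_mem _ ha hb
    exact hind ⟨x, hxN⟩ key
  have hJq0 : Jq = ⊥ :=
    Submodule.eq_bot_of_le_smul_of_le_jacobson_bot (IsLocalRing.maximalIdeal A) Jq
      (hJfg.map _) hle (IsLocalRing.maximalIdeal_le_jacobson _)
  -- a single element killing the kernel
  obtain ⟨T, hT⟩ := hJfg
  have hkill : ∀ j ∈ T, ∃ c : q.primeCompl, (c : S) * j = 0 := by
    intro j hj
    have hjJ : j ∈ RingHom.ker f.toRingHom := hT ▸ Ideal.subset_span hj
    have : algebraMap S A j ∈ Jq := Ideal.mem_map_of_mem _ hjJ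
    rw [hJq0, Ideal.mem_bot] at this
    exact (IsLocalization.map_eq_zero_iff q.primeCompl A j).mp this
  choose! c hc using hkill
  refine ⟨∏ j ∈ T, (c j : S), ?_, ?_⟩
  · have : (∏ j ∈ T, (c j : S)) = ((∏ j ∈ T, c j : q.primeCompl) : S) := by
      rw [Submonoid.coe_finsetProd]
    rw [this]
    exact (∏ j ∈ T, c j : q.primeCompl).2
  · have hg : ∀ j ∈ RingHom.ker f.toRingHom, (∏ j ∈ T, (c j : S)) * j = 0 := by
      intro j hj
      rw [← hT] at hj
      refine Submodule.span_induction (p := fun y _ => (∏ j ∈ T, (c j : S)) * y = 0) ?_ ?_ ?_ ?_ hj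
      · intro y hy
        have hyT : y ∈ T := hy
        rw [← Finset.mul_prod_erase T _ hyT, mul_right_comm, hc y hyT, zero_mul]
      · exact mul_zero _
      · intro a b _ _ ha hb
        rw [mul_add, ha, hb, add_zero]
      · intro a b _ hb
        rw [smul_eq_mul, mul_left_comm, hb, mul_zero]
    constructor
    · rw [Localization.awayMap_injective_iff]
      intro a ha
      exact ⟨1, by rw [pow_one]; exact hg a ha⟩
    · rw [Localization.awayMap_surjective_iff]
      intro a
      obtain ⟨b, hb⟩ := hf a
      exact ⟨b, 0, by rw [pow_zero, one_mul]; exact hb⟩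

end Groth.Agent.S9166
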