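import Groth.Statements.S9168
-- import your own Groth.Agent.* helpers here
import Mathlib

set_option autoImplicit false
set_option linter.style.haveILetI false
universe u
open CAlg

namespace Groth.Agent.S9168

section Aux

variable {A B : Type u} [CommRing A] [CommRing B] [IsLocalRing B] (ψ : A →+* B) (F : Finset B)

/-- the subring generated by the image of `ψ` and `F`. -/
def adj : Subring B := Subring.closure (Set.range ψ ∪ (F : Set B))

/-- fractions `a / b` with `a, b` in `adj` and `b` a unit of `B`. -/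
def locSub : Subring B where
  carrier := {x | ∃ a b, a ∈ adj ψ F ∧ b ∈ adj ψ F ∧ IsUnit b ∧ x * b = a}
  mul_mem' := by
    rintro x y ⟨a, b, ha, hb, hu, h⟩ ⟨a', b', ha', hb', hu', h'⟩
    exact ⟨a * a', b * b', mul_mem ha ha', mul_mem hb hb', hu.mul hu', by rw [← h, ← h']; ring⟩
  one_mem' := ⟨1, 1, one_mem _, one_mem _, isUnit_one, by ring⟩
  add_mem' := by
    rintro x y ⟨a, b, ha, hb, hu, h⟩ ⟨a', b', ha', hb', hu', h'⟩
    exact ⟨a * b' + a' * b, b * b', add_mem (mul_mem ha hb') (mul_mem ha' hb), mul_mem hb hb',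
      hu.mul hu', by rw [← h, ← h']; ring⟩
  zero_mem' := ⟨0, 1, zero_mem _, one_mem _, isUnit_one, by ring⟩
  neg_mem' := by
    rintro x ⟨a, b, ha, hb, hu, h⟩
    exact ⟨-a, b, neg_mem ha, hb, hu, by rw [← h]; ring⟩

lemma adj_le_locSub : adj ψ F ≤ locSub ψ F := fun a ha =>
  ⟨a, 1, ha, one_mem _, isUnit_one, by ring⟩

lemma map_mem_locSub (a : A) : ψ a ∈ locSub ψ F :=
  adj_le_locSub ψ F (Subring.subset_closure (Or.inl ⟨a, rfl⟩))

lemma subset_locSub : (F : Set B) ⊆ locSub ψ F := fun _ hx =>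
  adj_le_locSub ψ F (Subring.subset_closure (Or.inr hx))

lemma isUnit_iff (x : locSub ψ F) : IsUnit x ↔ IsUnit (x : B) := by
  constructor
  · intro h
    exact h.map (locSub ψ F).subtype
  · intro h
    obtain ⟨a, b, ha, hb, hu, hab⟩ := x.2
    have hua : IsUnit a := by rw [← hab]; exact h.mul hu
    obtain ⟨y, hy⟩ := h.exists_right_inv
    have hy' : y ∈ locSub ψ F := by
      refine ⟨b, a, hb, ha, hua, ?_⟩
      calc y * a = y * (x * b) := by rw [hab]
        _ = (x * y) * b := by ring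
        _ = b := by rw [hy, one_mul]
    exact isUnit_iff_exists_inv.mpr ⟨⟨y, hy'⟩, Subtype.ext hy⟩

lemma isLocalRing_locSub : IsLocalRing (locSub ψ F) := by
  haveI : Nontrivial (locSub ψ F) := inferInstance
  refine IsLocalRing.of_nonunits_add ?_
  intro x y hx hy
  rw [mem_nonunits_iff, isUnit_iff] at hx hy ⊢
  exact (IsLocalRing.nonunits_add (mem_nonunits_iff.mpr hx) (mem_nonunits_iff.mpr hy))

lemma isLocalHom_subtype : IsLocalHom (locSub ψ F).subtype :=
  ⟨fun x hx => (isUnit_iff ψ F x).mpr hx⟩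

lemma essFiniteType_codRestrict :
    (ψ.codRestrict (locSub ψ F) (map_mem_locSub ψ F)).EssFiniteType := by
  classical
  letI : Algebra A (locSub ψ F) := (ψ.codRestrict (locSub ψ F) (map_mem_locSub ψ F)).toAlgebra
  letI : Algebra A B := ψ.toAlgebra
  change Algebra.EssFiniteType A (locSub ψ F)
  rw [Algebra.essFiniteType_iff]
  let ι : (locSub ψ F) →ₐ[A] B :=
    { (locSub ψ F).subtype with commutes' := fun a => rfl }
  let σ : Finset (locSub ψ F) := F.attach.image fun x => ⟨x.1, subset_locSub ψ F x.2⟩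
  have hσ : ι '' (σ : Set (locSub ψ F)) = (F : Set B) := by
    ext y
    constructor
    · rintro ⟨z, hz, rfl⟩
      obtain ⟨w, _, rfl⟩ := Finset.mem_image.mp (Finset.mem_coe.mp hz)
      exact w.2
    · intro hy
      exact ⟨⟨y, subset_locSub ψ F hy⟩,
        Finset.mem_coe.mpr (Finset.mem_image.mpr ⟨⟨y, hy⟩, Finset.mem_attach _ _, rfl⟩), rfl⟩
  have hmap : (Algebra.adjoin A (σ : Set (locSub ψ F))).map ι = Algebra.adjoin A (F : Set B) := by
    rw [AlgHom.map_adjoin, hσ]
  have hadj : ∀ y ∈ adj ψ F, y ∈ Algebra.adjoin A (F : Set B) := by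
    intro y hy
    refine Subring.closure_le (t := (Algebra.adjoin A (F : Set B)).toSubring) |>.mpr ?_ hy
    rintro z (⟨a, rfl⟩ | hz)
    · exact (Algebra.adjoin A (F : Set B)).algebraMap_mem a
    · exact Algebra.subset_adjoin hz
  refine ⟨σ, fun s => ?_⟩
  obtain ⟨a, b, ha, hb, hu, hab⟩ := s.2
  obtain ⟨t, ht, htb⟩ : b ∈ (Algebra.adjoin A (σ : Set (locSub ψ F))).map ι := by
    rw [hmap]; exact hadj b hb
  obtain ⟨r, hr, hra⟩ : a ∈ (Algebra.adjoin A (σ : Set (locSub ψ F))).map ι := by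
    rw [hmap]; exact hadj a ha
  refine ⟨t, ht, ?_, ?_⟩
  · rw [isUnit_iff]
    have : (t : B) = b := htb
    rw [this]; exact hu
  · have : s * t = r := by
      apply Subtype.ext
      have h1 : (t : B) = b := htb
      have h2 : (r : B) = a := hra
      rw [Subring.coe_mul, h1, h2, hab]
    rw [this]; exact hr

end Aux

/-- For a local homomorphism of local rings R → S and finite subsets E ⊆ R, F ⊆ S there are local
subrings R₀ ⊆ R and S₀ ⊆ S containing E and F, with R → S mapping R₀ into S₀, such that the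
inclusions and the induced map R₀ → S₀ are local homomorphisms, R₀ is essentially of finite type
over ℤ and S₀ is essentially of finite type over R₀. (So R → S is the directed colimit of such R₀ →
S₀.) -/
theorem result (R S : Type u) [CommRing R] [CommRing S] [IsLocalRing R]
    [IsLocalRing S] [Algebra R S] [IsLocalHom (algebraMap R S)] (E : Finset R) (F : Finset S) :
    ∃ (R₀ : Subring R) (S₀ : Subring S) (h : ∀ x ∈ R₀, algebraMap R S x ∈ S₀),
      (E : Set R) ⊆ R₀ ∧ (F : Set S) ⊆ S₀ ∧ ∃ (_ : IsLocalRing R₀) (_ : IsLocalRing S₀),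
        IsLocalHom R₀.subtype ∧ IsLocalHom S₀.subtype ∧
          IsLocalHom ((algebraMap R S).restrict R₀ S₀ h) ∧
          (algebraMap ℤ R₀).EssFiniteType ∧ ((algebraMap R S).restrict R₀ S₀ h).EssFiniteType := by
  let ψ₁ : ULift.{u} ℤ →+* R := (Int.castRingHom R).comp (ULift.ringEquiv : ULift.{u} ℤ ≃+* ℤ).toRingHom
  let R₀ : Subring R := locSub ψ₁ E
  let ψ₂ : R₀ →+* S := (algebraMap R S).comp R₀.subtype
  let S₀ : Subring S := locSub ψ₂ F
  have h : ∀ x ∈ R₀, algebraMap R S x ∈ S₀ := fun x hx => map_mem_locSub ψ₂ F ⟨x, hx⟩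
  refine ⟨R₀, S₀, h, subset_locSub ψ₁ E, subset_locSub ψ₂ F, isLocalRing_locSub ψ₁ E,
    isLocalRing_locSub ψ₂ F, isLocalHom_subtype ψ₁ E, isLocalHom_subtype ψ₂ F, ?_, ?_, ?_⟩
  · refine ⟨fun x hx => ?_⟩
    have h1 : IsUnit (((algebraMap R S).restrict R₀ S₀ h x : S₀) : S) := hx.map S₀.subtype
    have h2 : IsUnit (algebraMap R S (x : R)) := h1
    have h3 : IsUnit (x : R) := isUnit_of_map_unit (algebraMap R S) _ h2
    exact (isUnit_iff ψ₁ E x).mpr h3
  · have h1 := essFiniteType_codRestrict ψ₁ E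
    have h2 : (algebraMap ℤ R₀) = (ψ₁.codRestrict R₀ (map_mem_locSub ψ₁ E)).comp
        (ULift.ringEquiv : ULift.{u} ℤ ≃+* ℤ).symm.toRingHom := Subsingleton.elim _ _
    rw [h2]
    exact RingHom.EssFiniteType.comp
      (RingHom.FiniteType.of_surjective _ (ULift.ringEquiv : ULift.{u} ℤ ≃+* ℤ).symm.surjective).essFiniteType h1
  · have h1 := essFiniteType_codRestrict ψ₂ F
    have h2 : (algebraMap R S).restrict R₀ S₀ h = ψ₂.codRestrict S₀ (map_mem_locSub ψ₂ F) := by
      ext x; rfl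
    rw [h2]; exact h1

end Groth.Agent.S9168
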