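import Groth.Statements.S9183
import Groth.Agent.Lib.Helper20FPD

set_option autoImplicit false
universe u
open CategoryTheory CategoryTheory.Limits
open CAlg

namespace Groth.Agent.S9183

/-- Every R-algebra A, with no finiteness assumption, is the colimit of a filtered system of finitely
presented R-algebras. (The published statement asserts that the category of all finitely presented
R-algebras with a map to A is filtered with colimit A; this row states that some small filtered
system of finitely presented R-algebras has colimit A.) -/
theorem result (R A : Type u) [CommRing R] [CommRing A] [Algebra R A] :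
    ∃ (I : Type u) (_ : SmallCategory I) (_ : IsFiltered I) (D : I ⥤ Under (CommRingCat.of R))
      (c : Cocone D) (_ : IsColimit c),
      (∀ i, (D.obj i).hom.hom.FinitePresentation) ∧
      Nonempty (c.pt ≅ Under.mk (CommRingCat.ofHom (algebraMap R A))) := by
  obtain ⟨J, i1, i2, F, c, hc, h, hpt⟩ :=
    Groth.Agent.Lib.Helper20.FPD.exists_filtered_colimit (A := R) (B := A)
      (Good := fun _ _ _ => True) (fun d hd => ⟨d, Groth.Agent.Lib.Helper20.FPD.le_refl' d, hd, trivial⟩)
  exact ⟨J, i1, i2, F, c, hc, fun i => (h i).1, ⟨eqToIso hpt⟩⟩

end Groth.Agent.S9183
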