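import Groth.Statements.S9221
import Groth.Agent.Lib.R2H3ProperDesc
import Groth.Agent.Lib.Helper1ProperOver
import Groth.Agent.S4357
import Groth.Agent.S0020

set_option autoImplicit false
universe u
open CategoryTheory AlgebraicGeometry
open Lim

namespace Groth.Agent.S9221

/-- Let S = lim S_i be a cofiltered limit of schemes with affine transition morphisms, S_{i₀} a
quasi-compact quasi-separated stage, f₀ : X₀ → Y₀ a morphism of quasi-compact quasi-separated
schemes over S_{i₀}, and f : X → Y its base change along S → S_{i₀} (base changes expressed by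
pullback squares). Let F₀ be a quasi-coherent O_{X₀}-module of finite type, with pullbacks F to X
and F_i to X_i, and assume f₀ is locally of finite type. If the support of F (a closed subset of X,
taken with its reduced structure; equivalently the scheme-theoretic support of F) is proper over Y,
then for some index i over i₀, with f_i : X_i → Y_i the base change of f₀ along S_i → S_{i₀}, the
support of F_i is proper over Y_i. -/
theorem result {I : Type u} [SmallCategory I] [IsCofiltered I]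
    (D : I ⥤ Scheme.{u}) (c : Limits.Cone D) (hc : Limits.IsLimit c)
    [∀ (i j : I) (f : i ⟶ j), IsAffineHom (D.map f)] (i₀ : I) [CompactSpace (D.obj i₀)]
    [QuasiSeparatedSpace (D.obj i₀)] {X₀ Y₀ : Scheme.{u}} (f₀ : X₀ ⟶ Y₀) (g₀ : Y₀ ⟶ D.obj i₀)
    [CompactSpace X₀] [QuasiSeparatedSpace X₀] [CompactSpace Y₀] [QuasiSeparatedSpace Y₀]
    [LocallyOfFiniteType f₀] (F₀ : X₀.Modules) [Coh.IsQCoh F₀] (hF₀ : CohB1.IsFT F₀)
    {X Y : Scheme.{u}} (f : X ⟶ Y) (g : Y ⟶ c.pt) (qY : Y ⟶ Y₀) (qX : X ⟶ X₀)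
    (hY : IsPullback qY g g₀ (c.π.app i₀)) (hX : IsPullback qX f f₀ qY) (hF : ClSub.IsProperOver f (CohB1.support ((Scheme.Modules.pullback qX).obj F₀))) :
    ∃ (i : I) (φ : i ⟶ i₀) (Xi Yi : Scheme.{u}) (fi : Xi ⟶ Yi) (gi : Yi ⟶ D.obj i) (pY : Yi ⟶ Y₀)
      (pX : Xi ⟶ X₀), IsPullback pY gi g₀ (D.map φ) ∧ IsPullback pX fi f₀ pY ∧ ClSub.IsProperOver fi (CohB1.support ((Scheme.Modules.pullback pX).obj F₀)) := by
  open Groth.Agent.Lib.Helper1 Groth.Agent.Lib.R2H3.ProperDesc CategoryTheory.Limits in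
  have hcl₀ : IsClosed (CohB1.support F₀) := Groth.Agent.S0020.result X₀ F₀ hF₀
  have hlft : LocallyOfFiniteType f :=
    MorphismProperty.of_isPullback (P := @LocallyOfFiniteType) hX inferInstance
  have hs : CohB1.support ((Scheme.Modules.pullback qX).obj F₀) = ⇑qX ⁻¹' CohB1.support F₀ :=
    Groth.Agent.S4357.result qX F₀ hF₀
  have hr : Set.range (pullback.snd (redι (CohB1.support F₀) hcl₀) qX) =
      ⇑qX ⁻¹' CohB1.support F₀ := by
    rw [Scheme.Pullback.range_snd, range_redι]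
  rw [hs, isProperOver_iff_isProper_comp f (pullback.snd (redι (CohB1.support F₀) hcl₀) qX) _ hr]
    at hF
  have hZsq : IsPullback (pullback.fst (redι (CohB1.support F₀) hcl₀) qX)
      (pullback.snd (redι (CohB1.support F₀) hcl₀) qX ≫ f)
      (redι (CohB1.support F₀) hcl₀ ≫ f₀) qY :=
    (IsPullback.of_hasPullback (redι (CohB1.support F₀) hcl₀) qX).paste_vert hX
  have : CompactSpace ↥(Scheme.IdealSheafData.vanishingIdeal ⟨CohB1.support F₀, hcl₀⟩).subscheme :=
    QuasiCompact.compactSpace_of_compactSpace (redι (CohB1.support F₀) hcl₀)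
  have : QuasiSeparatedSpace
      ↥(Scheme.IdealSheafData.vanishingIdeal ⟨CohB1.support F₀, hcl₀⟩).subscheme :=
    quasiSeparatedSpace_of_quasiSeparated (redι (CohB1.support F₀) hcl₀)
  obtain ⟨i, φ, Zi, Yi, fi', gi, pY, pZ, hP1, hP2, hprop⟩ :=
    proper_descend D c hc i₀ (redι (CohB1.support F₀) hcl₀ ≫ f₀) g₀
      (pullback.snd (redι (CohB1.support F₀) hcl₀) qX ≫ f) g qY
      (pullback.fst (redι (CohB1.support F₀) hcl₀) qX) hY hZsq
  -- the stage `Xi`
  have hXi : IsPullback (pullback.fst f₀ pY) (pullback.snd f₀ pY) f₀ pY :=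
    IsPullback.of_hasPullback f₀ pY
  have hcomm : (pZ ≫ redι (CohB1.support F₀) hcl₀) ≫ f₀ = fi' ≫ pY := by
    rw [Category.assoc, hP2.w]
  have h1 : hXi.lift (pZ ≫ redι (CohB1.support F₀) hcl₀) fi' hcomm ≫ pullback.fst f₀ pY =
      pZ ≫ redι (CohB1.support F₀) hcl₀ := hXi.lift_fst _ _ _
  have h2 : hXi.lift (pZ ≫ redι (CohB1.support F₀) hcl₀) fi' hcomm ≫ pullback.snd f₀ pY = fi' :=
    hXi.lift_snd _ _ _
  have hsq : IsPullback pZ (hXi.lift (pZ ≫ redι (CohB1.support F₀) hcl₀) fi' hcomm)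
      (redι (CohB1.support F₀) hcl₀) (pullback.fst f₀ pY) := by
    refine IsPullback.of_bot ?_ h1.symm hXi
    rw [h2]
    exact hP2
  have hci : IsClosedImmersion (hXi.lift (pZ ≫ redι (CohB1.support F₀) hcl₀) fi' hcomm) :=
    MorphismProperty.of_isPullback (P := @IsClosedImmersion) hsq inferInstance
  have hlfti : LocallyOfFiniteType (pullback.snd f₀ pY) :=
    MorphismProperty.of_isPullback (P := @LocallyOfFiniteType) hXi inferInstance
  have hri : Set.range (hXi.lift (pZ ≫ redι (CohB1.support F₀) hcl₀) fi' hcomm) =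
      ⇑(pullback.fst f₀ pY) ⁻¹' CohB1.support F₀ := by
    have e : hsq.isoPullback.hom ≫ pullback.snd (redι (CohB1.support F₀) hcl₀)
        (pullback.fst f₀ pY) = hXi.lift (pZ ≫ redι (CohB1.support F₀) hcl₀) fi' hcomm :=
      hsq.isoPullback_hom_snd
    have hr' : Set.range (pullback.snd (redι (CohB1.support F₀) hcl₀) (pullback.fst f₀ pY)) =
        ⇑(pullback.fst f₀ pY) ⁻¹' CohB1.support F₀ := by
      rw [Scheme.Pullback.range_snd, range_redι]
    rw [← hr', ← e]
    apply Set.Subset.antisymm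
    · rintro _ ⟨z, rfl⟩
      exact ⟨hsq.isoPullback.hom z, (Scheme.Hom.comp_apply _ _ _).symm⟩
    · rintro _ ⟨z, rfl⟩
      refine ⟨hsq.isoPullback.inv z, ?_⟩
      rw [← Scheme.Hom.comp_apply, Iso.inv_hom_id_assoc]
  refine ⟨i, φ, pullback f₀ pY, Yi, pullback.snd f₀ pY, gi, pY, pullback.fst f₀ pY, hP1, hXi, ?_⟩
  have hsi : CohB1.support ((Scheme.Modules.pullback (pullback.fst f₀ pY)).obj F₀) =
      ⇑(pullback.fst f₀ pY) ⁻¹' CohB1.support F₀ :=
    Groth.Agent.S4357.result (pullback.fst f₀ pY) F₀ hF₀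
  rw [hsi, isProperOver_iff_isProper_comp (pullback.snd f₀ pY)
    (hXi.lift (pZ ≫ redι (CohB1.support F₀) hcl₀) fi' hcomm) _ hri, h2]
  exact hprop

end Groth.Agent.S9221
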