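import Groth.Statements.S9312
import Mathlib

set_option autoImplicit false
universe u
open CAlg

namespace Groth.Agent.S9312

namespace Aux

open TensorProduct Polynomial

section
variable {R G : Type u} [CommRing R] [Group G] [Fintype G] [MulSemiringAction G R]


/-- action on `P ⊗ R` through the factor `R`. -/
noncomputable def tau (P : Type*) [CommRing P] [Algebra (FixedPoints.subring R G) P] (σ : G) :
    TensorProduct (FixedPoints.subring R G) P R →ₐ[(FixedPoints.subring R G)] TensorProduct (FixedPoints.subring R G) P R :=
  Algebra.TensorProduct.map (AlgHom.id (FixedPoints.subring R G) P) (MulSemiringAction.toAlgHom (FixedPoints.subring R G) R σ)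

section general
variable (P : Type*) [CommRing P] [Algebra (FixedPoints.subring R G) P]

@[simp] lemma tau_tmul (σ : G) (p : P) (r : R) :
    tau P σ (p ⊗ₜ[(FixedPoints.subring R G)] r) = p ⊗ₜ[(FixedPoints.subring R G)] (σ • r) := by
  simp [tau]

lemma tau_tau (σ ρ : G) (x : TensorProduct (FixedPoints.subring R G) P R) :
    tau P σ (tau P ρ x) = tau P (σ * ρ) x := by
  induction x using TensorProduct.induction_on with
  | zero => simp
  | tmul p r => simp [mul_smul]
  | add x y hx hy => simp only [map_add, hx, hy]

lemma incl_apply (p : P) : algebraMap P (TensorProduct (FixedPoints.subring R G) P R) p = p ⊗ₜ[(FixedPoints.subring R G)] (1 : R) := by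
  rw [Algebra.TensorProduct.algebraMap_apply]
  rfl

lemma tau_incl (σ : G) (p : P) :
    tau P σ (algebraMap P (TensorProduct (FixedPoints.subring R G) P R) p) = algebraMap P (TensorProduct (FixedPoints.subring R G) P R) p := by
  rw [incl_apply]; simp

variable {P} in
lemma map_tau {P' : Type*} [CommRing P'] [Algebra (FixedPoints.subring R G) P'] (φ : P →ₐ[(FixedPoints.subring R G)] P') (σ : G)
    (x : TensorProduct (FixedPoints.subring R G) P R) :
    Algebra.TensorProduct.map φ (AlgHom.id (FixedPoints.subring R G) R) (tau P σ x)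
      = tau P' σ (Algebra.TensorProduct.map φ (AlgHom.id (FixedPoints.subring R G) R) x) := by
  induction x using TensorProduct.induction_on with
  | zero => simp
  | tmul p r => simp
  | add x y hx hy => simp only [map_add, hx, hy]

lemma exists_of_invariant {ι : Type*} (ℬ : Module.Basis ι (FixedPoints.subring R G) P) (x : TensorProduct (FixedPoints.subring R G) P R)
    (hx : ∀ σ : G, tau P σ x = x) :
    ∃ p : P, x = p ⊗ₜ[(FixedPoints.subring R G)] (1 : R) := by
  classical
  have key : ∀ (σ : G) (y : TensorProduct (FixedPoints.subring R G) P R) (i : ι),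
      TensorProduct.equivFinsuppOfBasisLeft ℬ (tau P σ y) i
        = σ • (TensorProduct.equivFinsuppOfBasisLeft ℬ y i) := by
    intro σ y i
    induction y using TensorProduct.induction_on with
    | zero => simp
    | tmul p r =>
      rw [tau_tmul, TensorProduct.equivFinsuppOfBasisLeft_apply_tmul_apply,
        TensorProduct.equivFinsuppOfBasisLeft_apply_tmul_apply]
      exact (smul_comm σ _ r).symm
    | add y z hy hz => simp only [map_add, Finsupp.add_apply, smul_add, hy, hz]
  have hmem : ∀ i, TensorProduct.equivFinsuppOfBasisLeft ℬ x i ∈ FixedPoints.subring R G := by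
    intro i
    show ∀ σ : G, σ • _ = _
    intro σ
    rw [← key, hx]
  refine ⟨∑ i ∈ (TensorProduct.equivFinsuppOfBasisLeft ℬ x).support,
      (⟨TensorProduct.equivFinsuppOfBasisLeft ℬ x i, hmem i⟩ : FixedPoints.subring R G) • ℬ i, ?_⟩
  calc x = (TensorProduct.equivFinsuppOfBasisLeft ℬ).symm
            (TensorProduct.equivFinsuppOfBasisLeft ℬ x) :=
        ((TensorProduct.equivFinsuppOfBasisLeft ℬ).symm_apply_apply x).symm
    _ = ∑ i ∈ (TensorProduct.equivFinsuppOfBasisLeft ℬ x).support,
          ℬ i ⊗ₜ[(FixedPoints.subring R G)] (TensorProduct.equivFinsuppOfBasisLeft ℬ x i) := by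
        rw [TensorProduct.equivFinsuppOfBasisLeft_symm_apply]; rfl
    _ = _ := by
        rw [TensorProduct.sum_tmul]
        refine Finset.sum_congr rfl fun i _ => ?_
        rw [TensorProduct.smul_tmul]
        congr 1
        simp [Subring.smul_def]

lemma incl_injective [Module.Flat (FixedPoints.subring R G) P] :
    Function.Injective (algebraMap P (TensorProduct (FixedPoints.subring R G) P R)) := by
  have h := Algebra.TensorProduct.includeLeft_injective (R := (FixedPoints.subring R G)) (S := (FixedPoints.subring R G)) (A := P) (B := R)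
    (fun x y h => Subtype.ext h)
  intro p q hpq
  apply h
  rw [incl_apply, incl_apply] at hpq
  simpa using hpq

/-- the norm polynomial `∏ (T - σ x)`. -/
noncomputable def normPoly (x : TensorProduct (FixedPoints.subring R G) P R) : (TensorProduct (FixedPoints.subring R G) P R)[X] :=
  ∏ σ : G, (X - C (tau P σ x))

lemma normPoly_monic (x : TensorProduct (FixedPoints.subring R G) P R) : (normPoly P x).Monic :=
  Polynomial.monic_prod_of_monic _ _ fun σ _ => Polynomial.monic_X_sub_C _

lemma normPoly_map_tau (ρ : G) (x : TensorProduct (FixedPoints.subring R G) P R) :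
    (normPoly P x).map (tau P ρ).toRingHom = normPoly P x := by
  unfold normPoly
  rw [Polynomial.map_prod]
  simp only [Polynomial.map_sub, Polynomial.map_X, Polynomial.map_C, AlgHom.toRingHom_eq_coe,
    RingHom.coe_coe, tau_tau]
  exact Fintype.prod_equiv (Equiv.mulLeft ρ) _ _ fun σ => rfl

lemma coeff_invariant (ρ : G) (x : TensorProduct (FixedPoints.subring R G) P R) (n : ℕ) :
    tau P ρ ((normPoly P x).coeff n) = (normPoly P x).coeff n := by
  have := congrArg (fun q => Polynomial.coeff q n) (normPoly_map_tau P ρ x)
  simpa [Polynomial.coeff_map] using this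

lemma exists_lift {ι : Type*} (ℬ : Module.Basis ι (FixedPoints.subring R G) P) (x : TensorProduct (FixedPoints.subring R G) P R) :
    ∃ Q : P[X], Q.Monic ∧ Q.map (algebraMap P (TensorProduct (FixedPoints.subring R G) P R)) = normPoly P x := by
  have hl : normPoly P x ∈ Polynomial.lifts (algebraMap P (TensorProduct (FixedPoints.subring R G) P R)) := by
    rw [Polynomial.lifts_iff_coeff_lifts]
    intro n
    obtain ⟨p, hp⟩ := exists_of_invariant P ℬ _ (fun σ => coeff_invariant P σ x n)
    exact ⟨p, by rw [hp, incl_apply]⟩
  obtain ⟨Q, hQ, -, hQm⟩ := Polynomial.lifts_and_natDegree_eq_and_monic hl (normPoly_monic P x)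
  exact ⟨Q, hQm, hQ⟩

variable {P} in
lemma normPoly_map {P' : Type*} [CommRing P'] [Algebra (FixedPoints.subring R G) P'] (φ : P →ₐ[(FixedPoints.subring R G)] P')
    (x : TensorProduct (FixedPoints.subring R G) P R) :
    (normPoly P x).map (Algebra.TensorProduct.map φ (AlgHom.id (FixedPoints.subring R G) R)).toRingHom
      = normPoly P' (Algebra.TensorProduct.map φ (AlgHom.id (FixedPoints.subring R G) R) x) := by
  unfold normPoly
  rw [Polynomial.map_prod]
  simp only [Polynomial.map_sub, Polynomial.map_X, Polynomial.map_C, AlgHom.toRingHom_eq_coe,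
    RingHom.coe_coe, map_tau]

variable {P} in
lemma map_incl {P' : Type*} [CommRing P'] [Algebra (FixedPoints.subring R G) P'] (φ : P →ₐ[(FixedPoints.subring R G)] P') (Q : P[X]) :
    (Q.map (algebraMap P (TensorProduct (FixedPoints.subring R G) P R))).map
        (Algebra.TensorProduct.map φ (AlgHom.id (FixedPoints.subring R G) R)).toRingHom
      = (Q.map φ.toRingHom).map (algebraMap P' (TensorProduct (FixedPoints.subring R G) P' R)) := by
  rw [Polynomial.map_map, Polynomial.map_map]
  have hc : (Algebra.TensorProduct.map φ (AlgHom.id (FixedPoints.subring R G) R)).toRingHom.comp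
      (algebraMap P (TensorProduct (FixedPoints.subring R G) P R))
      = (algebraMap P' (TensorProduct (FixedPoints.subring R G) P' R)).comp φ.toRingHom := by
    refine RingHom.ext fun p => ?_
    simp only [RingHom.comp_apply, AlgHom.toRingHom_eq_coe, RingHom.coe_coe, incl_apply,
      Algebra.TensorProduct.map_tmul, map_one]
  rw [hc]

lemma normPoly_incl (p : P) :
    normPoly P (algebraMap P (TensorProduct (FixedPoints.subring R G) P R) p)
      = (X - C (algebraMap P (TensorProduct (FixedPoints.subring R G) P R) p)) ^ Fintype.card G := by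
  unfold normPoly
  simp only [tau_incl]
  rw [Finset.prod_const, Finset.card_univ]

lemma normPoly_zero :
    normPoly P (0 : TensorProduct (FixedPoints.subring R G) P R) = X ^ Fintype.card G := by
  unfold normPoly
  simp [Finset.prod_const, Finset.card_univ]

end general

section cover
variable (R G) (A : Type u) [CommRing A] [Algebra (FixedPoints.subring R G) A]

abbrev P1 := MvPolynomial A (FixedPoints.subring R G)

noncomputable def pi1 : P1 R G A →ₐ[(FixedPoints.subring R G)] A := MvPolynomial.aeval id

lemma pi1_surj : Function.Surjective (pi1 R G A) := fun a => ⟨MvPolynomial.X a, by simp [pi1]⟩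

abbrev P2 := MvPolynomial (A ⊕ ↥(RingHom.ker (pi1 R G A))) (FixedPoints.subring R G)

noncomputable def inc : P1 R G A →ₐ[(FixedPoints.subring R G)] P2 R G A := MvPolynomial.rename Sum.inl

noncomputable def ev : P2 R G A →ₐ[(FixedPoints.subring R G)] P1 R G A :=
  MvPolynomial.aeval (Sum.elim MvPolynomial.X (fun j => (j : P1 R G A)))

noncomputable def ev0 : P2 R G A →ₐ[(FixedPoints.subring R G)] P1 R G A :=
  MvPolynomial.aeval (Sum.elim MvPolynomial.X (fun _ => 0))

lemma ev_inc (p : P1 R G A) : ev R G A (inc R G A p) = p := by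
  unfold ev inc
  rw [MvPolynomial.aeval_rename]
  simp

lemma pi_ev : (pi1 R G A).comp (ev R G A) = (pi1 R G A).comp (ev0 R G A) := by
  apply MvPolynomial.algHom_ext
  rintro (a | j)
  · simp [ev, ev0]
  · have := (RingHom.mem_ker (f := pi1 R G A)).1 j.2
    simp [ev, ev0, this]

lemma map_ev_inc (t : TensorProduct (FixedPoints.subring R G) (P1 R G A) R) :
    Algebra.TensorProduct.map (ev R G A) (AlgHom.id (FixedPoints.subring R G) R)
      (Algebra.TensorProduct.map (inc R G A) (AlgHom.id (FixedPoints.subring R G) R) t) = t := by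
  induction t using TensorProduct.induction_on with
  | zero => simp
  | tmul p r => simp [ev_inc]
  | add x y hx hy => simp only [map_add, hx, hy]

lemma good_of_mem (y : TensorProduct (FixedPoints.subring R G) (P1 R G A) R)
    (hy : y ∈ Ideal.map (Algebra.TensorProduct.includeLeft :
        P1 R G A →ₐ[(FixedPoints.subring R G)] TensorProduct (FixedPoints.subring R G) (P1 R G A) R) (RingHom.ker (pi1 R G A))) :
    ∃ x'' : TensorProduct (FixedPoints.subring R G) (P2 R G A) R,
      Algebra.TensorProduct.map (ev R G A) (AlgHom.id (FixedPoints.subring R G) R) x'' = y ∧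
      Algebra.TensorProduct.map (ev0 R G A) (AlgHom.id (FixedPoints.subring R G) R) x'' = 0 := by
  have hy' : y ∈ Submodule.span (TensorProduct (FixedPoints.subring R G) (P1 R G A) R)
      ((Algebra.TensorProduct.includeLeft :
        P1 R G A →ₐ[(FixedPoints.subring R G)] TensorProduct (FixedPoints.subring R G) (P1 R G A) R) '' (RingHom.ker (pi1 R G A) : Set (P1 R G A))) := hy
  clear hy
  induction hy' using Submodule.span_induction with
  | mem y h =>
    obtain ⟨j, hj, rfl⟩ := h
    refine ⟨(MvPolynomial.X (Sum.inr ⟨j, hj⟩)) ⊗ₜ 1, ?_, ?_⟩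
    · simp [ev]
    · simp [ev0]
  | zero => exact ⟨0, by simp, by simp⟩
  | add y z _ _ hy hz =>
    obtain ⟨x1, h1, h1'⟩ := hy
    obtain ⟨x2, h2, h2'⟩ := hz
    exact ⟨x1 + x2, by rw [map_add, h1, h2], by rw [map_add, h1', h2', add_zero]⟩
  | smul t y _ hy =>
    obtain ⟨x1, h1, h1'⟩ := hy
    refine ⟨Algebra.TensorProduct.map (inc R G A) (AlgHom.id (FixedPoints.subring R G) R) t * x1, ?_, ?_⟩
    · rw [map_mul, h1, map_ev_inc, smul_eq_mul]
    · rw [map_mul, h1', mul_zero]

end cover

theorem part1 (A : Type u) [CommRing A] [Algebra (FixedPoints.subring R G) A]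
    (b : TensorProduct (FixedPoints.subring R G) A R)
    (hb : ∀ σ : G, Algebra.TensorProduct.map (AlgHom.id (FixedPoints.subring R G) A)
        (MulSemiringAction.toAlgHom (FixedPoints.subring R G) R σ) b = b) :
    ∃ P : Polynomial A, P.Monic ∧
        Polynomial.map (algebraMap A (TensorProduct (FixedPoints.subring R G) A R)) P =
          (Polynomial.X - Polynomial.C b) ^ Fintype.card G := by
  classical
  obtain ⟨b', hb'⟩ := Algebra.TensorProduct.map_surjective (pi1 R G A) (AlgHom.id (FixedPoints.subring R G) R)
    (pi1_surj R G A) Function.surjective_id b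
  obtain ⟨Q, hQm, hQ⟩ := exists_lift (P1 R G A) (MvPolynomial.basisMonomials A (FixedPoints.subring R G)) b'
  refine ⟨Q.map (pi1 R G A).toRingHom, hQm.map _, ?_⟩
  rw [← map_incl (pi1 R G A) Q, hQ, normPoly_map, hb']
  unfold normPoly
  have : ∀ σ : G, tau A σ b = b := hb
  simp only [this, Finset.prod_const, Finset.card_univ]

theorem part2 (A : Type u) [CommRing A] [Algebra (FixedPoints.subring R G) A] (a : A)
    (ha : algebraMap A (TensorProduct (FixedPoints.subring R G) A R) a = 0) :
    (Polynomial.X - Polynomial.C a) ^ Fintype.card G = (Polynomial.X : A[X]) ^ Fintype.card G := by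
  classical
  have hπf : pi1 R G A (MvPolynomial.X a) = a := by simp [pi1]
  have ha' : a ⊗ₜ[(FixedPoints.subring R G)] (1 : R) = 0 := by rw [← ha, incl_apply]
  have hker : algebraMap (P1 R G A) (TensorProduct (FixedPoints.subring R G) (P1 R G A) R) (MvPolynomial.X a) ∈
      RingHom.ker (Algebra.TensorProduct.map (pi1 R G A) (AlgHom.id (FixedPoints.subring R G) R)) := by
    rw [RingHom.mem_ker, incl_apply, Algebra.TensorProduct.map_tmul, hπf]
    simpa using ha'
  rw [Algebra.TensorProduct.rTensor_ker _ (pi1_surj R G A)] at hker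
  obtain ⟨x'', hx1, hx0⟩ := good_of_mem R G A _ hker
  obtain ⟨Q, hQm, hQ⟩ := exists_lift (P2 R G A) (MvPolynomial.basisMonomials _ _) x''
  have hA : Q.map (ev R G A).toRingHom = (X - C (MvPolynomial.X a)) ^ Fintype.card G := by
    apply Polynomial.map_injective _ (incl_injective (R := R) (G := G) (P1 R G A))
    rw [← map_incl (ev R G A) Q, hQ, normPoly_map, hx1, normPoly_incl]
    simp
  have hB : Q.map (ev0 R G A).toRingHom = X ^ Fintype.card G := by
    apply Polynomial.map_injective _ (incl_injective (R := R) (G := G) (P1 R G A))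
    rw [← map_incl (ev0 R G A) Q, hQ, normPoly_map, hx0, normPoly_zero]
    simp
  have h1 := congrArg (Polynomial.map (pi1 R G A).toRingHom) hA
  have h2 := congrArg (Polynomial.map (pi1 R G A).toRingHom) hB
  rw [Polynomial.map_map] at h1 h2
  have hcomp : (pi1 R G A).toRingHom.comp (ev R G A).toRingHom
      = (pi1 R G A).toRingHom.comp (ev0 R G A).toRingHom :=
    RingHom.ext fun p => DFunLike.congr_fun (pi_ev R G A) p
  rw [hcomp, h2] at h1
  have h3 : Polynomial.map (pi1 R G A).toRingHom ((X - C (MvPolynomial.X a)) ^ Fintype.card G)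
      = (X - C a) ^ Fintype.card G := by
    simp [hπf]
  rw [← h3, ← h1]
  simp

end

end Aux

/-- Let a finite group G with n elements act on a ring R by ring automorphisms, with invariant ring R^G,
and let A be an algebra over R^G; G acts on A ⊗ R through the factor R. (1) For every G-invariant b
∈ A ⊗ R there is a monic polynomial over A whose image in (A ⊗ R)[T] is (T - b)^n. (2) For every a
in the kernel of A → A ⊗ R, all coefficients of (T - a)^n below degree n vanish, that is (T - a)^n =
T^n in A[T]. -/
theorem result (R G A : Type u) [CommRing R] [Group G] [Fintype G]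
    [MulSemiringAction G R] [CommRing A] [Algebra (FixedPoints.subring R G) A] :
    (∀ b : TensorProduct (FixedPoints.subring R G) A R,
      (∀ σ : G, Algebra.TensorProduct.map (AlgHom.id (FixedPoints.subring R G) A)
        (MulSemiringAction.toAlgHom (FixedPoints.subring R G) R σ) b = b) →
      ∃ P : Polynomial A, P.Monic ∧
        Polynomial.map (algebraMap A (TensorProduct (FixedPoints.subring R G) A R)) P =
          (Polynomial.X - Polynomial.C b) ^ Fintype.card G) ∧
    (∀ a : A, algebraMap A (TensorProduct (FixedPoints.subring R G) A R) a = 0 →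
      ∀ i : ℕ, i < Fintype.card G → ((Polynomial.X - Polynomial.C a) ^ Fintype.card G).coeff i = 0) := by
  refine ⟨fun b hb => Aux.part1 A b hb, fun a ha i hi => ?_⟩
  rw [Aux.part2 A a ha, Polynomial.coeff_X_pow, if_neg (Nat.ne_of_lt hi)]

end Groth.Agent.S9312
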