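import Groth.Statements.S9325
import Mathlib

set_option autoImplicit false
universe u
open CAlg

namespace Groth.Agent.S9325

/-- Local version: `φ : A' → L` surjective with kernel `I'`, `F_i ∈ J'`, `J' ≤ I' ⊔ (F)`,
`φ ∘ F` is `H₁`-regular; then `I' ⊓ J'^2 ≤ I' * J'`. -/
theorem local_version {A' L : Type u} [CommRing A'] [CommRing L] (φ : A' →+* L)
    (hφ : Function.Surjective φ) (I' J' : Ideal A') (hker : RingHom.ker φ = I')
    {c : ℕ} (F : Fin c → A') (hF : ∀ i, F i ∈ J')
    (hJ : J' ≤ I' ⊔ Ideal.span (Set.range F))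
    (hreg : CAlgX.IsH1Regular (fun i => φ (F i))) :
    I' ⊓ J' ^ 2 ≤ I' * J' := by
  classical
  set K : Ideal A' := Ideal.span (Set.range F) with hK
  have hKJ : K ≤ J' := by
    rw [hK, Ideal.span_le]
    rintro _ ⟨i, rfl⟩
    exact hF i
  -- Step 1
  have hsq : J' ^ 2 ≤ I' * J' ⊔ K * K := by
    rw [pow_two]
    calc J' * J' ≤ (I' ⊔ K) * J' := Ideal.mul_mono_left hJ
      _ = I' * J' ⊔ K * J' := Ideal.sup_mul _ _ _
      _ ≤ I' * J' ⊔ K * (I' ⊔ K) := sup_le_sup_left (Ideal.mul_mono_right hJ) _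
      _ = I' * J' ⊔ (K * I' ⊔ K * K) := by rw [Ideal.mul_sup]
      _ ≤ I' * J' ⊔ K * K := by
        refine sup_le le_sup_left (sup_le ?_ le_sup_right)
        rw [mul_comm]
        exact le_sup_of_le_left (Ideal.mul_mono_right hKJ)
  have hKK : ∀ d ∈ K * K, ∃ a : Fin c → A', (∀ i, a i ∈ K) ∧ d = ∑ i, a i * F i := by
    intro d hd
    refine Submodule.mul_induction_on hd ?_ ?_
    · intro x hx y hy
      obtain ⟨cf, rfl⟩ := (Ideal.mem_span_range_iff_exists_fun).mp hx
      refine ⟨fun i => cf i * y, fun i => Ideal.mul_mem_left _ _ hy, ?_⟩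
      rw [Finset.sum_mul]
      refine Finset.sum_congr rfl fun i _ => by ring
    · rintro x y ⟨a, ha, rfl⟩ ⟨b, hb, rfl⟩
      refine ⟨fun i => a i + b i, fun i => Ideal.add_mem _ (ha i) (hb i), ?_⟩
      rw [← Finset.sum_add_distrib]
      refine Finset.sum_congr rfl fun i _ => by ring
  -- Step 3
  have hlift : ∀ v ∈ Submodule.span L {v : Fin c → L | ∃ i j : Fin c,
      v = Pi.single i (φ (F j)) - Pi.single j (φ (F i))},
      ∃ w : Fin c → A', (∀ i, φ (w i) = v i) ∧ ∑ i, w i * F i = 0 := by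
    intro v hv
    induction hv using Submodule.span_induction with
    | mem v hv =>
      obtain ⟨i, j, rfl⟩ := hv
      refine ⟨Pi.single i (F j) - Pi.single j (F i), fun k => ?_, ?_⟩
      · simp only [Pi.sub_apply, Pi.single_apply, map_sub]
        congr 1 <;> split_ifs <;> simp
      · simp only [Pi.sub_apply, sub_mul, Finset.sum_sub_distrib, Pi.single_apply, ite_mul,
          zero_mul, Finset.sum_ite_eq', Finset.mem_univ, if_true]
        ring
    | zero => exact ⟨0, fun i => by simp, by simp⟩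
    | add v v' _ _ hv hv' =>
      obtain ⟨w, hw, hw0⟩ := hv
      obtain ⟨w', hw', hw0'⟩ := hv'
      refine ⟨w + w', fun i => by simp [hw, hw'], ?_⟩
      simp only [Pi.add_apply, add_mul, Finset.sum_add_distrib, hw0, hw0', add_zero]
    | smul l v _ hv =>
      obtain ⟨w, hw, hw0⟩ := hv
      obtain ⟨lam, rfl⟩ := hφ l
      refine ⟨fun i => lam * w i, fun i => by simp [hw], ?_⟩
      simp only [mul_assoc, ← Finset.mul_sum, hw0, mul_zero]
  -- main
  rintro a ⟨haI, haJ⟩
  obtain ⟨b, hb, d, hd, hbd⟩ := Submodule.mem_sup.mp (hsq haJ)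
  obtain ⟨av, hav, hdav⟩ := hKK d hd
  have hbI : b ∈ I' := (Ideal.mul_le_left : I' * J' ≤ I') hb
  have hsumI : ∑ i, av i * F i ∈ I' := by
    have h1 := Ideal.sub_mem _ haI hbI
    rw [← hbd, add_sub_cancel_left, hdav] at h1
    exact h1
  have hzero : ∑ i, φ (av i) * φ (F i) = 0 := by
    rw [← hker, RingHom.mem_ker, map_sum] at hsumI
    rw [← hsumI]
    refine Finset.sum_congr rfl fun i _ => (map_mul φ _ _).symm
  obtain ⟨w, hw, hw0⟩ := hlift _ (hreg (fun i => φ (av i)) hzero)
  have hu : ∀ i, av i - w i ∈ I' := by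
    intro i
    rw [← hker, RingHom.mem_ker, map_sub, hw, sub_self]
  have h2 : ∑ i, av i * F i = ∑ i, (av i - w i) * F i := by
    simp only [sub_mul, Finset.sum_sub_distrib, hw0, sub_zero]
  rw [← hbd, hdav, h2]
  exact Ideal.add_mem _ hb (Ideal.sum_mem _ fun i _ => Ideal.mul_mem_mul (hu i) (hF i))

/-- Let `A` be a ring and `I ⊆ J` ideals of `A` such that the ideal `J/I` of `A/I` is `H_1`-regular: for
every prime `𝔮` of `A/I` containing `J/I` there is `g ∉ 𝔮` such that the extension of `J/I` to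
`(A/I)_g` is generated by an `H_1`-regular sequence (a finite sequence all of whose linear relations
are combinations of the trivial ones). Then `I ∩ J² = I J`. -/
theorem result {A : Type u} [CommRing A] (I J : Ideal A)
    (hIJ : I ≤ J)
    (h : ∀ (𝔮 : Ideal (A ⧸ I)) [𝔮.IsPrime], J.map (Ideal.Quotient.mk I) ≤ 𝔮 →
      ∃ g : A ⧸ I, g ∉ 𝔮 ∧ ∃ (c : ℕ) (f : Fin c → Localization.Away g),
        CAlgX.IsH1Regular f ∧
          Ideal.span (Set.range f) =
            (J.map (Ideal.Quotient.mk I)).map (algebraMap (A ⧸ I) (Localization.Away g))) :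
    I ⊓ J ^ 2 = I * J := by
  classical
  refine le_antisymm ?_ (le_inf Ideal.mul_le_left ?_)
  swap
  · rw [pow_two]; exact Ideal.mul_mono_left hIJ
  rintro a ⟨haI, haJ⟩
  by_contra hnot
  -- the ideal of multipliers
  let Q : Ideal A :=
    { carrier := {x | x * a ∈ I * J}
      add_mem' := fun {x y} hx hy => by
        show (x + y) * a ∈ I * J
        rw [add_mul]; exact Ideal.add_mem _ hx hy
      zero_mem' := by show (0 : A) * a ∈ I * J; rw [zero_mul]; exact Ideal.zero_mem _
      smul_mem' := fun r x hx => by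
        show (r • x) * a ∈ I * J
        rw [smul_eq_mul, mul_assoc]; exact Ideal.mul_mem_left _ _ hx }
  have hQ : Q ≠ ⊤ := by
    intro hQ
    have : (1 : A) ∈ Q := by rw [hQ]; trivial
    have h1 : (1 : A) * a ∈ I * J := this
    rw [one_mul] at h1
    exact hnot h1
  obtain ⟨P, hPmax, hQP⟩ := Ideal.exists_le_maximal Q hQ
  have hPprime : P.IsPrime := hPmax.isPrime
  have hJP : J ≤ P := fun j hj => hQP (show j * a ∈ I * J by
    rw [mul_comm j a]; exact Ideal.mul_mem_mul haI hj)
  have hIP : I ≤ P := hIJ.trans hJP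
  let mk := Ideal.Quotient.mk I
  have hmk : Function.Surjective mk := Ideal.Quotient.mk_surjective
  have h𝔮 : (P.map mk).IsPrime :=
    Ideal.map_isPrime_of_surjective hmk (by rw [Ideal.mk_ker]; exact hIP)
  obtain ⟨g, hg𝔮, c, f, hreg, hspan⟩ := h (P.map mk) (Ideal.map_mono hJP)
  obtain ⟨gt, rfl⟩ := hmk g
  have hgtP : gt ∉ P := fun hgt => hg𝔮 (Ideal.mem_map_of_mem _ hgt)
  -- the two localizations
  let L := Localization.Away (mk gt)
  let A' := Localization.Away gt
  let ψ : A →+* L := (algebraMap (A ⧸ I) L).comp mk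
  have hψg : IsUnit (ψ gt) := IsLocalization.Away.algebraMap_isUnit (mk gt)
  let φ : A' →+* L := IsLocalization.Away.lift gt hψg
  have hφalg : ∀ x : A, φ (algebraMap A A' x) = ψ x := fun x => IsLocalization.Away.lift_eq gt hψg x
  have hφcomp : φ.comp (algebraMap A A') = ψ := IsLocalization.Away.lift_comp gt hψg
  -- φ surjective
  have hφsurj : Function.Surjective φ := by
    intro l
    obtain ⟨b, ⟨_, n, rfl⟩, rfl⟩ := IsLocalization.exists_mk'_eq (Submonoid.powers (mk gt)) l
    obtain ⟨bt, rfl⟩ := hmk b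
    refine ⟨IsLocalization.mk' A' bt (⟨gt ^ n, n, rfl⟩ : Submonoid.powers gt), ?_⟩
    rw [eq_comm, IsLocalization.mk'_eq_iff_eq_mul]
    have h1 := IsLocalization.mk'_spec A' bt (⟨gt ^ n, n, rfl⟩ : Submonoid.powers gt)
    have h2 := congrArg φ h1
    rw [map_mul, hφalg, hφalg] at h2
    simpa [ψ] using h2.symm
  -- kernel of φ
  have hker : RingHom.ker φ = I.map (algebraMap A A') := by
    apply le_antisymm
    · intro z hz
      obtain ⟨x, s, rfl⟩ := IsLocalization.exists_mk'_eq (Submonoid.powers gt) z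
      rw [IsLocalization.mk'_mem_map_algebraMap_iff]
      have h1 := IsLocalization.mk'_spec A' x s
      have h2 := congrArg φ h1
      rw [map_mul, RingHom.mem_ker.mp hz, zero_mul, hφalg] at h2
      have h3 : algebraMap (A ⧸ I) L (mk x) = 0 := h2.symm
      rw [IsLocalization.map_eq_zero_iff (Submonoid.powers (mk gt))] at h3
      obtain ⟨⟨_, m, rfl⟩, hm⟩ := h3
      refine ⟨gt ^ m, ⟨m, rfl⟩, ?_⟩
      rw [← Ideal.Quotient.eq_zero_iff_mem, map_mul, map_pow]
      exact hm
    · rw [Ideal.map_le_iff_le_comap]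
      intro x hx
      rw [Ideal.mem_comap, RingHom.mem_ker, hφalg]
      show algebraMap (A ⧸ I) L (mk x) = 0
      rw [(Ideal.Quotient.eq_zero_iff_mem).mpr hx, map_zero]
  -- ideals
  have hmapJ : (J.map (algebraMap A A')).map φ = Ideal.span (Set.range f) := by
    rw [hspan, Ideal.map_map, Ideal.map_map, hφcomp]
  have hfmem : ∀ i, ∃ x ∈ J.map (algebraMap A A'), φ x = f i := by
    intro i
    have : f i ∈ (J.map (algebraMap A A')).map φ := by
      rw [hmapJ]; exact Ideal.subset_span ⟨i, rfl⟩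
    exact (Ideal.mem_map_iff_of_surjective φ hφsurj).mp this
  choose F hFJ hFf using hfmem
  have hfF : (fun i => φ (F i)) = f := funext hFf
  have hJle : J.map (algebraMap A A') ≤ I.map (algebraMap A A') ⊔ Ideal.span (Set.range F) := by
    intro y hy
    have h1 : φ y ∈ (Ideal.span (Set.range F)).map φ := by
      rw [Ideal.map_span, ← Set.range_comp]
      have : (φ ∘ F) = f := hfF
      rw [this, ← hmapJ]
      exact Ideal.mem_map_of_mem _ hy
    obtain ⟨z, hz, hzy⟩ := (Ideal.mem_map_iff_of_surjective φ hφsurj).mp h1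
    have h2 : y - z ∈ I.map (algebraMap A A') := by
      rw [← hker, RingHom.mem_ker, map_sub, hzy, sub_self]
    have : y = (y - z) + z := by ring
    rw [this]
    exact Submodule.add_mem_sup h2 hz
  have hloc := local_version φ hφsurj (I.map (algebraMap A A')) (J.map (algebraMap A A')) hker
    F hFJ hJle (by rw [hfF]; exact hreg)
  have ha' : algebraMap A A' a ∈ I.map (algebraMap A A') ⊓ (J.map (algebraMap A A')) ^ 2 := by
    refine ⟨Ideal.mem_map_of_mem _ haI, ?_⟩
    rw [← Ideal.map_pow]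
    exact Ideal.mem_map_of_mem _ haJ
  have ha'' := hloc ha'
  rw [← Ideal.map_mul, IsLocalization.algebraMap_mem_map_algebraMap_iff (Submonoid.powers gt)] at ha''
  obtain ⟨_, ⟨m, rfl⟩, hm⟩ := ha''
  have : gt ^ m ∈ P := hQP hm
  exact hgtP (hPprime.mem_of_pow_mem m this)

end Groth.Agent.S9325
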