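import Groth.Statements.S9367
import Mathlib
import Groth.Agent.Lib.R2H4SyntCM
import Groth.Agent.Lib.Helper5CMDim

set_option autoImplicit false
universe u
open Synt

namespace Groth.Agent.S9367

open AlgebraicGeometry CategoryTheory in
/-- If f : X → S is syntomic, then x ↦ dim_x(X_{f x}) is locally constant on X. -/
theorem result {X S : Scheme.{u}} (f : X ⟶ S) (hf : Synt.IsSyntomicMor f) :
    IsLocallyConstant (fun x : ↑X => FlatMor.fibreDimAt f x) := by
  have hlfp : LocallyOfFinitePresentation f := Groth.Agent.Lib.H5b.Synt.lfp_of_isSyntomicMor f hf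
  rw [IsLocallyConstant.iff_exists_open]
  intro x
  obtain ⟨d, hd⟩ := Groth.Agent.Lib.Helper3.GrpFibDim.exists_nat_fibreDimAt_eq f x
  obtain ⟨U, hxU, -, hconst⟩ :=
    Groth.Agent.Lib.Helper5.CMDim.exists_opens_fibreDimAt_eq_of_isCMAt f x d
      (Groth.Agent.Lib.R2H4.SyntCM.isCMAt_of_isSyntomicMor f hf x) hd
  exact ⟨U, U.2, hxU, fun u hu => (hconst u hu).trans hd.symm⟩

end Groth.Agent.S9367
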