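import Groth.Statements.S9522
import Groth.Agent.Lib.R2H2DevK

set_option autoImplicit false
universe u
open CategoryTheory CategoryTheory.Limits AlgebraicGeometry
attribute [local instance] HasDerivedCategory.standard
open Coherent

namespace Groth.Agent.S9522

/-- Let X be a Noetherian scheme, Z₀ ⊆ X an irreducible closed subset with generic point ξ, and P an
isomorphism-invariant property of O_X-modules that holds for every zero module and such that (1) for
every short exact sequence 0 → F₁ → F → F₂ → 0 of coherent modules, P(F₁) and P(F₂) imply P(F); (2)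
for coherent F, P(F^⊕r) for some r ≥ 1 implies P(F); (3) P holds for i_*I for every closed immersion
i : Z → X with Z integral, i(Z) a proper subset of Z₀, and every quasi-coherent ideal sheaf I ⊆ O_Z;
(4) there is a coherent module G with support equal to Z₀, whose stalk at ξ is annihilated by the
maximal ideal of O_{X,ξ}, and such that for every quasi-coherent sheaf of ideals J on X with ξ ∉
V(J) there is a quasi-coherent submodule G' ⊆ J·G whose inclusion into G induces an isomorphism on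
stalks at ξ and for which P holds. Then P holds for every coherent O_X-module whose support is
contained in Z₀. (The published statement does not ask that P hold for the zero module, although its
proof uses this for a filtration with no steps; without it the conclusion fails for the zero module
when Z₀ is a closed point: on the spectrum of a field, with P(F) meaning that F is nonzero, every
other hypothesis holds. This row assumes that P holds for every zero module.) -/
theorem result (X : Scheme.{u}) [IsNoetherian X]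
    (Z₀ : Set X) (hZ₀ : IsClosed Z₀) (hirr : IsIrreducible Z₀) (ξ : X) (hξ : ξ ∈ Z₀ ∧ closure {ξ} = Z₀)
    (P : X.Modules → Prop) (hP : ∀ M N : X.Modules, Nonempty (M ≅ N) → P M → P N)
    (h₀ : ∀ M : X.Modules, IsZero M → P M)
    (h₁ : ∀ S : ShortComplex X.Modules, S.ShortExact → Coh.IsCoh S.X₁ → Coh.IsCoh S.X₂ → Coh.IsCoh S.X₃ →
      P S.X₁ → P S.X₃ → P S.X₂)
    (h₂ : ∀ (F : X.Modules) (r : ℕ), Coh.IsCoh F → 1 ≤ r → P (∐ fun _ : Fin r => F) → P F)
    (h₃ : ∀ (Z : Scheme.{u}) (i : Z ⟶ X), IsClosedImmersion i → IsIntegral Z →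
      Set.range ⇑i ⊆ Z₀ → Set.range ⇑i ≠ Z₀ →
      ∀ (I : Z.Modules) (ι : I ⟶ Coh.structureModule Z), Mono ι → Coh.IsQCoh I → P ((Coh.push i).obj I))
    (h₄ : ∃ G : X.Modules, Coh.IsCoh G ∧ CohB1.support G = Z₀ ∧
      (∀ a ∈ IsLocalRing.maximalIdeal (X.presheaf.stalk ξ), ∀ m : ↑(G.presheaf.stalk ξ), a • m = 0) ∧
      ∀ J : X.IdealSheafData, ξ ∉ (J.support : Set X) →
        ∃ (G' : X.Modules) (ι' : G' ⟶ (Dual3.idealMul J).obj G), Mono ι' ∧ Coh.IsQCoh G' ∧
          IsIso ((TopCat.Presheaf.stalkFunctor _ ξ).map (ι' ≫ Dual3.idealMulι J G).mapPresheaf) ∧ P G')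
    (F : X.Modules) (hF : Coh.IsCoh F) (hsupp : CohB1.support F ⊆ Z₀) : P F := by
  classical
  obtain ⟨G, cG, sG, hkG, hG4⟩ := h₄
  have hext : ∀ S : ShortComplex X.Modules, S.ShortExact → Coh.IsCoh S.X₁ → Coh.IsCoh S.X₂ →
      Coh.IsCoh S.X₃ → CohB1.support S.X₂ ⊆ Z₀ → P S.X₁ → P S.X₃ → P S.X₂ :=
    fun S hS c₁ c₂ c₃ _ => h₁ S hS c₁ c₂ c₃
  refine Groth.Agent.Lib.R2H2.DevG.core2 P h₀ Z₀ hext ?_ ⟨Z₀, hZ₀⟩ subset_rfl F hF hsupp
  clear hsupp hF F
  intro Y hYZ hne _ F hF hs hk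
  obtain ⟨y, V, hV, hyY, hyV, hYV⟩ :=
    Groth.Agent.Lib.R2H2.DevA.exists_generic_component (Y : Set X) Y.2 hne
  by_cases hcl : closure {y} = Z₀
  · -- the generic point of `Z₀`
    have hyξ : y = ξ :=
      IsGenericPoint.eq (show IsGenericPoint y Z₀ from hcl) (show IsGenericPoint ξ Z₀ from hξ.2)
    subst hyξ
    haveI := Groth.Agent.Lib.R2H2.DevA.finite_stalk F hF y
    haveI := Groth.Agent.Lib.R2H2.DevA.finite_stalk G cG y
    have hnt : Nontrivial (G.presheaf.stalk y) := by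
      have h1 : y ∈ CohB1.support G := by rw [sG]; exact hξ.1
      exact not_subsingleton_iff_nontrivial.1 h1
    obtain ⟨r, s, hs1, ⟨e⟩⟩ := Groth.Agent.Lib.R2H2.ResField.exists_equiv_pow
      (F.presheaf.stalk y) (G.presheaf.stalk y)
      (Groth.Agent.Lib.R2H2.DevA.stalk_smul_eq_zero Y F hk _ V hV hyV hYV) hkG hnt
    obtain ⟨D, hyD, ⟨iso⟩⟩ := Groth.Agent.Lib.R2H2.DevA.exists_local_iso F G hF cG y r s e
    have cFs := Groth.Agent.Lib.R2H2.StalkPow.isCoh_pow F hF s
    have cGr := Groth.Agent.Lib.R2H2.StalkPow.isCoh_pow G cG r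
    obtain ⟨T, a, b, cT, ha, hb, hia, hib⟩ :=
      Groth.Agent.Lib.R2H2.DevG.exists_mono_graph _ _ cFs cGr D iso
    haveI := ha
    haveI := hb
    haveI := hia
    haveI := hib
    have cC : Coh.IsCoh (cokernel b) := Groth.Agent.Lib.R2H2.NilFilt.isCoh_cokernel cT cGr b
    haveI : (cokernel b).IsQuasicoherent := cC.1
    let JD : X.IdealSheafData :=
      Scheme.IdealSheafData.vanishingIdeal ⟨(D : Set X)ᶜ, D.2.isClosed_compl⟩
    have hJs : (JD.support : Set X) = (D : Set X)ᶜ :=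
      Scheme.IdealSheafData.coe_support_vanishingIdeal _
    haveI : PreservesColimitsOfSize.{0, 0} (Scheme.Modules.restrictFunctor D.ι) :=
      (Scheme.Modules.restrictAdjunction D.ι).leftAdjoint_preservesColimits
    have hC0 : IsZero ((Scheme.Modules.restrictFunctor D.ι).obj (cokernel b)) :=
      IsZero.of_iso (isZero_cokernel_of_epi _)
        (PreservesCokernel.iso (Scheme.Modules.restrictFunctor D.ι) b)
    obtain ⟨N, hN⟩ := Groth.Agent.Lib.R2H2.NilFilt.exists_killed_pow (I := JD) (cokernel b) cC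
      (fun W hW => Groth.Agent.Lib.R2H2.DevG.subsingleton_sections_of_isZero_restrict D _ hC0 W
        (fun x hxW => by
          by_contra hxD
          exact Set.disjoint_left.1 hW hxW (hJs ▸ hxD)))
    have hξJ : y ∉ ((JD ^ N).support : Set X) := fun h => by
      have h2 := Groth.Agent.Lib.R2H2.DevG.support_pow_le JD N h
      rw [hJs] at h2
      exact h2 hyD
    obtain ⟨G', ι', hι', qG', hstalk, PG'⟩ := hG4 (JD ^ N) hξJ
    haveI := hι'
    have hφm : Mono (ι' ≫ Dual3.idealMulι (JD ^ N) G) := mono_comp _ _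
    generalize hφ : ι' ≫ Dual3.idealMulι (JD ^ N) G = φ at hstalk hφm
    haveI := hφm
    haveI : G.IsQuasicoherent := cG.1
    haveI : SheafOfModules.IsFiniteType (R := X.ringCatSheaf) G := cG.2
    haveI : G'.IsQuasicoherent := qG'
    have cG' : Coh.IsCoh G' :=
      ⟨qG', Groth.Agent.Lib.Helper23.FinType.isFiniteType_of_mono φ⟩
    have hbij : Function.Bijective (Groth.Agent.Lib.R2H2.StalkPow.stalkLin φ y) := by
      haveI := hstalk
      exact ConcreteCategory.bijective_of_isIso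
        ((TopCat.Presheaf.stalkFunctor _ y).map φ.mapPresheaf)
    obtain ⟨D₁, hyD₁, hiφ⟩ :=
      Groth.Agent.Lib.R2H2.DevK.exists_isIso_restrict_of_stalk cG' cG φ y hbij
    haveI := hiφ
    have hzero : Groth.Agent.Lib.R2H2.DevK.powMap φ r ≫ cokernel.π b = 0 :=
      Groth.Agent.Lib.R2H2.DevK.powMap_comp_eq_zero φ (fun u => by
        rw [← hφ, Category.assoc,
          Groth.Agent.Lib.R2H2.DevK.idealMulι_comp_eq_zero (JD ^ N) hN u, comp_zero]) r
        (cokernel.π b)
    let ℓ : Groth.Agent.Lib.R2H2.StalkPow.pow G' r ⟶ T :=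
      Abelian.monoLift b (Groth.Agent.Lib.R2H2.DevK.powMap φ r) hzero
    have hℓ : ℓ ≫ b = Groth.Agent.Lib.R2H2.DevK.powMap φ r := Abelian.monoLift_comp _ _ _
    haveI : Mono (ℓ ≫ b) := by rw [hℓ]; infer_instance
    haveI : Mono ℓ := mono_of_mono ℓ b
    have hD'D : D ⊓ D₁ ≤ D := inf_le_left
    have hD'D₁ : D ⊓ D₁ ≤ D₁ := inf_le_right
    haveI i1 : IsIso ((Scheme.Modules.restrictFunctor (D ⊓ D₁).ι).map b) :=
      Groth.Agent.Lib.R2H2.DevK.isIso_restrict_of_le hD'D b
    haveI i2 : IsIso ((Scheme.Modules.restrictFunctor (D ⊓ D₁).ι).map a) :=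
      Groth.Agent.Lib.R2H2.DevK.isIso_restrict_of_le hD'D a
    haveI i3 : IsIso ((Scheme.Modules.restrictFunctor (D ⊓ D₁).ι).map φ) :=
      Groth.Agent.Lib.R2H2.DevK.isIso_restrict_of_le hD'D₁ φ
    haveI i4 : IsIso ((Scheme.Modules.restrictFunctor (D ⊓ D₁).ι).map
        (Groth.Agent.Lib.R2H2.DevK.powMap φ r)) :=
      Groth.Agent.Lib.R2H2.DevK.isIso_restrict_powMap (D ⊓ D₁) φ r
    haveI i5 : IsIso ((Scheme.Modules.restrictFunctor (D ⊓ D₁).ι).map ℓ) := by
      have h5 : IsIso ((Scheme.Modules.restrictFunctor (D ⊓ D₁).ι).map ℓ ≫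
          (Scheme.Modules.restrictFunctor (D ⊓ D₁).ι).map b) := by
        rw [← Functor.map_comp, hℓ]; exact i4
      exact IsIso.of_isIso_comp_right _ ((Scheme.Modules.restrictFunctor (D ⊓ D₁).ι).map b)
    have i6 : IsIso ((Scheme.Modules.restrictFunctor (D ⊓ D₁).ι).map (ℓ ≫ a)) := by
      rw [Functor.map_comp]; infer_instance
    have sG' : CohB1.support G' ⊆ Z₀ :=
      (Groth.Agent.Lib.R2H2.DevA.support_subset_of_mono φ).trans sG.le
    have PT : P (Groth.Agent.Lib.R2H2.StalkPow.pow G' r) :=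
      Groth.Agent.Lib.R2H2.DevC.prop_pow P h₀ Z₀ hext G' cG' sG' PG' r
    obtain ⟨eσ⟩ := Groth.Agent.Lib.R2H2.PowSigma.nonempty_pow_iso_sigma F s
    refine ⟨Groth.Agent.Lib.R2H2.StalkPow.pow F s, Groth.Agent.Lib.R2H2.StalkPow.pow G' r, ℓ ≫ a,
      D ⊓ D₁, cFs, Groth.Agent.Lib.R2H2.StalkPow.isCoh_pow G' cG' r, mono_comp _ _,
      (Groth.Agent.Lib.R2H2.DevA.support_pow F s).trans hs, PT,
      fun h => h₂ F s hF hs1 (hP _ _ ⟨eσ⟩ h), ⟨y, ⟨hyD, hyD₁⟩, hyY⟩, i6⟩
  · -- a proper closed subset of `Z₀`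
    obtain ⟨W, i, hi, hW, hrange, hgen⟩ := Groth.Agent.Lib.R2H2.DevD.exists_integral_closed
      (closure {y}) isClosed_closure isIrreducible_singleton.closure y rfl
    subst hgen
    have hrZ : Set.range ⇑i ⊆ Z₀ := by
      rw [hrange]
      exact (IsClosed.closure_subset_iff hZ₀).2 (Set.singleton_subset_iff.2 (hYZ hyY))
    have hrne : Set.range ⇑i ≠ Z₀ := by rw [hrange]; exact hcl
    have cG₁ := Groth.Agent.Lib.R2H2.DevE.isCoh_pushO i
    obtain ⟨eN⟩ := Groth.Agent.Lib.R2H2.DevI.nonempty_stalk_pushO_equiv' i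
    haveI := Groth.Agent.Lib.R2H2.DevA.finite_stalk F hF (i (genericPoint W))
    obtain ⟨r, ⟨e⟩⟩ := Groth.Agent.Lib.R2H2.ResField.exists_equiv_pow_one
      (F.presheaf.stalk (i (genericPoint W))) _
      (Groth.Agent.Lib.R2H2.DevA.stalk_smul_eq_zero Y F hk _ V hV hyV hYV) eN
    obtain ⟨D, hyD, ⟨iso⟩⟩ := Groth.Agent.Lib.R2H2.DevA.exists_local_iso F _ hF cG₁
      (i (genericPoint W)) r 1
      (LinearEquiv.funUnique (Fin 1) (X.presheaf.stalk (i (genericPoint W))) _ ≪≫ₗ e)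
    have cF1 := Groth.Agent.Lib.R2H2.StalkPow.isCoh_pow F hF 1
    obtain ⟨T, a, b, cT, ha, hb, hia, -⟩ := Groth.Agent.Lib.R2H2.DevG.exists_mono_graph _ _ cF1
      (Groth.Agent.Lib.R2H2.StalkPow.isCoh_pow _ cG₁ r) D iso
    have hsub : ∀ (Q : X.Modules) (q : Q ⟶ (Coh.push i).obj (Coh.structureModule W)), Mono q →
        Coh.IsCoh Q → P Q := by
      intro Q q hq cQ
      haveI := hq
      haveI : Q.IsQuasicoherent := cQ.1
      obtain ⟨I, ι, hι, hI, ⟨eQ⟩⟩ := Groth.Agent.Lib.R2H2.DevH.exists_ideal_of_mono_pushO i Q q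
      exact hP _ _ ⟨eQ.symm⟩ (h₃ W i hi hW hrZ hrne I ι hι hI)
    have sG₁ : CohB1.support ((Coh.push i).obj (Coh.structureModule W)) ⊆ Z₀ :=
      (Groth.Agent.Lib.R2H2.DevE.support_push_subset i _).trans hrZ
    have PT : P T := Groth.Agent.Lib.R2H2.DevG.prop_of_mono_pow P h₀ Z₀ hext _ cG₁
      sG₁ hsub r T b hb cT
    exact ⟨_, T, a, D, cF1, cT, ha, (Groth.Agent.Lib.R2H2.DevA.support_pow F 1).trans hs, PT,
      fun h => hP _ _ ⟨Groth.Agent.Lib.R2H2.StalkPow.powOneIso F⟩ h, ⟨_, hyD, hyY⟩, hia⟩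

end Groth.Agent.S9522
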