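import Groth.Statements.S9524
import Groth.Agent.Lib.R2H2SheafHomExt
import Groth.Agent.Lib.R2H3ExtAffQC
import Groth.Agent.Lib.R2H2PdSheaf
import Groth.Agent.Lib.R2H3RpushRestrict

set_option autoImplicit false
universe u
open CategoryTheory CategoryTheory.Limits AlgebraicGeometry
attribute [local instance] HasDerivedCategory.standard
open Coherent

namespace Groth.Agent.S9524

/-- Let X be a locally Noetherian scheme and F, G coherent O_X-modules. Then the sheaf Hom_{O_X}(F, G)
is coherent. (Hom_{O_X}(F, −) is the right adjoint of F ⊗ −, under its existence binder; the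
tensor-product half of the published statement is not restated here.) -/
theorem result (X : Scheme.{u}) [IsLocallyNoetherian X] (F G : X.Modules)
    (hF : Coh.IsCoh F) (hG : Coh.IsCoh G) [DCoh.HasSheafHom F] :
    Coh.IsCoh ((DCoh.sheafHom F).obj G) := by
  letI : HasInjectiveResolutions (ModSite.Mod X.sheaf) :=
    Groth.Agent.Lib.R2H3.RpushRestrict.hasInjectiveResolutions_modules X
  haveI : ModSite.HasSheafHom (O := X.sheaf) F := Groth.Agent.Lib.Helper21.ExtShDelta.hasSheafHom _ _
  have hc : Coh.IsCoh (show X.Modules from (ModSite.extSh (O := X.sheaf) F 0).obj G) :=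
    Groth.Agent.Lib.R2H3.ExtAffQC.isCoh_extSh F G hF hG 0
  haveI : PreservesFiniteLimits (ModSite.sheafHom (O := X.sheaf) F) := by
    have : PreservesLimitsOfSize.{0, 0} (ModSite.sheafHom (O := X.sheaf) F) :=
      (ModSite.sheafHomAdj (O := X.sheaf) F).rightAdjoint_preservesLimits
    infer_instance
  let e1 : (show X.Modules from (ModSite.extSh (O := X.sheaf) F 0).obj G) ≅
      (show X.Modules from (ModSite.sheafHom (O := X.sheaf) F).obj G) :=
    (Functor.rightDerivedZeroIsoSelf (ModSite.sheafHom (O := X.sheaf) F)).app G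
  let e2 : (DCoh.sheafHom F).obj G ≅
      (show X.Modules from (ModSite.sheafHom (O := X.sheaf) F).obj G) :=
    (Groth.Agent.Lib.R2H2.SheafHomExt.sheafHomIso F).app G
  exact Groth.Agent.Lib.R2H2.PdSheaf.isCoh_of_iso (e1 ≪≫ e2.symm) hc

end Groth.Agent.S9524
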