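import Groth.Statements.S9529
import Groth.Agent.Lib.R2H3SheafHomStalk
import Groth.Agent.Lib.Helper2FibreCrit2

set_option autoImplicit false
universe u
open CategoryTheory CategoryTheory.Limits AlgebraicGeometry
attribute [local instance] HasDerivedCategory.standard
open Coherent


theorem S9529_supportDim_hom_le {R : Type u} [CommRing R] [IsNoetherianRing R] (M N : Type u)
    [AddCommGroup M] [Module R M] [Module.Finite R M] [AddCommGroup N] [Module R N]
    [Module.Finite R N] :
    Module.supportDim R (M →ₗ[R] N) ≤ Module.supportDim R N := by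
  have hsub : Module.support R (M →ₗ[R] N) ⊆ Module.support R N := by
    rw [Module.support_eq_zeroLocus, Module.support_eq_zeroLocus]
    apply PrimeSpectrum.zeroLocus_anti_mono_ideal
    intro r hr
    rw [Module.mem_annihilator] at hr ⊢
    intro f
    ext m
    simp [hr (f m)]
  exact Order.krullDim_le_of_strictMono (fun a => ⟨a.1, hsub a.2⟩) (fun {_ _} lt => lt)

theorem S9529_sk_arith_aux (K a b : ℕ∞) (dN dH : WithBot ℕ∞)
    (hK : K ≤ a → K ≤ b) (hlt : a < K → a ≤ b) (hd : dH ≤ dN)
    (hS : min ((K : ℕ∞) : WithBot ℕ∞) dN ≤ ((a : ℕ∞) : WithBot ℕ∞)) :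
    min ((K : ℕ∞) : WithBot ℕ∞) dH ≤ ((b : ℕ∞) : WithBot ℕ∞) := by
  by_cases ha : K ≤ a
  · exact (min_le_left _ _).trans (WithBot.coe_le_coe.2 (hK ha))
  · rw [not_le] at ha
    rw [min_le_iff] at hS
    rcases hS with hS | hS
    · exact absurd (WithBot.coe_le_coe.1 hS) (not_le.mpr ha)
    · exact (min_le_right _ _).trans (hd.trans (hS.trans (WithBot.coe_le_coe.2 (hlt ha))))

theorem S9529_sk_arith (k : ℕ) (hk : k = 1 ∨ k = 2) (a b : ℕ∞) (dN dH : WithBot ℕ∞)
    (h1 : 1 ≤ a → 1 ≤ b) (h2 : 2 ≤ a → 2 ≤ b) (hd : dH ≤ dN)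
    (hS : min (k : WithBot ℕ∞) dN ≤ ((a : ℕ∞) : WithBot ℕ∞)) :
    min (k : WithBot ℕ∞) dH ≤ ((b : ℕ∞) : WithBot ℕ∞) := by
  have hcast : (k : WithBot ℕ∞) = (((k : ℕ∞)) : WithBot ℕ∞) := by norm_cast
  rw [hcast] at hS ⊢
  apply S9529_sk_arith_aux (k : ℕ∞) a b dN dH ?_ ?_ hd hS
  · rcases hk with rfl | rfl
    · simpa using h1
    · simpa using h2
  · intro hlt
    rcases hk with rfl | rfl
    · have : a = 0 := by
        have h : a < 1 := by simpa using hlt
        exact Order.lt_one_iff.mp h
      rw [this]; exact zero_le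
    · have h : a < 2 := by simpa using hlt
      by_cases ha1 : 1 ≤ a
      · have hale : a ≤ 1 := by
          have : a < 1 + 1 := by rwa [one_add_one_eq_two]
          exact ENat.lt_add_one_iff (by norm_num) |>.mp this
        exact hale.trans (h1 ha1)
      · have : a = 0 := Order.lt_one_iff.mp (not_le.mp ha1)
        rw [this]; exact zero_le

namespace Groth.Agent.S9529

/-- Let X be a locally Noetherian scheme, F and G coherent O_X-modules and H = Hom_{O_X}(F, G). If G has
property (S_1), so has H; if G has property (S_2), so has H. Here a coherent module M has (S_k) when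
depth M_x ≥ min(k, dim Supp M_x) for every x ∈ X, with M_x regarded as a module over O_{X,x} (the
zero module has depth ∞ and support dimension −∞); the sheaf Hom is the right adjoint of F ⊗ − under
its existence binder. -/
theorem result (X : Scheme.{u}) [IsLocallyNoetherian X] (F G : X.Modules)
    (hF : Coh.IsCoh F) (hG : Coh.IsCoh G) [DCoh.HasSheafHom F] (k : ℕ) (hk : k = 1 ∨ k = 2)
    (hS : ∀ x : X, min (k : WithBot ℕ∞) (Module.supportDim (X.presheaf.stalk x) ↑(G.presheaf.stalk x)) ≤
      ((LocCoh.depth (X.presheaf.stalk x) ↑(G.presheaf.stalk x) : ℕ∞) : WithBot ℕ∞)) (x : X) :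
    min (k : WithBot ℕ∞)
        (Module.supportDim (X.presheaf.stalk x) ↑(((DCoh.sheafHom F).obj G).presheaf.stalk x)) ≤
      ((LocCoh.depth (X.presheaf.stalk x) ↑(((DCoh.sheafHom F).obj G).presheaf.stalk x) : ℕ∞) :
        WithBot ℕ∞) := by
  haveI : F.IsQuasicoherent := hF.1
  haveI : SheafOfModules.IsFiniteType (R := X.ringCatSheaf) F := hF.2
  haveI : G.IsQuasicoherent := hG.1
  haveI : SheafOfModules.IsFiniteType (R := X.ringCatSheaf) G := hG.2
  haveI : Module.Finite (X.presheaf.stalk x) (F.presheaf.stalk x) :=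
    Groth.Agent.Lib.Helper2.FibreCrit.finite_stalk F x
  haveI : Module.Finite (X.presheaf.stalk x) (G.presheaf.stalk x) :=
    Groth.Agent.Lib.Helper2.FibreCrit.finite_stalk G x
  obtain ⟨e⟩ := Groth.Agent.Lib.R2H3.SheafHomStalk.nonempty_stalk_sheafHom_linearEquiv F G hF x
  have he : LocCoh.depth (X.presheaf.stalk x) ↑(((DCoh.sheafHom F).obj G).presheaf.stalk x) =
      LocCoh.idealDepth (IsLocalRing.maximalIdeal (X.presheaf.stalk x))
        (F.presheaf.stalk x →ₗ[X.presheaf.stalk x] G.presheaf.stalk x) :=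
    Groth.Agent.Lib.Helper28.idealDepth_congr e _
  have hd : Module.supportDim (X.presheaf.stalk x)
      ↑(((DCoh.sheafHom F).obj G).presheaf.stalk x) =
      Module.supportDim (X.presheaf.stalk x)
        (F.presheaf.stalk x →ₗ[X.presheaf.stalk x] G.presheaf.stalk x) :=
    Module.supportDim_eq_of_equiv e
  rw [he, hd]
  exact S9529_sk_arith k hk _ _ _ _
    (fun h => Groth.Agent.Lib.Helper28.one_le_idealDepth_hom _ _ _ h)
    (fun h => Groth.Agent.Lib.Helper28.two_le_idealDepth_hom _ _ _ h)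
    (S9529_supportDim_hom_le _ _) (hS x)

end Groth.Agent.S9529
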