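import Groth.Statements.S9535
import Groth.Agent.Lib.R2LeadCohFormalE
import Groth.Agent.Lib.R2LeadCohFormalF
import Groth.Agent.Lib.Helper23Restr2
import Groth.Agent.Lib.Helper23TensorUnit
import Groth.Agent.Lib.Helper23FinTypeLocal

set_option autoImplicit false
universe u
open CategoryTheory CategoryTheory.Limits AlgebraicGeometry Opposite
open Algz

namespace Groth.Agent.S9535

/-- (6) ⇒ (2): Let A be a Noetherian ring complete for the I-adic topology, I ⊆ 𝔞 ideals, U = Spec A ∖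
V(𝔞) and (F_n) an object of Coh(U, I O_U). If (F_n) extends to Spec A, then (F_n) is isomorphic to
the completion of a coherent O_U-module. -/
theorem result (A : Type u) [CommRing A] [IsNoetherianRing A] (I 𝔞 : Ideal A) (hI𝔞 : I ≤ 𝔞)
    (G : ℕᵒᵖ ⥤ (↑(LocCoh.puncturedOpen A 𝔞) : Scheme.{u}).Modules) (hG : Formal.IsCohFormal I G) [IsAdicComplete I A]
    (h : @Algz.Extends A _ (Spec (CommRingCat.of A)) ⟨𝟙 (Spec (CommRingCat.of A))⟩ I (LocCoh.puncturedOpen A 𝔞) G) :
    ∃ F : (↑(LocCoh.puncturedOpen A 𝔞) : Scheme.{u}).Modules, Coh.IsCoh F ∧ Nonempty (Formal.completion I F ≅ G) := by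
  letI : (Spec (CommRingCat.of A)).Over (Spec (CommRingCat.of A)) := ⟨𝟙 _⟩
  obtain ⟨G', hG', ⟨ε⟩⟩ := h
  have hpr : IsProper ((Spec (CommRingCat.of A)) ↘ Spec (CommRingCat.of A)) :=
    (inferInstance : IsProper (𝟙 (Spec (CommRingCat.of A))))
  have hL : CohB1.IsAmple (Coh.structureModule (Spec (CommRingCat.of A))) :=
    Groth.Agent.Lib.Helper23.SecTw.isAmple_of_isQuasiAffine _
      (Groth.Agent.Lib.Helper23.TensorUnit.isInvertible_structureModule _)
  obtain ⟨M, hM, ⟨θ⟩⟩ := Groth.Agent.Lib.R2Lead.CohFormalE.main A I (Spec (CommRingCat.of A)) _ hL G' hG'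
  have hMq : M.IsQuasicoherent := hM.1
  have hMf : SheafOfModules.IsFiniteType (R := (Spec (CommRingCat.of A)).ringCatSheaf) M := hM.2
  refine ⟨(Scheme.Modules.restrictFunctor (LocCoh.puncturedOpen A 𝔞).ι).obj M, ⟨inferInstance,
    Groth.Agent.Lib.Helper23.FinType.isFiniteType_restrict (LocCoh.puncturedOpen A 𝔞).ι M⟩, ⟨?_⟩⟩
  exact (Groth.Agent.Lib.R2Lead.CohFormalF.restrictCompletionIso (LocCoh.puncturedOpen A 𝔞).ι
    (Category.comp_id _) I M).symm ≪≫
    Functor.isoWhiskerRight θ (Scheme.Modules.restrictFunctor (LocCoh.puncturedOpen A 𝔞).ι) ≪≫ ε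

end Groth.Agent.S9535
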