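import Groth.Statements.S9536
import Groth.Agent.Lib.R2LeadCohFormalA
import Groth.Agent.Lib.R2LeadCohFormalF
import Groth.Agent.Lib.R2H2KcohLoc

set_option autoImplicit false
universe u
open CategoryTheory CategoryTheory.Limits AlgebraicGeometry Opposite
open Algz

namespace Groth.Agent.S9536

/-- (2) ⇒ (6): Let A be a Noetherian ring, I ⊆ 𝔞 ideals, U = Spec A ∖ V(𝔞) and (F_n) an object of Coh(U,
I O_U). If (F_n) is isomorphic to the completion of a coherent O_U-module, then (F_n) extends to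
Spec A. -/
theorem result (A : Type u) [CommRing A] [IsNoetherianRing A] (I 𝔞 : Ideal A) (hI𝔞 : I ≤ 𝔞)
    (G : ℕᵒᵖ ⥤ (↑(LocCoh.puncturedOpen A 𝔞) : Scheme.{u}).Modules) (hG : Formal.IsCohFormal I G)
    (F : (↑(LocCoh.puncturedOpen A 𝔞) : Scheme.{u}).Modules) (hF : Coh.IsCoh F) (e : Formal.completion I F ≅ G) :
    @Algz.Extends A _ (Spec (CommRingCat.of A)) ⟨𝟙 (Spec (CommRingCat.of A))⟩ I (LocCoh.puncturedOpen A 𝔞) G := by
  letI : (Spec (CommRingCat.of A)).Over (Spec (CommRingCat.of A)) := ⟨𝟙 _⟩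
  haveI : IsNoetherian (Spec (CommRingCat.of A)) := inferInstance
  obtain ⟨F', hF', ⟨ε⟩⟩ := Groth.Agent.Lib.R2H2.KcohLoc.exists_coh_extension
    (LocCoh.puncturedOpen A 𝔞).ι F hF
  refine ⟨Formal.completion I F', Groth.Agent.Lib.R2Lead.CohFormalA.isCohFormal_completion I hF', ⟨?_⟩⟩
  exact Groth.Agent.Lib.R2Lead.CohFormalF.restrictCompletionIso (LocCoh.puncturedOpen A 𝔞).ι
    (Category.comp_id _) I F' ≪≫ Groth.Agent.Lib.R2Lead.CohFormalF.completionMapIso I ε ≪≫ e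

end Groth.Agent.S9536
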