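import Groth.Statements.S9563
import Mathlib

set_option autoImplicit false
universe u
open EtLocal

namespace Groth.Agent.S9563

/-- Let A → B be an étale homomorphism of Noetherian local rings, i.e. a local homomorphism with B
essentially of finite type and flat over A, m_A B = m_B, and residue field of B finite separable
over that of A. Then there are a standard étale A-algebra B' = A[t]_g/(f) (f monic and f' invertible
in B') and a prime 𝔮 of B' such that B is isomorphic as an A-algebra to the localization of B' at 𝔮
(existence of an isomorphism). -/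
theorem result (A B : Type u) [CommRing A] [CommRing B]
    [IsLocalRing A] [IsLocalRing B] [IsNoetherianRing A] [IsNoetherianRing B] [Algebra A B]
    [IsLocalHom (algebraMap A B)] [Algebra.EssFiniteType A B] [Module.Flat A B]
    (hm : (IsLocalRing.maximalIdeal A).map (algebraMap A B) = IsLocalRing.maximalIdeal B)
    [Module.Finite (IsLocalRing.ResidueField A) (IsLocalRing.ResidueField B)]
    [Algebra.IsSeparable (IsLocalRing.ResidueField A) (IsLocalRing.ResidueField B)] :
    ∃ (P : StandardEtalePair A) (𝔮 : Ideal P.Ring) (_ : 𝔮.IsPrime),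
      Nonempty (B ≃ₐ[A] Localization.AtPrime 𝔮) := by
  classical
  have hunr : Algebra.FormallyUnramified A B := Algebra.FormallyUnramified.of_map_maximalIdeal hm
  -- the finite type subalgebra
  let S' := Algebra.EssFiniteType.subalgebra A B
  have hfp : Algebra.FinitePresentation A S' := Algebra.FinitePresentation.of_finiteType.mp inferInstance
  -- formal smoothness
  have hfet : Algebra.FormallyEtale (IsLocalRing.ResidueField A)
      (TensorProduct A (IsLocalRing.ResidueField A) B) :=
    Algebra.FormallyEtale.of_formallyUnramified_of_field _ _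
  have hfsm : Algebra.FormallySmooth (IsLocalRing.ResidueField A)
      (TensorProduct A (IsLocalRing.ResidueField A) B) := inferInstance
  have hsmooth : Algebra.FormallySmooth A B :=
    Algebra.FormallySmooth.of_formallySmooth_residueField_tensor (R := A) (S := B) (P := S')
      (Algebra.EssFiniteType.submonoid A B)
  have hetale : Algebra.FormallyEtale A B := Algebra.FormallyEtale.of_formallyUnramified_and_formallySmooth
  let Q : Ideal S' := (IsLocalRing.maximalIdeal B).comap (algebraMap S' B)
  have hQ : Q.IsPrime := Ideal.comap_isPrime _ _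
  have hsub : Algebra.EssFiniteType.submonoid A B = Q.primeCompl := by
    ext x
    show IsUnit ((x : S') : B) ↔ x ∉ Q
    rw [Ideal.mem_comap, IsLocalRing.mem_maximalIdeal, mem_nonunits_iff, not_not]
    rfl
  have hloc : IsLocalization.AtPrime B Q := by
    have := Algebra.EssFiniteType.isLocalization (R := A) (S := B)
    rw [hsub] at this
    exact this
  let e : Localization.AtPrime Q ≃ₐ[S'] B := IsLocalization.algEquiv Q.primeCompl _ _
  have hetQ : Algebra.IsEtaleAt A Q :=
    Algebra.FormallyEtale.of_equiv (e.restrictScalars A).symm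
  obtain ⟨f, hfQ, hstd⟩ := Algebra.IsEtaleAt.exists_isStandardEtale (R := A) Q
  obtain ⟨Pr⟩ := hstd.nonempty_standardEtalePresentation
  let P := Pr.P
  let φ : P.Ring →ₐ[A] Localization.Away f := Pr.equivRing.symm.toAlgHom
  have hφ : Function.Surjective φ := Pr.equivRing.symm.surjective
  have hφinj : Function.Injective φ := Pr.equivRing.symm.injective
  -- the canonical map from the localization away from f
  have hfB : IsUnit ((f : S') : B) := by
    have : (f : B) ∉ IsLocalRing.maximalIdeal B := hfQ
    rw [IsLocalRing.mem_maximalIdeal, mem_nonunits_iff, not_not] at this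
    exact this
  have hfunit : ∀ y : Submonoid.powers f, IsUnit ((IsScalarTower.toAlgHom A S' B) y) := by
    rintro ⟨_, n, rfl⟩
    rw [map_pow]
    exact IsUnit.pow _ hfB
  let can : Localization.Away f →ₐ[A] B := IsLocalization.liftAlgHom hfunit
  have hcan : ∀ x : S', can (algebraMap S' (Localization.Away f) x) = (x : B) := by
    intro x
    show IsLocalization.lift hfunit (algebraMap S' (Localization.Away f) x) = _
    rw [IsLocalization.lift_eq]
    rfl
  have hcaninj : Function.Injective can := by
    rw [injective_iff_map_eq_zero]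
    intro y hy
    obtain ⟨s', t, rfl⟩ := IsLocalization.exists_mk'_eq (Submonoid.powers f) y
    have h1 : can (IsLocalization.mk' (Localization.Away f) s' t) * ((t : S') : B)
        = (s' : B) := by
      rw [← hcan (t : S'), ← map_mul, IsLocalization.mk'_spec, hcan]
    rw [hy, zero_mul] at h1
    have h2 : s' = 0 := Subtype.ext h1.symm
    rw [h2, IsLocalization.mk'_zero]
  let ψ : P.Ring →ₐ[A] B := can.comp φ
  have hψinj : Function.Injective ψ := hcaninj.comp hφinj
  let 𝔮 : Ideal P.Ring := (IsLocalRing.maximalIdeal B).comap ψ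
  have h𝔮 : 𝔮.IsPrime := Ideal.comap_isPrime _ _
  have hψunit : ∀ y : 𝔮.primeCompl, IsUnit (ψ y) := by
    rintro ⟨y, hy⟩
    have : ψ y ∉ IsLocalRing.maximalIdeal B := hy
    rw [IsLocalRing.mem_maximalIdeal, mem_nonunits_iff, not_not] at this
    exact this
  let L : Localization.AtPrime 𝔮 →ₐ[A] B := IsLocalization.liftAlgHom hψunit
  have hL : ∀ a : P.Ring, L (algebraMap P.Ring (Localization.AtPrime 𝔮) a) = ψ a := by
    intro a
    show IsLocalization.lift hψunit (algebraMap P.Ring (Localization.AtPrime 𝔮) a) = _
    rw [IsLocalization.lift_eq]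
    rfl
  have hsurj : Function.Surjective L := by
    intro b
    obtain ⟨⟨s', t⟩, hst⟩ := IsLocalization.surj Q.primeCompl b
    obtain ⟨a, ha⟩ := hφ (algebraMap S' (Localization.Away f) s')
    obtain ⟨c, hc⟩ := hφ (algebraMap S' (Localization.Away f) (t : S'))
    have hψa : ψ a = (s' : B) := by
      show can (φ a) = _
      rw [ha, hcan]
    have hψc : ψ c = ((t : S') : B) := by
      show can (φ c) = _
      rw [hc, hcan]
    have htunit : IsUnit (((t : S') : B)) := by
      have : ((t : S') : B) ∉ IsLocalRing.maximalIdeal B := t.2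
      rw [IsLocalRing.mem_maximalIdeal, mem_nonunits_iff, not_not] at this
      exact this
    have hc𝔮 : c ∈ 𝔮.primeCompl := by
      show ψ c ∉ IsLocalRing.maximalIdeal B
      rw [hψc]
      exact t.2
    refine ⟨IsLocalization.mk' (Localization.AtPrime 𝔮) a ⟨c, hc𝔮⟩, ?_⟩
    apply htunit.mul_right_cancel
    have h1 : L (IsLocalization.mk' (Localization.AtPrime 𝔮) a ⟨c, hc𝔮⟩) * ((t : S') : B) = (s' : B) := by
      rw [← hψc, ← hL c, ← map_mul, IsLocalization.mk'_spec, hL, hψa]
    rw [h1]
    exact hst.symm
  have hinj : Function.Injective L := by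
    rw [injective_iff_map_eq_zero]
    intro x hx
    obtain ⟨a, c, rfl⟩ := IsLocalization.exists_mk'_eq 𝔮.primeCompl x
    have h1 : L (IsLocalization.mk' (Localization.AtPrime 𝔮) a c) * ψ c = ψ a := by
      rw [← hL (c : P.Ring), ← map_mul, IsLocalization.mk'_spec, hL]
    rw [hx, zero_mul] at h1
    have h2 : a = 0 := hψinj (by rw [← h1, map_zero])
    rw [h2, IsLocalization.mk'_zero]
  exact ⟨P, 𝔮, h𝔮, ⟨(AlgEquiv.ofBijective L ⟨hinj, hsurj⟩).symm⟩⟩

end Groth.Agent.S9563
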