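import Groth.Statements.S9655
import Mathlib

set_option autoImplicit false
universe u
open CAlg

namespace Groth.Agent.S9655

/-- Let R and S be local rings and R → S a ring map, not necessarily local, that is essentially of
finite type. Then for some n there is a maximal ideal m of the polynomial ring R[x_1, …, x_n] lying
over the maximal ideal of R, together with an R-algebra map φ : R[x_1, …, x_n]_m → S making S a
localization of the image of φ; thus S arises from R[x_1, …, x_n]_m by passing to a quotient and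
then localizing. -/
theorem result {R S : Type u} [CommRing R] [CommRing S] [Algebra R S] [IsLocalRing R] [IsLocalRing S] [Algebra.EssFiniteType R S] :
    ∃ (n : ℕ) (m : Ideal (MvPolynomial (Fin n) R)) (_ : m.IsMaximal), m.under R = IsLocalRing.maximalIdeal R ∧
      ∃ (φ : Localization.AtPrime m →ₐ[R] S) (T : Submonoid φ.range), IsLocalization T S := by
  classical
  obtain ⟨s, hs⟩ := (inferInstance : Algebra.EssFiniteType R S).cond
  let ρ : S →+* IsLocalRing.ResidueField S := IsLocalRing.residue S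
  let f : R →+* IsLocalRing.ResidueField S := ρ.comp (algebraMap R S)
  obtain ⟨V, hV, hloc⟩ := IsLocalRing.exists_factor_valuationRing f
  have hunit : ∀ x : S, ρ x ∉ V → IsUnit x := by
    intro x hx
    by_contra hnu
    have h0 : ρ x = 0 :=
      (IsLocalRing.residue_eq_zero_iff x).mpr ((IsLocalRing.mem_maximalIdeal x).mpr hnu)
    exact hx (h0 ▸ V.zero_mem)
  let g' : S → S := fun x => if h : ρ x ∈ V then x else ((hunit x h).unit⁻¹ : Sˣ)
  have hg'V : ∀ x, ρ (g' x) ∈ V := by
    intro x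
    by_cases h : ρ x ∈ V
    · simp only [g', dif_pos h]; exact h
    · simp only [g', dif_neg h]
      have h1 : ρ ((hunit x h).unit⁻¹ : Sˣ) * ρ x = 1 := by
        rw [← map_mul, IsUnit.val_inv_mul, map_one]
      have h2 : ρ ((hunit x h).unit⁻¹ : Sˣ) = (ρ x)⁻¹ := eq_inv_of_mul_eq_one_left h1
      rw [h2]
      exact (V.mem_or_inv_mem (ρ x)).resolve_left h
  have hg'rec : ∀ x, g' x = x ∨ (x * g' x = 1) := by
    intro x
    by_cases h : ρ x ∈ V
    · left; simp only [g', dif_pos h]
    · right; simp only [g', dif_neg h]; exact (hunit x h).mul_val_inv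
  -- enumerate the generators
  let e : Fin s.card ≃ s := s.equivFin.symm
  let gen : Fin s.card → S := fun i => g' (e i).1
  let ψ : MvPolynomial (Fin s.card) R →ₐ[R] S := MvPolynomial.aeval gen
  have hψV : ∀ a, ρ (ψ a) ∈ V.toSubring := by
    intro a
    induction a using MvPolynomial.induction_on with
    | C r =>
      have : ψ (MvPolynomial.C r) = algebraMap R S r := by
        rw [← MvPolynomial.algebraMap_eq, AlgHom.commutes]
      rw [this]
      exact hV r
    | add p q hp hq => rw [map_add, map_add]; exact V.toSubring.add_mem hp hq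
    | mul_X p i hp =>
      rw [map_mul, map_mul]
      refine V.toSubring.mul_mem hp ?_
      have : ψ (MvPolynomial.X i) = gen i := MvPolynomial.aeval_X gen i
      rw [this]
      exact hg'V _
  haveI : IsLocalRing ↥V.toSubring := inferInstanceAs (IsLocalRing ↥V)
  let θ : MvPolynomial (Fin s.card) R →+* V.toSubring :=
    (ρ.comp ψ.toRingHom).codRestrict V.toSubring hψV
  have hθ : ∀ a, ((θ a : V.toSubring) : IsLocalRing.ResidueField S) = ρ (ψ a) := fun a => rfl
  let m₀ : Ideal (MvPolynomial (Fin s.card) R) :=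
    (IsLocalRing.maximalIdeal V.toSubring).comap θ
  have hm₀prime : m₀.IsPrime := Ideal.comap_isPrime θ _
  obtain ⟨m, hm, hle⟩ := Ideal.exists_le_maximal m₀ hm₀prime.ne_top
  have hunitψ : ∀ a, a ∉ m → IsUnit (ψ a) := by
    intro a ha
    have ha₀ : a ∉ m₀ := fun h => ha (hle h)
    have h1 : IsUnit (θ a) := IsLocalRing.notMem_maximalIdeal.mp ha₀
    by_contra hnu
    have h0 : ρ (ψ a) = 0 :=
      (IsLocalRing.residue_eq_zero_iff _).mpr ((IsLocalRing.mem_maximalIdeal _).mpr hnu)
    have h2 : θ a = 0 := Subtype.ext (by rw [hθ, h0]; rfl)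
    rw [h2] at h1
    exact not_isUnit_zero h1
  have hunder : m.under R = IsLocalRing.maximalIdeal R := by
    have h1 : IsLocalRing.maximalIdeal R ≤ m.under R := by
      intro r hr
      rw [Ideal.mem_comap]
      apply hle
      show θ (algebraMap R _ r) ∈ IsLocalRing.maximalIdeal V.toSubring
      rw [IsLocalRing.mem_maximalIdeal, mem_nonunits_iff]
      intro hu
      have h3 : θ (algebraMap R _ r) = f.codRestrict V.toSubring hV r := by
        apply Subtype.ext
        rw [hθ]
        show ρ (ψ (algebraMap R _ r)) = f r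
        rw [AlgHom.commutes]
        rfl
      rw [h3] at hu
      have := hloc.map_nonunit r hu
      exact ((IsLocalRing.mem_maximalIdeal r).mp hr) this
    have h2 : m.under R ≠ ⊤ := by
      intro htop
      have : (1 : R) ∈ m.under R := htop ▸ Submodule.mem_top
      rw [Ideal.mem_comap, map_one] at this
      exact hm.ne_top ((Ideal.eq_top_iff_one m).mpr this)
    exact ((IsLocalRing.maximalIdeal.isMaximal R).eq_of_le h2 h1).symm
  haveI := hm
  refine ⟨s.card, m, hm, hunder, ?_⟩
  let φ : Localization.AtPrime m →ₐ[R] S :=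
    IsLocalization.liftAlgHom (M := m.primeCompl) (f := ψ) (fun y => hunitψ y.1 y.2)
  have hφψ : ∀ a : MvPolynomial (Fin s.card) R,
      φ (algebraMap (MvPolynomial (Fin s.card) R) (Localization.AtPrime m) a) = ψ a := by
    intro a
    show (IsLocalization.liftAlgHom (M := m.primeCompl) (f := ψ) (fun y => hunitψ y.1 y.2)) _ = _
    rw [IsLocalization.liftAlgHom_apply, IsLocalization.lift_eq]
    rfl
  have hgenC : ∀ i, gen i ∈ φ.range := by
    intro i
    refine ⟨algebraMap (MvPolynomial (Fin s.card) R) (Localization.AtPrime m)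
      (MvPolynomial.X i), ?_⟩
    exact (hφψ _).trans (MvPolynomial.aeval_X gen i)
  -- the subalgebra of fractions
  let L : Subalgebra R S :=
    { carrier := {z | ∃ c ∈ φ.range, ∃ t ∈ φ.range, IsUnit t ∧ z * t = c}
      mul_mem' := by
        rintro z₁ z₂ ⟨c₁, hc₁, t₁, ht₁, hu₁, h₁⟩ ⟨c₂, hc₂, t₂, ht₂, hu₂, h₂⟩
        refine ⟨c₁ * c₂, φ.range.mul_mem hc₁ hc₂, t₁ * t₂, φ.range.mul_mem ht₁ ht₂, hu₁.mul hu₂, ?_⟩
        rw [← h₁, ← h₂]; ring
      add_mem' := by
        rintro z₁ z₂ ⟨c₁, hc₁, t₁, ht₁, hu₁, h₁⟩ ⟨c₂, hc₂, t₂, ht₂, hu₂, h₂⟩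
        refine ⟨c₁ * t₂ + c₂ * t₁, φ.range.add_mem (φ.range.mul_mem hc₁ ht₂)
          (φ.range.mul_mem hc₂ ht₁), t₁ * t₂, φ.range.mul_mem ht₁ ht₂, hu₁.mul hu₂, ?_⟩
        rw [← h₁, ← h₂]; ring
      algebraMap_mem' := by
        intro r
        exact ⟨algebraMap R S r, φ.range.algebraMap_mem r, 1, φ.range.one_mem, isUnit_one,
          mul_one _⟩ }
  have hsL : (s : Set S) ⊆ L := by
    intro x hx
    have hxi : gen (e.symm ⟨x, hx⟩) = g' x := by
      show g' (e (e.symm ⟨x, hx⟩)).1 = g' x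
      rw [Equiv.apply_symm_apply]
    have hgC : g' x ∈ φ.range := hxi ▸ hgenC _
    rcases hg'rec x with h | h
    · exact ⟨x, h ▸ hgC, 1, φ.range.one_mem, isUnit_one, mul_one _⟩
    · exact ⟨1, φ.range.one_mem, g' x, hgC,
        IsUnit.of_mul_eq_one x (by rw [mul_comm]; exact h), h⟩
  have hadj : Algebra.adjoin R (s : Set S) ≤ L := Algebra.adjoin_le hsL
  refine ⟨φ, (IsUnit.submonoid S).comap (algebraMap φ.range S), ?_⟩
  rw [isLocalization_iff]
  refine ⟨?_, ?_, ?_⟩
  · rintro ⟨y, hy⟩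
    exact (IsUnit.mem_submonoid_iff _).mp hy
  · intro z
    obtain ⟨⟨b, t₀⟩, hbt⟩ := IsLocalization.surj
      ((IsUnit.submonoid S).comap (algebraMap (Algebra.adjoin R (s : Set S)) S)) z
    obtain ⟨c₁, hc₁, t₁, ht₁, hu₁, h₁⟩ := hadj b.2
    obtain ⟨c₂, hc₂, t₂, ht₂, hu₂, h₂⟩ := hadj t₀.1.2
    have hut₀ : IsUnit ((t₀.1 : Algebra.adjoin R (s : Set S)) : S) :=
      (IsUnit.mem_submonoid_iff _).mp t₀.2
    have huc₂ : IsUnit c₂ := h₂ ▸ hut₀.mul hu₂
    refine ⟨⟨⟨c₁ * t₂, φ.range.mul_mem hc₁ ht₂⟩, ⟨⟨t₁ * c₂, φ.range.mul_mem ht₁ hc₂⟩, ?_⟩⟩, ?_⟩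
    · exact (IsUnit.mem_submonoid_iff _).mpr (hu₁.mul huc₂)
    · show z * (t₁ * c₂) = c₁ * t₂
      have hbt' : z * ((t₀.1 : Algebra.adjoin R (s : Set S)) : S) = (b : S) := hbt
      rw [← h₂, ← h₁, ← hbt']
      ring
  · intro x y hxy
    refine ⟨1, ?_⟩
    have : x = y := Subtype.ext hxy
    rw [this]

end Groth.Agent.S9655
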