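import Groth.Statements.S9659
import Mathlib

set_option autoImplicit false
universe u
open CAlg

namespace Groth.Agent.S9659

open DirectSum

section Aux

variable {R S : Type u} [CommRing R] [CommRing S] [Algebra R S] (𝒜 : ℤ → Submodule R S)
  [GradedAlgebra 𝒜]

/-- the inverse of a homogeneous unit is homogeneous -/
theorem inv_mem {f : S} {d : ℤ} (hf : f ∈ 𝒜 d) (u : Sˣ) (hu : (u : S) = f) :
    ((u⁻¹ : Sˣ) : S) ∈ 𝒜 (-d) := by
  set g := ((u⁻¹ : Sˣ) : S) with hg
  have hfg : f * g = 1 := by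
    rw [← hu]
    exact u.mul_inv
  have h1 : (decompose 𝒜 (f * g) (d + (-d)) : S) = f * decompose 𝒜 g (-d) :=
    coe_decompose_mul_add_of_left_mem 𝒜 hf
  rw [hfg, add_neg_cancel, decompose_of_mem_same 𝒜 (SetLike.GradedOne.one_mem)] at h1
  have h2 : g = decompose 𝒜 g (-d) := by
    calc g = g * (f * decompose 𝒜 g (-d)) := by rw [← h1, mul_one]
      _ = (f * g) * decompose 𝒜 g (-d) := by ring
      _ = decompose 𝒜 g (-d) := by rw [hfg, one_mul]
  rw [h2]
  exact (decompose 𝒜 g (-d)).2

theorem zpow_mem {f : S} {d : ℤ} (hf : f ∈ 𝒜 d) (u : Sˣ) (hu : (u : S) = f) (n : ℤ) :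
    ((u ^ n : Sˣ) : S) ∈ 𝒜 (n * d) := by
  induction n with
  | zero =>
    rw [zpow_zero, Units.val_one, zero_mul]
    exact SetLike.GradedOne.one_mem
  | succ n ih =>
    rw [zpow_add_one, Units.val_mul, add_mul, one_mul, hu]
    exact SetLike.mul_mem_graded ih hf
  | pred n ih =>
    rw [zpow_sub_one, Units.val_mul, sub_mul, one_mul, sub_eq_add_neg]
    exact SetLike.mul_mem_graded ih (inv_mem 𝒜 hf u hu)

theorem theta_mem {f : S} {d : ℤ} (hd : 0 < d) (hf : f ∈ 𝒜 d) (u : Sˣ) (hu : (u : S) = f)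
    {x : S} {e : ℤ} (hx : x ∈ 𝒜 e) :
    x ^ d.toNat * ((u ^ (-e) : Sˣ) : S) ∈ 𝒜 0 := by
  have h1 := SetLike.mul_mem_graded (SetLike.pow_mem_graded d.toNat hx) (zpow_mem 𝒜 hf u hu (-e))
  have h2 : d.toNat • e + -e * d = 0 := by
    rw [nsmul_eq_mul, Int.toNat_of_nonneg hd.le]
    ring
  rwa [h2] at h1

omit [Algebra R S] in
theorem mem_iff_theta_mem {d : ℤ} (hd : 0 < d) (u : Sˣ) (p : Ideal S) [p.IsPrime] (x : S) (e : ℤ) :
    x ∈ p ↔ x ^ d.toNat * ((u ^ (-e) : Sˣ) : S) ∈ p := by
  constructor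
  · intro hx
    apply Ideal.mul_mem_right
    exact Ideal.pow_mem_of_mem p hx _ (by
      have : 0 < d.toNat := by omega
      exact this)
  · intro h
    have h1 : x ^ d.toNat * ((u ^ (-e) : Sˣ) : S) * ((u ^ e : Sˣ) : S) ∈ p := Ideal.mul_mem_right _ _ h
    rw [mul_assoc, ← Units.val_mul, ← zpow_add, neg_add_cancel, zpow_zero, Units.val_one,
      mul_one] at h1
    exact Ideal.IsPrime.mem_of_pow_mem inferInstance _ h1

/-- the degree zero component, as an element of the degree-zero subring -/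
def proj0 (x : S) : SetLike.GradeZero.subring 𝒜 := ⟨decompose 𝒜 x 0, (decompose 𝒜 x 0).2⟩

theorem proj0_coe (a : SetLike.GradeZero.subring 𝒜) : proj0 𝒜 (a : S) = a := by
  apply Subtype.ext
  exact decompose_of_mem_same 𝒜 a.2

theorem proj0_mul_coe (s : S) (a : SetLike.GradeZero.subring 𝒜) :
    proj0 𝒜 (s * (a : S)) = proj0 𝒜 s * a := by
  apply Subtype.ext
  have h := coe_decompose_mul_add_of_right_mem 𝒜 (i := 0) (j := 0) (a := s) (b := (a : S)) a.2
  rw [add_zero] at h
  exact h

theorem proj0_add (s t : S) : proj0 𝒜 (s + t) = proj0 𝒜 s + proj0 𝒜 t := by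
  apply Subtype.ext
  show (decompose 𝒜 (s + t) 0 : S) = (decompose 𝒜 s 0 : S) + (decompose 𝒜 t 0 : S)
  rw [decompose_add, DirectSum.add_apply]
  rfl

theorem comap_map_le (q : Ideal (SetLike.GradeZero.subring 𝒜)) :
    (q.map (SetLike.GradeZero.subring 𝒜).subtype).comap (SetLike.GradeZero.subring 𝒜).subtype ≤ q := by
  intro a ha
  rw [Ideal.mem_comap] at ha
  have key : ∀ x ∈ q.map (SetLike.GradeZero.subring 𝒜).subtype, ∀ s : S, proj0 𝒜 (s * x) ∈ q := by
    intro x hx
    unfold Ideal.map at hx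
    induction hx using Submodule.span_induction with
    | mem x hx =>
      obtain ⟨b, hb, rfl⟩ := hx
      intro s
      have : proj0 𝒜 (s * (SetLike.GradeZero.subring 𝒜).subtype b) = proj0 𝒜 s * b :=
        proj0_mul_coe 𝒜 s b
      rw [this]
      exact Ideal.mul_mem_left _ _ hb
    | zero =>
      intro s
      rw [mul_zero]
      have : proj0 𝒜 (0 : S) = 0 := by
        apply Subtype.ext
        simp [proj0]
      rw [this]
      exact q.zero_mem
    | add x y _ _ hx hy =>
      intro s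
      rw [mul_add, proj0_add]
      exact q.add_mem (hx s) (hy s)
    | smul t x _ hx =>
      intro s
      rw [smul_eq_mul, ← mul_assoc]
      exact hx (s * t)
  have := key _ ha 1
  rw [one_mul] at this
  have h2 : proj0 𝒜 ((SetLike.GradeZero.subring 𝒜).subtype a) = a := proj0_coe 𝒜 a
  rwa [h2] at this

end Aux

/-- Let S be a ℤ-graded ring which contains an invertible homogeneous element of positive degree. Then
the set of homogeneous prime ideals of S, with the topology induced from Spec(S), maps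
homeomorphically onto Spec(S₀) by p ↦ p ∩ S₀. -/
theorem result {R S : Type u} [CommRing R] [CommRing S] [Algebra R S] (𝒜 : ℤ → Submodule R S) [GradedAlgebra 𝒜]
    (f : S) (d : ℤ) (hd : 0 < d) (hf : f ∈ 𝒜 d) (hu : IsUnit f) :
    IsHomeomorph (fun p : {p : PrimeSpectrum S // p.asIdeal.IsHomogeneous 𝒜} => PrimeSpectrum.comap (SetLike.GradeZero.subring 𝒜).subtype p.1) := by
  classical
  obtain ⟨u, hu⟩ := hu
  set ι := (SetLike.GradeZero.subring 𝒜).subtype with hι
  set φ := (fun p : {p : PrimeSpectrum S // p.asIdeal.IsHomogeneous 𝒜} =>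
    PrimeSpectrum.comap ι p.1) with hφ
  -- the degree-zero element attached to a homogeneous component
  let θ : S → ℤ → SetLike.GradeZero.subring 𝒜 := fun x e =>
    ⟨(decompose 𝒜 x e : S) ^ d.toNat * ((u ^ (-e) : Sˣ) : S),
      theta_mem 𝒜 hd hf u hu (decompose 𝒜 x e).2⟩
  have hθ : ∀ (p : Ideal S) [p.IsPrime] (x : S) (e : ℤ),
      (decompose 𝒜 x e : S) ∈ p ↔ θ x e ∈ p.comap ι := by
    intro p _ x e
    rw [Ideal.mem_comap]
    exact mem_iff_theta_mem hd u p _ e
  -- injectivity
  have hinj : Function.Injective φ := by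
    have hle : ∀ p p' : {p : PrimeSpectrum S // p.asIdeal.IsHomogeneous 𝒜}, φ p = φ p' →
        p.1.asIdeal ≤ p'.1.asIdeal := by
      intro p p' h x hx
      have h' : p.1.asIdeal.comap ι = p'.1.asIdeal.comap ι := by
        have := congrArg PrimeSpectrum.asIdeal h
        simpa [hφ, PrimeSpectrum.comap_asIdeal] using this
      rw [p'.2.mem_iff]
      intro e
      rw [hθ p'.1.asIdeal x e, ← h', ← hθ p.1.asIdeal x e]
      exact p.2 e hx
    intro p p' h
    apply Subtype.ext
    apply PrimeSpectrum.ext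
    exact le_antisymm (hle p p' h) (hle p' p h.symm)
  -- surjectivity
  have hsurj : Function.Surjective φ := by
    intro q
    have h1 : (q.asIdeal.map ι).comap ι = q.asIdeal :=
      le_antisymm (comap_map_le 𝒜 q.asIdeal) Ideal.le_comap_map
    obtain ⟨P, hP, hPq⟩ := (Ideal.comap_map_eq_self_iff_of_isPrime q.asIdeal).mp h1
    have hcore : (P.homogeneousCore 𝒜).toIdeal.IsPrime := Ideal.IsPrime.homogeneousCore hP
    refine ⟨⟨⟨(P.homogeneousCore 𝒜).toIdeal, hcore⟩, (P.homogeneousCore 𝒜).isHomogeneous⟩, ?_⟩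
    apply PrimeSpectrum.ext
    show ((P.homogeneousCore 𝒜).toIdeal).comap ι = q.asIdeal
    rw [← hPq]
    apply le_antisymm
    · exact Ideal.comap_mono (Ideal.toIdeal_homogeneousCore_le 𝒜 P)
    · intro a ha
      rw [Ideal.mem_comap] at ha ⊢
      exact Ideal.mem_homogeneousCore_of_homogeneous_of_mem ⟨0, a.2⟩ ha
  -- continuity
  have hcont : Continuous φ :=
    (PrimeSpectrum.continuous_comap ι).comp continuous_subtype_val
  -- openness
  have hopen : IsOpenMap φ := by
    have hind : Topology.IsInducing (Subtype.val :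
        {p : PrimeSpectrum S // p.asIdeal.IsHomogeneous 𝒜} → PrimeSpectrum S) := ⟨rfl⟩
    have hbasis := (PrimeSpectrum.isTopologicalBasis_basic_opens (R := S)).isInducing hind
    rw [hbasis.isOpenMap_iff]
    rintro _ ⟨_, ⟨s, rfl⟩, rfl⟩
    have himage : φ '' (Subtype.val ⁻¹' ((PrimeSpectrum.basicOpen s : TopologicalSpace.Opens _) :
        Set (PrimeSpectrum S))) =
        ⋃ e : ℤ, ((PrimeSpectrum.basicOpen (θ s e) : TopologicalSpace.Opens _) :
          Set (PrimeSpectrum (SetLike.GradeZero.subring 𝒜))) := by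
      ext q
      simp only [Set.mem_image, Set.mem_preimage, SetLike.mem_coe, PrimeSpectrum.mem_basicOpen,
        Set.mem_iUnion]
      constructor
      · rintro ⟨p, hp, rfl⟩
        have : ¬ ∀ e, (decompose 𝒜 s e : S) ∈ p.1.asIdeal := by
          rw [← p.2.mem_iff]
          exact hp
        push Not at this
        obtain ⟨e, he⟩ := this
        refine ⟨e, ?_⟩
        intro hmem
        apply he
        rw [hθ p.1.asIdeal s e]
        exact hmem
      · rintro ⟨e, he⟩
        obtain ⟨p, rfl⟩ := hsurj q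
        refine ⟨p, ?_, rfl⟩
        intro hs
        apply he
        have := p.2 e hs
        rw [hθ p.1.asIdeal s e] at this
        exact this
    rw [himage]
    exact isOpen_iUnion fun e => (PrimeSpectrum.basicOpen (θ s e)).2
  exact ⟨hcont, hopen, hinj, hsurj⟩

end Groth.Agent.S9659
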