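import Groth.Statements.S9661
import Mathlib
import Groth.Agent.Lib.Helper4HilbMultA
import Groth.Agent.Lib.Helper4HilbFunD

set_option autoImplicit false
universe u
attribute [local instance] MvPolynomial.gradedAlgebra
open CAlg

namespace Groth.Agent.S9661

/-- Let k be a field, d ≥ 1, and I a nonzero homogeneous ideal of the standard-graded polynomial ring
k[X_1, …, X_d]; put M = k[X_1, …, X_d]/I. Then the function n ↦ dim_k M_n (equal to dim_k of the
degree-n part of the polynomial ring minus dim_k of the degree-n part of I) coincides for all large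
n with a polynomial of degree < d - 1, the zero polynomial if d = 1. -/
theorem result {k : Type u} [Field k] (d : ℕ) (hd : 0 < d)
    (I : HomogeneousIdeal (MvPolynomial.homogeneousSubmodule (Fin d) k)) (hI : I ≠ ⊥) :
    ∃ P : Polynomial ℚ, P.degree < ((d - 1 : ℕ) : WithBot ℕ) ∧ ∃ N : ℕ, ∀ n : ℕ, N ≤ n →
      ((Module.finrank k ↥(MvPolynomial.homogeneousSubmodule (Fin d) k n) : ℚ) -
        (Module.finrank k ↥(I.toIdeal.restrictScalars k ⊓ MvPolynomial.homogeneousSubmodule (Fin d) k n) : ℚ)) = P.eval (n : ℚ) := by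
  obtain ⟨n, rfl⟩ : ∃ n, d = n + 1 := ⟨d - 1, by omega⟩
  have hJhom : I.toIdeal.IsHomogeneous (CohB1.polyGrading n k) := I.isHomogeneous
  have hJne : I.toIdeal ≠ ⊥ :=
    fun h => hI (HomogeneousIdeal.toIdeal_injective (by simpa using h))
  obtain ⟨f, hfI, hf0⟩ : ∃ f ∈ I.toIdeal, f ≠ 0 := Submodule.exists_mem_ne_zero_of_ne_bot hJne
  have hdim : ringKrullDim (MvPolynomial (Fin (n + 1)) k ⧸ I.toIdeal) ≤ ((n : ℕ) : WithBot ℕ∞) := by
    have h1 := ringKrullDim_succ_le_of_surjective (Ideal.Quotient.mk I.toIdeal)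
      Ideal.Quotient.mk_surjective (r := f) (mem_nonZeroDivisors_of_ne_zero hf0)
      (Ideal.Quotient.eq_zero_iff_mem.mpr hfI)
    rw [MvPolynomial.ringKrullDim_of_isNoetherianRing, ringKrullDim_eq_zero_of_field, Nat.card_fin,
      zero_add] at h1
    have h2 : ((n + 1 : ℕ) : WithBot ℕ∞) = (n : WithBot ℕ∞) + 1 := by push_cast; rfl
    rw [h2] at h1
    exact ENat.WithBot.add_le_add_one_right_iff.mp h1
  have hpoly := Groth.Agent.Lib.Helper4.HilbFun.isPolyLike_hfun k n I.toIdeal hJhom n hdim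
  rw [Groth.Agent.Lib.Helper5.PolyLike.isPolyLike_iff] at hpoly
  obtain ⟨c, N, hN⟩ := hpoly
  refine ⟨∑ j ∈ Finset.range n,
    Polynomial.C (c j : ℚ) * Groth.Agent.Lib.Helper4.HilbFun.P0 j, ?_, N, ?_⟩
  · rw [Nat.add_sub_cancel]
    apply lt_of_le_of_lt (Polynomial.degree_sum_le _ _)
    refine (Finset.sup_lt_iff (WithBot.bot_lt_coe n)).mpr fun j hj => ?_
    calc (Polynomial.C (c j : ℚ) * Groth.Agent.Lib.Helper4.HilbFun.P0 j).degree
        ≤ 0 + (Groth.Agent.Lib.Helper4.HilbFun.P0 j).degree :=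
          Polynomial.degree_mul_le_of_le Polynomial.degree_C_le le_rfl
      _ = (Groth.Agent.Lib.Helper4.HilbFun.P0 j).degree := zero_add _
      _ ≤ ((Groth.Agent.Lib.Helper4.HilbFun.P0 j).natDegree : WithBot ℕ) :=
          Polynomial.degree_le_natDegree
      _ = (j : WithBot ℕ) := by rw [Groth.Agent.Lib.Helper4.HilbFun.P0_natDegree]
      _ < (n : WithBot ℕ) := by exact_mod_cast Finset.mem_range.mp hj
  · intro m hm
    have h1 := Groth.Agent.Lib.Helper4.HilbFun.finrank_eq_hilb_add I.toIdeal m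
    have h2 := hN m hm
    rw [Groth.Agent.Lib.Helper4.HilbFun.hfun_apply] at h2
    have hB : ∀ j, ((Groth.Agent.Lib.Helper5.PolyLike.B j m : ℤ) : ℚ) =
        (((j + m).choose m : ℕ) : ℚ) := by
      intro j
      rw [Groth.Agent.Lib.Helper5.PolyLike.B_apply, Nat.add_comm m j, Nat.choose_symm_add]
      exact Int.cast_natCast _
    have h3 : ((Groth.Agent.Lib.Helper4.HilbFun.hilb I.toIdeal m : ℕ) : ℚ) =
        ∑ j ∈ Finset.range n, (c j : ℚ) * (((j + m).choose m : ℕ) : ℚ) := by
      have := congrArg (fun z : ℤ => (z : ℚ)) h2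
      simp only [Int.cast_natCast, Int.cast_sum, Int.cast_mul, hB] at this
      exact this
    rw [h1]
    push_cast
    rw [add_sub_cancel_right, h3, Polynomial.eval_finset_sum]
    refine Finset.sum_congr rfl fun j _ => ?_
    rw [Polynomial.eval_mul, Polynomial.eval_C, Groth.Agent.Lib.Helper4.HilbFun.P0_eval]

end Groth.Agent.S9661
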