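import Groth.Statements.S9695
import Groth.Agent.Lib.R2H3QProj
import Groth.Agent.Lib.Helper23Restr
import Groth.Agent.S4380
import Groth.Agent.S4387

set_option autoImplicit false
universe u
open CategoryTheory CategoryTheory.Limits AlgebraicGeometry
open Mor

namespace Groth.Agent.S9695

/-- Suppose f : X ⟶ S is a morphism of finite type and L is an invertible O_X-module. Then L is
f-relatively ample exactly when S can be covered by open subsets V with the following property: for
every such V there is an integer d ≥ 1 for which the tensor power L^{⊗d}, restricted to f⁻¹(V), is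
isomorphic to the pullback of O(1) under some V-immersion of f⁻¹(V) into a projective space P^n_V. -/
theorem result {X S : Scheme.{u}} (f : X ⟶ S)
    [LocallyOfFiniteType f] [QuasiCompact f] (L : X.Modules) (hLinv : PicF.IsInvertible L) :
    RelAmple.IsRelAmple f L ↔
      ∃ (ι : Type u) (V : ι → S.Opens), (⨆ j, V j) = ⊤ ∧
        ∀ j, ∃ d : ℕ, 0 < d ∧
          RelAmple.IsRelVeryAmplePn (f ∣_ V j) ((CohB1.tensorPow L d).restrict (f ⁻¹ᵁ V j).ι) := by
  constructor
  · intro hL
    refine ⟨S.affineOpens, fun j => j.1, ?_, fun j => ?_⟩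
    · exact iSup_affineOpens_eq_top S
    · have hamp : CohB1.IsAmple (L.restrict (f ⁻¹ᵁ j.1).ι) := hL.2 j
      have hlft : LocallyOfFiniteType (f ∣_ j.1) := inferInstance
      obtain ⟨N₀, h⟩ := Groth.Agent.Lib.R2H3.VAmpleMain.eventually_tensorPow (f ∣_ j.1) _ hamp
      obtain ⟨Φ⟩ := Groth.Agent.Lib.Helper23.SecTw.nonempty_restrict_tensorPow_iso L hLinv (f ⁻¹ᵁ j.1) (N₀ + 1)
      exact ⟨N₀ + 1, Nat.succ_pos _,
        Groth.Agent.Lib.R2H3.VAmpleMain.isRelVeryAmplePn_of_iso _ Φ.symm (h (N₀ + 1) (Nat.le_succ _))⟩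
  · rintro ⟨ι, V, hV, h⟩
    refine (Groth.Agent.S4380.result f L V hV).2 (fun j => ?_)
    obtain ⟨d, hd, hva⟩ := h j
    have hqc : QuasiCompact (f ∣_ V j) := inferInstance
    have h1 := Groth.Agent.Lib.R2H3.QProj.isRelAmple_of_isRelVeryAmplePn (f ∣_ V j) _ hva
    obtain ⟨Φ⟩ := Groth.Agent.Lib.Helper23.SecTw.nonempty_restrict_tensorPow_iso L hLinv (f ⁻¹ᵁ V j) d
    have h2 := Groth.Agent.Lib.R2H3.QProj.isRelAmple_of_iso (f ∣_ V j) Φ h1
    exact (Groth.Agent.S4387.result (f ∣_ V j) _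
      (Groth.Agent.Lib.Helper23.SecTw.isInvertible_restrict L hLinv (f ⁻¹ᵁ V j)) d hd).2 h2

end Groth.Agent.S9695
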