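import Groth.Statements.S9704
import Groth.Agent.Lib.R2LeadLocProj
import Groth.Agent.S9717

set_option autoImplicit false
universe u
open CategoryTheory CategoryTheory.Limits AlgebraicGeometry
open Mor

namespace Groth.Agent.S9704

/-- A morphism f : X ⟶ S is locally projective if and only if S has an open covering by opens U such
that each restriction f⁻¹(U) ⟶ U is H-projective (a closed immersion into some P^n_U followed by the
projection). Here f⁻¹(U) ⟶ U projective means isomorphic over U to the relative Proj of a
quasi-coherent graded algebra generated by its finite-type degree-one part; the published definition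
uses closed subschemes of P(E) with E of finite type, an equivalent condition. -/
theorem result {X S : Scheme.{u}} (f : X ⟶ S) :
    RelProj.IsLocallyProjective f ↔ ∀ s : S, ∃ U : S.Opens, s ∈ U ∧ RelProj.IsHProjective (f ∣_ U) := by
  constructor
  · intro h s
    obtain ⟨U, hsU, hU⟩ := h s
    obtain ⟨V, hV, hsV, -⟩ := exists_isAffineOpen_mem_and_subset (X := U.toScheme)
      (x := ⟨s, hsU⟩) (U := ⊤) trivial
    have h1 := Groth.Agent.Lib.R2LeadLocProj.isHProjective_restrict_of_isProjective
      (f ∣_ U) hU V hV
    have h2 := Groth.Agent.Lib.R2LeadLocProj.isHProjective_of_arrow_iso _ _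
      (morphismRestrictRestrict f U V) h1
    exact ⟨U.ι ''ᵁ V, ⟨⟨s, hsU⟩, hsV, rfl⟩, h2⟩
  · intro h s
    obtain ⟨U, hsU, hU⟩ := h s
    exact ⟨U, hsU, Groth.Agent.S9717.result _ hU⟩

end Groth.Agent.S9704
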