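import Groth.Statements.S9712
import Groth.Agent.Lib.R2H3QProj

set_option autoImplicit false
universe u
open CategoryTheory CategoryTheory.Limits AlgebraicGeometry
open Mor

namespace Groth.Agent.S9712

set_option backward.isDefEq.respectTransparency false in
/-- A morphism f : X ⟶ S is locally quasi-projective (S is covered by opens U with f⁻¹(U) ⟶ U
quasi-projective) if and only if S is covered by opens U such that f⁻¹(U) ⟶ U is H-quasi-projective
(a quasi-compact immersion into some P^n_U followed by the projection). -/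
theorem result {X S : Scheme.{u}} (f : X ⟶ S) :
    (∀ s : S, ∃ U : S.Opens, s ∈ U ∧ RelProj.IsQuasiProjective (f ∣_ U)) ↔
      (∀ s : S, ∃ U : S.Opens, s ∈ U ∧ RelProj.IsHQuasiProjective (f ∣_ U)) := by
  constructor
  · intro h s
    obtain ⟨U, hsU, hlft, hqc, L, hL⟩ := h s
    obtain ⟨V', hV', hsV', -⟩ := exists_isAffineOpen_mem_and_subset (X := U.toScheme) (x := ⟨s, hsU⟩)
      (U := ⊤) trivial
    refine ⟨U.ι ''ᵁ V', ⟨⟨s, hsU⟩, hsV', rfl⟩, ?_⟩
    have α := morphismRestrictRestrict f U V'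
    have hlft' : LocallyOfFiniteType (f ∣_ U ∣_ V') := inferInstance
    have hqc' : QuasiCompact (f ∣_ U ∣_ V') := inferInstance
    have hlftW : LocallyOfFiniteType (f ∣_ U.ι ''ᵁ V') :=
      (MorphismProperty.arrow_mk_iso_iff @LocallyOfFiniteType α).1 hlft'
    have hqcW : QuasiCompact (f ∣_ U.ι ''ᵁ V') :=
      (MorphismProperty.arrow_mk_iso_iff @QuasiCompact α).1 hqc'
    have hamp : CohB1.IsAmple (L.restrict ((f ∣_ U) ⁻¹ᵁ V').ι) := hL.2 ⟨V', hV'⟩
    let e : (((f ∣_ U) ⁻¹ᵁ V' : (f ⁻¹ᵁ U).toScheme.Opens) : Scheme.{u}) ≅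
        ((f ⁻¹ᵁ (U.ι ''ᵁ V') : X.Opens) : Scheme.{u}) := Arrow.leftFunc.mapIso α
    have hamp' := Groth.Agent.Lib.Helper23.PB.isAmple_pullback_of_isAffineHom e.inv _ hamp
    obtain ⟨n, i, hi, hif⟩ := Groth.Agent.Lib.R2H3.QProj.exists_immersion_of_isAmple (f ∣_ U.ι ''ᵁ V') _ hamp'
    exact ⟨n, i, hi, Groth.Agent.Lib.R2H3.QProj.quasiCompact_of_comp_toBase _ n i hif, hif⟩
  · intro h s
    obtain ⟨U, hsU, n, i, hi, hqc, hif⟩ := h s
    refine ⟨U, hsU, ?_⟩
    have hp := Groth.Agent.Lib.R2H3.QProj.isProper_π n U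
    have := hi
    have := hqc
    have hif' : i ≫ Groth.Agent.Lib.R2H3.QProj.π n U = f ∣_ U := hif
    have hlft : LocallyOfFiniteType (i ≫ Groth.Agent.Lib.R2H3.QProj.π n U) := inferInstance
    have hqcf : QuasiCompact (i ≫ Groth.Agent.Lib.R2H3.QProj.π n U) := inferInstance
    rw [hif'] at hlft hqcf
    exact ⟨hlft, hqcf, _, Groth.Agent.Lib.R2H3.QProj.isRelAmple_pullback_twistOver (f ∣_ U) n i hif'⟩

end Groth.Agent.S9712
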