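import Groth.Statements.S9713
import Mathlib
import Groth.Agent.S9704
import Groth.Agent.S9693

set_option autoImplicit false
universe u
open CategoryTheory CategoryTheory.Limits AlgebraicGeometry
open Mor

namespace Groth.Agent.S9713

/-- H-projectivity is stable under base change along an arbitrary pullback square. -/
lemma isHProjective_of_isPullback {A X S S' : Scheme.{u}} {a : A ⟶ X} {f' : A ⟶ S'} {f : X ⟶ S}
    {g : S' ⟶ S} (sq : IsPullback a f' f g) (hf : RelProj.IsHProjective f) :
    RelProj.IsHProjective f' := by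
  obtain ⟨n, i, hi, hif⟩ := Groth.Agent.S9693.result f hf g
  refine ⟨n, sq.isoPullback.hom ≫ i, inferInstance, ?_⟩
  rw [Category.assoc, hif, IsPullback.isoPullback_hom_snd]

/-- A base change of a locally projective morphism (every point of the base has an open neighbourhood U
with f⁻¹(U) ⟶ U projective) is locally projective. Here f⁻¹(U) ⟶ U projective means isomorphic over
U to the relative Proj of a quasi-coherent graded algebra generated by its finite-type degree-one
part; the published definition uses closed subschemes of P(E) with E of finite type, an equivalent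
condition. -/
theorem result {X S S' : Scheme.{u}} (f : X ⟶ S) (hf : RelProj.IsLocallyProjective f)
    (g : S' ⟶ S) : RelProj.IsLocallyProjective (pullback.snd f g) := by
  rw [Groth.Agent.S9704.result] at hf ⊢
  intro s'
  obtain ⟨U, hsU, hU⟩ := hf (g s')
  refine ⟨g ⁻¹ᵁ U, hsU, ?_⟩
  have sqA := (isPullback_morphismRestrict (pullback.snd f g) (g ⁻¹ᵁ U)).flip
  have sqB := IsPullback.of_hasPullback f g
  have sqAB := sqA.paste_horiz sqB
  have sqC := (isPullback_morphismRestrict f U).flip
  have hι : (g ⁻¹ᵁ U).ι ≫ g = g ∣_ U ≫ U.ι := (morphismRestrict_ι g U).symm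
  rw [hι] at sqAB
  have hcomm : (((pullback.snd f g) ⁻¹ᵁ (g ⁻¹ᵁ U)).ι ≫ pullback.fst f g) ≫ f =
      ((pullback.snd f g) ∣_ (g ⁻¹ᵁ U) ≫ g ∣_ U) ≫ U.ι := sqAB.w
  have h1 : sqC.lift _ _ hcomm ≫ (f ⁻¹ᵁ U).ι =
      ((pullback.snd f g) ⁻¹ᵁ (g ⁻¹ᵁ U)).ι ≫ pullback.fst f g := sqC.lift_fst _ _ _
  have h2 : sqC.lift _ _ hcomm ≫ f ∣_ U = (pullback.snd f g) ∣_ (g ⁻¹ᵁ U) ≫ g ∣_ U :=
    sqC.lift_snd _ _ _
  rw [← h1] at sqAB
  exact isHProjective_of_isPullback (IsPullback.of_right sqAB h2 sqC) hU

end Groth.Agent.S9713
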