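import Groth.Statements.S9715
import Groth.Agent.Lib.R2H3DiffGeo
import Groth.Agent.S5959

set_option autoImplicit false
set_option linter.style.haveILetI false
universe u
open CategoryTheory CategoryTheory.Limits AlgebraicGeometry
open Opposite
open Mor

namespace Groth.Agent.S9715

/-- Let f : X ⟶ S be a morphism of affine schemes, R = Γ(S, O_S) → A = Γ(X, O_X) the corresponding ring
map, F a quasi-coherent O_X-module and G an O_X-module, with global sections M and N. Every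
differential operator M → N of order at most k relative to A over R is induced on global sections by
a differential operator F → G of order at most k relative to X over S. (The published statement
asserts that D ↦ Γ(X, D) is a bijection between the two sets of operators of order at most k; its
injectivity is not verified in the published proof and is not claimed here. Differential operators
on X/S are taken in the principal-parts sense, those of A/R in the commutator sense.) -/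
theorem result {X S : Scheme.{u}} [IsAffine X] [IsAffine S] (f : X ⟶ S)
    (F G : X.Modules) (hF : Coh.IsQCoh F) (k : ℕ) :
    letI : Algebra Γ(S, ⊤) Γ(X, ⊤) := f.appTop.hom.toAlgebra
    letI : Module Γ(S, ⊤) Γ(F, ⊤) := Module.compHom Γ(F, ⊤) f.appTop.hom
    letI : Module Γ(S, ⊤) Γ(G, ⊤) := Module.compHom Γ(G, ⊤) f.appTop.hom
    haveI : IsScalarTower Γ(S, ⊤) Γ(X, ⊤) Γ(F, ⊤) := IsScalarTower.of_algebraMap_smul fun _ _ => rfl
    haveI : IsScalarTower Γ(S, ⊤) Γ(X, ⊤) Γ(G, ⊤) := IsScalarTower.of_algebraMap_smul fun _ _ => rfl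
    ∀ D' : Γ(F, ⊤) →ₗ[Γ(S, ⊤)] Γ(G, ⊤), Diff16.IsDiffOpLE Γ(S, ⊤) Γ(X, ⊤) Γ(F, ⊤) Γ(G, ⊤) k D' →
      ∃ D : F.presheaf ⟶ G.presheaf, PrinPart.IsDiffOpLE f F G k D ∧
        ∀ m : Γ(F, ⊤), (D.app (op ⊤)).hom m = D' m := by
  letI : Algebra Γ(S, ⊤) Γ(X, ⊤) := f.appTop.hom.toAlgebra
  letI : Module Γ(S, ⊤) Γ(F, ⊤) := Module.compHom Γ(F, ⊤) f.appTop.hom
  letI : Module Γ(S, ⊤) Γ(G, ⊤) := Module.compHom Γ(G, ⊤) f.appTop.hom
  haveI : IsScalarTower Γ(S, ⊤) Γ(X, ⊤) Γ(F, ⊤) := IsScalarTower.of_algebraMap_smul fun _ _ => rfl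
  haveI : IsScalarTower Γ(S, ⊤) Γ(X, ⊤) Γ(G, ⊤) := IsScalarTower.of_algebraMap_smul fun _ _ => rfl
  intro D' hD'
  haveI : F.IsQuasicoherent := hF
  haveI : (PrinPart.PMod f k F).IsQuasicoherent := Groth.Agent.S5959.result f k F hF
  have hU : IsAffineOpen (⊤ : X.Opens) := isAffineOpen_top X
  have hT : IsAffineOpen (⊤ : S.Opens) := isAffineOpen_top S
  have hUT : (⊤ : X.Opens) ≤ f ⁻¹ᵁ (⊤ : S.Opens) := le_rfl
  have halg : algebraMap Γ(S, ⊤) Γ(X, ⊤) = (f.appLE ⊤ ⊤ hUT).hom := by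
    change f.appTop.hom = _
    congr 1
    rw [Scheme.Hom.appLE]
    have h1 : f.appTop = f.app ⊤ ≫ X.presheaf.map (𝟙 (op (f ⁻¹ᵁ ⊤))) := by
      rw [X.presheaf.map_id, Category.comp_id]
    exact h1
  obtain ⟨u₀, hlin, hd⟩ := Groth.Agent.Lib.R2H3.DiffGeo.exists_u0 f hU hT hUT F G k halg D' hD'
  obtain ⟨D₀, hD₀⟩ := Groth.Agent.Helper13ModGlue.exists_locFam hU (PrinPart.PMod f k F) G u₀ hlin
  obtain ⟨ψ, hψ⟩ := Groth.Agent.Helper13ModGlue.exists_hom_of_locFams
    (fun _ : PUnit.{u + 1} => (⊤ : X.Opens)) (by simp) (PrinPart.PMod f k F) G (fun _ => D₀)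
    (fun _ _ W hi hj τ => rfl)
  refine ⟨PrinPart.dPHom f k F ≫ ψ.mapPresheaf, ⟨ψ, fun U t => rfl⟩, fun m => ?_⟩
  change ψ.app ⊤ (PrinPart.dP f k F ⊤ m) = D' m
  rw [hψ PUnit.unit ⊤ le_rfl, hD₀, hd]

end Groth.Agent.S9715
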