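import Groth.Statements.S9728
import Groth.Agent.Lib.R2H3KzCancel

set_option autoImplicit false
universe u
open FlatMor

namespace Groth.Agent.S9728

open AlgebraicGeometry CategoryTheory Limits in
/-- Given S-schemes U, P, P' with P and P' smooth over S, immersions i : U ⟶ P and i' : U ⟶ P'
compatible with the structure maps to S, and a point u of U, some restriction of i to an open
neighbourhood of u is a Koszul-regular immersion exactly when some restriction of i' to an open
neighbourhood of u is. -/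
theorem result {S U P P' : Scheme.{u}} (q : U ⟶ S)
    (p : P ⟶ S) (p' : P' ⟶ S) [Smooth p] [Smooth p'] (i : U ⟶ P) (i' : U ⟶ P') [IsImmersion i] [IsImmersion i']
    (hi : i ≫ p = q) (hi' : i' ≫ p' = q) (u : U) :
    (∃ V : U.Opens, u ∈ V ∧ RegImm.IsRegularImmersion RegImm.Kind.koszul (V.ι ≫ i)) ↔
      (∃ V : U.Opens, u ∈ V ∧ RegImm.IsRegularImmersion RegImm.Kind.koszul (V.ι ≫ i')) := by
  have key : ∀ {P P' : Scheme.{u}} (p : P ⟶ S) (p' : P' ⟶ S) [Smooth p] [Smooth p']
      (i : U ⟶ P) (i' : U ⟶ P') [IsImmersion i] [IsImmersion i'] (hi : i ≫ p = q)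
      (hi' : i' ≫ p' = q),
      (∃ V : U.Opens, u ∈ V ∧ RegImm.IsRegularImmersion RegImm.Kind.koszul (V.ι ≫ i)) →
      (∃ V : U.Opens, u ∈ V ∧ RegImm.IsRegularImmersion RegImm.Kind.koszul (V.ι ≫ i')) := by
    intro P P' p p' _ _ i i' _ _ hi hi' ⟨W, huW, hW⟩
    refine ⟨W, huW, ?_⟩
    let k : (W : Scheme.{u}) ⟶ pullback p p' :=
      pullback.lift (W.ι ≫ i) (W.ι ≫ i') (by rw [Category.assoc, Category.assoc, hi, hi'])
    have hk1 : k ≫ pullback.fst p p' = W.ι ≫ i := pullback.lift_fst _ _ _
    have hk2 : k ≫ pullback.snd p p' = W.ι ≫ i' := pullback.lift_snd _ _ _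
    haveI : Smooth (pullback.fst p p') := MorphismProperty.pullback_fst _ _ inferInstance
    haveI : Smooth (pullback.snd p p') := MorphismProperty.pullback_snd _ _ inferInstance
    have hk : RegImm.IsRegularImmersion RegImm.Kind.koszul k :=
      Groth.Agent.Lib.R2H3.KzCancel.lift_koszul (W.ι ≫ i) k (pullback.fst p p') hk1 hW
    haveI : IsImmersion (k ≫ pullback.snd p p') := by rw [hk2]; infer_instance
    have := Groth.Agent.Lib.R2H3.KzCancel.cancel k (pullback.snd p p') hk
    rw [hk2] at this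
    exact this
  exact ⟨key p p' i i' hi hi', key p' p i' i hi' hi⟩

end Groth.Agent.S9728
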