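import Groth.Statements.S9807
import Mathlib
import Groth.Agent.S4713
import Groth.Agent.Lib.Helper5StalkSpec
import Groth.Agent.Lib.Helper28RegLoc
-- import your own Groth.Agent.* helpers here

set_option autoImplicit false
universe u
open CategoryTheory AlgebraicGeometry TopologicalSpace
open Props

namespace Groth.Agent.S9807

/-- A local ring which is a localization of a regular local ring is regular (Serre). -/
theorem isRegularLocalRing_of_isLocalization (R S : Type u) [CommRing R] [CommRing S]
    [Algebra R S] [IsRegularLocalRing R] [IsLocalRing S] (M : Submonoid R) [IsLocalization M S] :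
    IsRegularLocalRing S := by
  have hP : IsLocalization.AtPrime (Localization.AtPrime (IsLocalRing.maximalIdeal S))
      ((IsLocalRing.maximalIdeal S).comap (algebraMap R S)) :=
    IsLocalization.isLocalization_isLocalization_atPrime_isLocalization M _
      (IsLocalRing.maximalIdeal S)
  have hreg : IsRegularLocalRing
      (Localization.AtPrime ((IsLocalRing.maximalIdeal S).comap (algebraMap R S))) :=
    Groth.Agent.Lib.Helper28.isRegularLocalRing_localization_of_isRegularLocalRing R _
  let e1 : Localization.AtPrime ((IsLocalRing.maximalIdeal S).comap (algebraMap R S)) ≃ₐ[R]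
      Localization.AtPrime (IsLocalRing.maximalIdeal S) :=
    IsLocalization.algEquiv ((IsLocalRing.maximalIdeal S).comap (algebraMap R S)).primeCompl _ _
  let e2 : S ≃ₐ[S] Localization.AtPrime (IsLocalRing.maximalIdeal S) :=
    IsLocalization.atUnits S (IsLocalRing.maximalIdeal S).primeCompl
      (fun x ↦ by simpa using! fun a ↦ a)
  exact IsRegularLocalRing.of_ringEquiv (e1.toRingEquiv.trans e2.toRingEquiv.symm)

/-- A locally Noetherian scheme is regular (all local rings regular) as soon as its local rings at
closed points are regular, and conversely. -/
theorem result (X : Scheme.{u}) [IsLocallyNoetherian X] :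
    (∀ x : X, IsRegularLocalRing (X.presheaf.stalk x)) ↔
      ∀ x : X, IsClosed ({x} : Set X) → IsRegularLocalRing (X.presheaf.stalk x) := by
  constructor
  · intro h x _
    exact h x
  · intro h x
    obtain ⟨y, hy, hycl⟩ := Groth.Agent.S4713.result X (closure {x}) isClosed_closure
      ⟨x, subset_closure rfl⟩
    have hxy : x ⤳ y := specializes_iff_mem_closure.mpr hy
    have hreg := h y hycl
    letI := (X.presheaf.stalkSpecializes hxy).hom.toAlgebra
    obtain ⟨M, hM⟩ :=
      Groth.Agent.Lib.Helper5.StalkSpec.exists_isLocalization_stalkSpecializes X hxy
    exact isRegularLocalRing_of_isLocalization (X.presheaf.stalk y) (X.presheaf.stalk x) M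

end Groth.Agent.S9807
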