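import Groth.Statements.S9820
import Groth.Agent.Lib.R2H3FPQuot

set_option autoImplicit false
universe u
open CategoryTheory CategoryTheory.Limits AlgebraicGeometry TopologicalSpace Opposite
open Props

namespace Groth.Agent.S9820

/-- On a quasi-compact quasi-separated scheme, a quasi-coherent module of finite type which is of finite
presentation over a quasi-compact open U is the quotient of a module of finite presentation by a
surjection which is an isomorphism over U. -/
theorem result {X : Scheme.{u}} [CompactSpace X]
    [QuasiSeparatedSpace X] (F : X.Modules) [Coh.IsQCoh F] (hF : CohB1.IsFT F) (U : X.Opens)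
    (hU : IsCompact (U : Set X)) (hFU : CohB1.IsFP (F.restrict U.ι)) :
    ∃ (G : X.Modules) (φ : G ⟶ F), CohB1.IsFP G ∧ Epi φ ∧
      IsIso ((Scheme.Modules.restrictFunctor U.ι).map φ) := by
  have := hF
  have := hFU
  have hFPU : Groth.Agent.Lib.R2H3.FPExtend.FPOn F U := by
    have := Groth.Agent.Lib.R2H3.FPExtend.fpOn_of_isFinitePresentation_restrict U.ι F
    rwa [Scheme.Opens.opensRange_ι] at this
  obtain ⟨G, φ, hq, hfp, hepi, hiso⟩ := Groth.Agent.Lib.R2H3.FPQuot.exists_fp_epi_isoOn F U hU hFPU
  refine ⟨G, φ, hfp, hepi, ?_⟩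
  rw [Groth.Agent.Lib.Helper23.Extend.isIso_restrict_iff, Scheme.Opens.opensRange_ι]
  exact hiso

end Groth.Agent.S9820
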