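import Groth.Statements.S9823
import Mathlib
import Groth.Agent.Lib.Helper22FTIdeal
-- import your own Groth.Agent.* helpers here

set_option autoImplicit false
universe u
open CategoryTheory CategoryTheory.Limits AlgebraicGeometry TopologicalSpace Opposite
open Props

namespace Groth.Agent.S9823

open Groth.Agent.Lib.Helper22.FTIdeal in
theorem exists_ft_of_isCompact (X : Scheme.{u}) [CompactSpace X] [QuasiSeparatedSpace X]
    (U : X.Opens) (hU : IsCompact (U : Set X)) :
    ∃ I : X.IdealSheafData, (∀ V : X.affineOpens, (I.ideal V).FG) ∧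
      (I.support : Set X) = (U : Set X)ᶜ := by
  let Z : Closeds X := ⟨(U : Set X)ᶜ, U.isOpen.isClosed_compl⟩
  let I : X.IdealSheafData := Scheme.IdealSheafData.vanishingIdeal Z
  have hI : (I.support : Set X) = (U : Set X)ᶜ := by
    simp [I, Z]
  haveI : Nonempty (ftSub I) := ⟨⟨⊥, bot_mem_ftSub I⟩⟩
  have hcov : (U : Set X) ⊆ ⋃ J : ftSub I, ((J.1.support : Set X))ᶜ := by
    intro x hxU
    obtain ⟨_, ⟨V, hV, rfl⟩, hxV, -⟩ :=
      X.isBasis_affineOpens.exists_subset_of_mem_open (Set.mem_univ x) isOpen_univ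
    have hxI : x ∉ I.support := by
      intro h
      have : x ∈ (I.support : Set X) := h
      rw [hI] at this
      exact this hxU
    rw [Scheme.IdealSheafData.mem_support_iff_of_mem (U := ⟨V, hV⟩) hxV] at hxI
    simp only [Scheme.mem_zeroLocus_iff, SetLike.mem_coe, not_forall, not_not] at hxI
    obtain ⟨f, hfI, hxf⟩ := hxI
    obtain ⟨J, hJI, hJft, hfJ⟩ := exists_ft_le_mem I ⟨V, hV⟩ f hfI
    refine Set.mem_iUnion.mpr ⟨⟨J, hJI, hJft⟩, ?_⟩
    intro hxJ
    have hxJ' : x ∈ J.support := hxJ
    rw [Scheme.IdealSheafData.mem_support_iff_of_mem (U := ⟨V, hV⟩) hxV] at hxJ'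
    exact (X.mem_zeroLocus_iff _ _).mp hxJ' f hfJ hxf
  have hdir : Directed (· ⊆ ·) (fun J : ftSub I => ((J.1.support : Set X))ᶜ) := by
    intro J K
    refine ⟨⟨J.1 ⊔ K.1, sup_mem_ftSub J.2 K.2⟩, ?_, ?_⟩
    · exact Set.compl_subset_compl.mpr
        (Scheme.IdealSheafData.support_antitone (le_sup_left : J.1 ≤ J.1 ⊔ K.1))
    · exact Set.compl_subset_compl.mpr
        (Scheme.IdealSheafData.support_antitone (le_sup_right : K.1 ≤ J.1 ⊔ K.1))
  obtain ⟨J, hJ⟩ := hU.elim_directed_cover (fun J : ftSub I => ((J.1.support : Set X))ᶜ)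
    (fun J => J.1.support.isClosed.isOpen_compl) hcov hdir
  refine ⟨J.1, J.2.2, ?_⟩
  apply Set.Subset.antisymm
  · intro x hx
    by_contra hxU
    have : x ∈ (U : Set X) := by simpa using hxU
    exact hJ this hx
  · rw [← hI]
    exact Scheme.IdealSheafData.support_antitone J.2.1

theorem isCompact_of_ft (X : Scheme.{u}) [CompactSpace X]
    (U : X.Opens) (I : X.IdealSheafData) (hI : ∀ V : X.affineOpens, (I.ideal V).FG)
    (hU : (I.support : Set X) = (U : Set X)ᶜ) : IsCompact (U : Set X) := by
  obtain ⟨s, hs, hsX⟩ := isCompact_iff_finite_and_eq_biUnion_affineOpens.mp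
    (show IsCompact ((⊤ : X.Opens) : Set X) from isCompact_univ)
  have hcover : (U : Set X) = ⋃ V ∈ s, ((U : Set X) ∩ (V.1 : Set X)) := by
    rw [← Set.inter_iUnion₂]
    have : (⋃ V ∈ s, (V.1 : Set X)) = Set.univ := by
      have h1 := congrArg (fun W : X.Opens => (W : Set X)) hsX
      simp only [Opens.coe_top, Opens.coe_iSup] at h1
      exact h1.symm
    rw [this, Set.inter_univ]
  rw [hcover]
  refine hs.isCompact_biUnion fun V _ => ?_
  obtain ⟨T, hT⟩ := hI V
  have hUV : (U : Set X) ∩ (V.1 : Set X) = ⋃ f ∈ T, (X.basicOpen f : Set X) := by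
    ext x
    simp only [Set.mem_inter_iff, SetLike.mem_coe, Set.mem_iUnion, exists_prop]
    constructor
    · rintro ⟨hxU, hxV⟩
      have hxI : x ∉ I.support := by
        intro h
        have : x ∈ (I.support : Set X) := h
        rw [hU] at this
        exact this hxU
      rw [Scheme.IdealSheafData.mem_support_iff_of_mem (U := V) hxV, ← hT,
        Scheme.zeroLocus_span] at hxI
      simp only [Scheme.mem_zeroLocus_iff, SetLike.mem_coe, not_forall, not_not] at hxI
      obtain ⟨f, hfT, hxf⟩ := hxI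
      exact ⟨f, hfT, hxf⟩
    · rintro ⟨f, hfT, hxf⟩
      have hxV : x ∈ V.1 := X.basicOpen_le f hxf
      refine ⟨?_, hxV⟩
      by_contra hxU
      have : x ∈ (I.support : Set X) := by
        rw [hU]; exact hxU
      have h2 : x ∈ I.support := this
      rw [Scheme.IdealSheafData.mem_support_iff_of_mem (U := V) hxV] at h2
      exact (X.mem_zeroLocus_iff _ _).mp h2 f (hT ▸ Ideal.subset_span hfT) hxf
  rw [hUV]
  exact T.finite_toSet.isCompact_biUnion fun f _ => (V.2.basicOpen f).isCompact

/-- In a quasi-compact quasi-separated scheme, an open subset is quasi-compact exactly when its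
complement is the support of some quasi-coherent ideal sheaf of finite type. -/
theorem result (X : Scheme.{u}) [CompactSpace X] [QuasiSeparatedSpace X]
    (U : X.Opens) :
    IsCompact (U : Set X) ↔
      ∃ I : X.IdealSheafData, (∀ V : X.affineOpens, (I.ideal V).FG) ∧ (I.support : Set X) = (U : Set X)ᶜ := by
  constructor
  · exact exists_ft_of_isCompact X U
  · rintro ⟨I, hI, hU⟩
    exact isCompact_of_ft X U I hI hU

end Groth.Agent.S9823
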