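import Groth.Statements.S9860
import Mathlib
-- import your own Groth.Agent.* helpers here

set_option autoImplicit false
open CategoryTheory CategoryTheory.Limits AlgebraicGeometry Opposite
universe u
open Desc

namespace Groth.Agent.S9860

/-- A sieve on a scheme whose pullbacks to all affine schemes are effective epimorphic is
effective epimorphic. -/
theorem effectiveEpimorphic_of_affine {Y : Scheme.{u}} (S : Sieve Y)
    (h : ∀ (T : Scheme.{u}) (t : T ⟶ Y), IsAffine T → (S.pullback t).EffectiveEpimorphic) :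
    S.EffectiveEpimorphic := by
  rw [Sieve.EffectiveEpimorphic.iff_forall_isSheafFor_yoneda]
  intro W x hx
  have hsh : ∀ (T : Scheme.{u}) (t : T ⟶ Y), IsAffine T →
      Presieve.IsSheafFor (yoneda.obj W) (S.pullback t).arrows := fun T t hT =>
    (Sieve.EffectiveEpimorphic.iff_forall_isSheafFor_yoneda _).mp (h T t hT) W
  -- the local amalgamations
  let b : ∀ (T : Scheme.{u}) (t : T ⟶ Y) (hT : IsAffine T), T ⟶ W := fun T t hT =>
    (hsh T t hT).amalgamate (x.pullback t) (hx.pullback t)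
  have hb : ∀ (T : Scheme.{u}) (t : T ⟶ Y) (hT : IsAffine T) (T' : Scheme.{u}) (ψ : T' ⟶ T)
      (hψ : S (ψ ≫ t)), ψ ≫ b T t hT = x (ψ ≫ t) hψ := fun T t hT T' ψ hψ =>
    (hsh T t hT).valid_glue (hx.pullback t) ψ hψ
  -- characterization: any morphism with the amalgamation property is `b`
  have hb_uniq : ∀ (T : Scheme.{u}) (t : T ⟶ Y) (hT : IsAffine T) (c : T ⟶ W),
      (∀ (T' : Scheme.{u}) (ψ : T' ⟶ T) (hψ : S (ψ ≫ t)), ψ ≫ c = x (ψ ≫ t) hψ) →
      c = b T t hT := by
    intro T t hT c hc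
    refine (hsh T t hT).isSeparatedFor.ext fun T' ψ hψ => ?_
    change ψ ≫ c = ψ ≫ b T t hT
    rw [hc T' ψ hψ, hb T t hT T' ψ hψ]
  -- compatibility under restriction to a smaller scheme (affine or not)
  have hb_comp : ∀ (T : Scheme.{u}) (t : T ⟶ Y) (hT : IsAffine T) (T₁ : Scheme.{u})
      (t₁ : T₁ ⟶ Y) (hT₁ : IsAffine T₁) (s : T₁ ⟶ T), s ≫ t = t₁ →
      s ≫ b T t hT = b T₁ t₁ hT₁ := by
    intro T t hT T₁ t₁ hT₁ s hs
    subst hs
    refine hb_uniq T₁ (s ≫ t) hT₁ _ fun T' ψ hψ => ?_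
    have hψ' : S ((ψ ≫ s) ≫ t) := by simpa using hψ
    have := hb T t hT T' (ψ ≫ s) hψ'
    rw [Category.assoc] at this
    rw [this]
    congr 1
  let 𝒰 := Y.affineCover
  have hglue : ∀ i j : 𝒰.I₀, pullback.fst (𝒰.f i) (𝒰.f j) ≫ b (𝒰.X i) (𝒰.f i) inferInstance =
      pullback.snd (𝒰.f i) (𝒰.f j) ≫ b (𝒰.X j) (𝒰.f j) inferInstance := by
    intro i j
    refine Scheme.Cover.hom_ext (pullback (𝒰.f i) (𝒰.f j)).affineCover _ _ fun k => ?_
    rw [← Category.assoc, ← Category.assoc]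
    rw [hb_comp (𝒰.X i) (𝒰.f i) inferInstance _
        (((pullback (𝒰.f i) (𝒰.f j)).affineCover.f k ≫ pullback.fst (𝒰.f i) (𝒰.f j)) ≫ 𝒰.f i)
        inferInstance _ rfl,
      hb_comp (𝒰.X j) (𝒰.f j) inferInstance _
        (((pullback (𝒰.f i) (𝒰.f j)).affineCover.f k ≫ pullback.fst (𝒰.f i) (𝒰.f j)) ≫ 𝒰.f i)
        inferInstance _ (by simp [pullback.condition])]
  let a : Y ⟶ W := 𝒰.glueMorphisms (fun i => b (𝒰.X i) (𝒰.f i) inferInstance) hglue
  have ha : ∀ i, 𝒰.f i ≫ a = b (𝒰.X i) (𝒰.f i) inferInstance := fun i =>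
    𝒰.ι_glueMorphisms _ hglue i
  refine ⟨a, ?_, ?_⟩
  · intro T φ hφ
    change φ ≫ a = x φ hφ
    refine Scheme.Cover.hom_ext (𝒰.pullback₁ φ) _ _ fun i => ?_
    change pullback.fst φ (𝒰.f i) ≫ φ ≫ a = pullback.fst φ (𝒰.f i) ≫ x φ hφ
    have h1 : S (pullback.snd φ (𝒰.f i) ≫ 𝒰.f i) := by
      rw [← pullback.condition]
      exact S.downward_closed hφ _
    rw [pullback.condition_assoc, ha, hb (𝒰.X i) (𝒰.f i) inferInstance _ _ h1]
    have h2 := Presieve.FamilyOfElements.comp_of_compatible S hx hφ (pullback.fst φ (𝒰.f i))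
    change _ = pullback.fst φ (𝒰.f i) ≫ x φ hφ at h2
    rw [← h2]
    congr 1
    exact pullback.condition.symm
  · intro a' ha'
    refine Scheme.Cover.hom_ext 𝒰 _ _ fun i => ?_
    rw [ha]
    refine hb_uniq (𝒰.X i) (𝒰.f i) inferInstance _ fun T' ψ hψ => ?_
    have := ha' (ψ ≫ 𝒰.f i) hψ
    change (ψ ≫ 𝒰.f i) ≫ a' = _ at this
    rw [← Category.assoc, this]

/-- Consider morphisms of schemes f i : X i ⟶ X indexed by i. Suppose that, whenever Y is an affine
scheme and g : Y ⟶ X is a morphism, the sieve on Y obtained by pulling back along g (generated by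
the base changes X i ×_X Y ⟶ Y) is effective epimorphic. Then the pulled-back sieve along every
morphism Y ⟶ X of schemes is effective epimorphic; in other words, within schemes the family forms a
universal effective epimorphism. -/
theorem result {ι : Type u} {X : Scheme.{u}} {Xi : ι → Scheme.{u}} (f : ∀ i, Xi i ⟶ X)
    (h : ∀ (Y : Scheme.{u}) (g : Y ⟶ X), IsAffine Y → ((Sieve.ofArrows Xi f).pullback g).EffectiveEpimorphic)
    {Y : Scheme.{u}} (g : Y ⟶ X) : ((Sieve.ofArrows Xi f).pullback g).EffectiveEpimorphic := by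
  refine effectiveEpimorphic_of_affine _ fun T t hT => ?_
  rw [← Sieve.pullback_comp]
  exact h T (t ≫ g) hT

end Groth.Agent.S9860
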