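import Groth.Statements.S9864
import Mathlib
import Groth.Agent.Lib.H5bDescPull

set_option autoImplicit false
set_option maxHeartbeats 400000
open CategoryTheory CategoryTheory.Limits AlgebraicGeometry Opposite
universe u
open Desc

namespace Groth.Agent.S9864

open Groth.Agent.Lib.H5bDescPull

/-- the pullback datum for the pullback functor along an endomorphism. -/
noncomputable def pullData {X S : Scheme.{u}} (a : X ⟶ S) (f : X ⟶ X) (h : f ≫ a = a)
    (D : Desc.SchDDFam (fun _ : PUnit.{u + 1} => a)) :
    PullData (fun _ => f) D
      ((Desc.pullDDFam (f := fun _ : PUnit.{u + 1} => a) (f' := fun _ : PUnit.{u + 1} => a)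
        (α := fun j => j) (p := 𝟙 S) (p' := fun _ => f)
        (fun _ => (h).trans (Category.comp_id a).symm)).obj D) where
  he _ := h
  c i := pullback.fst (D.obj i).hom f
  sq i := IsPullback.of_hasPullback (D.obj i).hom f
  compat T i j x₀ x₁ h₀ h' v v' hv := by
    have hv' : v' = Desc.liftsPullbackEquiv (D.obj i) f x₀ v := Subtype.ext hv
    rw [hv']
    exact pullback.lift_fst _ _ _

/-- Let a : X ⟶ S be a morphism of schemes and f : X ⟶ X a morphism over S (f ≫ a = a). Then the
pullback functor along f on the category of descent data for schemes relative to X ⟶ S is isomorphic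
to the identity functor. (Existence of an isomorphism of functors only; descent data relative to a
single morphism are written as descent data relative to the corresponding one-member family.) -/
theorem result {X S : Scheme.{u}} (a : X ⟶ S) (f : X ⟶ X) (h : f ≫ a = a) :
    Nonempty (Desc.pullDDFam (f := fun _ : PUnit.{u + 1} => a) (f' := fun _ : PUnit.{u + 1} => a) (α := fun j => j)
        (p := 𝟙 S) (p' := fun _ => f) (fun _ => (h).trans (Category.comp_id a).symm) ≅
      𝟭 (Desc.SchDDFam (fun _ : PUnit.{u + 1} => a))) := by
  refine ⟨NatIso.ofComponents (fun D => (pullData a f h D).iso) ?_⟩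
  intro D₁ D₂ b
  refine PullData.naturality (pullData a f h D₁) (pullData a f h D₂) b _ ?_
  intro i
  exact pullback.lift_fst _ _ _

end Groth.Agent.S9864
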