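import Groth.Statements.S9865
import Mathlib
import Groth.Agent.Lib.H5bDescPull

set_option autoImplicit false
set_option maxHeartbeats 400000
open CategoryTheory CategoryTheory.Limits AlgebraicGeometry Opposite
universe u
open Desc

namespace Groth.Agent.S9865

open Groth.Agent.Lib.H5bDescPull

section

variable {X X' S : Scheme.{u}} (a : X ⟶ S) (a' : X' ⟶ S)

/-- the pullback functor along a morphism over `S`. -/
noncomputable abbrev pullF (q : X' ⟶ X) (hq : q ≫ a = a') :
    Desc.SchDDFam (fun _ : PUnit.{u + 1} => a) ⥤ Desc.SchDDFam (fun _ : PUnit.{u + 1} => a') :=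
  Desc.pullDDFam (f := fun _ : PUnit.{u + 1} => a) (f' := fun _ : PUnit.{u + 1} => a')
    (α := fun j => j) (p := 𝟙 S) (p' := fun _ => q) (fun _ => (hq).trans (Category.comp_id a').symm)

lemma φ_congr (D : Desc.SchDDFam (fun _ : PUnit.{u + 1} => a)) {T : Scheme.{u}} {i j : PUnit.{u + 1}}
    {x₀ y₀ x₁ y₁ : T ⟶ X} (e₀ : x₀ = y₀) (e₁ : x₁ = y₁) (h : x₀ ≫ a = x₁ ≫ a)
    (h' : y₀ ≫ a = y₁ ≫ a) (v : Desc.Lifts (D.obj i) x₀) (v' : Desc.Lifts (D.obj i) y₀)
    (hv : v.1 = v'.1) : (D.φ (i := i) (j := j) x₀ x₁ h v).1 = (D.φ (i := i) (j := j) y₀ y₁ h' v').1 := by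
  subst e₀ e₁
  have : v = v' := Subtype.ext hv
  rw [this]

lemma pull_φ_fst (q : X' ⟶ X) (hq : q ≫ a = a') (D : Desc.SchDDFam (fun _ : PUnit.{u + 1} => a))
    {T : Scheme.{u}} {i j : PUnit.{u + 1}} (x₀ x₁ : T ⟶ X') (h₀ : x₀ ≫ a' = x₁ ≫ a')
    (h' : (x₀ ≫ q) ≫ a = (x₁ ≫ q) ≫ a)
    (v : Desc.Lifts (((pullF a a' q hq).obj D).obj i) x₀) (v' : Desc.Lifts (D.obj i) (x₀ ≫ q))
    (hv : v'.1 = v.1 ≫ pullback.fst (D.obj i).hom q) :
    (((pullF a a' q hq).obj D).φ (i := i) (j := j) x₀ x₁ h₀ v).1 ≫ pullback.fst (D.obj j).hom q =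
      (D.φ (i := i) (j := j) (x₀ ≫ q) (x₁ ≫ q) h' v').1 := by
  have hv' : v' = Desc.liftsPullbackEquiv (D.obj i) q x₀ v := Subtype.ext hv
  rw [hv']
  exact pullback.lift_fst _ _ _

/-- the pullback datum for a composite of two pullback functors. -/
noncomputable def pullData2 (q : X' ⟶ X) (hq : q ≫ a = a') (q' : X ⟶ X') (hq' : q' ≫ a' = a)
    (D : Desc.SchDDFam (fun _ : PUnit.{u + 1} => a)) :
    PullData (fun _ => q' ≫ q) D ((pullF a' a q' hq').obj ((pullF a a' q hq).obj D)) where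
  he _ := by rw [Category.assoc, hq, hq']
  c i := pullback.fst (pullback.snd (D.obj i).hom q) q' ≫ pullback.fst (D.obj i).hom q
  sq i := (IsPullback.of_hasPullback (pullback.snd (D.obj i).hom q) q').paste_horiz
    (IsPullback.of_hasPullback (D.obj i).hom q)
  compat T i j x₀ x₁ h₀ h' v v' hv := by
    have h1 : (x₀ ≫ q') ≫ a' = (x₁ ≫ q') ≫ a' := by
      rw [Category.assoc, Category.assoc, hq', h₀]
    have h2 : ((x₀ ≫ q') ≫ q) ≫ a = ((x₁ ≫ q') ≫ q) ≫ a := by
      rw [Category.assoc (x₀ ≫ q'), Category.assoc (x₁ ≫ q'), hq]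
      exact h1
    let v₁ : Desc.Lifts (((pullF a a' q hq).obj D).obj i) (x₀ ≫ q') :=
      Desc.liftsPullbackEquiv (((pullF a a' q hq).obj D).obj i) q' x₀ v
    let v₂ : Desc.Lifts (D.obj i) ((x₀ ≫ q') ≫ q) :=
      Desc.liftsPullbackEquiv (D.obj i) q (x₀ ≫ q') v₁
    have e1 := pull_φ_fst a' a q' hq' ((pullF a a' q hq).obj D) (i := i) (j := j) x₀ x₁ h₀ h1 v v₁ rfl
    have e2 := pull_φ_fst a a' q hq D (i := i) (j := j) (x₀ ≫ q') (x₁ ≫ q') h1 h2 v₁ v₂ rfl
    have e3 : (D.φ (i := i) (j := j) ((x₀ ≫ q') ≫ q) ((x₁ ≫ q') ≫ q) h2 v₂).1 =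
        (D.φ (i := i) (j := j) (x₀ ≫ q' ≫ q) (x₁ ≫ q' ≫ q) h' v').1 := by
      refine φ_congr a D (Category.assoc _ _ _) (Category.assoc _ _ _) h2 h' v₂ v' ?_
      rw [hv]
      exact Category.assoc _ _ _
    exact (Category.assoc _ _ _).symm.trans
      ((congrArg (fun m => m ≫ pullback.fst (D.obj j).hom q) e1).trans (e2.trans e3))

/-- the composite of the two pullback functors is the identity. -/
noncomputable def compIso (q : X' ⟶ X) (hq : q ≫ a = a') (q' : X ⟶ X') (hq' : q' ≫ a' = a) :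
    pullF a a' q hq ⋙ pullF a' a q' hq' ≅ 𝟭 _ :=
  NatIso.ofComponents (fun D => (pullData2 a a' q hq q' hq' D).iso) (by
    intro D₁ D₂ b
    refine PullData.naturality (pullData2 a a' q hq q' hq' D₁) (pullData2 a a' q hq q' hq' D₂) b _ ?_
    intro i
    have e1 : Over.Hom.left (((pullF a' a q' hq').map ((pullF a a' q hq).map b)).hom i) ≫
        pullback.fst (pullback.snd (D₂.obj i).hom q) q' =
        pullback.fst (pullback.snd (D₁.obj i).hom q) q' ≫
          Over.Hom.left (((pullF a a' q hq).map b).hom i) := pullback.lift_fst _ _ _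
    have e2 : Over.Hom.left (((pullF a a' q hq).map b).hom i) ≫ pullback.fst (D₂.obj i).hom q =
        pullback.fst (D₁.obj i).hom q ≫ Over.Hom.left (b.hom i) := pullback.lift_fst _ _ _
    exact (Category.assoc _ _ _).symm.trans
      ((congrArg (fun m => m ≫ pullback.fst (D₂.obj i).hom q) e1).trans
        ((Category.assoc _ _ _).trans
          ((congrArg (fun m => pullback.fst (pullback.snd (D₁.obj i).hom q) q' ≫ m) e2).trans
            (Category.assoc _ _ _).symm))))

end

/-- Let f : X' ⟶ X be a morphism of schemes over S, with structure morphisms a' : X' ⟶ S and a : X ⟶ S,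
and assume there exists a morphism g : X ⟶ X' over S (for instance a section of f). Then the
pullback functor along f, from descent data for schemes relative to X ⟶ S to descent data relative
to X' ⟶ S, is an equivalence of categories. (Descent data relative to a single morphism are written
as descent data relative to the corresponding one-member family.) -/
theorem result {X X' S : Scheme.{u}} (a : X ⟶ S) (a' : X' ⟶ S) (f : X' ⟶ X)
    (h : f ≫ a = a') (hg : ∃ g : X ⟶ X', g ≫ a' = a) :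
    (Desc.pullDDFam (f := fun _ : PUnit.{u + 1} => a) (f' := fun _ : PUnit.{u + 1} => a') (α := fun j => j)
        (p := 𝟙 S) (p' := fun _ => f) (fun _ => (h).trans (Category.comp_id a').symm)).IsEquivalence := by
  obtain ⟨g, hg⟩ := hg
  exact (CategoryTheory.Equivalence.mk (pullF a a' f h) (pullF a' a g hg) (compIso a a' f h g hg).symm
    (compIso a' a g hg f h)).isEquivalence_functor

end Groth.Agent.S9865
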