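import Groth.Statements.S9870
import Mathlib
import Groth.Agent.Lib.H5bQuotOpen

set_option autoImplicit false
universe u
open CategoryTheory CategoryTheory.Limits AlgebraicGeometry
open AlgSp

namespace Groth.Agent.S9870

open Groth.Agent.Lib.Helper9 Groth.Agent.Lib.Helper12.QuotShLib Groth.Agent.Lib.H5bQuotOpen

variable {S : Scheme.{u}}

/-- naturality of the identification of `h_V` with the sheafified representable presheaf, inverse
form. -/
lemma repIso_inv_comp_repMap {V W : Over S} (g : V ⟶ W) :
    (QuotSh.repIsoUliftYoneda Scheme.fppfPrecoverage V).inv ≫ QuotSh.repMap Scheme.fppfPrecoverage g =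
      (AlgSp.yon S).map g ≫ (QuotSh.repIsoUliftYoneda Scheme.fppfPrecoverage W).inv :=
  (Iso.inv_comp_eq _).2 (((Iso.eq_comp_inv _).2 (Groth.Agent.S9869.repMap_comp_repIso g)).trans
    (Category.assoc _ _ _))

/-- Let `s, t : R ⟶ U` be a pre-relation on a scheme `U` over `S` which is an equivalence relation (on
`T`-points, for every scheme `T` over `S`), with `s` and `t` surjective, flat and locally of finite
presentation, and let `g : U' ⟶ U` be flat and locally of finite presentation. Let `s', t' : R' ⟶
U'` be the restriction of the pre-relation to `U'`, i.e. `R'` with `(t', s')` and `R' ⟶ R` is the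
fibre product of `U' ×_S U'` and `R` over `U ×_S U`. Then the map of fppf quotient sheaves `U'/R' ⟶
U/R` induced by `g` (the unique map under the quotient maps compatible with `h_g`) is representable
and an open immersion. -/
theorem result (S : Scheme.{u}) {R U R' U' : Over S} (s t : R ⟶ U)
    (g : U' ⟶ U) (s' t' : R' ⟶ U') (r : R' ⟶ R)
    (hsq : IsPullback (prod.lift t' s') r (prod.map g g) (prod.lift t s))
    (hR : AlgSp.IsEqvRel s t)
    [Surjective s.left] [Flat s.left] [LocallyOfFinitePresentation s.left]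
    [Surjective t.left] [Flat t.left] [LocallyOfFinitePresentation t.left]
    [Flat g.left] [LocallyOfFinitePresentation g.left]
    (φ : QuotSh.quot Scheme.fppfPrecoverage s' t' ⟶ QuotSh.quot Scheme.fppfPrecoverage s t)
    (hφ : QuotSh.quotπ Scheme.fppfPrecoverage s' t' ≫ φ = QuotSh.repMap Scheme.fppfPrecoverage g ≫ QuotSh.quotπ Scheme.fppfPrecoverage s t) :
    AlgSp.RepWith @IsOpenImmersion φ := by
  have e := Groth.Agent.S9869.equivalenceRelation hR
  haveI : JointlyMono₂ s t := e.toReflexiveRelation.toJointlyMono₂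
  haveI : JointlyMono₂ ((repFunctor Scheme.fppfPrecoverage S).map s)
      ((repFunctor Scheme.fppfPrecoverage S).map t) :=
    jointlyMono₂_map (repFunctor Scheme.fppfPrecoverage S) s t
  have e' : EquivalenceRelation (QuotSh.repMap Scheme.fppfPrecoverage s)
      (QuotSh.repMap Scheme.fppfPrecoverage t) :=
    equivalenceRelationMap (repFunctor Scheme.fppfPrecoverage S) s t e
  have hk0 : IsKernelPair (QuotSh.quotπ Scheme.fppfPrecoverage s t)
      (QuotSh.repMap Scheme.fppfPrecoverage s) (QuotSh.repMap Scheme.fppfPrecoverage t) :=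
    sheaf_isKernelPair_of_isColimit (QuotSh.J Scheme.fppfPrecoverage S) e'
      (QuotSh.quotπ Scheme.fppfPrecoverage s t) (QuotSh.quot_condition Scheme.fppfPrecoverage s t)
      (coequalizerIsCoequalizer _ _)
  have hk : IsPullback ((AlgSp.yon S).map s) ((AlgSp.yon S).map t)
      ((QuotSh.repIsoUliftYoneda Scheme.fppfPrecoverage U).inv ≫
        QuotSh.quotπ Scheme.fppfPrecoverage s t)
      ((QuotSh.repIsoUliftYoneda Scheme.fppfPrecoverage U).inv ≫
        QuotSh.quotπ Scheme.fppfPrecoverage s t) :=
    IsPullback.of_iso hk0 (QuotSh.repIsoUliftYoneda Scheme.fppfPrecoverage R)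
      (QuotSh.repIsoUliftYoneda Scheme.fppfPrecoverage U)
      (QuotSh.repIsoUliftYoneda Scheme.fppfPrecoverage U) (Iso.refl _)
      (Groth.Agent.S9869.repMap_comp_repIso s) (Groth.Agent.S9869.repMap_comp_repIso t)
      (by simp) (by simp)
  haveI : Epi ((QuotSh.repIsoUliftYoneda Scheme.fppfPrecoverage U).inv ≫
      QuotSh.quotπ Scheme.fppfPrecoverage s t) := by
    haveI : Epi (QuotSh.quotπ Scheme.fppfPrecoverage s t) :=
      inferInstanceAs (Epi (coequalizer.π _ _))
    exact epi_comp _ _
  obtain ⟨F'', incl, q, hincl, hmono, hq, hepi, hkq⟩ :=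
    exists_open_subsheaf s t g s' t' r hsq hR.injective _ hk
  have w : QuotSh.repMap Scheme.fppfPrecoverage s' ≫
      (QuotSh.repIsoUliftYoneda Scheme.fppfPrecoverage U').hom ≫ q =
      QuotSh.repMap Scheme.fppfPrecoverage t' ≫
        (QuotSh.repIsoUliftYoneda Scheme.fppfPrecoverage U').hom ≫ q := by
    rw [← Category.assoc, ← Category.assoc, Groth.Agent.S9869.repMap_comp_repIso,
      Groth.Agent.S9869.repMap_comp_repIso, Category.assoc, Category.assoc, hkq.w]
  have hkq' : IsKernelPair ((QuotSh.repIsoUliftYoneda Scheme.fppfPrecoverage U').hom ≫ q)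
      (QuotSh.repMap Scheme.fppfPrecoverage t') (QuotSh.repMap Scheme.fppfPrecoverage s') :=
    IsPullback.of_iso hkq.flip (QuotSh.repIsoUliftYoneda Scheme.fppfPrecoverage R').symm
      (QuotSh.repIsoUliftYoneda Scheme.fppfPrecoverage U').symm
      (QuotSh.repIsoUliftYoneda Scheme.fppfPrecoverage U').symm (Iso.refl _)
      (repIso_inv_comp_repMap t').symm (repIso_inv_comp_repMap s').symm (by simp) (by simp)
  haveI : Epi ((QuotSh.repIsoUliftYoneda Scheme.fppfPrecoverage U').hom ≫ q) := epi_comp _ _
  haveI hiso := isIso_coequalizer_desc_of_epi (QuotSh.repMap Scheme.fppfPrecoverage s')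
    (QuotSh.repMap Scheme.fppfPrecoverage t')
    ((QuotSh.repIsoUliftYoneda Scheme.fppfPrecoverage U').hom ≫ q) inferInstance
    (QuotSh.repMap Scheme.fppfPrecoverage t') (QuotSh.repMap Scheme.fppfPrecoverage s') hkq'
    (𝟙 _) inferInstance (Category.id_comp _) (Category.id_comp _) w
  have hφ' : φ = coequalizer.desc ((QuotSh.repIsoUliftYoneda Scheme.fppfPrecoverage U').hom ≫ q) w ≫
      incl := by
    apply coequalizer.hom_ext
    have h1 : coequalizer.π (QuotSh.repMap Scheme.fppfPrecoverage s')
        (QuotSh.repMap Scheme.fppfPrecoverage t') ≫ φ =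
        QuotSh.repMap Scheme.fppfPrecoverage g ≫ QuotSh.quotπ Scheme.fppfPrecoverage s t := hφ
    rw [h1, ← Category.assoc, coequalizer.π_desc, Category.assoc, hq, ← Category.assoc,
      ← Category.assoc, ← Groth.Agent.S9869.repMap_comp_repIso, Category.assoc, Category.assoc,
      Iso.hom_inv_id_assoc]
  rw [hφ']
  exact (MorphismProperty.cancel_left_of_respectsIso (AlgSp.RepWith @IsOpenImmersion)
    (coequalizer.desc ((QuotSh.repIsoUliftYoneda Scheme.fppfPrecoverage U').hom ≫ q) w) incl).2
    hincl

end Groth.Agent.S9870
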