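import Groth.Statements.S9889
import Mathlib
import Groth.Agent.Lib.H5bCoprodPts

set_option autoImplicit false
universe u
open CategoryTheory CategoryTheory.Limits AlgebraicGeometry
open AlgSp

namespace Groth.Agent.S9889

open Groth.Agent.Lib.H5bCoprodPts

set_option linter.style.haveILetI false

/-- Let `U` be a scheme over `S` and `G` a group acting on `U` by automorphisms over `S`, freely: no
non-identity element of `G` fixes a point `x` of `U` while inducing the identity on its residue
field (equivalently, composing `Spec κ(x) ⟶ U` with the automorphism changes it). Let `R = ∐_{g ∈ G}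
U` (coproduct in schemes over `S`) with `s` the identity and `t` the action of `g` on the `g`-th
copy. Then `s, t : R ⟶ U` is an etale equivalence relation on `U` over `S` (so that `U/R` is an
algebraic space). -/
theorem result (S : Scheme.{u}) (U : Over S) (G : Type u) [Group G] (ρ : G →* Aut U)
    (hfree : ∀ (g : G) (x : U.left), g ≠ 1 →
      U.left.fromSpecResidueField x ≫ (ρ g).hom.left ≠ U.left.fromSpecResidueField x)
    (c : Cofan (fun _ : G => U)) (hc : IsColimit c) (s t : c.pt ⟶ U)
    (hs : ∀ g, c.inj g ≫ s = 𝟙 U) (ht : ∀ g, c.inj g ≫ t = (ρ g).hom) :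
    AlgSp.IsEtaleEqvRel s t := by
  classical
  have hcL := isColimitLeft c hc
  obtain ⟨hoi, hcov, hdisj⟩ := cofan_props _ hcL
  have hsL : ∀ g, (c.inj g).left ≫ s.left = 𝟙 U.left := fun g => by
    rw [← Over.comp_left, hs g]
    rfl
  have htL : ∀ g, (c.inj g).left ≫ t.left = (ρ g).hom.left := fun g => by
    rw [← Over.comp_left, ht g]
  have hmul : ∀ g h : G, (ρ (g * h)).hom = (ρ h).hom ≫ (ρ g).hom := fun g h => by
    rw [map_mul, Aut.Aut_mul_def]
    rfl
  have hone : (ρ 1).hom = 𝟙 U := by
    rw [map_one]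
    rfl
  -- étaleness
  have hEt : ∀ (q : c.pt.left ⟶ U.left), (∀ g, Etale ((c.inj g).left ≫ q)) → Etale q := by
    intro q hq
    let e : c.pt.left ≅ ∐ (fun _ : G => U.left) :=
      hcL.coconePointUniqueUpToIso (coproductIsCoproduct _)
    have he : ∀ g, (c.inj g).left ≫ e.hom = Sigma.ι (fun _ : G => U.left) g := fun g =>
      hcL.comp_coconePointUniqueUpToIso_hom (coproductIsCoproduct _) ⟨g⟩
    have hq' : q = e.hom ≫ Sigma.desc (fun g => (c.inj g).left ≫ q) := by
      apply Cofan.IsColimit.hom_ext hcL
      intro g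
      show (c.inj g).left ≫ q = (c.inj g).left ≫ e.hom ≫ Sigma.desc _
      rw [← Category.assoc, he g, Sigma.ι_desc]
    rw [hq']
    haveI : Etale (Sigma.desc (fun g => (c.inj g).left ≫ q)) :=
      IsZariskiLocalAtSource.sigmaDesc hq
    infer_instance
  have hs_et : Etale s.left := hEt s.left (fun g => by rw [hsL g]; infer_instance)
  have ht_et : Etale t.left := hEt t.left (fun g => by
    rw [htL g]
    haveI : IsIso (ρ g).hom.left := (inferInstance : IsIso ((Over.forget S).map (ρ g).hom))
    infer_instance)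
  -- left translations and the inverse
  let L : G → (c.pt ⟶ c.pt) := fun g => Cofan.IsColimit.desc hc (fun h => c.inj (g * h))
  have hL : ∀ g h, c.inj h ≫ L g = c.inj (g * h) := fun g h => Cofan.IsColimit.fac hc _ h
  have hLs : ∀ g, L g ≫ s = s := by
    intro g
    apply Cofan.IsColimit.hom_ext hc
    intro h
    rw [← Category.assoc, hL, hs, hs]
  have hLt : ∀ g, L g ≫ t = t ≫ (ρ g).hom := by
    intro g
    apply Cofan.IsColimit.hom_ext hc
    intro h
    rw [← Category.assoc, hL, ht, ← Category.assoc, ht, hmul]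
  let ι : c.pt ⟶ c.pt := Cofan.IsColimit.desc hc (fun g => (ρ g).hom ≫ c.inj g⁻¹)
  have hι : ∀ g, c.inj g ≫ ι = (ρ g).hom ≫ c.inj g⁻¹ := fun g => Cofan.IsColimit.fac hc _ g
  have hιt : ι ≫ t = s := by
    apply Cofan.IsColimit.hom_ext hc
    intro g
    rw [← Category.assoc, hι, Category.assoc, ht, hs, ← hmul, inv_mul_cancel, hone]
  have hιs : ι ≫ s = t := by
    apply Cofan.IsColimit.hom_ext hc
    intro g
    rw [← Category.assoc, hι, Category.assoc, hs, Category.comp_id, ht]
  refine ⟨⟨?_, ?_⟩, hs_et, ht_et⟩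
  · -- injectivity
    intro T r r' h_t h_s
    obtain ⟨W, x, hx, ⟨hT⟩, hW⟩ := exists_decomp _ hcL r.left
    obtain ⟨W', x', hx', ⟨hT'⟩, hW'⟩ := exists_decomp _ hcL r'.left
    have hx₁ : ∀ g, (W g).ι ≫ r.left = x g ≫ (c.inj g).left := hx
    have hx₁' : ∀ g, (W' g).ι ≫ r'.left = x' g ≫ (c.inj g).left := hx'
    have hW₁ : ∀ g (y : T.left), y ∈ W g ↔ r.left y ∈ Set.range (c.inj g).left := hW
    have hW₁' : ∀ g (y : T.left), y ∈ W' g ↔ r'.left y ∈ Set.range (c.inj g).left := hW'
    have hoi₁ : ∀ g, IsOpenImmersion (c.inj g).left := hoi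
    have hcov₁ : ∀ y : c.pt.left, ∃ g, y ∈ Set.range (c.inj g).left := hcov
    have hxb : ∀ g, x g = (W g).ι ≫ (r ≫ s).left := by
      intro g
      have h1 : (W g).ι ≫ r.left ≫ s.left = x g := by
        rw [← Category.assoc, hx₁ g, Category.assoc, hsL g, Category.comp_id]
      rw [← h1, Over.comp_left]
    have hxb' : ∀ g, x' g = (W' g).ι ≫ (r' ≫ s).left := by
      intro g
      have h1 : (W' g).ι ≫ r'.left ≫ s.left = x' g := by
        rw [← Category.assoc, hx₁' g, Category.assoc, hsL g, Category.comp_id]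
      rw [← h1, Over.comp_left]
    have key : ∀ g h (y : T.left), y ∈ W g → y ∈ W' h → g = h := by
      intro g h y hy hy'
      by_contra hgh
      haveI := hoi₁ g
      haveI := hoi₁ h
      have hrange : Set.range (T.left.fromSpecResidueField y ≫ r.left) ⊆
          Set.range (c.inj g).left := by
        rintro _ ⟨z, rfl⟩
        rw [Scheme.Hom.comp_apply, Scheme.fromSpecResidueField_apply]
        exact (hW₁ g y).mp hy
      have hrange' : Set.range (T.left.fromSpecResidueField y ≫ r'.left) ⊆
          Set.range (c.inj h).left := by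
        rintro _ ⟨z, rfl⟩
        rw [Scheme.Hom.comp_apply, Scheme.fromSpecResidueField_apply]
        exact (hW₁' h y).mp hy'
      have hξg : IsOpenImmersion.lift (c.inj g).left (T.left.fromSpecResidueField y ≫ r.left)
          hrange ≫ (c.inj g).left = T.left.fromSpecResidueField y ≫ r.left :=
        IsOpenImmersion.lift_fac _ _ _
      have hξh : IsOpenImmersion.lift (c.inj h).left (T.left.fromSpecResidueField y ≫ r'.left)
          hrange' ≫ (c.inj h).left = T.left.fromSpecResidueField y ≫ r'.left :=
        IsOpenImmersion.lift_fac _ _ _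
      have e1 : IsOpenImmersion.lift (c.inj g).left (T.left.fromSpecResidueField y ≫ r.left)
          hrange = T.left.fromSpecResidueField y ≫ (r ≫ s).left := by
        have h1 := congrArg (· ≫ s.left) hξg
        simp only [Category.assoc] at h1
        rw [hsL g, Category.comp_id] at h1
        rw [h1, Over.comp_left]
      have e2 : IsOpenImmersion.lift (c.inj h).left (T.left.fromSpecResidueField y ≫ r'.left)
          hrange' = T.left.fromSpecResidueField y ≫ (r ≫ s).left := by
        have h1 := congrArg (· ≫ s.left) hξh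
        simp only [Category.assoc] at h1
        rw [hsL h, Category.comp_id] at h1
        rw [h1, h_s, Over.comp_left]
      have e3 : (T.left.fromSpecResidueField y ≫ (r ≫ s).left) ≫ (ρ g).hom.left =
          (T.left.fromSpecResidueField y ≫ (r ≫ s).left) ≫ (ρ h).hom.left := by
        have a1 := congrArg (· ≫ t.left) hξg
        have a2 := congrArg (· ≫ t.left) hξh
        simp only [Category.assoc] at a1 a2
        rw [htL g, e1] at a1
        rw [htL h, e2] at a2
        have a3 : r.left ≫ t.left = r'.left ≫ t.left := by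
          rw [← Over.comp_left, h_t, Over.comp_left]
        rw [a1, a2, a3]
      have e4 : (T.left.fromSpecResidueField y ≫ (r ≫ s).left) ≫ (ρ (h⁻¹ * g)).hom.left =
          T.left.fromSpecResidueField y ≫ (r ≫ s).left := by
        have hk : (ρ (h⁻¹ * g)).hom.left = (ρ g).hom.left ≫ (ρ h⁻¹).hom.left := by
          rw [hmul]
          rfl
        have hk2 : (ρ h).hom.left ≫ (ρ h⁻¹).hom.left = 𝟙 _ := by
          rw [← Over.comp_left, ← hmul, inv_mul_cancel, hone]
          rfl
        rw [hk, ← Category.assoc, e3, Category.assoc, hk2, Category.comp_id]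
      rw [← Scheme.Hom.SpecMap_residueFieldMap_fromSpecResidueField, Category.assoc] at e4
      haveI : Epi (Spec.map ((r ≫ s).left.residueFieldMap y)) :=
        epi_SpecMap_of_field (Field.toIsField _) _
      have e6 := (cancel_epi _).mp e4
      exact hfree (h⁻¹ * g) _ (fun hk => hgh (inv_mul_eq_one.mp hk).symm) e6
    have hWW : ∀ g, W g ≤ W' g := by
      intro g y hy
      obtain ⟨h, hh⟩ : ∃ h, y ∈ W' h := by
        obtain ⟨h, hh⟩ := hcov₁ (r'.left y)
        exact ⟨h, (hW₁' h y).mpr hh⟩
      rw [key g h y hy hh]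
      exact hh
    apply Over.OverMorphism.ext
    apply Cofan.IsColimit.hom_ext hT
    intro g
    show (W g).ι ≫ r.left = (W g).ι ≫ r'.left
    calc (W g).ι ≫ r.left = x g ≫ (c.inj g).left := hx₁ g
      _ = ((W g).ι ≫ (r ≫ s).left) ≫ (c.inj g).left := by rw [hxb g]
      _ = ((T.left.homOfLE (hWW g) ≫ (W' g).ι) ≫ (r' ≫ s).left) ≫ (c.inj g).left := by
          rw [Scheme.homOfLE_ι, h_s]
      _ = T.left.homOfLE (hWW g) ≫ (x' g ≫ (c.inj g).left) := by
          rw [hxb' g]
          simp only [Category.assoc]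
      _ = T.left.homOfLE (hWW g) ≫ (W' g).ι ≫ r'.left := by rw [hx₁' g]
      _ = (W g).ι ≫ r'.left := by rw [← Category.assoc, Scheme.homOfLE_ι]
  · intro T
    refine ⟨?_, ?_, ?_⟩
    · intro a
      refine ⟨a ≫ c.inj 1, ?_, ?_⟩
      · rw [Category.assoc, ht, hone, Category.comp_id]
      · rw [Category.assoc, hs, Category.comp_id]
    · rintro a b ⟨r, h1, h2⟩
      exact ⟨r ≫ ι, by rw [Category.assoc, hιt, h2], by rw [Category.assoc, hιs, h1]⟩
    · rintro a b c' ⟨r₁, h1t, h1s⟩ ⟨r₂, h2t, h2s⟩
      obtain ⟨W, x, hx, ⟨hT⟩, -⟩ := exists_decomp _ hcL r₁.left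
      have hxb : ∀ g, x g = (W g).ι ≫ b.left := by
        intro g
        have h1 : (W g).ι ≫ r₁.left ≫ s.left = x g := by
          rw [← Category.assoc, hx g, Category.assoc]
          show x g ≫ (c.inj g).left ≫ s.left = x g
          rw [hsL g, Category.comp_id]
        rw [← h1, ← Over.comp_left, h1s]
      let r₃L : T.left ⟶ c.pt.left :=
        Cofan.IsColimit.desc hT (fun g => (W g).ι ≫ r₂.left ≫ (L g).left)
      have hr₃L : ∀ g, (W g).ι ≫ r₃L = (W g).ι ≫ r₂.left ≫ (L g).left := fun g =>
        Cofan.IsColimit.fac hT _ g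
      have hw : r₃L ≫ c.pt.hom = T.hom := by
        apply Cofan.IsColimit.hom_ext hT
        intro g
        show (W g).ι ≫ r₃L ≫ c.pt.hom = (W g).ι ≫ T.hom
        rw [← Category.assoc, hr₃L g, Category.assoc, Category.assoc, Over.w (L g), Over.w r₂]
      refine ⟨Over.homMk r₃L hw, ?_, ?_⟩
      · apply Over.OverMorphism.ext
        show r₃L ≫ t.left = a.left
        apply Cofan.IsColimit.hom_ext hT
        intro g
        show (W g).ι ≫ r₃L ≫ t.left = (W g).ι ≫ a.left
        have e1 : (W g).ι ≫ a.left = x g ≫ (ρ g).hom.left := by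
          rw [← h1t, Over.comp_left, ← Category.assoc, hx g, Category.assoc]
          show x g ≫ (c.inj g).left ≫ t.left = _
          rw [htL g]
        rw [← Category.assoc, hr₃L g, Category.assoc, Category.assoc, ← Over.comp_left, hLt g,
          Over.comp_left, ← Over.comp_left_assoc, h2t, e1, hxb g, Category.assoc]
      · apply Over.OverMorphism.ext
        show r₃L ≫ s.left = c'.left
        apply Cofan.IsColimit.hom_ext hT
        intro g
        show (W g).ι ≫ r₃L ≫ s.left = (W g).ι ≫ c'.left
        rw [← Category.assoc, hr₃L g, Category.assoc, Category.assoc, ← Over.comp_left, hLs g,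
          ← Over.comp_left, h2s]

end Groth.Agent.S9889
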