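import Groth.Statements.S9890
import Mathlib
import Groth.Agent.Lib.H5bDiagPres
import Groth.Agent.Lib.Helper12Descent
import Groth.Agent.S9889
import Groth.Agent.S9868
import Groth.Agent.S9869

set_option autoImplicit false
set_option linter.style.haveILetI false
universe u
open CategoryTheory CategoryTheory.Limits AlgebraicGeometry
open AlgSp

namespace Groth.Agent.S9890

/-- Let a finite group `G` act freely (no non-identity element fixes a point together with its residue
field) by `S`-automorphisms on a scheme `U` over `S`, and let `s, t : R = ∐_{g ∈ G} U ⟶ U` be the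
identity and the action. When `U ⟶ S` is quasi-separated, so is the quotient sheaf `U/G = U/R` over
`S`; when `U ⟶ S` is separated, `U/G` is also separated over `S`. -/
theorem result (S : Scheme.{u}) (U : Over S) (G : Type u) [Group G] [Finite G]
    (ρ : G →* Aut U)
    (hfree : ∀ (g : G) (x : U.left), g ≠ 1 →
      U.left.fromSpecResidueField x ≫ (ρ g).hom.left ≠ U.left.fromSpecResidueField x)
    (c : Cofan (fun _ : G => U)) (hc : IsColimit c) (s t : c.pt ⟶ U)
    (hs : ∀ g, c.inj g ≫ s = 𝟙 U) (ht : ∀ g, c.inj g ≫ t = (ρ g).hom) :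
    (QuasiSeparated U.hom → AlgSp.IsQuasiSeparatedSp (QuotSh.quot Scheme.fppfPrecoverage s t)) ∧
      (IsSeparated U.hom → AlgSp.IsSeparatedSp (QuotSh.quot Scheme.fppfPrecoverage s t)) := by
  classical
  have h := Groth.Agent.S9889.result S U G ρ hfree c hc s t hs ht
  have hF := Groth.Agent.S9868.result S s t h
  have hpres := Groth.Agent.S9869.result S s t h hF
  have hcL := Groth.Agent.Lib.H5bCoprodPts.isColimitLeft c hc
  obtain ⟨J, hJdef⟩ : ∃ J : c.pt ⟶ U ⨯ U, J = prod.lift t s := ⟨_, rfl⟩
  have hJ1 : J ≫ prod.fst = t := by rw [hJdef, prod.lift_fst]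
  have hJ2 : J ≫ prod.snd = s := by rw [hJdef, prod.lift_snd]
  haveI : Mono J := ⟨fun {Z} x₁ x₂ hx => h.injective _ x₁ x₂
    (by
      have := congrArg (fun m => m ≫ prod.fst) hx
      simpa only [Category.assoc, hJ1] using this)
    (by
      have := congrArg (fun m => m ≫ prod.snd) hx
      simpa only [Category.assoc, hJ2] using this)⟩
  haveI : Mono J.left := inferInstance
  have hΓ : ∀ g, (c.inj g ≫ J) ≫ prod.snd = 𝟙 U := fun g => by
    rw [Category.assoc, hJ2, hs g]
  have hΓl : ∀ g, ((c.inj g).left ≫ J.left) ≫ (prod.snd : U ⨯ U ⟶ U).left = 𝟙 U.left := fun g => by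
    rw [← Over.comp_left, ← Over.comp_left, hΓ g]
    rfl
  constructor
  · intro hqs
    have hsnd : QuasiSeparated (prod.snd : U ⨯ U ⟶ U).left :=
      Groth.Agent.Lib.H5bDiagPres.prod_snd_left @QuasiSeparated U hqs
    have hcomp : ∀ g, QuasiCompact ((c.inj g).left ≫ J.left) := fun g =>
      MorphismProperty.of_postcomp (W := @QuasiCompact) (W' := @QuasiSeparated) _ _ hsnd
        (by rw [hΓl g]; infer_instance)
    have hJ : QuasiCompact J.left :=
      Groth.Agent.Lib.H5bDiagPres.quasiCompact_of_finite_cofan _ hcL J.left hcomp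
    haveI := Groth.Agent.Lib.Helper12.descendsAlong_quasiCompact.{u}
    rw [hJdef] at hJ
    exact Groth.Agent.Lib.H5bDiagPres.repWith_diag_of_presentation hF s t _ hpres.etale
      hpres.surjective hpres.isPullback @QuasiCompact hJ
  · intro hsep
    have hsnd : IsSeparated (prod.snd : U ⨯ U ⟶ U).left :=
      Groth.Agent.Lib.H5bDiagPres.prod_snd_left @IsSeparated U hsep
    have hcomp : ∀ g, IsClosedImmersion ((c.inj g).left ≫ J.left) := fun g =>
      MorphismProperty.of_postcomp (W := @IsClosedImmersion) (W' := @IsSeparated) _ _ hsnd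
        (by rw [hΓl g]; infer_instance)
    have hJ : IsClosedImmersion J.left :=
      Groth.Agent.Lib.H5bDiagPres.isClosedImmersion_of_finite_cofan _ hcL J.left hcomp
    haveI := Groth.Agent.Lib.Helper12.descendsAlong_isClosedImmersion.{u}
    rw [hJdef] at hJ
    exact Groth.Agent.Lib.H5bDiagPres.repWith_diag_of_presentation hF s t _ hpres.etale
      hpres.surjective hpres.isPullback @IsClosedImmersion hJ

end Groth.Agent.S9890
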