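import Groth.Statements.S9898
import Mathlib
import Groth.Agent.Lib.H5bShriek3

set_option autoImplicit false
universe u
open CategoryTheory CategoryTheory.Limits AlgebraicGeometry
open AlgSp

namespace Groth.Agent.S9898

open Groth.Agent.Lib.H5bShriek Groth.Agent.S9897 Groth.Agent.S9893

variable {S S' : Scheme.{u}} (g : S ⟶ S')

/-- the extension by the empty set as an algebraic space. -/
noncomputable abbrev jObj (F : AlgSp.Space S) : AlgSp.Space S' :=
  ⟨JSh g F.obj, (shriekJ g F.obj).isAlgSpace F.property⟩

/-- the structure map. -/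
noncomputable abbrev jHom (F : AlgSp.Space S) : jObj g F ⟶ (AlgSp.ofScheme S').obj (Over.mk g) :=
  ObjectProperty.homMk (X := jObj g F) (Y := (AlgSp.ofScheme S').obj (Over.mk g)) (piSh g F.obj)

/-- the functor `F ↦ (j_! F ⟶ h_S)`. -/
noncomputable def E₀ : AlgSp.Space S ⥤ Over ((AlgSp.ofScheme S').obj (Over.mk g)) where
  obj F := Over.mk (jHom g F)
  map {F G} m := Over.homMk (U := Over.mk (jHom g F)) (V := Over.mk (jHom g G))
    (ObjectProperty.homMk (JMap g m.hom)) (by
      apply ObjectProperty.hom_ext
      exact JMap_pi g m.hom)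
  map_id F := by
    apply Over.OverMorphism.ext
    apply ObjectProperty.hom_ext
    exact JMap_id g
  map_comp m n := by
    apply Over.OverMorphism.ext
    apply ObjectProperty.hom_ext
    exact JMap_comp g m.hom n.hom

instance : (E₀ g).Faithful where
  map_injective {F G} m₁ m₂ h := by
    have h1 : ((E₀ g).map m₁).left.hom = ((E₀ g).map m₂).left.hom := by rw [h]
    apply ObjectProperty.hom_ext
    exact JMap_injective g h1

instance : (E₀ g).Full where
  map_surjective {F G} β := by
    have hβ : β.left.hom ≫ piSh g G.obj = piSh g F.obj :=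
      congrArg (fun γ => γ.hom) (Over.w β)
    obtain ⟨m, hm⟩ := exists_JMap g β.left.hom hβ
    refine ⟨ObjectProperty.homMk m, ?_⟩
    apply Over.OverMorphism.ext
    apply ObjectProperty.hom_ext
    exact hm

instance : (E₀ g).EssSurj where
  mem_essImage Y := by
    let H : AlgSp.Sp S' := Y.left.obj
    let π : H ⟶ hS g := Y.hom.hom
    let F : AlgSp.Space S := ⟨XiSh g H π, XiSh_isAlgSpace g H π Y.left.property⟩
    refine ⟨F, ⟨Over.isoMk (ObjectProperty.isoMk _ (counitIso g H π)) ?_⟩⟩
    apply ObjectProperty.hom_ext
    exact counitJ_pi g H π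

instance : (E₀ g).IsEquivalence where

/-- Let `g : S ⟶ S'` be a morphism of schemes and `j_!` the left adjoint of the restriction functor from
fppf sheaves of sets on schemes over `S'` to those on schemes over `S`. Then there is an equivalence
between the category of algebraic spaces over `S` and the category of pairs (an algebraic space `F'`
over `S'`, a morphism `F' ⟶ h_S` of algebraic spaces over `S'`), i.e. the over category of `h_S` in
algebraic spaces over `S'`, sending `F` to `j_! F`: the equivalence composed with the forgetful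
functor to sheaves over `S'` is isomorphic to `j_!` on underlying sheaves. (Only this compatibility
is pinned; the structure maps `j_! F ⟶ h_S` are not.) -/
theorem result {S S' : Scheme.{u}} (g : S ⟶ S') :
    ∃ E : AlgSp.Space S ≌ Over ((AlgSp.ofScheme S').obj (Over.mk g)),
      Nonempty (E.functor ⋙ Over.forget _ ⋙ ObjectProperty.ι (AlgSp.IsAlgSpace (S := S')) ≅
        ObjectProperty.ι (AlgSp.IsAlgSpace (S := S)) ⋙ ((Over.map g).sheafPullback (Type (u + 1)) (AlgSp.J S) (AlgSp.J S'))) := by
  refine ⟨(E₀ g).asEquivalence, ⟨NatIso.ofComponents (fun F => (psi g F.obj).symm) ?_⟩⟩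
  intro F G m
  show JMap g m.hom ≫ (psi g G.obj).inv = (psi g F.obj).inv ≫ (jShriek g).map m.hom
  rw [Iso.eq_inv_comp, ← Category.assoc, Iso.comp_inv_eq]
  exact (psi_natural g m.hom).symm

end Groth.Agent.S9898
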