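import Groth.Statements.S9899
import Mathlib
import Groth.Agent.Lib.H5bShriek2

set_option autoImplicit false
universe u
open CategoryTheory CategoryTheory.Limits AlgebraicGeometry
open AlgSp

namespace Groth.Agent.S9899

open MorphismProperty Groth.Agent.Lib.H5bShriek Groth.Agent.S9897

lemma map_comp_psi {S S' : Scheme.{u}} (g : S ⟶ S') (F : AlgSp.Sp S) (T : Over S)
    (f : (AlgSp.yon S).obj T ⟶ F) :
    (jShriek g).map f ≫ (psi g F).hom = (phi g T).hom ≫ lamJ g F f := by
  apply ((jAdj g).homEquiv _ _).injective
  rw [Adjunction.homEquiv_naturality_left, Adjunction.homEquiv_naturality_right]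
  show f ≫ (jAdj g).homEquiv _ _ (((jAdj g).homEquiv _ _).symm (unitJ g F)) =
    (jAdj g).homEquiv _ _ (((jAdj g).homEquiv _ _).symm (unitRep g T)) ≫ (Φ g).map (lamJ g F f)
  rw [Equiv.apply_symm_apply, Equiv.apply_symm_apply, unitRep_comp, lamJ, Equiv.symm_apply_apply]

/-- Let `g : S ⟶ S'` be a morphism of schemes and `j_!` the left adjoint of the restriction functor from
fppf sheaves of sets on schemes over `S'` to those on schemes over `S`. Let `F` be an algebraic
space over `S`, `T` a scheme over `S` and `f : h_T ⟶ F`, and let `P` be a property of morphisms of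
schemes stable under base change and fppf local on the base. Then `j_!(f)`, which is the morphism
`h_{T} ⟶ j_! F` over `S'` obtained from `f` up to the identification `j_! h_T ≅ h_T` (`T` viewed
over `S'`), has `P` in the representable sense if and only if `f` does. -/
theorem result {S S' : Scheme.{u}} (g : S ⟶ S') (F : AlgSp.Space S) (T : Over S)
    (f : (AlgSp.yon S).obj T ⟶ F.obj) (P : MorphismProperty Scheme.{u}) [P.IsStableUnderBaseChange]
    [P.IsLocalAtTarget Scheme.fppfPrecoverage] :
    AlgSp.RepWith (S := S') P (((Over.map g).sheafPullback (Type (u + 1)) (AlgSp.J S) (AlgSp.J S')).map f) ↔ AlgSp.RepWith P f := by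
  have hP : P.RespectsIso := MorphismProperty.IsStableUnderBaseChange.respectsIso
  have key : (jShriek g).map f = (phi g T).hom ≫ lamJ g F.obj f ≫ (psi g F.obj).inv := by
    rw [← Category.assoc, ← map_comp_psi, Category.assoc, Iso.hom_inv_id, Category.comp_id]
  show AlgSp.RepWith P ((jShriek g).map f) ↔ _
  rw [key]
  constructor
  · intro h
    have h1 : AlgSp.RepWith P (lamJ g F.obj f) := by
      have h2 := (MorphismProperty.cancel_left_of_respectsIso (AlgSp.RepWith P)
        (phi g T).hom _).1 h
      exact (MorphismProperty.cancel_right_of_respectsIso (AlgSp.RepWith P) _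
        (psi g F.obj).inv).1 h2
    exact (shriekJ g F.obj).repWith_of_lam P f h1
  · intro h
    have h1 : AlgSp.RepWith P (lamJ g F.obj f) := (shriekJ g F.obj).repWith_lam P f h
    exact (MorphismProperty.cancel_left_of_respectsIso (AlgSp.RepWith P) (phi g T).hom _).2
      ((MorphismProperty.cancel_right_of_respectsIso (AlgSp.RepWith P) _ (psi g F.obj).inv).2 h1)

end Groth.Agent.S9899
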