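import Groth.Statements.S9932
import Mathlib
import Groth.Agent.Lib.H5bSpDescD
import Groth.Agent.Lib.H5bDDGenK
import Groth.Agent.Lib.H5bFppfLocal
import Groth.Agent.Lib.Helper12Descent
import Groth.Agent.S1125
import Groth.Agent.S9883

set_option autoImplicit false
set_option linter.style.haveILetI false
universe u
open CategoryTheory CategoryTheory.Limits AlgebraicGeometry
open AlgSp

namespace Groth.Agent.S9932

lemma aux {S : Scheme.{u}} (P : MorphismProperty Scheme.{u}) [P.IsStableUnderBaseChange]
    [P.IsLocalAtTarget Scheme.fppfPrecoverage]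
    (hle : ∀ {A B : Scheme.{u}} (g : A ⟶ B), P g → IsImmersion g)
    {X Y : AlgSp.Space S} (f : X ⟶ Y)
    (V : Over S) (p : (AlgSp.yon S).obj V ⟶ Y.obj) (hp : AlgSp.RepWith @Etale p)
    (hps : AlgSp.RepWith @Surjective p)
    {P₀ : AlgSp.Sp S} (fst : P₀ ⟶ X.obj) (snd : P₀ ⟶ (AlgSp.yon S).obj V)
    (sq : IsPullback fst snd f.hom p)
    (h : AlgSp.RepWith P snd) : AlgSp.RepWith P f.hom := by
  obtain ⟨V₀, g, fst₀, sq₀⟩ := h.1 (𝟙 ((AlgSp.yon S).obj V))
  have hg : P g.left := h.2 _ fst₀ g sq₀
  have sq₁ : IsPullback (fst₀ ≫ fst) ((AlgSp.yon S).map g) f.hom p := by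
    have := sq₀.paste_horiz sq
    rwa [Category.id_comp] at this
  have hrep : AlgSp.Representable f.hom :=
    Groth.Agent.Lib.H5bSpDesc.representable_of_chart_of_effective P
      (fun X' S' p hs he D hD => by
        haveI := hs
        haveI := he
        haveI : IsImmersion D.obj.hom := hle _ hD
        exact Groth.Agent.Lib.H5bDDGen.effective_sep_lqf_fppf p D)
      f.hom p hp hps (fst₀ ≫ fst) g sq₁ hg
  exact Groth.Agent.S9883.repWith_of_chart f.hom hrep p hp hps (fst₀ ≫ fst) g sq₁ P hg

/-- (4) ⇒ (1): for P = closed immersion, open immersion or immersion, being representable with P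
descends along a surjective etale base change from a scheme. -/
theorem result {S : Scheme.{u}} (P : MorphismProperty Scheme.{u})
    (hP : P = @IsClosedImmersion ∨ P = @IsOpenImmersion ∨ P = @IsImmersion) {X Y : AlgSp.Space S} (f : X ⟶ Y)
    (V : Over S) (p : (AlgSp.yon S).obj V ⟶ Y.obj) (hp : AlgSp.RepWith @Etale p) (hps : AlgSp.RepWith @Surjective p)
    {P₀ : AlgSp.Sp S} (fst : P₀ ⟶ X.obj) (snd : P₀ ⟶ (AlgSp.yon S).obj V) (sq : IsPullback fst snd f.hom p)
    (h : AlgSp.RepWith P snd) : AlgSp.RepWith P f.hom := by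
  rcases hP with rfl | rfl | rfl
  · haveI := Groth.Agent.Lib.Helper12.descendsAlong_isClosedImmersion.{u}
    haveI : MorphismProperty.IsLocalAtTarget (@IsClosedImmersion : MorphismProperty Scheme.{u})
        Scheme.fppfPrecoverage := Groth.Agent.Lib.H5bFppfLocal.isLocalAtTarget_fppf _
    exact aux @IsClosedImmersion (fun g hg => by haveI : IsClosedImmersion g := hg; infer_instance)
      f V p hp hps fst snd sq h
  · haveI : MorphismProperty.IsLocalAtTarget (@IsOpenImmersion : MorphismProperty Scheme.{u})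
        Scheme.fppfPrecoverage := Groth.Agent.Lib.H5bFppfLocal.isLocalAtTarget_fppf _
    exact aux @IsOpenImmersion (fun g hg => by haveI : IsOpenImmersion g := hg; infer_instance)
      f V p hp hps fst snd sq h
  · haveI := Groth.Agent.S1125.result.{u}
    haveI : MorphismProperty.IsLocalAtTarget (@IsImmersion : MorphismProperty Scheme.{u})
        Scheme.fppfPrecoverage := Groth.Agent.Lib.H5bFppfLocal.isLocalAtTarget_fppf _
    exact aux @IsImmersion (fun g hg => hg) f V p hp hps fst snd sq h

end Groth.Agent.S9932
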