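import Groth.Statements.S9943
import Mathlib
import Groth.Agent.Lib.H5bSpDescD
import Groth.Agent.Lib.H5bDDGenK
import Groth.Agent.Lib.H5bFppfLocal
import Groth.Agent.Lib.Helper12AffineDescent
import Groth.Agent.Lib.Helper12ZarGlue
import Groth.Agent.S9883

set_option autoImplicit false
set_option linter.style.haveILetI false
universe u
open CategoryTheory CategoryTheory.Limits AlgebraicGeometry
open AlgSp

namespace Groth.Agent.S9943

/-- (4) ⇒ (2): being affine descends along a surjective etale base change from a scheme. -/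
theorem result {S : Scheme.{u}} {X Y : AlgSp.Space S} (f : X ⟶ Y) (V : Over S)
    (p : (AlgSp.yon S).obj V ⟶ Y.obj) (hp : AlgSp.RepWith @Etale p) (hps : AlgSp.RepWith @Surjective p)
    {P : AlgSp.Sp S} (fst : P ⟶ X.obj) (snd : P ⟶ (AlgSp.yon S).obj V) (sq : IsPullback fst snd f.hom p)
    (h : AlgSp.IsAffineMor snd) : AlgSp.IsAffineMor f.hom := by
  have hsnd : AlgSp.RepWith @IsAffineHom snd := by
    refine Groth.Agent.Lib.Helper12.ZarGlue.repWith_of_affine @IsAffineHom snd (fun Z hZ g => ?_)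
    obtain ⟨W, i, fst', sq', hW⟩ := h hZ g
    haveI := hZ
    haveI := hW
    exact ⟨W, i, fst', sq', inferInstance⟩
  obtain ⟨V₀, g, fst₀, sq₀⟩ := hsnd.1 (𝟙 ((AlgSp.yon S).obj V))
  have hg : IsAffineHom g.left := hsnd.2 _ fst₀ g sq₀
  have sq₁ : IsPullback (fst₀ ≫ fst) ((AlgSp.yon S).map g) f.hom p := by
    have := sq₀.paste_horiz sq
    rwa [Category.id_comp] at this
  have hrep : AlgSp.Representable f.hom :=
    Groth.Agent.Lib.H5bSpDesc.representable_of_chart_of_effective @IsAffineHom
      (fun X' S' p hs he D hD => by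
        haveI := hs
        haveI := he
        haveI : IsAffineHom D.obj.hom := hD
        exact Groth.Agent.Lib.H5bDDGen.effective_of_isAffineHom_fppf p D)
      f.hom p hp hps (fst₀ ≫ fst) g sq₁ hg
  haveI := Groth.Agent.Lib.Helper12.descendsAlong_isAffineHom.{u}
  haveI : MorphismProperty.IsLocalAtTarget (@IsAffineHom : MorphismProperty Scheme.{u})
      Scheme.fppfPrecoverage := Groth.Agent.Lib.H5bFppfLocal.isLocalAtTarget_fppf _
  have hRW : AlgSp.RepWith @IsAffineHom f.hom :=
    Groth.Agent.S9883.repWith_of_chart f.hom hrep p hp hps (fst₀ ≫ fst) g sq₁ @IsAffineHom hg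
  intro Z hZ a
  obtain ⟨W, i, fstW, sqW⟩ := hrep a
  haveI : IsAffineHom i.left := hRW.2 a fstW i sqW
  haveI := hZ
  exact ⟨W, i, fstW, sqW, isAffine_of_isAffineHom i.left⟩

end Groth.Agent.S9943
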