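import Groth.Statements.S9942
import Mathlib
import Groth.Agent.S9943
import Groth.Agent.Lib.Helper12ZarGlue

set_option autoImplicit false
set_option linter.style.haveILetI false
universe u
open CategoryTheory CategoryTheory.Limits AlgebraicGeometry
open AlgSp

namespace Groth.Agent.S9942

open Groth.Agent.Lib.Helper12.ZarGlue in
lemma local_piece {S : Scheme.{u}} {X Y : AlgSp.Space S} (f : X ⟶ Y)
    (h : ∀ (V : Over S), IsAffine V.left → ∀ (b : (AlgSp.yon S).obj V ⟶ Y.obj), AlgSp.RepWith @Etale b →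
      ∀ (P : AlgSp.Sp S) (fst : P ⟶ X.obj) (snd : P ⟶ (AlgSp.yon S).obj V), IsPullback fst snd f.hom b →
      ∃ (W : Over S), IsAffine W.left ∧ Nonempty ((AlgSp.yon S).obj W ≅ P))
    {V : Over S} (p : (AlgSp.yon S).obj V ⟶ Y.obj) (hpe : AlgSp.RepWith @Etale p)
    {Z : Over S} (γ : Z ⟶ V) (z : Z.left) :
    ∃ (Tz : Over S) (jz : Tz ⟶ Z) (Wz : Over S) (wz : Wz ⟶ Tz)
      (az : (AlgSp.yon S).obj Wz ⟶ pullback f.hom p),
      IsOpenImmersion jz.left ∧ z ∈ Set.range jz.left ∧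
      IsPullback az ((AlgSp.yon S).map wz) (pullback.snd f.hom p)
        ((AlgSp.yon S).map jz ≫ (AlgSp.yon S).map γ) ∧ IsAffineHom wz.left := by
  -- an affine open `A` of `V` around `γ z` and an affine open `C` of `Z` around `z` mapping to it
  obtain ⟨_, ⟨A, hA, rfl⟩, hzA, -⟩ :=
    V.left.isBasis_affineOpens.exists_subset_of_mem_open (Set.mem_univ (γ.left z)) isOpen_univ
  obtain ⟨_, ⟨C, hC, rfl⟩, hzC, hCA⟩ :=
    Z.left.isBasis_affineOpens.exists_subset_of_mem_open (show z ∈ (γ.left ⁻¹ᵁ A : Set Z.left) from hzA)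
      (γ.left ⁻¹ᵁ A).isOpen
  let Tz : Over S := Over.mk ((Scheme.Opens.ι C) ≫ Z.hom)
  let jz : Tz ⟶ Z := Over.homMk (Scheme.Opens.ι C) rfl
  let VA : Over S := Over.mk ((Scheme.Opens.ι A) ≫ V.hom)
  let jA : VA ⟶ V := Over.homMk (Scheme.Opens.ι A) rfl
  haveI : IsAffine VA.left := hA
  haveI : IsAffine Tz.left := hC
  have hrange : Set.range ((Scheme.Opens.ι C) ≫ γ.left).base ⊆ Set.range (Scheme.Opens.ι A).base := by
    rintro _ ⟨c, rfl⟩
    rw [Scheme.Opens.range_ι]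
    exact hCA c.2
  let γl : (C : Scheme.{u}) ⟶ (A : Scheme.{u}) := IsOpenImmersion.lift (Scheme.Opens.ι A) ((Scheme.Opens.ι C) ≫ γ.left) hrange
  have hγl : γl ≫ (Scheme.Opens.ι A) = (Scheme.Opens.ι C) ≫ γ.left := IsOpenImmersion.lift_fac _ _ _
  have hγw : γl ≫ VA.hom = Tz.hom := by
    change γl ≫ (Scheme.Opens.ι A) ≫ V.hom = (Scheme.Opens.ι C) ≫ Z.hom
    rw [← Category.assoc, hγl, Category.assoc, Over.w γ]
  let γz : Tz ⟶ VA := Over.homMk γl hγw
  have hγz : γz ≫ jA = jz ≫ γ := by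
    ext
    exact hγl
  -- the affine scheme over `A`
  have hjAe : AlgSp.RepWith @Etale ((AlgSp.yon S).map jA) :=
    (AlgSp.repWith_yon_map_iff @Etale jA).2 (by
      change Etale (Scheme.Opens.ι A)
      infer_instance)
  have hb : AlgSp.RepWith @Etale ((AlgSp.yon S).map jA ≫ p) :=
    (AlgSp.RepWith @Etale).comp_mem _ _ hjAe hpe
  obtain ⟨WA, hWA, ⟨e⟩⟩ := h VA hA ((AlgSp.yon S).map jA ≫ p) hb _ _ _
    (IsPullback.of_hasPullback f.hom ((AlgSp.yon S).map jA ≫ p))
  haveI : IsAffine WA.left := hWA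
  obtain ⟨wA, hwA⟩ := (AlgSp.yon S).map_surjective
    (e.hom ≫ pullback.snd f.hom ((AlgSp.yon S).map jA ≫ p))
  have sqA : IsPullback (e.hom ≫ pullback.fst f.hom ((AlgSp.yon S).map jA ≫ p))
      ((AlgSp.yon S).map wA) f.hom ((AlgSp.yon S).map jA ≫ p) := by
    rw [hwA]
    exact IsPullback.of_iso (IsPullback.of_hasPullback f.hom ((AlgSp.yon S).map jA ≫ p)) e.symm
      (Iso.refl _) (Iso.refl _) (Iso.refl _) (by simp) (by simp) (by simp) (by simp)
  -- the local piece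
  have h1 : IsPullback ((AlgSp.yon S).map (pullback.fst wA γz)) ((AlgSp.yon S).map (pullback.snd wA γz))
      ((AlgSp.yon S).map wA) ((AlgSp.yon S).map γz) :=
    (IsPullback.of_hasPullback wA γz).map (AlgSp.yon S)
  have hbig := h1.paste_horiz sqA
  have hbot : (AlgSp.yon S).map γz ≫ (AlgSp.yon S).map jA ≫ p =
      ((AlgSp.yon S).map jz ≫ (AlgSp.yon S).map γ) ≫ p := by
    rw [← Category.assoc, ← Functor.map_comp, hγz, Functor.map_comp]
  rw [hbot] at hbig
  have hw : ((AlgSp.yon S).map (pullback.fst wA γz) ≫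
      e.hom ≫ pullback.fst f.hom ((AlgSp.yon S).map jA ≫ p)) ≫ f.hom =
      ((AlgSp.yon S).map (pullback.snd wA γz) ≫ (AlgSp.yon S).map jz ≫ (AlgSp.yon S).map γ) ≫ p := by
    rw [hbig.w]
    simp only [Category.assoc]
  let az : (AlgSp.yon S).obj (pullback wA γz) ⟶ pullback f.hom p := pullback.lift _ _ hw
  have haz1 : az ≫ pullback.fst f.hom p = (AlgSp.yon S).map (pullback.fst wA γz) ≫
      e.hom ≫ pullback.fst f.hom ((AlgSp.yon S).map jA ≫ p) := pullback.lift_fst _ _ _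
  have haz2 : az ≫ pullback.snd f.hom p = (AlgSp.yon S).map (pullback.snd wA γz) ≫
      (AlgSp.yon S).map jz ≫ (AlgSp.yon S).map γ := pullback.lift_snd _ _ _
  refine ⟨Tz, jz, pullback wA γz, pullback.snd wA γz, az, ?_, ?_, ?_, ?_⟩
  · change IsOpenImmersion (Scheme.Opens.ι C)
    infer_instance
  · refine ⟨⟨z, hzC⟩, rfl⟩
  · refine IsPullback.of_right ?_ haz2 (IsPullback.of_hasPullback f.hom p)
    rw [haz1]
    exact hbig
  · have hsq : IsPullback (pullback.fst wA γz).left (pullback.snd wA γz).left wA.left γz.left :=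
      (IsPullback.of_hasPullback wA γz).map (Over.forget S)
    haveI : IsAffineHom wA.left := inferInstance
    exact MorphismProperty.of_isPullback (P := @IsAffineHom) hsq inferInstance

/-- (3) ⇒ (2): if X x_Y V is an affine scheme for every affine scheme V etale over Y, then f : X -> Y is
affine. -/
theorem result {S : Scheme.{u}} {X Y : AlgSp.Space S} (f : X ⟶ Y)
    (h : ∀ (V : Over S), IsAffine V.left → ∀ (b : (AlgSp.yon S).obj V ⟶ Y.obj), AlgSp.RepWith @Etale b →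
      ∀ (P : AlgSp.Sp S) (fst : P ⟶ X.obj) (snd : P ⟶ (AlgSp.yon S).obj V), IsPullback fst snd f.hom b →
      ∃ (W : Over S), IsAffine W.left ∧ Nonempty ((AlgSp.yon S).obj W ≅ P)) :
    AlgSp.IsAffineMor f.hom := by
  obtain ⟨V, p, hpe, hps⟩ := Y.property.atlas
  refine Groth.Agent.S9943.result f V p hpe hps (pullback.fst f.hom p) (pullback.snd f.hom p)
    (IsPullback.of_hasPullback f.hom p) ?_
  intro Z hZ g
  obtain ⟨γ, rfl⟩ := (AlgSp.yon S).map_surjective g
  choose Ti j W w a hopen hmem sq haff using fun z : Z.left => local_piece f h p hpe γ z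
  haveI : ∀ i, IsOpenImmersion (j i).left := hopen
  have hj : ∀ t : Z.left, ∃ i, t ∈ Set.range (j i).left := fun t => ⟨t, hmem t⟩
  obtain ⟨W₀, w₀, a₀, sq₀, hloc⟩ :=
    Groth.Agent.Lib.Helper12.ZarGlue.exists_rep_of_openCover (pullback.snd f.hom p)
      ((AlgSp.yon S).map γ) Ti j W w a sq hj
  choose k hk _ using hloc
  haveI : IsAffineHom w₀.left :=
    Groth.Agent.Lib.Helper12.ZarGlue.property_of_openCover @IsAffineHom w₀ Ti j hj W w k hk haff
  haveI := hZ
  exact ⟨W₀, w₀, a₀, sq₀, isAffine_of_isAffineHom w₀.left⟩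

end Groth.Agent.S9942
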