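import Groth.Statements.S9945
import Mathlib
import Mathlib
import Groth.Agent.S9920
import Groth.Agent.Lib.H5bArtAff
import Groth.Agent.Lib.H9Slice

set_option autoImplicit false
set_option linter.style.haveILetI false
universe u
open CategoryTheory CategoryTheory.Limits AlgebraicGeometry
open AlgSp

namespace Groth.Agent.S9945

section Dev

variable {S : Scheme.{u}} [QuasiSeparatedSpace ↥S]

/-- the fibre product of an étale affine chart with an affine locally Artinian scheme over a
quasi-separated algebraic space is an affine scheme. -/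
theorem isAffine_chart_pullback (X : AlgSp.Space S) (hX : AlgSp.IsQuasiSeparatedSp X.obj)
    (T : Over S) [IsAffine T.left] [IsLocallyArtinian T.left]
    (a : (AlgSp.yon S).obj T ⟶ X.obj) (U₀ : Over S) [IsAffine U₀.left]
    (p₀ : (AlgSp.yon S).obj U₀ ⟶ X.obj) (hp₀ : AlgSp.RepWith @Etale p₀) :
    IsAffine (hp₀.rep.pullback a).left := by
  have sq := hp₀.rep.isPullback' a
  have he : Etale (hp₀.rep.snd a).left := hp₀.property_snd a
  have hqc : QuasiCompact (prod.lift (hp₀.rep.fst' a) (hp₀.rep.snd a)).left :=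
    Groth.Agent.S9920.property_of_repWith_diag hX sq
  haveI : QuasiCompact T.hom := inferInstance
  haveI : CompactSpace ↥(pullback U₀.hom T.hom) := inferInstance
  haveI : CompactSpace ↥(U₀ ⨯ T).left :=
    QuasiCompact.compactSpace_of_compactSpace (Over.prodLeftIsoPullback U₀ T).hom
  haveI : CompactSpace ↥(hp₀.rep.pullback a).left :=
    QuasiCompact.compactSpace_of_compactSpace (prod.lift (hp₀.rep.fst' a) (hp₀.rep.snd a)).left
  haveI : LocallyQuasiFinite (hp₀.rep.snd a).left :=
    Groth.Agent.Lib.H9Slice.locallyQuasiFinite_of_etale _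
  haveI : QuasiCompact (hp₀.rep.snd a).left := inferInstance
  haveI : IsFinite (hp₀.rep.snd a).left := IsFinite.of_locallyQuasiFinite _
  exact isAffine_of_isAffineHom (hp₀.rep.snd a).left

/-- if `g` factors through an étale affine chart, the fibre product with `T` is affine. -/
theorem isAffine_of_factor (X : AlgSp.Space S) (hX : AlgSp.IsQuasiSeparatedSp X.obj)
    (T : Over S) [IsAffine T.left] [IsLocallyArtinian T.left]
    (a : (AlgSp.yon S).obj T ⟶ X.obj) (U₀ : Over S) [IsAffine U₀.left]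
    (p₀ : (AlgSp.yon S).obj U₀ ⟶ X.obj) (hp₀ : AlgSp.RepWith @Etale p₀)
    {Z W : Over S} [IsAffine Z.left] (h : Z ⟶ U₀) (fstW : W ⟶ T) (sndW : W ⟶ Z)
    (sqW : IsPullback ((AlgSp.yon S).map fstW) ((AlgSp.yon S).map sndW) a
      ((AlgSp.yon S).map h ≫ p₀)) : IsAffine W.left := by
  haveI := isAffine_chart_pullback X hX T a U₀ p₀ hp₀
  have sq := hp₀.rep.isPullback' a
  have hw : (AlgSp.yon S).map (sndW ≫ h) ≫ p₀ = (AlgSp.yon S).map fstW ≫ a := by
    rw [Functor.map_comp, Category.assoc]; exact sqW.w.symm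
  obtain ⟨k, hk⟩ := (AlgSp.yon S).map_surjective (sq.lift _ _ hw)
  have hk1 : k ≫ hp₀.rep.fst' a = sndW ≫ h := by
    apply (AlgSp.yon S).map_injective
    rw [Functor.map_comp, hk, sq.lift_fst]
  have hk2 : k ≫ hp₀.rep.snd a = fstW := by
    apply (AlgSp.yon S).map_injective
    rw [Functor.map_comp, hk, sq.lift_snd]
  have sq3 : IsPullback ((AlgSp.yon S).map k) ((AlgSp.yon S).map sndW)
      ((AlgSp.yon S).map (hp₀.rep.fst' a)) ((AlgSp.yon S).map h) := by
    refine IsPullback.of_right ?_ ?_ sq.flip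
    · rw [← Functor.map_comp, hk2]; exact sqW
    · rw [← Functor.map_comp, ← Functor.map_comp, hk1]
  have sq4 : IsPullback k sndW (hp₀.rep.fst' a) h := IsPullback.of_map (AlgSp.yon S) hk1 sq3
  have sq5 : IsPullback k.left sndW.left (hp₀.rep.fst' a).left h.left := sq4.map (Over.forget S)
  haveI : IsAffineHom (hp₀.rep.fst' a).left := inferInstance
  haveI : IsAffineHom sndW.left :=
    MorphismProperty.of_isPullback (P := @IsAffineHom) sq5 inferInstance
  exact isAffine_of_isAffineHom sndW.left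

theorem main (X : AlgSp.Space S)
    (hX : AlgSp.IsQuasiSeparatedSp X.obj) (T : Over S) [IsAffine T.left] [IsLocallyArtinian T.left]
    (a : (AlgSp.yon S).obj T ⟶ X.obj) :
    AlgSp.IsAffineMor a := by
  intro Z hZ g
  haveI : IsAffine Z.left := hZ
  have ha : AlgSp.Representable a := X.property.representable_from_yon a
  have sqW := ha.isPullback' g
  refine ⟨ha.pullback g, ha.snd g, (AlgSp.yon S).map (ha.fst' g), sqW, ?_⟩
  obtain ⟨U, p, hpe, hps⟩ := X.property.atlas
  suffices h : IsAffineHom (ha.snd g).left from isAffine_of_isAffineHom (ha.snd g).left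
  haveI : QuasiSeparatedSpace ↥Z.left := inferInstance
  apply Groth.Agent.Lib.H5bArtAff.isAffineHom_of_local
  intro z
  -- the chart of `Z`
  have sqZ := hpe.rep.isPullback' g
  have hse : Etale (hpe.rep.snd g).left := hpe.property_snd g
  have hss : Surjective (hpe.rep.snd g).left := hps.property_snd g
  obtain ⟨z', hz'⟩ := hss.surj z
  -- affine opens
  obtain ⟨_, ⟨(U₀' : U.left.Opens), hU₀', rfl⟩, huU₀, -⟩ := U.left.isBasis_affineOpens.exists_subset_of_mem_open
    (Set.mem_univ ((hpe.rep.fst' g).left.base z')) isOpen_univ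
  obtain ⟨_, ⟨(V' : (hpe.rep.pullback g).left.Opens), hV', rfl⟩, hzV, hVU⟩ :=
    (hpe.rep.pullback g).left.isBasis_affineOpens.exists_subset_of_mem_open huU₀
      ((hpe.rep.fst' g).left ⁻¹ᵁ U₀').2
  let U₀ : Over S := Over.mk (U₀'.ι ≫ U.hom)
  let ιU : U₀ ⟶ U := Over.homMk U₀'.ι rfl
  let V : Over S := Over.mk (V'.ι ≫ (hpe.rep.pullback g).hom)
  let ιV : V ⟶ hpe.rep.pullback g := Over.homMk V'.ι rfl
  haveI : IsAffine U₀.left := hU₀'
  haveI : IsAffine V.left := hV'
  have hrange : Set.range (V'.ι ≫ (hpe.rep.fst' g).left).base ⊆ Set.range U₀'.ι.base := by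
    rw [Scheme.Opens.range_ι]
    rintro _ ⟨x, rfl⟩
    rw [Scheme.Hom.comp_apply]
    exact hVU x.2
  let h₀ : V.left ⟶ U₀.left := IsOpenImmersion.lift U₀'.ι (V'.ι ≫ (hpe.rep.fst' g).left) hrange
  have hh₀ : h₀ ≫ U₀'.ι = V'.ι ≫ (hpe.rep.fst' g).left := IsOpenImmersion.lift_fac _ _ _
  let h : V ⟶ U₀ := Over.homMk h₀ (by
    change h₀ ≫ U₀'.ι ≫ U.hom = V'.ι ≫ (hpe.rep.pullback g).hom
    rw [← Category.assoc, hh₀, Category.assoc, Over.w])
  have hhι : h ≫ ιU = ιV ≫ hpe.rep.fst' g := by
    ext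
    exact hh₀
  have hp₀ : AlgSp.RepWith @Etale ((AlgSp.yon S).map ιU ≫ p) :=
    (AlgSp.RepWith @Etale).comp_mem _ _
      ((AlgSp.repWith_yon_map_iff @Etale ιU).2 (inferInstanceAs (Etale U₀'.ι))) hpe
  obtain ⟨v, hv⟩ : ∃ v : V ⟶ Z, v = ιV ≫ hpe.rep.snd g := ⟨_, rfl⟩
  have hvg : (AlgSp.yon S).map v ≫ g = (AlgSp.yon S).map h ≫ (AlgSp.yon S).map ιU ≫ p := by
    rw [hv, ← Category.assoc, ← Functor.map_comp, hhι, Functor.map_comp, Functor.map_comp,
      Category.assoc, Category.assoc, sqZ.w]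
  -- the fibre product over `V`
  have sqWV := ha.isPullback' ((AlgSp.yon S).map v ≫ g)
  haveI hWV : IsAffine (ha.pullback ((AlgSp.yon S).map v ≫ g)).left := by
    refine isAffine_of_factor X hX T a U₀ _ hp₀ h (ha.fst' _) (ha.snd _) ?_
    rw [← hvg]; exact sqWV
  have hw : (AlgSp.yon S).map (ha.fst' ((AlgSp.yon S).map v ≫ g)) ≫ a =
      (AlgSp.yon S).map (ha.snd ((AlgSp.yon S).map v ≫ g) ≫ v) ≫ g := by
    rw [Functor.map_comp, Category.assoc]; exact sqWV.w
  obtain ⟨k, hk⟩ := (AlgSp.yon S).map_surjective (sqW.lift _ _ hw)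
  have hk1 : k ≫ ha.fst' g = ha.fst' ((AlgSp.yon S).map v ≫ g) := by
    apply (AlgSp.yon S).map_injective
    rw [Functor.map_comp, hk, sqW.lift_fst]
  have hk2 : k ≫ ha.snd g = ha.snd ((AlgSp.yon S).map v ≫ g) ≫ v := by
    apply (AlgSp.yon S).map_injective
    rw [Functor.map_comp, hk, sqW.lift_snd]
  have sq3 : IsPullback ((AlgSp.yon S).map k)
      ((AlgSp.yon S).map (ha.snd ((AlgSp.yon S).map v ≫ g)))
      ((AlgSp.yon S).map (ha.snd g)) ((AlgSp.yon S).map v) := by
    refine IsPullback.of_right ?_ ?_ sqW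
    · rw [← Functor.map_comp, hk1]; exact sqWV
    · rw [← Functor.map_comp, ← Functor.map_comp, hk2]
  have sq4 : IsPullback k (ha.snd ((AlgSp.yon S).map v ≫ g)) (ha.snd g) v :=
    IsPullback.of_map (AlgSp.yon S) hk2 sq3
  have sq5 := sq4.map (Over.forget S)
  have hve : Etale v.left := by
    rw [hv]
    change Etale (V'.ι ≫ (hpe.rep.snd g).left)
    infer_instance
  refine ⟨V.left, _, v.left, k.left, (ha.snd ((AlgSp.yon S).map v ≫ g)).left, sq5, inferInstance,
    v.left.isOpenMap, ⟨⟨z', hzV⟩, ?_⟩, inferInstance, inferInstance⟩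
  rw [hv]
  change (V'.ι ≫ (hpe.rep.snd g).left).base ⟨z', hzV⟩ = z
  rw [Scheme.Hom.comp_apply]
  exact hz'

end Dev

/-- Over a base scheme with quasi-separated underlying space, every morphism from the spectrum of an
Artinian ring to an algebraic space quasi-separated over S is affine. (The published statement
assumes X quasi-separated in the absolute sense over any base; this row assumes the base
quasi-separated and X quasi-separated over it, which on such bases is the same condition.) -/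
theorem result {S : Scheme.{u}} [QuasiSeparatedSpace ↥S] (X : AlgSp.Space S)
    (hX : AlgSp.IsQuasiSeparatedSp X.obj) (A : Type u) [CommRing A] [IsArtinianRing A]
    (str : Spec (CommRingCat.of A) ⟶ S) (a : (AlgSp.yon S).obj (Over.mk str) ⟶ X.obj) :
    AlgSp.IsAffineMor a := by
  haveI : IsAffine (Over.mk str).left := inferInstanceAs (IsAffine (Spec (CommRingCat.of A)))
  haveI : IsLocallyArtinian (Over.mk str).left :=
    inferInstanceAs (IsLocallyArtinian (Spec (CommRingCat.of A)))
  exact main X hX (Over.mk str) a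

end Groth.Agent.S9945
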