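import Groth.Statements.S9967
import Mathlib
import Groth.Agent.S9965
import Groth.Agent.S9902
import Groth.Agent.S10695
import Groth.Agent.Lib.Helper12Proper

set_option autoImplicit false
set_option linter.style.haveILetI false
universe u
open CategoryTheory CategoryTheory.Limits AlgebraicGeometry
open AlgSp

namespace Groth.Agent.S9967

lemma isPullback_id_of_mono {C : Type*} [Category C] {A B D : C} (s : A ⟶ D) (σ : A ⟶ B)
    (m : B ⟶ D) [Mono m] (h : σ ≫ m = s) : IsPullback (𝟙 A) σ s m :=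
  ⟨⟨by rw [Category.id_comp, h]⟩, ⟨PullbackCone.IsLimit.mk _ (fun t => t.fst)
    (fun t => Category.comp_id _)
    (fun t => by rw [← cancel_mono m, Category.assoc, h, t.condition])
    (fun t r hr _ => by rw [← hr, Category.comp_id])⟩⟩

lemma isSchImage_self {S : Scheme.{u}} {A B : AlgSp.Sp S} (σ : A ⟶ B)
    (hσ : AlgSp.RepWith @IsClosedImmersion σ) : AlgSp.IsSchImage σ σ :=
  ⟨hσ, ⟨𝟙 A, Category.id_comp _⟩, fun _ _ _ _ h => h⟩

/-- For a separated f : X -> Y and a section s of f over a quasi-compact open V of Y, the scheme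
theoretic image of s maps isomorphically to Y over V. -/
theorem result {S : Scheme.{u}} {X Y V Y' : AlgSp.Space S} (f : X ⟶ Y) (j : V ⟶ Y)
    (hj : AlgSp.RepWith @IsOpenImmersion j.hom) (hjq : AlgSp.IsQuasiCompactMor j.hom) (hf : AlgSp.IsSeparatedMor f.hom)
    (s : V ⟶ X) (hs : s ≫ f = j) (c : Y' ⟶ X) (hc : AlgSp.IsSchImage s.hom c.hom)
    {P : AlgSp.Sp S} (fst : P ⟶ Y'.obj) (snd : P ⟶ V.obj) (sq : IsPullback fst snd (c ≫ f).hom j.hom) :
    IsIso snd := by
  -- the open subspace `X_V` of `X`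
  have sq2 := IsPullback.of_hasPullback f.hom j.hom
  have hXV : AlgSp.IsAlgSpace (pullback f.hom j.hom) :=
    Groth.Agent.S9874.isAlgSpace_of_isPullback Y.property.diag X.property V.property sq2
  let XV : AlgSp.Space S := ⟨pullback f.hom j.hom, hXV⟩
  let π₁ : XV ⟶ X := ObjectProperty.homMk (pullback.fst f.hom j.hom)
  let π₂ : XV ⟶ V := ObjectProperty.homMk (pullback.snd f.hom j.hom)
  have hs' : s.hom ≫ f.hom = j.hom := congrArg (fun m => m.hom) hs
  let σ : V ⟶ XV := ObjectProperty.homMk (pullback.lift s.hom (𝟙 V.obj) (by rw [hs', Category.id_comp]))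
  have hσ1 : σ.hom ≫ π₁.hom = s.hom := pullback.lift_fst _ _ _
  have hσ2 : σ ≫ π₂ = 𝟙 V := ObjectProperty.hom_ext _ (pullback.lift_snd _ _ _)
  have hπ₂sep : AlgSp.IsSeparatedMor π₂.hom :=
    Groth.Agent.Lib.Helper12.Proper.isSeparatedMor_baseChange sq2 hf
  have hσc : AlgSp.RepWith @IsClosedImmersion σ.hom :=
    (Groth.Agent.S9902.result π₂ σ hσ2).2.2.2.2.2.1 hπ₂sep
  have hπ₁o : AlgSp.RepWith @IsOpenImmersion π₁.hom :=
    MorphismProperty.of_isPullback (P := AlgSp.RepWith @IsOpenImmersion) sq2.flip hj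
  haveI : Mono π₁.hom := Groth.Agent.S9928.mono_of_repWith @IsOpenImmersion
    (fun X Y g hg => by haveI : IsOpenImmersion g := hg; infer_instance) _ hπ₁o
  have hπ₁e : AlgSp.IsEtaleMor π₁.hom := Groth.Agent.S10695.isEtaleMor_of_open _ hπ₁o
  -- `s` is quasi-compact
  have hπ₁q : AlgSp.IsQuasiCompactMor π₁.hom :=
    Groth.Agent.Lib.Helper12.Proper.isQuasiCompactMor_baseChange sq2.flip hjq
  have hsq : AlgSp.IsQuasiCompactMor s.hom := by
    rw [← hσ1]
    exact Groth.Agent.Lib.Helper12.Proper.isQuasiCompactMor_comp XV.property X.property σ.hom π₁.hom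
      (Groth.Agent.Lib.Helper12.Proper.isQuasiCompactMor_of_isClosedImmersion _ hσc) hπ₁q
  -- base change of the scheme theoretic image to `X_V`
  have sq1 := IsPullback.of_hasPullback c.hom π₁.hom
  have hYV : AlgSp.IsAlgSpace (pullback c.hom π₁.hom) :=
    Groth.Agent.S9874.isAlgSpace_of_isPullback X.property.diag Y'.property XV.property sq1
  let YV : AlgSp.Space S := ⟨pullback c.hom π₁.hom, hYV⟩
  let i₁ : YV ⟶ Y' := ObjectProperty.homMk (pullback.fst c.hom π₁.hom)
  let iV : YV ⟶ XV := ObjectProperty.homMk (pullback.snd c.hom π₁.hom)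
  have himg : AlgSp.IsSchImage σ.hom iV.hom :=
    (Groth.Agent.S9965.result s c hsq hc).1 XV V YV π₁ hπ₁e (𝟙 V) σ i₁ iV
      (isPullback_id_of_mono s.hom σ.hom π₁.hom hσ1) sq1
  obtain ⟨e, he⟩ := Groth.Agent.Lib.H5bSchIm.exists_iso_of_isSchImage V.property YV.property
    (isSchImage_self σ.hom hσc) himg
  -- `snd' ≫ π₂` is inverse to `e`
  have h1 : iV.hom ≫ π₂.hom = e.inv := by
    rw [← cancel_epi e.hom, ← Category.assoc, he, e.hom_inv_id]
    exact congrArg (fun m => m.hom) hσ2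
  -- compare with `P`
  have big : IsPullback i₁.hom (iV.hom ≫ π₂.hom) (c ≫ f).hom j.hom := sq1.paste_vert sq2
  have h2 : snd = (sq.isoIsPullback _ _ big).hom ≫ iV.hom ≫ π₂.hom :=
    (IsPullback.isoIsPullback_hom_snd _ _ sq big).symm
  haveI : IsIso (iV.hom ≫ π₂.hom) := by rw [h1]; infer_instance
  rw [h2]
  infer_instance

end Groth.Agent.S9967
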