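import Groth.Statements.S9969
import Mathlib
import Groth.Agent.Lib.H5bSchDense

set_option autoImplicit false
set_option linter.style.haveILetI false
universe u
open CategoryTheory CategoryTheory.Limits AlgebraicGeometry
open AlgSp

namespace Groth.Agent.S9969

open Groth.Agent.Lib.H5bKerId Groth.Agent.Lib.H5bClosedSub Groth.Agent.Lib.H5bSchIm
  Groth.Agent.Lib.H5bSchDense

/-- a scheme theoretically dense open has trivial kernel ideal. -/
lemma ker_ι_eq_bot_of_dense {V : Scheme.{u}} (W : V.Opens) (hW : CInt.IsSchematicallyDense W) :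
    W.ι.ker = ⊥ := by
  rw [eq_bot_iff]
  intro U
  refine (Scheme.Hom.ideal_ker_le W.ι U).trans ?_
  intro t ht
  rw [RingHom.mem_ker] at ht
  have hle : U.1 ⊓ W ≤ W.ι ''ᵁ W.ι ⁻¹ᵁ U.1 := by
    rintro x ⟨hxU, hxW⟩
    exact ⟨⟨x, hxW⟩, hxU, rfl⟩
  have ht' : (V.presheaf.map (homOfLE (x := W.ι ''ᵁ W.ι ⁻¹ᵁ U.1)
      (Set.image_preimage_subset _ _)).op).hom t = 0 := ht
  have h1 : (V.presheaf.map (homOfLE (inf_le_left : U.1 ⊓ W ≤ U.1)).op).hom t = 0 := by
    have h2 : V.presheaf.map (homOfLE (inf_le_left : U.1 ⊓ W ≤ U.1)).op =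
        V.presheaf.map (homOfLE (x := W.ι ''ᵁ W.ι ⁻¹ᵁ U.1) (Set.image_preimage_subset _ _)).op ≫
          V.presheaf.map (homOfLE hle).op := by
      rw [← CategoryTheory.Functor.map_comp]
      rfl
    rw [h2, CommRingCat.hom_comp, RingHom.comp_apply, ht', map_zero]
  have h3 : t = 0 := hW U.1 (h1.trans (map_zero _).symm)
  rw [h3]
  exact Submodule.zero_mem _

/-- a quasi-compact open immersion with trivial kernel ideal has scheme theoretically dense image. -/
lemma isSchematicallyDense_opensRange_of_ker_eq_bot {A V : Scheme.{u}} (j : A ⟶ V)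
    [IsOpenImmersion j] [QuasiCompact j] (h : j.ker = ⊥) :
    CInt.IsSchematicallyDense j.opensRange := by
  haveI : IsSchemeTheoreticallyDominant j := ⟨h⟩
  intro O
  rw [injective_iff_map_eq_zero]
  intro s hs
  apply j.app_injective O
  rw [map_zero]
  exact app_eq_zero_of_res j O s hs

/-- replace an open immersion chart by the inclusion of its range. -/
lemma exists_opens_chart {S : Scheme.{u}} {G F : AlgSp.Sp S} {j : G ⟶ F} {V A : Over S}
    {φ : (AlgSp.yon S).obj V ⟶ F} {jV : A ⟶ V} [IsOpenImmersion jV.left]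
    {pr : (AlgSp.yon S).obj A ⟶ G} (sq : IsPullback pr ((AlgSp.yon S).map jV) j φ) :
    ∃ fst : (AlgSp.yon S).obj (Over.mk (jV.left.opensRange.ι ≫ V.hom)) ⟶ G,
      IsPullback fst ((AlgSp.yon S).map (Over.homMk jV.left.opensRange.ι rfl :
        Over.mk (jV.left.opensRange.ι ≫ V.hom) ⟶ V)) j φ := by
  have hw : jV.left.isoOpensRange.hom ≫ jV.left.opensRange.ι ≫ V.hom = A.hom := by
    rw [← Category.assoc, Scheme.Hom.isoOpensRange_hom_ι]
    exact Over.w jV
  let ε : A ≅ Over.mk (jV.left.opensRange.ι ≫ V.hom) := Over.isoMk jV.left.isoOpensRange hw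
  have hε : ε.hom ≫ (Over.homMk jV.left.opensRange.ι rfl :
      Over.mk (jV.left.opensRange.ι ≫ V.hom) ⟶ V) = jV :=
    Over.OverMorphism.ext (Scheme.Hom.isoOpensRange_hom_ι _)
  refine ⟨(AlgSp.yon S).map ε.inv ≫ pr, ?_⟩
  refine IsPullback.of_iso sq ((AlgSp.yon S).mapIso ε) (Iso.refl _) (Iso.refl _) (Iso.refl _)
    ?_ ?_ ?_ ?_
  · rw [Iso.refl_hom, Category.comp_id, CategoryTheory.Functor.mapIso_hom, ← Category.assoc,
      ← CategoryTheory.Functor.map_comp, Iso.hom_inv_id, CategoryTheory.Functor.map_id,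
      Category.id_comp]
  · rw [Iso.refl_hom, Category.comp_id, CategoryTheory.Functor.mapIso_hom,
      ← CategoryTheory.Functor.map_comp, hε]
  · simp
  · simp

/-- For a quasi-compact open subspace, scheme theoretic density is equivalent to the scheme theoretic
closure being everything. -/
theorem result {S : Scheme.{u}} {U X : AlgSp.Space S} (j : U ⟶ X)
    (hj : AlgSp.RepWith @IsOpenImmersion j.hom) (hq : AlgSp.IsQuasiCompactMor j.hom) :
    AlgSp.IsSchDense j.hom ↔ AlgSp.IsSchImage j.hom (𝟙 X.obj) := by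
  constructor
  · rintro ⟨ho, V, φ, W, fst, hφe, hφs, sq, hd⟩
    have hK : Kc j.hom φ = ⊥ := by
      rw [Kc_eq_ker_of_isPullback j.hom φ sq]
      exact ker_ι_eq_bot_of_dense W hd
    have h1 := isSchImage_incl hφe hφs hq (f := j.hom) (q := φ)
    obtain ⟨e, he⟩ := exists_iso_of_points (incl φ (Kc j.hom φ)) (𝟙 X.obj) (by
      intro T ξ
      rw [factor_iff]
      constructor
      · intro _
        exact ⟨ξ, Category.comp_id _⟩
      · intro _ W' a b hab
        rw [hK]
        exact bot_le)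
    exact isSchImage_of_iso e he h1
  · intro hI
    obtain ⟨V, φ, hφe, hφs⟩ := X.property.atlas
    obtain ⟨A, jV, pr, sq⟩ := hj.1 φ
    haveI : IsOpenImmersion jV.left := hj.2 φ _ jV sq
    haveI : QuasiCompact jV.left := by
      have h1 : AlgSp.RepWith @QuasiCompact j.hom := (Groth.Agent.S9912.result j hj.rep).2 hq
      exact h1.2 φ _ jV sq
    have hK := Kc_eq_ker_of_isPullback j.hom φ sq
    have h1 := isSchImage_incl hφe hφs hq (f := j.hom) (q := φ)
    have hZsh : AlgSp.IsAlgSpace (Zsh φ (Kc j.hom φ)) :=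
      Groth.Agent.S10129.isAlgSpace_of_representable X.property (incl φ (Kc j.hom φ)) h1.1.rep
    obtain ⟨e, he⟩ := exists_iso_of_isSchImage X.property hZsh hI h1
    have hmem : Zmem φ (Kc j.hom φ) φ :=
      (factor_iff φ (Kc j.hom φ) φ).1 ⟨φ ≫ e.hom, by rw [Category.assoc, he, Category.comp_id]⟩
    have hbot : Kc j.hom φ ≤ (𝟙 V : V ⟶ V).left.ker := hmem V (𝟙 V) (𝟙 V) rfl
    have hker : jV.left.ker = ⊥ := by
      rw [← hK, eq_bot_iff]
      refine hbot.trans ?_
      change (𝟙 V.left : V.left ⟶ V.left).ker ≤ ⊥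
      rw [Scheme.Hom.ker_eq_bot_of_isIso]
    obtain ⟨fst, sq'⟩ := exists_opens_chart sq
    exact ⟨hj, V, φ, jV.left.opensRange, fst, hφe, hφs, sq',
      isSchematicallyDense_opensRange_of_ker_eq_bot jV.left hker⟩

end Groth.Agent.S9969
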