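import Groth.Statements.S9970
import Mathlib
import Groth.Agent.Lib.H5bSchDenseChart
import Groth.Agent.Lib.H5bFibCrit

set_option autoImplicit false
set_option linter.style.haveILetI false
universe u
open CategoryTheory CategoryTheory.Limits AlgebraicGeometry
open AlgSp

namespace Groth.Agent.S9970

/-- an open immersion of sheaves pulled back to a chart is an open of the chart. -/
theorem exists_opens_of_repWith_openImmersion {S : Scheme.{u}} {U X : AlgSp.Sp S} (j : U ⟶ X)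
    (hj : AlgSp.RepWith @IsOpenImmersion j) {V : Over S} (φ : (AlgSp.yon S).obj V ⟶ X) :
    ∃ (W : V.left.Opens) (fst : (AlgSp.yon S).obj (Over.mk (W.ι ≫ V.hom)) ⟶ U),
      IsPullback fst ((AlgSp.yon S).map (Over.homMk W.ι rfl : Over.mk (W.ι ≫ V.hom) ⟶ V)) j φ := by
  obtain ⟨T, snd, fst', sqT⟩ := hj.1 φ
  haveI : IsOpenImmersion snd.left := hj.2 _ _ snd sqT
  have he : snd.left.isoOpensRange.hom ≫ snd.left.opensRange.ι = snd.left :=
    Scheme.Hom.isoOpensRange_hom_ι snd.left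
  let T' : Over S := Over.mk (snd.left.opensRange.ι ≫ V.hom)
  let eo : T ≅ T' := Over.isoMk snd.left.isoOpensRange (by
    show snd.left.isoOpensRange.hom ≫ snd.left.opensRange.ι ≫ V.hom = T.hom
    rw [← Category.assoc, he, Over.w snd])
  have hcomp : eo.hom ≫ (Over.homMk snd.left.opensRange.ι rfl : T' ⟶ V) = snd := by
    ext
    exact he
  refine ⟨snd.left.opensRange, (AlgSp.yon S).map eo.inv ≫ fst', ?_⟩
  refine IsPullback.of_iso sqT ((AlgSp.yon S).mapIso eo) (Iso.refl _) (Iso.refl _) (Iso.refl _)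
    ?_ ?_ ?_ ?_
  · simp
  · simp only [Iso.refl_hom, Category.comp_id, Functor.mapIso_hom]
    rw [← Functor.map_comp, hcomp]
  · simp
  · simp

/-- the intersection of two schematically dense opens is schematically dense. -/
theorem isSchematicallyDense_inf {X : Scheme.{u}} (U V : X.Opens)
    (hU : CInt.IsSchematicallyDense U) (hV : CInt.IsSchematicallyDense V) :
    CInt.IsSchematicallyDense (U ⊓ V) := by
  intro V'
  have h1 : Function.Injective (X.presheaf.map (homOfLE (inf_le_left : V' ⊓ U ≤ V')).op).hom :=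
    hU V'
  have h2 : Function.Injective
      (X.presheaf.map (homOfLE (inf_le_left : (V' ⊓ U) ⊓ V ≤ V' ⊓ U)).op).hom := hV (V' ⊓ U)
  show Function.Injective (X.presheaf.map (homOfLE (inf_le_left : V' ⊓ (U ⊓ V) ≤ V')).op).hom
  rw [injective_iff_map_eq_zero]
  intro s hs
  apply h1
  rw [map_zero]
  apply h2
  rw [map_zero]
  have hle : (V' ⊓ U) ⊓ V ≤ V' ⊓ (U ⊓ V) := le_of_eq (inf_assoc _ _ _)
  have e : (X.presheaf.map (homOfLE (inf_le_left : (V' ⊓ U) ⊓ V ≤ V' ⊓ U)).op).hom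
      ((X.presheaf.map (homOfLE (inf_le_left : V' ⊓ U ≤ V')).op).hom s) =
      (X.presheaf.map (homOfLE hle).op).hom
        ((X.presheaf.map (homOfLE (inf_le_left : V' ⊓ (U ⊓ V) ≤ V')).op).hom s) := by
    have e1 : X.presheaf.map (homOfLE (inf_le_left : V' ⊓ U ≤ V')).op ≫
        X.presheaf.map (homOfLE (inf_le_left : (V' ⊓ U) ⊓ V ≤ V' ⊓ U)).op =
        X.presheaf.map (homOfLE (inf_le_left : V' ⊓ (U ⊓ V) ≤ V')).op ≫
          X.presheaf.map (homOfLE hle).op := by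
      rw [← Functor.map_comp, ← Functor.map_comp]
      rfl
    exact congrArg (fun m => m.hom s) e1
  rw [e, hs]
  exact map_zero _

/-- The intersection of two scheme theoretically dense open subspaces is scheme theoretically dense. -/
theorem result {S : Scheme.{u}} {U V X P : AlgSp.Space S} (jU : U ⟶ X) (jV : V ⟶ X)
    (hU : AlgSp.IsSchDense jU.hom) (hV : AlgSp.IsSchDense jV.hom) (fst : P ⟶ U) (snd : P ⟶ V)
    (sq : IsPullback fst.hom snd.hom jU.hom jV.hom) : AlgSp.IsSchDense (fst ≫ jU).hom := by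
  obtain ⟨hopU, V₁, φ₁, W₁, fst₁, hφe, hφs, sq₁, hW₁⟩ := hU
  have hopV := hV.1
  obtain ⟨W₂, fst₂, sq₂⟩ := exists_opens_of_repWith_openImmersion jV.hom hopV φ₁
  have hW₂ : CInt.IsSchematicallyDense W₂ :=
    Groth.Agent.Lib.H5bSchDenseChart.isSchematicallyDense_chart jV.hom hV V₁ φ₁ hφe W₂ fst₂ sq₂
  have hW : CInt.IsSchematicallyDense (W₁ ⊓ W₂) := isSchematicallyDense_inf W₁ W₂ hW₁ hW₂
  have hfstO : AlgSp.RepWith @IsOpenImmersion fst.hom :=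
    (AlgSp.repWith_isStableUnderBaseChange (S := S) @IsOpenImmersion).of_isPullback sq.flip hopV
  have hop : AlgSp.RepWith @IsOpenImmersion (fst ≫ jU).hom :=
    (AlgSp.repWith_isMultiplicative (S := S) @IsOpenImmersion).comp_mem _ _ hfstO hopU
  -- the objects over `S`
  let O₁ : Over S := Over.mk (W₁.ι ≫ V₁.hom)
  let O₂ : Over S := Over.mk (W₂.ι ≫ V₁.hom)
  let O : Over S := Over.mk ((W₁ ⊓ W₂).ι ≫ V₁.hom)
  let ιW₁ : O₁ ⟶ V₁ := Over.homMk W₁.ι rfl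
  let ιW₂ : O₂ ⟶ V₁ := Over.homMk W₂.ι rfl
  let ιW : O ⟶ V₁ := Over.homMk (W₁ ⊓ W₂).ι rfl
  let ι₁ : O ⟶ O₁ := Over.homMk (V₁.left.homOfLE (inf_le_left : W₁ ⊓ W₂ ≤ W₁)) (by
    show V₁.left.homOfLE (inf_le_left : W₁ ⊓ W₂ ≤ W₁) ≫ W₁.ι ≫ V₁.hom = (W₁ ⊓ W₂).ι ≫ V₁.hom
    rw [← Category.assoc, Scheme.homOfLE_ι])
  let ι₂ : O ⟶ O₂ := Over.homMk (V₁.left.homOfLE (inf_le_right : W₁ ⊓ W₂ ≤ W₂)) (by
    show V₁.left.homOfLE (inf_le_right : W₁ ⊓ W₂ ≤ W₂) ≫ W₂.ι ≫ V₁.hom = (W₁ ⊓ W₂).ι ≫ V₁.hom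
    rw [← Category.assoc, Scheme.homOfLE_ι])
  have hι₁ : ι₁ ≫ ιW₁ = ιW := by
    ext
    exact Scheme.homOfLE_ι V₁.left (inf_le_left : W₁ ⊓ W₂ ≤ W₁)
  have hw12 : ι₁ ≫ ιW₁ = ι₂ ≫ ιW₂ := by
    ext
    show V₁.left.homOfLE (inf_le_left : W₁ ⊓ W₂ ≤ W₁) ≫ W₁.ι = V₁.left.homOfLE (inf_le_right : W₁ ⊓ W₂ ≤ W₂) ≫ W₂.ι
    rw [Scheme.homOfLE_ι, Scheme.homOfLE_ι]
  have sqD : IsPullback ((AlgSp.yon S).map ι₂) ((AlgSp.yon S).map ι₁) ((AlgSp.yon S).map ιW₂)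
      ((AlgSp.yon S).map ιW₁) :=
    Groth.Agent.Lib.H5bFibCrit.isPullback_yon_of_left ι₂ ι₁ ιW₂ ιW₁ hw12.symm
      (isPullback_opens_inf W₁ W₂).flip
  have big : IsPullback ((AlgSp.yon S).map ι₂ ≫ fst₂) ((AlgSp.yon S).map ι₁) jV.hom
      ((AlgSp.yon S).map ιW₁ ≫ φ₁) := sqD.paste_horiz sq₂
  have hcomm : ((AlgSp.yon S).map ι₁ ≫ fst₁) ≫ jU.hom = ((AlgSp.yon S).map ι₂ ≫ fst₂) ≫ jV.hom := by
    rw [Category.assoc, sq₁.w, big.w, ← Category.assoc]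
  let fstP : (AlgSp.yon S).obj O ⟶ P.obj := sq.lift _ _ hcomm
  have hP1 : fstP ≫ fst.hom = (AlgSp.yon S).map ι₁ ≫ fst₁ := sq.lift_fst _ _ _
  have hP2 : fstP ≫ snd.hom = (AlgSp.yon S).map ι₂ ≫ fst₂ := sq.lift_snd _ _ _
  have sqC : IsPullback fstP ((AlgSp.yon S).map ι₁) fst.hom fst₁ := by
    refine IsPullback.of_right ?_ hP1 sq.flip
    rw [hP2, sq₁.w]
    exact big
  have sqF : IsPullback fstP ((AlgSp.yon S).map ι₁ ≫ (AlgSp.yon S).map ιW₁)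
      (fst.hom ≫ jU.hom) φ₁ := sqC.paste_vert sq₁
  rw [← Functor.map_comp, hι₁] at sqF
  exact ⟨hop, V₁, φ₁, W₁ ⊓ W₂, fstP, hφe, hφs, sqF, hW⟩

end Groth.Agent.S9970
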