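import Groth.Statements.S9971
import Mathlib
import Groth.Agent.Lib.H5bSchDense
import Groth.Agent.S9966
import Groth.Agent.S10191

set_option autoImplicit false
set_option linter.style.haveILetI false
universe u
open CategoryTheory CategoryTheory.Limits AlgebraicGeometry
open AlgSp

namespace Groth.Agent.S9971

open Groth.Agent.Lib.H5bKerId Groth.Agent.Lib.H5bClosedSub Groth.Agent.Lib.H5bSchIm
  Groth.Agent.Lib.H5bSchDense

lemma isSchDense_of_iso {S : Scheme.{u}} {F F' G : AlgSp.Sp S} (j : G ⟶ F) (e : F ≅ F')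
    (h : AlgSp.IsSchDense (j ≫ e.hom)) : AlgSp.IsSchDense j := by
  obtain ⟨ho, V, φ, W, fst, hφe, hφs, sq, hd⟩ := h
  refine ⟨(MorphismProperty.cancel_right_of_respectsIso (AlgSp.RepWith @IsOpenImmersion) j e.hom).1 ho,
    V, φ ≫ e.inv, W, fst,
    (MorphismProperty.cancel_right_of_respectsIso (AlgSp.RepWith @Etale) φ e.inv).2 hφe,
    (MorphismProperty.cancel_right_of_respectsIso (AlgSp.RepWith @Surjective) φ e.inv).2 hφs, ?_, hd⟩
  refine IsPullback.of_iso sq (Iso.refl _) (Iso.refl _) (Iso.refl _) e.symm ?_ ?_ ?_ ?_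
  · simp
  · simp
  · simp
  · simp

/-- A quasi-compact (or reduced-source) immersion is a scheme theoretically dense, topologically dense
open immersion into its scheme theoretic image. -/
theorem result {S : Scheme.{u}} {Z X Zbar : AlgSp.Space S} (h : Z ⟶ X)
    (hh : AlgSp.RepWith @IsImmersion h.hom) (hq : AlgSp.IsQuasiCompactMor h.hom ∨ AlgSp.IsReducedSp Z.obj)
    (c : Zbar ⟶ X) (hc : AlgSp.IsSchImage h.hom c.hom) (h' : Z ⟶ Zbar) (fac : h' ≫ c = h) :
    AlgSp.RepWith @IsOpenImmersion h'.hom ∧ AlgSp.IsSchDense h'.hom ∧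
      Dense (Set.range (AlgSp.Points.map h'.hom)) := by
  have hX := X.property
  have hZ := Z.property
  have hZbar := Zbar.property
  have fac' : h'.hom ≫ c.hom = h.hom := congrArg (fun m => m.hom) fac
  obtain ⟨U, q, hqe, hqs⟩ := hX.atlas
  obtain ⟨ZU, jU, prZ, sqZ⟩ := hh.1 q
  haveI : IsImmersion jU.left := hh.2 q _ jU sqZ
  haveI : Mono h.hom := Groth.Agent.S9928.mono_of_repWith @IsImmersion
    (fun X Y g hg => by haveI : IsImmersion g := hg; infer_instance) _ hh
  have hKeq := Kc_eq_ker_of_isPullback h.hom q sqZ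
  have hkey : ∃ _ : IsOpenImmersion jU.left.toImage, Invariant q jU.left.ker ∧
      CInt.IsSchematicallyDense jU.left.toImage.opensRange ∧
      Set.range (AlgSp.Points.map c.hom) ⊆ closure (Set.range (AlgSp.Points.map h.hom)) := by
    rcases hq with hq | hred
    · haveI : QuasiCompact jU.left := by
        have h1 : AlgSp.RepWith @QuasiCompact h.hom := (Groth.Agent.S9912.result h hh.rep).2 hq
        exact h1.2 q _ jU sqZ
      refine ⟨inferInstance, ?_, isSchematicallyDense_opensRange_toImage jU.left,
        range_subset_closure hX hZbar hq hc⟩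
      rw [← hKeq]
      exact invariant_Kc hqe (qcOver_of_isQuasiCompactMor hq)
    · have hpe : AlgSp.RepWith @Etale prZ :=
        MorphismProperty.of_isPullback (P := AlgSp.RepWith @Etale) sqZ.flip hqe
      haveI : IsReduced ZU.left := isReduced_of_etale hred prZ hpe
      haveI := isOpenImmersion_toImage_of_isReduced jU.left
      haveI := isDominant_toImage_of_isReduced jU.left
      refine ⟨inferInstance, ?_, ?_, ?_⟩
      · have h1 := Groth.Agent.S9908.preimage_ofPt_map_image sqZ Set.univ
        rw [Set.image_univ, Set.preimage_univ, Set.image_univ] at h1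
        have h2 := (Groth.Agent.S10176.isOpenMap_ofPt q hqe).preimage_closure_eq_closure_preimage
          (AlgSp.Points.continuous_ofPt q) (Set.range (AlgSp.Points.map h.hom))
        rw [Groth.Agent.Lib.Helper11RedCl.ker_eq_of_isReduced jU.left]
        refine Groth.Agent.S10192.invariant_vanishingIdeal q hqe _
          (closure (Set.range (AlgSp.Points.map h.hom))) ?_
        rw [h2, h1]
        rfl
      · haveI : IsReduced (VI jU.left.ker).left := isReduced_image jU.left
        refine isSchematicallyDense_of_isReduced _ ?_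
        exact jU.left.toImage.denseRange
      · exact (Groth.Agent.S9966.result h c hred hc).2.1.le
  obtain ⟨hoi, hinv, hd, hcl⟩ := hkey
  haveI := hoi
  have hsch : AlgSp.IsSchImage h.hom (incl q jU.left.ker) := by
    have hinv' : Invariant q (Kc h.hom q) := by rw [hKeq]; exact hinv
    rw [← hKeq]
    exact ⟨repWith_incl hqe hqs hinv', exists_factor_Zsh h.hom q,
      fun _ i' _ hi' hfac => exists_factor_of_closed hqe hqs i' hi' hfac⟩
  have hZsh : AlgSp.IsAlgSpace (Zsh q jU.left.ker) :=
    Groth.Agent.S10129.isAlgSpace_of_representable hX (incl q jU.left.ker) hsch.1.rep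
  obtain ⟨e, he⟩ := exists_iso_of_isSchImage hZbar hZsh hc hsch
  have hfac2 : (h'.hom ≫ e.hom) ≫ incl q jU.left.ker = h.hom := by
    rw [Category.assoc, he, fac']
  have hSD : AlgSp.IsSchDense (h'.hom ≫ e.hom) := isSchDense_of_chart hqe hqs sqZ hinv hd hfac2
  have hSD' : AlgSp.IsSchDense h'.hom := isSchDense_of_iso h'.hom e hSD
  refine ⟨hSD'.1, hSD', ?_⟩
  have himm : AlgSp.RepWith @IsImmersion c.hom := by
    refine ⟨hc.1.1, fun T W g pr w sq => ?_⟩
    haveI : IsClosedImmersion w.left := hc.1.2 g pr w sq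
    change IsImmersion w.left
    infer_instance
  have hemb := (Groth.Agent.S10191.result c himm).1
  rw [dense_iff_closure_eq, hemb.closure_eq_preimage_closure_image, ← Set.range_comp]
  have h1 : (AlgSp.Points.map c.hom) ∘ (AlgSp.Points.map h'.hom) = AlgSp.Points.map h.hom := by
    funext z
    rw [Function.comp_apply, ← AlgSp.Points.map_comp, fac']
  rw [h1, Set.eq_univ_iff_forall]
  intro z
  exact hcl ⟨z, rfl⟩

end Groth.Agent.S9971
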