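import Groth.Statements.S9978
import Mathlib
import Groth.Agent.S9833
import Groth.Agent.Lib.Helper7NagM
import Groth.Agent.Lib.H5bLqfDim

set_option autoImplicit false
universe u
open CategoryTheory CategoryTheory.Limits AlgebraicGeometry
open AlgSp

namespace Groth.Agent.S9978

/-- scheme-level statement: locally of finite type over a Nagata scheme is Nagata. -/
lemma isNagata_of_lft {W V : Scheme.{u}} (h : W ⟶ V) [LocallyOfFiniteType h]
    (hV : ∀ B : V.Opens, IsAffineOpen B → CAlg.IsNagata ↑Γ(V, B)) (A : W.Opens)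
    (hA : IsAffineOpen A) : CAlg.IsNagata ↑Γ(W, A) := by
  have key : ∀ w : W, ∃ U : W.Opens, IsAffineOpen U ∧ w ∈ U ∧ CAlg.IsNagata ↑Γ(W, U) := by
    intro w
    obtain ⟨_, ⟨B, hB, rfl⟩, hwB, -⟩ :=
      V.isBasis_affineOpens.exists_subset_of_mem_open (Set.mem_univ (h.base w)) isOpen_univ
    obtain ⟨_, ⟨U, hU, rfl⟩, hwU, hUB⟩ :=
      W.isBasis_affineOpens.exists_subset_of_mem_open (show w ∈ (h ⁻¹ᵁ B : W.Opens) from hwB)
        (h ⁻¹ᵁ B).isOpen
    have e : U ≤ h ⁻¹ᵁ B := hUB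
    have hft : (h.appLE B U e).hom.FiniteType := h.finiteType_appLE hB hU e
    algebraize [(h.appLE B U e).hom]
    exact ⟨U, hU, hwU, Groth.Agent.Lib.Helper7.NagM.isNagata_of_finiteType ↑Γ(V, B) (hV B hB) ↑Γ(W, U)⟩
  choose U hU hwU hN using key
  refine Groth.Agent.S9833.result W U ?_ hU hN A hA
  rw [eq_top_iff]
  intro w _
  exact TopologicalSpace.Opens.mem_iSup.2 ⟨w, hwU w⟩

/-- An algebraic space locally of finite type over a Nagata algebraic space is Nagata. -/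
theorem result {S : Scheme.{u}} {X Y : AlgSp.Space S} (f : X ⟶ Y)
    (hf : AlgSp.LocP @LocallyOfFiniteType f.hom)
    (hY : AlgSp.EtaleLocally (fun U => ∀ V : U.Opens, IsAffineOpen V → CAlg.IsNagata ↑Γ(U, V)) Y.obj) :
    AlgSp.EtaleLocally (fun U => ∀ V : U.Opens, IsAffineOpen V → CAlg.IsNagata ↑Γ(U, V)) X.obj := by
  obtain ⟨V₀, q₀, hq₀, hq₀s, hV₀⟩ := hY
  obtain ⟨U₀, p₀, hp₀, hp₀s⟩ := X.property.atlas
  obtain ⟨W, pr, h, hpr, hw, hpt⟩ := Groth.Agent.Lib.H5bLqfDim.exists_chartPullback f.hom p₀ q₀ hq₀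
  have hc : AlgSp.RepWith @Etale ((AlgSp.yon S).map pr ≫ p₀) :=
    (AlgSp.RepWith @Etale).comp_mem _ _ ((AlgSp.repWith_yon_map_iff @Etale pr).2 hpr) hp₀
  have hsurj : Surjective pr.left := by
    refine ⟨fun u => ?_⟩
    obtain ⟨v, hv⟩ := Groth.Agent.S10177.surjective_ofPt q₀ hq₀s (AlgSp.Points.ofPt (p₀ ≫ f.hom) u)
    obtain ⟨w, hw1, -⟩ := hpt u v hv.symm
    exact ⟨w, hw1⟩
  have hcs : AlgSp.RepWith @Surjective ((AlgSp.yon S).map pr ≫ p₀) :=
    (AlgSp.RepWith @Surjective).comp_mem _ _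
      ((AlgSp.repWith_yon_map_iff @Surjective pr).2 hsurj) hp₀s
  have hlft : LocallyOfFiniteType h.left := hf _ _ h hc hq₀ hw
  exact ⟨W, _, hc, hcs, fun A hA => isNagata_of_lft h.left hV₀ A hA⟩

end Groth.Agent.S9978
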