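import Groth.Statements.S9979
import Mathlib
import Groth.Agent.Lib.H5bQcAff
import Groth.Agent.Lib.Helper8ValClosure
import Groth.Agent.S10176
import Groth.Agent.S10177

set_option autoImplicit false
set_option linter.style.haveILetI false
universe u
open CategoryTheory CategoryTheory.Limits AlgebraicGeometry
open AlgSp

namespace Groth.Agent.S9979

open Groth.Agent.Lib.H5bKerId Groth.Agent.Lib.H5bClosedSub Groth.Agent.Lib.H5bSchIm

lemma ker_specMap_eq_bot {R A : CommRingCat.{u}} (φ : R ⟶ A) (h : Function.Injective φ.hom) :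
    (Spec.map φ).ker = ⊥ := by
  rw [Scheme.ker_of_isAffine]
  have h1 : RingHom.ker (Spec.map φ).appTop.hom = ⊥ := by
    rw [RingHom.ker_eq_bot_iff_eq_zero]
    intro t ht
    have h2 : (Spec.map φ).appTop = (Scheme.ΓSpecIso R).hom ≫ φ ≫ (Scheme.ΓSpecIso A).inv := by
      rw [Scheme.ΓSpecIso_inv_naturality, Iso.hom_inv_id_assoc]
    rw [h2] at ht
    have h3 : Function.Injective ((Scheme.ΓSpecIso R).hom ≫ φ ≫ (Scheme.ΓSpecIso A).inv).hom := by
      simp only [CommRingCat.hom_comp, RingHom.coe_comp]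
      exact ((ConcreteCategory.bijective_of_isIso (Scheme.ΓSpecIso A).inv).injective.comp h).comp
        (ConcreteCategory.bijective_of_isIso (Scheme.ΓSpecIso R).hom).injective
    exact h3 (ht.trans (map_zero _).symm)
  rw [h1]
  apply Scheme.IdealSheafData.ext_of_isAffine
  simp

lemma le_ker_of_fraction {A : Type u} [CommRing A] [IsDomain A] {U W₀ : Scheme.{u}}
    (K : U.IdealSheafData) (a₀ : W₀ ⟶ U) (hK : K ≤ a₀.ker) (a : Spec (CommRingCat.of A) ⟶ U)
    (x : Spec (CommRingCat.of (FractionRing A)) ⟶ W₀)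
    (h : x ≫ a₀ = Spec.map (CommRingCat.ofHom (algebraMap A (FractionRing A))) ≫ a) :
    K ≤ a.ker := by
  have h1 : K ≤ (x ≫ a₀).ker := hK.trans (Scheme.Hom.le_ker_comp x a₀)
  rw [h, Scheme.Hom.ker_comp, ker_specMap_eq_bot _ (IsFractionRing.injective A (FractionRing A)),
    Scheme.IdealSheafData.map_bot] at h1
  exact h1

/-- the scheme-level valuative witness. -/
lemma exists_val_of_ker_le {W₀ U : Scheme.{u}} [IsAffine W₀] (a₀ : W₀ ⟶ U) (V : U.affineOpens)
    (hr : Set.range a₀ ⊆ V.1) (u : U) (huV : u ∈ V.1)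
    (hker : u ∈ U.zeroLocus (U := V.1) (RingHom.ker (a₀.app V.1).hom : Set Γ(U, V.1))) :
    ∃ (A : Type u) (_ : CommRing A) (_ : IsDomain A) (_ : ValuationRing A)
      (a : Spec (CommRingCat.of A) ⟶ U) (x : Spec (CommRingCat.of (FractionRing A)) ⟶ W₀),
      x ≫ a₀ = Spec.map (CommRingCat.ofHom (algebraMap A (FractionRing A))) ≫ a ∧
      a (IsLocalRing.closedPoint A) = u := by
  have hle : (⊤ : W₀.Opens) ≤ a₀ ⁻¹ᵁ V.1 := fun w _ => hr ⟨w, rfl⟩
  let ψ : Γ(U, V.1) ⟶ Γ(W₀, ⊤) := a₀.appLE V.1 ⊤ hle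
  have hfac : Spec.map ψ ≫ V.2.fromSpec = (isAffineOpen_top W₀).fromSpec ≫ a₀ :=
    IsAffineOpen.SpecMap_appLE_fromSpec a₀ V.2 (isAffineOpen_top W₀) hle
  let y₀ : Spec Γ(U, V.1) := V.2.primeIdealOf ⟨u, huV⟩
  have hy₀ : V.2.fromSpec y₀ = u := V.2.fromSpec_primeIdealOf ⟨u, huV⟩
  have hψ : RingHom.ker ψ.hom ≤ RingHom.ker (a₀.app V.1).hom := by
    intro t ht
    have h1 : ψ = a₀.app V.1 ≫ W₀.presheaf.map (homOfLE hle).op := rfl
    have h2 : W₀.presheaf.map (homOfLE hle).op ≫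
        W₀.presheaf.map (homOfLE (le_top : a₀ ⁻¹ᵁ V.1 ≤ ⊤)).op = 𝟙 _ := by
      rw [← CategoryTheory.Functor.map_comp]
      exact W₀.presheaf.map_id _
    rw [RingHom.mem_ker] at ht ⊢
    have h3 : (W₀.presheaf.map (homOfLE hle).op ≫
        W₀.presheaf.map (homOfLE (le_top : a₀ ⁻¹ᵁ V.1 ≤ ⊤)).op).hom
        ((a₀.app V.1).hom t) = 0 := by
      rw [CommRingCat.hom_comp, RingHom.comp_apply]
      have : (W₀.presheaf.map (homOfLE hle).op).hom ((a₀.app V.1).hom t) = ψ.hom t := by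
        rw [h1]; rfl
      rw [this, ht, map_zero]
    rw [h2] at h3
    exact h3
  have hmem : y₀ ∈ closure (Set.range (Spec.map ψ)) := by
    have h1 : y₀ ∈ closure (Set.range (PrimeSpectrum.comap ψ.hom)) := by
      rw [PrimeSpectrum.closure_range_comap]
      have h2 : y₀ ∈ V.2.fromSpec ⁻¹' U.zeroLocus (U := V.1)
          (RingHom.ker (a₀.app V.1).hom : Set Γ(U, V.1)) := by
        rw [Set.mem_preimage, hy₀]; exact hker
      rw [V.2.fromSpec_preimage_zeroLocus] at h2
      exact PrimeSpectrum.zeroLocus_anti_mono hψ h2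
    exact h1
  obtain ⟨A, iA, iD, iV, a, x, hx, ha⟩ :=
    Groth.Agent.Lib.Helper8ValClosure.exists_valuationRing_of_mem_closure_range (Spec.map ψ) y₀ hmem
  refine ⟨A, iA, iD, iV, a ≫ V.2.fromSpec, x ≫ (isAffineOpen_top W₀).fromSpec, ?_, ?_⟩
  · rw [Category.assoc, ← hfac, ← Category.assoc, hx, Category.assoc]
  · rw [Scheme.Hom.comp_apply, ha, hy₀]

/-- Every point of the scheme theoretic image of a quasi-compact morphism is reached by a valuation ring
whose generic point lifts to the source. -/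
theorem result {S : Scheme.{u}} {X Y Z : AlgSp.Space S} (f : X ⟶ Y) (i : Z ⟶ Y)
    (hq : AlgSp.IsQuasiCompactMor f.hom) (hZ : AlgSp.IsSchImage f.hom i.hom) (z : AlgSp.Points Z.obj) :
    ∃ (A : Type u) (_ : CommRing A) (_ : IsDomain A) (_ : ValuationRing A) (str : Spec (CommRingCat.of A) ⟶ S)
      (a : (AlgSp.yon S).obj (Over.mk str) ⟶ Z.obj)
      (x : (AlgSp.yon S).obj (Over.mk (Spec.map (CommRingCat.ofHom (algebraMap A (FractionRing A))) ≫ str)) ⟶ X.obj),
      AlgSp.Points.ofPt a (IsLocalRing.closedPoint A) = z ∧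
      x ≫ f.hom = (AlgSp.yon S).map (Over.homMk (Spec.map (CommRingCat.ofHom (algebraMap A (FractionRing A)))) rfl) ≫
        a ≫ i.hom := by
  obtain ⟨U, q, hqe, hqs⟩ := Y.property.atlas
  have hqc : QcOver (pullback.snd f.hom q) := qcOver_of_isQuasiCompactMor hq
  have hinv := invariant_Kc hqe hqc
  have h2 := isSchImage_incl hqe hqs hq (f := f.hom) (q := q)
  have hZ2 : AlgSp.IsAlgSpace (Zsh q (Kc f.hom q)) :=
    Groth.Agent.S10129.isAlgSpace_of_representable Y.property (incl q (Kc f.hom q)) h2.1.rep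
  obtain ⟨e, he⟩ := exists_iso_of_isSchImage Z.property hZ2 hZ h2
  obtain ⟨fstK, sqK⟩ := exists_chart_isPullback hqe hqs hinv
  have hfs : AlgSp.RepWith @Surjective fstK :=
    MorphismProperty.of_isPullback (P := AlgSp.RepWith @Surjective) sqK.flip hqs
  obtain ⟨v, hv⟩ := Groth.Agent.S10177.surjective_ofPt fstK hfs (AlgSp.Points.map e.hom z)
  let K := Kc f.hom q
  let u : U.left := (ιo K).left v
  have hu : u ∈ (K.support : Set U.left) := by
    rw [← Scheme.IdealSheafData.range_subschemeι]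
    exact ⟨v, rfl⟩
  obtain ⟨_, ⟨V, hV, rfl⟩, huV, -⟩ :=
    (U.left.isBasis_affineOpens).exists_subset_of_mem_open (Set.mem_univ u) isOpen_univ
  let Va : U.left.affineOpens := ⟨V, hV⟩
  obtain ⟨W₀, x₀, a₀, h₀, hW₀, hr, hcov⟩ := exists_affine_covers hq (q := q) Va
  haveI := hW₀
  have hKV : K.ideal Va = RingHom.ker (a₀.left.app V).hom := by
    rw [← Kpre_eq_ker_of_covers h₀ hcov]
    exact KerId_ideal hqc Va
  have hker : u ∈ U.left.zeroLocus (U := Va.1)
      (RingHom.ker (a₀.left.app Va.1).hom : Set Γ(U.left, Va.1)) := by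
    rw [← hKV]
    exact (Scheme.IdealSheafData.mem_support_iff_of_mem (I := K) (U := Va) huV).1 hu
  obtain ⟨A, iA, iD, iV, a, x, hx, ha⟩ := exists_val_of_ker_le a₀.left Va hr u huV hker
  have hKa : K ≤ a.ker :=
    le_ker_of_fraction K a₀.left (KerId_le (pullback.snd f.hom q) h₀) a x hx
  let str : Spec (CommRingCat.of A) ⟶ S := a ≫ U.hom
  let aO : Over.mk str ⟶ U := Over.homMk a rfl
  obtain ⟨c, hc⟩ := (exists_lift_iff K aO).2 hKa
  let η := Spec.map (CommRingCat.ofHom (algebraMap A (FractionRing A)))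
  let ηO : Over.mk (η ≫ str) ⟶ Over.mk str := Over.homMk η rfl
  have hxw : x ≫ W₀.hom = η ≫ str := by
    rw [← Over.w a₀, ← Category.assoc, hx, Category.assoc]
  let xO : Over.mk (η ≫ str) ⟶ W₀ := Over.homMk x hxw
  have hxa : xO ≫ a₀ = ηO ≫ aO := Over.OverMorphism.ext hx
  refine ⟨A, iA, iD, iV, str, (AlgSp.yon S).map c ≫ fstK ≫ e.inv,
    (AlgSp.yon S).map xO ≫ x₀ ≫ pullback.fst f.hom q, ?_, ?_⟩
  · rw [Groth.Agent.S10176.ofPt_map_comp]
    have hcv : c.left (IsLocalRing.closedPoint A) = v := by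
      haveI : IsClosedImmersion (ιo K).left := inferInstanceAs (IsClosedImmersion K.subschemeι)
      have hinj : Function.Injective (ιo K).left := (ιo K).left.isClosedEmbedding.injective
      apply hinj
      have h1 : c.left ≫ (ιo K).left = a := congrArg (fun m => m.left) hc
      rw [← Scheme.Hom.comp_apply, h1, ha]
    rw [hcv, ← AlgSp.Points.map_ofPt, hv, ← AlgSp.Points.map_comp, e.hom_inv_id,
      AlgSp.Points.map_id]
  · have he' : e.inv ≫ i.hom = incl q K := by rw [← he, Iso.inv_hom_id_assoc]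
    calc ((AlgSp.yon S).map xO ≫ x₀ ≫ pullback.fst f.hom q) ≫ f.hom
        = (AlgSp.yon S).map xO ≫ x₀ ≫ pullback.snd f.hom q ≫ q := by
          simp only [Category.assoc, pullback.condition]
      _ = (AlgSp.yon S).map xO ≫ (AlgSp.yon S).map a₀ ≫ q := by
          rw [← Category.assoc x₀, h₀]
      _ = (AlgSp.yon S).map (ηO ≫ aO) ≫ q := by
          rw [← hxa, CategoryTheory.Functor.map_comp, Category.assoc]
      _ = (AlgSp.yon S).map ηO ≫ (AlgSp.yon S).map c ≫ (AlgSp.yon S).map (ιo K) ≫ q := by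
          rw [← hc]
          simp only [CategoryTheory.Functor.map_comp, Category.assoc]
      _ = (AlgSp.yon S).map ηO ≫ (AlgSp.yon S).map c ≫ fstK ≫ incl q K := by
          rw [sqK.w]
      _ = (AlgSp.yon S).map ηO ≫ ((AlgSp.yon S).map c ≫ fstK ≫ e.inv) ≫ i.hom := by
          rw [← he']
          simp only [Category.assoc]

end Groth.Agent.S9979
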