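import Groth.Statements.S9983
import Groth.Agent.Lib.Helper8SpUnivInjPush

set_option autoImplicit false
universe u
open CategoryTheory CategoryTheory.Limits AlgebraicGeometry
open AlgSp

namespace Groth.Agent.S9983

/-- For a closed immersion i of algebraic spaces, i_* on the small etale sites is fully faithful on
sheaves of sets and on abelian sheaves, with i⁻¹ a left inverse (the counit i⁻¹ i_* ⟶ id is an
isomorphism). (The published statement also describes the essential images of i_*; this row states
only full faithfulness and the left inverse.) -/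
theorem result {S : Scheme.{u}} {Z X : AlgSp.Space S} (i : Z ⟶ X)
    (hi : AlgSp.RepWith @IsClosedImmersion i.hom) :
    ((AlgSp.pushEt hi.1 (Type (u + 1))).Full ∧ (AlgSp.pushEt hi.1 (Type (u + 1))).Faithful) ∧
    ((AlgSp.pushEt hi.1 AddCommGrpCat.{u + 1}).Full ∧ (AlgSp.pushEt hi.1 AddCommGrpCat.{u + 1}).Faithful) ∧
    IsIso (AlgSp.pullPushAdjEt hi.1 (Type (u + 1))).counit := by
  have H : Groth.Agent.Lib.Helper8SpUnivInjPush.IntInj hi.1 := by
    intro E
    haveI : IsClosedImmersion (hi.1.snd E.obj.hom).left :=
      hi.2 E.obj.hom (hi.1.fst E.obj.hom) (hi.1.snd E.obj.hom) (hi.1.isPullback E.obj.hom)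
    exact ⟨inferInstance, inferInstance⟩
  exact ⟨⟨Groth.Agent.Lib.Helper8SpUnivInjPush.full_pushEt _ X.property H,
      Groth.Agent.Lib.Helper8SpUnivInjPush.faithful_pushEt _ X.property H⟩,
    ⟨Groth.Agent.Lib.Helper8SpUnivInjPush.full_pushEt _ X.property H,
      Groth.Agent.Lib.Helper8SpUnivInjPush.faithful_pushEt _ X.property H⟩,
    Groth.Agent.Lib.Helper8SpUnivInjPush.isIso_counit_type X.property H⟩

end Groth.Agent.S9983
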