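import Groth.Statements.S9987
import Mathlib
import Groth.Agent.Lib.Helper8CutOut

set_option autoImplicit false
universe u
open CategoryTheory CategoryTheory.Limits AlgebraicGeometry Opposite
open AlgSp

namespace Groth.Agent.S9987

/-- For a closed immersion i : Z ⟶ X of algebraic spaces over S (representable, every base change to a
scheme a closed immersion), the comparison map O_X ⟶ i_* O_Z of sheaves of rings on the small etale
site of X is locally surjective. (The published statement also asserts that i_* O_Z is a
quasi-coherent O_X-module and that the kernel of O_X ⟶ i_* O_Z is a quasi-coherent sheaf of ideals;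
those two assertions are the closed-immersion cases of the general facts that direct images along
quasi-compact quasi-separated morphisms preserve quasi-coherence and that the kernel ideal of a
quasi-compact morphism is quasi-coherent, a closed immersion being quasi-compact and separated, and
only the surjectivity is stated here.) -/
theorem result {S : Scheme.{u}} {Z X : AlgSp.Space S} (i : Z ⟶ X)
    (hi : AlgSp.RepWith @IsClosedImmersion i.hom) :
    Presheaf.IsLocallySurjective (AlgSp.etTop X.obj) (AlgSp.bcRingHom hi.1).hom := by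
  classical
  refine ⟨fun {E} s => ?_⟩
  let Y : E.obj.left.left.affineOpens → AlgSp.EtOver X.obj := fun U =>
    Groth.Agent.Lib.Helper8CutOut.chartOpen E.obj.hom E.property U.1
  let g : ∀ U : E.obj.left.left.affineOpens, Y U ⟶ E := fun U =>
    AlgSp.EtOver.homMk (Over.homMk U.1.ι rfl) rfl
  have hcov : Sieve.ofArrows Y g ∈ AlgSp.etTop X.obj E := by
    apply AlgSp.ofArrows_mem_etTop
    intro x
    obtain ⟨U, hU, hxU, -⟩ := exists_isAffineOpen_mem_and_subset
      (X := E.obj.left.left) (x := x) (U := ⊤) trivial
    refine ⟨⟨U, hU⟩, ?_⟩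
    change x ∈ Set.range U.ι
    rw [Scheme.Opens.range_ι]
    exact hxU
  refine (AlgSp.etTop X.obj).superset_covering ?_ hcov
  rw [Sieve.ofArrows, Sieve.generate_le_iff, Presieve.ofArrows_le_iff]
  intro U
  let EU : AlgSp.EtOver X.obj := Y U
  haveI hUaff : IsAffine EU.obj.left.left := U.2
  let πU : (AlgSp.EtOver.bcObj hi.1 EU).obj.left.left ⟶ EU.obj.left.left :=
    (AlgSp.EtOver.bcπ hi.1 EU).left
  haveI : IsClosedImmersion πU := hi.2 _ _ _ (AlgSp.EtOver.isPullback_bcObj hi.1 EU)
  let s' : ULift.{u + 1} Γ((AlgSp.EtOver.bcObj hi.1 E).obj.left.left, ⊤) := s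
  let r : Γ((AlgSp.EtOver.bcObj hi.1 EU).obj.left.left, ⊤) :=
    (AlgSp.EtOver.bcMap hi.1 (g U)).hom.left.left.appTop.hom s'.down
  obtain ⟨t₀, ht₀⟩ := (IsClosedImmersion.isAffine_surjective_of_isAffine πU).2 r
  refine ⟨(ULift.up t₀ : ULift.{u + 1} Γ(EU.obj.left.left, ⊤)), ?_⟩
  exact ULift.ext _ _ ht₀

end Groth.Agent.S9987
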