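import Groth.Statements.S9997
import Mathlib
import Groth.Agent.Lib.Helper8ClosedLfp
import Groth.Agent.Lib.Helper8CutOut
import Groth.Agent.Lib.H5bFibChart

set_option autoImplicit false
universe u
open CategoryTheory CategoryTheory.Limits AlgebraicGeometry Opposite
open AlgSp

namespace Groth.Agent.S9997

/-- A closed immersion i : Z ⟶ X of algebraic spaces is (locally) of finite presentation if and only if
its sheaf of ideals is of finite type; finite type is rendered chart by chart, as finite generation
of the kernel ideal Ker(Γ(U, O_U) → Γ(Z ×_X U, O)) for every affine etale chart U of X (for a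
quasi-coherent sheaf of ideals the two readings agree by descent of finite generation along etale
coverings). -/
theorem result {S : Scheme.{u}} {Z X : AlgSp.Space S} (i : Z ⟶ X)
    (hi : AlgSp.RepWith @IsClosedImmersion i.hom) :
    AlgSp.LocP @LocallyOfFinitePresentation i.hom ↔
      ∀ (E : AlgSp.EtOver X.obj) (hE : IsAffine E.obj.left.left), ((AlgSp.idealOfRep hi.1).ideal E hE).FG := by
  constructor
  · intro hlfp E hE
    obtain ⟨W, snd, fst, sq⟩ := hi.1 E.obj.hom
    haveI : IsClosedImmersion snd.left := hi.2 _ _ snd sq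
    have hfst : AlgSp.RepWith @Etale fst :=
      (AlgSp.repWith_isStableUnderBaseChange (S := S) @Etale).of_isPullback sq.flip E.property
    haveI : LocallyOfFinitePresentation snd.left := hlfp fst E.obj.hom snd hfst E.property sq.w
    haveI : IsAffine E.obj.left.left := hE
    have hfg := Groth.Agent.Lib.Helper8ClosedLfp.ker_appTop_fg snd.left
    have e := Groth.Agent.Lib.Helper8CutOut.idealOfRep_ideal_eq_ker hi.1 E.obj.hom E.property sq hE
    change ((AlgSp.idealOfRep hi.1).ideal (AlgSp.EtOver.mk E.obj.hom E.property) hE).FG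
    rw [e]
    exact hfg
  · intro H U V a b h ha hb hcomm
    obtain ⟨ZV, sndV, fstV, sqV⟩ := hi.1 b
    haveI hcl : IsClosedImmersion sndV.left := hi.2 _ _ sndV sqV
    have hfstV : AlgSp.RepWith @Etale fstV :=
      (AlgSp.repWith_isStableUnderBaseChange (S := S) @Etale).of_isPullback sqV.flip hb
    obtain ⟨g0, hg0⟩ := (AlgSp.yon S).map_surjective (sqV.lift a ((AlgSp.yon S).map h) hcomm)
    have hg1 : (AlgSp.yon S).map g0 ≫ fstV = a := by rw [hg0]; exact sqV.lift_fst _ _ _
    have hg2 : g0 ≫ sndV = h := by
      apply (AlgSp.yon S).map_injective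
      rw [Functor.map_comp, hg0]; exact sqV.lift_snd _ _ _
    have hg0e : AlgSp.RepWith @Etale ((AlgSp.yon S).map g0) :=
      Groth.Agent.Lib.H5bFibChart.repWith_etale_of_comp (AlgSp.IsAlgSpace.yon_obj ZV) _ fstV hfstV
        (by rw [hg1]; exact ha)
    haveI : Etale g0.left := (AlgSp.repWith_yon_map_iff _ _).1 hg0e
    have key : ∀ (W' : V.left.Opens) (hW' : IsAffineOpen W') (U' : V.left.Opens)
        (hU' : IsAffineOpen U'), W' = U'.ι ''ᵁ ⊤ → (sndV.left.ker.ideal ⟨W', hW'⟩).FG := by
      intro W' hW' U' hU' e
      subst e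
      rw [Groth.Agent.Lib.Helper8CutOut.ker_ideal_eq hi hb sqV U' hU' hW']
      exact H (Groth.Agent.Lib.Helper8CutOut.chartOpen b hb U') hU'
    haveI : LocallyOfFinitePresentation sndV.left :=
      Groth.Agent.Lib.Helper8ClosedLfp.locallyOfFinitePresentation_of_ker_fg sndV.left
        (fun W => key W.1 W.2 W.1 W.2 (Scheme.Opens.ι_image_top _).symm)
    have hfac : h.left = g0.left ≫ sndV.left := by rw [← hg2]; rfl
    rw [hfac]
    infer_instance

end Groth.Agent.S9997
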